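import Groth.Statements.S16611
import Groth.Agent.S5275
import Groth.Agent.SgaFix20.DSImmersion
import Groth.Agent.GrpSchLib.RankOneNonComm

set_option autoImplicit false
open CategoryTheory MonoidalCategory CartesianMonoidalCategory MonObj GrpObj AlgebraicGeometry
universe u
open SGA3x

namespace Groth.Agent.S16611

open CategoryTheory.Limits

set_option backward.isDefEq.respectTransparency false
set_option linter.style.haveILetI false
set_option synthInstance.maxHeartbeats 200000

/-- A surjective endomorphism of a Noetherian ring is injective. -/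
theorem injective_of_surjective {A : Type*} [CommRing A] [IsNoetherianRing A] (φ : A →+* A)
    (h : Function.Surjective φ) : Function.Injective φ := by
  let F : ℕ →o Ideal A := ⟨fun n => RingHom.ker (φ ^ n), monotone_nat_of_le_succ fun n x hx => by
    rw [RingHom.mem_ker] at hx ⊢
    rw [pow_succ', RingHom.mul_def, RingHom.comp_apply, hx, map_zero]⟩
  obtain ⟨n, hn⟩ := monotone_stabilizes_iff_noetherian.mpr inferInstance F
  rw [injective_iff_map_eq_zero]
  intro x hx
  have hsurj : ∀ k, Function.Surjective ⇑(φ ^ k) := by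
    intro k
    induction k with
    | zero => exact fun y => ⟨y, rfl⟩
    | succ k ih => rw [pow_succ', RingHom.mul_def]; exact h.comp ih
  obtain ⟨y, rfl⟩ := hsurj n x
  have h1 : y ∈ F (n + 1) := by
    show y ∈ RingHom.ker (φ ^ (n + 1))
    rw [RingHom.mem_ker, pow_succ', RingHom.mul_def, RingHom.comp_apply, hx]
  rw [← hn (n + 1) (Nat.le_succ n)] at h1
  exact h1

/-- A closed immersion of an affine Noetherian scheme into an isomorphic one is an isomorphism. -/
theorem isIso_of_isClosedImmersion {X : Scheme.{u}} [IsAffine X] [IsNoetherianRing Γ(X, ⊤)] (i : X ⟶ X)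
    [IsClosedImmersion i] : IsIso i := by
  exact IsClosedImmersion.isIso_of_injective_of_isAffine
    (injective_of_surjective i.appTop.hom (IsClosedImmersion.isAffine_surjective_of_isAffine i).2)

/-- A monomorphism of split tori of the same rank over a field is an isomorphism. -/
theorem isIso_of_split {K : Type u} [Field K] {r : ℕ} {A B : Over (Spec (CommRingCat.of K))} [GrpObj A] [GrpObj B]
    (eA : Red.IsSplitTorusWith (Fin r → ℤ) A) (eB : Red.IsSplitTorusWith (Fin r → ℤ) B) (v : A ⟶ B) [IsMonHom v]
    [Mono v] : IsIso v.left := by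
  obtain ⟨a⟩ := eA
  obtain ⟨b⟩ := eB
  let ai : A ≅ Red.DS _ (Fin r → ℤ) := ⟨a.hom.hom.hom, a.inv.hom.hom, congrArg (fun h => h.hom.hom) a.hom_inv_id,
    congrArg (fun h => h.hom.hom) a.inv_hom_id⟩
  let bi : B ≅ Red.DS _ (Fin r → ℤ) := ⟨b.hom.hom.hom, b.inv.hom.hom, congrArg (fun h => h.hom.hom) b.hom_inv_id,
    congrArg (fun h => h.hom.hom) b.inv_hom_id⟩
  haveI : IsMonHom ai.inv := a.inv.hom.isMonHom_hom
  haveI : IsMonHom bi.hom := b.hom.hom.isMonHom_hom
  let w : Red.DS (Spec (CommRingCat.of K)) (Fin r → ℤ) ⟶ Red.DS (Spec (CommRingCat.of K)) (Fin r → ℤ) :=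
    ai.inv ≫ v ≫ bi.hom
  haveI : IsMonHom w := inferInstanceAs (IsMonHom (ai.inv ≫ v ≫ bi.hom))
  haveI : Mono w := mono_comp _ _
  let X := Red.DS (Spec (CommRingCat.of K)) (Fin r → ℤ)
  haveI : IsAffineHom X.hom := SgaFix20.DSImmersion.isAffineHom_DS _ _
  haveI : LocallyOfFiniteType X.hom :=
    GrpSchLib.MultTypeLft.lft ⟨_, 𝟙 _, inferInstance, inferInstance, fun V hV => ⟨V, hV.isCompact, by simp⟩,
      fun s => ⟨⊤, trivial, Fin r → ℤ, inferInstance, inferInstance, GrpSchLib.MultTypeBC.bc_DS _ _⟩⟩
  haveI : IsAffine X.left := isAffine_of_isAffineHom X.hom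
  haveI : IsNoetherianRing Γ(X.left, ⊤) := by
    haveI := LocallyOfFiniteType.isLocallyNoetherian X.hom
    exact IsLocallyNoetherian.component_noetherian ⟨⊤, isAffineOpen_top _⟩
  haveI := SgaFix20.DSImmersion.isClosedImmersion_of_mono w
  haveI : IsIso w.left := isIso_of_isClosedImmersion w.left
  haveI : IsIso ((Over.forget _).map w) := ‹IsIso w.left›
  haveI : IsIso w := isIso_of_reflects_iso w (Over.forget _)
  haveI : IsIso v := by
    rw [show v = ai.hom ≫ w ≫ bi.inv by simp [w]]
    infer_instance
  exact (inferInstance : IsIso ((Over.forget _).map v))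

/-- Over an arbitrary scheme S, a monomorphism f : T ⟶ T' of S-tori with the same rank function (at
every point of S the geometric fibres of T and T' are split tori of the same rank) is an
isomorphism. -/
theorem result {S : Scheme.{u}} {T T' : Over S} [GrpObj T] [GrpObj T']
    (hT : Red.IsTorus T) (hT' : Red.IsTorus T') (f : T ⟶ T') [IsMonHom f] [Mono f]
    (hrk : ∀ s : ↥S, ∃ r : ℕ, Red.IsSplitTorusWith (Fin r → ℤ) (Red.geomFibre s T) ∧
      Red.IsSplitTorusWith (Fin r → ℤ) (Red.geomFibre s T')) : IsIso f := by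
  obtain ⟨U, -, hU, hiso⟩ := S5275.result T T' (GrpSchLib.RankOne.isMultTypeFT_of_isTorus hT)
    (GrpSchLib.RankOne.isMultTypeFT_of_isTorus hT') f
  haveI : IsAffineHom T.hom :=
    (TransLib.multTypeFT_essFree (GrpSchLib.RankOne.isMultTypeFT_of_isTorus hT)).1
  haveI : IsAffineHom T'.hom :=
    (TransLib.multTypeFT_essFree (GrpSchLib.RankOne.isMultTypeFT_of_isTorus hT')).1
  have htop : U = ⊤ := eq_top_iff.mpr fun s _ => by
    rw [hU]
    obtain ⟨r, h1, h2⟩ := hrk s
    let g := S.fromSpecResidueField s
    haveI : Mono f.left := Over.mono_left_of_mono f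
    haveI : (Over.pullback g).PreservesMonomorphisms :=
      Functor.preservesMonomorphisms_of_adjunction (Over.mapPullbackAdj g)
    haveI : (Over.pullback (Red.geomPt s)).PreservesMonomorphisms :=
      Functor.preservesMonomorphisms_of_adjunction (Over.mapPullbackAdj (Red.geomPt s))
    haveI : IsMonHom ((Over.pullback (Red.geomPt s)).map f) := inferInstance
    haveI : IsIso ((Over.pullback (Red.geomPt s)).map f).left :=
      isIso_of_split h1 h2 ((Over.pullback (Red.geomPt s)).map f)
    let l : Spec (CommRingCat.of (AlgebraicClosure (S.residueField s))) ⟶ Spec (S.residueField s) :=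
      Spec.map (CommRingCat.ofHom (algebraMap (S.residueField s) (AlgebraicClosure (S.residueField s))))
    haveI : Surjective l := ⟨fun x =>
      ⟨(⟨⊥, Ideal.bot_prime⟩ : PrimeSpectrum (AlgebraicClosure (S.residueField s))),
        Subsingleton.elim (α := PrimeSpectrum (S.residueField s)) _ x⟩⟩
    haveI : Flat l := by
      rw [HasRingHomProperty.Spec_iff (P := @Flat)]
      show RingHom.Flat (algebraMap _ _)
      rw [RingHom.flat_algebraMap_iff]
      infer_instance
    obtain ⟨h3, h4⟩ : GrpSchLib.HomSplitLocal.Ff f g :=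
      GrpSchLib.HomSplitLocal.Ff.of_flat_surjective l ⟨inferInstanceAs (Flat ((Over.pullback (Red.geomPt s)).map f).left),
        inferInstanceAs (Surjective ((Over.pullback (Red.geomPt s)).map f).left)⟩
    haveI := h3
    haveI := h4
    haveI : Mono ((Over.pullback g).map f) := inferInstance
    haveI : Mono ((Over.pullback g).map f).left := Over.mono_left_of_mono _
    haveI : QuasiCompact ((Over.pullback g).obj T).hom := inferInstanceAs (QuasiCompact (pullback.snd T.hom g))
    haveI : QuasiSeparated ((Over.pullback g).obj T').hom := inferInstanceAs (QuasiSeparated (pullback.snd T'.hom g))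
    haveI : QuasiCompact (((Over.pullback g).map f).left ≫ ((Over.pullback g).obj T').hom) := by
      rw [Over.w]
      infer_instance
    haveI : QuasiCompact ((Over.pullback g).map f).left := QuasiCompact.of_comp _ ((Over.pullback g).obj T').hom
    exact Flat.isIso_of_surjective_of_mono _
  subst htop
  haveI := hiso
  haveI : IsIso (⊤ : S.Opens).ι := inferInstanceAs (IsIso S.topIso.hom)
  haveI : IsIso f.left := by
    rw [show f.left = inv (pullback.fst T.hom (⊤ : S.Opens).ι) ≫ ((Over.pullback (⊤ : S.Opens).ι).map f).left ≫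
      pullback.fst T'.hom (⊤ : S.Opens).ι by
        rw [← (GrpSchLib.HomSplitLocal.isPullback_map f (⊤ : S.Opens).ι).w, IsIso.inv_hom_id_assoc]]
    infer_instance
  haveI : IsIso ((Over.forget S).map f) := ‹IsIso f.left›
  exact isIso_of_reflects_iso f (Over.forget S)

end Groth.Agent.S16611
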