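import Groth.Statements.S3006
import Groth.Agent.SecGerm.Locus
import Groth.Agent.MaxTorusLib.TorusSmooth
import Groth.Agent.MaxTorusLib.Basic
import Groth.Agent.SgaFix20.Centralizer
import Groth.Agent.MultDefLib.SubgroupTransp

set_option backward.isDefEq.respectTransparency false
set_option linter.style.haveILetI false

set_option autoImplicit false
universe u
open CategoryTheory MonoidalCategory CartesianMonoidalCategory MonObj GrpObj AlgebraicGeometry
open Red

namespace Groth.Agent.S3006

/-- Let S be a scheme, G an S-group scheme smooth and of finite presentation over S, and q : Q → G a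
closed subgroup scheme which is a torus. Then the centralizer and the normalizer of Q in G exist as
closed subgroup schemes of G (characterized on points as in `Red.IsCentralizerOf` /
`Red.IsNormalizerOf`) and are smooth over S. -/
theorem result (S : Scheme.{u}) (G Q : Over S) [GrpObj G] [GrpObj Q] [Smooth G.hom] [LocallyOfFinitePresentation G.hom] [QuasiCompact G.hom] [QuasiSeparated G.hom] (q : Q ⟶ G) [IsMonHom q] (hq : IsClosedImmersion q.left) (hQ : Red.IsTorus Q) : (∃ (Z : Over S) (_ : GrpObj Z) (z : Z ⟶ G), Red.IsCentralizerOf q z ∧ IsClosedImmersion z.left ∧ Smooth Z.hom) ∧ ∃ (N : Over S) (_ : GrpObj N) (n : N ⟶ G), Red.IsNormalizerOf q n ∧ IsClosedImmersion n.left ∧ Smooth N.hom := by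
  haveI := hq
  haveI : Mono q := Over.mono_of_mono_left q
  haveI := MaxTorusLib.smooth_torus hQ
  haveI := MaxTorusLib.geometricallyConnected_torus hQ
  haveI : IsAffineHom Q.hom :=
    (TransLib.multTypeFT_essFree (GrpSchLib.RankOne.isMultTypeFT_of_isTorus hQ)).1
  have hM := GrpSchLib.RankOne.isMultTypeFT_of_isTorus hQ
  refine ⟨?_, ?_⟩
  · obtain ⟨Z, iZ, z, hz, hc, hfp⟩ := SecGerm.exists_centralizer q
    refine ⟨Z, iZ, z, hz, hc, ?_⟩
    haveI := hc
    haveI := hfp
    have key := hz.2.2
    have hF : ∀ (T : Over S) (x : T ⟶ G), (∃ y : T.left ⟶ Z.left, y ≫ z.left = x.left) ↔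
        ∀ (T' : Over S) (t : T' ⟶ T) (h : T' ⟶ Q), lift h (t ≫ x) ≫ (SgaFix20.conjAction q).act = t ≫ x := by
      intro T x
      have h1 : (∃ y : T.left ⟶ Z.left, y ≫ z.left = x.left) ↔ ∃ y : T ⟶ Z, y ≫ z = x :=
        ⟨fun ⟨y, hy⟩ => ⟨Over.homMk y (by rw [← Over.w z, ← Category.assoc, hy, Over.w x]), Over.OverMorphism.ext hy⟩,
          fun ⟨y, hy⟩ => ⟨y.left, congrArg CommaMorphism.left hy⟩⟩
      rw [h1, key]
      refine forall_congr' fun T' => forall_congr' fun t => forall_congr' fun h => ?_
      rw [SgaFix20.conjAction_act, mul_inv_eq_iff_eq_mul]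
      exact eq_comm
    haveI : LocallyOfFinitePresentation (z.left ≫ G.hom) := inferInstance
    have := SgaFix20.smooth_fixed (MaxTorusLib.locally_of_isMultTypeFT hM) (SgaFix20.conjAction q) z.left hF
    rwa [Over.w z] at this
  · obtain ⟨N, iN, n, hn, hc, hfp⟩ := SecGerm.exists_normalizer q
    refine ⟨N, iN, n, hn, hc, ?_⟩
    haveI := hc
    haveI := hfp
    exact MultDefLib.smooth_subTransporter hM hM q q n fun X g => (hn.2.2 X g).trans
      ⟨fun h X' x => ⟨fun k => (h X' x k).1, fun k => (h X' x k).2⟩,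
        fun h X' x k => ⟨(h X' x).1 k, (h X' x).2 k⟩⟩

end Groth.Agent.S3006
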