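import Groth.Statements.S0033
import Groth.Agent.CohCore23.RpushBC

set_option autoImplicit false
universe u
open Coherent

namespace Groth.Agent.S0033

open AlgebraicGeometry CategoryTheory in
/-- For a cartesian square with f : X → S quasi-compact quasi-separated and g : S' → S flat, and F
quasi-coherent on X, the pullback g^* R^i f_* F is isomorphic to R^i f'_* (g'^* F). Only the
existence of an isomorphism is asserted (the published statement asserts that the base change map is
an isomorphism). -/
theorem result {X S X' S' : Scheme.{u}} (f : X ⟶ S) (g : S' ⟶ S)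
    (g' : X' ⟶ X) (f' : X' ⟶ S') (h : IsPullback g' f' f g) [QuasiCompact f] [QuasiSeparated f]
    [Flat g] [HasInjectiveResolutions X.Modules] [HasInjectiveResolutions X'.Modules]
    (M : X.Modules) [Coh.IsQCoh M] (i : ℕ) :
    Nonempty ((Scheme.Modules.pullback g).obj ((Coh.Rpush f i).obj M) ≅
      (Coh.Rpush f' i).obj ((Scheme.Modules.pullback g').obj M)) := by
  haveI := SpObjSS.enoughInjectives_of_hasInjectiveResolutions (C := X.Modules)
  haveI := SpObjSS.enoughInjectives_of_hasInjectiveResolutions (C := X'.Modules)
  haveI := QCoh.preservesFiniteLimits_push f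
  haveI := QCoh.preservesFiniteLimits_push f'
  haveI : QuasiCompact f' := MorphismProperty.of_isPullback h inferInstance
  haveI : QuasiSeparated f' := MorphismProperty.of_isPullback h inferInstance
  cases i with
  | zero =>
    have hβ := Groth.Agent.CohCore23.BC.isIso_baseChangeMap h (M := M) ‹_› _ rfl
    refine ⟨(Scheme.Modules.pullback g).mapIso ((Scheme.Modules.pushforward f).rightDerivedZeroIsoSelf.app M) ≪≫
      @asIso _ _ _ _ _ hβ ≪≫
      ((Scheme.Modules.pushforward f').rightDerivedZeroIsoSelf.app ((Scheme.Modules.pullback g').obj M)).symm⟩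
  | succ q =>
    obtain ⟨e⟩ := QCoh.nonempty_Rpush_iso f M q
    obtain ⟨e'⟩ := QCoh.nonempty_Rpush_iso f' ((Scheme.Modules.pullback g').obj M) q
    haveI := Groth.Agent.CohCore23.RBC.isIso_transpose h (M := M) ‹_› q
    exact ⟨(Scheme.Modules.pullback g).mapIso e ≪≫
      asIso (((Scheme.Modules.pullbackPushforwardAdjunction g).homEquiv _ _).symm
        (Groth.Agent.CohCore23.RBC.μ h M q)) ≪≫ e'.symm⟩

end Groth.Agent.S0033
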