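import Groth.Statements.S1417
import Groth.Agent.FlatFibres.SmallExtLift

set_option autoImplicit false
universe u
open FlatMor

namespace Groth.Agent.S1417

open AlgebraicGeometry CategoryTheory Limits in
/-- Let S be locally Noetherian and f : X → S locally of finite type. Then f is smooth if and only if
for every small extension B' → B of Artinian local rings (a surjection whose kernel is generated by
one element annihilated by the maximal ideal), every morphism Spec B → X and every morphism Spec B'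
→ S locally of finite type making the square commute, there is a lift Spec B' → X. -/
theorem result {X S : Scheme.{u}} (f : X ⟶ S) [IsLocallyNoetherian S] [LocallyOfFiniteType f] :
    Smooth f ↔ ∀ (B B' : Type u) [CommRing B] [CommRing B'] [IsArtinianRing B] [IsArtinianRing B'] [IsLocalRing B] [IsLocalRing B']
      (φ : B' →+* B) (ε : B'), Function.Surjective φ → RingHom.ker φ = Ideal.span {ε} → (∀ m ∈ IsLocalRing.maximalIdeal B', ε * m = 0) →
      ∀ (α : Spec (CommRingCat.of B) ⟶ X) (β : Spec (CommRingCat.of B') ⟶ S), LocallyOfFiniteType β →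
        Spec.map (CommRingCat.ofHom φ) ≫ β = α ≫ f →
        ∃ γ : Spec (CommRingCat.of B') ⟶ X, Spec.map (CommRingCat.ofHom φ) ≫ γ = α ∧ γ ≫ f = β := by
  have hsub : ∀ (B : Type u) [CommRing B] [IsArtinianRing B] [IsLocalRing B],
      Subsingleton (Spec (CommRingCat.of B)) := fun B _ _ _ => ⟨fun (x y : PrimeSpectrum B) => PrimeSpectrum.ext <|
    (IsLocalRing.eq_maximalIdeal (IsArtinianRing.isMaximal_of_isPrime x.asIdeal)).trans
      (IsLocalRing.eq_maximalIdeal (IsArtinianRing.isMaximal_of_isPrime y.asIdeal)).symm⟩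
  constructor
  · intro hf B B' _ _ _ _ _ _ φ ε hφ hker hε α β _ w
    haveI := hsub B
    haveI := hsub B'
    obtain ⟨b₀⟩ : Nonempty (Spec (CommRingCat.of B)) := ⟨IsLocalRing.closedPoint B⟩
    obtain ⟨U, hU, hxU, -⟩ := exists_isAffineOpen_mem_and_subset (U := (⊤ : S.Opens)) (x := f (α b₀)) trivial
    obtain ⟨V, hV, hxV, hVU⟩ := exists_isAffineOpen_mem_and_subset (U := f ⁻¹ᵁ U) (x := α b₀) hxU
    have hα : Set.range α ⊆ Set.range hV.fromSpec := by
      rw [hV.range_fromSpec]; rintro _ ⟨b, rfl⟩; rw [Subsingleton.elim b b₀]; exact hxV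
    have hβ : Set.range β ⊆ Set.range hU.fromSpec := by
      rw [hU.range_fromSpec]; rintro _ ⟨b, rfl⟩
      rw [Subsingleton.elim b ((Spec.map (CommRingCat.ofHom φ)) b₀), ← Scheme.Hom.comp_apply, w, Scheme.Hom.comp_apply]
      exact hxU
    obtain ⟨s, hs⟩ := Spec.map_surjective (IsOpenImmersion.lift hV.fromSpec α hα)
    obtain ⟨r, hr⟩ := Spec.map_surjective (IsOpenImmersion.lift hU.fromSpec β hβ)
    have hs' : Spec.map s ≫ hV.fromSpec = α := by rw [hs, IsOpenImmersion.lift_fac]
    have hr' : Spec.map r ≫ hU.fromSpec = β := by rw [hr, IsOpenImmersion.lift_fac]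
    have hsq : r ≫ CommRingCat.ofHom φ = f.appLE U V hVU ≫ s := by
      apply Spec.map_injective
      rw [← cancel_mono hU.fromSpec]
      simp only [Spec.map_comp, Category.assoc, IsAffineOpen.SpecMap_appLE_fromSpec f hU hV hVU]
      rw [hr', ← Category.assoc, hs', w]
    algebraize [(f.appLE U V hVU).hom]
    haveI : Algebra.Smooth Γ(S, U) Γ(X, V) := f.smooth_appLE hU hV hVU
    letI : Algebra Γ(S, U) B' := r.hom.toAlgebra
    letI : Algebra Γ(S, U) B := (φ.comp r.hom).toAlgebra
    let π : B' →ₐ[Γ(S, U)] B := { toRingHom := φ, commutes' := fun _ => rfl }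
    let g : Γ(X, V) →ₐ[Γ(S, U)] B :=
      { toRingHom := s.hom, commutes' := fun a => (congr($(hsq).hom a)).symm }
    have hnil : IsNilpotent (RingHom.ker (π : B' →+* B)) := by
      refine ⟨2, ?_⟩
      show RingHom.ker φ ^ 2 = ⊥
      rw [hker, Ideal.span_singleton_pow, Ideal.span_singleton_eq_bot, sq]
      refine hε ε ((IsLocalRing.mem_maximalIdeal _).mpr fun hu => ?_)
      have h0 : φ ε = 0 := by rw [← RingHom.mem_ker, hker]; exact Ideal.mem_span_singleton_self ε
      exact not_isUnit_zero (h0 ▸ hu.map φ)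
    let χ := Algebra.FormallySmooth.liftOfSurjective g π hφ hnil
    have hχ : π.comp χ = g := Algebra.FormallySmooth.comp_liftOfSurjective g π hφ hnil
    refine ⟨Spec.map (CommRingCat.ofHom χ.toRingHom) ≫ hV.fromSpec, ?_, ?_⟩
    · rw [← Category.assoc, ← Spec.map_comp, ← hs']
      congr 2
      exact CommRingCat.hom_ext (RingHom.ext fun a => AlgHom.congr_fun hχ a)
    · rw [Category.assoc, ← IsAffineOpen.SpecMap_appLE_fromSpec f hU hV hVU, ← Category.assoc, ← Spec.map_comp, ← hr']
      congr 2
      exact CommRingCat.hom_ext (RingHom.ext fun a => χ.commutes a)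
  · intro h
    refine ⟨fun {U} hU {V} hV e => ?_⟩
    haveI : IsNoetherianRing Γ(S, U) := IsLocallyNoetherian.component_noetherian ⟨U, hU⟩
    algebraize [(f.appLE U V e).hom]
    haveI : Algebra.FiniteType Γ(S, U) Γ(X, V) := f.finiteType_appLE hU hV e
    suffices Algebra.Smooth Γ(S, U) Γ(X, V) from this
    refine FlatFibres.smooth_of_smallExt fun B B' _ _ _ _ _ _ _ _ _ φ ε hφ hker hε g => ?_
    haveI := hsub B
    haveI := hsub B'
    let α : Spec (CommRingCat.of B) ⟶ X := Spec.map (CommRingCat.ofHom g.toRingHom) ≫ hV.fromSpec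
    let β : Spec (CommRingCat.of B') ⟶ S := Spec.map (CommRingCat.ofHom (algebraMap Γ(S, U) B')) ≫ hU.fromSpec
    haveI : LocallyOfFiniteType (Spec.map (CommRingCat.ofHom (algebraMap Γ(S, U) B'))) :=
      HasRingHomProperty.Spec_iff.mpr (RingHom.finiteType_algebraMap.mpr inferInstance)
    have hw : Spec.map (CommRingCat.ofHom φ.toRingHom) ≫ β = α ≫ f := by
      simp only [α, β, Category.assoc, ← IsAffineOpen.SpecMap_appLE_fromSpec f hU hV e]
      simp only [← Category.assoc, ← Spec.map_comp]
      congr 2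
      exact CommRingCat.hom_ext (RingHom.ext fun a => (φ.commutes a).trans (g.commutes a).symm)
    obtain ⟨γ, hγ₁, hγ₂⟩ := h B B' φ.toRingHom ε hφ hker hε α β inferInstance hw
    obtain ⟨b₀⟩ : Nonempty (Spec (CommRingCat.of B)) := ⟨IsLocalRing.closedPoint B⟩
    have hγ : Set.range γ ⊆ Set.range hV.fromSpec := by
      rintro _ ⟨b, rfl⟩
      rw [Subsingleton.elim b ((Spec.map (CommRingCat.ofHom φ.toRingHom)) b₀), ← Scheme.Hom.comp_apply, hγ₁]
      exact ⟨_, rfl⟩
    obtain ⟨c, hc⟩ := Spec.map_surjective (IsOpenImmersion.lift hV.fromSpec γ hγ)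
    have hc' : Spec.map c ≫ hV.fromSpec = γ := by rw [hc, IsOpenImmersion.lift_fac]
    have h1 : c ≫ CommRingCat.ofHom φ.toRingHom = CommRingCat.ofHom g.toRingHom := by
      apply Spec.map_injective
      rw [← cancel_mono hV.fromSpec, Spec.map_comp, Category.assoc, hc', hγ₁]
    have h2 : f.appLE U V e ≫ c = CommRingCat.ofHom (algebraMap Γ(S, U) B') := by
      apply Spec.map_injective
      rw [← cancel_mono hU.fromSpec, Spec.map_comp, Category.assoc,
        IsAffineOpen.SpecMap_appLE_fromSpec f hU hV e, ← Category.assoc, hc', hγ₂]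
    exact ⟨{ toRingHom := c.hom, commutes' := fun a => congr($(h2).hom a) },
      AlgHom.ext fun a => congr($(h1).hom a)⟩

end Groth.Agent.S1417
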