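import Groth.Statements.S3624
import Groth.Agent.Dual3Lib.GorMor

set_option autoImplicit false
set_option backward.isDefEq.respectTransparency false
set_option backward.isDefEq.respectTransparency.types false
universe u
open CategoryTheory CategoryTheory.Limits AlgebraicGeometry
attribute [local instance] HasDerivedCategory.standard
open Dual3

namespace Groth.Agent.S3624

/-- Let f : X → Y be a flat morphism of locally Noetherian schemes with X Gorenstein. Then f is a
Gorenstein morphism (flat with Gorenstein local rings of fibres at every point) and the local ring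
O_{Y, f(x)} is Gorenstein for every point x of X. -/
theorem result (X Y : Scheme.{u}) [IsLocallyNoetherian Y] (f : X ⟶ Y) [Flat f] (hX : Dual3.IsGorenstein X) : Dual3.IsGorensteinMor f ∧ ∀ x : X, LocCoh.IsGorensteinLocalRing (Y.presheaf.stalk (f x)) := by
  have key : ∀ x : X, Dual3.IsGorensteinAt f x ∧
      LocCoh.IsGorensteinLocalRing (Y.presheaf.stalk (f x)) := fun x => by
    letI : Algebra (Y.presheaf.stalk (f x)) (X.presheaf.stalk x) := (f.stalkMap x).hom.toAlgebra
    haveI : IsLocalHom (algebraMap (Y.presheaf.stalk (f x)) (X.presheaf.stalk x)) :=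
      inferInstanceAs (IsLocalHom (f.stalkMap x).hom)
    haveI : Module.Flat (Y.presheaf.stalk (f x)) (X.presheaf.stalk x) := Flat.stalkMap f x
    haveI := hX.1
    haveI : IsNoetherianRing (X.presheaf.stalk x) := inferInstance
    haveI : IsNoetherianRing (Y.presheaf.stalk (f x)) := inferInstance
    obtain ⟨hY, hF⟩ := (Dual3Lib.isGor_iff (Y.presheaf.stalk (f x)) (X.presheaf.stalk x)).1 (hX.2 x)
    exact ⟨⟨Flat.stalkMap f x,
      (Dual3Lib.isGor_congr (Triage.CMMor.exists_equiv_fibre_stalk f x).some).1 hF⟩, hY⟩
  exact ⟨fun x => (key x).1, fun x => (key x).2⟩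

end Groth.Agent.S3624
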