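import Groth.Statements.S18844
import Groth.Agent.BunLib68.TF.Scalar
-- import your own Groth.Agent.* helpers here

set_option autoImplicit false
universe u
open CategoryTheory CategoryTheory.Limits AlgebraicGeometry
open TFOne

namespace Groth.Agent.S18844

set_option linter.style.haveILetI false
set_option linter.unusedVariables false
open Groth.Agent Groth.Agent.BunLib68.TF

/-- Let X be a proper, geometrically reduced scheme of pure dimension one over a field k whose
irreducible components (with their reduced structure) are geometrically integral over k, assume X is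
non-empty, and take a torsion-free sheaf I of rank one on X. Then I is simple over k (every
endomorphism of I is multiplication by a scalar) exactly when I is not decomposable, that is, when
there do not exist closed proper subcurves Y and Z of X (non-empty unions of irreducible components,
each different from X) together with the torsion-free quotients I_Y, I_Z of I on them (pinned by
their defining property) such that the canonical map I ⟶ I_Y ⊞ I_Z is an isomorphism. -/
theorem result (k : Type u) [Field k] (X : Scheme.{u}) [X.Over (Spec (CommRingCat.of k))] [IsProper (X ↘ Spec (CommRingCat.of k))] [IsReduced X] [GeometricallyReduced (X ↘ Spec (CommRingCat.of k))] (hpure : ∀ C ∈ irreducibleComponents (X : Type u), topologicalKrullDim C = 1) (hgi : ∀ (C : Set X) (hC : C ∈ irreducibleComponents (X : Type u)), GeometricallyIntegral (VecSt.subschι X C (isClosed_of_mem_irreducibleComponents C hC) ≫ (X ↘ Spec (CommRingCat.of k)))) [Nonempty X] (I : X.Modules) (hI : TFOne.IsTF1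 X I) : TFOne.IsSimple X k (X ↘ Spec (CommRingCat.of k)) I ↔ ¬ ∃ (Y Z : Set X) (hY : IsClosed Y) (hZ : IsClosed Z) (GY GZ : X.Modules) (πY : I ⟶ GY) (πZ : I ⟶ GZ), VecSt.IsSubcurve X Y ∧ VecSt.IsSubcurve X Z ∧ Y ≠ Set.univ ∧ Z ≠ Set.univ ∧ TFOne.IsQuotOn X I Y GY πY ∧ TFOne.IsQuotOn X I Z GZ πZ ∧ IsIso (biprod.lift πY πZ) := by
  haveI := CurveCohLib.isNoetherian_of_proper (k := k) (X := X)
  constructor
  · rintro hs ⟨Y, Z, hY, hZ, GY, GZ, πY, πZ, hYs, hZs, hYn, -, hGY, hGZ, hiso⟩
    haveI := hiso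
    let e : I ⟶ I := πY ≫ biprod.inl ≫ inv (biprod.lift πY πZ)
    have he : e ≫ πY = πY := by
      have h1 : inv (biprod.lift πY πZ) ≫ πY = biprod.fst := by
        rw [IsIso.inv_comp_eq, biprod.lift_fst]
      rw [Category.assoc, Category.assoc, h1, biprod.inl_fst, Category.comp_id]
    obtain ⟨c, hc⟩ := hs.2 e
    obtain ⟨η₁, hη₁, hm₁⟩ := (isSubcurve_eq_compUnion hY hYs).2
    obtain ⟨η₂, hη₂, hm₂⟩ : ∃ η, IsGen η ∧ η ∉ Y := by
      by_contra hh
      exact hYn (eq_univ_of_forall_gen hY fun η hη => not_not.1 fun hn => hh ⟨η, hη, hn⟩)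
    haveI := nontrivial_stalk hI.2.2 hη₁
    haveI := nontrivial_stalk hI.2.2 hη₂
    obtain ⟨v₁, hv₁⟩ := exists_ne (0 : I.presheaf.stalk η₁)
    obtain ⟨v₂, hv₂⟩ := exists_ne (0 : I.presheaf.stalk η₂)
    have hsm : ∀ η v, sm e η v = rho k η c • v := fun η v => by rw [hc]; exact sm_smulMod k I c η v
    by_cases hc0 : c = 0
    · have h1 : sm πY η₁ v₁ = 0 := by
        rw [← he, sm_comp, hsm, hc0, map_zero, zero_smul, map_zero]
      exact hv₁ (quot_injective hI.2.2 hGY hη₁ hm₁ h1)
    · refine hv₂ ((hη₂.isUnit (rho_ne_zero k hη₂ hc0)).smul_eq_zero.1 ?_)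
      haveI := quot_subsingleton hGY hm₂
      rw [← hsm, sm_comp, Subsingleton.elim (sm πY η₂ v₂) 0, map_zero]
  · intro hn
    obtain ⟨x⟩ := ‹Nonempty X›
    obtain ⟨η₀, hη₀, -⟩ := exists_isGen x
    haveI := nontrivial_stalk hI.2.2 hη₀
    obtain ⟨v₀, hv₀⟩ := exists_ne (0 : I.presheaf.stalk η₀)
    refine ⟨fun hz => hv₀ (by rw [← sm_id η₀ v₀, hz.eq_of_src (𝟙 I) 0, sm_zero]), fun f => ?_⟩
    choose c hc using fun (η : X) (hη : IsGen η) => exists_scalar k hI hgi hη f
    by_contra hns
    obtain ⟨η₁, hη₁, hne⟩ : ∃ η, ∃ hη : IsGen η, c η hη ≠ c η₀ hη₀ := by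
      by_contra hall
      refine hns ⟨c η₀ hη₀, hom_ext_gen hI.1.1 hI.2.1 fun η hη v => ?_⟩
      refine Eq.trans ?_ (sm_smulMod k I _ η v).symm
      rw [hc η hη, show c η hη = c η₀ hη₀ from not_not.1 fun h => hall ⟨η, hη, h⟩]
    let S := (finite_isGen (X := X)).toFinset
    have hmem : ∀ η, η ∈ S ↔ IsGen η := fun η => by simp [S]
    obtain ⟨e, he₀, he⟩ : ∃ e : I ⟶ I, (∀ η, ∀ hη : IsGen η, c η hη = c η₀ hη₀ → ∀ v, sm e η v = v) ∧
        (∀ η, ∀ hη : IsGen η, c η hη ≠ c η₀ hη₀ → ∀ v, sm e η v = 0) := by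
      classical
      let T : Finset k := (S.attach.image fun η => c η.1 ((hmem η.1).1 η.2)).erase (c η₀ hη₀)
      suffices h : ∀ T' : Finset k, (∀ ν ∈ T', ν ≠ c η₀ hη₀) → ∃ e : I ⟶ I,
          (∀ η, ∀ hη : IsGen η, c η hη = c η₀ hη₀ → ∀ v, sm e η v = v) ∧
          (∀ η, ∀ hη : IsGen η, c η hη ∈ T' → ∀ v, sm e η v = 0) by
        obtain ⟨e, h1, h2⟩ := h T fun ν hν => Finset.ne_of_mem_erase hν
        exact ⟨e, h1, fun η hη hne => h2 η hη (Finset.mem_erase.2 ⟨hne, Finset.mem_image.2
          ⟨⟨η, (hmem η).2 hη⟩, Finset.mem_attach _ _, rfl⟩⟩)⟩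
      intro T'
      induction T' using Finset.induction_on with
      | empty => exact fun _ => ⟨𝟙 I, fun η _ _ v => sm_id η v, fun η hη h => absurd h (Finset.notMem_empty _)⟩
      | @insert ν T' _ ih =>
        intro hT
        obtain ⟨e, h1, h2⟩ := ih fun μ hμ => hT μ (Finset.mem_insert_of_mem hμ)
        have hν : c η₀ hη₀ - ν ≠ 0 := sub_ne_zero.2 (hT ν (Finset.mem_insert_self _ _)).symm
        let g : I ⟶ I := (f - Formal.smulMod k I ν) ≫ Formal.smulMod k I (c η₀ hη₀ - ν)⁻¹
        have hg : ∀ η, ∀ hη : IsGen η, ∀ v, sm g η v = rho k η ((c η₀ hη₀ - ν)⁻¹ * (c η hη - ν)) • v :=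
          fun η hη v => by rw [sm_comp, sm_smulMod, sm_sub, hc η hη, sm_smulMod, ← sub_smul, ← map_sub, smul_smul, ← map_mul]
        refine ⟨e ≫ g, fun η hη h v => ?_, fun η hη h v => ?_⟩
        · rw [sm_comp, h1 η hη h, hg η hη, h, inv_mul_cancel₀ hν, map_one, one_smul]
        · rcases Finset.mem_insert.1 h with h | h
          · rw [sm_comp, hg η hη, h, sub_self, mul_zero, map_zero, zero_smul]
          · rw [sm_comp, h2 η hη h, map_zero]
    let ε := 𝟙 I - e
    have hε : e ≫ ε = 0 := hom_eq_zero_of_gen _ hI.1.1 hI.2.1 fun η hη v => by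
      rw [sm_comp, sm_sub, sm_id]
      by_cases h : c η hη = c η₀ hη₀
      · rw [he₀ η hη h (sm e η v), sub_self]
      · rw [he η hη h v, map_zero, sub_self]
    have hεe : ε ≫ e = 0 := by
      rw [Preadditive.sub_comp, Category.id_comp]
      rw [Preadditive.comp_sub, Category.comp_id] at hε
      exact hε
    have hιε : kernel.ι ε ≫ e = kernel.ι ε := by
      have h := kernel.condition ε
      rw [Preadditive.comp_sub, Category.comp_id, sub_eq_zero] at h
      exact h.symm
    have hιe : kernel.ι e ≫ ε = kernel.ι e := by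
      rw [Preadditive.comp_sub, Category.comp_id, kernel.condition, sub_zero]
    let π₁ : I ⟶ kernel ε := kernel.lift ε e hε
    let π₂ : I ⟶ kernel e := kernel.lift e ε hεe
    have h11 : kernel.ι ε ≫ π₁ = 𝟙 _ := by rw [← cancel_mono (kernel.ι ε), Category.assoc, kernel.lift_ι, hιε, Category.id_comp]
    have h22 : kernel.ι e ≫ π₂ = 𝟙 _ := by rw [← cancel_mono (kernel.ι e), Category.assoc, kernel.lift_ι, hιe, Category.id_comp]
    have h12 : kernel.ι ε ≫ π₂ = 0 := by rw [← cancel_mono (kernel.ι e), Category.assoc, kernel.lift_ι, kernel.condition, zero_comp]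
    have h21 : kernel.ι e ≫ π₁ = 0 := by rw [← cancel_mono (kernel.ι ε), Category.assoc, kernel.lift_ι, kernel.condition, zero_comp]
    have mk : ∀ (K : X.Modules) (ι : K ⟶ I) (π : I ⟶ K) (d : I ⟶ I) (P : X → Prop), Coh.IsCoh K → Mono ι →
        ι ≫ π = 𝟙 K → π ≫ ι = d → (∀ η, IsGen η → P η → ∀ v, sm d η v = v) →
        (∀ η, IsGen η → ¬ P η → ∀ v, sm d η v = 0) → TFOne.IsQuotOn X I (compUnion P) K π := by
      intro K ι π d P hK _ h1 h2 hP hnP
      have ht : TorSh.IsTorsionFree K := isTorsionFree_of_mono ι hI.1.1 hI.2.1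
      haveI : IsSplitEpi π := IsSplitEpi.mk' ⟨ι, h1⟩
      refine ⟨inferInstance, hK, ht, ?_⟩
      rw [support_eq_compUnion hK ht]
      have hh : ∀ η, IsGen η → (η ∈ CohB1.support K ↔ P η) := fun η hη => by
        constructor
        · intro hs
          by_contra hPη
          refine hs (subsingleton_of_forall_eq 0 fun w => sm_injective ι η ?_)
          obtain ⟨v, rfl⟩ := sm_surjective π η w
          rw [← sm_comp, h2, hnP η hη hPη, map_zero]
        · intro hPη hsub
          haveI : Subsingleton (K.presheaf.stalk η) := hsub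
          haveI := nontrivial_stalk hI.2.2 hη
          obtain ⟨v, hv⟩ := exists_ne (0 : I.presheaf.stalk η)
          refine hv ?_
          rw [← hP η hη hPη v, ← h2, sm_comp, Subsingleton.elim (sm π η v) 0, map_zero]
      ext y
      constructor
      · rintro ⟨η, hη, hs, hy⟩
        exact ⟨η, hη, (hh η hη).1 hs, hy⟩
      · rintro ⟨η, hη, hs, hy⟩
        exact ⟨η, hη, (hh η hη).2 hs, hy⟩
    let P : X → Prop := fun η => ∃ hη : IsGen η, c η hη = c η₀ hη₀
    have hG1 := mk (kernel ε) (kernel.ι ε) π₁ e P (QCoh.isCoh_kernel hI.1 hI.1 ε) inferInstance h11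
      (kernel.lift_ι _ _ _) (fun η _ ⟨hη, h⟩ => he₀ η hη h) (fun η hη h => he η hη fun hh => h ⟨hη, hh⟩)
    have hG2 := mk (kernel e) (kernel.ι e) π₂ ε (fun η => ¬ P η) (QCoh.isCoh_kernel hI.1 hI.1 e) inferInstance h22
      (kernel.lift_ι _ _ _) (fun η hη h v => by rw [sm_sub, sm_id, he η hη (fun hh => h ⟨hη, hh⟩) v, sub_zero])
      (fun η _ h v => by
        obtain ⟨hη, hh⟩ := not_not.1 h
        rw [sm_sub, sm_id, he₀ η hη hh v, sub_self])
    refine hn ⟨compUnion P, compUnion fun η => ¬ P η, isClosed_compUnion _, isClosed_compUnion _, kernel ε, kernel e,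
      π₁, π₂, isSubcurve_compUnion hη₀ ⟨hη₀, rfl⟩, isSubcurve_compUnion hη₁ (fun ⟨_, h⟩ => hne h), ?_, ?_, hG1, hG2,
      ⟨biprod.desc (kernel.ι ε) (kernel.ι e), ?_, ?_⟩⟩
    · intro hu
      obtain ⟨_, h⟩ := (mem_compUnion_gen hη₁).1 (hu.ge (Set.mem_univ η₁))
      exact hne h
    · intro hu
      exact (mem_compUnion_gen hη₀).1 (hu.ge (Set.mem_univ η₀)) ⟨hη₀, rfl⟩
    · rw [biprod.lift_desc, kernel.lift_ι, kernel.lift_ι, add_sub_cancel]
    · refine biprod.hom_ext' _ _ ?_ ?_
      · rw [biprod.inl_desc_assoc, Category.comp_id]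
        refine biprod.hom_ext _ _ ?_ ?_
        · rw [Category.assoc, biprod.lift_fst, h11, biprod.inl_fst]
        · rw [Category.assoc, biprod.lift_snd, h12, biprod.inl_snd]
      · rw [biprod.inr_desc_assoc, Category.comp_id]
        refine biprod.hom_ext _ _ ?_ ?_
        · rw [Category.assoc, biprod.lift_fst, h21, biprod.inr_fst]
        · rw [Category.assoc, biprod.lift_snd, h22, biprod.inr_snd]

end Groth.Agent.S18844
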