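import Groth.Statements.S3491
import Groth.Agent.CdLib.BranchPrime
import Groth.Agent.CdLib.TorsionClass

set_option autoImplicit false
set_option backward.isDefEq.respectTransparency.types false
universe u
open CategoryTheory CategoryTheory.Limits AlgebraicGeometry Opposite
open EtCd

namespace Groth.Agent.S3491

open Groth.Agent.CdLib

/-- The bound on the degrees of the non-vanishing stalks of higher direct images from a point. -/
theorem lt_of_stalk_ne_zero {X : Scheme.{u}} [IsNoetherian X] (ℓ : ℕ) (φ : X → ℕ)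
    (h2 : ∀ (x y : X) (hxy : x ⤳ y), x ≠ y →
      ∀ (R : Type u) [CommRing R] [IsLocalRing R] [Algebra (X.presheaf.stalk y) R]
      [IsLocalHom (algebraMap (X.presheaf.stalk y) R)] [Hensel.IsStrictHenselization (X.presheaf.stalk y) R],
      ∀ P ∈ ((RingHom.ker (Cyc.specMap y x hxy)).map (algebraMap (X.presheaf.stalk y) R)).minimalPrimes,
        ∃ d : ℕ, d + 1 + φ y ≤ φ x ∧ Dix.CohDimLEAt (Spec (CommRingCat.of (FractionRing (R ⧸ P)))) ℓ d)
    (x : X) (G : EtCoh.Ab (Spec (X.residueField x))) (hG : Dix.IsPrimaryTorsion ℓ G) (b : ℕ)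
    (y : X) (hne : ¬ Subsingleton ((EtCoh.stalk (EtaleStrictHens.ξ y)).obj
      ((EtCoh.Rpush (PointPush.ι x) (b + 1)).obj G))) :
    φ y + (b + 1) < φ x := by
  by_contra hlt
  haveI : QuasiCompact (PointPush.ι x) := quasiCompact_of_compactSpace _
  refine hne (StalkVanish.subsingleton_stalk_Rpush (K := X.residueField x) b G fun ψ => ?_)
  have hxy : x ⤳ y := BranchPrime.specializes ψ
  rcases eq_or_ne x y with rfl | hne'
  · exact @SepAcyclic.subsingleton_H_integral (Branch.L ψ) _ (BranchPrime.isSepClosed_L_self ψ) _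
      (𝟙 (Spec (CommRingCat.of (Branch.L ψ)))) (MorphismProperty.id_mem @IsIntegralHom _) b _
  · obtain ⟨d, hd, hcd⟩ := h2 x y hxy hne' _ (BranchPrime.P ψ) (BranchPrime.mem_minimalPrimes ψ hxy)
    let e : Spec (CommRingCat.of (Branch.L ψ)) ≅
        Spec (CommRingCat.of (FractionRing (EtBase.etaleLocalRing (EtaleStrictHens.ξ y) ⧸ BranchPrime.P ψ))) :=
      Scheme.Spec.mapIso (BranchPrime.fracEquiv ψ).toCommRingCatIso.op
    exact TorsionClass.subsingleton_H_pull_of_iso e (Branch.π ψ) G _
      (hcd _ (Supp.isPrimaryTorsion_pull ℓ _ hG) _ (by omega))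

/-- A point of the support is detected at the chosen geometric point. -/
theorem not_subsingleton_stalk {X : Scheme.{u}} (F : EtCoh.Ab X) (y : X) (hy : y ∈ EtPBC.supp F) :
    ¬ Subsingleton ((EtCoh.stalk (EtaleStrictHens.ξ y)).obj F) := by
  intro h
  obtain ⟨Ω, _, _, ξ, hξ, hne⟩ := Supp.exists_of_mem_supp hy
  have hy' : ξ.base (IsLocalRing.closedPoint Ω) = y := by
    rw [← hξ]
    exact congrArg ξ.base (Subsingleton.elim _ _)
  obtain ⟨g, hg⟩ : ∃ g : X.residueField y ⟶ CommRingCat.of Ω, Spec.map g ≫ X.fromSpecResidueField y = ξ := by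
    subst hy'
    exact ⟨_, Scheme.descResidueField_stalkClosedPointTo_fromSpecResidueField Ω X ξ⟩
  letI : Algebra (X.residueField y) Ω := g.hom.toAlgebra
  let l : SeparableClosure (X.residueField y) →ₐ[X.residueField y] Ω := IsSepClosed.lift
  have hl : Spec.map (CommRingCat.ofHom l.toRingHom) ≫ EtaleStrictHens.ξ y = ξ := by
    rw [EtaleStrictHens.ξ, ← Category.assoc, ← Spec.map_comp,
      show CommRingCat.ofHom (algebraMap (X.residueField y) (SeparableClosure (X.residueField y))) ≫
        CommRingCat.ofHom l.toRingHom = g from CommRingCat.hom_ext l.comp_algebraMap, hg]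
  subst hl
  have e := (EtFound.stalkExtIso AddCommGrpCat.{u + 1} (EtaleStrictHens.ξ y)
    (Spec.map (CommRingCat.ofHom l.toRingHom))).app F
  haveI := h
  exact hne ((@AddCommGrpCat.isZero_of_subsingleton _ h).of_iso e.symm)

/-- The dévissage hypotheses. -/
theorem hyp {X : Scheme.{u}} [IsNoetherian X] (ℓ : ℕ) (φ : X → ℕ)
    (h1 : ∀ x : X, Dix.CohDimLEAt (Spec (X.residueField x)) ℓ (φ x))
    (h2 : ∀ (x y : X) (hxy : x ⤳ y), x ≠ y →
      ∀ (R : Type u) [CommRing R] [IsLocalRing R] [Algebra (X.presheaf.stalk y) R]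
      [IsLocalHom (algebraMap (X.presheaf.stalk y) R)] [Hensel.IsStrictHenselization (X.presheaf.stalk y) R],
      ∀ P ∈ ((RingHom.ker (Cyc.specMap y x hxy)).map (algebraMap (X.presheaf.stalk y) R)).minimalPrimes,
        ∃ d : ℕ, d + 1 + φ y ≤ φ x ∧ Dix.CohDimLEAt (Spec (CommRingCat.of (FractionRing (R ⧸ P)))) ℓ d) :
    Devissage.Hyp (X := X) φ (Dix.IsPrimaryTorsion ℓ) where
  decr x y hxy hne := by
    have hle : (RingHom.ker (Cyc.specMap y x hxy)).map
        (algebraMap (X.presheaf.stalk y) (EtBase.etaleLocalRing (EtaleStrictHens.ξ y))) ≠ ⊤ := by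
      refine ne_top_of_le_ne_top (IsLocalRing.maximalIdeal.isMaximal _).ne_top
        (le_trans (Ideal.map_mono (IsLocalRing.le_maximalIdeal (RingHom.ker_isPrime _).ne_top)) ?_)
      exact ((IsLocalRing.local_hom_TFAE
        (algebraMap (X.presheaf.stalk y) (EtBase.etaleLocalRing (EtaleStrictHens.ξ y)))).out 0 2).1
        (EtaleStrictHens.isLocalHom_algebraMap y)
    obtain ⟨P, hP⟩ := Ideal.nonempty_minimalPrimes hle
    obtain ⟨d, hd, -⟩ := h2 x y hxy hne _ P hP
    omega
  ker f hF _ := Supp.isPrimaryTorsion_of_mono ℓ (kernel.ι f) hF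
  coker f _ hG := Supp.isPrimaryTorsion_of_epi ℓ (cokernel.π f) hG
  sigma n F hF := TorsionClass.isPrimaryTorsion_coprod ℓ _ fun k =>
    haveI : QuasiCompact (PointPush.ι k.down.1) := quasiCompact_of_compactSpace _
    TorsionClass.isPrimaryTorsion_push ℓ (PointPush.ι k.down.1)
      (Supp.isPrimaryTorsion_pull ℓ (PointPush.ι k.down.1) hF)
  point x F hF q hq := h1 x _ (Supp.isPrimaryTorsion_pull ℓ (PointPush.ι x) hF) q hq
  higher x F hF b := by
    haveI : QuasiCompact (PointPush.ι x) := quasiCompact_of_compactSpace _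
    have hG := Supp.isPrimaryTorsion_pull ℓ (PointPush.ι x) hF
    refine ⟨TorsionClass.isPrimaryTorsion_Rpush (K := X.residueField x) ℓ (PointPush.ι x) b _ hG,
      fun y hy => ?_⟩
    exact lt_of_stalk_ne_zero ℓ φ h2 x _ hG b y (not_subsingleton_stalk _ y hy)

/-- Let X be a Noetherian scheme, ℓ a prime and φ : X → ℕ a function such that (i) cd_ℓ(κ(x)) ≤ φ(x) for
every point x, and (ii) for all points x ≠ y with y in the closure of x, every strict henselization
R of the local ring of X at y, and every prime P of R minimal over the ideal generated by the prime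
of x (so that the Frac(R/P) are the residue fields of the ring of rational functions of the strict
localization at y of the closure of x), cd_ℓ(Frac(R/P)) < φ(x) - φ(y). Then for every ℓ-primary
torsion abelian sheaf F on the small etale site of X, H^q(X, F) = 0 for every q exceeding φ(x) at
all points x where F has a nonzero geometric stalk. -/
theorem result (X : Scheme.{u}) [IsNoetherian X] (ℓ : ℕ) (hℓ : ℓ.Prime) (φ : X → ℕ)
    (h1 : ∀ x : X, Dix.CohDimLEAt (Spec (X.residueField x)) ℓ (φ x))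
    (h2 : ∀ (x y : X) (hxy : x ⤳ y), x ≠ y →
      ∀ (R : Type u) [CommRing R] [IsLocalRing R] [Algebra (X.presheaf.stalk y) R]
      [IsLocalHom (algebraMap (X.presheaf.stalk y) R)] [Hensel.IsStrictHenselization (X.presheaf.stalk y) R],
      ∀ P ∈ ((RingHom.ker (Cyc.specMap y x hxy)).map (algebraMap (X.presheaf.stalk y) R)).minimalPrimes,
        ∃ d : ℕ, d + 1 + φ y ≤ φ x ∧ Dix.CohDimLEAt (Spec (CommRingCat.of (FractionRing (R ⧸ P)))) ℓ d)
    (F : EtCoh.Ab X) (hF : Dix.IsPrimaryTorsion ℓ F) (q : ℕ) (hq : ∀ x ∈ EtPBC.supp F, φ x < q) :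
    Subsingleton (EtCoh.H X F q) := by
  exact Devissage.subsingleton_H (hyp ℓ φ h1 h2) F hF q hq

end Groth.Agent.S3491
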