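import Groth.Statements.S8395
import Groth.Agent.GrpSchLib.PowEtale
-- import your own Groth.Agent.* helpers here

set_option autoImplicit false
universe u
open CategoryTheory MonoidalCategory CartesianMonoidalCategory MonObj GrpObj AlgebraicGeometry
open SGA3x

namespace Groth.Agent.S8395

/-- Let k be a field, G a k-group scheme locally of finite type, n an integer invertible in k, and u : G
→ G the n-th power morphism. Then u is etale at every point of G lying in the centre of G; here
stated at a k-rational point g of G which is central (commutes with all points of G): u is etale on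
some open neighbourhood of g. (The published statement is for any point of the centre; its proof
reduces to rational points by extending the base field.) -/
theorem result (k : Type u) [Field k]
    (G : Over (Spec (CommRingCat.of k))) [GrpObj G] [LocallyOfFiniteType G.hom] (n : ℕ) (hn : (n : k) ≠ 0)
    (g : 𝟙_ (Over (Spec (CommRingCat.of k))) ⟶ G)
    (hg : ∀ (X : Over (Spec (CommRingCat.of k))) (x : X ⟶ G), (toUnit X ≫ g) * x = x * (toUnit X ≫ g)) :
    ∃ U : G.left.Opens, Set.range g.left.base ⊆ (U : Set ↥G.left) ∧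
      Etale (U.ι ≫ ((𝟙 G : G ⟶ G) ^ n).left) := by
  obtain ⟨V, heV, hV⟩ := Groth.Agent.GrpSchLib.PowEtale.loc_etale (X := G) n hn
  let c : G ⟶ G := toUnit G ≫ g
  have hc : ∀ {X : Over (Spec (CommRingCat.of k))} (x : X ⟶ G), x ≫ c = toUnit X ≫ g := fun x => by
    simp only [c, comp_toUnit_assoc]
  let T : G ≅ G :=
    { hom := c * 𝟙 G
      inv := c⁻¹ * 𝟙 G
      hom_inv_id := by rw [MonObj.comp_mul, GrpObj.comp_inv, hc, Category.comp_id]; exact inv_mul_cancel_left _ _
      inv_hom_id := by rw [MonObj.comp_mul, hc, Category.comp_id]; exact mul_inv_cancel_left _ _ }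
  have hcomm : Commute c (𝟙 G) := hg G (𝟙 G)
  let cn : G ⟶ G := toUnit G ≫ (g ^ n)
  have hcn : ∀ {X : Over (Spec (CommRingCat.of k))} (x : X ⟶ G), x ≫ cn = (toUnit X ≫ g) ^ n := fun x => by
    simp only [cn, comp_toUnit_assoc, MonObj.comp_pow]
  let Tn : G ≅ G :=
    { hom := cn * 𝟙 G
      inv := cn⁻¹ * 𝟙 G
      hom_inv_id := by
        rw [MonObj.comp_mul, GrpObj.comp_inv, hcn, Category.comp_id, show cn = c ^ n from (MonObj.comp_pow ..)]
        exact inv_mul_cancel_left _ _
      inv_hom_id := by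
        rw [MonObj.comp_mul, hcn, Category.comp_id, show cn = c ^ n from (MonObj.comp_pow ..)]
        exact mul_inv_cancel_left _ _ }
  have key : (𝟙 G ^ n : G ⟶ G) = T.inv ≫ (𝟙 G ^ n) ≫ Tn.hom := by
    rw [Iso.eq_inv_comp]
    show T.hom ≫ (𝟙 G ^ n) = (𝟙 G ^ n) ≫ (cn * 𝟙 G)
    rw [MonObj.comp_pow, Category.comp_id, MonObj.comp_mul, Category.comp_id, hcn]
    show (c * 𝟙 G) ^ n = c ^ n * _
    exact hcomm.mul_pow n
  refine ⟨T.inv.left ⁻¹ᵁ V, ?_, ?_⟩
  · rintro _ ⟨p, rfl⟩
    show T.inv.left (g.left p) ∈ V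
    have h1 : g ≫ T.inv = η[G] := by
      show g ≫ (c⁻¹ * 𝟙 G) = _
      rw [MonObj.comp_mul, GrpObj.comp_inv, hc, toUnit_unique (toUnit (𝟙_ _)) (𝟙 _), Category.id_comp,
        Category.comp_id, inv_mul_cancel, Hom.one_def, toUnit_unique (toUnit (𝟙_ _)) (𝟙 _), Category.id_comp]
    rw [← Scheme.Hom.comp_apply, ← Over.comp_left, h1, Subsingleton.elim (α := PrimeSpectrum k) p (IsLocalRing.closedPoint k)]
    exact heV
  · rw [key, Over.comp_left, Over.comp_left, ← morphismRestrict_ι_assoc, ← Category.assoc V.ι]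
    haveI : IsIso T.inv.left := ((Over.forget _).mapIso T.symm).isIso_hom
    haveI : IsIso Tn.hom.left := ((Over.forget _).mapIso Tn).isIso_hom
    infer_instance

end Groth.Agent.S8395
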