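import Groth.Statements.S9515
import Groth.Agent.CohCore23.ExtendHom
import Groth.Agent.QCoh.SubCompare

set_option autoImplicit false
universe u
open CategoryTheory CategoryTheory.Limits AlgebraicGeometry
attribute [local instance] HasDerivedCategory.standard
open Coherent

namespace Groth.Agent.S9515

/-- Let X be a Noetherian scheme, F a quasi-coherent O_X-module, G a coherent O_X-module and I a
quasi-coherent sheaf of ideals, with U the open complement of the closed subset cut out by I. For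
every morphism φ : G|_U → F|_U there are an n ≥ 0 and a morphism ψ : I^n G → F whose restriction to
U is the restriction of the inclusion I^n G → G followed by φ. (Here I^n G ⊆ G is the submodule
sheaf Dual3.idealMul (I^n) G.) -/
theorem result (X : Scheme.{u}) [IsNoetherian X] (F G : X.Modules)
    (hF : Coh.IsQCoh F) (hG : Coh.IsCoh G) (I : X.IdealSheafData)
    (U : X.Opens) (hU : (U : Set X) = (I.support : Set X)ᶜ)
    (φ : (Scheme.Modules.restrictFunctor U.ι).obj G ⟶
      (Scheme.Modules.restrictFunctor U.ι).obj F) :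
    ∃ (n : ℕ) (ψ : (Dual3.idealMul (I ^ n)).obj G ⟶ F),
      (Scheme.Modules.restrictFunctor U.ι).map ψ =
        (Scheme.Modules.restrictFunctor U.ι).map (Dual3.idealMulι (I ^ n) G) ≫ φ := by
  obtain ⟨G', ι, φ', hι, hG', hiso, hφ⟩ :=
    Groth.Agent.CohCore23.exists_extend_hom G F hG hF U φ
  haveI := hι
  haveI := hiso
  have hQ : Coh.IsCoh (cokernel ι) := Groth.Agent.QCoh.isCoh_cokernel hG'.1 hG ι
  have hker : ∀ V : X.Opens, V ≤ U → ∀ x : Γ(G, V), (cokernel.π ι).app V x = 0 := fun V hV => by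
    have he : U.ι ''ᵁ (U.ι ⁻¹ᵁ V) = V := by
      rw [U.ι.image_preimage_eq_opensRange_inf, Scheme.Opens.opensRange_ι, inf_eq_right.2 hV]
    suffices h : ∀ W : X.Opens, U.ι ''ᵁ (U.ι ⁻¹ᵁ V) = W → ∀ y : Γ(G, W), (cokernel.π ι).app W y = 0 from
      h V he
    rintro _ rfl y
    have h0 : (Scheme.Modules.restrictFunctor U.ι).map (cokernel.π ι) = 0 := by
      rw [← cancel_epi ((Scheme.Modules.restrictFunctor U.ι).map ι), ← Functor.map_comp,
        cokernel.condition, Functor.map_zero, comp_zero]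
    exact congr(($h0).app (U.ι ⁻¹ᵁ V) y)
  have hs : CohB1.support (cokernel ι) ⊆ (I.support : Set X) := fun x hx => by
    by_contra hxI
    obtain ⟨_, ⟨V, hV, rfl⟩, hxV, hVU⟩ :=
      X.isBasis_affineOpens.exists_subset_of_mem_open (hU.ge hxI) U.2
    refine (Groth.Agent.QCoh.notMem_support_iff hQ.1 hV hxV).2 (fun z => ⟨1, ?_, ?_⟩) hx
    · rw [Scheme.basicOpen_of_isUnit _ isUnit_one]; exact hxV
    obtain ⟨z, rfl⟩ := Groth.Agent.QCoh.app_surjective_of_epi hG.1 hQ.1 (cokernel.π ι) hV z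
    exact (one_smul _ _).trans (hker V hVU z)
  obtain ⟨n, hn⟩ := Groth.Agent.QCoh.exists_pow_kills hQ I hs
  obtain ⟨J, hJ⟩ : ∃ J, J = I ^ n := ⟨_, rfl⟩
  have hle : Subobject.mk (Dual3.idealMulι J G) ≤ Subobject.mk ι := by
    refine Groth.Agent.QCoh.subobject_le_of_cover (Groth.Agent.QCoh.isQCoh_idealMul _ hG.1) hG'.1 hG.1
      _ _ (fun V : X.affineOpens => V.1) (fun V => V.2) (fun x => ?_) fun V => ?_
    · obtain ⟨V, hV, hxV⟩ := Groth.Agent.QCoh.exists_affine_mem x
      exact ⟨⟨V, hV⟩, hxV⟩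
    · rw [Groth.Agent.QCoh.range_idealMul J hG.1 V.2, Submodule.smul_le]
      intro r hr y _
      refine (Groth.Agent.QCoh.mem_range_iff_cokernel ι V.1 _).1 ?_
      rw [Scheme.Modules.Hom.app_smul]
      have hr' : r ∈ I.ideal V ^ n := by
        rwa [hJ, Scheme.IdealSheafData.ideal_pow, Pi.pow_apply] at hr
      exact Module.mem_annihilator.1 (hn V hr') _
  subst hJ
  refine ⟨n, Subobject.ofMkLEMk _ _ hle ≫ φ', ?_⟩
  rw [Functor.map_comp, hφ, ← Category.assoc, ← Functor.map_comp, Subobject.ofMkLEMk_comp]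

end Groth.Agent.S9515
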