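import Groth.Statements.S7640
import Groth.Agent.VarBase.CurveDeg
import Groth.Agent.CurveEmbed.Points

set_option autoImplicit false
set_option linter.style.haveILetI false
set_option backward.isDefEq.respectTransparency false
set_option backward.isDefEq.respectTransparency.types false
universe u
open CategoryTheory CategoryTheory.Limits AlgebraicGeometry
open Variety

namespace Groth.Agent.S7640

open Groth.Agent.VarBase TopologicalSpace

/-- Let k be a field, let X and Y be proper curves over k (integral, proper over k, of dimension one)
and let f : X → Y be a morphism over k that is not constant, i.e. sends the generic point of X to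
that of Y. For a finite locally free module E of rank n on Y, the degree of f^*E is deg(X/Y) ·
deg(E), where deg(X/Y) is the degree of the function field of X over that of Y. -/
theorem result (k : Type u) [Field k] (X Y : Scheme.{u})
    [X.Over (Spec (CommRingCat.of k))] [Y.Over (Spec (CommRingCat.of k))] [IsIntegral X] [IsIntegral Y]
    [IsProper (X ↘ (Spec (CommRingCat.of k)))] [IsProper (Y ↘ (Spec (CommRingCat.of k)))]
    (hX : topologicalKrullDim X = 1) (hY : topologicalKrullDim Y = 1)
    (f : X ⟶ Y) (hf : f ≫ (Y ↘ (Spec (CommRingCat.of k))) = X ↘ (Spec (CommRingCat.of k)))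
    (hξ : f.base (genericPoint X) = genericPoint Y)
    (n : ℕ) (E : Y.Modules) (hE : FlatMod.IsFinLocFreeOfRank n E) :
    Curv2.deg k X ((Scheme.Modules.pullback f).obj E) n =
      (f.residueDegree (genericPoint X) : ℤ) * Curv2.deg k Y E n := by
  classical
  haveI := Groth.Agent.CurveCohLib.isNoetherian_of_proper (k := k) (X := X)
  haveI := Groth.Agent.CurveCohLib.isNoetherian_of_proper (k := k) (X := Y)
  haveI : IsProper (f ≫ (Y ↘ Spec (CommRingCat.of k))) := by rw [hf]; infer_instance
  haveI : IsProper f := IsProper.of_comp f (Y ↘ Spec (CommRingCat.of k))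
  have hgen : ∀ x : X, f x = genericPoint Y → x = genericPoint X := fun x hx => by
    refine Groth.Agent.CurveCohLib.eq_genericPoint_of_not_isClosed hX fun hc => ?_
    exact Groth.Agent.CurveEmbed.genericPoint_not_closed hY (hx ▸ (Set.image_singleton (f := f) (a := x)) ▸ f.isClosedMap _ hc)
  haveI : IsFinite f := by
    refine isFinite_of_fibres f fun y => ?_
    by_cases hy : y = genericPoint Y
    · exact (Set.finite_singleton (genericPoint X)).subset fun a ha => hgen a ((show f a = y from ha).trans hy)
    · have hyc : IsClosed ({y} : Set Y) := by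
        by_contra h
        exact hy (Groth.Agent.CurveCohLib.eq_genericPoint_of_not_isClosed hY h)
      refine Groth.Agent.CurveCohLib.finite_of_closedPoints (hyc.preimage f.continuous) fun a ha => ?_
      by_contra h
      obtain rfl := Groth.Agent.CurveCohLib.eq_genericPoint_of_not_isClosed hX h
      exact hy ((show f _ = y from ha).symm.trans hξ)
  have hd : ∀ F : Y.Modules, topologicalKrullDim ↥(CohB1.support F) ≤ ((1 : ℕ) : WithBot ℕ∞) := fun F =>
    (topologicalKrullDim_subspace_le ↥Y _).trans (by exact_mod_cast hY.le)
  rw [deg_pullback_eq_psi k f hf hE, deg_eq_compSum k hY.le hE,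
    psi_eq_compSum k hE (Groth.Agent.QCoh.isCoh_pushforward_finite f Groth.Agent.QCoh.isCoh_structureModule') (hd _)]
  have hzero : ∀ F : Y.Modules, ∀ y ≠ genericPoint Y,
      (if topologicalKrullDim ↥(closure ({y} : Set Y)) = ((1 : ℕ) : WithBot ℕ∞) then
        lenAt F y • psi k hE (ClSub.quotMod (clIdeal y)) else 0) = 0 := fun F y hy => by
    refine if_neg fun h => hy ?_
    exact (eq_of_specializes_of_dim isClosed_univ ((topologicalKrullDim_subspace_le ↥Y _).trans (by exact_mod_cast hY.le))
      trivial ((genericPoint_spec Y).specializes trivial) h).symm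
  rw [compSum, compSum, finsum_eq_single _ _ (hzero _), finsum_eq_single _ _ (hzero _)]
  split_ifs
  · have hy : genericPoint Y = f (genericPoint X) := hξ.symm
    have h1 : Module.length (Y.presheaf.stalk (genericPoint Y))
        ((Coh.structureModule Y).presheaf.stalk (genericPoint Y)) = 1 := by
      rw [Groth.Agent.H23.ClosedPushLen.length_structureModule]
      haveI : IsSimpleModule (Y.presheaf.stalk (genericPoint Y)) (Y.presheaf.stalk (genericPoint Y)) :=
        isSimpleModule_self_iff_isUnit.2 ⟨inferInstance, fun r hr => (isUnit_iff_ne_zero (G₀ := Y.functionField)).2 hr⟩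
      exact Module.length_eq_one _ _
    rw [show lenAt (Coh.structureModule Y) (genericPoint Y) = 1 from congrArg ENat.toNat h1, one_smul, nsmul_eq_mul]
    refine congrArg (· * _) (congrArg Nat.cast ?_)
    rw [lenAt, hy, length_push_eq_residueDegree f f.isClosedMap (fun z hz => hgen z (hz.trans hξ)) hξ]
    exact ENat.toNat_natCast _
  · simp

end Groth.Agent.S7640
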