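import Groth.Statements.S3626
import Groth.Agent.Dual3Lib.GorMor

set_option autoImplicit false
set_option backward.isDefEq.respectTransparency false
set_option backward.isDefEq.respectTransparency.types false
universe u
open CategoryTheory CategoryTheory.Limits AlgebraicGeometry
attribute [local instance] HasDerivedCategory.standard
open Dual3

namespace Groth.Agent.S3626

/-- Let f : X → Y be flat and locally of finite type, g : Y' → Y any morphism and X' = Y' ×_Y X with
projections f' : X' → Y', g' : X' → X. Then for every point x' of X', f' is Gorenstein at x' if and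
only if f is Gorenstein at g'(x'): formation of the Gorenstein locus commutes with base change. -/
theorem result (X Y X' Y' : Scheme.{u}) (f : X ⟶ Y) [Flat f] [LocallyOfFiniteType f] (g : Y' ⟶ Y) (f' : X' ⟶ Y') (g' : X' ⟶ X) (hsq : IsPullback g' f' f g) (x' : X') : Dual3.IsGorensteinAt f' x' ↔ Dual3.IsGorensteinAt f (g' x') := by
  rw [Dual3Lib.isGorensteinAt_iff_sm f' x' (f' x') rfl,
    Dual3Lib.isGorensteinAt_iff_sm f (g' x') (f (g' x')) rfl]
  have hflat : (f.stalkMap (g' x')).hom.Flat := Flat.stalkMap f (g' x')
  refine and_congr (iff_of_true ?_ ((FibFlat.sm_flat_iff f (g' x') (f (g' x')) rfl).2 hflat))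
    (Dual3Lib.isGor_fibre_iff_of_locallyOfFiniteType hsq x')
  exact (FibFlat.sm_flat_iff f' x' (f' x') rfl).2 (Triage.CMBC.flat_stalk_of_isPullback hsq x' hflat)

end Groth.Agent.S3626
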