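import Groth.Statements.S3627
import Groth.Agent.Dual3Lib.GorMor

set_option autoImplicit false
set_option backward.isDefEq.respectTransparency false
set_option backward.isDefEq.respectTransparency.types false
universe u
open CategoryTheory CategoryTheory.Limits AlgebraicGeometry
attribute [local instance] HasDerivedCategory.standard
open Dual3

namespace Groth.Agent.S3627

/-- Let f : X → Y and g : Y → Z be morphisms such that the fibres of f, g and g ∘ f are locally
Noetherian, and let x be a point of X. (1) The composite g ∘ f is Gorenstein at x provided f is so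
at x and g is so at f(x). (3) Conversely, if f is flat at x and the composite is Gorenstein there,
then both factors are Gorenstein: f at x, and g at f(x). -/
theorem result (X Y Z : Scheme.{u}) (f : X ⟶ Y) (g : Y ⟶ Z) (hfibf : ∀ y, IsLocallyNoetherian (f.fiber y)) (hfibg : ∀ y, IsLocallyNoetherian (g.fiber y)) (hfibfg : ∀ z, IsLocallyNoetherian ((f ≫ g).fiber z)) (x : X) : (Dual3.IsGorensteinAt f x → Dual3.IsGorensteinAt g (f x) → Dual3.IsGorensteinAt (f ≫ g) x) ∧ (Dual3.IsGorensteinAt (f ≫ g) x → (f.stalkMap x).hom.Flat → Dual3.IsGorensteinAt f x ∧ Dual3.IsGorensteinAt g (f x)) := by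
  have hs : (f ≫ g) x = g (f x) := Scheme.Hom.comp_apply f g x
  constructor
  · intro hf hg
    rw [Dual3Lib.isGorensteinAt_iff_sm f x (f x) rfl] at hf
    rw [Dual3Lib.isGorensteinAt_iff_sm g (f x) (g (f x)) rfl] at hg
    haveI hNC := Triage.CMMor.isNoetherianRing_fibre_stalk_sm (f ≫ g) x (g (f x)) hs (hfibfg _)
    rw [Dual3Lib.isGorensteinAt_iff_sm (f ≫ g) x (g (f x)) hs]
    rw [FibFlat.sm_comp f g x (f x) (g (f x)) rfl rfl] at hNC ⊢
    haveI := hg.2
    exact ⟨hg.1.comp hf.1, (Dual3Lib.fibre_comp _ _ hf.1).2 ⟨hg.2, hf.2⟩⟩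
  · intro h hfl
    rw [Dual3Lib.isGorensteinAt_iff_sm (f ≫ g) x (g (f x)) hs,
      FibFlat.sm_comp f g x (f x) (g (f x)) rfl rfl] at h
    haveI := Triage.CMMor.isNoetherianRing_fibre_stalk_sm g (f x) (g (f x)) rfl (hfibg _)
    haveI := h.2
    have hfl' : (FibFlat.sm f x (f x) rfl).Flat := (FibFlat.sm_flat_iff f x (f x) rfl).2 hfl
    obtain ⟨hB, hC⟩ := (Dual3Lib.fibre_comp _ _ hfl').1 h.2
    exact ⟨(Dual3Lib.isGorensteinAt_iff_sm f x (f x) rfl).2 ⟨hfl', hC⟩,
      (Dual3Lib.isGorensteinAt_iff_sm g (f x) (g (f x)) rfl).2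
        ⟨Triage.CMMor.flat_of_comp _ _ hfl' h.1, hB⟩⟩

end Groth.Agent.S3627
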