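import Groth.Statements.S7669

import Groth.Agent.VarBase.DimOne.Extend

set_option autoImplicit false
set_option linter.style.haveILetI false
set_option linter.unusedSectionVars false
set_option backward.isDefEq.respectTransparency false
set_option backward.isDefEq.respectTransparency.types false
universe u
open CategoryTheory CategoryTheory.Limits AlgebraicGeometry
open Variety

namespace Groth.Agent.S7669

open Groth.Agent.VarBase.DimOne

/-- Let X be a scheme and U ⊆ X a retrocompact open such that X ∖ U is discrete and O_{X,x} is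
Noetherian of dimension ≤ 1 for every x ∈ X ∖ U. Then (1) there are an invertible module L and a
global section s with U = X_s, and (2) Pic(X) → Pic(U) is surjective. -/
theorem result (X : Scheme.{u}) (U : X.Opens)
    [QuasiCompact U.ι] (hdisc : DiscreteTopology ↥((U : Set X)ᶜ))
    (hloc : ∀ x : X, x ∉ U → IsNoetherianRing (X.presheaf.stalk x) ∧ ringKrullDim (X.presheaf.stalk x) ≤ 1) :
    (∃ (L : X.Modules) (s : Coh.structureModule X ⟶ L), PicF.IsInvertible L ∧ CohB1.genLocus L s = U) ∧
      ∀ N : (↑U : Scheme.{u}).Modules, PicF.IsInvertible N →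
        ∃ L : X.Modules, PicF.IsInvertible L ∧ Nonempty (L.restrict U.ι ≅ N) := by
  have hV : ∀ x : {x : X // x ∉ U}, ∃ (V : X.Opens), IsAffineOpen V ∧ x.1 ∈ V ∧
      (∀ y ∈ V, y ∉ U → y = x.1) ∧ ∃ f : Γ(X, V), X.basicOpen f = U ⊓ V := fun x => by
    obtain ⟨W, hxW, hW⟩ := exists_isolating hdisc x.2
    obtain ⟨V, hV, hxV, hVW, hf⟩ := exists_local_eq x.2 (hloc x.1 x.2).1 (hloc x.1 x.2).2 W hxW hW
    exact ⟨V, hV, hxV, fun y hy => hW y (hVW hy), hf⟩
  choose V hVaff hxV hVU f hf using hV
  refine ⟨?_, fun N hN => ?_⟩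
  · obtain ⟨L, s, hL, hs, -⟩ := exists_genLocus_eq U V (fun x hx => ⟨⟨x, hx⟩, hxV ⟨x, hx⟩⟩)
      (fun i j hij z hz => by_contra fun hzU =>
        hij (Subtype.ext ((hVU i z hz.1 hzU).symm.trans (hVU j z hz.2 hzU)))) f hf
    exact ⟨L, s, hL, hs⟩
  · have hfr := fun x : {x : X // x ∉ U} =>
      exists_frame_near hN (hVaff x) (hxV x) x.2 (hf x) (hloc x.1 x.2).1 (hloc x.1 x.2).2
    choose h O e hxh hle he using hfr
    exact exists_extension hN (fun x => X.basicOpen (h x)) (fun x hx => ⟨⟨x, hx⟩, hxh ⟨x, hx⟩⟩)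
      (fun i j hij z hz => by_contra fun hzU => hij (Subtype.ext
        ((hVU i z (X.basicOpen_le (h i) hz.1) hzU).symm.trans (hVU j z (X.basicOpen_le (h j) hz.2) hzU))))
      O hle e he

end Groth.Agent.S7669
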