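import Groth.Statements.S10496
import Groth.Agent.AlgSpDec.RedInduced
import Groth.Agent.AlgSpDec.DecentMor
import Groth.Agent.AlgSpPts.Imm
-- import your own Groth.Agent.* helpers here

set_option autoImplicit false
universe u
open CategoryTheory CategoryTheory.Limits AlgebraicGeometry Topology TopologicalSpace
open AlgSp

namespace Groth.Agent.S10496

/-- Let X be a decent algebraic space over a scheme S. For every irreducible closed subset T of |X|
there is an integral closed subspace Z of X with |Z| = T. -/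
theorem result {S : Scheme.{u}} (X : AlgSp.Space S)
    (hX : AlgSp.IsDecent X.obj) (T : Set (AlgSp.Points X.obj)) (hT : IsClosed T) (hTi : IsIrreducible T) :
    ∃ (Z : AlgSp.Space S) (i : Z ⟶ X), AlgSp.RepWith @IsClosedImmersion i.hom ∧ AlgSp.IsIntegralSp Z.obj ∧
      Set.range (AlgSp.Points.map i.hom) = T := by
  obtain ⟨Z, j, h1, h2, h3⟩ := AlgSpDec.exists_reduced_induced X.property hT
  refine ⟨Z, ObjectProperty.homMk j, h1, ⟨h3, AlgSpDec.isDecent_of_isDecentMor Z.property j
    (AlgSpDec.isDecentMor_of_representable X.property j h1.1) hX, ?_⟩, h2⟩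
  have he := AlgSpPts.isEmbedding_map X.property (AlgSpLib.repWith_mono (fun A B g (hg : IsClosedImmersion g) =>
    (inferInstance : IsImmersion g)) _ h1)
  have : Nonempty (AlgSp.Points Z.obj) := by
    obtain ⟨t, ht⟩ := hTi.nonempty
    obtain ⟨z, -⟩ := (h2 ▸ ht : t ∈ Set.range (AlgSp.Points.map j))
    exact ⟨z⟩
  have hp : PreirreducibleSpace (AlgSp.Points Z.obj) := ⟨by
    rintro A B hA hB ⟨a, -, ha⟩ ⟨b, -, hb⟩
    obtain ⟨A', hA', rfl⟩ := he.isInducing.isOpen_iff.1 hA
    obtain ⟨B', hB', rfl⟩ := he.isInducing.isOpen_iff.1 hB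
    obtain ⟨t, ht, h⟩ := hTi.2 A' B' hA' hB' ⟨_, h2 ▸ Set.mem_range_self a, ha⟩ ⟨_, h2 ▸ Set.mem_range_self b, hb⟩
    rw [← h2] at ht
    obtain ⟨c, rfl⟩ := ht
    exact ⟨c, trivial, h⟩⟩
  exact { toPreirreducibleSpace := hp, toNonempty := this }

end Groth.Agent.S10496
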