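import Groth.Agent.WEtLib.Basic
import Groth.Prelude.Def_FlatMod2
import Mathlib.AlgebraicGeometry.Morphisms.Flat

/-!
# Flatness over the base and flat diagonals
-/

set_option linter.style.haveILetI false
set_option backward.isDefEq.respectTransparency false
set_option backward.isDefEq.respectTransparency.types false

universe u

open TensorProduct

namespace Groth.Agent.DiagFlat13

open Groth.Agent.WEtLib

variable {A B : Type u} [CommRing A] [CommRing B] [Algebra A B]

variable (A B) in
/-- Partitions of unity on the diagonal, killing finitely many elements. -/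
def Split : Prop := ∀ s : Finset B, ∃ (k : ℕ) (u w : Fin k → B), ∑ i, u i * w i = 1 ∧
  ∀ b ∈ s, ∑ i, (b * u i) ⊗ₜ[A] w i = ∑ i, u i ⊗ₜ[A] (b * w i)

/-- A flat diagonal gives splittings. -/
theorem split_of_flat_lmul (h : (Algebra.TensorProduct.lmul' A (S := B)).Flat) : Split A B := by
  classical
  let μ := Algebra.TensorProduct.lmul' A (S := B)
  letI : Algebra (B ⊗[A] B) B := μ.toRingHom.toAlgebra
  haveI : Module.Flat (B ⊗[A] B) B := h
  let e := Ideal.quotientKerAlgEquivOfSurjective (f := Algebra.ofId (B ⊗[A] B) B)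
    (fun b => ⟨b ⊗ₜ 1, show μ (b ⊗ₜ 1) = b by simp [μ]⟩)
  haveI : (diag A B).Pure := Module.Flat.of_linearEquiv e.toLinearEquiv
  intro s
  obtain ⟨e, he, hes⟩ := exists_killer (A := A) (B := B) (s.image fun b => b ⊗ₜ[A] 1 - 1 ⊗ₜ[A] b)
    fun z hz => by
      obtain ⟨b, _, rfl⟩ := Finset.mem_image.1 hz
      simp [RingHom.mem_ker]
  obtain ⟨k, u, w, rfl⟩ := TensorProduct.exists_sum_tmul_eq e
  refine ⟨k, u, w, by simpa [map_sum] using he, fun b hb => ?_⟩
  have h := hes _ (Finset.mem_image_of_mem _ hb)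
  rw [sub_mul, sub_eq_zero, Finset.mul_sum, Finset.mul_sum] at h
  simpa [Algebra.TensorProduct.tmul_mul_tmul] using h

/-- Splittings pass to localisations. -/
theorem Split.localization (hsp : Split A B) {A' B' : Type u} [CommRing A'] [CommRing B']
    [Algebra A A'] [Algebra A' B'] [Algebra B B'] [Algebra A B'] [IsScalarTower A A' B']
    [IsScalarTower A B B'] (W : Submonoid B) [IsLocalization W B'] : Split A' B' := by
  classical
  intro s
  have hs : ∀ b : B', ∃ p : B × W, b * algebraMap B B' p.2 = algebraMap B B' p.1 :=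
    fun b => IsLocalization.surj W b
  choose p hp using hs
  obtain ⟨k, u, w, huw, h⟩ := hsp (s.image (fun b => (p b).1) ∪ s.image (fun b => ((p b).2 : B)))
  let ι := algebraMap B B'
  refine ⟨k, fun i => ι (u i), fun i => ι (w i), ?_, fun b hb => ?_⟩
  · rw [← map_one ι, ← huw, map_sum]
    exact Finset.sum_congr rfl fun i _ => (map_mul ι _ _).symm
  let g : B ⊗[A] B →ₗ[A] B' ⊗[A'] B' :=
    (TensorProduct.mapOfCompatibleSMul A' A A B' B').comp
      (TensorProduct.map (IsScalarTower.toAlgHom A B B').toLinearMap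
        (IsScalarTower.toAlgHom A B B').toLinearMap)
  have key : ∀ c : B, c ∈ (s.image (fun b => (p b).1) ∪ s.image (fun b => ((p b).2 : B))) →
      (∑ i, (ι c * ι (u i)) ⊗ₜ[A'] ι (w i)) = ∑ i, ι (u i) ⊗ₜ[A'] (ι c * ι (w i)) := fun c hc => by
    have h1 := congrArg g (h c hc)
    simpa [g, map_sum, ι] using h1
  have hu : IsUnit ((ι (p b).2) ⊗ₜ[A'] (1 : B')) :=
    (IsLocalization.map_units B' (p b).2).map (Algebra.TensorProduct.includeLeftRingHom (R := A') (B := B'))
  refine hu.mul_left_cancel ?_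
  have h1 := key (p b).1 (Finset.mem_union_left _ (Finset.mem_image_of_mem _ hb))
  have h2 := key ((p b).2 : B) (Finset.mem_union_right _ (Finset.mem_image_of_mem _ hb))
  calc (ι (p b).2 ⊗ₜ[A'] (1 : B')) * ∑ i, (b * ι (u i)) ⊗ₜ[A'] ι (w i)
      = ∑ i, (ι (p b).1 * ι (u i)) ⊗ₜ[A'] ι (w i) := by
        rw [Finset.mul_sum]
        refine Finset.sum_congr rfl fun i _ => ?_
        rw [Algebra.TensorProduct.tmul_mul_tmul, one_mul, ← hp b, mul_left_comm, mul_assoc]
    _ = ((1 : B') ⊗ₜ[A'] b) * ∑ i, ι (u i) ⊗ₜ[A'] (ι (p b).2 * ι (w i)) := by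
        rw [h1, Finset.mul_sum]
        refine Finset.sum_congr rfl fun i _ => ?_
        rw [Algebra.TensorProduct.tmul_mul_tmul, one_mul, ← hp b, mul_assoc]
    _ = (ι (p b).2 ⊗ₜ[A'] (1 : B')) * ∑ i, ι (u i) ⊗ₜ[A'] (b * ι (w i)) := by
        rw [← h2, Finset.mul_sum, Finset.mul_sum]
        refine Finset.sum_congr rfl fun i _ => ?_
        rw [Algebra.TensorProduct.tmul_mul_tmul, Algebra.TensorProduct.tmul_mul_tmul, one_mul,
          one_mul]

/-- Flatness over the base gives flatness. -/
theorem flat_of_split (hsp : Split A B) (N : Type u) [AddCommGroup N] [Module A N] [Module B N]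
    [IsScalarTower A B N] [Module.Flat A N] : Module.Flat B N := by
  classical
  refine Module.Flat.of_forall_isTrivialRelation fun {l f x} hfx => ?_
  obtain ⟨k, u, w, huw, hs⟩ := hsp (Finset.univ.image f)
  -- the relation vanishes in `B ⊗[A] N`
  have h0 : ∑ p : Fin l × Fin k, (f p.1 * u p.2) ⊗ₜ[A] (w p.2 • x p.1) = (0 : B ⊗[A] N) := by
    let ψ : ∀ n : N, B ⊗[A] B →ₗ[A] B ⊗[A] N := fun n =>
      TensorProduct.map LinearMap.id ((LinearMap.toSpanSingleton B N n).restrictScalars A)
    calc ∑ p : Fin l × Fin k, (f p.1 * u p.2) ⊗ₜ[A] (w p.2 • x p.1)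
        = ∑ i, ψ (x i) (∑ j, (f i * u j) ⊗ₜ[A] w j) := by
          simp [ψ, Fintype.sum_prod_type]
      _ = ∑ i, ψ (x i) (∑ j, u j ⊗ₜ[A] (f i * w j)) := by
          refine Finset.sum_congr rfl fun i _ => ?_
          rw [hs (f i) (Finset.mem_image_of_mem _ (Finset.mem_univ i))]
      _ = ∑ j, u j ⊗ₜ[A] (w j • ∑ i, f i • x i) := by
          simp only [ψ, map_sum, TensorProduct.map_tmul, LinearMap.id_apply, LinearMap.coe_restrictScalars,
            LinearMap.toSpanSingleton_apply, Finset.smul_sum, TensorProduct.tmul_sum]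
          rw [Finset.sum_comm]
          refine Finset.sum_congr rfl fun j _ => Finset.sum_congr rfl fun i _ => ?_
          rw [smul_smul, mul_comm (w j)]
      _ = 0 := by simp [hfx]
  obtain ⟨q, a, y, hay, ha0⟩ := vanishesTrivially_of_sum_tmul_eq_zero_of_rTensor_injective A
    (Module.Flat.rTensor_preserves_injective_linearMap _ Subtype.val_injective) h0
  refine ⟨q, fun i r => ∑ j, u j * algebraMap A B (a (i, j) r), y, fun i => ?_, fun r => ?_⟩
  · calc x i = (∑ j, u j * w j) • x i := by rw [huw, one_smul]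
      _ = ∑ j, u j • (w j • x i) := by rw [Finset.sum_smul]; simp [mul_smul]
      _ = ∑ j, ∑ r, u j • (a (i, j) r • y r) := by
          refine Finset.sum_congr rfl fun j _ => ?_
          rw [show w j • x i = ∑ r, a (i, j) r • y r from hay (i, j), Finset.smul_sum]
      _ = _ := by
          rw [Finset.sum_comm]
          refine Finset.sum_congr rfl fun r _ => ?_
          rw [Finset.sum_smul]
          refine Finset.sum_congr rfl fun j _ => ?_
          rw [mul_smul, algebraMap_smul]
  · rw [← ha0 r, Fintype.sum_prod_type]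
    refine Finset.sum_congr rfl fun i _ => ?_
    rw [Finset.mul_sum]
    refine Finset.sum_congr rfl fun j _ => ?_
    rw [Algebra.smul_def]
    ring

end Groth.Agent.DiagFlat13

open CategoryTheory CategoryTheory.Limits AlgebraicGeometry in
/-- Local rings of a morphism with flat diagonal. -/
theorem Groth.Agent.DiagFlat13.split_stalk {X Y : Scheme.{u}} (f : X ⟶ Y)
    [Flat (pullback.diagonal f)] (x : X) :
    letI := (f.stalkMap x).hom.toAlgebra
    Groth.Agent.DiagFlat13.Split (Y.presheaf.stalk (f x)) (X.presheaf.stalk x) := by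
  obtain ⟨V, hV, hxV, -⟩ := exists_isAffineOpen_mem_and_subset (X := Y) (x := f x) (U := ⊤) trivial
  obtain ⟨U, hU, hxU, hUV⟩ := exists_isAffineOpen_mem_and_subset (X := X) (x := x) (U := f ⁻¹ᵁ V) hxV
  have h1 : MorphismProperty.diagonal @Flat (f.resLE V U hUV) := by
    delta Scheme.Hom.resLE
    refine MorphismProperty.comp_mem _ _ _ ?_ ?_
    · show Flat (pullback.diagonal (X.homOfLE hUV))
      infer_instance
    · exact MorphismProperty.of_isPullback (P := MorphismProperty.diagonal @Flat)
        (isPullback_morphismRestrict f V).flip ‹_›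
  have h2 : MorphismProperty.diagonal @Flat (Spec.map (f.appLE V U hUV)) := by
    refine ((MorphismProperty.diagonal @Flat).arrow_mk_iso_iff (Arrow.isoMk hU.isoSpec hV.isoSpec ?_)).1 h1
    rw [IsAffineOpen.isoSpec_hom, IsAffineOpen.isoSpec_hom]
    exact Scheme.Opens.toSpecΓ_SpecMap_appLE ..
  letI := (f.appLE V U hUV).hom.toAlgebra
  have h3 : (Algebra.TensorProduct.lmul' Γ(Y, V) (S := Γ(X, U))).Flat := by
    rw [MorphismProperty.diagonal_iff, show f.appLE V U hUV =
      CommRingCat.ofHom (algebraMap Γ(Y, V) Γ(X, U)) from rfl, diagonal_SpecMap,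
      MorphismProperty.cancel_right_of_respectsIso (P := @Flat),
      HasRingHomProperty.Spec_iff (P := @Flat)] at h2
    exact h2
  letI := (f.stalkMap x).hom.toAlgebra
  letI := TopCat.Presheaf.algebra_section_stalk Y.presheaf (⟨f x, hxV⟩ : V)
  letI := TopCat.Presheaf.algebra_section_stalk X.presheaf (⟨x, hxU⟩ : U)
  haveI := hU.isLocalization_stalk ⟨x, hxU⟩
  letI : Algebra Γ(Y, V) (X.presheaf.stalk x) :=
    ((algebraMap Γ(X, U) (X.presheaf.stalk x)).comp (algebraMap Γ(Y, V) Γ(X, U))).toAlgebra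
  haveI : IsScalarTower Γ(Y, V) Γ(X, U) (X.presheaf.stalk x) := .of_algebraMap_eq fun _ => rfl
  haveI : IsScalarTower Γ(Y, V) (Y.presheaf.stalk (f x)) (X.presheaf.stalk x) :=
    .of_algebraMap_eq fun a => by
      show X.presheaf.germ U x hxU (f.appLE V U hUV a) = f.stalkMap x (Y.presheaf.germ V (f x) hxV a)
      rw [Scheme.Hom.germ_stalkMap_apply f V x hxV, Scheme.Hom.appLE, CommRingCat.comp_apply,
        X.presheaf.germ_res_apply]
  exact (Groth.Agent.DiagFlat13.split_of_flat_lmul h3).localization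
    (hU.primeIdealOf ⟨x, hxU⟩).asIdeal.primeCompl
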