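import Groth.Statements.S3492
import Groth.Agent.S3491
import Groth.Agent.CdLib.DimBound

set_option autoImplicit false
set_option backward.isDefEq.respectTransparency.types false
universe u
open CategoryTheory CategoryTheory.Limits AlgebraicGeometry Opposite
open EtCd

namespace Groth.Agent.S3492

/-- Let X be a Noetherian scheme, ℓ a prime and n a natural number such that (i) for every point y of
codimension c (dimension of the local ring) one has 2c ≤ n and cd_ℓ(κ(y)) ≤ n - 2c, and (ii) for all
points x, y with y in the closure of x and every strict henselization R of the local ring at y,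
putting A = R / p_x R (a strict localization of the closure of x with its reduced structure),
cd_ℓ(Frac(R/P)) ≤ dim A for every prime P of R minimal over p_x R. Then for every ℓ-primary torsion
abelian sheaf F whose geometric stalks vanish at all points of codimension < s, H^q(X, F) = 0 for q
> n - 2s; in particular (s = 0) cd_ℓ(X) ≤ n. -/
theorem result (X : Scheme.{u}) [IsNoetherian X] (ℓ : ℕ) (hℓ : ℓ.Prime) (n : ℕ)
    (h1 : ∀ (y : X) (c : ℕ), ringKrullDim (X.presheaf.stalk y) = c →
      2 * c ≤ n ∧ Dix.CohDimLEAt (Spec (X.residueField y)) ℓ (n - 2 * c))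
    (h2 : ∀ (x y : X) (hxy : x ⤳ y), ∀ (R : Type u) [CommRing R] [IsLocalRing R] [Algebra (X.presheaf.stalk y) R]
      [IsLocalHom (algebraMap (X.presheaf.stalk y) R)] [Hensel.IsStrictHenselization (X.presheaf.stalk y) R],
      ∀ P ∈ ((RingHom.ker (Cyc.specMap y x hxy)).map (algebraMap (X.presheaf.stalk y) R)).minimalPrimes,
        ∀ e : ℕ, ringKrullDim (R ⧸ (RingHom.ker (Cyc.specMap y x hxy)).map (algebraMap (X.presheaf.stalk y) R)) = e →
          Dix.CohDimLEAt (Spec (CommRingCat.of (FractionRing (R ⧸ P)))) ℓ e)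
    (s : ℕ) (F : EtCoh.Ab X) (hF : Dix.IsPrimaryTorsion ℓ F)
    (hs : ∀ y ∈ EtPBC.supp F, (s : WithBot ℕ∞) ≤ ringKrullDim (X.presheaf.stalk y))
    (q : ℕ) (hq : n < q + 2 * s) :
    Subsingleton (EtCoh.H X F q) := by
  have hc : ∀ y : X, ringKrullDim (X.presheaf.stalk y) = (DimFormula.codim y : ℕ) := fun y =>
    DimFormula.ringKrullDim_stalk y
  refine Groth.Agent.S3491.result X ℓ hℓ (fun y => n - 2 * DimFormula.codim y)
    (fun y => (h1 y _ (hc y)).2) (fun x y hxy hne R => ?_) F hF q fun y hy => ?_
  · intro _ _ _ _ _ P hP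
    obtain ⟨e, he, hle⟩ := CdLib.DimBound.exists_ringKrullDim_eq hxy R
    refine ⟨e, ?_, h2 x y hxy R P hP e he⟩
    have hlt : DimFormula.codim x < DimFormula.codim y := by
      have h1 := DimFormula.codim_mono_add hxy
      have h2 : DimFormula.cd x y ≠ 0 := fun h => hne ((DimFormula.cd_eq_zero_iff hxy).1 h)
      omega
    have := (h1 y _ (hc y)).1
    show e + 1 + (n - 2 * DimFormula.codim y) ≤ n - 2 * DimFormula.codim x
    omega
  · have h := hs y hy
    rw [hc y] at h
    have h' : s ≤ DimFormula.codim y := by exact_mod_cast h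
    have := (h1 y _ (hc y)).1
    show n - 2 * DimFormula.codim y < q
    omega

end Groth.Agent.S3492
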