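import Groth.Statements.S1766
import Groth.Agent.Dual59.RepMain
import Mathlib.CategoryTheory.Adjunction.PartialAdjoint
-- import your own Groth.Agent.* helpers here

set_option autoImplicit false
universe u
open CategoryTheory AlgebraicGeometry
attribute [local instance] HasDerivedCategory.standard
open Dual

namespace Groth.Agent.S1766

/-- Let f : X → Y be a morphism between schemes which are quasi-compact and quasi-separated. Assume the
total derived direct image Rf_* on D(O_X) exists and maps complexes with quasi-coherent cohomology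
sheaves to such complexes (both are theorems). Then the induced functor Rf_* : D_QCoh(O_X) →
D_QCoh(O_Y) is a left adjoint, i.e. it has a right adjoint (the twisted inverse image). -/
theorem result (X Y : Scheme.{u}) [CompactSpace X] [QuasiSeparatedSpace X] [CompactSpace Y] [QuasiSeparatedSpace Y] (f : X ⟶ Y) [DCoh.HasRpush f] (h : ∀ K : DCoh.D X, DCoh.IsQCohD K → DCoh.IsQCohD ((DCoh.Rpush f).obj K)) : (ObjectProperty.lift DCoh.IsQCohD (ObjectProperty.ι DCoh.IsQCohD ⋙ DCoh.Rpush f) (fun K => h K.obj K.property)).IsLeftAdjoint := by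
  classical
  haveI := Dual59.locallySmall_D Y
  haveI : QuasiCompact f := QuasiCompact.of_comp f (Limits.terminal.from Y)
  haveI : QuasiSeparated f := QuasiSeparated.of_quasiSeparatedSpace f
  obtain ⟨hadd, hex⟩ := Dual59.rpush_additive_exact f
  haveI := hadd
  let F := ObjectProperty.lift DCoh.IsQCohD (ObjectProperty.ι DCoh.IsQCohD ⋙ DCoh.Rpush f)
    (fun K => h K.obj K.property)
  refine F.isLeftAdjoint_of_rightAdjointObjIsDefined_eq_top ?_
  ext L
  simp only [Pi.top_apply, Prop.top_eq_true, iff_true]
  obtain ⟨B, e, hB, hb⟩ := Dual59.exists_univ (DCoh.Rpush f) hex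
    (fun J C hC => Dual59.preservesColimit_rpush f C hC) L.obj
  let B' : DCoh.DQCoh X := ⟨B, hB⟩
  let E : ∀ K : DCoh.DQCoh X, (K ⟶ B') ≃ (F.obj K ⟶ L) := fun K =>
    Equiv.ofBijective (fun a => ObjectProperty.homMk ((DCoh.Rpush f).map a.hom ≫ e))
      ⟨fun a b hab => ObjectProperty.hom_ext _ ((hb K.obj K.property).1 (congrArg (fun t => t.hom) hab)),
        fun c => by
          obtain ⟨a, ha⟩ := (hb K.obj K.property).2 c.hom
          exact ⟨ObjectProperty.homMk a, ObjectProperty.hom_ext _ ha⟩⟩
  exact Functor.RepresentableBy.isRepresentable (Y := B')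
    { homEquiv := fun {K} => E K
      homEquiv_comp := fun {K K'} a b => ObjectProperty.hom_ext _ (by
        show (DCoh.Rpush f).map (a.hom ≫ b.hom) ≫ e = (DCoh.Rpush f).map a.hom ≫ (DCoh.Rpush f).map b.hom ≫ e
        rw [Functor.map_comp, Category.assoc]) }

end Groth.Agent.S1766
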