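import Groth.Statements.S0646
import Groth.Agent.EtLimCore.PullSys

set_option autoImplicit false
open CategoryTheory CategoryTheory.Limits AlgebraicGeometry Opposite
universe u
open EtCore

set_option backward.isDefEq.respectTransparency false
set_option backward.isDefEq.respectTransparency.types false
set_option maxHeartbeats 800000

namespace Groth.Agent.S0646

/-- For systems of sheaves pulled back from one stage: let ι be a directed preordered set, (X_i) an
inverse system of quasi-compact quasi-separated schemes indexed by ι with affine transition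
morphisms, X a limit with projections f_i, i₀ an index and F₀ an abelian sheaf on the small etale
site of X_{i₀}. Then H^p(X, f_{i₀}^{-1} F₀) is the colimit of the groups H^p(X_j, F₀|_{X_j}) over j
≥ i₀, in the concrete sense: every class on X is pulled back from some X_j, and a class on X_j that
pulls back to zero on X already pulls back to zero on some X_k, k ≥ j. (The source allows general
systems of sheaves (F_i, φ_{i'i}); only systems pulled back from a single stage are stated.)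
(Exactness of pullback of abelian sheaves, which always holds, is carried as an instance
hypothesis.) -/
theorem result {ι : Type u} [Preorder ι] [IsDirected ι (· ≤ ·)] (Xs : ιᵒᵖ ⥤ Scheme.{u})
    (haff : ∀ ⦃a b : ιᵒᵖ⦄ (h : a ⟶ b), IsAffineHom (Xs.map h))
    (hqc : ∀ a, CompactSpace ↥(Xs.obj a)) (hqs : ∀ a, QuasiSeparatedSpace ↥(Xs.obj a))
    (c : Cone Xs) (hc : IsLimit c) (i₀ : ι) (F₀ : EtCoh.Ab (Xs.obj (op i₀))) (p : ℕ)
    [∀ a, PreservesFiniteLimits (EtCoh.pull (c.π.app a))]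
    [∀ ⦃a b : ιᵒᵖ⦄ (h : a ⟶ b), PreservesFiniteLimits (EtCoh.pull (Xs.map h))] :
    (∀ ξ : EtCoh.H c.pt ((EtCoh.pull (c.π.app (op i₀))).obj F₀) p,
      ∃ (j : ι) (hj : i₀ ≤ j) (ξj : EtCoh.H (Xs.obj (op j)) ((EtCoh.pull (Xs.map (homOfLE hj).op)).obj F₀) p),
        EtCore.HpullVia (c.π.app (op j)) (Xs.map (homOfLE hj).op) (c.π.app (op i₀)) (c.w (homOfLE hj).op) F₀ p ξj = ξ) ∧
    (∀ (j : ι) (hj : i₀ ≤ j) (ξj : EtCoh.H (Xs.obj (op j)) ((EtCoh.pull (Xs.map (homOfLE hj).op)).obj F₀) p),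
      EtCore.HpullVia (c.π.app (op j)) (Xs.map (homOfLE hj).op) (c.π.app (op i₀)) (c.w (homOfLE hj).op) F₀ p ξj = 0 →
        ∃ (k : ι) (hk : j ≤ k), EtCore.Hpull (Xs.map (homOfLE hk).op) _ p ξj = 0) := by
  let Y : Over (op i₀) ⥤ Scheme.{u} := Over.forget (op i₀) ⋙ Xs
  let c' : Cone Y := c.whisker (Over.forget (op i₀))
  let hc' : IsLimit c' := (Functor.Initial.isLimitWhiskerEquiv (Over.forget (op i₀)) c).symm hc
  haveI : ∀ {m n : Over (op i₀)} (f : m ⟶ n), IsAffineHom (Y.map f) := fun f => haff f.left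
  haveI : ∀ m, CompactSpace ↥(Y.obj m) := fun m => hqc m.left
  haveI : ∀ m, QuasiSeparatedSpace ↥(Y.obj m) := fun m => hqs m.left
  haveI : ∀ m, PreservesFiniteLimits (EtCoh.pull (c'.π.app m)) := fun m =>
    inferInstanceAs (PreservesFiniteLimits (EtCoh.pull (c.π.app m.left)))
  haveI : ∀ {m n : Over (op i₀)} (f : m ⟶ n), PreservesFiniteLimits (EtCoh.pull (Y.map f)) := fun f =>
    inferInstanceAs (PreservesFiniteLimits (EtCoh.pull (Xs.map f.left)))
  let t : ∀ m, Y.obj m ⟶ Xs.obj (op i₀) := fun m => Xs.map m.hom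
  have ht : ∀ {k l : Over (op i₀)} (a : l ⟶ k), Y.map a ≫ t k = t l := fun a =>
    (Xs.map_comp _ _).symm.trans (congrArg Xs.map (Over.w a))
  have hf : ∀ k, c'.π.app k ≫ t k = c.π.app (op i₀) := fun k => c.w k.hom
  let D := EtLimCore.pullData c' t ht (c.π.app (op i₀)) hf F₀
  have hD : D.sys.IsColim := EtLimCore.pullData_isColim c' t ht (c.π.app (op i₀)) hf F₀ (Over.mk (𝟙 _))
  have eψ : ∀ k, D.ψt k = EtLimCore.pullVia (c'.π.app k) (t k) (hf k) F₀ := fun k =>
    ((EtCoh.pullPushAdj (c'.π.app k)).homEquiv _ _).symm_apply_apply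
      (EtLimCore.pullVia (c'.π.app k) (t k) (hf k) F₀)
  refine ⟨fun ξ => ?_, fun j hj ξj h => ?_⟩
  · obtain ⟨⟨⟨j⟩, ⟨⟩, m⟩, -, ξ', hξ⟩ := D.exists_H hc' hD p ξ (Over.mk (𝟙 _))
    rw [eψ] at hξ
    obtain ⟨h, rfl⟩ : ∃ h : i₀ ≤ j, m = (homOfLE h).op := ⟨m.unop.le, Subsingleton.elim _ _⟩
    exact ⟨j, _, ξ', hξ⟩
  · have h' : EtLim.HpullThen (c'.π.app (Over.mk (homOfLE hj).op)) (D.G _) (D.ψt _) p ξj = 0 := by
      rw [eψ]
      exact h
    obtain ⟨⟨⟨l⟩, ⟨⟩, m⟩, a, ha⟩ := D.exists_H_eq_zero hc' hD p (Over.mk (homOfLE hj).op) ξj h'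
    refine ⟨l, a.left.unop.le, ?_⟩
    rw [show (homOfLE a.left.unop.le).op = a.left from Subsingleton.elim _ _]
    have e : ((EtCoh.pullPushAdj (Y.map a)).homEquiv _ _).symm (D.φ a) =
        EtLimCore.pullVia (Y.map a) (t _) (ht a) F₀ :=
      ((EtCoh.pullPushAdj (Y.map a)).homEquiv _ _).symm_apply_apply
        (EtLimCore.pullVia (Y.map a) (t _) (ht a) F₀)
    rw [e] at ha
    refine ((ConcreteCategory.isIso_iff_bijective
      ((EtCoh.HF (Y.obj _) p).map (EtLimCore.pullVia (Y.map a) (t _) (ht a) F₀))).1 inferInstance).1 ?_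
    exact ha.trans (map_zero _).symm

end Groth.Agent.S0646
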