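import Groth.Statements.S0625
import Groth.Agent.EtCore73.SplitClosed
-- import your own Groth.Agent.* helpers here

set_option autoImplicit false
open CategoryTheory CategoryTheory.Limits AlgebraicGeometry Opposite
universe u
open EtCore

namespace Groth.Agent.S0625

/-- Let X be an affine integral normal scheme whose function field is separably closed and Z -> X a
closed immersion. Every surjective finite etale morphism V -> Z has a section. -/
theorem result {V Z X : Scheme.{u}} [IsAffine X] [IsIntegral X]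
    (hN : ∀ x : X, IsIntegrallyClosed (X.presheaf.stalk x)) [IsSepClosed X.functionField]
    (i : Z ⟶ X) [IsClosedImmersion i] (φ : V ⟶ Z) [AlgebraicGeometry.Etale φ] [IsFinite φ] [Surjective φ] :
    ∃ s : Z ⟶ V, s ≫ φ = 𝟙 Z := by
  have : IsAffine Z := isAffine_of_isAffineHom i
  have : IsAffine V := isAffine_of_isAffineHom φ
  obtain ⟨ι, hι, W, e, he⟩ := Groth.Agent.EtCore73.exists_split_affine hN i φ
  let T := fun k => (W k : Scheme.{u})
  let c : ∀ k, T k ⟶ V := fun k => Sigma.ι T k ≫ e.hom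
  have hc : ∀ k, c k ≫ φ = (W k).ι := fun k => (Category.assoc _ _ _).trans (he k)
  have hcφ : ∀ k (w : W k), φ.base ((c k).base w) = w.1 := fun k w =>
    (Scheme.Hom.comp_apply (c k) φ w).symm.trans (congrArg (fun f : T k ⟶ Z => f.base w) (hc k))
  have hcov : ∀ v, ∃ k w, (c k).base w = v := fun v => by
    obtain ⟨k, w, hw⟩ := (sigmaOpenCover T).exists_eq (e.inv.base v)
    refine ⟨k, w, ?_⟩
    show (Sigma.ι T k ≫ e.hom).base w = v
    refine (Scheme.Hom.comp_apply _ _ _).trans ((congrArg e.hom.base hw).trans ?_)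
    exact (Scheme.Hom.comp_apply e.inv e.hom v).symm.trans (congrArg (fun f => f.base v) e.inv_hom_id)
  have hdj : ∀ k k' a b, (c k).base a = (c k').base b → k = k' := fun k k' a b h => by
    by_contra hne
    have h2 : (Sigma.ι T k).base a = (Sigma.ι T k').base b := e.hom.homeomorph.injective
      (((Scheme.Hom.comp_apply _ _ a).symm.trans h).trans (Scheme.Hom.comp_apply _ _ b))
    exact (disjoint_opensRange_sigmaι T k k' hne).le_bot ⟨⟨a, rfl⟩, ⟨b, h2.symm⟩⟩
  -- each member of the splitting is closed in `Z`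
  have hWcl : ∀ k, IsClosed (W k : Set Z) := fun k => by
    have h1 : Set.range (c k).base = (⋃ k' ∈ {k' | k' ≠ k}, Set.range (c k').base)ᶜ := by
      ext v
      simp only [Set.mem_compl_iff, Set.mem_iUnion, Set.mem_setOf_eq, exists_prop]
      constructor
      · rintro ⟨a, rfl⟩ ⟨k', hk', b, hb⟩
        exact hk' (hdj _ _ b a hb)
      · intro hv
        obtain ⟨k', w, rfl⟩ := hcov v
        by_cases h : k' = k
        · subst h; exact ⟨w, rfl⟩
        · exact (hv ⟨k', h, w, rfl⟩).elim
    have h2 : IsClosed (Set.range (c k).base) := by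
      rw [h1, isClosed_compl_iff]
      exact isOpen_biUnion fun k' _ => (c k').isOpenEmbedding.isOpen_range
    have h3 : (W k : Set Z) = φ.base '' Set.range (c k).base := by
      rw [← Set.range_comp]
      ext z
      constructor
      · intro hz
        exact ⟨⟨z, hz⟩, hcφ k _⟩
      · rintro ⟨w, rfl⟩
        show φ.base ((c k).base w) ∈ W k
        exact Set.mem_of_eq_of_mem (hcφ k w) w.2
    rw [h3]
    exact φ.isClosedMap _ h2
  have hWcov : ∀ z, ∃ k, z ∈ W k := fun z => by
    obtain ⟨v, rfl⟩ := φ.surjective z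
    obtain ⟨k, w, rfl⟩ := hcov v
    refine ⟨k, ?_⟩
    exact Set.mem_of_eq_of_mem (hcφ k w) w.2
  obtain ⟨n, ⟨eι⟩⟩ := Finite.exists_equiv_fin ι
  -- disjointification
  let P : Fin n → Z.Opens := fun a => ⟨(W (eι.symm a) : Set Z) ∩ (⋃ b ∈ {b | b < a}, (W (eι.symm b) : Set Z))ᶜ,
    (W (eι.symm a)).2.inter ((Set.toFinite _).isClosed_biUnion fun b _ => hWcl _).isOpen_compl⟩
  have hle : ∀ a, P a ≤ W (eι.symm a) := fun a => Set.inter_subset_left
  let cmap : ∀ a : ULift.{u} (Fin n), (P a.down : Scheme.{u}) ⟶ Z := fun a => (P a.down).ι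
  have hdisj : Pairwise fun a b : ULift.{u} (Fin n) =>
      Disjoint (Set.range (cmap a).base) (Set.range (cmap b).base) := fun a b hab => by
    simp only [cmap, Scheme.Opens.range_ι]
    rw [Set.disjoint_left]
    intro z ha hb
    rcases lt_or_gt_of_ne (fun h : a.down = b.down => hab (ULift.ext _ _ h)) with h | h
    · exact hb.2 (Set.mem_biUnion h ha.1)
    · exact ha.2 (Set.mem_biUnion h hb.1)
  have : IsOpenImmersion (Sigma.desc cmap) := isOpenImmersion_sigmaDesc _ cmap hdisj
  have : Surjective (Sigma.desc cmap) := ⟨fun z => by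
    classical
    have hne : (Finset.univ.filter fun a => z ∈ W (eι.symm a)).Nonempty := by
      obtain ⟨k, hk⟩ := hWcov z
      exact ⟨eι k, by simpa using hk⟩
    let a := (Finset.univ.filter fun a => z ∈ W (eι.symm a)).min' hne
    have ha : z ∈ W (eι.symm a) := (Finset.mem_filter.1 (Finset.min'_mem _ hne)).2
    have hzP : z ∈ P a := ⟨ha, fun h => by
      obtain ⟨b, hb, hzb⟩ := Set.mem_iUnion₂.1 h
      exact not_lt.2 (Finset.min'_le _ b (Finset.mem_filter.2 ⟨Finset.mem_univ _, hzb⟩)) hb⟩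
    refine ⟨(Sigma.ι (fun a : ULift.{u} (Fin n) => (P a.down : Scheme.{u})) ⟨a⟩).base ⟨z, hzP⟩, ?_⟩
    exact (Scheme.Hom.comp_apply _ _ _).symm.trans
      (congrArg (fun f : (P a : Scheme.{u}) ⟶ Z => f.base ⟨z, hzP⟩) (Sigma.ι_desc cmap ⟨a⟩))⟩
  have : IsIso (Sigma.desc cmap) := (isIso_iff_isOpenImmersion_and_surjective _).2 ⟨inferInstance, inferInstance⟩
  refine ⟨inv (Sigma.desc cmap) ≫ Sigma.desc (fun a => Z.homOfLE (hle a.down) ≫ c (eι.symm a.down)), ?_⟩
  rw [Category.assoc, IsIso.inv_comp_eq, Category.comp_id]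
  refine Sigma.hom_ext _ _ fun a => ?_
  rw [Sigma.ι_desc_assoc, Sigma.ι_desc, Category.assoc, hc, Scheme.homOfLE_ι]

end Groth.Agent.S0625
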