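import Groth.Statements.S4851
import Groth.Agent.FibInj.Sheaf
-- import your own Groth.Agent.* helpers here

set_option autoImplicit false
set_option linter.style.haveILetI false
universe u
open EGA43

namespace Groth.Agent.S4851

open AlgebraicGeometry CategoryTheory Limits in
/-- Let f : X ⟶ Y be locally of finite presentation, F and F' quasi-coherent O_X-modules of finite
presentation and u : F' ⟶ F a homomorphism. Then the set of points x of X at which the stalk map u_x
is injective and Coker u is f-flat at x is open in X. (No flatness hypothesis on F is made; the form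
of this openness statement in which F is moreover assumed f-flat is a special case.) -/
theorem result {X Y : Scheme.{u}} (f : X ⟶ Y)
    [LocallyOfFinitePresentation f] (F F' : X.Modules) [Coh.IsQCoh F] [Coh.IsQCoh F']
    (hF : CohB1.IsFP F) (hF' : CohB1.IsFP F') (u : F' ⟶ F) :
    IsOpen {x : X | Function.Injective ((TopCat.Presheaf.stalkFunctor Ab x).map (Scheme.Modules.Hom.mapPresheaf u)) ∧
      FlatMod.IsFlatOverAt f (cokernel u) x} := by
  classical
  rw [isOpen_iff_forall_mem_open]
  intro x hx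
  obtain ⟨_, ⟨V, hV, rfl⟩, hxV, -⟩ :=
    Y.isBasis_affineOpens.exists_subset_of_mem_open (Set.mem_univ (f.base x)) isOpen_univ
  have hV : IsAffineOpen V := hV
  obtain ⟨_, ⟨U, hU, rfl⟩, hxU, hle⟩ :=
    X.isBasis_affineOpens.exists_subset_of_mem_open (show x ∈ f ⁻¹ᵁ V from hxV) (f ⁻¹ᵁ V).2
  have hU : IsAffineOpen U := hU
  letI : Algebra Γ(Y, V) Γ(X, U) := (f.appLE V U hle).hom.toAlgebra
  letI : Module Γ(Y, V) Γ(F, U) := Module.compHom _ (f.appLE V U hle).hom
  haveI : IsScalarTower Γ(Y, V) Γ(X, U) Γ(F, U) := IsScalarTower.of_algebraMap_smul fun _ _ => rfl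
  haveI : Algebra.FinitePresentation Γ(Y, V) Γ(X, U) := f.finitePresentation_appLE hV hU hle
  haveI : Module.FinitePresentation Γ(X, U) Γ(F, U) := Groth.Agent.QCoh.finitePresentation_of_isFP hF hU
  haveI : Module.FinitePresentation Γ(X, U) Γ(F', U) := Groth.Agent.QCoh.finitePresentation_of_isFP hF' hU
  obtain ⟨hxi, hxf⟩ := hx
  obtain ⟨g, hg, hW⟩ := Groth.Agent.FibInj.exists_nhd_of_flat_coker (A := Γ(Y, V))
    (Groth.Agent.FibInj.uU (U := U) u) (hU.primeIdealOf ⟨x, hxU⟩).asIdeal
    ((Groth.Agent.FibInj.injective_iff u x hU hxU inferInstance inferInstance).1 hxi)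
    ((Groth.Agent.FibInj.flat_coker_iff f u x hU hV hle hxU inferInstance inferInstance).1 hxf)
  refine ⟨X.basicOpen g, fun y hy => ?_, (X.basicOpen g).2,
    (Groth.Agent.QCoh.mem_basicOpen_iff_notMem hU hxU g).2 hg⟩
  have hyU : y ∈ U := X.basicOpen_le g hy
  obtain ⟨h1, h2⟩ := hW (hU.primeIdealOf ⟨y, hyU⟩).asIdeal.primeCompl ((Groth.Agent.QCoh.mem_basicOpen_iff_notMem hU hyU g).1 hy)
  exact ⟨(Groth.Agent.FibInj.injective_iff u y hU hyU inferInstance inferInstance).2 h1,
    (Groth.Agent.FibInj.flat_coker_iff f u y hU hV hle hyU inferInstance inferInstance).2 h2⟩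

end Groth.Agent.S4851
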