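import Groth.Statements.S4980
import Groth.Agent.FibLength.Scheme
import Groth.Agent.AssLib.FlatFibre
import Groth.Agent.AssLib2.Filtration
import Groth.Agent.QCoh.Pullback
import Groth.Agent.ZClosLib.CohDescent

set_option autoImplicit false
set_option linter.style.haveILetI false
set_option backward.isDefEq.respectTransparency false
set_option backward.isDefEq.respectTransparency.types false

open CategoryTheory AlgebraicGeometry CategoryTheory.Limits IsLocalRing
universe u
open EGA43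

namespace Groth.Agent.S4980

open Groth.Agent

section Setup

variable {A : Type u} [CommRing A] [IsDomain A]
  {X : Scheme.{u}} (f : X ⟶ Spec (CommRingCat.of A))

theorem primeIdealOf_generic :
    ((isAffineOpen_top (Spec (CommRingCat.of A))).primeIdealOf ⟨genericPoint (Spec (CommRingCat.of A)), trivial⟩).asIdeal = ⊥ := by
  refine eq_bot_iff.2 fun a ha => ?_
  rw [FibLength.mem_primeIdealOf_top, genericPoint_eq_bot_of_affine] at ha
  have h : (Scheme.ΓSpecIso (CommRingCat.of A)).hom a = 0 := ha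
  exact (Scheme.ΓSpecIso (CommRingCat.of A)).commRingCatIsoToRingEquiv.injective (h.trans (map_zero _).symm)

theorem primeIdealOf_closed [IsLocalRing A] {ϖ : A} (hϖ : maximalIdeal A = Ideal.span {ϖ}) :
    ((isAffineOpen_top (Spec (CommRingCat.of A))).primeIdealOf ⟨(closedPoint A : ↥(Spec (CommRingCat.of A))), trivial⟩).asIdeal =
      Ideal.span {(Scheme.ΓSpecIso (CommRingCat.of A)).inv ϖ} := by
  ext a
  refine (FibLength.mem_primeIdealOf_top (A := CommRingCat.of A) (closedPoint A) a).trans ?_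
  show (Scheme.ΓSpecIso (CommRingCat.of A)).hom a ∈ maximalIdeal A ↔ _
  rw [hϖ, Ideal.mem_span_singleton, Ideal.mem_span_singleton]
  constructor
  · rintro ⟨c, hc⟩
    refine ⟨(Scheme.ΓSpecIso (CommRingCat.of A)).inv c, ?_⟩
    rw [← Iso.hom_inv_id_apply (Scheme.ΓSpecIso (CommRingCat.of A)) a, hc, ← map_mul]
  · rintro ⟨c, rfl⟩
    exact ⟨(Scheme.ΓSpecIso (CommRingCat.of A)).hom c, by rw [map_mul, Iso.inv_hom_id_apply]⟩

theorem fibIdeal_eq (x : X) (s : Spec (CommRingCat.of A)) (hx : f x = s) :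
    Codepth5.fibIdeal f x = (((isAffineOpen_top (Spec (CommRingCat.of A))).primeIdealOf ⟨s, trivial⟩).asIdeal.map
      (f.app ⊤).hom).map (X.presheaf.germ (f ⁻¹ᵁ ⊤) x trivial).hom := by
  subst hx
  letI := QCoh.stalkAlg (X := Spec (CommRingCat.of A)) (U := ⊤) (x := f x) trivial
  haveI := QCoh.isLocalization_stalk' (isAffineOpen_top (Spec (CommRingCat.of A))) (x := f x) trivial
  rw [Codepth5.fibIdeal, ← IsLocalization.AtPrime.map_eq_maximalIdeal
    ((isAffineOpen_top (Spec (CommRingCat.of A))).primeIdealOf ⟨f x, trivial⟩).asIdeal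
    ((Spec (CommRingCat.of A)).presheaf.stalk (f x)), Ideal.map_map, Ideal.map_map]
  congr 1
  exact RingHom.ext fun a => Scheme.Hom.germ_stalkMap_apply f ⊤ x trivial a

theorem fibIdeal_generic (x : X) (hx : f x = genericPoint (Spec (CommRingCat.of A))) :
    Codepth5.fibIdeal f x = ⊥ := by
  rw [fibIdeal_eq f x _ hx, primeIdealOf_generic, Ideal.map_bot, Ideal.map_bot]

theorem fibIdeal_closed [IsLocalRing A] {ϖ : A} (hϖ : maximalIdeal A = Ideal.span {ϖ}) (x : X)
    (hx : f x = closedPoint A) {U : X.Opens} (hxU : x ∈ U) :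
    Codepth5.fibIdeal f x = (Ideal.span {X.presheaf.map (homOfLE (le_top : U ≤ f ⁻¹ᵁ ⊤)).op
      (f.app ⊤ ((Scheme.ΓSpecIso (CommRingCat.of A)).inv ϖ))}).map (X.presheaf.germ U x hxU).hom := by
  rw [fibIdeal_eq f x _ hx, primeIdealOf_closed hϖ, Ideal.map_span, Ideal.map_span, Ideal.map_span,
    Set.image_singleton, Set.image_singleton, Set.image_singleton]
  congr 2
  exact (X.presheaf.germ_res_apply _ _ _ _).symm

theorem isSMulRegular_sections (F : X.Modules) (hflat : FlatMod.IsFlatOver f F) {a : A} (ha : a ≠ 0)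
    (U : X.Opens) :
    IsSMulRegular Γ(F, U) (X.presheaf.map (homOfLE (le_top : U ≤ f ⁻¹ᵁ ⊤)).op
      (f.app ⊤ ((Scheme.ΓSpecIso (CommRingCat.of A)).inv a))) := by
  refine fun s s' hss => sub_eq_zero.1 (TopCat.Presheaf.section_ext ⟨F.presheaf, F.isSheaf⟩ U _ _ fun w hw => ?_)
  show F.presheaf.germ U w hw (s - s') = F.presheaf.germ U w hw 0
  let t₀ := (Scheme.ΓSpecIso (CommRingCat.of A)).inv a
  letI := FlatMod.moduleStalkOver f F w
  haveI hfl : Module.Flat ((Spec (CommRingCat.of A)).presheaf.stalk (f w)) (F.presheaf.stalk w) := hflat w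
  have hne : (Spec (CommRingCat.of A)).presheaf.germ ⊤ (f w) trivial t₀ ≠ 0 := fun h => ha (by
    have h2 : t₀ = 0 := germ_injective_of_isIntegral (Spec (CommRingCat.of A)) (U := ⊤) (f w) trivial
      (h.trans (map_zero _).symm)
    rw [← Iso.inv_hom_id_apply (Scheme.ΓSpecIso (CommRingCat.of A)) a]
    exact (congrArg _ h2).trans (map_zero _))
  have hreg := Module.Flat.isSMulRegular_of_nonZeroDivisors (M := F.presheaf.stalk w)
    (mem_nonZeroDivisors_of_ne_zero hne)
  rw [map_zero]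
  refine hreg (Eq.trans ?_ (smul_zero _).symm)
  show (f.stalkMap w).hom ((Spec (CommRingCat.of A)).presheaf.germ ⊤ (f w) trivial t₀) • F.presheaf.germ U w hw (s - s') = 0
  rw [Scheme.Hom.germ_stalkMap_apply]
  erw [← X.presheaf.germ_res_apply (homOfLE (le_top : U ≤ f ⁻¹ᵁ ⊤)) w hw]
  rw [← QCoh.germ_smul' F hw]
  rw [show (X.presheaf.map (homOfLE (le_top : U ≤ f ⁻¹ᵁ ⊤)).op (f.app ⊤ t₀)) • (s - s') = 0 from
    (smul_sub _ s s').trans (sub_eq_zero.2 hss), map_zero]

end Setup

section Main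

variable {A : Type u} [CommRing A] [IsDomain A] [IsDiscreteValuationRing A]
  {X : Scheme.{u}} (f : X ⟶ Spec (CommRingCat.of A)) [IsProper f] (F : X.Modules)

/-- Every maximal point of the support on the generic fibre specializes to one on the closed fibre. -/
theorem exists_special (hF : Coh.IsCoh F) (hflat : FlatMod.IsFlatOver f F) [IsLocallyNoetherian X]
    (hemb : AssSch.NoEmbedded ((Scheme.Modules.pullback (f.fiberι (closedPoint A : ↥(Spec (CommRingCat.of A))))).obj F))
    (x' : X) (hx' : f x' = genericPoint (Spec (CommRingCat.of A))) (hs : x' ∈ CohB1.support F)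
    (hmax : ∀ t ∈ CohB1.support F, t ⤳ x' → t = x') :
    ∃ z : ↥(f.fiber (closedPoint A : ↥(Spec (CommRingCat.of A)))),
      (Nontrivial (((Scheme.Modules.pullback (f.fiberι (closedPoint A : ↥(Spec (CommRingCat.of A))))).obj F).presheaf.stalk z) ∧
        ∀ w, Nontrivial (((Scheme.Modules.pullback (f.fiberι (closedPoint A : ↥(Spec (CommRingCat.of A))))).obj F).presheaf.stalk w) →
          z ∈ closure {w} → w = z) ∧
      x' ⤳ f.fiberι _ z := by
  let y : ↥(Spec (CommRingCat.of A)) := closedPoint A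
  have hyy : (genericPoint (Spec (CommRingCat.of A))) ⤳ y := genericPoint_specializes _
  obtain ⟨x₀, hx₀s, hx₀y⟩ : ∃ x₀, x' ⤳ x₀ ∧ f x₀ = y := by
    have hcl : IsClosed (f '' closure {x'}) := f.isClosedMap _ isClosed_closure
    have : y ∈ f '' closure {x'} := (hx' ▸ hyy).mem_closed hcl ⟨x', subset_closure rfl, rfl⟩
    obtain ⟨x₀, h1, h2⟩ := this
    exact ⟨x₀, specializes_iff_mem_closure.2 h1, h2⟩
  obtain ⟨U, hU, hx₀U, -⟩ := exists_isAffineOpen_mem_and_subset (x := x₀) (U := ⊤) trivial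
  have hx'U : x' ∈ U := hx₀s.mem_open U.2 hx₀U
  obtain ⟨ϖ, hϖ⟩ := IsDiscreteValuationRing.exists_irreducible A
  have hϖm := (IsDiscreteValuationRing.irreducible_iff_uniformizer ϖ).1 hϖ
  let t : Γ(X, U) := X.presheaf.map (homOfLE (le_top : U ≤ f ⁻¹ᵁ ⊤)).op
    (f.app ⊤ ((Scheme.ΓSpecIso (CommRingCat.of A)).inv ϖ))
  have ht := isSMulRegular_sections f F hflat hϖ.ne_zero U
  haveI : IsNoetherianRing Γ(X, U) := IsLocallyNoetherian.component_noetherian ⟨U, hU⟩
  haveI : Module.Finite Γ(X, U) Γ(F, U) := QCoh.finite_sections hF hU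
  have hassx' : x' ∈ AssSch.Ass F := by
    obtain ⟨a, ha, hax⟩ := AssLib.exists_ass_specializes hF.1 hs
    exact hmax a (AssLib.mem_support_of_mem_ass ha) hax ▸ ha
  let p := (hU.primeIdealOf ⟨x', hx'U⟩).asIdeal
  let q₀ := (hU.primeIdealOf ⟨x₀, hx₀U⟩).asIdeal
  have hpass : p ∈ associatedPrimes Γ(X, U) Γ(F, U) := (AssLib.mem_ass_iff hF.1 hU hx'U).1 hassx'
  have htmem : ∀ (w : X) (hw : w ∈ U), f w = y → t ∈ (hU.primeIdealOf ⟨w, hw⟩).asIdeal := fun w hw hwy => by
    rw [← AssLib.comap_maximalIdeal_stalk hU hw, Ideal.mem_comap]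
    have h1 : Codepth5.fibIdeal f w ≤ maximalIdeal _ := Ideal.map_le_iff_le_comap.2 fun a ha =>
      map_nonunit (f.stalkMap w).hom a ha
    refine h1 ?_
    rw [fibIdeal_closed f hϖm w hwy hw]
    exact Ideal.mem_map_of_mem _ (Ideal.mem_span_singleton_self _)
  have hle : p ⊔ Ideal.span {t} ≤ q₀ := sup_le ((AssLib.primeIdealOf_le_iff hU hx₀U hx'U).2 hx₀s)
    ((Ideal.span_singleton_le_iff_mem _).2 (htmem x₀ hx₀U hx₀y))
  obtain ⟨q, hq, hqq₀⟩ := Ideal.exists_minimalPrimes_le hle
  have hqass := FibLength.mem_associatedPrimes_quotient (M := Γ(F, U)) ht hpass hq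
  obtain ⟨x, hxU, hxq⟩ := QCoh.exists_point hU ⟨q, hq.1.1⟩
  have hxq' : (hU.primeIdealOf ⟨x, hxU⟩).asIdeal = q := congrArg PrimeSpectrum.asIdeal hxq
  have hx'x : x' ⤳ x := (AssLib.primeIdealOf_le_iff hU hxU hx'U).1 (hxq' ▸ le_sup_left.trans hq.1.2)
  have hfx : f x = y := by
    by_contra hne
    have hfx : f x = genericPoint (Spec (CommRingCat.of A)) := by
      refine PrimeSpectrum.ext ?_
      rw [genericPoint_eq_bot_of_affine]
      by_contra hb
      exact hne (PrimeSpectrum.ext (IsLocalRing.eq_maximalIdeal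
        (Ideal.IsPrime.isMaximal_of_ne_bot (f x : PrimeSpectrum A).isPrime hb)))
    have htx : t ∈ (hU.primeIdealOf ⟨x, hxU⟩).asIdeal :=
      hxq' ▸ hq.1.2 (Ideal.mem_sup_right (Ideal.mem_span_singleton_self t))
    have hb : x ∉ X.basicOpen t := fun h => (QCoh.mem_basicOpen_iff_notMem hU hxU t).1 h htx
    refine hb ?_
    rw [Scheme.basicOpen_res, ← Scheme.preimage_basicOpen]
    refine ⟨hxU, ?_⟩
    show f x ∈ (Spec (CommRingCat.of A)).basicOpen ((Scheme.ΓSpecIso (CommRingCat.of A)).inv ϖ)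
    rw [basicOpen_eq_of_affine, hfx, genericPoint_eq_bot_of_affine]
    exact fun h => hϖ.ne_zero h
  obtain ⟨z, hz⟩ : ∃ z, f.fiberι y z = x := by
    have : x ∈ Set.range (f.fiberι y) := by rw [Scheme.Hom.range_fiberι]; exact hfx
    exact this
  refine ⟨z, ?_, hz.symm ▸ hx'x⟩
  let G := (Scheme.Modules.pullback (f.fiberι y)).obj F
  haveI : LocallyOfFiniteType (f.fiberToSpecResidueField y) := MorphismProperty.pullback_snd f _ inferInstance
  haveI : IsLocallyNoetherian (f.fiber y) := LocallyOfFiniteType.isLocallyNoetherian (f.fiberToSpecResidueField y)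
  have hzass : z ∈ AssSch.Ass G := by
    rw [AssLib2.mem_ass_fibre_iff f x F y z hz]
    exact FibLength.soc_quotient_of_mem_associatedPrimes hF.1 hU hxU (Ideal.span {t}) _
      (fibIdeal_closed f hϖm x hfx hxU) (hxq'.symm ▸ hqass)
  refine ⟨not_subsingleton_iff_nontrivial.1 (AssLib.mem_support_of_mem_ass hzass), fun w hw hzw => ?_⟩
  obtain ⟨a, ha, haw⟩ := AssLib.exists_ass_specializes (M := G) (QCoh.isQCoh_pullback _ hF.1)
    (x := w) (not_subsingleton_iff_nontrivial.2 hw)
  have haz : a ⤳ z := haw.trans (specializes_iff_mem_closure.2 hzw)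
  obtain rfl := hemb z hzass a ha haz
  exact ((specializes_iff_mem_closure.2 hzw).antisymm haw).eq

theorem finite_maximal (hF : Coh.IsCoh F) (s : ↥(Spec (CommRingCat.of A))) :
    Finite {v : ↥(f.fiber s) // Nontrivial (((Scheme.Modules.pullback (f.fiberι s)).obj F).presheaf.stalk v) ∧
      ∀ w : ↥(f.fiber s), Nontrivial (((Scheme.Modules.pullback (f.fiberι s)).obj F).presheaf.stalk w) → v ∈ closure {w} → w = v} := by
  haveI : LocallyOfFiniteType (f.fiberToSpecResidueField s) := MorphismProperty.pullback_snd f _ inferInstance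
  haveI : QuasiCompact (f.fiberToSpecResidueField s) := MorphismProperty.pullback_snd f _ inferInstance
  haveI : IsLocallyNoetherian (f.fiber s) := LocallyOfFiniteType.isLocallyNoetherian (f.fiberToSpecResidueField s)
  haveI : CompactSpace ↥(f.fiber s) := QuasiCompact.compactSpace_of_compactSpace (f.fiberToSpecResidueField s)
  have hG : Coh.IsCoh ((Scheme.Modules.pullback (f.fiberι s)).obj F) := ZClosLib.isCoh_pullback _ hF
  haveI := (AssLib2.finite_ass _ hG).to_subtype
  refine Finite.of_injective (β := ↥(AssSch.Ass ((Scheme.Modules.pullback (f.fiberι s)).obj F)))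
    (fun v => ⟨v.1, ?_⟩) fun v v' h => Subtype.ext (congrArg (Subtype.val) h :)
  obtain ⟨a, ha, hav⟩ := AssLib.exists_ass_specializes hG.1 (not_subsingleton_iff_nontrivial.2 v.2.1)
  exact v.2.2 a (not_subsingleton_iff_nontrivial.1 (AssLib.mem_support_of_mem_ass ha))
    (specializes_iff_mem_closure.1 hav) ▸ ha

end Main

theorem result {A : Type u} [CommRing A] [IsDomain A]
    [IsDiscreteValuationRing A] {X : Scheme.{u}} (f : X ⟶ Spec (CommRingCat.of A)) [IsProper f] (F : X.Modules)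
    (hF : Coh.IsCoh F) (hflat : FlatMod.IsFlatOver f F)
    (hemb : AssSch.NoEmbedded ((Scheme.Modules.pullback (f.fiberι (IsLocalRing.closedPoint A))).obj F)) :
    letI y : ↥(Spec (CommRingCat.of A)) := IsLocalRing.closedPoint A
    letI y' : ↥(Spec (CommRingCat.of A)) := genericPoint (Spec (CommRingCat.of A))
    ∑ᶠ z' : {v : ↥(f.fiber y') // Nontrivial (((Scheme.Modules.pullback (f.fiberι y')).obj F).presheaf.stalk v) ∧
        ∀ w : ↥(f.fiber y'), Nontrivial (((Scheme.Modules.pullback (f.fiberι y')).obj F).presheaf.stalk w) → v ∈ closure {w} → w = v},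
        Module.length ((f.fiber y').presheaf.stalk z'.1) (((Scheme.Modules.pullback (f.fiberι y')).obj F).presheaf.stalk z'.1) ≤
      ∑ᶠ z : {v : ↥(f.fiber y) // Nontrivial (((Scheme.Modules.pullback (f.fiberι y)).obj F).presheaf.stalk v) ∧
        ∀ w : ↥(f.fiber y), Nontrivial (((Scheme.Modules.pullback (f.fiberι y)).obj F).presheaf.stalk w) → v ∈ closure {w} → w = v},
        Module.length ((f.fiber y).presheaf.stalk z.1) (((Scheme.Modules.pullback (f.fiberι y)).obj F).presheaf.stalk z.1) := by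
  classical
  haveI : IsLocallyNoetherian X := LocallyOfFiniteType.isLocallyNoetherian f
  let y : ↥(Spec (CommRingCat.of A)) := IsLocalRing.closedPoint A
  let y' : ↥(Spec (CommRingCat.of A)) := genericPoint (Spec (CommRingCat.of A))
  let T' := {v : ↥(f.fiber y') // Nontrivial (((Scheme.Modules.pullback (f.fiberι y')).obj F).presheaf.stalk v) ∧
        ∀ w : ↥(f.fiber y'), Nontrivial (((Scheme.Modules.pullback (f.fiberι y')).obj F).presheaf.stalk w) → v ∈ closure {w} → w = v}
  let T := {v : ↥(f.fiber y) // Nontrivial (((Scheme.Modules.pullback (f.fiberι y)).obj F).presheaf.stalk v) ∧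
        ∀ w : ↥(f.fiber y), Nontrivial (((Scheme.Modules.pullback (f.fiberι y)).obj F).presheaf.stalk w) → v ∈ closure {w} → w = v}
  haveI : Finite T' := finite_maximal f F hF y'
  haveI : Finite T := finite_maximal f F hF y
  letI := Fintype.ofFinite T'
  letI := Fintype.ofFinite T
  have hfib : ∀ v : ↥(f.fiber y'), f (f.fiberι y' v) = y' := fun v => FibDim.fiber_apply_fiberι f v
  have hmax : ∀ v : T', ∀ t ∈ CohB1.support F, t ⤳ f.fiberι y' v.1 → t = f.fiberι y' v.1 := by
    intro v t ht htv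
    have hft : f t = y' := by
      have h1 : f t ⤳ y' := by rw [← hfib v.1]; exact htv.map f.continuous
      exact (h1.antisymm (genericPoint_specializes _)).eq
    obtain ⟨w, rfl⟩ : t ∈ Set.range (f.fiberι y') := by rw [Scheme.Hom.range_fiberι]; exact hft
    refine congrArg (f.fiberι y') (v.2.2 w ((FibLength.nontrivial_fibre_iff f F y' w hF).2 ht) ?_)
    exact specializes_iff_mem_closure.1 ((f.fiberι y').isEmbedding.isInducing.specializes_iff.1 htv)
  have hsp : ∀ v : T', ∃ z : T, f.fiberι y' v.1 ⤳ f.fiberι y z.1 := fun v => by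
    obtain ⟨z, hz, hzv⟩ := exists_special f F hF hflat hemb _ (hfib v.1)
      ((FibLength.nontrivial_fibre_iff f F y' v.1 hF).1 v.2.1) (hmax v)
    exact ⟨⟨z, hz⟩, hzv⟩
  choose Φ hΦ using hsp
  show (∑ᶠ v : T', _) ≤ ∑ᶠ z : T, _
  rw [finsum_eq_sum_of_fintype, finsum_eq_sum_of_fintype, ← Finset.sum_fiberwise (Finset.univ : Finset T') Φ]
  refine Finset.sum_le_sum fun z _ => ?_
  let x := f.fiberι y z.1
  have hfx : f x = y := FibDim.fiber_apply_fiberι f z.1
  obtain ⟨U, hU, hxU, -⟩ := exists_isAffineOpen_mem_and_subset (x := x) (U := ⊤) trivial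
  obtain ⟨ϖ, hϖ⟩ := IsDiscreteValuationRing.exists_irreducible A
  have hϖm := (IsDiscreteValuationRing.irreducible_iff_uniformizer ϖ).1 hϖ
  let t : Γ(X, U) := X.presheaf.map (homOfLE (le_top : U ≤ f ⁻¹ᵁ ⊤)).op
    (f.app ⊤ ((Scheme.ΓSpecIso (CommRingCat.of A)).inv ϖ))
  haveI : IsNoetherianRing Γ(X, U) := IsLocallyNoetherian.component_noetherian ⟨U, hU⟩
  haveI : Module.Finite Γ(X, U) Γ(F, U) := QCoh.finite_sections hF hU
  let M := Γ(F, U)
  let I := (Finset.univ : Finset T').filter fun v => Φ v = z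
  have hmem : ∀ v ∈ I, f.fiberι y' v.1 ∈ U := fun v hv =>
    ((Finset.mem_filter.1 hv).2 ▸ hΦ v).mem_open U.2 hxU
  let P : {v // v ∈ I} → PrimeSpectrum Γ(X, U) := fun v => hU.primeIdealOf ⟨_, hmem v.1 v.2⟩
  have hP : Function.Injective P := fun a b h => Subtype.ext (Subtype.ext ((f.fiberι y').isEmbedding.injective
    (AssLib.eq_of_primeIdealOf_eq hU (hmem b.1 b.2) (hmem a.1 a.2) (congrArg PrimeSpectrum.asIdeal h))))
  have hlen : ∀ v ∈ I.attach, Module.length ((f.fiber y').presheaf.stalk v.1.1)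
      (((Scheme.Modules.pullback (f.fiberι y')).obj F).presheaf.stalk v.1.1) =
      Module.length (Localization (P v).asIdeal.primeCompl) (LocalizedModule (P v).asIdeal.primeCompl M) := fun v _ => by
    rw [FibLength.length_fibre_eq f F y' v.1.1, fibIdeal_generic f _ (hfib v.1.1), ← FibLength.length_stalk_eq hF.1 hU]
    exact ((Submodule.quotEquivOfEqBot _ (Submodule.bot_smul _)).length_eq)
  rw [← Finset.sum_attach I, Finset.sum_congr rfl hlen, FibLength.length_fibre_eq f F y z.1,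
    FibLength.length_quotient_eq hF.1 hU hxU (Ideal.span {t}) _ (fibIdeal_closed f hϖm x hfx hxU)]
  refine le_trans (le_of_eq (Finset.sum_image (s := I.attach) (g := P)
    (f := fun p : PrimeSpectrum Γ(X, U) => Module.length (Localization p.asIdeal.primeCompl)
      (LocalizedModule p.asIdeal.primeCompl M)) fun a _ b _ h => hP h).symm) ?_
  refine FibLength.sum_length_le (isSMulRegular_sections f F hflat hϖ.ne_zero U) _ ?_ _ ?_ ?_ ?_
  · rw [← AssLib.comap_maximalIdeal_stalk hU hxU, Ideal.mem_comap]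
    have h1 : Codepth5.fibIdeal f x ≤ maximalIdeal _ := Ideal.map_le_iff_le_comap.2 fun a ha =>
      map_nonunit (f.stalkMap x).hom a ha
    refine h1 ?_
    rw [fibIdeal_closed f hϖm x hfx hxU]
    exact Ideal.mem_map_of_mem _ (Ideal.mem_span_singleton_self _)
  · intro p hp
    obtain ⟨v, -, rfl⟩ := Finset.mem_image.1 hp
    have hvx : f.fiberι y' v.1.1 ⤳ x := by
      have := hΦ v.1
      rwa [(Finset.mem_filter.1 v.2).2] at this
    refine ⟨(AssLib.primeIdealOf_le_iff hU hxU (hmem v.1 v.2)).2 hvx, fun h => ?_⟩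
    refine (not_not_intro h) ((QCoh.mem_basicOpen_iff_notMem hU (hmem v.1 v.2) t).1 ?_)
    rw [Scheme.basicOpen_res, ← Scheme.preimage_basicOpen]
    refine ⟨hmem v.1 v.2, ?_⟩
    show f (f.fiberι y' v.1.1) ∈ (Spec (CommRingCat.of A)).basicOpen ((Scheme.ΓSpecIso (CommRingCat.of A)).inv ϖ)
    rw [basicOpen_eq_of_affine, hfib v.1.1, show y' = genericPoint (Spec (CommRingCat.of A)) from rfl,
      genericPoint_eq_bot_of_affine]
    exact fun h => hϖ.ne_zero h
  · intro p hp p' hp' hle
    obtain ⟨v, -, rfl⟩ := Finset.mem_image.1 hp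
    obtain ⟨v', -, rfl⟩ := Finset.mem_image.1 hp'
    have h1 := (AssLib.primeIdealOf_le_iff hU (hmem v'.1 v'.2) (hmem v.1 v.2)).1 hle
    exact congrArg P (Subtype.ext (Subtype.ext ((f.fiberι y').isEmbedding.injective
      (hmax v'.1 _ ((FibLength.nontrivial_fibre_iff f F y' v.1.1 hF).1 v.1.2.1) h1))))
  · intro p hp
    obtain ⟨v, -, rfl⟩ := Finset.mem_image.1 hp
    rw [← FibLength.length_stalk_eq hF.1 hU (hmem v.1 v.2)]
    exact Module.length_ne_top_iff.2 ((AssLib.isFiniteLength_stalk_iff hF _).2 (hmax v.1))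

end Groth.Agent.S4980
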