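import Groth.Statements.S1666
import Groth.Agent.VarBase.CurveDeg
import Groth.Agent.FlatDense.Basic

set_option autoImplicit false
set_option linter.style.haveILetI false
set_option backward.isDefEq.respectTransparency false
set_option backward.isDefEq.respectTransparency.types false
universe u
open CategoryTheory CategoryTheory.Limits AlgebraicGeometry
open Variety

namespace Groth.Agent.S1666

open Groth.Agent.VarBase TopologicalSpace

/-- Let f : X' → X be a k-morphism of proper schemes of dimension at most one over k which is an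
isomorphism over a dense open of X whose preimage is dense in X'. Then for every finite locally free
module E of rank n on X, deg(f^* E) = deg(E). -/
theorem result (k : Type u) [Field k] (X X' : Scheme.{u}) [X.Over (Spec (CommRingCat.of k))] [X'.Over (Spec (CommRingCat.of k))]
    [IsProper (X ↘ (Spec (CommRingCat.of k)))] [IsProper (X' ↘ (Spec (CommRingCat.of k)))] (hdim : topologicalKrullDim X ≤ 1) (hdim' : topologicalKrullDim X' ≤ 1)
    (f : X' ⟶ X) (hf : f ≫ (X ↘ (Spec (CommRingCat.of k))) = X' ↘ (Spec (CommRingCat.of k)))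
    (U : X.Opens) (hU : Dense (U : Set X)) (hU' : Dense ((f ⁻¹ᵁ U : X'.Opens) : Set X')) (hfU : IsIso (f ∣_ U))
    (n : ℕ) (E : X.Modules) (hE : FlatMod.IsFinLocFreeOfRank n E) :
    Curv2.deg k X' ((Scheme.Modules.pullback f).obj E) n = Curv2.deg k X E n := by
  classical
  haveI := Groth.Agent.CurveCohLib.isNoetherian_of_proper (k := k) (X := X)
  haveI := Groth.Agent.CurveCohLib.isNoetherian_of_proper (k := k) (X := X')
  haveI : IsProper (f ≫ (X ↘ Spec (CommRingCat.of k))) := by rw [hf]; infer_instance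
  haveI : IsProper f := IsProper.of_comp f (X ↘ Spec (CommRingCat.of k))
  haveI : IsOpenImmersion ((f ⁻¹ᵁ U).ι ≫ f) := by
    rw [← morphismRestrict_ι]; infer_instance
  have huniq : ∀ y ∈ U, ∀ a b : X', f a = y → f b = y → a = b := fun y hy a b ha hb =>
    congrArg (fun z : ↥(f ⁻¹ᵁ U) => z.1) ((((f ⁻¹ᵁ U).ι ≫ f).isOpenEmbedding.injective
      (a₁ := ⟨a, show f a ∈ U from ha ▸ hy⟩) (a₂ := ⟨b, show f b ∈ U from hb ▸ hy⟩) (ha.trans hb.symm)))
  have hpts : ∀ x ∈ ((f ⁻¹ᵁ U : X'.Opens) : Set X')ᶜ, IsClosed ({x} : Set X') := fun x hx => by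
    by_contra hc
    refine hx (Groth.Agent.FlatDense.mem_of_dense_of_max (f ⁻¹ᵁ U).2 hU' fun z hz => ?_)
    by_contra hne
    exact hc (Groth.Agent.CurvePsi.isClosed_of_dim_le_one hdim' hz fun h => hne h.symm)
  haveI : IsFinite f := by
    refine isFinite_of_fibres f fun y => ?_
    by_cases hy : y ∈ U
    · exact Set.Subsingleton.finite fun a ha b hb => huniq y hy a b ha hb
    · refine (Groth.Agent.CurveCohLib.finite_of_closedPoints (f ⁻¹ᵁ U).2.isClosed_compl hpts).subset fun a ha h => hy ?_
      exact (show f a = y from ha) ▸ h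
  have hd : ∀ F : X.Modules, topologicalKrullDim ↥(CohB1.support F) ≤ ((1 : ℕ) : WithBot ℕ∞) := fun F =>
    (topologicalKrullDim_subspace_le ↥X _).trans (by exact_mod_cast hdim)
  rw [deg_pullback_eq_psi k f hf hE, deg_eq_compSum k hdim hE,
    psi_eq_compSum k hE (Groth.Agent.QCoh.isCoh_pushforward_finite f Groth.Agent.QCoh.isCoh_structureModule') (hd _)]
  refine finsum_congr fun ξ => ?_
  split_ifs with hξ
  · refine congrArg (· • _) ?_
    have hξU : ξ ∈ U := Groth.Agent.FlatDense.mem_of_dense_of_max U.2 hU fun z hz =>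
      eq_of_specializes_of_dim isClosed_univ ((topologicalKrullDim_subspace_le ↥X _).trans (by exact_mod_cast hdim))
        trivial hz hξ
    obtain ⟨w, hw⟩ := (f ∣_ U).homeomorph.surjective ⟨ξ, hξU⟩
    obtain ⟨x, hx⟩ : ∃ x : X', f x = ξ := ⟨w.1, by
      have h : ((f ∣_ U) ≫ U.ι) w = ξ := congrArg Subtype.val hw
      rw [morphismRestrict_ι] at h
      exact h⟩
    subst hx
    have hbij : Function.Bijective (f.stalkMap x) := by
      let x' : ↥(f ⁻¹ᵁ U) := ⟨x, hξU⟩
      have h := Scheme.Hom.stalkMap_comp (f ⁻¹ᵁ U).ι f x'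
      haveI : IsIso (f.stalkMap x ≫ (f ⁻¹ᵁ U).ι.stalkMap x') := h ▸ inferInstance
      haveI : IsIso (f.stalkMap x) := IsIso.of_isIso_comp_right _ ((f ⁻¹ᵁ U).ι.stalkMap x')
      exact ConcreteCategory.bijective_of_isIso (f.stalkMap x)
    refine congrArg ENat.toNat ?_
    rw [length_push_of_surjective f f.isClosedMap (fun z hz => huniq _ hξU z x hz rfl) hbij.2,
      Groth.Agent.H23.ClosedPushLen.length_structureModule, Groth.Agent.H23.ClosedPushLen.length_structureModule]
    letI := (f.stalkMap x).hom.toAlgebra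
    rw [← Module.length_eq_of_surjective (S := X.presheaf.stalk (f x)) (R := X'.presheaf.stalk x)
      (M := X'.presheaf.stalk x) (show Function.Surjective (algebraMap _ _) from hbij.2)]
    exact (LinearEquiv.ofBijective (Algebra.linearMap (X.presheaf.stalk (f x)) (X'.presheaf.stalk x)) hbij).length_eq.symm
  · rfl

end Groth.Agent.S1666
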