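import Groth.Statements.S17287
import Groth.Agent.VarDim.Top
import Groth.Agent.VarDim.Fibre
import Groth.Agent.ConsPropLib.Noetherian
-- import your own Groth.Agent.* helpers here

set_option autoImplicit false
universe u
open CategoryTheory CategoryTheory.Limits AlgebraicGeometry TopologicalSpace
open Variety

namespace Groth.Agent.S17287

set_option linter.style.haveILetI false
set_option linter.unusedSectionVars false
set_option maxHeartbeats 1000000
set_option backward.isDefEq.respectTransparency false
set_option backward.isDefEq.respectTransparency.types false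

/-- Let f : Y → X be a surjective k-morphism of proper schemes over a field k and C ⊆ X an integral
closed subscheme of dimension one. Then there is an integral closed subscheme C' ⊆ Y of dimension
one with f(C') = C as closed subsets. (The source states this for proper algebraic spaces over k;
this is the case of schemes.) -/
theorem result (k : Type u) [Field k] (X Y : Scheme.{u})
    [X.Over (Spec (CommRingCat.of k))] [IsProper (X ↘ (Spec (CommRingCat.of k)))] [Y.Over (Spec (CommRingCat.of k))] [IsProper (Y ↘ (Spec (CommRingCat.of k)))]
    (f : Y ⟶ X) (hf : f ≫ (X ↘ (Spec (CommRingCat.of k))) = Y ↘ (Spec (CommRingCat.of k))) [Surjective f]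
    (C : X.IdealSheafData) [IsIntegral C.subscheme] (hC : topologicalKrullDim (C.support : Set X) = 1) :
    ∃ C' : Y.IdealSheafData, IsIntegral C'.subscheme ∧ topologicalKrullDim (C'.support : Set Y) = 1 ∧
      f.base '' (C'.support : Set Y) = (C.support : Set X) := by
  let p := X ↘ (Spec (CommRingCat.of k))
  let q := Y ↘ (Spec (CommRingCat.of k))
  haveI : IsProper f := by
    haveI : IsProper (f ≫ p) := by rw [hf]; infer_instance
    exact IsProper.of_comp f p
  obtain ⟨η, hη⟩ : ∃ η : X, closure ({η} : Set X) = (C.support : Set X) := by
    refine ⟨C.subschemeι (genericPoint C.subscheme), ?_⟩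
    rw [← Scheme.IdealSheafData.range_subschemeι]
    refine Eq.trans ?_ C.subschemeι.isClosedEmbedding.isClosed_range.closure_eq
    rw [← Set.image_univ]
    exact (genericPoint_spec _).image C.subschemeι.continuous
  rw [← hη] at hC
  have hdη : VarDim.deg p η = 1 := by
    rw [VarDim.topologicalKrullDim_closure_singleton p η] at hC
    exact_mod_cast hC
  obtain ⟨y, hy, hy0⟩ := VarDim.exists_fdeg_eq_zero f (y := η) ((Surjective.surj (f := f) η).imp fun _ h => h)
  have hdy : VarDim.deg q y = 1 := by
    rw [VarDim.deg_eq_add f p hf y, hy, hy0, hdη]
  let Z : TopologicalSpace.Closeds Y := ⟨closure {y}, isClosed_closure⟩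
  let C' := Scheme.IdealSheafData.vanishingIdeal Z
  have hr : Set.range C'.subschemeι = closure {y} := DimFormula.range_vanishingIdeal Z
  have hsupp : (C'.support : Set Y) = closure {y} := by rw [← Scheme.IdealSheafData.range_subschemeι, hr]
  haveI : IsReduced C'.subscheme := H23.RedSub.isReduced_vanishingIdeal Z
  haveI : IrreducibleSpace ↥C'.subscheme := by
    haveI : IrreducibleSpace ↥(Set.range C'.subschemeι) := by
      rw [hr]; exact Subtype.irreducibleSpace isIrreducible_singleton.closure
    exact C'.subschemeι.isClosedEmbedding.isEmbedding.toHomeomorph.symm.surjective.irreducibleSpace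
      C'.subschemeι.isClosedEmbedding.isEmbedding.toHomeomorph.symm.continuous
  refine ⟨C', isIntegral_of_irreducibleSpace_of_isReduced _, ?_, ?_⟩
  · rw [hsupp, VarDim.topologicalKrullDim_closure_singleton q y, hdy]; rfl
  · rw [hsupp, ← hη, ← (f.isClosedMap).closure_image_eq_of_continuous f.continuous, Set.image_singleton]
    exact congrArg (fun z => closure ({z} : Set X)) hy

end Groth.Agent.S17287
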