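import Groth.Statements.S12111
import Groth.Agent.Pic13Lib.Twist
import Groth.Agent.AmpleVan.ThickPush
import Groth.Agent.S3224
import Groth.Agent.S1647

set_option autoImplicit false
set_option linter.style.haveILetI false
set_option backward.isDefEq.respectTransparency false
set_option backward.isDefEq.respectTransparency.types false
universe u
open CategoryTheory CategoryTheory.Limits AlgebraicGeometry
open Pic13

namespace Groth.Agent.S12111

/-- Let k be an algebraically closed field, i : X ⟶ P^n_k a closed immersion and O_X(1) = i^*O(1). If a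
coherent O_X-module F is m-regular (H^q(X, F(m - q)) = 0 for every q ≥ 1) then for every integer n'
≥ m, F is n'-regular and F(n') is generated by its global sections. (The published statement is for
a projective k-scheme with an ample O_X(1) generated by its sections at the points of the support of
F; this row is the case of a closed subscheme of projective space.) -/
theorem result (k : Type u) [Field k] [IsAlgClosed k] (n : ℕ) {X : Scheme.{u}}
    (i : X ⟶ CohB1.ProjSpace n k) [IsClosedImmersion i] (F : X.Modules) (hF : Coh.IsCoh F) (m : ℤ)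
    (h : Pic13.IsMRegular k i F m) (n' : ℤ) (hn' : m ≤ n') :
    Pic13.IsMRegular k i F n' ∧ Curv2.IsGloballyGenerated (Pic13.twistOn k i F n') := by
  letI : X.Over (Spec (CommRingCat.of k)) := ⟨i ≫ CohB1.ProjSpace.toSpec n k⟩
  have hi : i ≫ CohB1.ProjSpace.toSpec n k = X ↘ Spec (CommRingCat.of k) := rfl
  let P := (Scheme.Modules.pushforward i).obj F
  have hP : Coh.IsCoh P := Pic13Lib.isCoh_push i hF
  have hv := S3224.result k n P hP m fun q hq =>
    (Pic13Lib.subsingleton_twistOn_iff i hi hF (m - q) q).1 (h q hq)
  refine ⟨fun q hq => (Pic13Lib.subsingleton_twistOn_iff i hi hF _ q).2 (hv q _ hq (by omega)), ?_⟩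
  obtain ⟨ι, p, hp⟩ := S1647.result k n P hP n' fun q hq _ => hv q _ hq (by omega)
  obtain ⟨e⟩ := Pic13Lib.push_twistOn i F n'
  let p' : (SheafOfModules.free ι : (CohB1.ProjSpace n k).Modules) ⟶
      (Scheme.Modules.pushforward i).obj (Pic13.twistOn k i F n') := p ≫ e.hom
  haveI : Epi p' := inferInstanceAs (Epi (p ≫ e.hom))
  haveI := AmpleVan.isIso_counit i (Pic13Lib.isCoh_twistOn i hF n').1
  haveI : PreservesColimitsOfSize.{0, 0} (Scheme.Modules.pullback i) :=
    (Scheme.Modules.pullbackPushforwardAdjunction i).leftAdjoint_preservesColimits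
  let f : (SheafOfModules.free ι : X.Modules) ≅ (Scheme.Modules.pullback i).obj (SheafOfModules.free ι) :=
    (SheafOfModules.pullbackObjFreeIso i.toRingCatSheafHom ι).symm
  exact ⟨ι, f.hom ≫ (Scheme.Modules.pullback i).map p' ≫
    (Scheme.Modules.pullbackPushforwardAdjunction i).counit.app _, inferInstance⟩

end Groth.Agent.S12111
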