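import Groth.Statements.S6041
import Groth.Agent.GrpdLib.QuotSheaf

set_option backward.isDefEq.respectTransparency false
set_option backward.isDefEq.respectTransparency.types false

set_option autoImplicit false
open CategoryTheory CategoryTheory.Limits AlgebraicGeometry MonoidalCategory
universe u
open GrpQ

namespace Groth.Agent.S6041

open CartesianMonoidalCategory in
/-- For schemes and the fppf topology, easy direction: let `s, t : R ⇉ U` be a pair of morphisms of
schemes over `S` (in the source an equivalence relation), `T` a scheme over `S` and `i : Z ⟶ U ×_S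
T` such that `Z ⟶ T` is flat, surjective and locally of finite presentation and any two points of
`Z` over the same point of `T` have `R`-related images in `U`. Then the composite `h_Z ⟶ h_U ⟶ U/R`
descends to exactly one section of the fppf quotient sheaf `U/R` over `T`. -/
theorem result {S : Scheme.{u}} {R U : Over S} (s t : R ⟶ U)
    (T Z : Over S) (i : Z ⟶ U ⊗ T)
    [Flat (i ≫ snd U T).left] [Surjective (i ≫ snd U T).left] [LocallyOfFinitePresentation (i ≫ snd U T).left]
    (hZZ : ∀ (T' : Over S) (z₁ z₂ : T' ⟶ Z), z₁ ≫ i ≫ snd U T = z₂ ≫ i ≫ snd U T →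
      ∃ r : T' ⟶ R, r ≫ s = z₁ ≫ i ≫ fst U T ∧ r ≫ t = z₂ ≫ i ≫ fst U T) :
    ∃! σ : QuotSh.rep Scheme.fppfPrecoverage T ⟶ QuotSh.quot Scheme.fppfPrecoverage s t,
      QuotSh.repMap Scheme.fppfPrecoverage (i ≫ fst U T) ≫ QuotSh.quotπ Scheme.fppfPrecoverage s t =
        QuotSh.repMap Scheme.fppfPrecoverage (i ≫ snd U T) ≫ σ := by
  classical
  let q : Z ⟶ T := i ≫ snd U T
  let p₁ : pullback q q ⟶ Z := pullback.fst q q
  let p₂ : pullback q q ⟶ Z := pullback.snd q q
  let K := Scheme.fppfPrecoverage.{u}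
  have hq : Sieve.generate (Presieve.singleton q.left) ∈ K.toGrothendieck T.left := by
    have hm : Presieve.ofArrows (fun _ : PUnit.{u+1} => Z.left) (fun _ => q.left) ∈
        Scheme.precoverage (@Flat ⊓ @LocallyOfFinitePresentation) T.left :=
      (Scheme.ofArrows_mem_precoverage_iff _).2
        ⟨fun x => ⟨⟨⟩, (i ≫ snd U T).left.surjective x⟩,
          fun _ => ⟨inferInstanceAs (Flat (i ≫ snd U T).left),
            inferInstanceAs (LocallyOfFinitePresentation (i ≫ snd U T).left)⟩⟩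
    refine GrothendieckTopology.superset_covering _ ?_ (Precoverage.generate_mem_toGrothendieck hm)
    rintro Z' _ ⟨Y, a, _, ⟨j⟩, rfl⟩
    exact ⟨Z.left, a, q.left, Presieve.singleton_self _, rfl⟩
  obtain ⟨w, hw⟩ := GrpdLib.isQuotient_of_isKernelPair K p₁ p₂ q (IsPullback.of_hasPullback q q) hq
  haveI := hw
  have hπ : QuotSh.quotπ K p₁ p₂ ≫ QuotSh.quotDesc K q w = QuotSh.repMap K q := coequalizer.π_desc _ _
  have hrep : ∀ {V W X : Over S} (a : V ⟶ W) (b : W ⟶ X),
      QuotSh.repMap K (a ≫ b) = QuotSh.repMap K a ≫ QuotSh.repMap K b :=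
    fun a b => (GrpdLib.repFunctor K S).map_comp a b
  let φ := QuotSh.repMap K (i ≫ fst U T) ≫ QuotSh.quotπ K s t
  have hφ : QuotSh.repMap K p₁ ≫ φ = QuotSh.repMap K p₂ ≫ φ := by
    obtain ⟨r, hrs, hrt⟩ := hZZ (pullback q q) p₁ p₂ pullback.condition
    simp only [φ]
    rw [← Category.assoc, ← Category.assoc, ← hrep, ← hrep, ← hrs, ← hrt, hrep, hrep, Category.assoc,
      Category.assoc, QuotSh.quot_condition]
  let d : QuotSh.quot K p₁ p₂ ⟶ QuotSh.quot K s t := coequalizer.desc φ hφ
  have hd : QuotSh.quotπ K p₁ p₂ ≫ d = φ := coequalizer.π_desc _ _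
  refine ⟨inv (QuotSh.quotDesc K q w) ≫ d, ?_, fun σ hσ => ?_⟩
  · show φ = QuotSh.repMap K q ≫ _
    rw [← hπ, Category.assoc, IsIso.hom_inv_id_assoc, hd]
  · rw [IsIso.eq_inv_comp]
    refine coequalizer.hom_ext ?_
    show QuotSh.quotπ K p₁ p₂ ≫ QuotSh.quotDesc K q w ≫ σ = QuotSh.quotπ K p₁ p₂ ≫ d
    rw [← Category.assoc, hπ, hd]
    exact hσ.symm

end Groth.Agent.S6041
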