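import Groth.Statements.S7382
import Groth.Agent.LimMor.FinInt

set_option autoImplicit false
set_option backward.isDefEq.respectTransparency false
set_option backward.isDefEq.respectTransparency.types false
universe u
open CategoryTheory AlgebraicGeometry
open Lim

namespace Groth.Agent.S7382

/-- Let `f : X → S` be integral with `S` quasi-compact and quasi-separated. Then, in the category of
schemes over `S`, `X` is the limit of a nonempty directed inverse system of schemes `X_i → S` that
are finite and locally of finite presentation. -/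
theorem result {X S : Scheme.{u}} (f : X ⟶ S) [IsIntegralHom f]
    [CompactSpace S] [QuasiSeparatedSpace S] :
    ∃ (I : Type u) (_ : Preorder I) (_ : IsDirected I (fun a b => a ≤ b)) (_ : Nonempty I)
      (D : Iᵒᵖ ⥤ Over S) (c : Limits.Cone D) (_ : Limits.IsLimit c),
      (∀ i, IsFinite (D.obj i).hom ∧ LocallyOfFinitePresentation (D.obj i).hom) ∧
      Nonempty (c.pt ≅ Over.mk f) := by
  obtain ⟨T, s, hT, hs⟩ := LimMor.exists_affine_toFTZ S
  haveI := hT.isNoetherian
  haveI := LimMor.pair_nonempty (f := f) (s := s) (a := f ≫ s) (q := 𝟙 T) (Category.comp_id _)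
  obtain ⟨P, -⟩ := LimMor.exists_finPair_ge (f := f) (s := s) (Classical.arbitrary _)
    ⟨⊥, bot_le, MorLib.IdealFG.isFG_bot⟩
  haveI : Nonempty (LimMor.FinPair f s) := ⟨P⟩
  refine ⟨LimMor.FinPair f s, inferInstance,
    (LimMor.finPair_directed : IsDirectedOrder _), inferInstance, LimMor.finSys f s,
    LimMor.finCone f s, (LimMor.nonempty_isLimit_finCone f s).some, fun i => ⟨i.unop.fin, ?_⟩,
    ⟨Iso.refl _⟩⟩
  haveI := MorLib.IdealFG.lfp_subschemeι i.unop.K.2.2
  haveI := i.unop.p.lfp_snd
  exact inferInstanceAs (LocallyOfFinitePresentation (i.unop.ι ≫ Limits.pullback.snd i.unop.p.m i.unop.p.n.k))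

end Groth.Agent.S7382
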