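import Groth.Statements.S7158
import Groth.Agent.HensEt88.DegreePCases

set_option linter.style.haveILetI false
-- import your own Groth.Agent.* helpers here

set_option autoImplicit false
universe u
open EtAlg

namespace Groth.Agent.S7158

/-- Let A be a discrete valuation ring whose fraction field K has characteristic p > 0, let ξ be an
element of K and let L = K(z) be obtained by adjoining a root z of z^p - z = ξ. Then L/K is a Galois
extension, and it falls under one of four cases: (1) L = K; (2) L/K has degree p and is unramified
with respect to A; (3) L/K has degree p and is totally ramified with respect to A (ramification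
index p); (4) exactly one valuation ring of L dominates A (so B, the integral closure of A in L, is
itself a discrete valuation ring), the extension A → B is weakly unramified, and its residue field
extension is purely inseparable of degree p. Moreover, with π a uniformizer of A: (A) if ξ lies in
A, case (1) or (2) holds; (B) if ξ = π⁻ⁿa with n > 0 prime to p and a a unit of A, case (3) holds;
(C) if ξ = π⁻ⁿa with n > 0 divisible by p and the residue class of a not a p-th power, case (4)
holds. -/
theorem result (p : ℕ) (hp : p.Prime) (A K L : Type u) [CommRing A] [IsDomain A]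
    [IsDiscreteValuationRing A] [Field K] [Algebra A K] [IsFractionRing A K] [Field L] [Algebra K L] [Algebra A L]
    [IsScalarTower A K L] [CharP K p] (π : A) (hπ : IsLocalRing.maximalIdeal A = Ideal.span {π})
    (ξ : K) (z : L) (hz : z ^ p - z = algebraMap K L ξ) (hgen : IntermediateField.adjoin K {z} = ⊤) :
    let g : A →+* L := algebraMap A L
    let case1 : Prop := Module.finrank K L = 1
    let case2 : Prop := EtRam.IsUnramifiedExt A g ∧ Module.finrank K L = p
    let case3 : Prop := EtRam.IsTotallyRamified A g ∧ Module.finrank K L = p
    let case4 : Prop := (∃ V : ValuationSubring L, EtRam.Dominates A g V) ∧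
      (∀ V V' : ValuationSubring L, EtRam.Dominates A g V → EtRam.Dominates A g V' → V = V') ∧
      ∀ (V : ValuationSubring L) (h : EtRam.Dominates A g V),
        letI : Algebra A V := (RingHom.codRestrict g V h.1).toAlgebra
        ∀ [IsLocalHom (algebraMap A V)],
          EtRam.IsWeaklyUnramified A V ∧
            IsPurelyInseparable (IsLocalRing.ResidueField A) (IsLocalRing.ResidueField V) ∧
            Module.finrank (IsLocalRing.ResidueField A) (IsLocalRing.ResidueField V) = p
    IsGalois K L ∧ (case1 ∨ case2 ∨ case3 ∨ case4) ∧
      ((∃ a : A, algebraMap A K a = ξ) → case1 ∨ case2) ∧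
      (∀ (n : ℕ) (a : Aˣ), 0 < n → ¬ p ∣ n → ξ * algebraMap A K π ^ n = algebraMap A K a → case3) ∧
      (∀ (n : ℕ) (a : A), 0 < n → p ∣ n → (∀ r : A, IsLocalRing.residue A a ≠ IsLocalRing.residue A r ^ p) →
          ξ * algebraMap A K π ^ n = algebraMap A K a → case4) := by
  classical
  have : Fact p.Prime := ⟨hp⟩
  have hinjA : Function.Injective (algebraMap A K) := IsFractionRing.injective A K
  haveI : CharP A p := (RingHom.charP_iff (algebraMap A K) hinjA p).mpr inferInstance
  haveI : CharP (IsLocalRing.ResidueField A) p := (CharP.charP_iff_prime_eq_zero hp).mpr (by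
    rw [← map_natCast (IsLocalRing.residue A), CharP.cast_eq_zero, map_zero])
  haveI : CharP L p := charP_of_injective_algebraMap (algebraMap K L).injective p
  let P : Polynomial A := Polynomial.X ^ p - Polynomial.X
  have hdeg : (Polynomial.X : Polynomial A).degree < (p : WithBot ℕ) := by
    rw [Polynomial.degree_X]; exact_mod_cast hp.one_lt
  have hP : P.Monic := Polynomial.monic_X_pow_sub hdeg
  have hnd : P.natDegree = p := by
    rw [Polynomial.natDegree_sub_eq_left_of_natDegree_lt] <;> simp [hp.one_lt]
  have hfK : (Polynomial.X ^ p - Polynomial.X - Polynomial.C ξ : Polynomial K).natDegree = p := by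
    rw [Polynomial.natDegree_sub_C, Polynomial.natDegree_sub_eq_left_of_natDegree_lt] <;> simp [hp.one_lt]
  have hfm : (Polynomial.X ^ p - Polynomial.X - Polynomial.C ξ : Polynomial K).Monic := by
    rw [sub_sub]; exact Polynomial.monic_X_pow_sub (by rw [Polynomial.degree_X_add_C]; exact_mod_cast hp.one_lt)
  obtain ⟨hfd, hG, hd, hconj⟩ := HensEt88.galois_of_roots (K := K) hp _ hfm hfK z
    (by simp [hz]) hgen (fun i => z + (i : ℕ)) (fun i j h => Fin.ext (CharP.natCast_injOn_Iio L p i.2 j.2 (add_left_cancel h)))
    (fun i => by
      have h1 : ((i : ℕ) : L) ^ p = (i : ℕ) := by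
        rw [← map_natCast (ZMod.castHom dvd_rfl L), ← map_pow, ZMod.pow_card]
      simp only [map_sub, map_pow, Polynomial.aeval_X, Polynomial.aeval_C]
      rw [add_pow_char, h1, ← hz]; ring)
    (fun i => by
      have h1 := sub_mem (IntermediateField.mem_adjoin_simple_self K (z + (i : ℕ))) (natCast_mem _ (i : ℕ))
      rwa [add_sub_cancel_right] at h1)
  obtain ⟨h1, h2, h3, h4⟩ := HensEt88.degree_p_cases (A := A) (K := K) (L := L) hp hπ P hP hnd (by simp [P]) ξ z
    (by simp [P, hz]) hd (fun hdp => by
      obtain ⟨σ, hσ⟩ := hconj hdp ⟨1, hp.one_lt⟩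
      exact ⟨σ, fun V _ _ => by rw [hσ]; simp⟩)
  exact ⟨hG, h1, h2, h3, h4⟩

end Groth.Agent.S7158
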