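import Groth.Statements.S16438
import Groth.Agent.HensEt88.EssEtStrict
import Groth.Agent.S9564

set_option autoImplicit false
set_option linter.style.haveILetI false
universe u
open EGA4loc

namespace Groth.Agent.S16438

open IsLocalRing in
/-- Let A be a Noetherian local ring with maximal ideal m, S a strict henselization of A, and D an
A-subalgebra of S which is a local ring dominated by S (the inclusion is local), essentially of
finite type over A, and such that m D is the maximal ideal of D. Then D is an essentially etale
local A-algebra: A-isomorphic to the localization of an etale A-algebra at a prime over m. (The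
published statement also assumes the total ring of fractions of D finitely generated over that of A;
for D essentially of finite type over A and dominated by S this is automatic, D then lying in a
local etale subextension of S, so that hypothesis is omitted here.) -/
theorem result
    (A S : Type u) [CommRing A] [IsLocalRing A] [IsNoetherianRing A]
    [CommRing S] [IsLocalRing S] [Algebra A S] [IsLocalHom (algebraMap A S)]
    [Hensel.IsStrictHenselization A S] (D : Subalgebra A S) [IsLocalRing D]
    [IsLocalHom (algebraMap D S)] [Algebra.EssFiniteType A D]
    (hm : Ideal.map (algebraMap A D) (maximalIdeal A) = maximalIdeal D) :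
    EGA4loc.IsEssentiallyEtale A D := by
  haveI hAD : IsLocalHom (algebraMap A D) := ⟨fun a ha => by
    have h := ha.map (algebraMap D S)
    rw [← IsScalarTower.algebraMap_apply A D S] at h
    exact IsUnit.of_map (algebraMap A S) a h⟩
  haveI : IsNoetherianRing D := Algebra.EssFiniteType.isNoetherianRing A D
  haveI : IsScalarTower (ResidueField A) (ResidueField D) (ResidueField S) := .of_algebraMap_eq fun x => by
    obtain ⟨x, rfl⟩ := residue_surjective x
    show residue S (algebraMap A S x) = residue S (algebraMap D S (algebraMap A D x))
    rw [← IsScalarTower.algebraMap_apply A D S]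
  haveI := (Hensel.IsStrictHenselization.isSepClosure (R := A) (S := S)).separable
  haveI : Algebra.IsSeparable (ResidueField A) (ResidueField D) :=
    Algebra.isSeparable_tower_bot_of_isSeparable _ _ (ResidueField S)
  haveI : Algebra.EssFiniteType (ResidueField A) (ResidueField D) := by
    haveI : Algebra.EssFiniteType A (ResidueField D) := Algebra.EssFiniteType.comp A D (ResidueField D)
    exact Algebra.EssFiniteType.of_comp A (ResidueField A) (ResidueField D)
  haveI : Algebra.FormallyUnramified (ResidueField A) (ResidueField D) :=
    Algebra.FormallyUnramified.of_isSeparable _ _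
  haveI : Module.Finite (ResidueField A) (ResidueField D) := Algebra.FormallyUnramified.finite_of_free _ _
  obtain ⟨P, 𝔮, h𝔮, I, ⟨e⟩⟩ := Groth.Agent.S9564.result A D hm
  let C := Localization.AtPrime 𝔮
  let π : C →ₐ[A] D := e.symm.toAlgHom.comp (Ideal.Quotient.mkₐ A I)
  have hπ : Function.Surjective π := e.symm.surjective.comp Ideal.Quotient.mk_surjective
  have hq : 𝔮.comap (algebraMap A P.Ring) = maximalIdeal A := by
    ext a
    rw [Ideal.mem_comap, ← IsLocalization.AtPrime.to_map_mem_maximal_iff C 𝔮,
      ← IsScalarTower.algebraMap_apply]
    constructor
    · intro h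
      by_contra hu
      exact h ((notMem_maximalIdeal.mp hu).map (algebraMap A C))
    · intro h hu
      have hDu : IsUnit (algebraMap A D a) := by
        rw [← π.commutes]; exact hu.map π
      exact h ((isUnit_map_iff (algebraMap A D) a).mp hDu)
  have hC : EGA4loc.IsEssentiallyEtale A C :=
    ⟨P.Ring, inferInstance, inferInstance, 𝔮, h𝔮, inferInstance, hq, ⟨AlgEquiv.refl⟩⟩
  letI : Algebra C S := (D.val.comp π).toRingHom.toAlgebra
  haveI : IsScalarTower A C S := .of_algebraMap_eq fun a => ((D.val.comp π).commutes a).symm
  have hinj := HensEt88.injective_algebraMap_of_essEtale A C S hC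
  have hπi : Function.Injective π := fun x y h => hinj (congrArg D.val h)
  exact ⟨P.Ring, inferInstance, inferInstance, 𝔮, h𝔮, inferInstance, hq,
    ⟨(AlgEquiv.ofBijective π ⟨hπi, hπ⟩).symm⟩⟩

end Groth.Agent.S16438
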