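import Groth.Statements.S1990
import Groth.Agent.HensEt88.DvrExt

set_option linter.style.haveILetI false

set_option autoImplicit false
universe u
open EtAlg

namespace Groth.Agent.S1990

/-- Let K be the fraction field of a discrete valuation ring A, and K ⊂ L ⊂ M finite separable
extensions. If L/K is tamely ramified (resp. unramified) with respect to A and M/L is tamely
ramified (resp. unramified) with respect to every valuation subring of L dominating A, then M/K is
tamely ramified (resp. unramified) with respect to A. -/
theorem result (A K : Type u) [CommRing A] [IsDomain A] [IsDiscreteValuationRing A] [Field K] [Algebra A K] [IsFractionRing A K] (L M : Type u) [Field L] [Field M]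
    [Algebra K L] [Algebra K M] [Algebra L M] [IsScalarTower K L M] [FiniteDimensional K M] [Algebra.IsSeparable K M] :
    (EtRam.IsTamelyRamified A ((algebraMap K L).comp (algebraMap A K)) →
      (∀ (V : ValuationSubring L), EtRam.Dominates A ((algebraMap K L).comp (algebraMap A K)) V →
        EtRam.IsTamelyRamified V ((algebraMap L M).comp V.subtype)) →
      EtRam.IsTamelyRamified A ((algebraMap K M).comp (algebraMap A K))) ∧
    (EtRam.IsUnramifiedExt A ((algebraMap K L).comp (algebraMap A K)) →
      (∀ (V : ValuationSubring L), EtRam.Dominates A ((algebraMap K L).comp (algebraMap A K)) V →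
        EtRam.IsUnramifiedExt V ((algebraMap L M).comp V.subtype)) →
      EtRam.IsUnramifiedExt A ((algebraMap K M).comp (algebraMap A K))) := by
  have hcomp : (algebraMap K M).comp (algebraMap A K) = (algebraMap L M).comp ((algebraMap K L).comp (algebraMap A K)) := by
    rw [← RingHom.comp_assoc, ← IsScalarTower.algebraMap_eq K L M]
  constructor
  all_goals
    intro hAL hLM W hAW
    letI : Algebra A W := (RingHom.codRestrict ((algebraMap K M).comp (algebraMap A K)) W hAW.1).toAlgebra
    intro _
    let V : ValuationSubring L := W.comap (algebraMap L M)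
    have hV : EtRam.Dominates A ((algebraMap K L).comp (algebraMap A K)) V :=
      HensEt88.dominates_comap (algebraMap L M) hcomp hAW
    have hW : EtRam.Dominates V ((algebraMap L M).comp V.subtype) W :=
      HensEt88.dominates_subtype_comap (algebraMap L M) W
    letI : Algebra A V := (RingHom.codRestrict ((algebraMap K L).comp (algebraMap A K)) V hV.1).toAlgebra
    letI : Algebra V W := (RingHom.codRestrict ((algebraMap L M).comp V.subtype) W hW.1).toAlgebra
    haveI : IsLocalHom (algebraMap A V) := HensEt88.Dominates.isLocalHom hV
    haveI : IsLocalHom (algebraMap V W) := HensEt88.Dominates.isLocalHom hW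
    haveI : FiniteDimensional K L := FiniteDimensional.left K L M
    haveI : Algebra.IsSeparable K L := Algebra.isSeparable_tower_bot_of_isSeparable K L M
    haveI := HensEt88.isDiscreteValuationRing_of_dominates hV
    haveI := HensEt88.isDiscreteValuationRing_of_dominates hAW
    obtain ⟨hsep, he⟩ := HensEt88.tower_iff hV hW hAW
  · obtain ⟨h1, h2⟩ := hAL V hV
    obtain ⟨h3, h4⟩ := hLM V hV W hW
    refine ⟨hsep.mp ⟨h1, h3⟩, fun p hp hc hd => ?_⟩
    rcases hp.dvd_mul.mp (he ▸ hd) with hd | hd
    · exact h2 p hp hc hd
    · exact h4 p hp (HensEt88.charP_residueField A V p) hd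
  · obtain ⟨h1, h2⟩ := hAL V hV
    obtain ⟨h3, h4⟩ := hLM V hV W hW
    refine ⟨(HensEt88.isWeaklyUnramified_iff A W (HensEt88.map_maximalIdeal_ne_bot hAW)).mpr ?_, hsep.mp ⟨h2, h4⟩⟩
    have hne : (IsLocalRing.maximalIdeal V).map (algebraMap V W) ≠ ⊥ := by
      rw [Ne, Ideal.map_eq_bot_iff_of_injective]
      · exact IsDiscreteValuationRing.not_a_field V
      · intro x y h
        exact Subtype.ext ((algebraMap L M).injective (congrArg Subtype.val h))
    rw [he, (HensEt88.isWeaklyUnramified_iff A V (HensEt88.map_maximalIdeal_ne_bot hV)).mp h1,
      (HensEt88.isWeaklyUnramified_iff V W hne).mp h3]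

end Groth.Agent.S1990
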