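import Groth.Statements.S1989
import Groth.Agent.HensEt88.DvrExt

set_option linter.style.haveILetI false

set_option autoImplicit false
universe u
open EtAlg

namespace Groth.Agent.S1989

/-- Let K be the fraction field of a discrete valuation ring A, and K ⊂ L ⊂ M finite separable
extensions. If M is tamely ramified, respectively unramified, with respect to A, then so is L. -/
theorem result (A K : Type u) [CommRing A] [IsDomain A] [IsDiscreteValuationRing A] [Field K] [Algebra A K] [IsFractionRing A K] (L M : Type u) [Field L] [Field M]
    [Algebra K L] [Algebra K M] [Algebra L M] [IsScalarTower K L M] [FiniteDimensional K M] [Algebra.IsSeparable K M] :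
    (EtRam.IsTamelyRamified A ((algebraMap K M).comp (algebraMap A K)) →
      EtRam.IsTamelyRamified A ((algebraMap K L).comp (algebraMap A K))) ∧
    (EtRam.IsUnramifiedExt A ((algebraMap K M).comp (algebraMap A K)) →
      EtRam.IsUnramifiedExt A ((algebraMap K L).comp (algebraMap A K))) := by
  have hcomp : (algebraMap K M).comp (algebraMap A K) = (algebraMap L M).comp ((algebraMap K L).comp (algebraMap A K)) := by
    rw [← RingHom.comp_assoc, ← IsScalarTower.algebraMap_eq K L M]
  constructor
  all_goals
    intro h V hV
    letI : Algebra A V := (RingHom.codRestrict ((algebraMap K L).comp (algebraMap A K)) V hV.1).toAlgebra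
    intro _
    obtain ⟨W, hW⟩ := HensEt88.exists_dominates ((algebraMap L M).comp V.subtype)
    have hAW : EtRam.Dominates A ((algebraMap K M).comp (algebraMap A K)) W :=
      hcomp ▸ HensEt88.dominates_trans (algebraMap L M) hV hW
    letI : Algebra A W := (RingHom.codRestrict ((algebraMap K M).comp (algebraMap A K)) W hAW.1).toAlgebra
    letI : Algebra V W := (RingHom.codRestrict ((algebraMap L M).comp V.subtype) W hW.1).toAlgebra
    haveI : IsLocalHom (algebraMap A W) := HensEt88.Dominates.isLocalHom hAW
    haveI : IsLocalHom (algebraMap V W) := HensEt88.Dominates.isLocalHom hW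
    haveI : FiniteDimensional K L := FiniteDimensional.left K L M
    haveI : Algebra.IsSeparable K L := Algebra.isSeparable_tower_bot_of_isSeparable K L M
    haveI := HensEt88.isDiscreteValuationRing_of_dominates hV
    haveI := HensEt88.isDiscreteValuationRing_of_dominates hAW
    obtain ⟨hsep, he⟩ := HensEt88.tower_iff hV hW hAW
  · obtain ⟨h1, h2⟩ := h W hAW
    exact ⟨(hsep.mpr h1).1, fun p hp hc hd => h2 p hp hc (he ▸ dvd_mul_of_dvd_left hd _)⟩
  · obtain ⟨h1, h2⟩ := h W hAW
    refine ⟨(HensEt88.isWeaklyUnramified_iff A V (HensEt88.map_maximalIdeal_ne_bot hV)).mpr ?_, (hsep.mpr h2).1⟩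
    have h3 := (HensEt88.isWeaklyUnramified_iff A W (HensEt88.map_maximalIdeal_ne_bot hAW)).mp h1
    exact Nat.eq_one_of_mul_eq_one_right (he.symm.trans h3)

end Groth.Agent.S1989
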