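import Groth.Statements.S4689
import Groth.Agent.DimFormula.Catenary
import Mathlib.RingTheory.Artinian.Module


set_option autoImplicit false
universe u
open EGA4

namespace Groth.Agent.S4689

theorem fd_eq_zero_of_finite {A B : Type u} [CommRing A] [CommRing B] [Algebra A B] [Module.Finite A B]
    (P : Ideal B) [P.IsPrime] : Groth.Agent.DimFormula.fd A P = 0 := by
  unfold Groth.Agent.DimFormula.fd
  haveI : Module.Finite A (B ⧸ P) := Module.Finite.trans B _
  haveI : IsArtinianRing ((P.under A).Fiber (B ⧸ P)) :=
    IsArtinianRing.of_finite (P.under A).ResidueField _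
  have h : ringKrullDim ((P.under A).Fiber (B ⧸ P)) ≤ 0 := Ring.krullDimLE_iff.1 inferInstance
  revert h
  generalize ringKrullDim ((P.under A).Fiber (B ⧸ P)) = d
  intro h
  induction d with
  | bot => simp
  | coe a =>
    have : a ≤ 0 := WithBot.coe_le_coe.1 h
    simp [nonpos_iff_eq_zero.1 this]

/-- Let A be a universally catenary Noetherian local domain and B a domain containing A which is a
finite A-algebra. Then for every maximal ideal n of B the local ring B_n has the same Krull
dimension as A. -/
theorem result (A B : Type u) [CommRing A] [IsDomain A]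
    [IsNoetherianRing A] [IsLocalRing A] (hA : CAlg.IsUniversallyCatenary A) [CommRing B] [IsDomain B]
    [Algebra A B] [FaithfulSMul A B] [Module.Finite A B] (n : Ideal B) [n.IsMaximal] :
    ringKrullDim (Localization.AtPrime n) = ringKrullDim A := by
  haveI : Algebra.FiniteType A B := inferInstance
  have hm : n.under A = IsLocalRing.maximalIdeal A :=
    IsLocalRing.eq_maximalIdeal (Ideal.IsMaximal.under A n)
  have hcat : CAlg.IsUniversallyCatenary (Localization.AtPrime (n.under A)) :=
    Groth.Agent.DimFormula.isUniversallyCatenary_localization hA (n.under A).primeCompl _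
  have h := (Groth.Agent.DimFormula.dimension_formula A (⟨n, inferInstance⟩ : PrimeSpectrum B)).2 hcat
  simp only [fd_eq_zero_of_finite, Nat.cast_zero, add_zero] at h
  rw [IsLocalization.AtPrime.ringKrullDim_eq_height n (Localization.AtPrime n),
    ← IsLocalRing.maximalIdeal_height_eq_ringKrullDim, WithBot.coe_inj,
    (⟨n, inferInstance⟩ : PrimeSpectrum B).height_eq_orderHeight,
    (⟨IsLocalRing.maximalIdeal A, inferInstance⟩ : PrimeSpectrum A).height_eq_orderHeight, h]
  congr 1
  exact PrimeSpectrum.ext hm

end Groth.Agent.S4689
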