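import Groth.Statements.S19141
import Groth.Agent.SgaFix20.DSFact

set_option autoImplicit false
open CategoryTheory MonoidalCategory CartesianMonoidalCategory MonObj GrpObj AlgebraicGeometry
universe u
open SGA3x

namespace Groth.Agent.S19141

set_option backward.isDefEq.respectTransparency false
set_option linter.style.haveILetI false

/-- Let f : H ⟶ G be a homomorphism of S-group schemes, with H of multiplicative type (of arbitrary
type) and G separated and of finite presentation over S. Then there is a closed subgroup scheme Q of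
G, of multiplicative type, such that f factors through a faithfully flat (flat and surjective)
homomorphism f' : H ⟶ Q; and the pair (Q, f') is unique: for any other such factorization f = f'' ≫
j'' through a closed subgroup Q'' of multiplicative type there is an isomorphism Q ≅ Q'' over S
carrying j to j'' and f' to f''. (Q is called the image of f.) -/
theorem result {S : Scheme.{u}} (H G : Over S) [GrpObj H] [GrpObj G]
    (hH : TwC.Locally S TwC.Topology.fpqc (fun S' g => ∃ (M : Type) (_ : AddCommGroup M), Nonempty (Grp.mk (Red.bc g H) ≅ Grp.mk (Red.DS S' M))))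
    [IsSeparated G.hom] [QuasiCompact G.hom] [LocallyOfFinitePresentation G.hom] (f : H ⟶ G) [IsMonHom f] :
    (∃ (Q : Over S) (_ : GrpObj Q) (j : Q ⟶ G) (_ : IsMonHom j) (f' : H ⟶ Q) (_ : IsMonHom f'),
      IsClosedImmersion j.left ∧ TwC.Locally S TwC.Topology.fpqc (fun S' g => ∃ (M : Type) (_ : AddCommGroup M), Nonempty (Grp.mk (Red.bc g Q) ≅ Grp.mk (Red.DS S' M))) ∧
      Flat f'.left ∧ Surjective f'.left ∧ f' ≫ j = f) ∧
    (∀ (Q₁ Q₂ : Over S) [GrpObj Q₁] [GrpObj Q₂] (j₁ : Q₁ ⟶ G) (j₂ : Q₂ ⟶ G) [IsMonHom j₁] [IsMonHom j₂]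
      (f₁ : H ⟶ Q₁) (f₂ : H ⟶ Q₂) [IsMonHom f₁] [IsMonHom f₂],
      IsClosedImmersion j₁.left → IsClosedImmersion j₂.left →
      TwC.Locally S TwC.Topology.fpqc (fun S' g => ∃ (M : Type) (_ : AddCommGroup M), Nonempty (Grp.mk (Red.bc g Q₁) ≅ Grp.mk (Red.DS S' M))) →
      TwC.Locally S TwC.Topology.fpqc (fun S' g => ∃ (M : Type) (_ : AddCommGroup M), Nonempty (Grp.mk (Red.bc g Q₂) ≅ Grp.mk (Red.DS S' M))) →
      Flat f₁.left → Surjective f₁.left → f₁ ≫ j₁ = f →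
      Flat f₂.left → Surjective f₂.left → f₂ ≫ j₂ = f →
      ∃ e : Q₁ ≅ Q₂, e.hom ≫ j₂ = j₁ ∧ f₁ ≫ e.hom = f₂) := by
  haveI : QuasiCompact H.hom := by
    haveI := (SgaFix20.multType_essFree hH).1
    infer_instance
  refine ⟨?_, fun Q₁ Q₂ _ _ j₁ j₂ _ _ f₁ f₂ _ _ h₁ h₂ _ _ hf₁ hs₁ e₁ hf₂ hs₂ e₂ => ?_⟩
  · obtain ⟨S', π, hflat, hsurj, hcov, hloc⟩ := hH
    have hV : ∀ s' : S', ∃ V : S'.Opens, s' ∈ V ∧ ∃ (F : SgaFix20.Image.Fact f (V.ι ≫ π)) (N : Type)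
        (_ : AddCommGroup N), Nonempty (Grp.mk F.Q ≅ Grp.mk (Red.DS (V : Scheme.{u}) N)) := by
      intro s'
      obtain ⟨U, hsU, M, iM, ⟨e⟩⟩ := hloc s'
      obtain ⟨V₀, hw, F, Λ, -, ⟨eQ⟩⟩ := SgaFix20.exists_fact f (U.ι ≫ π) e ⟨s', hsU⟩
      let W : S'.Opens := U.ι ''ᵁ V₀
      refine ⟨W, ⟨⟨s', hsU⟩, hw, rfl⟩, ?_⟩
      let i : (W : Scheme.{u}) ≅ (V₀ : Scheme.{u}) := (U.ι.isoImage V₀).symm
      have hi : W.ι ≫ π = i.hom ≫ (V₀.ι ≫ U.ι ≫ π) := by
        rw [← Category.assoc V₀.ι, ← Category.assoc i.hom]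
        exact congrArg (· ≫ π) (U.ι.isoImage_inv_ι V₀).symm
      exact SgaFix20.Image.Fact.exists_comp F i.hom hi (fun T' Q' => ∃ (N : Type) (_ : AddCommGroup N),
        Nonempty (Q' ≅ Grp.mk (Red.DS T' N))) (fun Q' ⟨e'⟩ => by
          obtain ⟨e''⟩ := GrpSchLib.MultTypeBC.bc_DS i.hom Λ
          obtain ⟨e3⟩ := GrpSchLib.MultTypeBC.bc_iso i.hom eQ
          exact ⟨Λ, inferInstance, ⟨e' ≪≫ e3 ≪≫ e''⟩⟩)
    choose V hsV F N iN hN using hV
    obtain ⟨Q, iQ, j, hj, f', hf', hclosed, hfl, hsu, hfac, huniv⟩ :=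
      SgaFix20.Image.exists_image f π hcov (fun s => ⟨V s, hsV s, ⟨F s⟩⟩)
    refine ⟨Q, iQ, j, hj, f', hf', hclosed, ?_, hfl, hsu, hfac⟩
    refine ⟨S', π, hflat, hsurj, hcov, fun s => ⟨V s, hsV s, N s, iN s, ?_⟩⟩
    obtain ⟨e1⟩ := huniv _ ((V s).ι ≫ π) inferInstance (F s)
    obtain ⟨e2⟩ := hN s
    exact ⟨e1 ≪≫ e2⟩
  · haveI := h₁
    haveI := h₂
    exact SgaFix20.Image.unique f j₁ j₂ f₁ f₂ e₁ e₂

end Groth.Agent.S19141
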