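import Groth.Statements.S14700
import Groth.Agent.SurfInt.InterCM
import Groth.Agent.SurfInt.Curve
import Groth.Agent.SurfInt.Degrees
import Groth.Agent.SurfInt.SectionDeg
import Groth.Agent.GeomField.GlobalFunctions
import Groth.Agent.H23.RedSub
import Groth.Agent.Snapper.DimVanish
import Groth.Agent.PnCoh.PushNat
import Groth.Agent.CurveCohLib.Euler
import Groth.Agent.ModPairLib.Quot
import Groth.Agent.ParShLib.ResStalk
import Groth.Agent.S0002

set_option autoImplicit false
set_option backward.isDefEq.respectTransparency false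
set_option backward.isDefEq.respectTransparency.types false
set_option linter.style.haveILetI false
attribute [-instance] CategoryTheory.catToReflQuiver
universe u
open CategoryTheory CategoryTheory.Limits AlgebraicGeometry
open Surf

namespace Groth.Agent.S14700

open Groth.Agent SurfInt

attribute [local instance] GeomField.globalAlgebra

/-- A connected reduced closed subscheme of a proper scheme has only constant functions. -/
theorem finrank_h0_quotMod (k : Type u) [Field k] [IsAlgClosed k] {X : Scheme.{u}}
    [X.Over (Spec (CommRingCat.of k))] [IsProper (X ↘ Spec (CommRingCat.of k))] (K : X.IdealSheafData)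
    [IsReduced K.subscheme] (hc : _root_.IsConnected (K.support : Set X)) :
    Module.finrank k (Coh.HH X (ClSub.quotMod K) 0) = 1 := by
  letI : K.subscheme.Over (Spec (CommRingCat.of k)) := ⟨K.subschemeι ≫ (X ↘ Spec (CommRingCat.of k))⟩
  haveI : IsProper (K.subscheme ↘ Spec (CommRingCat.of k)) :=
    inferInstanceAs (IsProper (K.subschemeι ≫ (X ↘ Spec (CommRingCat.of k))))
  obtain ⟨e⟩ := PnCoh.exists_linearEquiv_push k K.subschemeι rfl
    (QCoh.isQCoh_structureModule (X := K.subscheme)) 0
  refine e.finrank_eq.symm.trans ?_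
  haveI : ConnectedSpace K.subscheme := by
    refine connectedSpace_iff_univ.2 (K.subschemeι.isClosedEmbedding.isInducing.isPreconnected_image.1 ?_ |>
      fun h => ⟨?_, h⟩)
    · rw [Set.image_univ, K.range_subschemeι]; exact hc.isPreconnected
    · obtain ⟨x, hx⟩ := hc.nonempty
      rw [← K.range_subschemeι] at hx
      obtain ⟨y, rfl⟩ := hx
      exact ⟨y, trivial⟩
  rw [GeomField.finrank_HH_zero]
  letI := (GeomField.isField_globalFunctions k K.subscheme).toField
  haveI := GeomField.algebraMap_integral k K.subscheme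
  rw [← LinearEquiv.finrank_eq (LinearEquiv.ofBijective (Algebra.linearMap k Γ(K.subscheme, ⊤))
    (IsAlgClosed.algebraMap_bijective_of_isIntegral (k := k) (K := Γ(K.subscheme, ⊤))))]
  exact Module.finrank_self k

theorem prime_or_top {X : Scheme.{u}} (J : X.IdealSheafData) [IsIntegral J.subscheme] (U : X.affineOpens) :
    J.ideal U = ⊤ ∨ (J.ideal U).IsPrime ∧ J.subschemeι (genericPoint ↥J.subscheme) ∈ U.1 := by
  by_cases h : Nonempty (J.subschemeι ⁻¹ᵁ U.1 : J.subscheme.Opens)
  · refine Or.inr ⟨?_, ?_⟩
    · rw [← Ideal.Quotient.isDomain_iff_prime]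
      haveI : IsDomain Γ(J.subscheme, J.subschemeι ⁻¹ᵁ U.1) := inferInstance
      exact (J.subschemeObjIso U).commRingCatIsoToRingEquiv.symm.toMulEquiv.isDomain
    · exact ((genericPoint_spec (J.subscheme : Type u)).mem_open_set_iff (J.subschemeι ⁻¹ᵁ U.1).2).2
        (let ⟨z⟩ := h; ⟨z.1, Set.mem_univ _, z.2⟩)
  · refine Or.inl ?_
    have hb : J.subschemeι ⁻¹ᵁ U.1 = ⊥ := TopologicalSpace.Opens.ext (Set.eq_empty_iff_forall_notMem.2
      fun z hz => h ⟨⟨z, hz⟩⟩)
    haveI : Subsingleton Γ(J.subscheme, J.subschemeι ⁻¹ᵁ U.1) := by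
      rw [hb]; infer_instance
    haveI : Subsingleton (Γ(X, U.1) ⧸ J.ideal U) :=
      (J.subschemeObjIso U).commRingCatIsoToRingEquiv.symm.toEquiv.subsingleton
    exact Ideal.Quotient.subsingleton_iff.1 this

theorem eq_of_subset_curves {X : Scheme.{u}} (I J : X.IdealSheafData) [IsIntegral I.subscheme]
    [IsIntegral J.subscheme] (hI : topologicalKrullDim (I.support : Set X) = 1)
    (hJ : topologicalKrullDim (J.support : Set X) = 1)
    (h : J.subschemeι (genericPoint ↥J.subscheme) ∈ (I.support : Set X)) :
    (J.support : Set X) = I.support := by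
  have hJcl : (J.support : Set X) = closure {J.subschemeι (genericPoint ↥J.subscheme)} := by
    rw [← J.range_subschemeι]; exact range_eq_closure_genericPoint _
  have hIcl : (I.support : Set X) = closure {I.subschemeι (genericPoint ↥I.subscheme)} := by
    rw [← I.range_subschemeι]; exact range_eq_closure_genericPoint _
  have hle : (J.support : Set X) ⊆ I.support :=
    hJcl ▸ closure_minimal (Set.singleton_subset_iff.2 h) I.support.isClosed
  by_cases hg : I.subschemeι (genericPoint ↥I.subscheme) ∈ (J.support : Set X)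
  · exact hle.antisymm (hIcl ▸ closure_minimal (Set.singleton_subset_iff.2 hg) J.support.isClosed)
  · have h1 := HilbPoly.dim_lt_closure (n := 1)
      (by rw [← hIcl, hI]; exact le_of_eq Nat.cast_one.symm) J.support.isClosed (hle.trans hIcl.le) hg
    rw [hJ] at h1
    exact absurd h1 (lt_irrefl _)

theorem euler_quotMod (k : Type u) [Field k] {X : Scheme.{u}} [X.Over (Spec (CommRingCat.of k))]
    [IsProper (X ↘ Spec (CommRingCat.of k))] {K : X.IdealSheafData} (hK : BlowUp.IsEffCartierIdeal K) :
    Curv2.euler k X (ClSub.quotMod K) =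
      Curv2.euler k X (Coh.structureModule X) - Curv2.euler k X (ClSub.idealMod K) := by
  haveI := CurveCohLib.isNoetherian_of_proper (k := k) (X := X)
  have h : Curv2.euler k X (Coh.structureModule X) =
      Curv2.euler k X (ClSub.idealMod K) + Curv2.euler k X (ClSub.quotMod K) :=
    Euler.euler_add k (S := idealSeq K) (idealSeq_shortExact K)
      (by exact CurveDeg.isCoh_of_isInvertible (isInvertible_idealMod hK))
      (by exact CurveDeg.isCoh_of_isInvertible InvX.isInvertible_structureModule) (by exact ParShLib.isCoh_quotMod K)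
  omega

theorem pair_top (k : Type u) [Field k] {X : Scheme.{u}} [X.Over (Spec (CommRingCat.of k))]
    [IsProper (X ↘ Spec (CommRingCat.of k))] (hdim : topologicalKrullDim X ≤ ((2 : ℕ) : WithBot ℕ∞))
    (hT : BlowUp.IsEffCartierIdeal (⊤ : X.IdealSheafData)) {B : X.Modules}
    (hB : PicF.IsInvertible B) : pair k (ClSub.idealMod (⊤ : X.IdealSheafData)) B = 0 := by
  obtain ⟨e⟩ := nonempty_idealMod_mul hT hT
  have h2 : (⊤ : X.IdealSheafData) * ⊤ = ⊤ :=
    Scheme.IdealSheafData.ext (funext fun U => by simp [Ideal.top_mul])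
  rw [h2] at e
  have h := pair_tensor_left k hdim (isInvertible_idealMod hT) (isInvertible_idealMod hT) hB
  rw [← pair_congr k e (Iso.refl B)] at h
  omega

/-- The union of distinct curves: equations, degrees and Euler characteristic. -/
theorem union_curves (k : Type u) [Field k] {X : Scheme.{u}} [X.Over (Spec (CommRingCat.of k))]
    [IsProper (X ↘ Spec (CommRingCat.of k))] [IsIntegral X] (hdim : topologicalKrullDim X = 2)
    (hreg : ∀ x : X, IsRegularLocalRing (X.presheaf.stalk x))
    {n : ℕ} (C : Fin n → X.IdealSheafData) (hCint : ∀ i, IsIntegral (C i).subscheme)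
    (hCdim : ∀ i, topologicalKrullDim ((C i).support : Set X) = 1)
    (hCinj : Function.Injective fun i => ((C i).support : Set X)) (S : Finset (Fin n)) :
    BlowUp.IsEffCartierIdeal (S.inf C) ∧ (∀ U, ((S.inf C).ideal U).IsRadical) ∧
    (∀ U : X.affineOpens, ∀ P : Ideal Γ(X, U.1), P.IsPrime → (S.inf C).ideal U ≤ P → ∃ i ∈ S, (C i).ideal U ≤ P) ∧
    (∀ B : X.Modules, PicF.IsInvertible B → pair k (ClSub.idealMod (S.inf C)) B =
      ∑ i ∈ S, pair k (ClSub.idealMod (C i)) B) ∧
    Curv2.euler k X (ClSub.quotMod (S.inf C)) = ∑ i ∈ S, Curv2.euler k X (ClSub.quotMod (C i)) -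
      ∑ i ∈ S, ∑ j ∈ S, (if i < j then pair k (ClSub.idealMod (C i)) (ClSub.idealMod (C j)) else 0) := by
  classical
  haveI := CurveCohLib.isNoetherian_of_proper (k := k) (X := X)
  have hd2 : topologicalKrullDim X ≤ ((2 : ℕ) : WithBot ℕ∞) := hdim.le
  have hEC : ∀ i, BlowUp.IsEffCartierIdeal (C i) := fun i =>
    haveI := hCint i
    isEffCartier_curve k hdim hreg (C i) (hCdim i)
  induction S using Finset.induction with
  | empty =>
    have hT : BlowUp.IsEffCartierIdeal (⊤ : X.IdealSheafData) := fun x => by
      obtain ⟨_, ⟨V, hV, rfl⟩, hxV, -⟩ := X.isBasis_affineOpens.exists_subset_of_mem_open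
        (Set.mem_univ x) isOpen_univ
      exact ⟨⟨V, hV⟩, hxV, 1, one_mem _, by simp⟩
    refine ⟨by simpa using hT, fun U => ?_, fun U P hP hle => ?_, fun B hB => ?_, ?_⟩
    · simp [Ideal.IsRadical]
    · simp only [Finset.inf_empty, Scheme.IdealSheafData.ideal_top, Pi.top_apply, top_le_iff] at hle
      exact absurd hle hP.ne_top
    · simpa using pair_top k hd2 hT hB
    · simp only [Finset.inf_empty, Finset.sum_empty, sub_zero]
      have h1 := pair_top k hd2 hT (B := Coh.structureModule X) InvX.isInvertible_structureModule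
      have h2 := pair_top k hd2 hT (isInvertible_idealMod hT)
      rw [euler_quotMod k hT]
      obtain ⟨e⟩ := nonempty_idealMod_mul hT hT
      have h3 : (⊤ : X.IdealSheafData) * ⊤ = ⊤ :=
        Scheme.IdealSheafData.ext (funext fun U => by simp [Ideal.top_mul])
      rw [h3] at e
      unfold SurfInt.pair at h2
      rw [← euler_congr k e] at h2
      omega
  | @insert a S ha ih =>
    obtain ⟨hEP, hrad, hpr, hpair, heul⟩ := ih
    haveI := hCint a
    rw [Finset.inf_insert]
    have hinf : C a ⊓ S.inf C = C a * S.inf C := by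
      refine inf_eq_mul_of_local (hEC a) hEP fun U b p hb hp => ?_
      rcases prime_or_top (C a) U with htop | ⟨hP, hη⟩
      · rw [← hb, htop, Ideal.top_mul]; exact inf_le_right
      · have hnot : p ∉ (C a).ideal U := fun hpa => by
          obtain ⟨i, hi, hle⟩ := hpr U _ hP (by rw [hp, Ideal.span_singleton_le_iff_mem]; exact hpa)
          haveI := hCint i
          have hmem : (C a).subschemeι (genericPoint ↥(C a).subscheme) ∈ ((C i).support : Set X) := by
            have h' : (C a).subschemeι (genericPoint ↥(C a).subscheme) ∈ ((C a).support : Set X) := by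
              rw [← (C a).range_subschemeι]; exact ⟨_, rfl⟩
            rw [SetLike.mem_coe, Scheme.IdealSheafData.mem_support_iff_of_mem hη] at h' ⊢
            exact Scheme.zeroLocus_mono _ hle h'
          exact ha (hCinj (eq_of_subset_curves (C i) (C a) (hCdim i) (hCdim a) hmem) ▸ hi)
        rintro z ⟨hzb, hzp⟩
        obtain ⟨c, rfl⟩ := Ideal.mem_span_singleton'.1 hzp
        have hc : c ∈ (C a).ideal U := (hP.mem_or_mem (hb ▸ hzb)).resolve_right hnot
        exact Ideal.mul_mem_mul (hb ▸ hc) (Ideal.mem_span_singleton_self p)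
    have hEm := ModPairLib.isEffCartier_mul (hEC a) hEP
    have hI := isInvertible_idealMod (hEC a)
    have hJ := isInvertible_idealMod hEP
    obtain ⟨e⟩ := nonempty_idealMod_mul (hEC a) hEP
    refine ⟨hinf ▸ hEm, fun U => ?_, fun U P hP hle => ?_, fun B hB => ?_, ?_⟩
    · rw [Scheme.IdealSheafData.ideal_inf, Pi.inf_apply]
      rcases prime_or_top (C a) U with htop | ⟨hP, -⟩
      · rw [htop, top_inf_eq]; exact hrad U
      · exact hP.isRadical.inf (hrad U)
    · rw [Scheme.IdealSheafData.ideal_inf, Pi.inf_apply, hP.inf_le] at hle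
      rcases hle with h | h
      · exact ⟨a, Finset.mem_insert_self _ _, h⟩
      · obtain ⟨i, hi, h'⟩ := hpr U P hP h
        exact ⟨i, Finset.mem_insert_of_mem hi, h'⟩
    · rw [hinf, pair_congr k e (Iso.refl B), pair_tensor_left k hd2 hI hJ hB, hpair B hB,
        Finset.sum_insert ha]
    · rw [hinf, euler_quotMod k hEm, euler_congr k e, euler_tensor_eq,
        Finset.sum_insert ha, Finset.sum_insert ha, Finset.sum_insert ha,
        Finset.sum_congr rfl fun i _ => Finset.sum_insert ha, Finset.sum_add_distrib]
      have hsym : pair k (ClSub.idealMod (C a)) (ClSub.idealMod (S.inf C)) =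
          ∑ j ∈ S, (if a < j then pair k (ClSub.idealMod (C a)) (ClSub.idealMod (C j)) else 0) +
          ∑ i ∈ S, (if i < a then pair k (ClSub.idealMod (C i)) (ClSub.idealMod (C a)) else 0) := by
        rw [pair_comm, hpair _ hI, ← Finset.sum_add_distrib]
        refine Finset.sum_congr rfl fun i hi => ?_
        rcases lt_trichotomy a i with h | h | h
        · rw [if_pos h, if_neg h.asymm, add_zero, pair_comm]
        · exact absurd (h ▸ hi) ha
        · rw [if_neg h.asymm, if_pos h, zero_add]
      rw [euler_quotMod k hEP] at heul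
      rw [if_neg (lt_irrefl a), euler_quotMod k (hEC a)]
      linarith

/-- Let k be an algebraically closed field and X an integral scheme of dimension two with all local
rings regular, admitting a closed immersion into some P^n_k over k. Let C_1, …, C_n be pairwise
distinct integral one-dimensional closed subschemes of X with ideal sheaves I_1, …, I_n, and let Y
be the reduced closed subscheme with ideal I_1 ∩ ⋯ ∩ I_n (their union); assume Y is connected. Then
χ(O_Y) ≤ 1, i.e. the arithmetic genus 1 - χ(O_Y) of Y is nonnegative. If moreover χ(O_Y) = 1, then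
χ(O_{C_i}) = 1 for every i (each C_i has arithmetic genus zero) and Σ_{i<j} (C_i · C_j) = n - 1, so
that the incidence graph of the C_i, which is connected with Σ_{i<j} (C_i · C_j) edges, contains no
cycle; here (C_i · C_j) = χ(O_X) - χ(I_i) - χ(I_j) + χ(I_i ⊗ I_j) is the intersection number
(packaged as FGA.intNum). (The published statement allows any integral projective surface regular in
codimension one; this row takes X with all local rings regular, where the intersection numbers used
by the proof are defined.) -/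
theorem result (k : Type u) [Field k] [IsAlgClosed k] (X : Scheme.{u}) [X.Over (Spec (CommRingCat.of k))]
    [IsIntegral X] (hdim : topologicalKrullDim X = 2)
    (hproj : ∃ (n : ℕ) (ι : X ⟶ CohB1.ProjSpace n k), IsClosedImmersion ι ∧ ι ≫ CohB1.ProjSpace.toSpec n k = (X ↘ (Spec (CommRingCat.of k))))
    (hreg : ∀ x : X, IsRegularLocalRing (X.presheaf.stalk x))
    (n : ℕ) (C : Fin n → X.IdealSheafData) (hCint : ∀ i, IsIntegral (C i).subscheme)
    (hCdim : ∀ i, topologicalKrullDim ((C i).support : Set X) = 1)
    (hCinj : Function.Injective fun i => ((C i).support : Set X))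
    (hconn : _root_.IsConnected ((⨅ i, C i).support : Set X)) :
    Curv2.euler k X (ClSub.quotMod (⨅ i, C i)) ≤ 1 ∧
      (Curv2.euler k X (ClSub.quotMod (⨅ i, C i)) = 1 →
        (∀ i, Curv2.euler k X (ClSub.quotMod (C i)) = 1) ∧
          (∑ i : Fin n, ∑ j : Fin n,
              if i < j then FGA.intNum k X 2 ![ClSub.idealMod (C i), ClSub.idealMod (C j)] (Coh.structureModule X) else 0) =
            (n : ℤ) - 1) := by
  obtain ⟨N, ι, hι, hιe⟩ := hproj
  haveI : IsProper (X ↘ Spec (CommRingCat.of k)) := isProper_of_projective k hι hιe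
  haveI := CurveCohLib.isNoetherian_of_proper (k := k) (X := X)
  haveI : X.IsSeparated := isSeparated_of_proper k (X := X)
  have hd2 : topologicalKrullDim X ≤ ((2 : ℕ) : WithBot ℕ∞) := hdim.le
  have hEC : ∀ i, BlowUp.IsEffCartierIdeal (C i) := fun i =>
    haveI := hCint i
    isEffCartier_curve k hdim hreg (C i) (hCdim i)
  obtain ⟨hEY, hrad, -, -, heul⟩ := union_curves k hdim hreg C hCint hCdim hCinj Finset.univ
  rw [Finset.inf_univ_eq_iInf] at hEY hrad heul
  haveI : IsReduced (⨅ i, C i).subscheme := H23.RedSub.isReduced_subscheme hrad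
  have hvan : ∀ {F : X.Modules}, Coh.IsQCoh F → ∀ K : X.IdealSheafData,
      topologicalKrullDim (K.support : Set X) < ((2 : ℕ) : WithBot ℕ∞) → CohB1.support F ⊆ K.support →
      ∀ i, 2 ≤ i → Subsingleton (Coh.HH X F i) := fun hF K hK hs =>
    Snapper.subsingleton_HH_of_dim_lt 2 K.support hK _ hF hs
  have heq : ∀ K : X.IdealSheafData, topologicalKrullDim (K.support : Set X) < ((2 : ℕ) : WithBot ℕ∞) →
      Curv2.euler k X (ClSub.quotMod K) = (Module.finrank k (Coh.HH X (ClSub.quotMod K) 0) : ℤ) -
        Module.finrank k (Coh.HH X (ClSub.quotMod K) 1) := fun K hK => by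
    rw [Euler.euler_eq_sum k _ 2 fun i hi =>
        hvan (ParShLib.isCoh_quotMod K).1 K hK (support_quotMod_subset' K) i hi,
      Finset.sum_range_succ, Finset.sum_range_one]
    simp
    ring
  have hne : (⨅ i, C i) ≠ ⊤ := fun h => by
    have := hconn.nonempty
    rw [h] at this
    simp at this
  have hdY : topologicalKrullDim ((⨅ i, C i).support : Set X) < ((2 : ℕ) : WithBot ℕ∞) := by
    rw [dim_support_effCartier k hdim hEY hne]; exact Nat.cast_lt.2 one_lt_two |>.trans_le' (by simp)
  have h0 := finrank_h0_quotMod k (⨅ i, C i) hconn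
  have hY := heq _ hdY
  rw [h0] at hY
  refine ⟨by omega, fun h1 => ?_⟩
  have hall : ∀ i, Curv2.euler k X (ClSub.quotMod (C i)) = 1 := fun i => by
    haveI := hCint i
    have hci : topologicalKrullDim ((C i).support : Set X) < ((2 : ℕ) : WithBot ℕ∞) := by
      rw [hCdim i]; exact Nat.cast_lt.2 one_lt_two |>.trans_le' (by simp)
    have hconni : _root_.IsConnected ((C i).support : Set X) := by
      rw [← (C i).range_subschemeι, ← Set.image_univ]
      exact isConnected_univ.image _ (C i).subschemeι.continuous.continuousOn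
    rw [heq _ hci, finrank_h0_quotMod k (C i) hconni]
    have hle : (⨅ j, C j) ≤ C i := iInf_le C i
    let q : ClSub.quotMod (⨅ j, C j) ⟶ ClSub.quotMod (C i) :=
      (idealSeq_shortExact (⨅ j, C j)).gIsCokernel.desc (CokernelCofork.ofπ (f := (idealSeq (⨅ j, C j)).f)
        (ClSub.toSubscheme (C i)) (idealModι_toSubscheme hle))
    have hq : ClSub.toSubscheme (⨅ j, C j) ≫ q = ClSub.toSubscheme (C i) :=
      Cofork.IsColimit.π_desc (idealSeq_shortExact (⨅ j, C j)).gIsCokernel
    haveI : Epi (ClSub.toSubscheme (C i)) := CurvePoint.epi_toSubscheme _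
    haveI : Epi q := epi_of_epi_fac hq
    have hS : (ShortComplex.mk (kernel.ι q) q (kernel.condition q)).ShortExact :=
      { exact := ShortComplex.exact_of_f_is_kernel _ (kernelIsKernel q) }
    have hKc : Coh.IsCoh (kernel q) :=
      QCoh.isCoh_kernel (ParShLib.isCoh_quotMod _) (ParShLib.isCoh_quotMod _) q
    have hsurj : Function.Surjective (PnCoh.Finite.mapLin k q 1) := fun y => by
      haveI : Subsingleton (Coh.HH X (kernel q) (1 + 1)) :=
        hvan hKc.1 _ hdY (fun x hx => support_quotMod_subset' _ (QCoh.mem_support_of_mono hKc.1 (ParShLib.isCoh_quotMod _).1 (kernel.ι q) hx)) 2 le_rfl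
      exact (CurveCohLib.ker_deltaLin k hS 1).le (LinearMap.mem_ker.2 (Subsingleton.elim _ _))
    haveI := S0002.result k X (ClSub.quotMod (⨅ j, C j)) (ParShLib.isCoh_quotMod _) 1
    have := LinearMap.finrank_range_of_inj (f := (LinearMap.id : Coh.HH X (ClSub.quotMod (C i)) 1 →ₗ[k] _))
      Function.injective_id
    have hfin := (PnCoh.Finite.mapLin k q 1).finrank_range_le
    rw [LinearMap.range_eq_top.2 hsurj, finrank_top] at hfin
    omega
  refine ⟨hall, ?_⟩
  have hs : ∀ i j, FGA.intNum k X 2 ![ClSub.idealMod (C i), ClSub.idealMod (C j)] (Coh.structureModule X) =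
      pair k (ClSub.idealMod (C i)) (ClSub.idealMod (C j)) := fun i j =>
    intNum_eq_pair k hd2 (isInvertible_idealMod (hEC i)) (isInvertible_idealMod (hEC j))
  simp only [hs]
  rw [h1] at heul
  simp only [hall, Finset.sum_const, Finset.card_univ, Fintype.card_fin, nsmul_eq_mul, mul_one] at heul
  omega

end Groth.Agent.S14700
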