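import Groth.Statements.S5522
import Groth.Agent.RedRk29.Geom
import Groth.Agent.RedRk29.Extremal
import Groth.Agent.RedSub30.ClosedRoots
import Groth.Agent.AGFRoot.IsogBase
import Groth.Agent.RootData.Facts

set_option autoImplicit false
open CategoryTheory MonoidalCategory CartesianMonoidalCategory MonObj GrpObj AlgebraicGeometry
universe u
open RedSub

namespace Groth.Agent.S5522

open Groth.Agent RootData RootD in
theorem exists_base {I M N : Type} [AddCommGroup M] [AddCommGroup N] [Fintype I] [Module.Free ℤ M]
    [Module.Finite ℤ M] (P : RootPairing I ℤ M N) [P.IsReduced] {Ψ : Set I}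
    (hΨ : RedSub30.IsClosedSet P Ψ) (hneg : ∀ a b, a ∈ Ψ → P.root b = -P.root a → b ∉ Ψ) :
    ∃ b : P.Base, Ψ ⊆ RedSub.posRoots P b := by
  classical
  obtain ⟨lam0, h0⟩ := hΨ.exists_pos hneg
  obtain ⟨lam, h1, h2⟩ := RedRk29.exists_perturb lam0.toAddMonoidHom (Set.finite_range P.root)
  let S : Set I := {i | 0 < lam (P.root i)}
  have hn : ∀ i, lam (P.root i) ≠ 0 := fun i => h1 _ ⟨i, rfl⟩ (P.ne_zero i)
  have hneg' : ∀ i, lam (P.root (P.reflectionPerm i i)) = -lam (P.root i) := fun i => by
    rw [RootPairing.root_reflectionPerm, RootPairing.reflection_apply_self, map_neg]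
  have hS : IsPosSys P S := isPosSys_of_closed
    (fun i hi h => by simp only [S, Set.mem_setOf_eq, hneg'] at hi h; omega)
    (fun i => by
      simp only [S, Set.mem_setOf_eq, hneg']; have := hn i; omega)
    (fun {i j k} hi hj hk => by
      simp only [S, Set.mem_setOf_eq, hk, map_add] at hi hj ⊢; omega)
  refine ⟨AGFRoot.baseOfSimple (indec P S).toFinite.toFinset (by simpa using indec_simple hS),
    fun a ha => ?_⟩
  have : a ∈ posOf P (indec P S) := by
    rw [posOf_indec hS]
    exact h2 _ ⟨a, rfl⟩ (h0 a ha)
  simpa [RedSub.posRoots, AGFRoot.baseOfSimple, posOf, natSpan] using this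

/-- Let G be a split reductive group over a non-empty scheme S with splitting D. If R' is a closed set
of roots of the root datum of D containing no root together with its opposite, then R' is contained
in a system of positive roots: there is a system of simple roots b with R' ⊆ R_+(b). (A statement
about the root datum, reached in the source through the subgroups H_{R'}.) -/
theorem result {S : Scheme.{u}} [Nonempty S] {G : Over S} [GrpObj G]
    (D : Red.SplitRed G) (R' : Set D.idx)
    (hcl : ∀ a b c : D.idx, a ∈ R' → b ∈ R' → D.P.root a + D.P.root b = D.P.root c → c ∈ R')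
    (hneg : ∀ a ∈ R', D.P.reflectionPerm a a ∉ R') :
    ∃ b : D.P.Base, R' ⊆ RedSub.posRoots D.P b := by
  haveI := Groth.Agent.RedRk29.isReduced (D := D)
  exact exists_base D.P hcl fun a b ha hb => by
    have : b = D.P.reflectionPerm a a := D.P.root.injective (by
      rw [hb, RootPairing.root_reflectionPerm, RootPairing.reflection_apply_self])
    exact this ▸ hneg a ha

end Groth.Agent.S5522
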