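import Groth.Statements.S17806
import Groth.Agent.AmpleX.Comp
import Groth.Agent.AmpleX.RelAffine
-- import your own Groth.Agent.* helpers here

set_option autoImplicit false
universe u
open CategoryTheory CategoryTheory.Limits AlgebraicGeometry
open Variety

namespace Groth.Agent.S17806

set_option linter.style.haveILetI false
set_option linter.unusedSectionVars false
set_option maxHeartbeats 1000000
set_option backward.isDefEq.respectTransparency false
set_option backward.isDefEq.respectTransparency.types false
open scoped Groth.Agent.H23.PicMul in
/-- Let V and W be schemes proper over a field k (complete varieties), π : W ⟶ V a finite morphism over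
k, and L an ample invertible module on V. Then π^* L is ample on W. (π is not assumed surjective.) -/
theorem result (k : Type u) [Field k]
    {V W : Scheme.{u}} (gV : V ⟶ Spec (CommRingCat.of k)) (gW : W ⟶ Spec (CommRingCat.of k)) [IsProper gV] [IsProper gW]
    (π : W ⟶ V) (hπ : π ≫ gV = gW) [IsFinite π] (L : V.Modules) (hL : PicF.IsInvertible L) (hamp : CohB1.IsAmple L) :
    CohB1.IsAmple ((Scheme.Modules.pullback π).obj L) := by
  haveI : CompactSpace W := QuasiCompact.compactSpace_of_compactSpace gW
  haveI : QuasiCompact (π ≫ gV) := by rw [hπ]; infer_instance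
  refine (AmpleX.isRelAmple_iff_isAmple gW _).1 ?_
  have h := AmpleX.isRelAmple_pullback_quasiAffine gV π
    ⟨inferInstance, fun U hU => by
      haveI : IsAffine ((π ⁻¹ᵁ U : W.Opens) : Scheme.{u}) := hU.preimage π
      infer_instance⟩
    ((AmpleX.isRelAmple_iff_isAmple gV L).2 hamp)
  rw [hπ] at h
  exact h

end Groth.Agent.S17806
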