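import Groth.Statements.S1170
import Groth.Agent.PicFRel.HilbSymApp
import Groth.Agent.Lib.CurveDualPrep
import Groth.Agent.CurveBC.Main
import Groth.Agent.AmpleVan.Pull
import Groth.Agent.GrpSchLib.SmoothReduced
import Groth.Agent.S1611
import Groth.Agent.S2324
import Groth.Agent.Synt29.SmoothDim
import Groth.Agent.SmoothDim.Basic
import Groth.Agent.VarDim.Top

set_option autoImplicit false
open CategoryTheory CategoryTheory.Limits AlgebraicGeometry
universe u
open HilbD

namespace Groth.Agent.S1170

set_option backward.isDefEq.respectTransparency false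
set_option backward.isDefEq.respectTransparency.types false

/-- A smooth integral curve is smooth of relative dimension one. -/
theorem smoothRelDim_one (k : Type u) [Field k] {X : Scheme.{u}}
    (f : X ⟶ Spec (CommRingCat.of k)) [Smooth f] [IsIntegral X] (hdim : topologicalKrullDim X = 1) :
    SmoothOfRelativeDimension 1 f := by
  haveI : LocallyOfFiniteType f := inferInstance
  have key : ∀ x : X, ∃ V : X.Opens, x ∈ V ∧ SmoothOfRelativeDimension 1 (V.ι ≫ f) := fun x => by
    obtain ⟨U, hU, V, hV, e, n, hxV, hstd, hsm, -⟩ := Synt29.SmoothDim.exists_chart f x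
    obtain rfl : U = ⊤ := top_le_iff.1 fun z _ => by
      have : z = f x := Subsingleton.elim (α := PrimeSpectrum k) _ _
      rw [this]; exact e hxV
    let φ : k →+* Γ(X, V) :=
      (f.appLE ⊤ V e).hom.comp (Scheme.ΓSpecIso (CommRingCat.of k)).inv.hom
    letI := φ.toAlgebra
    have hφ : RingHom.IsStandardSmoothOfRelativeDimension n φ :=
      RingHom.isStandardSmoothOfRelativeDimension_respectsIso.right (f.appLE ⊤ V e).hom
        (Scheme.ΓSpecIso (CommRingCat.of k)).symm.commRingCatIsoToRingEquiv hstd
    haveI : Algebra.IsStandardSmoothOfRelativeDimension n k Γ(X, V) := hφ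
    haveI : Nonempty V := ⟨⟨x, hxV⟩⟩
    have h1 := SmoothDim.ringKrullDim_eq k Γ(X, V) n
    have hη : genericPoint X ∈ V := (genericPoint_spec X).mem_open_set_iff V.isOpen |>.2 ⟨x, trivial, hxV⟩
    have h2 : topologicalKrullDim (V : Set X) = 1 := by
      rw [← hdim, VarDim.topologicalKrullDim_opens_eq_iSup_deg f V,
        VarDim.topologicalKrullDim_eq_deg_genericPoint f]
      refine le_antisymm (iSup_le fun z => ?_) (le_iSup_of_le ⟨genericPoint X, hη⟩ le_rfl)
      exact_mod_cast VarDim.deg_le_of_specializes f (genericPoint_specializes _)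
    have h3 : topologicalKrullDim (V : Set X) = ringKrullDim Γ(X, V) := by
      rw [← PrimeSpectrum.topologicalKrullDim_eq_ringKrullDim]
      exact IsHomeomorph.topologicalKrullDim_eq _ hV.isoSpec.hom.homeomorph.isHomeomorph
    rw [h2, h1] at h3
    obtain rfl : n = 1 := by exact_mod_cast h3.symm
    exact ⟨V, hxV, hsm⟩
  choose V hxV hV using key
  exact IsZariskiLocalAtSource.of_openCover (P := @SmoothOfRelativeDimension.{u} 1)
    (X.openCoverOfIsOpenCover V (TopologicalSpace.IsOpenCover.mk
      (top_unique fun x _ => TopologicalSpace.Opens.mem_iSup.mpr ⟨x, hxV x⟩))) hV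

/-- Let X be a smooth proper curve over a field k which stays irreducible after every extension of the
base field. Then for every d the degree-d Hilbert functor of points of X over k is represented by a
scheme which is proper and smooth over k. The published statement has projective in place of proper
(the two agree for curves over a field) and also asserts that the representing scheme is irreducible
of dimension d, which is not asserted here. -/
theorem result (k : Type u) [Field k] (X : Scheme.{u}) (f : X ⟶ Spec (CommRingCat.of k))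
    (hX : Curve.IsSmoothProperCurve k X f) [GeometricallyIrreducible f] (d : ℕ) :
    ∃ (H : Over (Spec (CommRingCat.of k))) (Z : HilbD.Obj f d H), HilbD.IsUniversal f d H Z ∧ IsProper H.hom ∧ Smooth H.hom := by
  obtain ⟨hp, hs, hi, hdim⟩ := hX
  letI : X.Over (Spec (CommRingCat.of k)) := ⟨f⟩
  haveI : IsProper (X ↘ Spec (CommRingCat.of k)) := hp
  haveI : Smooth (X ↘ Spec (CommRingCat.of k)) := hs
  haveI : GeometricallyIrreducible (X ↘ Spec (CommRingCat.of k)) := ‹GeometricallyIrreducible f›
  haveI : GeometricallyReduced f := GrpSchLib.geometricallyReduced_of_smooth f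
  haveI : GeometricallyIntegral (X ↘ Spec (CommRingCat.of k)) :=
    GeometricallyIntegral.of_geometricallyReduced_of_geometricallyIrreducible f
  haveI : GeometricallyConnected (X ↘ Spec (CommRingCat.of k)) :=
    ⟨fun L _ y P fst snd h => by
      haveI := GeometricallyIrreducible.geometrically_irreducibleSpace
        (f := X ↘ Spec (CommRingCat.of k)) _ _ _ h
      infer_instance⟩
  have h0 := CurveBC.finrank_h0_of_geometricallyConnected k X
  obtain ⟨L, hL, hdeg⟩ := CurveDuality.exists_deg_ge k (X := X) hdim (2 * (Curv2.genus k X : ℤ) + 1)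
  obtain ⟨n, i, hiC, -, -⟩ := Groth.Agent.S1611.result k X hdim h0 L hL hdeg
  obtain ⟨A, hA⟩ := AmpleVan.exists_ample_of_closedImmersion_projSpace i
  haveI : QuasiCompact f := inferInstance
  haveI : CompactSpace X := QuasiCompact.compactSpace_of_compactSpace f
  haveI : X.IsSeparated := ⟨by rw [← terminal.comp_from f]; infer_instance⟩
  have hAF : SymProd.IsAF f := fun s T hT => by
    obtain ⟨m, t, hZ, -, haff⟩ := Groth.Agent.S2324.result X A hA (T : Set X) T.finite_toSet ⊤ (by simp)
    exact ⟨_, haff, fun x hx => hZ hx⟩
  haveI : SmoothOfRelativeDimension 1 f := smoothRelDim_one k f hdim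
  have hrep := PicFRel.HilbSym.rep_of_isAF f hAF
  obtain ⟨H, Z, hZ⟩ := hrep d
  exact ⟨H, Z, hZ, PicFRel.HilbSym.proper_of_universal f hrep H Z hZ,
    PicFRel.HilbSym.smooth_of_universal f hrep H Z hZ⟩

end Groth.Agent.S1170
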