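import Groth.Statements.S8292
import Groth.Agent.ProjQMapX.TN
import Groth.Agent.Proj16.RelMap
import Groth.Agent.Proj16.Map

set_option autoImplicit false
universe u
open CategoryTheory CategoryTheory.Limits AlgebraicGeometry Opposite TopologicalSpace
open scoped HomogeneousIdeal
noncomputable section
open EGA2

namespace Groth.Agent.S8292

/-- A graded map onto the degree one part of a ring generated in degrees zero and one is onto in
positive degrees. -/
lemma exists_preimage {A B σ τ : Type u} [CommRing A] [CommRing B] [SetLike σ A]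
    [AddSubgroupClass σ A] [SetLike τ B] [AddSubgroupClass τ B] {𝒜 : ℕ → σ} {ℬ : ℕ → τ}
    [GradedRing 𝒜] [GradedRing ℬ] (ψ : 𝒜 →+*ᵍ ℬ)
    (hgen : Subring.closure ((ℬ 0 : Set B) ∪ (ℬ 1 : Set B)) = ⊤)
    (h1 : ∀ y ∈ ℬ 1, ∃ x, ψ x = y) :
    ∀ k, 1 ≤ k → ∀ y ∈ ℬ k, ∃ x ∈ 𝒜 k, ψ x = y := by
  classical
  let N := NonUnitalSubring.closure (ℬ 1 : Set B)
  have hsmul : ∀ c ∈ ℬ 0, ∀ n ∈ N, c * n ∈ N := by
    intro c hc n hn
    induction hn using NonUnitalSubring.closure_induction with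
    | mem x hx =>
      exact NonUnitalSubring.subset_closure (by simpa using SetLike.mul_mem_graded hc hx)
    | zero => rw [mul_zero]; exact zero_mem _
    | add x y _ _ hx hy => rw [mul_add]; exact add_mem hx hy
    | neg x _ hx => rw [mul_neg]; exact neg_mem hx
    | mul x y _ hy hx _ => rw [← mul_assoc]; exact mul_mem hx hy
  have key : ∀ b : B, ∃ c ∈ ℬ 0, b - c ∈ N := by
    intro b
    have hb : b ∈ Subring.closure ((ℬ 0 : Set B) ∪ (ℬ 1 : Set B)) := by rw [hgen]; trivial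
    induction hb using Subring.closure_induction with
    | mem x hx =>
      rcases hx with hx | hx
      · exact ⟨x, hx, by rw [sub_self]; exact zero_mem _⟩
      · exact ⟨0, zero_mem _, by rw [sub_zero]; exact NonUnitalSubring.subset_closure hx⟩
    | zero => exact ⟨0, zero_mem _, by rw [sub_self]; exact zero_mem _⟩
    | one => exact ⟨1, SetLike.one_mem_graded _, by rw [sub_self]; exact zero_mem _⟩
    | add x y _ _ hx hy =>
      obtain ⟨c, hc, hxc⟩ := hx
      obtain ⟨e, he, hye⟩ := hy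
      exact ⟨c + e, add_mem hc he, by rw [add_sub_add_comm]; exact add_mem hxc hye⟩
    | neg x _ hx =>
      obtain ⟨c, hc, hxc⟩ := hx
      exact ⟨-c, neg_mem hc, by rw [← neg_sub', neg_mem_iff]; exact hxc⟩
    | mul x y _ _ hx hy =>
      obtain ⟨c, hc, hxc⟩ := hx
      obtain ⟨e, he, hye⟩ := hy
      refine ⟨c * e, by simpa using SetLike.mul_mem_graded hc he, ?_⟩
      rw [show x * y - c * e = (x - c) * (y - e) + c * (y - e) + e * (x - c) by ring]
      exact add_mem (add_mem (mul_mem hxc hye) (hsmul c hc _ hye)) (hsmul e he _ hxc)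
  have hN : ∀ n ∈ N, ∃ x, ψ x = n := by
    intro n hn
    induction hn using NonUnitalSubring.closure_induction with
    | mem x hx => exact h1 x hx
    | zero => exact ⟨0, map_zero ψ⟩
    | add x y _ _ hx hy =>
      obtain ⟨a, rfl⟩ := hx; obtain ⟨b, rfl⟩ := hy; exact ⟨a + b, map_add ψ a b⟩
    | neg x _ hx => obtain ⟨a, rfl⟩ := hx; exact ⟨-a, map_neg ψ a⟩
    | mul x y _ _ hx hy =>
      obtain ⟨a, rfl⟩ := hx; obtain ⟨b, rfl⟩ := hy; exact ⟨a * b, map_mul ψ a b⟩
  intro k hk y hy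
  obtain ⟨c, hc, hyc⟩ := key y
  obtain ⟨a, ha⟩ := hN _ hyc
  refine ⟨DirectSum.decompose 𝒜 a k, SetLike.coe_mem _, ?_⟩
  rw [ψ.map_directSumDecompose, ha, DirectSum.decompose_sub, DirectSum.sub_apply,
    AddSubgroupClass.coe_sub, DirectSum.decompose_of_mem_same _ hy,
    DirectSum.decompose_of_mem_ne _ hc (show (0:ℕ) ≠ k by omega), sub_zero]

end Groth.Agent.S8292

namespace Groth.Agent.S8292

/-- Let 𝒮 be a quasi-coherent positively graded O_Y-algebra generated by 𝒮_1, M a quasi-coherent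
O_Y-module and u : M → 𝒮_1 a surjective module map; let ū : Sym(M) → 𝒮 be the graded algebra
homomorphism extending u. Then the morphism Proj(𝒮) → P(M) = Proj(Sym(M)) induced by ū is a closed
immersion. -/
theorem result {Y PT PS : Scheme.{u}} (𝒮 𝒯 : RelProj.QCGrAlg Y)
    (hgen : 𝒮.IsGenDegOne) (M : Y.Modules) (hM : Coh.IsQCoh M)
    (u : M ⟶ 𝒮.toModule)
    (hu1 : ∀ (U : Y.Opens) (hU : IsAffineOpen U) (x : Γ(M, U)), (u.app U) x ∈ 𝒮.deg U hU 1)
    (husurj : ∀ (U : Y.Opens) (hU : IsAffineOpen U) (s : 𝒮.presheaf.obj (op U)), s ∈ 𝒮.deg U hU 1 →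
      ∃ x : Γ(M, U), (u.app U) x = s)
    (j : M ⟶ 𝒯.toModule) (hT : RelProj.IsGrSymAlg M 𝒯 j)
    (ubar : 𝒯.toQCAlg ⟶ 𝒮.toQCAlg) (hubar : RelProj.IsGradedHom ubar)
    (hju : j ≫ RelSpec.QCAlg.Hom.toModuleMap ubar = u)
    (hirr : ∀ (U : Y.Opens) (hU : IsAffineOpen U),
      (𝒮.deg U hU)₊ ≤ ((𝒯.deg U hU)₊).map (RelProj.gradedHomAt ubar hubar U hU))
    (pT : PT ⟶ Y) (pS : PS ⟶ Y)
    (chartT : ∀ (U : Y.Opens) (hU : IsAffineOpen U), (((pT ⁻¹ᵁ U : PT.Opens) : Scheme.{u}) ≅ Proj (𝒯.deg U hU)))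
    (chartS : ∀ (U : Y.Opens) (hU : IsAffineOpen U), (((pS ⁻¹ᵁ U : PS.Opens) : Scheme.{u}) ≅ Proj (𝒮.deg U hU)))
    (hPT : RelProj.IsRelProj 𝒯 pT chartT) (hPS : RelProj.IsRelProj 𝒮 pS chartS)
    (h : PS ⟶ PT) (hh : RelProj.IsRelProjMap ubar hubar hirr chartT chartS h) : IsClosedImmersion h := by
  refine Proj16.relProjMap_of_affineOpens hPT hPS hh @IsClosedImmersion fun U hU => ?_
  refine Proj16.map_of_away _ _ fun d f hd hf => IsClosedImmersion.spec_of_surjective _ ?_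
  refine ProjQMapX.awayMap_surjective_of_TN _ (n := 1)
    (exists_preimage _ (hgen U hU) fun y hy => ?_) hd hf
  obtain ⟨x, hx⟩ := husurj U hU y hy
  exact ⟨(j.app U) x, (congr($(hju).app U x)).trans hx⟩

end Groth.Agent.S8292
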