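import Groth.Statements.S12143
import Groth.Agent.SymAlgX.GrSym
import Groth.Agent.InvX.Frame
import Groth.Agent.ProjBC35.DegOne
import Groth.Agent.Proj16.RelBasic
import Mathlib.Algebra.Algebra.Operations
import Mathlib.Algebra.Polynomial.AlgebraMap
import Mathlib.Algebra.Polynomial.Coeff

set_option autoImplicit false
universe u
open CategoryTheory CategoryTheory.Limits AlgebraicGeometry TopologicalSpace Opposite
open scoped HomogeneousIdeal
noncomputable section
open EGA2

namespace Groth.Agent.S12143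

variable {R : Type u} [CommRing R] {M : Type u} [AddCommGroup M] [Module R M] {e : M}
  (he : Function.Bijective fun r : R => r • e)
include he

lemma exists_of_mem_symDeg {n : ℕ} {a : SymmetricAlgebra R M} (ha : a ∈ SymAlgX.symDeg R M n) :
    ∃ r, a = algebraMap R _ r * SymmetricAlgebra.ι R M e ^ n := by
  have h : LinearMap.range (SymmetricAlgebra.ι R M) ≤ Submodule.span R {SymmetricAlgebra.ι R M e} := by
    rintro _ ⟨x, rfl⟩
    obtain ⟨r, rfl⟩ := he.2 x
    rw [map_smul]
    exact Submodule.smul_mem _ _ (Submodule.mem_span_singleton_self _)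
  have h' := pow_le_pow_left' h n ha
  rw [Submodule.span_pow, Set.singleton_pow, Submodule.mem_span_singleton] at h'
  obtain ⟨r, rfl⟩ := h'
  exact ⟨r, Algebra.smul_def r _⟩

lemma eq_zero_of_mul_pow {r : R} {n : ℕ}
    (h : algebraMap R (SymmetricAlgebra R M) r * SymmetricAlgebra.ι R M e ^ n = 0) : r = 0 := by
  let c : R ≃ₗ[R] M := LinearEquiv.ofBijective (LinearMap.toSpanSingleton R M e) he
  let g : M →ₗ[R] Polynomial R := (LinearMap.toSpanSingleton R (Polynomial R) Polynomial.X).comp c.symm.toLinearMap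
  have hg : g e = Polynomial.X := by
    have hc : c.symm e = 1 := c.injective (by
      rw [c.apply_symm_apply]; exact (one_smul R e).symm)
    show c.symm e • Polynomial.X = _
    rw [hc, one_smul]
  have h2 := congrArg (SymmetricAlgebra.lift g) h
  rw [map_mul, map_pow, SymmetricAlgebra.lift_ι_apply, AlgHom.commutes, map_zero, hg,
    Polynomial.algebraMap_eq, Polynomial.C_mul_X_pow_eq_monomial, Polynomial.monomial_eq_zero_iff] at h2
  exact h2

end Groth.Agent.S12143

namespace Groth.Agent.S12143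

/-- Let L be an invertible O_X-module and 𝒮L = ⊕_{n ≥ 0} L^{⊗n} its graded symmetric algebra; then the
structure morphism Proj(𝒮L) → X of the relative homogeneous spectrum is an isomorphism (the graded
algebra O_X[T] twisted by L has the same Proj as O_X[T], which is X). -/
theorem result {X PL : Scheme.{u}} (L : X.Modules)
    (hL : PicF.IsInvertible L) (hLq : Coh.IsQCoh L)
    (𝒮L : RelProj.QCGrAlg X) (j : L ⟶ 𝒮L.toModule) (hj : RelProj.IsGrSymAlg L 𝒮L j)
    (pL : PL ⟶ X) (chartL : ∀ (U : X.Opens) (hU : IsAffineOpen U), (((pL ⁻¹ᵁ U : PL.Opens) : Scheme.{u}) ≅ Proj (𝒮L.deg U hU)))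
    (hPL : RelProj.IsRelProj 𝒮L pL chartL) :
    IsIso pL := by
  let I := {U : X.Opens // IsAffineOpen U ∧ ∃ e : Γ(L, U), InvX.IsFrame e}
  refine IsZariskiLocalAtTarget.of_iSup_eq_top (P := MorphismProperty.isomorphisms Scheme.{u})
    (fun U : I => U.1) (eq_top_iff.mpr fun x _ => ?_) fun U => ?_
  · obtain ⟨W, hxW, e, he⟩ := InvX.exists_frame hL x
    obtain ⟨_, ⟨V, hV, rfl⟩, hxV, hVW⟩ := X.isBasis_affineOpens.exists_subset_of_mem_open hxW W.isOpen
    exact Opens.mem_iSup.mpr ⟨⟨V, hV, _, he.res hVW⟩, hxV⟩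
  obtain ⟨U, hU, e, he⟩ := U
  have he' : Function.Bijective fun r : Γ(X, U) => r • e := by
    simpa [AModX.res_self] using he U le_rfl
  show IsIso (pL ∣_ U)
  rw [Proj16.morphismRestrict_eq hPL U hU]
  have hb := SymAlgX.secMap_bijective hLq hj U hU
  have : IsIso (Proj.toSpecZero (𝒮L.deg U hU) ≫ Spec.map (𝒮L.strZero U hU)) := by
    refine ProjBC35.isIso_toSpecZero_comp (R := Γ(X, U)) (𝒮L.str.app (op U)).hom (𝒮L.str_mem U hU)
      (e := SymAlgX.secMap j U (SymmetricAlgebra.ι _ _ e))
      (by rw [SymAlgX.secMap_ι]; exact hj.2 U hU e) (fun n a ha => ?_) (fun r n h => ?_) _ (fun r => rfl)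
    · obtain ⟨b, rfl⟩ := hb.2 a
      rw [SymAlgX.secMap_mem_iff hLq hj U hU] at ha
      obtain ⟨r, rfl⟩ := exists_of_mem_symDeg he' ha
      exact ⟨r, by rw [map_mul, map_pow, SymAlgX.secMap_algebraMap]⟩
    · refine eq_zero_of_mul_pow he' (n := n) (hb.1 (a₂ := 0) ?_)
      rw [map_mul, map_pow, SymAlgX.secMap_algebraMap, map_zero]
      exact h
  rw [← Category.assoc (Proj.toSpecZero _)]
  infer_instance

end Groth.Agent.S12143
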