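import Groth.Statements.S0035
import Groth.Agent.CohCore23.FinProjBC

set_option autoImplicit false
universe u
open Coherent

namespace Groth.Agent.S0035

open AlgebraicGeometry CategoryTheory TensorProduct in
/-- Let B be a finite projective (= finite locally free) A-algebra, X any scheme over Spec A, X' = X ×_A
Spec B with projection g', and F quasi-coherent on X. Then H^i(X, F) ⊗_A B ≅ H^i(X', g'^* F). No
quasi-compactness or separation hypothesis on X is needed. -/
theorem result (A B : Type u) [CommRing A] [CommRing B] [Algebra A B]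
    [Module.Finite A B] [Module.Projective A B] (X X' : Scheme.{u})
    [X.Over (Spec (CommRingCat.of A))] [X'.Over (Spec (CommRingCat.of B))] (g' : X' ⟶ X)
    (h : IsPullback g' (X' ↘ Spec (CommRingCat.of B)) (X ↘ Spec (CommRingCat.of A))
      (Spec.map (CommRingCat.ofHom (algebraMap A B))))
    (M : X.Modules) [Coh.IsQCoh M] (i : ℕ) :
    Nonempty (TensorProduct A B (Coh.HH X M i) ≃ₗ[B] Coh.HH X' ((Scheme.Modules.pullback g').obj M) i) := by
  haveI : IsAffineHom g' := MorphismProperty.of_isPullback h.flip inferInstance
  exact Groth.Agent.CohCore23.HH_baseChange_finiteProjective g'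
    (Coh.toGlobal (X ↘ Spec (CommRingCat.of A))) (Coh.toGlobal (X' ↘ Spec (CommRingCat.of B)))
    (Groth.Agent.QCoh.toGlobal_comm _ _ _ h.w) _ (Groth.Agent.QCoh.isAffineBC_of_isPullback h ‹_›)
    (Groth.Agent.QCoh.isQCoh_pullback g' ‹_›) i

end Groth.Agent.S0035
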