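import Groth.Statements.S0091
import Groth.Agent.PBC50.AicVanish

set_option autoImplicit false
set_option backward.isDefEq.respectTransparency false
set_option backward.isDefEq.respectTransparency.types false
open CategoryTheory CategoryTheory.Limits AlgebraicGeometry Opposite
universe u
open EtBase

namespace Groth.Agent.S0091

/-- Gabber — let X be affine, integral and normal, and suppose its function field is separably closed;
then on every closed subscheme of X the constant sheaf on a finite abelian group has no étale
cohomology in positive degrees. -/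
theorem result {Z X : Scheme.{u}} [IsAffine X] [IsIntegral X]
    (hN : ∀ x : X, IsIntegrallyClosed (X.presheaf.stalk x)) [IsSepClosed X.functionField]
    (i : Z ⟶ X) [IsClosedImmersion i] (M : Type) [AddCommGroup M] [Finite M] (q : ℕ) (hq : 1 ≤ q) :
    Subsingleton (EtCoh.H Z (EtCoh.const Z M) q) := by
  obtain ⟨n, rfl⟩ := Nat.exists_eq_add_of_le' hq
  let N : EtCoh.Ab Z := EtCoh.const Z M
  let φ : AddCommGrpCat.of (ULift.{u + 1} M) ⟶ N.obj.obj (op (EtCoh.top Z)) :=
    (toSheafify Z.smallEtaleTopology ((Functor.const Z.Etaleᵒᵖ).obj (AddCommGrpCat.of (ULift.{u + 1} M)))).app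
      (op (EtCoh.top Z))
  have hφ : Groth.Agent.EtFound.ConstBy (A := AddCommGrpCat.{u + 1}) N φ := fun Ω _ _ ξ z =>
    Groth.Agent.EtFound.toSheafify_const_germ_bijective ξ AddCommGrpCat.{u + 1} _ _ z
  exact Groth.Agent.PBC50.AicVanish.subsingleton_H ⟨X, inferInstance, inferInstance, inferInstance, i, inferInstance, hN⟩
    ⟨_, φ, inferInstanceAs (Finite (ULift.{u + 1} M)), hφ⟩ n

end Groth.Agent.S0091
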