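import Groth.Statements.S0093
import Groth.Agent.S0091

set_option autoImplicit false
set_option backward.isDefEq.respectTransparency false
set_option backward.isDefEq.respectTransparency.types false
open CategoryTheory CategoryTheory.Limits AlgebraicGeometry Opposite
universe u
open EtBase

namespace Groth.Agent.S0093

theorem spec_props (B : CommRingCat.{u}) [IsDomain B] [IsIntegrallyClosed B] (K : Type u) [Field K]
    [IsAlgClosed K] [Algebra B K] [IsFractionRing B K] :
    IsSepClosed (Spec B).functionField ∧ ∀ x : Spec B, IsIntegrallyClosed ((Spec B).presheaf.stalk x) := by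
  refine ⟨?_, fun x => ?_⟩
  · let e : K ≃+* (Spec B).functionField :=
      (IsLocalization.algEquiv (nonZeroDivisors B) K (Spec B).functionField).toRingEquiv
    haveI : IsAlgClosed (Spec B).functionField := IsAlgClosed.of_ringEquiv K _ e
    infer_instance
  · letI : Algebra B ((Spec B).presheaf.stalk x) := StructureSheaf.stalkAlgebra B x
    haveI : IsLocalization x.asIdeal.primeCompl ((Spec B).presheaf.stalk x) := StructureSheaf.IsLocalization.to_stalk B x
    exact isIntegrallyClosed_of_isLocalization _ x.asIdeal.primeCompl x.asIdeal.primeCompl_le_nonZeroDivisors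

/-- the spectrum of the absolute integral closure of a domain -/
theorem spec_integralClosure (P : Type u) [CommRing P] [IsDomain P] :
    ∃ (B : CommRingCat.{u}) (φ : CommRingCat.of P ⟶ B) (_ : IsIntegral (Spec B)),
      IsIntegralHom (Spec.map φ) ∧ Surjective (Spec.map φ) ∧ IsSepClosed (Spec B).functionField ∧
        ∀ x : Spec B, IsIntegrallyClosed ((Spec B).presheaf.stalk x) := by
  let K := AlgebraicClosure (FractionRing P)
  have : Algebra.IsAlgebraic P K :=
    (IsFractionRing.comap_isAlgebraic_iff (A := P) (K := FractionRing P) (C := K)).2 inferInstance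
  have : IsFractionRing (integralClosure P K) K :=
    integralClosure.isFractionRing_of_algebraic fun a ha => by
      rw [IsScalarTower.algebraMap_apply P (FractionRing P) K, map_eq_zero] at ha
      exact IsFractionRing.injective P (FractionRing P) (ha.trans (map_zero _).symm)
  have : IsIntegrallyClosed (integralClosure P K) := (isIntegrallyClosed_iff K).2 fun {x} hx =>
    ⟨⟨x, isIntegral_trans (R := P) x hx⟩, rfl⟩
  let φ : CommRingCat.of P ⟶ CommRingCat.of (integralClosure P K) :=
    CommRingCat.ofHom (algebraMap P (integralClosure P K))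
  have hint : φ.hom.IsIntegral := fun b => Algebra.IsIntegral.isIntegral (R := P) b
  have hinj : Function.Injective φ.hom := fun a b h => IsFractionRing.injective P (FractionRing P)
    ((algebraMap (FractionRing P) K).injective (by
      rw [← IsScalarTower.algebraMap_apply, ← IsScalarTower.algebraMap_apply]
      exact congrArg Subtype.val h))
  exact ⟨_, φ, inferInstance, IsIntegralHom.SpecMap_iff.2 hint, ⟨hint.comap_surjective hinj⟩,
    spec_props (CommRingCat.of (integralClosure P K)) K⟩

/-- Part (1) — every affine scheme admits an integral surjective morphism from a scheme all of whose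
closed subschemes have vanishing positive-degree étale cohomology with finite constant coefficients. -/
theorem result (X : Scheme.{u}) [IsAffine X] :
    ∃ (X' : Scheme.{u}) (π : X' ⟶ X) (_ : IsIntegralHom π) (_ : Surjective π),
      ∀ (Z' : Scheme.{u}) (i : Z' ⟶ X') (_ : IsClosedImmersion i)
        (M : Type) (_ : AddCommGroup M) (_ : Finite M) (q : ℕ), 1 ≤ q →
        Subsingleton (EtCoh.H Z' (EtCoh.const Z' M) q) := by
  let A := Γ(X, ⊤)
  obtain ⟨B, φ, hint, hfi, hsurj, hsep, hN⟩ := spec_integralClosure (MvPolynomial A ℤ)
  let ev : CommRingCat.of (MvPolynomial A ℤ) ⟶ A :=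
    CommRingCat.ofHom (MvPolynomial.aeval (R := ℤ) (fun a : A => a)).toRingHom
  have hev : Function.Surjective ev.hom := fun a => ⟨MvPolynomial.X a, MvPolynomial.aeval_X _ _⟩
  let c : X ⟶ Spec (CommRingCat.of (MvPolynomial A ℤ)) := X.isoSpec.hom ≫ Spec.map ev
  haveI : IsClosedImmersion (Spec.map ev) := IsClosedImmersion.spec_of_surjective ev hev
  haveI : IsClosedImmersion c := inferInstance
  haveI := hfi
  haveI := hsurj
  haveI : IsClosedImmersion (pullback.fst (Spec.map φ) c) := inferInstance
  refine ⟨pullback (Spec.map φ) c, pullback.snd _ _, inferInstance, inferInstance,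
    fun Z' i _ M _ _ q hq => ?_⟩
  exact Groth.Agent.S0091.result hN (i ≫ pullback.fst (Spec.map φ) c) M q hq

end Groth.Agent.S0093
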