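import Groth.Statements.S0095
import Groth.Agent.EtCore73.ConnFibres
import Groth.Agent.GeomSep.Basic

set_option autoImplicit false
set_option backward.isDefEq.respectTransparency false
set_option backward.isDefEq.respectTransparency.types false
open CategoryTheory CategoryTheory.Limits AlgebraicGeometry Opposite
universe u
open EtBase

namespace Groth.Agent.S0095

/-- For a scheme over a separably closed field k and a field extension K of k, global sections of an
abelian étale sheaf do not change under base change to K (the source proves this for sheaves of
sets; the abelian case is stated). -/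
theorem result {k K : Type u} [Field k] [IsSepClosed k] [Field K] [Algebra k K]
    {S : Scheme.{u}} (a : S ⟶ Spec (CommRingCat.of k))
    [EtCoh.BCCont (pullback.fst a (Spec.map (CommRingCat.ofHom (algebraMap k K))))]
    (F : EtCoh.Ab S) :
    Function.Bijective (((EtCoh.pullPushAdj
      (pullback.fst a (Spec.map (CommRingCat.ofHom (algebraMap k K))))).unit.app F).hom.app
        (op (EtCoh.top S))) := by
  refine Groth.Agent.EtCore73.bijective_unit_of_connected_fibres _ F fun Ω _ _ s => ?_
  obtain ⟨φ, hφ⟩ := Spec.map_surjective (s ≫ a)
  let sK := Spec.map (CommRingCat.ofHom (algebraMap k K))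
  letI : Algebra k Ω := φ.hom.toAlgebra
  haveI : IrreducibleSpace (PrimeSpectrum (TensorProduct k Ω K)) :=
    Groth.Agent.GeomSep.irreducibleSpace_tensor_fields (k := k) Ω K
  let e : pullback (pullback.fst a sK) s ≅ Spec (CommRingCat.of (TensorProduct k Ω K)) :=
    pullbackSymmetry _ _ ≪≫ pullbackRightPullbackFstIso a sK s ≪≫ pullback.congrHom hφ.symm rfl ≪≫
      pullbackSpecIso k Ω K
  haveI : ConnectedSpace ↥(Spec (CommRingCat.of (TensorProduct k Ω K))) :=
    inferInstanceAs (ConnectedSpace (PrimeSpectrum (TensorProduct k Ω K)))
  exact e.inv.homeomorph.surjective.connectedSpace e.inv.continuous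

end Groth.Agent.S0095
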