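import Groth.Statements.S0155
import Groth.Agent.HTop83.PushBC
import Groth.Agent.EtFound.SepClosedField
import Groth.Agent.EtFound.PullStalk

set_option autoImplicit false
universe u
open CategoryTheory CategoryTheory.Limits AlgebraicGeometry Opposite
open EtPBC

namespace Groth.Agent.S0155

/-- Let f : X ⟶ Y be a proper morphism of schemes, ȳ : Spec Ω ⟶ Y a geometric point (Ω a separably
closed field) and F an abelian sheaf on the small étale site of X. Then the stalk (f_* F)_ȳ is
isomorphic to the group of global sections Γ(X_ȳ, F|X_ȳ) of the pullback of F to the geometric fibre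
X_ȳ = X ×_Y Spec Ω. The published statement is stronger: it asserts that the canonical map is
bijective (for sheaves of sets as well); only the existence of an isomorphism of abelian groups is
asserted here. -/
theorem result {X Y : Scheme.{u}} (f : X ⟶ Y) [IsProper f] [EtCoh.BCCont f]
    {Ω : Type u} [Field Ω] [IsSepClosed Ω] (ξ : Spec (CommRingCat.of Ω) ⟶ Y)
    [EtCoh.BCCont (pullback.fst f ξ)] (F : EtCoh.Ab X) :
    Nonempty ((EtCoh.stalk ξ).obj ((EtCoh.push f).obj F) ≅
      ((EtCoh.pull (pullback.fst f ξ)).obj F).obj.obj (op (EtCoh.top (pullback f ξ)))) := by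
  let G := (EtCoh.push f).obj F
  let f' := pullback.snd f ξ
  let g' := pullback.fst f ξ
  have h := HTop83.isIso_baseChange0 f F (IsPullback.of_hasPullback f ξ)
  let bc : (EtCoh.pull ξ).obj G ≅ (EtCoh.push f').obj ((EtCoh.pull g').obj F) := @asIso _ _ _ _ _ h
  let e1 : (EtCoh.stalk ξ).obj G ≅ (EtCoh.stalk (𝟙 (Spec (CommRingCat.of Ω)))).obj ((EtCoh.pull ξ).obj G) :=
    eqToIso (congrArg (fun q => (EtCoh.stalk q).obj G) (Category.id_comp ξ).symm) ≪≫
      ((EtFound.stalkPullIso ξ (𝟙 (Spec (CommRingCat.of Ω)))).app G).symm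
  let e2 := ((EtFound.sectTopIso Ω AddCommGrpCat.{u + 1}).app ((EtCoh.pull ξ).obj G)).symm
  let e3 := ((sheafToPresheaf _ _).mapIso bc).app (op (EtCoh.top (Spec (CommRingCat.of Ω))))
  let P := pullback f ξ
  haveI hi : IsIso (pullback.snd (𝟙 (Spec (CommRingCat.of Ω))) f') :=
    MorphismProperty.pullback_snd (P := MorphismProperty.isomorphisms Scheme.{u}) _ f'
      (MorphismProperty.isomorphisms.infer_property _)
  let i : (EtCoh.bc f').obj (EtCoh.top (Spec (CommRingCat.of Ω))) ≅ EtCoh.top P :=
    MorphismProperty.Over.isoMk (@asIso _ _ _ _ _ hi) (Category.comp_id _)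
  let e4 := ((EtCoh.pull g').obj F).obj.mapIso i.op
  exact ⟨e1 ≪≫ e2 ≪≫ e3 ≪≫ e4.symm⟩

end Groth.Agent.S0155
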