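import Groth.Statements.S0173
import Groth.Agent.PBC50.TorsColim

set_option autoImplicit false
universe u
open CategoryTheory CategoryTheory.Limits AlgebraicGeometry Opposite
open EtPBC

namespace Groth.Agent.S0173

/-- (1), for X irreducible: X quasi-compact, quasi-separated and irreducible with generic point η, F a
torsion abelian sheaf on X_et whose stalk over η vanishes. Then F is a filtered colimit of
constructible abelian sheaves each supported in a closed subset not containing η. (The source allows
η to be the generic point of any irreducible component.) -/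
theorem result (X : Scheme.{u}) [CompactSpace X] [QuasiSeparatedSpace X]
    [IrreducibleSpace X] (F : EtCoh.Ab X) (hF : EtCoh.IsTorsion F) (hη : genericPoint X ∉ EtPBC.supp F) :
    ∃ (J : Type (u + 1)) (_ : SmallCategory J) (_ : IsFiltered J) (D : J ⥤ EtCoh.Ab X)
      (c : Cocone D) (_ : IsColimit c), Nonempty (c.pt ≅ F) ∧
      ∀ j, EtPBC.IsConstructible (D.obj j) ∧
        ∃ Z : Set X, IsClosed Z ∧ genericPoint X ∉ Z ∧ EtPBC.supp (D.obj j) ⊆ Z := by
  obtain ⟨J, i₁, i₂, D, c, hc, e, hD⟩ :=
    PBC50.TorsColim.exists_colimit PBC50.TorsColim.adapted_compl_genericPoint F hF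
      (fun x hx hxη => hη (Set.mem_singleton_iff.1 hxη ▸ hx))
  refine ⟨J, i₁, i₂, D, c, hc, e, fun j => ⟨(hD j).1, ?_⟩⟩
  obtain ⟨W, -, hW, hs⟩ := (hD j).2
  exact ⟨_, W.isOpen.isClosed_compl, fun h => hW h rfl, hs⟩

end Groth.Agent.S0173
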