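import Groth.Statements.S0260
import Groth.Agent.PurX.Bridge
import Groth.Agent.PurX.CechLC
-- import your own Groth.Agent.* helpers here

set_option autoImplicit false
universe u
open Pi1

namespace Groth.Agent.S0260

open AlgebraicGeometry CategoryTheory CategoryTheory.Limits in
/-- Let A be a henselian Noetherian local ring of depth at least 3 and f an element of the maximal
ideal. Then restricting finite etale covers from the punctured spectrum of A to the punctured
spectrum of A/fA is fully faithful. -/
theorem result (A : Type u) [CommRing A] [IsNoetherianRing A] [HenselianLocalRing A] (hA : (3 : ℕ∞) ≤ LocCoh.depth A A)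
    (f : A) (hf : f ∈ IsLocalRing.maximalIdeal A) :
    (FEt.restrict (pullback.fst (FEt.puncturedSpec A).ι
      (Spec.map (CommRingCat.ofHom (Ideal.Quotient.mk (Ideal.span {f})))))).Full ∧
    (FEt.restrict (pullback.fst (FEt.puncturedSpec A).ι
      (Spec.map (CommRingCat.ofHom (Ideal.Quotient.mk (Ideal.span {f})))))).Faithful := by
  haveI : HenselianRing A (Ideal.span {f}) :=
    Groth.Agent.Hensel.henselianRing_of_le ((Ideal.span_singleton_le_iff_mem _).2 hf)
  obtain ⟨k, g, hg⟩ := Groth.Agent.PurX.exists_gens (IsLocalRing.maximalIdeal A)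
  obtain ⟨h0, h1⟩ := Groth.Agent.PurX.killed_of_depth g hg A hA
  exact Groth.Agent.PurX.restrict_ff_of_killed f hf g hg (n := 0) (by rwa [pow_zero]) (by rwa [pow_zero])

end Groth.Agent.S0260
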