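import Groth.Statements.S0273
import Groth.Agent.PurX.SchemePurity
-- import your own Groth.Agent.* helpers here

set_option autoImplicit false
universe u
open Pi1

namespace Groth.Agent.S0273

open AlgebraicGeometry CategoryTheory CategoryTheory.Limits in
/-- Let f : X -> S be smooth with S Noetherian and U an open of X such that U contains the whole fibre
over every point of S whose local ring has depth at most 1, and U is dense in every fibre. Then
restricting finite etale covers from X to U is an equivalence of categories. -/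
theorem result {X S : Scheme.{u}} (f : X ⟶ S) [Smooth f] [IsNoetherian S] (U : X.Opens)
    (h3 : ∀ s : S, LocCoh.depth (S.presheaf.stalk s) (S.presheaf.stalk s) ≤ 1 → f.base ⁻¹' {s} ⊆ (U : Set X))
    (h4 : ∀ s : S, f.base ⁻¹' {s} ⊆ closure ((U : Set X) ∩ f.base ⁻¹' {s})) :
    (FEt.restrict U.ι).IsEquivalence := by
  haveI : IsLocallyNoetherian X := LocallyOfFiniteType.isLocallyNoetherian f
  have key : ∀ x : X, x ∉ U → (2 : ℕ∞) ≤ LocCoh.depth (X.presheaf.stalk x) (X.presheaf.stalk x) ∧
      FEt.PurityHolds (X.presheaf.stalk x) := by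
    intro x hx
    refine Groth.Agent.PurX.purityHolds_stalk_of_smooth f x ?_ ?_
    · by_contra hlt
      refine hx (h3 (f x) ?_ rfl)
      exact (ENat.lt_add_one_iff (by simp)).1 ((lt_of_not_ge hlt).trans_eq one_add_one_eq_two.symm)
    · haveI : IsLocallyNoetherian (f.fiber (f x)) :=
        LocallyOfFiniteType.isLocallyNoetherian (f.fiberToSpecResidueField (f x))
      refine Groth.Agent.PurX.one_le_dim_stalk_of_mem_closure ((f.fiberι (f x)) ⁻¹ᵁ U) (f.asFiber x)
        (fun h => hx (by
          have h2 : f.fiberι (f x) (f.asFiber x) ∈ U := h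
          rwa [f.fiberι_asFiber x] at h2)) ?_
      rw [(f.fiberι (f x)).isEmbedding.closure_eq_preimage_closure_image]
      show f.fiberι (f x) (f.asFiber x) ∈ closure _
      rw [f.fiberι_asFiber x]
      refine closure_mono ?_ (h4 (f x) rfl)
      rintro y ⟨hyU, hy⟩
      obtain ⟨w, rfl⟩ := (Scheme.Hom.range_fiberι f (f x)).ge hy
      exact ⟨w, hyU, rfl⟩
  exact Groth.Agent.PurX.restrict_isEquivalence_of_purity U (fun x hx => (key x hx).1) (fun x hx => (key x hx).2)

end Groth.Agent.S0273
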