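import Groth.Statements.S0336
import Groth.Agent.Kunz97.Local

set_option autoImplicit false
universe u v
open LocCoh

namespace Groth.Agent.S0336

/-- A Noetherian ring of prime characteristic p is regular exactly when its Frobenius endomorphism is
flat. -/
theorem result (p : ℕ) [Fact p.Prime] (R : Type u) [CommRing R] [IsNoetherianRing R] [CharP R p] : IsRegularRing R ↔ (frobenius R p).Flat := by
  classical
  have hp : p.Prime := Fact.out
  haveI hchar : ∀ (J : Ideal R) [J.IsPrime], CharP (Localization.AtPrime J) p := fun J _ =>
    (CharP.charP_iff_prime_eq_zero hp).2 (by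
      rw [← map_natCast (algebraMap R (Localization.AtPrime J)), CharP.cast_eq_zero, map_zero])
  have key : ∀ (J : Ideal R) [J.IsPrime] (Q : Ideal R) [Q.IsPrime] (hQ : Q = J.comap (frobenius R p)),
      (Localization.localRingHom Q J (frobenius R p) hQ).Flat ↔
        (frobenius (Localization.AtPrime J) p).Flat := by
    intro J _ Q _ hQ
    have hQJ : Q = J := by
      rw [hQ]
      ext r
      rw [Ideal.mem_comap, frobenius_def]
      exact ⟨‹J.IsPrime›.mem_of_pow_mem p, fun h => Ideal.pow_mem_of_mem J h p hp.pos⟩
    subst hQJ
    rw [show Localization.localRingHom Q Q (frobenius R p) hQ = frobenius (Localization.AtPrime Q) p from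
      IsLocalization.ringHom_ext Q.primeCompl (RingHom.ext fun r => by
        simp [RingHom.comp_apply, Localization.localRingHom_to_map, frobenius_def])]
  constructor
  · intro h
    refine RingHom.Flat.ofLocalizationPrime (frobenius R p) fun J hJ => ?_
    haveI : IsRegularLocalRing (Localization.AtPrime J) := IsRegularRing.isRegularLocalRing_localization J
    exact (key J _ rfl).2 (Kunz97.flat_of_isRegularLocalRing p)
  · intro h
    refine isRegularRing_iff.2 fun J hJ => ?_
    exact Kunz97.isRegularLocalRing_of_flat p ((key J _ rfl).1 (h.localRingHom J _ rfl))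

end Groth.Agent.S0336
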