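import Groth.Statements.S0369
import Groth.Agent.Dual3Lib.DualBottom
import Groth.Agent.Dual59.DualizingLoc

set_option autoImplicit false
universe u v
open CategoryTheory
attribute [local instance] HasDerivedCategory.standard
open Dual

namespace Groth.Agent.S0369

/-- For a Noetherian local ring of dimension d with normalized dualizing complex ω, the module ω_A =
H^{−d}(ω) has support equal to the union of those irreducible components of Spec A whose dimension
is d, and satisfies Serre's condition (S_2). -/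
theorem result (A : Type u) [CommRing A] [IsLocalRing A] [IsNoetherianRing A] (ω : Dual.D A) (hω : Dual.IsDualizing A ω) (hn : Dual.IsNormalized A ω) (d : ℕ) (hd : ringKrullDim A = d) : Module.support A (Dual.HD A ω (-(d : ℤ))) = {p : PrimeSpectrum A | ∃ q ∈ minimalPrimes A, q ≤ p.asIdeal ∧ ringKrullDim (A ⧸ q) = d} ∧ LocCoh.HasSk 2 A (Dual.HD A ω (-(d : ℤ))) := by
  obtain ⟨n, hext, -, hmono, hle, hdim⟩ := Groth.Agent.KFlatLib.exists_normalized_degree hω hn
  obtain ⟨eA⟩ := Groth.Agent.KFlatLib.exists_homRingLEquiv ω (-(d : ℤ))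
  have hbound : ∀ P : PrimeSpectrum A, -(d : ℤ) ≤ n P := by
    intro P
    obtain ⟨e, he, he'⟩ := hdim P
    have h1 : ringKrullDim (A ⧸ P.asIdeal) ≤ ringKrullDim A :=
      ringKrullDim_le_of_surjective (Ideal.Quotient.mk _) Ideal.Quotient.mk_surjective
    rw [he, hd] at h1
    have : e ≤ d := by exact_mod_cast h1
    omega
  refine ⟨Set.ext fun p => ⟨fun hp => ?_, fun ⟨q, hq, hqp, hqd⟩ => ?_⟩, ?_⟩
  · rw [← eA.support_eq] at hp
    obtain ⟨P, hPp, hP⟩ : ∃ P : PrimeSpectrum A, P ≤ p ∧ n P ≤ -(d : ℤ) := by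
      by_contra h
      push Not at h
      exact not_subsingleton_iff_nontrivial.2 (Module.mem_support_iff.1 hp)
        (Groth.Agent.Dual59.subsingleton_localized_of_lt hext p A (-(d : ℤ)) fun P _ hPp => h P hPp)
    obtain ⟨q, hq, hqP⟩ := Ideal.exists_minimalPrimes_le (J := P.asIdeal) (I := (⊥ : Ideal A)) bot_le
    refine ⟨q, hq, hqP.trans hPp, ?_⟩
    obtain ⟨e, he, he'⟩ := hdim ⟨q, hq.1.1⟩
    have h1 := hmono.monotone (show (⟨q, hq.1.1⟩ : PrimeSpectrum A) ≤ P from hqP)
    have h2 := hbound ⟨q, hq.1.1⟩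
    rw [he]
    exact_mod_cast (show e = d by omega)
  · haveI := hq.1.1
    exact Module.mem_support_mono (show (⟨q, hq.1.1⟩ : PrimeSpectrum A) ≤ p from hqp) (Module.mem_support_iff.2
      ((Groth.Agent.KFlatLib.nontrivial_localized_hd_iff hω hn q hq d hqd _).2 rfl))
  · refine Groth.Agent.Dual3Lib.hasSk_two_of_low hω _ fun i hi => ?_
    obtain ⟨e⟩ := Groth.Agent.KFlatLib.exists_homRingLEquiv ω i
    haveI : Subsingleton (Dual.inD A A ⟶ ω⟦i⟧) := not_nontrivial_iff_subsingleton.1 fun h => by
      have := ((Groth.Agent.KFlatLib.ext_amplitude_and_support hω hn A d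
        (by rw [Module.supportDim_self_eq_ringKrullDim, hd]) i).1 h).1
      omega
    exact e.symm.toEquiv.subsingleton

end Groth.Agent.S0369
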