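import Groth.Statements.S0370
import Groth.Agent.Dual59.DualizingLocus
-- import your own Groth.Agent.* helpers here

set_option autoImplicit false
universe u v
open CategoryTheory
attribute [local instance] HasDerivedCategory.standard
open Dual

namespace Groth.Agent.S0370

/-- A Noetherian ring admitting a finite module which, placed in degree 0, is a dualizing complex, is
Cohen–Macaulay. -/
theorem result (A : Type u) [CommRing A] [IsNoetherianRing A] (W : Type u) [AddCommGroup W] [Module A W] [Module.Finite A W] (h : Dual.IsDualizing A (Dual.inD A W)) : LocCoh.IsCohenMacaulayRing A := by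
  refine { isCohenMacaulayLocalRing_localization := fun p _ => ?_ }
  refine (Groth.Agent.Dual59.isCM_ring_iff h ⟨p, inferInstance⟩).2 ?_
  have key : ∀ i : ℤ, i ≠ 0 → ¬ Nontrivial (LocalizedModule p.primeCompl (Dual.HD A (Dual.inD A W) i)) := by
    intro i hi hnt
    haveI : Subsingleton (Dual.HD A (Dual.inD A W) i) := ModuleCat.subsingleton_of_isZero (by
      rcases lt_or_gt_of_ne hi with h' | h'
      · exact DerivedCategory.isZero_of_isGE _ 0 i h'
      · exact DerivedCategory.isZero_of_isLE _ 0 i h')
    exact not_subsingleton (LocalizedModule p.primeCompl (Dual.HD A (Dual.inD A W) i))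
      (LocalizedModule.subsingleton_iff.2 fun x => ⟨1, one_mem _, Subsingleton.elim _ _⟩)
  intro i j hi hj
  have h1 : i = 0 := by_contra fun h' => key i h' hi
  have h2 : j = 0 := by_contra fun h' => key j h' hj
  omega

end Groth.Agent.S0370
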