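import Groth.Statements.S0375
import Mathlib.RingTheory.HopkinsLevitzki
import Groth.Agent.Dual59.LocalDualRows
-- import your own Groth.Agent.* helpers here

set_option autoImplicit false
universe u v
open CategoryTheory
attribute [local instance] HasDerivedCategory.standard
open Dual

namespace Groth.Agent.S0375

/-- Over a Noetherian local ring of dimension 0, a normalized dualizing complex is isomorphic in D(A) to
an injective hull of the residue field placed in degree 0. -/
theorem result (A : Type u) [CommRing A] [IsLocalRing A] [IsNoetherianRing A] (h0 : ringKrullDim A = 0) (ω : Dual.D A) (hω : Dual.IsDualizing A ω) (hn : Dual.IsNormalized A ω) (E : Type u) [AddCommGroup E] [Module A E] (f : IsLocalRing.ResidueField A →ₗ[A] E) (hf : InjHull.IsInjectiveHull f) : Nonempty (ω ≅ Dual.inD A E) := by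
  haveI : IsArtinianRing A := by
    haveI : Ring.KrullDimLE 0 A := (Ring.krullDimLE_iff).2 (by rw [h0]; rfl)
    exact isArtinianRing_iff_krullDimLE_zero.2 ‹_›
  have hA : IsFiniteLength A A := isFiniteLength_iff_isNoetherian_isArtinian.2 ⟨inferInstance, inferInstance⟩
  have hz : ∀ i : ℤ, i ≠ 0 → Subsingleton (Dual.HD A ω i) := fun i hi => by
    obtain ⟨e⟩ := Groth.Agent.KFlatLib.exists_homRingLEquiv ω i
    haveI := Groth.Agent.Dual59.subsingleton_hom_finLen hω hn A hA i hi
    exact e.symm.injective.subsingleton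
  haveI : ω.IsGE 0 := (DerivedCategory.isGE_iff _ _).2 fun i hi =>
    @ModuleCat.isZero_of_subsingleton _ _ _ (hz i (by omega))
  haveI : ω.IsLE 0 := (DerivedCategory.isLE_iff _ _).2 fun i hi =>
    @ModuleCat.isZero_of_subsingleton _ _ _ (hz i (by omega))
  obtain ⟨M, ⟨eM⟩⟩ := DerivedCategory.exists_iso_singleFunctor_obj_of_isGE_of_isLE ω 0
  obtain ⟨eA⟩ := Groth.Agent.Dual59.exists_finLenDuality hω hn hf A hA
  obtain ⟨e₀⟩ := Groth.Agent.KFlatLib.exists_homRingLEquiv ω 0
  let el : M ≃ₗ[A] E :=
    ((((DerivedCategory.homologyFunctor (ModuleCat.{u} A) 0).mapIso eM).toLinearEquiv).trans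
      (Groth.Agent.KFlatLib.exists_hdSingleLEquiv M 0).some).symm.trans
    (e₀.symm.trans ((Groth.Agent.Dual59.zeroHomEquiv _ ω).trans (eA.trans (LinearMap.ringLmapEquivSelf A A E))))
  exact ⟨eM ≪≫ (DerivedCategory.singleFunctor (ModuleCat.{u} A) 0).mapIso el.toModuleIso⟩

end Groth.Agent.S0375
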