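import Groth.Statements.S0447
import Groth.Agent.RG11.GIProj
-- import your own Groth.Agent.* helpers here

set_option autoImplicit false
universe u
open FlatMor

namespace Groth.Agent.S0447

open AlgebraicGeometry CategoryTheory Limits in
/-- For a flat morphism of finite presentation between affine schemes whose fibres are geometrically
integral, the coordinate ring of the source is a projective module over that of the target. -/
theorem result {X S : Scheme.{u}} (f : X ⟶ S) [IsAffine X] [IsAffine S] [Flat f] [LocallyOfFinitePresentation f] [GeometricallyIntegral f] :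
    @Module.Projective Γ(S, ⊤) _ Γ(X, ⊤) _ (f.appTop).hom.toAlgebra.toModule := by
  letI : Algebra Γ(S, ⊤) Γ(X, ⊤) := (f.appTop).hom.toAlgebra
  haveI : Module.Flat Γ(S, ⊤) Γ(X, ⊤) := HasRingHomProperty.appTop (P := @Flat) f inferInstance
  haveI : Algebra.FinitePresentation Γ(S, ⊤) Γ(X, ⊤) :=
    HasRingHomProperty.appTop (P := @LocallyOfFinitePresentation) f inferInstance
  refine Groth.Agent.RG11.projective_of_geomIntegralFibres_fp _ _ ?_
  exact (MorphismProperty.arrow_mk_iso_iff @GeometricallyIntegral (arrowIsoSpecΓOfIsAffine f)).1 inferInstance

end Groth.Agent.S0447
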