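import Groth.Statements.S0469
import Groth.Agent.DSites.Spectral.DimVanishing
-- import your own Groth.Agent.* helpers here

set_option autoImplicit false
universe u
open CategoryTheory
open CohTop

namespace Groth.Agent.S0469

/-- If X is a spectral space of Krull dimension at most d, then H^p(X, F) = 0 for every abelian sheaf F
and every p > d. -/
theorem result {X : TopCat.{u}} [SpectralSpace X] (d : ℕ) (hd : topologicalKrullDim X ≤ d)
    (F : CohTop.Ab X) (p : ℕ) (hp : d < p) : Subsingleton (CohTop.H F p) := by
  exact Groth.Agent.SiteBase.subsingleton_H_of_HU_terminal Limits.isTerminalTop F p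
    ((Groth.Agent.DSites.Spectral.cohomology_of_stalkLT (d + 1) F
      (Groth.Agent.DSites.Spectral.stalkLT_of_dim F hd)).1 ⊤ isCompact_univ p hp)

end Groth.Agent.S0469
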