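import Groth.Statements.S0590
import Groth.Agent.LimMor.Approx

set_option autoImplicit false
universe u
open CategoryTheory AlgebraicGeometry
open Lim

namespace Groth.Agent.S0590

/-- Every quasi-compact quasi-separated scheme is the limit of an inverse system, indexed by a nonempty
directed preorder, of quasi-compact schemes locally of finite type over the integers with affine
transition morphisms. -/
theorem result (S : Scheme.{u}) [CompactSpace S] [QuasiSeparatedSpace S] :
    ∃ (I : Type u) (_ : Preorder I) (_ : IsDirected I (fun a b => a ≤ b)) (_ : Nonempty I)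
      (D : Iᵒᵖ ⥤ Scheme.{u}) (c : Limits.Cone D) (_ : Limits.IsLimit c),
      (∀ (i j : Iᵒᵖ) (f : i ⟶ j), IsAffineHom (D.map f)) ∧
      (∀ i, CompactSpace (D.obj i) ∧
        LocallyOfFiniteType (Limits.IsTerminal.from specULiftZIsTerminal (D.obj i))) ∧
      Nonempty (c.pt ≅ S) := by
  obtain ⟨T, g, hT, hg⟩ := LimMor.exists_affine_toFTZ S
  haveI := hT.compact
  haveI := hT.quasiSeparatedSpace
  refine ⟨LimMor.FTSub g, inferInstance, (inferInstance : IsDirectedOrder _), inferInstance,
    LimMor.sys g, LimMor.sysCone g, LimMor.nonempty_isLimit_sysCone.some, fun i j f => inferInstance,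
    fun i => ?_, ⟨Iso.refl _⟩⟩
  exact ⟨(hT.sch i.unop).compact, (hT.sch i.unop).lft⟩

end Groth.Agent.S0590
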