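import Groth.Statements.S0661
import Groth.Agent.EtCore73.GabberCriterion
import Groth.Agent.Hensel.Henselization
import Groth.Agent.Hensel.HenselizationProps

set_option autoImplicit false
set_option backward.isDefEq.respectTransparency false
set_option backward.isDefEq.respectTransparency.types false
open CategoryTheory CategoryTheory.Limits AlgebraicGeometry Opposite
universe u
open EtCore

namespace Groth.Agent.S0661

/-- Let R be a ring such that the localization at every prime is strictly henselian, and F an abelian
sheaf on the small etale site of X = Spec R. Suppose that for all global functions f, g on X the map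
from H^1 of the basic open D(f+g) (with coefficients in the restriction of F) to the product of H^1
of D(f(f+g)) and H^1 of D(g(f+g)) has zero kernel. Then H^q(X, F) vanishes for all q > 0. (Global
functions on Spec R are used in place of elements of R; the two rings are canonically isomorphic.)
(Exactness of pullback of abelian sheaves, which always holds, is carried as an instance
hypothesis.) -/
theorem result (R : Type u) [CommRing R]
    (hR : ∀ p : PrimeSpectrum R, EtCoh.IsStrictlyHenselianLocalRing (Localization.AtPrime p.asIdeal))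
    (F : EtCoh.Ab (Spec (CommRingCat.of R)))
    (hker : ∀ (f g : Γ((Spec (CommRingCat.of R)), ⊤))
      [PreservesFiniteLimits (EtCoh.pull ((Spec (CommRingCat.of R)).homOfLE (((Spec (CommRingCat.of R)).basicOpen_mul f (f + g)).trans_le inf_le_right)))]
      [PreservesFiniteLimits (EtCoh.pull ((Spec (CommRingCat.of R)).homOfLE (((Spec (CommRingCat.of R)).basicOpen_mul g (f + g)).trans_le inf_le_right)))]
      (ξ : EtCoh.H ↑((Spec (CommRingCat.of R)).basicOpen (f + g)) ((EtCoh.pull ((Spec (CommRingCat.of R)).basicOpen (f + g)).ι).obj F) 1),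
      EtCore.HpullVia ((Spec (CommRingCat.of R)).homOfLE (((Spec (CommRingCat.of R)).basicOpen_mul f (f + g)).trans_le inf_le_right)) ((Spec (CommRingCat.of R)).basicOpen (f + g)).ι ((Spec (CommRingCat.of R)).basicOpen (f * (f + g))).ι ((Spec (CommRingCat.of R)).homOfLE_ι (((Spec (CommRingCat.of R)).basicOpen_mul f (f + g)).trans_le inf_le_right)) F 1 ξ = 0 →
      EtCore.HpullVia ((Spec (CommRingCat.of R)).homOfLE (((Spec (CommRingCat.of R)).basicOpen_mul g (f + g)).trans_le inf_le_right)) ((Spec (CommRingCat.of R)).basicOpen (f + g)).ι ((Spec (CommRingCat.of R)).basicOpen (g * (f + g))).ι ((Spec (CommRingCat.of R)).homOfLE_ι (((Spec (CommRingCat.of R)).basicOpen_mul g (f + g)).trans_le inf_le_right)) F 1 ξ = 0 →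
      ξ = 0)
    (q : ℕ) (hq : 1 ≤ q) : Subsingleton (EtCoh.H (Spec (CommRingCat.of R)) F q) := by
  let X := Spec (CommRingCat.of R)
  have hX : ∀ x : X, EtCoh.IsStrictlyHenselianLocalRing (X.presheaf.stalk x) := fun x => by
    have e : Localization.AtPrime (x : PrimeSpectrum R).asIdeal ≃+* X.presheaf.stalk x :=
      (AlgebraicGeometry.Spec.stalkIso (CommRingCat.of R) x).symm.commRingCatIsoToRingEquiv
    obtain ⟨_, _⟩ := hR x
    exact ⟨Groth.Agent.Hensel.henselianLocalRing_of_ringEquiv e,
      Groth.Agent.Hensel.isSepClosed_of_ringEquiv (IsLocalRing.ResidueField.mapEquiv e)⟩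
  have key : ∀ (n : ℕ) (a : Γ(X, ⊤)) (α : Abelian.Ext (Groth.Agent.EtCore73.zOpen (X.basicOpen a)) F (n + 1)),
      α = 0 := Groth.Agent.EtCore73.eq_zero_of_criterion hX F fun f g α h₁ h₂ => by
    haveI := Groth.Agent.EtMVLib.preservesMono_extZero (X.basicOpen (f + g)).ι
    haveI := Groth.Agent.EtFound.pull_preservesFiniteLimits
      (X.homOfLE ((X.basicOpen_mul f (f + g)).trans_le inf_le_right))
    haveI := Groth.Agent.EtFound.pull_preservesFiniteLimits
      (X.homOfLE ((X.basicOpen_mul g (f + g)).trans_le inf_le_right))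
    haveI := Groth.Agent.EtFound.pull_preservesFiniteLimits (X.basicOpen (f + g)).ι
    haveI := Groth.Agent.EtFound.pull_preservesFiniteLimits (X.basicOpen (f * (f + g))).ι
    haveI := Groth.Agent.EtFound.pull_preservesFiniteLimits (X.basicOpen (g * (f + g))).ι
    apply (map_eq_zero_iff _ (Groth.Agent.EtMVLib.adjExtMap_bijective
      (Groth.Agent.EtMVLib.shriekAdj (X.basicOpen (f + g)).ι) _ F 1).1).1
    refine hker f g _ ?_ ?_
    · exact (Groth.Agent.EtCore73.HpullVia_adjExtMap _ F 1 α).trans ((congrArg _ h₁).trans (map_zero _))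
    · exact (Groth.Agent.EtCore73.HpullVia_adjExtMap _ F 1 α).trans ((congrArg _ h₂).trans (map_zero _))
  obtain ⟨n, rfl⟩ := Nat.exists_eq_add_of_le' hq
  exact Groth.Agent.EtCore73.subsingleton_H_of_zOpen
    (Scheme.basicOpen_of_isUnit X (isUnit_one (M := Γ(X, ⊤)))) (key n 1)

end Groth.Agent.S0661
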