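import Groth.Statements.S0728
import Groth.Agent.EtShriekLib.SuppExt
import Groth.Agent.EtFound.PropPush
-- import your own Groth.Agent.* helpers here

set_option autoImplicit false
open CategoryTheory CategoryTheory.Limits AlgebraicGeometry Opposite
universe u
open EtShriek

namespace Groth.Agent.S0728

/-- In the case where the inverse image of Z is Z' (so that the bijection is restriction): let phi : U'
-> U be a morphism of the small etale site of X and Z a closed subset of U such that phi restricted
to the inverse image Z' of Z is a bijection onto Z inducing isomorphisms of residue fields (so Z' ->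
U is a closed immersion with image Z, for the reduced structures). Then restriction along phi is a
bijection from the sections of F over U supported in Z to the sections of F over U' supported in Z'. -/
theorem result {X : Scheme.{u}} (F : EtCoh.Ab X) {U U' : X.Etale}
    (φ : U' ⟶ U) (Z : Set ↥U.left) (hZ : IsClosed Z)
    (hbij : Set.BijOn φ.left.base (φ.left.base ⁻¹' Z) Z)
    (hres : ∀ x ∈ φ.left.base ⁻¹' Z, Function.Bijective (φ.left.residueFieldMap x)) :
    Set.BijOn (F.obj.map φ.op) {s | EtShriek.sectSupp F U s ⊆ Z}
      {s' | EtShriek.sectSupp F U' s' ⊆ φ.left.base ⁻¹' Z} := by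
  refine ⟨fun s hs => ?_, fun s hs t ht e => ?_, fun s' hs' => ?_⟩
  · show EtShriek.sectSupp F U' (F.obj.map φ.op s) ⊆ _
    rw [EtShriekLib.sectSupp_map]
    exact Set.preimage_mono hs
  · refine sub_eq_zero.1 (EtShriekLib.eq_zero_of_sectSupp_eq_empty (Set.eq_empty_of_forall_notMem fun x hx => ?_))
    have hxZ : x ∈ Z := by
      rcases EtShriekLib.sectSupp_add U s (-t) (by rwa [← sub_eq_add_neg]) with h | h
      · exact hs h
      · rw [EtShriekLib.sectSupp_neg] at h
        exact ht h
    obtain ⟨x', -, rfl⟩ := hbij.surjOn hxZ
    exact hx U' φ ⟨x', rfl⟩ (by rw [map_sub, e, sub_self])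
  · exact EtShriekLib.exists_supported_ext F φ Z hZ hbij.injOn hbij.surjOn hres s' hs'

end Groth.Agent.S0728
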