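import Groth.Statements.S0862
import Groth.Agent.DSites.CollColim.Collection
import Groth.Agent.DSites.CollColim.Ext
-- import your own Groth.Agent.* helpers here

set_option autoImplicit false
universe u
open CategoryTheory
open CohSite

namespace Groth.Agent.S0862

open Opposite CategoryTheory.Limits in
/-- Let C be a site with fibre products, B a class of objects and Cov a class of finite covering
families such that (1) for a family in Cov over U, U and all iterated fibre products of its members
lie in B, and (2) every covering sieve of a member of B contains a family from Cov. Then for every U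
in B, every p and every filtered diagram of abelian sheaves, colim_i H^p(U, F_i) -> H^p(U, colim_i
F_i) is an isomorphism (phrased: H^p(U, -) preserves the colimit). -/
theorem result {C : Type u} [SmallCategory C] [HasPullbacks C]
    (J : GrothendieckTopology C) (B : Set C) (Cov : ∀ (U : C) (ι : Type u), (ι → Over U) → Prop)
    (h1 : ∀ (U : C) (ι : Type u) (Y : ι → Over U), Cov U ι Y → Finite ι ∧ U ∈ B ∧
      Sieve.ofArrows (fun i => (Y i).left) (fun i => (Y i).hom) ∈ J U ∧
      ∀ (p : ℕ) (a : Fin (p + 1) → ι), (∏ᶜ fun k => Y (a k)).left ∈ B)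
    (h2 : ∀ U ∈ B, ∀ T ∈ J U, ∃ (ι : Type u) (Y : ι → Over U), Cov U ι Y ∧ ∀ i, T.arrows (Y i).hom)
    (U : C) (hU : U ∈ B) (p : ℕ) (I : Type u) [SmallCategory I] [IsFiltered I]
    (F : I ⥤ Sheaf J AddCommGrpCat.{u}) :
    PreservesColimit F ((Sheaf.cohomologyPresheafFunctor J p).flip.obj (op U)) := by
  let P : Groth.Agent.DSites.CollColim.Coll J := ⟨B, Cov, h1, h2⟩
  have h₀ : ∀ D : I ⥤ Sheaf J AddCommGrpCat.{u}, Groth.Agent.ToposFinLib.Comm (CohCx.freeSheaf J U) 0 D := fun D =>
    { surj := fun x => by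
        obtain ⟨φ, rfl⟩ := (Abelian.Ext.mk₀_bijective _ _).2 x
        obtain ⟨i, a, ha⟩ := Groth.Agent.DSites.CollColim.exists_rep (colimit.isColimit D) P hU
          (Groth.Agent.SiteBase.secEquiv J U _ φ)
        refine ⟨i, Abelian.Ext.mk₀ ((Groth.Agent.SiteBase.secEquiv J U _).symm a), ?_⟩
        rw [Abelian.Ext.mk₀_comp_mk₀, Groth.Agent.SiteBase.secEquiv_symm_comp]
        exact congrArg Abelian.Ext.mk₀
          ((congrArg (Groth.Agent.SiteBase.secEquiv J U _).symm ha).trans (AddEquiv.symm_apply_apply _ φ))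
      inj := fun i y hy => by
        obtain ⟨φ, rfl⟩ := (Abelian.Ext.mk₀_bijective _ _).2 y
        rw [Abelian.Ext.mk₀_comp_mk₀, ← Abelian.Ext.mk₀_zero] at hy
        have h0 := congrArg (Groth.Agent.SiteBase.secEquiv J U _) ((Abelian.Ext.mk₀_bijective _ _).1 hy)
        rw [Groth.Agent.SiteBase.secEquiv_comp, map_zero] at h0
        obtain ⟨j, w, hw⟩ := Groth.Agent.DSites.CollColim.exists_tr_zero (colimit.isColimit D) P hU _ h0
        refine ⟨j, w, ?_⟩
        rw [Abelian.Ext.mk₀_comp_mk₀, ← Abelian.Ext.mk₀_zero]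
        refine congrArg Abelian.Ext.mk₀ ((Groth.Agent.SiteBase.secEquiv J U _).injective ?_)
        rw [Groth.Agent.SiteBase.secEquiv_comp, map_zero]
        exact hw }
  have hvan : ∀ (E : I ⥤ Sheaf J AddCommGrpCat.{u}), (∀ i, Injective (E.obj i)) → ∀ q,
      Subsingleton (Abelian.Ext (CohCx.freeSheaf J U) (colimit E) (q + 1)) := fun E hE q =>
    Groth.Agent.SiteBase.subsingleton_HU_of_cartan (J := J) (F := colimit E) (fun V => V ∈ B)
      (K := { k : Σ (V : C) (ι : Type u), ι → Over V // Cov k.1 k.2.1 k.2.2 })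
      (fun k => Over k.1.1) (fun k => Over.forget k.1.1) (fun k => k.1.2.1) (fun k => k.1.2.2)
      (fun k n a => (h1 _ _ _ k.2).2.2.2 n a) (fun k => Groth.Agent.SiteBase.injAcyclic_over _)
      (fun V hV T hT => by
        obtain ⟨ι, Y, hY, hT'⟩ := h2 V hV T hT
        exact ⟨⟨⟨V, ι, Y⟩, hY⟩, Groth.Agent.SiteBase.ctxOver Y, (h1 _ _ _ hY).2.2.1, hT'⟩)
      (fun k q => Groth.Agent.DSites.CollColim.exactAt_cech (colimit.isColimit E) P k.1.2.2 k.2 q
        fun i => Groth.Agent.SiteBase.injAcyclic_over k.1.2.2 _ (hE i) q) hU q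
  exact (Groth.Agent.DSites.CollColim.comm_of_vanishing h₀ hvan p F).preservesColimit

end Groth.Agent.S0862
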