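import Groth.Statements.S0872
import Groth.Agent.DSites.BddCompactFinDim
-- import your own Groth.Agent.* helpers here

set_option autoImplicit false
universe u
open CategoryTheory
open CohSite

namespace Groth.Agent.S0872

open Opposite CategoryTheory.Limits in
/-- Abelian sheaves, O = Z: let U be an object of a site such that for some d, H^p(U, F) = 0 for all p >
d and all abelian sheaves F, and each functor F ↦ H^p(U, F) preserves direct sums. Then the free
abelian sheaf Z[h_U]^# (that is, j_! Z_U), viewed in degree zero, is a compact object of the derived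
category of abelian sheaves (maps out of it commute with direct sums; the existence of direct sums
in the derived category is assumed). -/
theorem result {C : Type u} [SmallCategory C] (J : GrothendieckTopology C) (U : C)
    [HasDerivedCategory.{u} (Sheaf J AddCommGrpCat.{u})]
    [HasCoproducts.{u} (DerivedCategory (Sheaf J AddCommGrpCat.{u}))]
    (d : ℕ) (h1 : ∀ (F : Sheaf J AddCommGrpCat.{u}) (p : ℕ), d < p → Subsingleton (CohSite.HU F p U))
    (h2 : ∀ (p : ℕ) (ι : Type u), PreservesColimitsOfShape (Discrete ι)
      ((Sheaf.cohomologyPresheafFunctor J p).flip.obj (op U))) :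
    CohDer.IsCompactObject ((DerivedCategory.singleFunctor (Sheaf J AddCommGrpCat.{u}) 0).obj
      (CohCx.freeSheaf J U)) := by
  intro ι M
  refine Groth.Agent.DSites.PartProj.bijective_homSumToHomCoprod M
    (Groth.Agent.DSites.BddCompact.fixAt_of_finite_dim (d := d) (fun F i hi => h1 F i hi) (fun n F x => ?_) M)
  have := h2 n ι
  have : ((Sheaf.cohomologyPresheafFunctor J n).flip.obj (op U)).PreservesZeroMorphisms :=
    ⟨fun X Y => by
      ext y
      show Abelian.Ext.comp y (Abelian.Ext.mk₀ 0) (add_zero n) = 0
      rw [Abelian.Ext.mk₀_zero]
      exact Abelian.Ext.comp_zero (X := CohCx.freeSheaf J U) (Y := X) y Y 0 n (add_zero n)⟩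
  exact Groth.Agent.DSites.BddCompact.exists_fix_of_preserves
    ((Sheaf.cohomologyPresheafFunctor J n).flip.obj (op U)) F x

end Groth.Agent.S0872
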