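import Groth.Statements.S0900
import Groth.Agent.DSites.DerPi
import Groth.Agent.TriCat.KInjRes
import Mathlib.Algebra.Homology.HomotopyCategory.Triangulated
import Mathlib.Algebra.Homology.DerivedCategory.ExactFunctor
-- import your own Groth.Agent.* helpers here

set_option autoImplicit false
universe v u
open CategoryTheory
open CohDer

namespace Groth.Agent.S0900

open CategoryTheory.Limits in
/-- Let F : A -> B be an additive functor between abelian categories with A Grothendieck abelian, B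
having exact countable products (here: ℕ-indexed products exist and preserve epimorphisms) and F
commuting with ℕ-indexed products. Then the total right derived functor RF : D(A) -> D(B) (whose
existence is assumed as an instance argument; it exists because A has enough K-injective complexes)
sends a derived limit of an inverse system (K_n) to a derived limit of (RF K_n). The relevant
countable products in the derived categories are assumed to exist. -/
theorem result {A : Type u} [Category.{v} A] [Abelian A] [IsGrothendieckAbelian.{v} A]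
    [HasDerivedCategory.{v} A] {B : Type u} [Category.{v} B] [Abelian B] [HasDerivedCategory.{v} B]
    [HasProductsOfShape ℕ B] [(lim : (Discrete ℕ ⥤ B) ⥤ B).PreservesEpimorphisms]
    (F : A ⥤ B) [F.Additive] [PreservesLimitsOfShape (Discrete ℕ) F]
    [(F.mapHomotopyCategory (ComplexShape.up ℤ) ⋙ DerivedCategory.Qh).HasRightDerivedFunctor
      (HomotopyCategory.quasiIso A (ComplexShape.up ℤ))]
    (K : ℕ → DerivedCategory A) (t : ∀ n, K (n + 1) ⟶ K n) (L : DerivedCategory A) [HasProduct K]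
    [HasProduct fun n => ((F.mapHomotopyCategory (ComplexShape.up ℤ) ⋙ DerivedCategory.Qh).totalRightDerived
      DerivedCategory.Qh (HomotopyCategory.quasiIso A (ComplexShape.up ℤ))).obj (K n)]
    (hL : DCoh.IsRlim K t L) :
    DCoh.IsRlim
      (fun n => ((F.mapHomotopyCategory (ComplexShape.up ℤ) ⋙ DerivedCategory.Qh).totalRightDerived
        DerivedCategory.Qh (HomotopyCategory.quasiIso A (ComplexShape.up ℤ))).obj (K n))
      (fun n => ((F.mapHomotopyCategory (ComplexShape.up ℤ) ⋙ DerivedCategory.Qh).totalRightDerived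
        DerivedCategory.Qh (HomotopyCategory.quasiIso A (ComplexShape.up ℤ))).map (t n))
      (((F.mapHomotopyCategory (ComplexShape.up ℤ) ⋙ DerivedCategory.Qh).totalRightDerived
        DerivedCategory.Qh (HomotopyCategory.quasiIso A (ComplexShape.up ℤ))).obj L) := by
  haveI : HasLimitsOfSize.{0, 0} A := hasSmallestLimitsOfHasLimits A
  haveI : (lim : (Discrete ℕ ⥤ B) ⥤ B).Additive := Functor.additive_of_preserves_binary_products _
  haveI : HasExactLimitsOfShape (Discrete ℕ) B := by
    refine ⟨?_⟩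
    have h := (Functor.preservesFiniteColimits_iff_forall_exact_map_and_epi
      (lim : (Discrete ℕ ⥤ B) ⥤ B)).2 fun S hS => ⟨?_, ?_⟩
    · exact h
    · exact hS.exact.map_of_mono_of_preservesKernel _ hS.mono_f inferInstance
    · haveI := hS.epi_g
      exact inferInstanceAs (Epi ((lim : (Discrete ℕ ⥤ B) ⥤ B).map S.g))
  have hres : ∀ K : CochainComplex A ℤ,
      ∃ (I : CochainComplex A ℤ) (f : K ⟶ I), I.IsKInjective ∧ QuasiIso f := fun M => by
    obtain ⟨I, f, hI, hf, -, -⟩ := TriCat.exists_kInjective_resolution' M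
    exact ⟨I, f, hI, hf⟩
  let q := HomotopyCategory.quotient A (ComplexShape.up ℤ)
  have hrep : ∀ X : DerivedCategory A, ∃ (I : CochainComplex A ℤ)
      (_ : DerivedCategory.Qh.obj (q.obj I) ≅ X), I.IsKInjective := by
    intro X
    obtain ⟨I, φ, hI, hφ⟩ := hres (DerivedCategory.Q.objPreimage X)
    exact ⟨I, (DerivedCategory.quotientCompQhIso A).app I ≪≫
      (asIso (DerivedCategory.Q.map φ)).symm ≪≫ DerivedCategory.Q.objObjPreimageIso X, hI⟩
  choose I eI hI using fun n => hrep (K n)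
  haveI := hI
  choose ψ hψ using fun n => (CochainComplex.IsKInjective.Qh_map_bijective (q.obj (I (n + 1))) (I n)).2
    ((eI (n + 1)).hom ≫ t n ≫ (eI n).inv)
  choose τ hτ using fun n => q.map_surjective (ψ n)
  let P := ∏ᶜ I
  haveI hP : (∏ᶜ I).IsKInjective := DSites.DerPi.isKInjective_pi I
  let δ : P ⟶ P := Pi.lift fun n => Pi.π I n - Pi.π I (n + 1) ≫ τ n
  let p := fun n => DerivedCategory.Qh.map (q.map (Pi.π I n)) ≫ (eI n).hom
  have hp : ∀ Y : DerivedCategory A,
      Function.Bijective fun (g : Y ⟶ DerivedCategory.Qh.obj (q.obj P)) (n : ℕ) => g ≫ p n := by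
    intro Y
    have h := DSites.DerPi.bijective_Qh_pi I Y
    refine ⟨fun g g' e => h.1 (funext fun n => ?_), fun g => ?_⟩
    · have := congrFun e n
      simp only [p, ← Category.assoc, cancel_mono] at this
      exact this
    · obtain ⟨l, hl⟩ := h.2 fun n => g n ≫ (eI n).inv
      refine ⟨l, funext fun n => ?_⟩
      show l ≫ _ ≫ _ = _
      rw [← Category.assoc]
      exact (congrArg (· ≫ (eI n).hom) (congrFun hl n)).trans (by simp)
  haveI := DSites.DerPi.isIso_piLift p hp
  let eP : DerivedCategory.Qh.obj (q.obj P) ≅ ∏ᶜ K := asIso (Pi.lift p)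
  let D : ∏ᶜ K ⟶ ∏ᶜ K := Pi.lift fun n => Pi.π K n - Pi.π K (n + 1) ≫ t n
  have hcomm : DerivedCategory.Qh.map (q.map δ) ≫ eP.hom = eP.hom ≫ D := by
    refine Pi.hom_ext _ _ fun n => ?_
    simp only [eP, D, asIso_hom, Category.assoc, Pi.lift_π, Preadditive.comp_sub,
      Pi.lift_π_assoc, p]
    rw [← Functor.map_comp_assoc, ← Functor.map_comp, show δ ≫ Pi.π I n = _ from Pi.lift_π _ _,
      Functor.map_sub, Functor.map_sub, Preadditive.sub_comp, Functor.map_comp, Functor.map_comp,
      Category.assoc, hτ, hψ]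
    simp
  obtain ⟨a, c, hT⟩ := hL
  let Tc := CochainComplex.mappingCone.triangleh δ
  have hTc : Tc ∈ Pretriangulated.distinguishedTriangles :=
    HomotopyCategory.mappingCone_triangleh_distinguished δ
  let iso := Pretriangulated.isoTriangleOfIso₁₂ (DerivedCategory.Qh.mapTriangle.obj Tc)
    (Pretriangulated.Triangle.mk a D c).rotate (DerivedCategory.Qh.map_distinguished _ hTc)
    (Pretriangulated.rot_of_distTriang _ hT) eP eP hcomm
  let T₀ := Tc.invRotate
  let eL : DerivedCategory.Qh.obj T₀.obj₁ ≅ L :=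
    (DerivedCategory.Qh.commShiftIso (-1 : ℤ)).app Tc.obj₃ ≪≫
      (shiftFunctor (DerivedCategory A) (-1 : ℤ)).mapIso (Pretriangulated.Triangle.π₃.mapIso iso) ≪≫
      (shiftFunctorCompIsoId (DerivedCategory A) (1 : ℤ) (-1) (by omega)).app L
  obtain ⟨M, hM⟩ : ∃ M : CochainComplex A ℤ, q.obj M = T₀.obj₁ :=
    HomotopyCategory.quotient_obj_surjective _
  haveI : M.IsKInjective := by
    rw [CochainComplex.isKInjective_iff_rightOrthogonal, hM]
    exact ObjectProperty.le_shift _ (-1 : ℤ) _ (ObjectProperty.ext_of_isTriangulatedClosed₃ _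
      Tc hTc (CochainComplex.IsKInjective.rightOrthogonal P)
      (CochainComplex.IsKInjective.rightOrthogonal P))
  let G := F.mapHomotopyCategory (ComplexShape.up ℤ) ⋙ DerivedCategory.Qh
  let RF := G.totalRightDerived DerivedCategory.Qh (HomotopyCategory.quasiIso A (ComplexShape.up ℤ))
  let α := G.totalRightDerivedUnit DerivedCategory.Qh (HomotopyCategory.quasiIso A (ComplexShape.up ℤ))
  haveI hα : ∀ (J : CochainComplex A ℤ) [J.IsKInjective], IsIso (α.app (q.obj J)) :=
    fun J _ => DSites.DerPi.isIso_unit_app hres G J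
  have hαM : IsIso (α.app T₀.obj₁) := hM ▸ hα M
  let e₁ : RF.obj L ≅ G.obj T₀.obj₁ := RF.mapIso eL.symm ≪≫ (@asIso _ _ _ _ _ hαM).symm
  let u : ∀ n, G.obj (q.obj (I n)) ≅ RF.obj (K n) := fun n =>
    asIso (α.app (q.obj (I n))) ≪≫ RF.mapIso (eI n)
  let p' := fun n => G.map (q.map (Pi.π I n)) ≫ (u n).hom
  let FC := F.mapHomologicalComplex (ComplexShape.up ℤ)
  haveI : IsIso (Pi.lift fun n => FC.map (Pi.π I n)) := by
    haveI : ∀ i, IsIso ((Pi.lift fun n => FC.map (Pi.π I n)).f i) := fun i => by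
      let h₁ := isLimitFanMkObjOfIsLimit (HomologicalComplex.eval A (ComplexShape.up ℤ) i ⋙ F) I
        (Pi.π I) (productIsProduct I)
      let h₂ := isLimitFanMkObjOfIsLimit (HomologicalComplex.eval B (ComplexShape.up ℤ) i)
        (fun n => FC.obj (I n)) (Pi.π _) (productIsProduct _)
      have e : (Pi.lift fun n => FC.map (Pi.π I n)).f i =
          (h₁.conePointUniqueUpToIso h₂).hom := by
        refine Fan.IsLimit.hom_ext h₂ _ _ fun j => ?_
        exact ((HomologicalComplex.comp_f _ _ i).symm.trans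
          (congrArg (fun z => HomologicalComplex.Hom.f z i) (Pi.lift_π _ j))).trans
            (h₁.conePointUniqueUpToIso_hom_comp h₂ ⟨j⟩).symm
      rw [e]
      exact (h₁.conePointUniqueUpToIso h₂).isIso_hom
    exact HomologicalComplex.Hom.isIso_of_components _
  let N : q ⋙ G ≅ FC ⋙ DerivedCategory.Q :=
    (Functor.associator _ _ _).symm ≪≫
      Functor.isoWhiskerRight (F.mapHomotopyCategoryFactors (ComplexShape.up ℤ))
        DerivedCategory.Qh ≪≫
      Functor.associator _ _ _ ≪≫
      Functor.isoWhiskerLeft FC (DerivedCategory.quotientCompQhIso B)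
  let κ : ∀ J : CochainComplex A ℤ, G.obj (q.obj J) ≅ DerivedCategory.Q.obj (FC.obj J) :=
    fun J => N.app J
  have hκ : ∀ {J J' : CochainComplex A ℤ} (φ : J ⟶ J'),
      G.map (q.map φ) ≫ (κ J').hom = (κ J).hom ≫ DerivedCategory.Q.map (FC.map φ) := fun φ =>
    N.hom.naturality φ
  have hp' : ∀ Y : DerivedCategory B,
      Function.Bijective fun (g : Y ⟶ G.obj (q.obj P)) (n : ℕ) => g ≫ p' n := by
    intro Y
    let θ : G.obj (q.obj P) ≅ DerivedCategory.Q.obj (∏ᶜ fun n => FC.obj (I n)) :=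
      κ P ≪≫ DerivedCategory.Q.mapIso (asIso (Pi.lift fun n => FC.map (Pi.π I n)))
    have hθ : ∀ n, θ.hom ≫ DerivedCategory.Q.map (Pi.π _ n) ≫ (κ (I n)).inv ≫ (u n).hom =
        p' n := fun n => by
      simp only [θ, Iso.trans_hom, Functor.mapIso_hom, asIso_hom, Category.assoc, p']
      rw [← Functor.map_comp_assoc, Pi.lift_π, ← Category.assoc (κ P).hom, ← hκ]
      simp
    have h := DSites.DerPi.bijective_Q_pi (fun n => FC.obj (I n)) Y
    refine ⟨fun g g' e => (cancel_mono θ.hom).1 (h.1 (funext fun n => ?_)), fun g => ?_⟩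
    · have := congrFun e n
      simp only [← hθ, ← Category.assoc, cancel_mono] at this
      exact this
    · obtain ⟨l, hl⟩ := h.2 fun n => g n ≫ (u n).inv ≫ (κ (I n)).hom
      refine ⟨l ≫ θ.inv, funext fun n => ?_⟩
      show (l ≫ θ.inv) ≫ p' n = g n
      rw [← hθ, Category.assoc, Iso.inv_hom_id_assoc, ← Category.assoc]
      exact (congrArg (· ≫ _) (congrFun hl n)).trans (by simp)
  haveI := DSites.DerPi.isIso_piLift p' hp'
  let e₂ : G.obj (q.obj P) ≅ ∏ᶜ fun n => RF.obj (K n) := asIso (Pi.lift p')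
  have hu : ∀ n, G.map (q.map (τ n)) ≫ (u n).hom = (u (n + 1)).hom ≫ RF.map (t n) := fun n => by
    have nat : G.map (q.map (τ n)) ≫ α.app (q.obj (I n)) =
        α.app (q.obj (I (n + 1))) ≫ RF.map (DerivedCategory.Qh.map (q.map (τ n))) :=
      α.naturality (q.map (τ n))
    simp only [u, Iso.trans_hom, asIso_hom, Functor.mapIso_hom, Category.assoc]
    rw [reassoc_of% nat, ← RF.map_comp, ← RF.map_comp, hτ, hψ]
    simp
  let FH := F.mapHomotopyCategory (ComplexShape.up ℤ)
  have hT₁ : FH.mapTriangle.obj T₀ ∈ Pretriangulated.distinguishedTriangles :=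
    FH.map_distinguished _ (Pretriangulated.inv_rot_of_distTriang _ hTc)
  have hT₂ := DerivedCategory.Qh.map_distinguished _ hT₁
  let S := DerivedCategory.Qh.mapTriangle.obj (FH.mapTriangle.obj T₀)
  let m₁ : G.obj T₀.obj₁ ⟶ G.obj (q.obj P) := S.mor₁
  let m₃ : G.obj (q.obj P) ⟶ (G.obj T₀.obj₁)⟦(1 : ℤ)⟧ := S.mor₃
  let D' : (∏ᶜ fun n => RF.obj (K n)) ⟶ ∏ᶜ fun n => RF.obj (K n) :=
    Pi.lift fun n => Pi.π (fun n => RF.obj (K n)) n - Pi.π _ (n + 1) ≫ RF.map (t n)
  refine ⟨e₁.hom ≫ m₁ ≫ e₂.hom, e₂.inv ≫ m₃ ≫ e₁.inv⟦(1 : ℤ)⟧', ?_⟩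
  refine Pretriangulated.isomorphic_distinguished _ hT₂ _
    (Pretriangulated.Triangle.isoMk _ _ e₁ e₂.symm e₂.symm ?_ ?_ ?_)
  · show (e₁.hom ≫ m₁ ≫ e₂.hom) ≫ e₂.inv = e₁.hom ≫ m₁
    simp
  · show D' ≫ e₂.inv = e₂.inv ≫ G.map (q.map δ)
    rw [Iso.comp_inv_eq, Category.assoc, Iso.eq_inv_comp]
    symm
    refine Pi.hom_ext _ _ fun n => ?_
    simp only [e₂, asIso_hom, Category.assoc, D', Pi.lift_π,
      Preadditive.comp_sub, Pi.lift_π_assoc, p']
    rw [← Functor.map_comp_assoc, ← Functor.map_comp, show δ ≫ Pi.π I n = _ from Pi.lift_π _ _,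
      Functor.map_sub, Functor.map_sub, Preadditive.sub_comp, Functor.map_comp, Functor.map_comp,
      Category.assoc, hu]
  · show (e₂.inv ≫ m₃ ≫ e₁.inv⟦(1 : ℤ)⟧') ≫ e₁.hom⟦(1 : ℤ)⟧' = e₂.inv ≫ m₃
    rw [Category.assoc, Category.assoc, ← Functor.map_comp, Iso.inv_hom_id,
      CategoryTheory.Functor.map_id, Category.comp_id]

end Groth.Agent.S0900
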