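import Groth.Statements.S0930
import Groth.Agent.H9Misc.PlusComp
import Groth.Agent.SiteBase.Top
-- import your own Groth.Agent.* helpers here

set_option autoImplicit false
universe u
open CategoryTheory
attribute [local instance] HasDerivedCategory.standard
open CohTop

namespace Groth.Agent.S0930

namespace Aux

set_option backward.isDefEq.respectTransparency false
set_option backward.isDefEq.respectTransparency.types false

open CategoryTheory.Limits

theorem nonempty_comp {A B C : Type (u + 1)} [Category.{u} A] [Category.{u} B] [Category.{u} C]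
    [Abelian A] [Abelian B] [Abelian C] [EnoughInjectives A] [EnoughInjectives B]
    (F : A ⥤ B) (G : B ⥤ C) [F.Additive] [G.Additive] [PreservesFiniteLimits G]
    (hF : ∀ I : A, Injective I → Injective (F.obj I)) :
    Nonempty ((F ⋙ G).rightDerivedFunctorPlus ≅ F.rightDerivedFunctorPlus ⋙ G.rightDerivedFunctorPlus) := by
  have h := Groth.Agent.H9Misc.PlusComp.isRightDerived F G (fun I hI => by
    haveI := hF I hI
    exact (TriCat.isIso_unit_single_iff G _).2 ⟨inferInstance, fun i hi => TriCat.isRightAcyclic_of_injective (F := G) (F.obj I) i hi⟩)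
    (H := F ⋙ G) (Functor.mapHomotopyCategoryPlusCompIso (Iso.refl (F ⋙ G))).symm
  obtain ⟨α, hα⟩ : ∃ α : (F ⋙ G).mapHomotopyCategoryPlus ⋙ DerivedCategory.Plus.Qh ⟶
      DerivedCategory.Plus.Qh ⋙ F.rightDerivedFunctorPlus ⋙ G.rightDerivedFunctorPlus,
      (F.rightDerivedFunctorPlus ⋙ G.rightDerivedFunctorPlus).IsRightDerivedFunctor α
        (HomotopyCategory.Plus.quasiIso A) := ⟨_, h⟩
  exact ⟨Functor.rightDerivedUnique (F ⋙ G).rightDerivedFunctorPlus (F.rightDerivedFunctorPlus ⋙ G.rightDerivedFunctorPlus)
    (F ⋙ G).rightDerivedFunctorPlusUnit α (HomotopyCategory.Plus.quasiIso A)⟩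

theorem nonempty_push_comp {X Y Z : TopCat.{u}} (f : X ⟶ Y) (g : Y ⟶ Z) :
    Nonempty ((CohTop.push f).rightDerivedFunctorPlus ⋙ (CohTop.push g).rightDerivedFunctorPlus ≅
      (CohTop.push (f ≫ g)).rightDerivedFunctorPlus) := by
  haveI : PreservesFiniteLimits (CohTop.push g) :=
    have := (TopCat.Sheaf.pullbackPushforwardAdjunction AddCommGrpCat.{u} g).rightAdjoint_preservesLimits.{0, 0}
    ⟨fun J _ _ => inferInstance⟩
  obtain ⟨e⟩ := nonempty_comp (CohTop.push f) (CohTop.push g) (fun I hI => SiteBase.injective_push f I)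
  exact ⟨e.symm⟩

end Aux

/-- For continuous maps f : X -> Y and g : Y -> Z, the composite of the right derived functors Rf_* :
D^+(X) -> D^+(Y) and Rg_* : D^+(Y) -> D^+(Z) is isomorphic to R(g ∘ f)_* (existence of an
isomorphism of functors between bounded below derived categories). -/
theorem result {X Y Z : TopCat.{u}} (f : X ⟶ Y) (g : Y ⟶ Z) :
    Nonempty ((CohTop.push f).rightDerivedFunctorPlus ⋙ (CohTop.push g).rightDerivedFunctorPlus ≅
      (CohTop.push (f ≫ g)).rightDerivedFunctorPlus) := by
  exact Aux.nonempty_push_comp f g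

end Groth.Agent.S0930
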