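import Groth.Statements.S0936
import Groth.Agent.DSites.BddCompact
-- import your own Groth.Agent.* helpers here

set_option autoImplicit false
universe u
open CategoryTheory
open CohSite

namespace Groth.Agent.S0936

open Opposite CategoryTheory.Limits in
/-- Abelian sheaves, O = Z: let U be an object of a site such that each functor F ↦ H^p(U, F) on abelian
sheaves preserves direct sums. Then for every family (M_i) of objects of the derived category of
abelian sheaves which is uniformly bounded below and whose direct sum exists, the canonical map ⊕_i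
Hom(Z[h_U]^#, M_i) -> Hom(Z[h_U]^#, ⊕_i M_i) is bijective. -/
theorem result {C : Type u} [SmallCategory C] (J : GrothendieckTopology C)
    (U : C) [HasDerivedCategory.{u} (Sheaf J AddCommGrpCat.{u})]
    (h : ∀ (p : ℕ) (ι : Type u), PreservesColimitsOfShape (Discrete ι)
      ((Sheaf.cohomologyPresheafFunctor J p).flip.obj (op U)))
    {I : Type u} (M : I → DerivedCategory (Sheaf J AddCommGrpCat.{u})) [HasCoproduct M] (a : ℤ)
    (hM : ∀ i, (M i).IsGE a) :
    Function.Bijective (CohDer.homSumToHomCoprod
      ((DerivedCategory.singleFunctor (Sheaf J AddCommGrpCat.{u}) 0).obj (CohCx.freeSheaf J U)) M) := by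
  have : HasExt.{u} (Sheaf J AddCommGrpCat.{u}) := inferInstance
  have := Groth.Agent.TriCat.hasColimitsOfShape_derivedCategory (A := Sheaf J AddCommGrpCat.{u}) (J := I)
  refine Groth.Agent.DSites.BddCompact.bijective_of_isGE (fun n F x => ?_) M a hM
  have := h n I
  have : ((Sheaf.cohomologyPresheafFunctor J n).flip.obj (op U)).PreservesZeroMorphisms :=
    ⟨fun X Y => by
      ext y
      show Abelian.Ext.comp y (Abelian.Ext.mk₀ 0) (add_zero n) = 0
      rw [Abelian.Ext.mk₀_zero, Abelian.Ext.comp_zero]⟩
  exact Groth.Agent.DSites.BddCompact.exists_fix_of_preserves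
    ((Sheaf.cohomologyPresheafFunctor J n).flip.obj (op U)) F x

end Groth.Agent.S0936
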