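import Groth.Statements.S0983
import Mathlib.CategoryTheory.Triangulated.Triangulated
-- import your own Groth.Agent.* helpers here

set_option autoImplicit false
universe v u
open CategoryTheory
open CohDer

namespace Groth.Agent.S0983

open CategoryTheory.Pretriangulated in
/-- In a triangulated category, a commutative square f ≫ v = u ≫ f' (with f : X ⟶ Y, f' : X' ⟶ Y', u : X
⟶ X', v : Y ⟶ Y') extends to a diagram with three distinguished rows (X, Y, Z), (X', Y', Z'), (X'',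
Y'', Z'') and three distinguished columns (X, X', X''), (Y, Y', Y''), (Z, Z', Z''), in which all
squares commute except the one formed by the third morphisms of the last row and last column, which
anticommutes; the fourth row and column are the shifts of the first ones. -/
theorem result {D : Type u} [Category.{v} D] [Preadditive D] [Limits.HasZeroObject D] [HasShift D ℤ]
    [∀ n : ℤ, (shiftFunctor D n).Additive] [Pretriangulated D] [IsTriangulated D]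
    {X Y X' Y' : D} (f : X ⟶ Y) (f' : X' ⟶ Y') (u : X ⟶ X') (v : Y ⟶ Y') (comm : f ≫ v = u ≫ f') :
    ∃ (Z Z' X'' Y'' Z'' : D) (g : Y ⟶ Z) (h : Z ⟶ (shiftFunctor D (1 : ℤ)).obj X)
      (g' : Y' ⟶ Z') (h' : Z' ⟶ (shiftFunctor D (1 : ℤ)).obj X')
      (f'' : X'' ⟶ Y'') (g'' : Y'' ⟶ Z'') (h'' : Z'' ⟶ (shiftFunctor D (1 : ℤ)).obj X'')
      (u' : X' ⟶ X'') (u'' : X'' ⟶ (shiftFunctor D (1 : ℤ)).obj X)
      (v' : Y' ⟶ Y'') (v'' : Y'' ⟶ (shiftFunctor D (1 : ℤ)).obj Y)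
      (w : Z ⟶ Z') (w' : Z' ⟶ Z'') (w'' : Z'' ⟶ (shiftFunctor D (1 : ℤ)).obj Z),
      Triangle.mk f g h ∈ distinguishedTriangles ∧ Triangle.mk f' g' h' ∈ distinguishedTriangles ∧
      Triangle.mk f'' g'' h'' ∈ distinguishedTriangles ∧
      Triangle.mk u u' u'' ∈ distinguishedTriangles ∧ Triangle.mk v v' v'' ∈ distinguishedTriangles ∧
      Triangle.mk w w' w'' ∈ distinguishedTriangles ∧
      g ≫ w = v ≫ g' ∧ h ≫ (shiftFunctor D (1 : ℤ)).map u = w ≫ h' ∧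
      f' ≫ v' = u' ≫ f'' ∧ g' ≫ w' = v' ≫ g'' ∧ h' ≫ (shiftFunctor D (1 : ℤ)).map u' = w' ≫ h'' ∧
      f'' ≫ v'' = u'' ≫ (shiftFunctor D (1 : ℤ)).map f ∧ g'' ≫ w'' = v'' ≫ (shiftFunctor D (1 : ℤ)).map g ∧
      h'' ≫ (shiftFunctor D (1 : ℤ)).map u'' = -(w'' ≫ (shiftFunctor D (1 : ℤ)).map h) := by
  obtain ⟨Z, g, h, h₁⟩ := distinguished_cocone_triangle f
  obtain ⟨Z', g', h', h₂⟩ := distinguished_cocone_triangle f'
  obtain ⟨X'', u', u'', h₃⟩ := distinguished_cocone_triangle u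
  obtain ⟨Y'', v', v'', h₄⟩ := distinguished_cocone_triangle v
  obtain ⟨A, a, b, h₅⟩ := distinguished_cocone_triangle (f ≫ v)
  obtain ⟨m₁, m₃, a₁, a₂, a₃, a₄, mem₁⟩ :=
    Triangulated.someOctahedron (rfl : f ≫ v = f ≫ v) h₁ h₄ h₅
  obtain ⟨n₁, n₃, b₁, b₂, b₃, b₄, mem₂⟩ := Triangulated.someOctahedron comm.symm h₃ h₂ h₅
  obtain ⟨Z'', g'', h'', h₆⟩ := distinguished_cocone_triangle (n₁ ≫ m₃)
  have r₁ : Triangle.mk m₃ (v'' ≫ g⟦(1 : ℤ)⟧') (-m₁⟦(1 : ℤ)⟧') ∈ distinguishedTriangles :=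
    rot_of_distTriang _ mem₁
  obtain ⟨p₁, p₃, c₁, c₂, c₃, c₄, mem₃⟩ :=
    Triangulated.someOctahedron (rfl : n₁ ≫ m₃ = n₁ ≫ m₃) mem₂ r₁ h₆
  refine ⟨Z, Z', X'', Y'', Z'', g, h, g', h', n₁ ≫ m₃, g'', h'', u', u'', v', v'',
    m₁ ≫ n₃, p₁, p₃, h₁, h₂, h₆, h₃, h₄, ?_, ?_, ?_, ?_, ?_, c₂.symm, ?_, c₃, ?_⟩
  · rw [rotate_distinguished_triangle]
    refine isomorphic_distinguished _ mem₃ _
      (Triangle.isoMk _ _ (Iso.refl _) (Iso.refl _) (Iso.refl _) ?_ ?_ ?_)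
    · exact (Category.comp_id _).trans (Category.id_comp _).symm
    · exact (Category.comp_id _).trans (Category.id_comp _).symm
    · show (-((shiftFunctor D (1 : ℤ)).map (m₁ ≫ n₃))) ≫ (shiftFunctor D (1 : ℤ)).map (𝟙 Z') =
        𝟙 _ ≫ ((-((shiftFunctor D (1 : ℤ)).map m₁)) ≫ (shiftFunctor D (1 : ℤ)).map n₃)
      simp
  · rw [← Category.assoc, a₁, Category.assoc, b₃]
  · rw [Category.assoc, ← b₄, ← Category.assoc, a₂]
  · rw [← Category.assoc, b₁, Category.assoc, a₃]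
  · rw [← b₃, ← a₃, Category.assoc, Category.assoc, c₁]
  · rw [Category.assoc, ← a₄, ← Category.assoc, b₂]
  · rw [← b₂, ← a₂, Functor.map_comp, Functor.map_comp, ← Category.assoc h'', c₄]
    simp

end Groth.Agent.S0983
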