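import Groth.Statements.S10031
import Groth.Agent.LimPresLib.Space
-- import your own Groth.Agent.* helpers here

set_option autoImplicit false
universe u
open CategoryTheory CategoryTheory.Limits AlgebraicGeometry
open AlgSp

set_option backward.isDefEq.respectTransparency false
set_option backward.isDefEq.respectTransparency.types false

open Groth.Agent.LimPresLib

namespace Groth.Agent.S10031

/-- A morphism `f : X ⟶ Y` of algebraic spaces over `S` is locally of finite presentation provided that,
whenever an affine scheme `T` over `S` is a cofiltered (e.g. directed) limit of affine schemes `T_i`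
over `S`, each `T`-point of `X` lying over a `T_i`-point of `Y` comes, compatibly with both, from a
`T_{i'}`-point of `X` for some `i'` mapping to `i` (that is, the map from `colim X(T_i)` to `X(T)
×_{Y(T)} colim Y(T_i)` is surjective). -/
theorem result (S : Scheme.{u}) {X Y : AlgSp.Space S} (f : X ⟶ Y)
    (h : ∀ ⦃I : Type u⦄ [SmallCategory I] [IsCofiltered I] (D : I ⥤ Over S) (c : Cone D),
      IsLimit ((Over.forget S).mapCone c) → (∀ i, IsAffine (D.obj i).left) → IsAffine c.pt.left →
      ∀ (x : (AlgSp.yon S).obj c.pt ⟶ X.obj) (i : I) (y : (AlgSp.yon S).obj (D.obj i) ⟶ Y.obj),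
        x ≫ f.hom = (AlgSp.yon S).map (c.π.app i) ≫ y →
        ∃ (i' : I) (φ : i' ⟶ i) (x' : (AlgSp.yon S).obj (D.obj i') ⟶ X.obj),
          (AlgSp.yon S).map (c.π.app i') ≫ x' = x ∧ x' ≫ f.hom = (AlgSp.yon S).map (D.map φ) ≫ y) :
    AlgSp.LocP @LocallyOfFinitePresentation f.hom := by
  intro U V a b g ha hb w
  refine locallyOfFinitePresentation_of_surj g fun I _ _ D c hs u i v huv => ?_
  obtain ⟨hc⟩ := hs.lim
  obtain ⟨k, φ, x', hx', hxf⟩ := h D c hc hs.aff hs.affpt ((AlgSp.yon S).map u ≫ a) i ((AlgSp.yon S).map v ≫ b) (by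
    rw [Category.assoc, w, ← Category.assoc, ← Category.assoc, ← Functor.map_comp, ← Functor.map_comp, huv])
  let P := pullback f.hom b
  let a₀ : (AlgSp.yon S).obj U ⟶ P := pullback.lift a ((AlgSp.yon S).map g) w
  let t : (AlgSp.yon S).obj (D.obj k) ⟶ P := pullback.lift x' ((AlgSp.yon S).map (D.map φ ≫ v))
    (by rw [hxf, Functor.map_comp, Category.assoc])
  -- the base change of the chart
  have hap : a₀ ≫ pullback.fst f.hom b = a := pullback.lift_fst _ _ _
  have ha₀ : AlgSp.RepWith @Etale a₀ := Groth.Agent.AlgSpLib.repWith_etale_of_comp a₀ (pullback.fst f.hom b)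
    (by rw [hap]; exact ha) (Groth.Agent.AlgSpLib.repWith_fst f.hom hb)
  let E := ha₀.rep.pullback t
  let E₁ : E ⟶ U := ha₀.rep.fst' t
  let E₂ : E ⟶ D.obj k := ha₀.rep.snd t
  have sqE : IsPullback ((AlgSp.yon S).map E₁) ((AlgSp.yon S).map E₂) a₀ t := ha₀.rep.isPullback' t
  have : Etale E₂.left := ha₀.property_snd t
  have hu : (AlgSp.yon S).map u ≫ a₀ = (AlgSp.yon S).map (c.π.app k) ≫ t := by
    apply pullback.hom_ext
    · simp only [a₀, t, Category.assoc, pullback.lift_fst]
      exact hx'.symm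
    · simp only [a₀, t, Category.assoc, pullback.lift_snd]
      rw [← Functor.map_comp, ← Functor.map_comp, huv, ← Category.assoc, c.w]
  obtain ⟨s, hs'⟩ := (AlgSp.yon S).map_surjective (sqE.lift _ _ hu)
  have hs₁ : s ≫ E₁ = u := (AlgSp.yon S).map_injective (by rw [Functor.map_comp, hs', sqE.lift_fst])
  have hs₂ : s ≫ E₂ = c.π.app k := (AlgSp.yon S).map_injective (by rw [Functor.map_comp, hs', sqE.lift_snd])
  obtain ⟨k', φ', z, hz, hzs⟩ := exists_stage_over hs E₂ (i := k) (𝟙 _) s (by rw [hs₂, Category.comp_id])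
  refine ⟨k', φ' ≫ φ, z ≫ E₁, ?_, by rw [← Category.assoc, hzs, hs₁]⟩
  have hg' : E₁ ≫ g = E₂ ≫ D.map φ ≫ v := (AlgSp.yon S).map_injective (by
    have := congrArg (· ≫ pullback.snd f.hom b) sqE.w
    simp only [a₀, t, Category.assoc, pullback.lift_snd] at this
    rw [Functor.map_comp, Functor.map_comp, this])
  rw [Category.assoc, hg', ← Category.assoc, hz, Category.comp_id, ← Category.assoc, ← D.map_comp]

end Groth.Agent.S10031
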