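import Groth.Statements.S10024
import Groth.Agent.LimPresLib.Space
import Groth.Agent.S10031
-- import your own Groth.Agent.* helpers here

set_option autoImplicit false
universe u
open CategoryTheory CategoryTheory.Limits AlgebraicGeometry
open AlgSp

set_option backward.isDefEq.respectTransparency false
set_option backward.isDefEq.respectTransparency.types false

open Groth.Agent.LimPresLib

namespace Groth.Agent.S10024

/-- A morphism `f : X ⟶ Y` of algebraic spaces over `S` is locally of finite presentation if and only if
it is limit preserving as a transformation of functors (relatively limit preserving: every fibre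
functor over a scheme turns directed limits of affine schemes into colimits). -/
theorem result (S : Scheme.{u}) {X Y : AlgSp.Space S} (f : X ⟶ Y) :
    AlgSp.LocP @LocallyOfFinitePresentation f.hom ↔ AlgSp.IsRelLimitPreserving f.hom.hom := by
  rw [Groth.Agent.LimPresLib.isRelLimitPreserving_iff]
  refine ⟨fun hf => ⟨injLP_of_lfp X.property Y.property f.hom hf, surjLP_of_lfp X.property Y.property f.hom hf⟩,
    fun hf => Groth.Agent.S10031.result S f fun I _ _ D c hc hD hT x i y hxy => ?_⟩
  obtain ⟨k, φ, z, hz, hzx⟩ := hf.2 D c ⟨⟨hc⟩, hD, hT⟩ i (el y) (el x) ((app_el f.hom x).trans ((congrArg el hxy).trans (map_el _ y).symm))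
  obtain ⟨z, rfl⟩ := el.surjective z
  refine ⟨k, φ, z, el.injective ((map_el _ z).symm.trans hzx), el.injective ?_⟩
  rw [← app_el, hz, map_el]

end Groth.Agent.S10024
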