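import Groth.Statements.S10028
import Groth.Agent.LimPresLib.Point
import Groth.Agent.LimPresLib.Sheafify
-- import your own Groth.Agent.* helpers here

set_option autoImplicit false
universe u
open CategoryTheory CategoryTheory.Limits AlgebraicGeometry
open AlgSp

set_option backward.isDefEq.respectTransparency false
set_option backward.isDefEq.respectTransparency.types false

open Groth.Agent.LimPresLib
open Groth.Agent.AlgSpPts (map_map' app_map')

namespace Groth.Agent.S10028

/-- If a presheaf of sets `F` on schemes over `S` is limit preserving, then so is (the underlying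
presheaf of) its fppf sheafification. -/
theorem result (S : Scheme.{u}) (F : AlgSp.PSp S) (hF : AlgSp.IsLimitPreserving F) :
    AlgSp.IsLimitPreserving ((presheafToSheaf (AlgSp.J S) (Type (u + 1))).obj F).obj := by
  let η := toSheafify (AlgSp.J S) F
  let F' : AlgSp.PSp S := ((presheafToSheaf (AlgSp.J S) (Type (u + 1))).obj F).obj
  have hcomm : η ≫ toPt F' = toPt F ≫ 𝟙 (pt S) := rfl
  have hF' : Presheaf.IsSheaf (AlgSp.J S) F' := ((presheafToSheaf (AlgSp.J S) (Type (u + 1))).obj F).property
  exact isLimitPreserving_of (injLP_sheafify hcomm hF' (injLP_toPt hF))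
    (surjLP_sheafify hcomm hF' isSheaf_pt (injLP_toPt hF) (surjLP_toPt hF))

end Groth.Agent.S10028
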