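import Groth.Statements.S10029
import Groth.Agent.LimPresLib.Point
import Groth.Agent.LimPresLib.Sheafify
-- import your own Groth.Agent.* helpers here

set_option autoImplicit false
universe u
open CategoryTheory CategoryTheory.Limits AlgebraicGeometry
open AlgSp

set_option backward.isDefEq.respectTransparency false
set_option backward.isDefEq.respectTransparency.types false

open Groth.Agent.LimPresLib
open Groth.Agent.AlgSpPts (map_map' app_map')

namespace Groth.Agent.S10029

/-- If `a : F ⟶ G` is a relatively limit preserving transformation of presheaves of sets on schemes over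
`S`, then the induced morphism of fppf sheafifications is relatively limit preserving. -/
theorem result (S : Scheme.{u}) {F G : AlgSp.PSp S} (a : F ⟶ G)
    (ha : AlgSp.IsRelLimitPreserving a) :
    AlgSp.IsRelLimitPreserving ((presheafToSheaf (AlgSp.J S) (Type (u + 1))).map a).hom := by
  rw [Groth.Agent.LimPresLib.isRelLimitPreserving_iff] at ha ⊢
  let η := toSheafify (AlgSp.J S) F
  let θ := toSheafify (AlgSp.J S) G
  let a' := ((presheafToSheaf (AlgSp.J S) (Type (u + 1))).map a).hom
  have hcomm : η ≫ a' = a ≫ θ := (toSheafify_naturality (AlgSp.J S) a).symm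
  exact ⟨injLP_sheafify hcomm ((presheafToSheaf (AlgSp.J S) (Type (u + 1))).obj F).property ha.1,
    surjLP_sheafify hcomm ((presheafToSheaf (AlgSp.J S) (Type (u + 1))).obj F).property
      ((presheafToSheaf (AlgSp.J S) (Type (u + 1))).obj G).property ha.1 ha.2⟩

end Groth.Agent.S10029
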