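import Groth.Statements.S10030
import Groth.Agent.LimPresLib.Point
import Groth.Agent.LimPresLib.Sheafify
-- import your own Groth.Agent.* helpers here

set_option autoImplicit false
universe u
open CategoryTheory CategoryTheory.Limits AlgebraicGeometry
open AlgSp

set_option backward.isDefEq.respectTransparency false
set_option backward.isDefEq.respectTransparency.types false

open Groth.Agent.LimPresLib
open Groth.Agent.AlgSpPts (map_map' app_map')

namespace Groth.Agent.S10030

/-- Let `F` be an fppf sheaf of sets on schemes over `S` and `{U_j ⟶ S}` an fppf covering (flat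
morphisms locally of finite presentation, jointly surjective). If the restriction of `F` to schemes
over each `U_j` is limit preserving, then `F` is limit preserving. -/
theorem result (S : Scheme.{u}) (F : AlgSp.PSp S)
    (hF : Presheaf.IsSheaf (AlgSp.J S) F) {ι : Type u} (U : ι → Over S)
    (hfl : ∀ j, Flat (U j).hom) (hfp : ∀ j, LocallyOfFinitePresentation (U j).hom)
    (hsurj : ∀ s : ↥S, ∃ (j : ι) (x : ↥(U j).left), (U j).hom.base x = s)
    (hloc : ∀ j, AlgSp.IsLimitPreserving (S := (U j).left) ((Over.map (U j).hom).op ⋙ F)) :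
    AlgSp.IsLimitPreserving F := by
  have hcov : ∀ (T : Over S), IsAffine T.left → ∃ (n : ℕ) (W : Fin n → Over S) (p : ∀ m, W m ⟶ T),
      IsCov W p ∧ ∀ m, ∃ j, Nonempty (W m ⟶ U j) := by
    intro T hT
    let V : ι → Over S := fun j => Over.mk (pullback.fst T.hom (U j).hom ≫ T.hom)
    let v : ∀ j, V j ⟶ T := fun j => Over.homMk (pullback.fst T.hom (U j).hom) rfl
    let w : ∀ j, V j ⟶ U j := fun j => Over.homMk (pullback.snd T.hom (U j).hom) pullback.condition.symm
    have hvf : ∀ j, Flat (v j).left := fun j => MorphismProperty.pullback_fst (P := @Flat) _ _ (hfl j)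
    have hvp : ∀ j, LocallyOfFinitePresentation (v j).left := fun j =>
      MorphismProperty.pullback_fst (P := @LocallyOfFinitePresentation) _ _ (hfp j)
    obtain ⟨n, W, idx, k, hW, hk, hs⟩ := Groth.Agent.AlgSpLib.exists_affine_refinement V v
      (fun j => by have := hvf j; have := hvp j; exact (v j).left.isOpenMap) (fun z => by
        obtain ⟨j, x, hx⟩ := hsurj (T.hom z)
        obtain ⟨y, hy, -⟩ := Scheme.exists_preimage_of_isPullback (IsPullback.of_hasPullback T.hom (U j).hom) z x hx.symm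
        exact ⟨j, y, hy⟩)
    refine ⟨n, W, fun m => k m ≫ v (idx m), ⟨hW, fun m => ?_, fun m => ?_, hs⟩, fun m => ⟨idx m, ⟨k m ≫ w _⟩⟩⟩
    · have := hk m
      have := hvf (idx m)
      rw [Over.comp_left]
      infer_instance
    · have := hk m
      have := hvp (idx m)
      rw [Over.comp_left]
      infer_instance
  have hsep := sep_of_isSheaf hF
  have hinj : InjLP (toPt F) := by
    intro I _ _ D c h i x x' _ hxx
    obtain ⟨n, W, p, hp, hU⟩ := hcov (D.obj i) (h.aff i)
    obtain ⟨V, l, e, he, hsq⟩ := exists_bc h hp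
    refine injPatch hsep h hp x x' fun m => ?_
    obtain ⟨j, ⟨g⟩⟩ := hU m
    have := hp.aff m
    obtain ⟨h₁, -⟩ := exists_stage_over_cover (hloc j) (bcD D (p m)) (bcC D (p m) (hsq m)) (isSys_bc D (p m) (hsq m) h)
      (fun k => bcFst D (p m) k ≫ g) (fun f => map_bcFst_assoc D (p m) f g)
    let k₁ : CategoryTheory.Over i := CategoryTheory.Over.mk (𝟙 i)
    have hw : bcπ D (p m) (hsq m) k₁ ≫ bcFst D (p m) k₁ ≫ p m = e m ≫ c.π.app i := by
      rw [bcπ_fst_assoc]; exact Over.OverMorphism.ext (hsq m).w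
    obtain ⟨k, φ, hk⟩ := h₁ k₁ (F.map (bcFst D (p m) k₁ ≫ p m).op x) (F.map (bcFst D (p m) k₁ ≫ p m).op x') (by
      refine (map_map' F (bcπ D (p m) (hsq m) k₁) _ x).trans (Eq.trans ?_ (map_map' F (bcπ D (p m) (hsq m) k₁) _ x').symm)
      rw [hw]
      exact (map_map' F (e m) (c.π.app i) x).symm.trans ((congrArg _ hxx).trans (map_map' F (e m) (c.π.app i) x')))
    refine ⟨k, ?_⟩
    rw [map_map', map_map', map_bcFst_assoc] at hk
    exact hk
  refine isLimitPreserving_of hinj fun I _ _ D c h i y x _ => ?_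
  obtain ⟨n, W, p, hp, hU⟩ := hcov (D.obj i) (h.aff i)
  obtain ⟨V, l, e, he, hsq⟩ := exists_bc h hp
  refine surjPatch (toPt F) hF sep_pt hinj h hp he hsq y x fun m => ?_
  obtain ⟨j, ⟨g⟩⟩ := hU m
  have := hp.aff m
  obtain ⟨-, h₂⟩ := exists_stage_over_cover (hloc j) (bcD D (p m)) (bcC D (p m) (hsq m)) (isSys_bc D (p m) (hsq m) h)
    (fun k => bcFst D (p m) k ≫ g) (fun f => map_bcFst_assoc D (p m) f g)
  obtain ⟨k, z, hz⟩ := h₂ (F.map (e m).op x)
  exact ⟨k, z, rfl, hz⟩

end Groth.Agent.S10030
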