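import Groth.Statements.S10051
import Groth.Agent.AlgSpBase.LocalRep

set_option autoImplicit false
universe u
open CategoryTheory CategoryTheory.Limits AlgebraicGeometry
open AlgSp

set_option backward.isDefEq.respectTransparency false
set_option backward.isDefEq.respectTransparency.types false

namespace Groth.Agent.S10051

/-- Let `X` be an algebraic space whose structure morphism to the scheme `S` is quasi-compact and
quasi-separated. If for every `x ∈ |X|` with image `s ∈ S` the base change `X ×_S Spec(O_{S,s})` is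
a scheme, then `X` is a scheme. -/
theorem result (S : Scheme.{u}) (X : AlgSp.Space S)
    (q : X.obj ⟶ (AlgSp.yon S).obj (Over.mk (𝟙 S))) (hqc : AlgSp.IsQuasiCompactMor q) (hqs : AlgSp.IsQuasiSeparatedMor q)
    (h : ∀ x : AlgSp.Points X.obj, ∀ (P : AlgSp.Sp S) (fst : P ⟶ X.obj)
      (snd : P ⟶ (AlgSp.yon S).obj (Over.mk (S.fromSpecStalk ((AlgSp.Points.schemeHomeo (Over.mk (𝟙 S))).symm (AlgSp.Points.map q x))))),
      IsPullback fst snd q ((AlgSp.yon S).map (Over.homMk (S.fromSpecStalk _))) → P.obj.IsRepresentable) :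
    X.obj.obj.IsRepresentable := by
  classical
  let ht := Groth.Agent.AlgSpPts.isTerminalYon S
  have hq : q = ht.from X.obj := ht.hom_ext _ _
  subst hq
  let ι := {O : S.Opens // (X.obj ⨯ (yon S).obj (Over.mk O.ι)).obj.IsRepresentable}
  have hT : ∀ O : ι, ∃ T : Over S, Nonempty ((yon S).obj T ≅ X.obj ⨯ (yon S).obj (Over.mk O.1.ι)) := fun O => by
    obtain ⟨T, ⟨r⟩⟩ := O.2.has_representation
    exact ⟨T, ⟨isoOfRepresentableBy r⟩⟩
  choose T hT using hT
  have hj : ∀ O : ι, RepWith @IsOpenImmersion ((hT O).some.hom ≫ prod.fst) := fun O =>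
    Groth.Agent.AlgSpLib.repWith_comp (Groth.Agent.AlgSpLib.repWith_of_isIso _ _)
      (Groth.Agent.AlgSpLib.repWith_of_isPullback
        (Groth.Agent.AlgSpBase.isPullback_of_terminal ht (ht.from X.obj)
          ((yon S).map (Over.homMk O.1.ι (Category.comp_id _) : Over.mk O.1.ι ⟶ Over.mk (𝟙 S)))).flip
        ((repWith_yon_map_iff _ _).2 (inferInstanceAs (IsOpenImmersion O.1.ι))))
  obtain ⟨Q, ⟨e⟩, -⟩ := Groth.Agent.AlgSpDec.exists_iso_of_open_cover T (fun O => (hT O).some.hom ≫ prod.fst) hj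
    fun x => by
      let s : S := (AlgSp.Points.schemeHomeo (Over.mk (𝟙 S))).symm (AlgSp.Points.map (ht.from X.obj) x)
      obtain ⟨O, hsO, hO⟩ := Groth.Agent.AlgSpBase.exists_open_rep X.property hqc hqs s
        (h x _ _ _ (Groth.Agent.AlgSpBase.isPullback_of_terminal ht (ht.from X.obj) _))
      have hx : Points.map (ht.from X.obj) x = Points.map
          ((yon S).map (Over.homMk O.ι (Category.comp_id _) : Over.mk O.ι ⟶ Over.mk (𝟙 S)))
          (Points.schemeHomeo (Over.mk O.ι) ⟨s, hsO⟩) := by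
        rw [Points.map_yon_map_apply]
        exact ((Points.schemeHomeo (Over.mk (𝟙 S))).apply_symm_apply _).symm
      obtain ⟨z, hz, -⟩ := Groth.Agent.AlgSpLib.exists_point_of_isPullback
        (Groth.Agent.AlgSpBase.isPullback_of_terminal ht (ht.from X.obj) _) hx
      obtain ⟨v, hv⟩ := (Points.schemeHomeo (T ⟨O, hO⟩)).surjective (Points.map (hT ⟨O, hO⟩).some.inv z)
      refine ⟨⟨O, hO⟩, v, ?_⟩
      rw [Points.ofPt_eq_map_ofScheme, show Points.ofScheme _ v = Points.map (hT ⟨O, hO⟩).some.inv z from hv,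
        ← Points.map_comp, Iso.inv_hom_id_assoc, hz]
  exact Groth.Agent.AlgSpDec.isRepresentable_of_iso e

end Groth.Agent.S10051
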