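import Groth.Statements.S10077
import Groth.Agent.LimPresLib.SpaceLim
import Groth.Agent.S10031
-- import your own Groth.Agent.* helpers here

set_option autoImplicit false
universe u
open CategoryTheory CategoryTheory.Limits AlgebraicGeometry
open AlgSp

set_option backward.isDefEq.respectTransparency false
set_option backward.isDefEq.respectTransparency.types false

open Groth.Agent.LimPresLib

namespace Groth.Agent.S10077

/-- The cartesian square, elementwise. -/
theorem isPullback_iff_elem {C : Type*} [Category.{u + 1} C] {I : Type u} [SmallCategory I] [IsCofiltered I]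
    (D : I ⥤ C) (c : Cone D) {X Y : C} (f : X ⟶ Y) :
    IsPullback (colimMap (Functor.whiskerLeft D.op (yoneda.map f)))
        (colimit.desc (D.op ⋙ yoneda.obj X) ((yoneda.obj X).mapCocone c.op))
        (colimit.desc (D.op ⋙ yoneda.obj Y) ((yoneda.obj Y).mapCocone c.op))
        ((yoneda.map f).app (Opposite.op c.pt)) ↔
      (∀ (i : I) (x x' : D.obj i ⟶ X), x ≫ f = x' ≫ f → c.π.app i ≫ x = c.π.app i ≫ x' →
        ∃ (k : I) (φ : k ⟶ i), D.map φ ≫ x = D.map φ ≫ x') ∧
      ∀ (i : I) (y : D.obj i ⟶ Y) (x : c.pt ⟶ X), x ≫ f = c.π.app i ≫ y →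
        ∃ (k : I) (φ : k ⟶ i) (z : D.obj k ⟶ X), z ≫ f = D.map φ ≫ y ∧ c.π.app k ≫ z = x := by
  have e1 : ∀ (i : I) (x : D.obj i ⟶ X),
      colimMap (Functor.whiskerLeft D.op (yoneda.map f)) (colimit.ι (D.op ⋙ yoneda.obj X) (Opposite.op i) x) =
        colimit.ι (D.op ⋙ yoneda.obj Y) (Opposite.op i) (x ≫ f : D.obj i ⟶ Y) := fun i x =>
    congrArg (fun k : (D.op ⋙ yoneda.obj X).obj (Opposite.op i) ⟶ _ => k x)
      (ι_colimMap (Functor.whiskerLeft D.op (yoneda.map f)) (Opposite.op i))
  have e2 : ∀ (Z : C) (i : I) (x : D.obj i ⟶ Z),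
      colimit.desc (D.op ⋙ yoneda.obj Z) ((yoneda.obj Z).mapCocone c.op) (colimit.ι (D.op ⋙ yoneda.obj Z) (Opposite.op i) x) =
        c.π.app i ≫ x :=
    fun Z i x => congrArg (fun k : (D.op ⋙ yoneda.obj Z).obj (Opposite.op i) ⟶ _ => k x)
      (colimit.ι_desc ((yoneda.obj Z).mapCocone c.op) (Opposite.op i))
  rw [Types.isPullback_iff]
  constructor
  · rintro ⟨-, hi, hs⟩
    refine ⟨fun i x x' hx hxx => ?_, fun i y x hxy => ?_⟩
    · have := hi (colimit.ι (D.op ⋙ yoneda.obj X) (Opposite.op i) x) (colimit.ι (D.op ⋙ yoneda.obj X) (Opposite.op i) x')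
        ⟨(e1 i x).trans ((congrArg _ hx).trans (e1 i x').symm), (e2 X i x).trans (hxx.trans (e2 X i x').symm)⟩
      obtain ⟨k, φ, hk⟩ := (Types.FilteredColimit.isColimit_eq_iff' (colimit.isColimit (D.op ⋙ yoneda.obj X)) x x').1 this
      exact ⟨k.unop, φ.unop, hk⟩
    · obtain ⟨w, hw, hwx⟩ := hs (colimit.ι (D.op ⋙ yoneda.obj Y) (Opposite.op i) y) x ((e2 Y i y).trans hxy.symm)
      obtain ⟨j, z, rfl⟩ := Types.jointly_surjective' w
      obtain ⟨k, φ, ψ, hk⟩ := (Types.FilteredColimit.colimit_eq_iff _).1 ((e1 j.unop z).symm.trans hw)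
      refine ⟨k.unop, ψ.unop, D.map φ.unop ≫ (z : D.obj j.unop ⟶ X), ?_, ?_⟩
      · exact (Category.assoc _ _ _).trans hk
      · rw [← Category.assoc, c.w]
        exact (e2 X j.unop z).symm.trans hwx
  · rintro ⟨hi, hs⟩
    refine ⟨?_, ?_, ?_⟩
    · refine ConcreteCategory.hom_ext _ _ fun w => ?_
      obtain ⟨i, x, rfl⟩ := Types.jointly_surjective' w
      rw [ConcreteCategory.comp_apply, ConcreteCategory.comp_apply]
      erw [e1 i.unop x, e2 X i.unop x, e2 Y i.unop]
      exact (Category.assoc _ _ _).symm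
    · rintro w₁ w₂ ⟨h1, h2⟩
      obtain ⟨i, x, rfl⟩ := Types.jointly_surjective' w₁
      obtain ⟨j, x', rfl⟩ := Types.jointly_surjective' w₂
      erw [e1 i.unop x, e1 j.unop x'] at h1
      obtain ⟨k, φ, ψ, hk⟩ := (Types.FilteredColimit.colimit_eq_iff _).1 h1
      obtain ⟨l, e, he⟩ := hi k.unop (D.map φ.unop ≫ (x : D.obj i.unop ⟶ X)) (D.map ψ.unop ≫ (x' : D.obj j.unop ⟶ X))
        ((Category.assoc _ _ _).trans (hk.trans (Category.assoc _ _ _).symm)) (by
          rw [← Category.assoc, ← Category.assoc, c.w, c.w]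
          exact (e2 X i.unop x).symm.trans (h2.trans (e2 X j.unop x')))
      refine (Types.FilteredColimit.colimit_eq_iff _).2 ⟨Opposite.op l, φ ≫ e.op, ψ ≫ e.op, ?_⟩
      exact (Functor.map_comp_apply (D.op ⋙ yoneda.obj X) φ e.op x).trans
        (he.trans (Functor.map_comp_apply (D.op ⋙ yoneda.obj X) ψ e.op x').symm)
    · intro w x hw
      obtain ⟨i, y, rfl⟩ := Types.jointly_surjective' w
      erw [e2 Y i.unop y] at hw
      obtain ⟨k, φ, z, hz, hzx⟩ := hs i.unop y x hw.symm
      refine ⟨colimit.ι (D.op ⋙ yoneda.obj X) (Opposite.op k) z, ?_, (e2 X k z).trans hzx⟩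
      refine (e1 k z).trans ((congrArg _ hz).trans ?_)
      exact congrArg (fun q : (D.op ⋙ yoneda.obj Y).obj i ⟶ _ => q y) (colimit.w (D.op ⋙ yoneda.obj Y) φ.op)


/-- A morphism `f : X ⟶ Y` of algebraic spaces over `S` is locally of finite presentation if and only if
for every directed limit `T = lim T_i` of algebraic spaces over `S`, each quasi-compact and
quasi-separated over `S`, with affine transition maps, the square formed by `colim Mor(T_i, X) →
Mor(T, X)`, `colim Mor(T_i, Y) → Mor(T, Y)` and composition with `f` is cartesian in sets. (The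
published statement allows any base scheme and uses absolute quasi-separatedness; this row assumes
the base quasi-separated, over which quasi-separatedness relative to the base is the absolute
notion.) -/
theorem result (S : Scheme.{u}) [QuasiSeparatedSpace S]
    {X Y : AlgSp.Space S} (f : X ⟶ Y) :
    AlgSp.LocP @LocallyOfFinitePresentation f.hom ↔
      ∀ ⦃I : Type u⦄ [SmallCategory I] [IsCofiltered I] (D : I ⥤ AlgSp.Sp S),
        (∀ i, AlgSp.IsAlgSpace (D.obj i)) → (∀ (i j : I) (φ : i ⟶ j), AlgSp.IsAffineMor (D.map φ)) →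
        (∀ i, AlgSp.IsQuasiCompactSp (D.obj i)) → (∀ i, AlgSp.IsQuasiSeparatedSp (D.obj i)) →
        ∀ (c : Cone D) (_ : IsLimit c),
          IsPullback (colimMap (Functor.whiskerLeft D.op (yoneda.map f.hom)))
            (colimit.desc (D.op ⋙ yoneda.obj X.obj) ((yoneda.obj X.obj).mapCocone c.op))
            (colimit.desc (D.op ⋙ yoneda.obj Y.obj) ((yoneda.obj Y.obj).mapCocone c.op))
            ((yoneda.map f.hom).app (Opposite.op c.pt)) := by
  constructor
  · intro hf I _ _ D hD hDa hqc hqs c hc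
    rw [isPullback_iff_elem]
    exact ⟨fun i x x' hx hxx => exists_sp_hom_eq_stage X.property Y.property hf hDa hqc hc x x' hx hxx,
      fun i y x hxy => exists_sp_hom_stage X.property Y.property hf hDa hqc hqs hc y x hxy⟩
  · intro H
    refine Groth.Agent.S10031.result S f fun I _ _ D c hc hD hT x i y hxy => ?_
    have := IsCofiltered.isConnected I
    have hcO : IsLimit c := isLimitOfReflects (CategoryTheory.Over.forget S) hc
    obtain ⟨-, hs⟩ := (isPullback_iff_elem (D ⋙ AlgSp.yon S) ((AlgSp.yon S).mapCone c) f.hom).1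
      (H (D ⋙ AlgSp.yon S) (fun k => AlgSp.IsAlgSpace.yon_obj _)
        (fun k l φ => Groth.Agent.AlgSpDec.isAffineMor_of_repWith (P := @IsAffineHom) le_rfl
          ((AlgSp.repWith_yon_map_iff _ _).2 (have := hD k; have := hD l; isAffineHom_of_isAffine _)))
        (fun k => (Groth.Agent.AlgSpPts.isQuasiCompactSp_yon_iff _).2 (have := hD k; inferInstance))
        (fun k => have := hD k; isQuasiSeparatedSp_yon_affine _)
        ((AlgSp.yon S).mapCone c) (isLimitOfPreserves (AlgSp.yon S) hcO))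
    obtain ⟨k, φ, z, hz, hzx⟩ := hs i y x hxy
    exact ⟨k, φ, z, hzx, hz⟩

end Groth.Agent.S10077
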