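import Groth.Statements.S10079
import Groth.Agent.SubExt.Union
-- import your own Groth.Agent.* helpers here

set_option autoImplicit false
set_option backward.isDefEq.respectTransparency false
set_option backward.isDefEq.respectTransparency.types false
universe u
open CategoryTheory CategoryTheory.Limits AlgebraicGeometry Opposite
open AlgSp

namespace Groth.Agent.S10079

set_option maxHeartbeats 1600000
set_option linter.style.haveILetI false

/-- Let `S` be a quasi-separated scheme, `X` an algebraic space over `S`, quasi-compact and
quasi-separated over `S`, and `M` a quasi-coherent `O_X`-module on the small etale site of `X`. Then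
the subobjects of `M` whose underlying module is quasi-coherent of finite type form a directed
(filtered, nonempty) partial order, and the cocone of their inclusion arrows exhibits `M` as the
colimit of these submodules. (The published statement allows any base scheme and uses absolute
quasi-separatedness; this row assumes the base quasi-separated, over which quasi-separatedness
relative to the base is the absolute notion.) -/
theorem result {S : Scheme.{u}} [QuasiSeparatedSpace ↥S]
    (X : AlgSp.Space S) (hqc : AlgSp.IsQuasiCompactSp X.obj) (hqs : AlgSp.IsQuasiSeparatedSp X.obj)
    (M : AlgSp.ModEt X.obj) [M.IsQuasicoherent]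
    (P : ObjectProperty (Subobject M))
    (hP : P = fun N => (Subobject.underlying.obj N).IsQuasicoherent ∧ (Subobject.underlying.obj N).IsFiniteType)
    (ι : P.ι ⋙ Subobject.underlying ⟶ (Functor.const P.FullSubcategory).obj M)
    (hι : ∀ N : P.FullSubcategory, ι.app N = N.obj.arrow) :
    IsFiltered P.FullSubcategory ∧ Nonempty (IsColimit (Cocone.mk M ι)) := by
  subst hP
  have hF : IsFiltered (SubExt.QF M).FullSubcategory := SubExt.isFiltered_qf X.property hqc hqs
  refine ⟨hF, ?_⟩
  haveI := hF
  haveI : ∀ N : (SubExt.QF M).FullSubcategory, Mono (ι.app N) := fun N => by
    rw [hι N]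
    exact inferInstanceAs (Mono N.obj.arrow)
  refine SubExt.nonempty_isColimit_of_union _ ι fun E hE m => ?_
  have h := SubExt.exists_subobject_containing (M := M) X.property hqc hqs
    (fun _ : Fin 1 => E) (fun _ => hE) (fun _ => m)
  have hm := h.choose_spec.2 0
  refine ⟨⟨h.choose, h.choose_spec.1⟩, LinearMap.mem_range.1 hm |>.choose, ?_⟩
  rw [hι]
  exact (LinearMap.mem_range.1 hm).choose_spec

end Groth.Agent.S10079
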