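import Groth.Statements.S10085
import Groth.Agent.QCart.EtTorsion
import Groth.Agent.AlgSpDec.SchDenseSp
import Groth.Agent.AlgSpPts.Misc

set_option autoImplicit false
universe u
open CategoryTheory CategoryTheory.Limits AlgebraicGeometry Opposite
open AlgSp

namespace Groth.Agent.S10085

open Groth.Agent.QCart Groth.Agent.AlgSpDec

set_option backward.isDefEq.respectTransparency false
set_option backward.isDefEq.respectTransparency.types false
set_option maxHeartbeats 2000000

/-- The inverse image of the closed set on an affine chart is cut out by finitely many functions. -/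
theorem exists_ideal {S : Scheme.{u}} {X U : AlgSp.Space S} (j : U ⟶ X)
    (hj : AlgSp.RepWith @IsOpenImmersion j.hom) (hjqc : AlgSp.IsQuasiCompactMor j.hom)
    (T : Set (AlgSp.Points X.obj)) (hT : T = (Set.range (AlgSp.Points.map j.hom))ᶜ)
    (W : AlgSp.EtOver X.obj) (hW : IsAffine W.obj.left.left) :
    ∃ I : Ideal Γ(W.obj.left.left, ⊤), I.FG ∧
      W.obj.left.left.zeroLocus (U := ⊤) (I : Set Γ(W.obj.left.left, ⊤)) =
        {w | AlgSp.Points.ofPt W.obj.hom w ∈ T} := by
  obtain ⟨fst, sq⟩ := SchDenseSp.exists_isPullback X.property hj W.obj.hom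
  have hc := hjqc (IsAlgSpace.yon_obj W.obj.left)
    ((AlgSpPts.isQuasiCompactSp_yon_iff W.obj.left).2 inferInstance) W.obj.hom fst _ sq
  have : CompactSpace (SchDenseSp.pre X.property hj W.obj.hom).toScheme :=
    (AlgSpPts.isQuasiCompactSp_yon_iff _).1 hc
  have hcc : IsCompact (SchDenseSp.pre X.property hj W.obj.hom : Set W.obj.left.left) := by
    have h := isCompact_range (SchDenseSp.pre X.property hj W.obj.hom).ι.continuous
    rwa [Scheme.Opens.range_ι] at h
  obtain ⟨I, hI, he⟩ := exists_fg_zeroLocus_eq _ hcc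
  exact ⟨I, hI, he.trans (by rw [hT]; rfl)⟩

/-- Let `X` be an algebraic space over a scheme `S`, `j : U ⟶ X` an open subspace whose inclusion is
quasi-compact, `T` the closed subset of points of `X` complementary to the image of `U`, and `F` a
quasi-coherent `O_X`-module on the small etale site of `X`. Then, first, on every affine object `W ⟶
X` of the site the inverse image of `T` is the zero locus of a finitely generated ideal of the
global functions on `W`; second, the subsheaf of sections of `F` supported on `T` is a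
quasi-coherent submodule: there is a monomorphism `F' ⟶ F` with `F'` quasi-coherent whose image over
every affine object `W` is the set of sections `x` of `F` over `W` whose support (the zero locus of
the annihilator ideal of `x` in the global functions on `W`) lies in the inverse image of `T`, and
is also, for any finitely generated ideal `I` of the functions on `W` with zero locus the inverse
image of `T`, the set of sections of `F` over `W` annihilated by some power of `I`. -/
theorem result {S : Scheme.{u}} (X : AlgSp.Space S)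
    (U : AlgSp.Space S) (j : U ⟶ X) (hj : AlgSp.RepWith @IsOpenImmersion j.hom)
    (hjqc : AlgSp.IsQuasiCompactMor j.hom)
    (T : Set (AlgSp.Points X.obj)) (hT : T = (Set.range (AlgSp.Points.map j.hom))ᶜ)
    (F : AlgSp.ModEt X.obj) [F.IsQuasicoherent] :
    (∀ (W : AlgSp.EtOver X.obj), IsAffine W.obj.left.left →
      ∃ I : Ideal Γ(W.obj.left.left, ⊤), I.FG ∧
        W.obj.left.left.zeroLocus (U := ⊤) (I : Set Γ(W.obj.left.left, ⊤)) =
          {w | AlgSp.Points.ofPt W.obj.hom w ∈ T}) ∧
    ∃ (F' : AlgSp.ModEt X.obj) (ι : F' ⟶ F), Mono ι ∧ F'.IsQuasicoherent ∧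
      (∀ (W : AlgSp.EtOver X.obj), IsAffine W.obj.left.left →
        Set.range (ι.val.app (op W)).hom =
          {x : AlgSp.sectModEt F W | W.obj.left.left.zeroLocus (U := ⊤)
              ((AlgSp.annSect x : Ideal Γ(W.obj.left.left, ⊤)) : Set Γ(W.obj.left.left, ⊤)) ⊆
            {w | AlgSp.Points.ofPt W.obj.hom w ∈ T}}) ∧
      ∀ (W : AlgSp.EtOver X.obj), IsAffine W.obj.left.left →
        ∀ I : Ideal Γ(W.obj.left.left, ⊤), I.FG →
          W.obj.left.left.zeroLocus (U := ⊤) (I : Set Γ(W.obj.left.left, ⊤)) =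
            {w | AlgSp.Points.ofPt W.obj.hom w ∈ T} →
          Set.range (ι.val.app (op W)).hom =
            {x : AlgSp.sectModEt F W | ∃ n : ℕ, ∀ a ∈ I ^ n, (AlgSp.upΓ W a) • x = 0} := by
  have hF := (isQuasicoherent_iff X.obj F).1 inferInstance
  have hex := exists_ideal j hj hjqc T hT
  let Tset : ∀ W : AlgSp.EtOver X.obj, Set W.obj.left.left := fun W => {w | AlgSp.Points.ofPt W.obj.hom w ∈ T}
  let supp : ∀ W : AlgSp.EtOver X.obj, Set (AlgSp.sectModEt F W) := fun W =>
    {x | W.obj.left.left.zeroLocus (U := ⊤) ((AlgSp.annSect x : Ideal Γ(W.obj.left.left, ⊤)) :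
      Set Γ(W.obj.left.left, ⊤)) ⊆ Tset W}
  -- the sections supported on the closed set are those killed by a power of an ideal
  have key : ∀ (W : AlgSp.EtOver X.obj), IsAffine W.obj.left.left → ∀ I : Ideal Γ(W.obj.left.left, ⊤), I.FG →
      W.obj.left.left.zeroLocus (U := ⊤) (I : Set Γ(W.obj.left.left, ⊤)) = Tset W →
      ∀ x : AlgSp.sectModEt F W, x ∈ supp W ↔ ∃ n : ℕ, ∀ a ∈ I ^ n, (AlgSp.upΓ W a) • x = 0 := by
    intro W hW I hI hZ x
    refine Iff.trans (show x ∈ supp W ↔ I ≤ (AlgSp.annSect x).radical from ?_) ⟨fun h => ?_, ?_⟩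
    · show _ ⊆ Tset W ↔ _
      rw [← hZ, zeroLocus_subset_iff]
    · obtain ⟨n, hn⟩ := Ideal.exists_pow_le_of_le_radical_of_fg h hI
      exact ⟨n, fun a ha => hn ha⟩
    · rintro ⟨n, hn⟩ a ha
      exact ⟨n, hn _ (Ideal.pow_mem_pow ha n)⟩
  have hpre : ∀ {W W' : AlgSp.EtOver X.obj} (g : W' ⟶ W), g.hom.left.left ⁻¹' Tset W = Tset W' := by
    intro W W' g
    ext w
    show AlgSp.Points.ofPt W.obj.hom (g.hom.left.left w) ∈ T ↔ AlgSp.Points.ofPt W'.obj.hom w ∈ T
    rw [← AlgSpLib.ofPt_comp, AlgSp.EtOver.w g]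
  let A : ∀ W : AlgSp.EtOver X.obj, IsAffine W.obj.left.left →
      Submodule ((AlgSp.OEt X.obj).obj.obj (op W)) ((psh (R := OEt X.obj) F).obj (op W)) := fun W hW =>
    ⨆ n : ℕ, killed F W ((hex W hW).choose ^ n)
  have mem_A : ∀ (W : AlgSp.EtOver X.obj) (hW : IsAffine W.obj.left.left) (x : AlgSp.sectModEt F W),
      x ∈ A W hW ↔ x ∈ supp W := by
    intro W hW x
    rw [key W hW _ (hex W hW).choose_spec.1 (hex W hW).choose_spec.2]
    exact Submodule.mem_iSup_of_directed (fun n : ℕ => killed F W ((hex W hW).choose ^ n)) fun p q =>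
      ⟨max p q, fun y hy a ha => hy a (Ideal.pow_le_pow_right (le_max_left p q) ha),
        fun y hy a ha => hy a (Ideal.pow_le_pow_right (le_max_right p q) ha)⟩
  have hsupp : ∀ {W W' : AlgSp.EtOver X.obj} (hW : IsAffine W.obj.left.left)
      (hW' : IsAffine W'.obj.left.left) (g : W' ⟶ W) (x : AlgSp.sectModEt F W),
      x ∈ supp W → sres (psh (R := OEt X.obj) F) g x ∈ supp W' := by
    intro W W' hW hW' g x hx
    refine le_trans (Scheme.zeroLocus_mono _ (s := ((AlgSp.annSect x).map g.hom.left.left.appTop.hom :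
      Set Γ(W'.obj.left.left, ⊤))) (Ideal.map_le_iff_le_comap.2 fun a ha => ?_)) ?_
    · show AlgSp.upΓ W' (g.hom.left.left.appTop.hom a) • (show sectModEt F W' from _) = 0
      rw [← sres_up_smul F g a x, show AlgSp.upΓ W a • x = 0 from ha, map_zero]
    · rw [zeroLocus_map_appTop, ← hpre g]
      exact Set.preimage_mono hx
  let D : SubData (R := OEt X.obj) F (etBasis X.obj) :=
    { A := A
      res_mem := by
        intro E E' hE hE' g x hx
        exact (mem_A E' hE' _).2 (hsupp hE hE' g x ((mem_A E hE x).1 hx))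
      local_mem := by
        intro E hE c x hx
        obtain ⟨I, hI, hZ⟩ := hex E hE
        have h : ∀ i, ∃ n : ℕ, ∀ a ∈ (I.map (c.m i).hom.left.left.appTop.hom) ^ n,
            (AlgSp.upΓ (c.Z i) a) • (show sectModEt F (c.Z i) from sres (psh (R := OEt X.obj) F) (c.m i) x) = 0 :=
          fun i => (key (c.Z i) (c.aff_Z i) _ (hI.map _) (by rw [zeroLocus_map_appTop, hZ]; exact hpre (c.m i)) _).1
            ((mem_A (c.Z i) (c.aff_Z i) _).1 (hx i))
        choose n hn using h
        refine (mem_A E hE x).2 ((key E hE I hI hZ x).2 ⟨Finset.univ.sup n, fun a ha => ?_⟩)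
        refine eq_zero_of_cover F hE hF c _ fun i => ?_
        rw [sres_up_smul F (c.m i) a x]
        refine hn i _ (Ideal.pow_le_pow_right (Finset.le_sup (Finset.mem_univ i)) ?_)
        rw [← Ideal.map_pow]
        exact Ideal.mem_map_of_mem _ ha }
  refine ⟨hex, D.shf, D.ι, inferInstance, (isQuasicoherent_iff X.obj _).2 (D.isCart hF ?_),
    fun W hW => (D.range_ι hW).trans (Set.ext (mem_A W hW)),
    fun W hW I hI hZ => (D.range_ι hW).trans (Set.ext fun x => (mem_A W hW x).trans (key W hW I hI hZ x))⟩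
  intro E E' hE hE' g z hz
  obtain ⟨I, hI, hZ⟩ := hex E hE
  obtain ⟨n, hn⟩ := (key E' hE' _ (hI.map _) (by rw [zeroLocus_map_appTop, hZ]; exact hpre g) _).1
    ((mem_A E' hE' _).1 hz)
  refine mem_range_killed F hE hE' g hF (Submodule.FG.pow hI n) _
    (fun x hx => (mem_A E hE x).2 ((key E hE I hI hZ x).2 ⟨n, hx⟩)) z fun a ha => hn _ ?_
  rw [← Ideal.map_pow]
  exact Ideal.mem_map_of_mem _ ha

end Groth.Agent.S10085
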