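import Groth.Statements.S1010
import Groth.Agent.PerfD40.Compact
import Groth.Agent.ConsPropLib.FibreLocFree
import Groth.Agent.S12451

set_option autoImplicit false
set_option linter.style.haveILetI false
universe u
open CategoryTheory CategoryTheory.Limits AlgebraicGeometry
attribute [local instance] HasDerivedCategory.standard
open Perf

namespace Groth.Agent.S1010

/-- Let the scheme X be quasi-compact and quasi-separated and E a bounded object of D(O_X) with
quasi-coherent cohomology sheaves. There is an integer n₀ > 0 such that for every finite locally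
free O_X-module F and every n ≥ n₀, every morphism F ⟶ E[n] in D(O_X) (an element of Extⁿ(F, E)) is
zero. -/
theorem result (X : Scheme.{u}) [CompactSpace ↥X] [QuasiSeparatedSpace ↥X]
    (E : DCoh.D X) (hE : DCoh.IsQCohD E) (a b : ℤ) [E.IsGE a] [E.IsLE b] :
    ∃ n₀ : ℤ, 0 < n₀ ∧ ∀ (F : X.Modules), FlatMod.IsFinLocFree F → ∀ n : ℤ, n₀ ≤ n →
      ∀ φ : DCoh.inD X F ⟶ E⟦n⟧, φ = 0 := by
  open Groth.Agent.KFlatLib in
  obtain ⟨c, d, hcd, h⟩ := PerfD40.exists_homBddAt_family
    (fun F : {F : X.Modules // FlatMod.IsFinLocFree F} => DCoh.inD X F.1) fun R j _ => by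
      haveI : PreservesFiniteLimits (tilde.functor R) := QCoh.tilde_preservesFiniteLimits (R := R)
      refine ⟨0, 0, fun F => ?_⟩
      let G := F.1.restrict j
      have hG : FlatMod.IsFinLocFree G := ConsPropLib.isFinLocFree_restrict j F.2
      haveI : IsIso (Scheme.Modules.fromTildeΓ G) :=
        (isQuasicoherent_iff_isIso_fromTildeΓ _).1 (QCoh.isQCoh_of_isFinLocFree hG)
      let eG := asIso (Scheme.Modules.fromTildeΓ G)
      have hM := (Groth.Agent.S12451.result _).1 (H23.PullPush.isFinLocFree_of_iso eG.symm hG)
      let M := (moduleSpecΓFunctor (R := R)).obj G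
      refine PerfD40.homBddAt_tildeD ((CochainComplex.singleFunctor (ModuleCat.{u} R) 0).obj M) 0 0
        (fun i hi => HomologicalComplex.isZero_single_obj_X _ _ _ _ (by omega)) (fun i => ?_) _
        ((DCoh.tildeD R).mapIso ((DerivedCategory.singleFunctorIsoCompQ _ 0).app M).symm ≪≫
          ((tilde.functor R).mapDerivedCategorySingleFunctor 0).app M ≪≫
          (DerivedCategory.singleFunctor _ 0).mapIso eG ≪≫
          (((Scheme.Modules.restrictFunctor j).mapDerivedCategorySingleFunctor 0).app F.1).symm)
      by_cases hi : i = 0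
      · subst hi
        haveI := hM.2
        haveI : Projective M := (IsProjective.iff_projective M).1 hM.2
        exact Projective.of_iso (HomologicalComplex.singleObjXSelf (ComplexShape.up ℤ) 0 M).symm inferInstance
      · exact (HomologicalComplex.isZero_single_obj_X (ComplexShape.up ℤ) 0 M i hi).projective
  refine ⟨max 1 (b - c + 1), by omega, fun F hF n hn φ => h ⟨F, hF⟩ _
    (KFlatLib.isQCohD_shift hE n) (fun i h1 _ => IsZero.of_iso ?_ (PerfD40.hdShift E n i (n + i) rfl)) φ⟩
  exact DerivedCategory.isZero_of_isLE E b _ (by omega)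

end Groth.Agent.S1010
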