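import Groth.Statements.S10105
import Groth.Agent.AlgSpDec.FppfFamily
import Groth.Agent.AlgSpPts.Descent
-- import your own Groth.Agent.* helpers here

set_option autoImplicit false
universe u
open CategoryTheory CategoryTheory.Limits AlgebraicGeometry
open AlgSp

set_option backward.isDefEq.respectTransparency false
set_option backward.isDefEq.respectTransparency.types false

namespace Groth.Agent.S10105

/-- Let `F` be an fppf sheaf of sets over `S` and `{S_i ⟶ S}` an fppf covering. If every `h_{S_i} × F`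
is an algebraic space and the coproduct `∐ h_{S_i} × F` (in sheaves) is an algebraic space, then `F`
is an algebraic space: being an algebraic space is fppf local on the base. -/
theorem result (S : Scheme.{u}) (F : AlgSp.Sp S) {ι : Type u} (Si : ι → Over S)
    (hfl : ∀ i, Flat (Si i).hom) (hfp : ∀ i, LocallyOfFinitePresentation (Si i).hom)
    (hsurj : ∀ x : ↥S, ∃ (i : ι) (y : ↥(Si i).left), (Si i).hom.base y = x)
    (halg : ∀ i, AlgSp.IsAlgSpace ((AlgSp.yon S).obj (Si i) ⨯ F))
    (c : Cofan (fun i => (AlgSp.yon S).obj (Si i) ⨯ F)) (hc : IsColimit c) (hcop : AlgSp.IsAlgSpace c.pt) :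
    AlgSp.IsAlgSpace F := by
  let X := (AlgSp.yon S).obj (Over.mk (𝟙 S))
  let hT := Groth.Agent.AlgSpPts.isTerminalYon S
  let a : ∀ i, Si i ⟶ Over.mk (𝟙 S) := fun i => Over.homMk (Si i).hom (Category.comp_id _)
  let g : ∀ i, (AlgSp.yon S).obj (Si i) ⟶ X := fun i => (AlgSp.yon S).map (a i)
  have hcov : AlgSp.IsFppfCover (fun i => (AlgSp.yon S).obj (Si i)) g := by
    refine ⟨fun i => ⟨Groth.Agent.AlgSpLib.locP_of_repWith ((AlgSp.repWith_yon_map_iff _ _).2 (hfl i)),
      Groth.Agent.AlgSpLib.locP_of_repWith ((AlgSp.repWith_yon_map_iff _ _).2 (hfp i))⟩, fun x => ?_⟩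
    obtain ⟨t, rfl⟩ := Groth.Agent.AlgSpLib.surjective_ofPt (p := 𝟙 X) (AlgSp.repWith_id _ _) x
    obtain ⟨i, y, hy⟩ := hsurj t
    refine ⟨i, AlgSp.Points.ofPt (𝟙 _) y, ?_⟩
    rw [AlgSp.Points.map_ofPt, Category.id_comp, ← Category.comp_id (g i), Groth.Agent.AlgSpLib.ofPt_comp]
    exact congrArg _ hy
  refine Groth.Agent.AlgSpDec.isAlgSpace_of_fppf_local (AlgSp.IsAlgSpace.yon_obj _)
    (fun i => AlgSp.IsAlgSpace.yon_obj (Si i)) g hcov (hT.from F) fun i => ?_
  have sq : IsPullback (prod.snd : (AlgSp.yon S).obj (Si i) ⨯ F ⟶ F) prod.fst (hT.from F) (g i) :=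
    ⟨⟨hT.hom_ext _ _⟩, ⟨PullbackCone.IsLimit.mk _ (fun s => prod.lift s.snd s.fst)
      (fun s => by simp) (fun s => by simp) (fun s m h1 h2 => by apply Limits.prod.hom_ext <;> simp [h1, h2])⟩⟩
  exact (halg i).of_iso sq.isoPullback

end Groth.Agent.S10105
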