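import Groth.Statements.S10129
import Groth.Agent.AlgSpDec.SchDenseSp
import Groth.Agent.AlgSpDec.LimDescentIso
import Groth.Agent.AlgSpLib.Covers
import Groth.Agent.AlgStLib.SheafGlue
import Groth.Agent.AlgSpLib.AffineDesc
-- import your own Groth.Agent.* helpers here

set_option autoImplicit false
universe u
open CategoryTheory CategoryTheory.Limits AlgebraicGeometry
open AlgSp

set_option backward.isDefEq.respectTransparency false
set_option backward.isDefEq.respectTransparency.types false

namespace Groth.Agent.S10129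

/-- Consider morphisms `g : X ⟶ Z` and `f : X ⟶ Y` of algebraic spaces over `B`, with `Y ⟶ B` separated
and `g` surjective, flat and locally of finite presentation, and let `V ⊂ Z` be a scheme
theoretically dense open subspace with `V ⟶ Z` quasi-compact such that `f` restricted to `g⁻¹(V)`
factors through `g⁻¹(V) ⟶ V`. Then `f` factors through `g`. (The published statement does not ask
the open immersion `V ⟶ Z` to be quasi-compact; the published proof pulls the scheme theoretic
density of `V` back along a flat morphism by a lemma that requires it, so this row assumes it.) -/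
theorem result (S : Scheme.{u}) (B : AlgSp.Sp S) (hB : AlgSp.IsAlgSpace B)
    (X Y Z : AlgSp.Space S) (pX : X.obj ⟶ B) (pY : Y.obj ⟶ B) (pZ : Z.obj ⟶ B)
    (f : X.obj ⟶ Y.obj) (g : X.obj ⟶ Z.obj) (hf : f ≫ pY = pX) (hg : g ≫ pZ = pX)
    (hY : AlgSp.IsSeparatedMor pY)
    (hgs : AlgSp.IsSurjectiveMor g) (hgf : AlgSp.LocP @Flat g) (hgp : AlgSp.LocP @LocallyOfFinitePresentation g)
    (V : AlgSp.Sp S) (v : V ⟶ Z.obj) (hv : AlgSp.IsSchDense v) (hvq : AlgSp.IsQuasiCompactMor v)
    (hfac : ∃ φ : V ⟶ Y.obj, pullback.fst g v ≫ f = pullback.snd g v ≫ φ) :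
    ∃ h : Z.obj ⟶ Y.obj, g ≫ h = f := by
  obtain ⟨φV, hφV⟩ := hfac
  have hvo := hv.1
  -- `g` is an epimorphism of sheaves
  have hgepi : Epi g := ⟨fun {W} a b hab => by
    refine Groth.Agent.AlgStLib.SheafGlue.hom_ext_points fun T t => ?_
    obtain ⟨κ, Tk, c, hc, hl⟩ := Groth.Agent.AlgSpLib.exists_fppf_local_lift Z.property
      (fun _ : PUnit.{u + 1} => X.property) (fun _ => g)
      ⟨fun _ => ⟨hgf, hgp⟩, fun z => ⟨⟨⟩, hgs z⟩⟩ T t
    refine Groth.Agent.AlgSpLib.hom_ext_of_covering _ _ hc ?_
    intro U k hk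
    obtain ⟨i, m, rfl⟩ := (Sieve.mem_ofArrows_iff _ _ _).1 hk
    obtain ⟨-, l, hl⟩ := hl i
    rw [Functor.map_comp, Category.assoc, Category.assoc]
    refine congrArg ((AlgSp.yon S).map m ≫ ·) ?_
    rw [← Category.assoc, ← Category.assoc, ← hl, Category.assoc, Category.assoc, hab]⟩
  have key : pullback.fst g g ≫ f = pullback.snd g g ≫ f := by
    have hR : AlgSp.IsAlgSpace (pullback g g) :=
      Groth.Agent.AlgSpLib.isAlgSpace_pullback X.property X.property Z.property g g
    obtain ⟨T, φ, hφ, hφs⟩ := hR.atlas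
    have : Epi φ := Groth.Agent.AlgSpDec.epi_of_etale_surjective (AlgSp.IsAlgSpace.yon_obj T) hR φ
      (Groth.Agent.AlgSpLib.isEtaleMor_of_repWith hφ) (Groth.Agent.AlgSpLib.surjective_map_of_repWith hφs)
    refine (cancel_epi φ).1 ?_
    let a := φ ≫ pullback.fst g g ≫ f
    let b := φ ≫ pullback.snd g g ≫ f
    have hab : a ≫ pY = b ≫ pY := by
      simp only [a, b, Category.assoc, hf, ← hg, reassoc_of% (pullback.condition (f := g) (g := g))]
    let c : (AlgSp.yon S).obj T ⟶ pullback pY pY := pullback.lift a b hab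
    -- the inverse image of `V` in `T` is schematically dense
    let q : (AlgSp.yon S).obj T ⟶ Z.obj := φ ≫ pullback.fst g g ≫ g
    have hqf : AlgSp.LocP @Flat q ∧ AlgSp.LocP @LocallyOfFinitePresentation q := by
      have hP : ∀ (P : MorphismProperty Scheme.{u}) [Groth.Agent.AlgSpLib.IsEtLocal P] [P.IsStableUnderComposition]
          [P.IsStableUnderBaseChange], AlgSp.LocP P g → AlgSp.LocP P φ → AlgSp.LocP P q := by
        intro P _ _ _ h1 h2
        exact Groth.Agent.AlgSpLib.locP_comp (AlgSp.IsAlgSpace.yon_obj T) hR Z.property h2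
          (Groth.Agent.AlgSpLib.locP_comp hR X.property Z.property
            (Groth.Agent.AlgSpLib.locP_of_isPullback (IsPullback.of_hasPullback g g).flip
              X.property Z.property X.property h1) h1)
      exact ⟨hP @Flat hgf (Groth.Agent.AlgSpLib.locP_mono (P := @Etale) (Q := @Flat)
          (fun _ _ f (_ : Etale f) => inferInstanceAs (Flat f)) (Groth.Agent.AlgSpLib.locP_of_repWith hφ)),
        hP @LocallyOfFinitePresentation hgp (Groth.Agent.AlgSpLib.locP_mono (P := @Etale)
          (Q := @LocallyOfFinitePresentation)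
          (fun _ _ f (_ : Etale f) => inferInstanceAs (LocallyOfFinitePresentation f))
          (Groth.Agent.AlgSpLib.locP_of_repWith hφ))⟩
    have hd : CInt.IsSchematicallyDense (Groth.Agent.AlgSpDec.SchDenseSp.pre Z.property hvo q) := by
      obtain ⟨V₀, c₀, hc₀, hc₀s⟩ := Z.property.atlas
      let R₀ := hc₀.rep.pullback q
      let r₁ : R₀ ⟶ V₀ := hc₀.rep.fst' q
      let r₂ : R₀ ⟶ T := hc₀.rep.snd q
      have hr₂ : Etale r₂.left := hc₀.property_snd q
      have : Surjective r₂.left := hc₀s.property _ _ _ (hc₀.rep.isPullback q)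
      have hw : (AlgSp.yon S).map r₂ ≫ q = (AlgSp.yon S).map r₁ ≫ c₀ := (hc₀.rep.isPullback' q).w.symm
      have h1 : Flat r₁.left := hqf.1 ((AlgSp.yon S).map r₂) c₀ r₁
        ((AlgSp.repWith_yon_map_iff _ _).2 hr₂) hc₀ hw
      have h2 : LocallyOfFinitePresentation r₁.left := hqf.2 ((AlgSp.yon S).map r₂) c₀ r₁
        ((AlgSp.repWith_yon_map_iff _ _).2 hr₂) hc₀ hw
      refine Groth.Agent.AlgSpDec.SchDenseFacts.of_preimage r₂.left _ ?_
      rw [Groth.Agent.AlgSpDec.SchDenseSp.preimage_pre, hw, ← Groth.Agent.AlgSpDec.SchDenseSp.preimage_pre]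
      exact Groth.Agent.SchDenseLib.preimage_of_flat_lfp r₁.left _
        (Groth.Agent.AlgSpDec.SchDenseSp.dense_pre Z.property hv hc₀)
    -- on it the two maps agree
    obtain ⟨fstO, sq⟩ := Groth.Agent.AlgSpDec.SchDenseSp.exists_isPullback Z.property hvo q
    let O := Groth.Agent.AlgSpDec.SchDenseSp.pre Z.property hvo q
    have : QuasiCompact O.ι := Groth.Agent.AlgSpDec.SchDenseSp.quasiCompact_pre_ι Z.property hvo hvq q
    let o : Over.mk (O.ι ≫ T.hom) ⟶ T := Over.homMk O.ι rfl
    have hO₁ : ∀ π : pullback g g ⟶ X.obj, π ≫ g = pullback.fst g g ≫ g →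
        (AlgSp.yon S).map o ≫ φ ≫ π ≫ f = fstO ≫ φV := by
      intro π hπ
      let l : (AlgSp.yon S).obj (Over.mk (O.ι ≫ T.hom)) ⟶ pullback g v :=
        pullback.lift ((AlgSp.yon S).map o ≫ φ ≫ π) fstO (by
          rw [Category.assoc, Category.assoc, hπ]; exact sq.w.symm)
      have := congrArg (l ≫ ·) hφV
      simpa only [l, pullback.lift_fst_assoc, pullback.lift_snd_assoc, Category.assoc] using this
    have hOeq : (AlgSp.yon S).map o ≫ a = (AlgSp.yon S).map o ≫ b :=
      (hO₁ _ rfl).trans (hO₁ _ pullback.condition.symm).symm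
    -- the closed subscheme where they agree is everything
    let hΔ := hY
    let w := hΔ.rep.snd c
    have : IsClosedImmersion w.left := hΔ.property_snd c
    obtain ⟨m, hm⟩ := (AlgSp.yon S).map_surjective ((hΔ.rep.isPullback c).lift
      ((AlgSp.yon S).map o ≫ a) ((AlgSp.yon S).map o) (by
        apply pullback.hom_ext
        · simp [c]
        · simp [c, hOeq]))
    have hm2 : m ≫ w = o := (AlgSp.yon S).map_injective (by
      rw [Functor.map_comp, hm]; exact (hΔ.rep.isPullback c).lift_snd _ _ _)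
    have hker : w.left.ker = ⊥ := le_bot_iff.1
      (((m.left.le_ker_comp w.left).trans (le_of_eq (congrArg Scheme.Hom.ker (congrArg CommaMorphism.left hm2)))).trans
        (le_of_eq ((Groth.Agent.AlgSpDec.SchDenseFacts.iff_ker_eq_bot O).1 hd)))
    have : IsIso w.left := IsClosedImmersion.isIso_of_ker_eq w.left (𝟙 T.left) w.left (Category.comp_id _)
      (hker.trans (Scheme.Hom.ker_eq_bot_of_isIso _).symm)
    have : IsIso w := by
      have : IsIso ((CategoryTheory.Over.forget S).map w) := ‹IsIso w.left›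
      exact isIso_of_reflects_iso w (CategoryTheory.Over.forget S)
    have hwc := (hΔ.rep.isPullback c).w
    have h1 := congrArg (· ≫ pullback.fst pY pY) hwc
    have h2 := congrArg (· ≫ pullback.snd pY pY) hwc
    simp only [Category.assoc, pullback.diagonal_fst, pullback.diagonal_snd, Category.comp_id, c,
      pullback.lift_fst, pullback.lift_snd] at h1 h2
    exact (cancel_epi ((AlgSp.yon S).map w)).1 (h1.symm.trans h2)
  have : EffectiveEpi g := (isRegularEpi_iff_effectiveEpi g).1 (IsRegularEpiCategory.regularEpiOfEpi g)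
  refine ⟨EffectiveEpi.desc g f fun {W} a b hab => ?_, EffectiveEpi.fac g _ _⟩
  have := congrArg (pullback.lift (f := g) (g := g) a b hab ≫ ·) key
  simpa only [← Category.assoc, pullback.lift_fst, pullback.lift_snd] using this

end Groth.Agent.S10129
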