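import Groth.Statements.S1014
import Groth.Agent.PerfD40.ThomasonAffine

set_option autoImplicit false
set_option linter.style.haveILetI false
universe u
open CategoryTheory CategoryTheory.Limits AlgebraicGeometry
attribute [local instance] HasDerivedCategory.standard
open Perf

namespace Groth.Agent.S1014

/-- Let X be an affine scheme, U a quasi-compact open subscheme and F a perfect object of D(O_U). Then F
⊕ F[1] extends to X as a perfect complex: there is a complex G of O_X-modules, perfect as an object
of D(O_X), whose termwise restriction to U is isomorphic in D(O_U) to F ⊕ F[1]. -/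
theorem result (X : Scheme.{u}) [IsAffine X] (U : X.Opens) (hU : IsCompact (U : Set X))
    (F : DCoh.D (U : Scheme.{u})) (hF : DCoh.IsPerfect F) [HasBinaryBiproduct F (F⟦(1 : ℤ)⟧)] :
    ∃ G : CochainComplex X.Modules ℤ, DCoh.IsPerfect (DCoh.toD X G) ∧
      Nonempty (DerivedCategory.Q.obj ((DCoh.restrictCx U).obj G) ≅ F ⊞ F⟦(1 : ℤ)⟧) := by
  obtain ⟨G, hG, -, ⟨e⟩⟩ := PerfD40.exists_extension_affine X U hU ⊥ (by simp) F hF
    (KFlatLib.isZero_restrictD_of_support (U.ι ⁻¹ᵁ (⊥ : X.Opens)) F Set.univ
      (fun _ => Set.subset_univ _) fun x hx => False.elim hx)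
  let eQ : DerivedCategory.Q.obj (DerivedCategory.Q.objPreimage G) ≅ G := DerivedCategory.Q.objObjPreimageIso G
  exact ⟨DerivedCategory.Q.objPreimage G, PerfD40.isPerfect_of_iso' eQ.symm hG,
    ⟨((Scheme.Modules.restrictFunctor U.ι).mapDerivedCategoryFactors.app _).symm ≪≫
      (DCoh.restrictD U.ι).mapIso eQ ≪≫ e⟩⟩

end Groth.Agent.S1014
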