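import Groth.Statements.S1015

import Groth.Agent.KFlatLib.Scheme.RpushUnbounded
import Groth.Agent.KFlatLib.Perfect.DLocal
import Groth.Agent.KFlatLib.Scheme.ProjLocFree

set_option autoImplicit false
universe u
open CategoryTheory CategoryTheory.Limits AlgebraicGeometry
attribute [local instance] HasDerivedCategory.standard
open Perf

namespace Groth.Agent.S1015

/-- Let U ⊆ X be an open subscheme whose inclusion is quasi-compact. Every object F of D(O_U) with
quasi-coherent cohomology sheaves is the restriction of such an object on X: there is a complex G of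
O_X-modules with quasi-coherent cohomology sheaves whose termwise restriction to U is isomorphic to
F in D(O_U). -/
theorem result (X : Scheme.{u}) (U : X.Opens) [QuasiCompact U.ι]
    (F : DCoh.D (U : Scheme.{u})) (hF : DCoh.IsQCohD F) :
    ∃ G : CochainComplex X.Modules ℤ, DCoh.IsQCohD (DCoh.toD X G) ∧
      Nonempty (DerivedCategory.Q.obj ((DCoh.restrictCx U).obj G) ≅ F) := by
  haveI := KFlatLib.hasRpush_scheme U.ι
  haveI : HasInjectiveResolutions (U : Scheme.{u}).Modules := KFlatLib.hasInjectiveResolutions_modules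
  let C := DerivedCategory.Q.objPreimage ((DCoh.Rpush U.ι).obj F)
  let eC : DerivedCategory.Q.obj C ≅ (DCoh.Rpush U.ι).obj F := DerivedCategory.Q.objObjPreimageIso _
  refine ⟨C, KFlatLib.isQCohD_of_iso eC.symm (KFlatLib.isQCohD_rpush U.ι hF), ?_⟩
  obtain ⟨I, s, hI, hs⟩ := KFlatLib.exists_kInjective_res (DerivedCategory.Q.objPreimage F)
  haveI := hI
  haveI := hs
  haveI := KFlatLib.isIso_Q_map s hs
  let eI : DerivedCategory.Q.obj I ≅ F :=
    (asIso (DerivedCategory.Q.map s)).symm ≪≫ DerivedCategory.Q.objObjPreimageIso F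
  obtain ⟨eR⟩ := KFlatLib.nonempty_rpush_iso_of_kInjective U.ι eI
  exact ⟨((KFlatLib.rhoQ U.ι).app C).symm ≪≫ (KFlatLib.rho U.ι).mapIso (eC ≪≫ eR) ≪≫
    (KFlatLib.rhoQ U.ι).app _ ≪≫
    DerivedCategory.Q.mapIso ((Functor.mapHomologicalComplexCompIso (Iso.refl _) (ComplexShape.up ℤ)).app I ≪≫
      (NatIso.mapHomologicalComplex (asIso (Scheme.Modules.restrictAdjunction U.ι).counit)
        (ComplexShape.up ℤ)).app I ≪≫ (Functor.mapHomologicalComplexIdIso _ _).app I) ≪≫ eI⟩


end Groth.Agent.S1015
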