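import Groth.Statements.S1022
import Groth.Agent.PerfD40.Compact

set_option autoImplicit false
set_option linter.style.haveILetI false
universe u
open CategoryTheory CategoryTheory.Limits AlgebraicGeometry
attribute [local instance] HasDerivedCategory.standard
open Perf

namespace Groth.Agent.S1022

/-- Let the scheme X be quasi-compact and quasi-separated, P a perfect object of D(O_X), E ∈ D_QCoh(O_X)
and a ∈ ℤ. Then the morphisms P[-i] ⟶ E vanish for all large i if and only if the morphisms P[-i] ⟶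
τ_{≥ a}E vanish for all large i. -/
theorem result (X : Scheme.{u}) [CompactSpace ↥X] [QuasiSeparatedSpace ↥X]
    (P : DCoh.D X) (hP : DCoh.IsPerfect P) (E : DCoh.D X) (hE : DCoh.IsQCohD E) (a : ℤ) :
    (∃ N : ℤ, ∀ i : ℤ, N ≤ i → ∀ φ : P⟦-i⟧ ⟶ E, φ = 0) ↔
    (∃ N : ℤ, ∀ i : ℤ, N ≤ i → ∀ φ : P⟦-i⟧ ⟶ ((DerivedCategory.TStructure.t : CategoryTheory.Triangulated.TStructure (DCoh.D X)).truncGE a).obj E, φ = 0) := by
  obtain ⟨c, d, -, hP'⟩ := PerfD40.exists_homBddAt_of_isPerfect hP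
  have key : ∀ i : ℤ, a - c + 1 ≤ i → Function.Bijective (fun φ : P⟦-i⟧ ⟶ E =>
      φ ≫ ((PerfD40.tS X).truncGEπ a).app E) := fun i hi => by
    let A := ((PerfD40.tS X).truncLT a).obj E
    have hA : DCoh.IsQCohD A := PerfD40.isQCohD_truncLT hE a
    have hT := (PerfD40.tS X).triangleLTGE_distinguished a E
    constructor
    · intro φ φ' he
      obtain ⟨ψ, hψ⟩ := Pretriangulated.Triangle.coyoneda_exact₂ _ hT (φ - φ')
        ((Preadditive.sub_comp _ _ _).trans (sub_eq_zero.2 he))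
      have h0 : ψ = 0 := (hP'.shift (-i)) A hA
        (fun j hj _ => PerfD40.isZero_hd_truncLT E a j (by omega)) ψ
      exact sub_eq_zero.1 (hψ.trans (by rw [h0]; exact zero_comp))
    · intro χ
      have h0 : χ ≫ ((PerfD40.tS X).truncGEδLT a).app E = 0 := (hP'.shift (-i)) _
        (KFlatLib.isQCohD_shift hA 1) (fun j hj _ =>
          (PerfD40.isZero_hd_truncLT E a (1 + j) (by omega)).of_iso (PerfD40.hdShift A 1 j _ rfl)) _
      obtain ⟨φ, hφ⟩ := Pretriangulated.Triangle.coyoneda_exact₃ _ hT χ h0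
      exact ⟨φ, hφ.symm⟩
  constructor
  · rintro ⟨N, hN⟩
    refine ⟨max N (a - c + 1), fun i hi χ => ?_⟩
    obtain ⟨φ, rfl⟩ := (key i (by omega)).2 χ
    exact (congrArg (· ≫ _) (hN i (by omega) φ)).trans zero_comp
  · rintro ⟨N, hN⟩
    refine ⟨max N (a - c + 1), fun i hi φ => (key i (by omega)).1 ?_⟩
    exact (hN i (by omega) _).trans zero_comp.symm

end Groth.Agent.S1022
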