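import Groth.Statements.S1023
import Groth.Agent.PerfD40.Compact

set_option autoImplicit false
set_option linter.style.haveILetI false
universe u
open CategoryTheory CategoryTheory.Limits AlgebraicGeometry
attribute [local instance] HasDerivedCategory.standard
open Perf

namespace Groth.Agent.S1023

/-- Let the scheme X be quasi-compact and quasi-separated, P a perfect object of D(O_X), E ∈ D_QCoh(O_X)
and a ∈ ℤ. Then the morphisms P[-i] ⟶ E vanish for all sufficiently negative i if and only if the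
morphisms P[-i] ⟶ τ_{≤ a}E vanish for all sufficiently negative i. -/
theorem result (X : Scheme.{u}) [CompactSpace ↥X] [QuasiSeparatedSpace ↥X]
    (P : DCoh.D X) (hP : DCoh.IsPerfect P) (E : DCoh.D X) (hE : DCoh.IsQCohD E) (a : ℤ) :
    (∃ N : ℤ, ∀ i : ℤ, i ≤ N → ∀ φ : P⟦-i⟧ ⟶ E, φ = 0) ↔
    (∃ N : ℤ, ∀ i : ℤ, i ≤ N → ∀ φ : P⟦-i⟧ ⟶ ((DerivedCategory.TStructure.t : CategoryTheory.Triangulated.TStructure (DCoh.D X)).truncLE a).obj E, φ = 0) := by
  obtain ⟨c, d, -, hP'⟩ := PerfD40.exists_homBddAt_of_isPerfect hP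
  have key : ∀ i : ℤ, i ≤ a - d - 1 → Function.Bijective (fun φ : P⟦-i⟧ ⟶
      ((PerfD40.tS X).truncLE a).obj E => φ ≫ ((PerfD40.tS X).truncLEι a).app E) := fun i hi => by
    let B := ((PerfD40.tS X).truncGE (a + 1)).obj E
    have hB : DCoh.IsQCohD B := PerfD40.isQCohD_truncGE hE (a + 1)
    have hT := (PerfD40.tS X).triangleLTGE_distinguished (a + 1) E
    constructor
    · intro φ φ' he
      obtain ⟨ψ, hψ⟩ := Pretriangulated.Triangle.coyoneda_exact₂ _
        (Pretriangulated.inv_rot_of_distTriang _ hT) (φ - φ')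
        ((Preadditive.sub_comp _ _ _).trans (sub_eq_zero.2 he))
      have h0 : ψ = 0 := (hP'.shift (-i)) _ (KFlatLib.isQCohD_shift hB (-1)) (fun j _ hj =>
        (PerfD40.isZero_hd_truncGE E (a + 1) (-1 + j) (by omega)).of_iso
          (PerfD40.hdShift B (-1) j _ rfl)) ψ
      exact sub_eq_zero.1 (hψ.trans (by rw [h0]; exact zero_comp))
    · intro χ
      have h0 : χ ≫ ((PerfD40.tS X).truncGEπ (a + 1)).app E = 0 := (hP'.shift (-i)) B hB
        (fun j _ hj => PerfD40.isZero_hd_truncGE E (a + 1) j (by omega)) _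
      obtain ⟨φ, hφ⟩ := Pretriangulated.Triangle.coyoneda_exact₂ _ hT χ h0
      exact ⟨φ, hφ.symm⟩
  constructor
  · rintro ⟨N, hN⟩
    refine ⟨min N (a - d - 1), fun i hi φ => (key i (by omega)).1 ?_⟩
    exact (hN i (by omega) _).trans zero_comp.symm
  · rintro ⟨N, hN⟩
    refine ⟨min N (a - d - 1), fun i hi χ => ?_⟩
    obtain ⟨φ, rfl⟩ := (key i (by omega)).2 χ
    exact (congrArg (· ≫ _) (hN i (by omega) φ)).trans zero_comp

end Groth.Agent.S1023
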