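import Groth.Statements.S10237
import Groth.Agent.QCart.EtRestrict

set_option autoImplicit false
universe u
open CategoryTheory CategoryTheory.Limits AlgebraicGeometry Topology TopologicalSpace
open AlgSp

namespace Groth.Agent.S10237

open Groth.Agent.QCart Groth.Agent.AlgSpDec Opposite

set_option backward.isDefEq.respectTransparency false
set_option backward.isDefEq.respectTransparency.types false

/-- Let X be an algebraic space over a scheme S and F a sheaf of modules over O_X on the small etale
site of X. If there is a surjective etale map p : h_U ⟶ X from a scheme U such that the pullback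
p^*F is a quasi-coherent module, then F is quasi-coherent. -/
theorem result {S : Scheme.{u}} (X : AlgSp.Space S) (F : AlgSp.ModEt X.obj)
    {U : Over S} (p : (AlgSp.yon S).obj U ⟶ X.obj) (hrep : AlgSp.Representable p)
    (hp : AlgSp.RepWith @Etale p) (hs : AlgSp.RepWith @Surjective p)
    [(SheafOfModules.pushforward.{u + 1} (AlgSp.bcRingHom hrep)).IsRightAdjoint]
    (hF : ((AlgSp.pullModEt hrep).obj F).IsQuasicoherent) :
    F.IsQuasicoherent := by
  have hf := AlgSp.isEtaleMor_of_repWith p hp
  have := PostcompSite.isContinuous p hf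
  have e := ((EtPullRestrict.modAdj hrep hf).leftAdjointUniq (AlgSp.pullPushAdjModEt hrep)).app F
  have hr : (etBasis _).IsCart (psh (R := OEt _) (restrictMod hf F)) :=
    AffBasis.IsCart.of_iso (R := OEt _) (b := etBasis _) ((isQuasicoherent_iff _ _).1 hF) e.symm
  rw [isQuasicoherent_iff]
  refine AffBasis.IsCartLocal.isCart (R := OEt X.obj) F fun A hA => ?_
  let U₀ : EtOver X.obj := EtOver.mk p hp
  refine ⟨_, AlgSp.ofArrows_mem_etTop (E := A) (fun _ : Unit => EtOver.prodObj A U₀)
    (fun _ => EtOver.prodFst A U₀) (fun a => ?_), fun W g hg => ?_⟩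
  · have : Surjective (EtOver.prodFst A U₀).hom.left.left := hs.property_snd A.obj.hom
    exact ⟨(), Surjective.surj (f := (EtOver.prodFst A U₀).hom.left.left) a⟩
  · obtain ⟨_, m, -⟩ := (Sieve.mem_ofArrows_iff _ _ _).1 hg
    intro B B' hB hB' v k
    let t : B ⟶ U₀ := v ≫ m ≫ EtOver.prodSnd A U₀
    let B₁ : EtOver ((yon S).obj U) := EtOver.mk ((yon S).map t.hom.left)
      ((repWith_yon_map_iff _ _).2 (EtOver.etale_left t))
    let B₁' : EtOver ((yon S).obj U) := EtOver.mk ((yon S).map (k ≫ t).hom.left)
      ((repWith_yon_map_iff _ _).2 (EtOver.etale_left (k ≫ t)))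
    let g₁ : B₁' ⟶ B₁ := EtOver.homMk k.hom.left (((yon S).map_comp _ _).symm :)
    let e₁ : (EtOver.postcomp p hf).obj B₁ ⟶ B := EtOver.homMk (𝟙 _) (by
      rw [CategoryTheory.Functor.map_id, Category.id_comp]
      exact (EtOver.w t).symm)
    let e₁' : B' ⟶ (EtOver.postcomp p hf).obj B₁' := EtOver.homMk (𝟙 _) (by
      rw [CategoryTheory.Functor.map_id, Category.id_comp]
      exact EtOver.w (k ≫ t))
    have : IsIso e₁ := ⟨EtOver.homMk (𝟙 _) (by rw [CategoryTheory.Functor.map_id, Category.id_comp]; exact EtOver.w t),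
      EtOver.hom_ext _ _ (Category.id_comp _), EtOver.hom_ext _ _ (Category.id_comp _)⟩
    have : IsIso e₁' := ⟨EtOver.homMk (𝟙 _) (by
      rw [CategoryTheory.Functor.map_id, Category.id_comp]; exact (EtOver.w (k ≫ t)).symm),
      EtOver.hom_ext _ _ (Category.id_comp _), EtOver.hom_ext _ _ (Category.id_comp _)⟩
    have hk : k = e₁' ≫ (EtOver.postcomp p hf).map g₁ ≫ e₁ := EtOver.hom_ext _ _
      ((Category.id_comp (k.hom.left ≫ 𝟙 _)).trans (Category.comp_id _)).symm
    rw [hk]
    refine cart_comp _ _ _ (cart_comp _ _ _ (res_bijective_of_isIso _ e₁) ?_) (res_bijective_of_isIso _ e₁')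
    exact (cart_restrictMod hf F g₁).1 (hr (show IsAff _ B₁ from hB) (show IsAff _ B₁' from hB') g₁)

end Groth.Agent.S10237
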