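import Groth.Statements.S10240
import Groth.Agent.QCart.EtBasis

set_option autoImplicit false
universe u
open CategoryTheory CategoryTheory.Limits AlgebraicGeometry Topology TopologicalSpace
open AlgSp

namespace Groth.Agent.S10240

open Groth.Agent.QCart

set_option backward.isDefEq.respectTransparency false

/-- Let X be an algebraic space over a scheme S. Colimits of quasi-coherent O_X-modules are
quasi-coherent; kernels and cokernels of maps between quasi-coherent O_X-modules are quasi-coherent;
and in a short exact sequence of O_X-modules, if two out of three are quasi-coherent then so is the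
third. -/
theorem result {S : Scheme.{u}} (X : AlgSp.Space S) :
    (∀ (J : Type u) [SmallCategory J] (D : J ⥤ AlgSp.ModEt X.obj) [HasColimit D],
        (∀ j, (D.obj j).IsQuasicoherent) → (colimit D).IsQuasicoherent) ∧
    (∀ (F G : AlgSp.ModEt X.obj) (φ : F ⟶ G), F.IsQuasicoherent → G.IsQuasicoherent →
        (kernel φ).IsQuasicoherent ∧ (cokernel φ).IsQuasicoherent) ∧
    (∀ C : ShortComplex (AlgSp.ModEt X.obj), C.ShortExact →
        (C.X₁.IsQuasicoherent → C.X₂.IsQuasicoherent → C.X₃.IsQuasicoherent) ∧
        (C.X₁.IsQuasicoherent → C.X₃.IsQuasicoherent → C.X₂.IsQuasicoherent) ∧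
        (C.X₂.IsQuasicoherent → C.X₃.IsQuasicoherent → C.X₁.IsQuasicoherent)) := by
  refine ⟨fun J _ D _ hD => ?_, fun F G φ hF hG => ?_, fun C hC => ?_⟩
  · rw [isQuasicoherent_iff]
    exact AffBasis.isCart_colimit_sheaf (b := etBasis X.obj) (R := OEt X.obj) D _ (colimit.isColimit D)
      fun j => (isQuasicoherent_iff X.obj _).1 (hD j)
  · have hF' := (isQuasicoherent_iff X.obj F).1 hF
    have hG' := (isQuasicoherent_iff X.obj G).1 hG
    exact ⟨(isQuasicoherent_iff X.obj _).2 (hF'.kernel φ hG'), (isQuasicoherent_iff X.obj _).2 (hF'.cokernel φ hG')⟩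
  · haveI := hC.mono_f
    have := hC.epi_g

    simp only [isQuasicoherent_iff]
    exact ⟨fun h₁ h₂ => AffBasis.IsCart.cokernelCofork (R := OEt X.obj) (b := etBasis X.obj) hC.exact h₁ h₂,
      fun h₁ h₃ => AffBasis.IsCart.extension (R := OEt X.obj) (b := etBasis X.obj) hC h₁ h₃,
      fun h₂ h₃ => AffBasis.IsCart.kernelFork (R := OEt X.obj) (b := etBasis X.obj) hC.exact h₂ h₃⟩

end Groth.Agent.S10240
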