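import Groth.Statements.S10331
import Groth.Agent.AlgSpDec.LimDescent
import Groth.Agent.AlgSpDec.SchDenseFacts
import Groth.Agent.AlgSpLib.EtLocalInst
import Groth.Agent.AlgSpLib.Covers
import Mathlib.RingTheory.PolynomialAlgebra
-- import your own Groth.Agent.* helpers here

set_option autoImplicit false
universe u
open CategoryTheory CategoryTheory.Limits AlgebraicGeometry Opposite
open AlgSp

set_option backward.isDefEq.respectTransparency false
set_option backward.isDefEq.respectTransparency.types false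

open Groth.Agent.AlgSpLib Groth.Agent.AlgSpPts Groth.Agent.AlgSpDec Polynomial

attribute [local instance] Polynomial.algebra

namespace Groth.Agent.S10331

theorem exists_monic_of_radical {R B : Type u} [CommRing R] [CommRing B] (ψ : R →+* B) (s : B) (q : R[X])
    (h0 : q.coeff 0 = 1) (hq : q.map ψ ∈ (Ideal.span {1 - C s * Polynomial.X}).radical) :
    ∃ p : R[X], p.Monic ∧ p.eval₂ ψ s = 0 := by
  obtain ⟨N, hN⟩ := hq
  obtain ⟨h, hh⟩ := Ideal.mem_span_singleton'.1 hN
  let Q := q ^ N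
  have hQ0 : Q.coeff 0 = 1 := by
    rw [coeff_zero_eq_eval_zero, eval_pow, ← coeff_zero_eq_eval_zero, h0, one_pow]
  let n := Q.natDegree
  let P := Q.reflect n
  have hPm : P.Monic := by
    refine monic_of_natDegree_le_of_coeff_eq_one n ?_ ?_
    · refine natDegree_le_iff_coeff_eq_zero.2 fun k hk => ?_
      rw [coeff_reflect, revAt_eq_self_of_lt hk]
      exact coeff_eq_zero_of_natDegree_lt hk
    · rw [coeff_reflect, revAt_le le_rfl, Nat.sub_self, hQ0]
  let κ := algebraMap B (Localization.Away s)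
  obtain ⟨hInv⟩ := (IsLocalization.Away.algebraMap_isUnit (S := Localization.Away s) s).nonempty_invertible
  have hx : eval₂ (κ.comp ψ) (⅟(κ s)) Q = 0 := by
    rw [← eval₂_map, show Q.map ψ = h * (1 - C s * Polynomial.X) by rw [hh, Polynomial.map_pow],
      eval₂_mul, eval₂_sub, eval₂_one, eval₂_mul, eval₂_C, eval₂_X, mul_invOf_self, sub_self, mul_zero]
  have hP : κ (eval₂ ψ s P) = 0 := by
    rw [hom_eval₂]
    have := (eval₂_reflect_eq_zero_iff (κ.comp ψ) (⅟(κ s)) n Q le_rfl).2 hx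
    simpa only [invOf_invOf] using this
  obtain ⟨⟨m, M, rfl⟩, hm⟩ := (IsLocalization.map_eq_zero_iff (Submonoid.powers s) _ _).1 hP
  refine ⟨Polynomial.X ^ M * P, (monic_X_pow M).mul hPm, ?_⟩
  rw [eval₂_mul, eval₂_pow, eval₂_X]
  exact hm

theorem appTop_injective_of_flat_surjective {Z Y : Scheme.{u}} (g : Z ⟶ Y) [Flat g] [Surjective g] :
    Function.Injective g.appTop.hom := by
  refine (injective_iff_map_eq_zero _).2 fun z hz => ?_
  refine TopCat.Presheaf.section_ext Y.sheaf ⊤ z 0 fun y hy => ?_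
  obtain ⟨x, rfl⟩ := g.surjective y
  apply SchDenseFacts.stalkMap_injective_of_flat g x
  refine (Scheme.Hom.germ_stalkMap_apply g ⊤ x hy z).trans ?_
  rw [map_zero, map_zero, show g.app ⊤ z = 0 from hz, map_zero]

/-- The value on the functions of a field valued point. -/
noncomputable def ev {K : CommRingCat.{u}} {U : Scheme.{u}} (g : Spec K ⟶ U) : Γ(U, ⊤) ⟶ K :=
  g.appTop ≫ (Scheme.ΓSpecIso K).hom

theorem ev_comp {K : CommRingCat.{u}} {Z U : Scheme.{u}} (g : Spec K ⟶ Z) (h : Z ⟶ U) :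
    ev (g ≫ h) = h.appTop ≫ ev g := by
  rw [ev, ev, Scheme.Hom.comp_appTop, Category.assoc]

theorem ev_map {K : CommRingCat.{u}} {U : Scheme.{u}} [IsAffine U] (θ : Γ(U, ⊤) ⟶ K) :
    ev (Spec.map θ ≫ U.isoSpec.inv) = θ := by
  apply Spec.map_injective
  rw [← cancel_mono U.isoSpec.inv, ev, Spec.map_comp, Category.assoc, Scheme.isoSpec_inv_naturality,
    ← Scheme.isoSpec_Spec_hom, Iso.hom_inv_id_assoc]


/-- Let f : X -> h_V be a quasi-compact, quasi-separated and universally closed morphism from an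
algebraic space over S to an affine scheme V over S. Then every global section of O_X (a compatible
family of functions on the schemes etale over X) satisfies a monic polynomial with coefficients in
Γ(V, O_V). (The published statement has an arbitrary algebraic space as target and says that f_*O_X
is integral over O_Y, which is this assertion for the base change of f to every affine scheme etale
over the target; the reformulation through the relative spectrum of f_*O_X is not included.) -/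
theorem result {S : Scheme.{u}} (V : Over S) [IsAffine V.left] (X : AlgSp.Space S)
    (f : X ⟶ (AlgSp.ofScheme S).obj V) (hqc : AlgSp.IsQuasiCompactMor f.hom)
    (hqs : AlgSp.IsQuasiSeparatedMor f.hom) (huc : AlgSp.IsUnivClosedMor f.hom)
    (s : ↥(AlgSp.gsectEt (AlgSp.OEt X.obj) : CommRingCat.{u + 1})) :
    ∃ p : Polynomial Γ(V.left, ⊤), p.Monic ∧
      ∀ E : AlgSp.EtOver X.obj,
        Polynomial.eval₂ ((AlgSp.yon S).preimage (E.obj.hom ≫ f.hom)).left.appTop.hom
          ((limit.π (AlgSp.OEt X.obj).obj (op E)) s).down p = 0 := by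
  have hV : AlgSp.IsQuasiCompactSp ((AlgSp.yon S).obj V) :=
    ⟨V, 𝟙 _, MorphismProperty.id_mem _ _, MorphismProperty.id_mem _ _, inferInstance⟩
  have hX : AlgSp.IsQuasiCompactSp X.obj :=
    hqc (AlgSp.IsAlgSpace.yon_obj V) hV (𝟙 _) (𝟙 X.obj) f.hom (IsPullback.of_horiz_isIso ⟨by simp⟩)
  obtain ⟨U, a, hUaff, ha, has⟩ := exists_affine_atlas hX
  let φU : U ⟶ V := (AlgSp.yon S).preimage (a ≫ f.hom)
  let ψ : Γ(V.left, ⊤) ⟶ Γ(U.left, ⊤) := φU.left.appTop
  let sec : ∀ E : AlgSp.EtOver X.obj, Γ(E.obj.left.left, ⊤) := fun E =>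
    ((limit.π (AlgSp.OEt X.obj).obj (op E)) s).down
  have hsec : ∀ {E E' : AlgSp.EtOver X.obj} (g : E ⟶ E'), g.hom.left.left.appTop.hom (sec E') = sec E :=
    fun g => congrArg ULift.down (congrArg (fun φ => φ.hom s) (limit.w (AlgSp.OEt X.obj).obj g.op))
  let EU : AlgSp.EtOver X.obj := AlgSp.EtOver.mk a ha
  let sU : Γ(U.left, ⊤) := sec EU
  -- the polynomial rings
  let RX : CommRingCat.{u} := CommRingCat.of Γ(V.left, ⊤)[X]
  let BX : CommRingCat.{u} := CommRingCat.of Γ(U.left, ⊤)[X]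
  let CR : Γ(V.left, ⊤) ⟶ RX := CommRingCat.ofHom Polynomial.C
  let CB : Γ(U.left, ⊤) ⟶ BX := CommRingCat.ofHom Polynomial.C
  let ψX : RX ⟶ BX := CommRingCat.ofHom (Polynomial.mapRingHom ψ.hom)
  let pA : Spec RX ⟶ V.left := Spec.map CR ≫ V.left.isoSpec.inv
  let pW : Spec BX ⟶ U.left := Spec.map CB ≫ U.left.isoSpec.inv
  let A : Over S := Over.mk (pA ≫ V.hom)
  let W : Over S := Over.mk (pW ≫ U.hom)
  let πA : A ⟶ V := Over.homMk pA rfl
  let πW : W ⟶ U := Over.homMk pW rfl
  have hnat : Spec.map ψ ≫ V.left.isoSpec.inv = U.left.isoSpec.inv ≫ φU.left :=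
    Scheme.isoSpec_inv_naturality φU.left
  have sqA : IsPullback (Spec.map ψX) pW pA φU.left := by
    let _ := ψ.hom.toAlgebra
    have h1 : IsPullback (Spec.map ψX) (Spec.map CB) (Spec.map CR) (Spec.map ψ) :=
      (isPullback_SpecMap_of_isPushout CR ψ ψX CB
        (CommRingCat.isPushout_of_isPushout Γ(V.left, ⊤) Γ(V.left, ⊤)[X] Γ(U.left, ⊤) Γ(U.left, ⊤)[X]))
    exact h1.paste_vert (IsPullback.of_vert_isIso ⟨hnat⟩)
  let qW : W ⟶ A := Over.homMk (Spec.map ψX) (by
    change Spec.map ψX ≫ pA ≫ V.hom = pW ≫ U.hom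
    rw [reassoc_of% sqA.w, Over.w φU])
  have sqAO : IsPullback ((AlgSp.yon S).map qW) ((AlgSp.yon S).map πW) ((AlgSp.yon S).map πA) (a ≫ f.hom) := by
    rw [← (AlgSp.yon S).map_preimage (a ≫ f.hom)]
    have h0 : IsPullback qW πW πA φU := IsPullback.of_map (Over.forget S) (Over.OverMorphism.ext sqA.w) sqA
    exact h0.map (AlgSp.yon S)
  -- `X × 𝔸¹`
  let P := pullback f.hom ((AlgSp.yon S).map πA)
  let a' : (AlgSp.yon S).obj W ⟶ P := pullback.lift ((AlgSp.yon S).map πW ≫ a) ((AlgSp.yon S).map qW)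
    ((Category.assoc _ _ _).trans sqAO.w.symm)
  have sqP : IsPullback ((AlgSp.yon S).map πW) a' a (pullback.fst f.hom ((AlgSp.yon S).map πA)) := by
    refine IsPullback.of_bot ?_ (pullback.lift_fst _ _ _).symm (IsPullback.of_hasPullback f.hom ((AlgSp.yon S).map πA))
    rw [pullback.lift_snd]
    exact sqAO.flip
  have ha' : AlgSp.RepWith @Etale a' := repWith_of_isPullback sqP ha
  have has' : AlgSp.RepWith @Surjective a' := repWith_of_isPullback sqP has
  let e : Γ(U.left, ⊤)[X] := 1 - Polynomial.C sU * Polynomial.X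
  let Ce : Set ↥W.left := (PrimeSpectrum.zeroLocus {e} : Set (PrimeSpectrum Γ(U.left, ⊤)[X]))
  let T : Set (AlgSp.Points P) := AlgSp.Points.ofPt a' '' Ce
  have hsat : AlgSp.Points.ofPt a' ⁻¹' T = Ce := by
    refine Set.Subset.antisymm ?_ fun w hw => ⟨w, hw, rfl⟩
    rintro w' ⟨w, hw, hww⟩
    obtain ⟨z, hz, hz'⟩ := exists_ofPt_of_eq (ha'.rep.isPullback' a') hww
    let p := ha'.rep.fst' a'
    let q := ha'.rep.snd a'
    let K : CommRingCat.{u} := (ha'.rep.pullback a').left.residueField z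
    let ι : Spec K ⟶ (ha'.rep.pullback a').left := (ha'.rep.pullback a').left.fromSpecResidueField z
    let χp : BX ⟶ K := Spec.preimage (ι ≫ p.left)
    let χq : BX ⟶ K := Spec.preimage (ι ≫ q.left)
    have hpt : ∀ (r : ha'.rep.pullback a' ⟶ W) (χ : BX ⟶ K), Spec.map χ = ι ≫ r.left →
        (r.left z ∈ Ce ↔ χ.hom e = 0) := by
      intro r χ hχ
      have : r.left z = Spec.map χ (IsLocalRing.closedPoint K) := by
        rw [hχ, Scheme.Hom.comp_apply]
        exact congrArg r.left (Scheme.fromSpecResidueField_apply _ _).symm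
      rw [this]
      change {e} ⊆ ((Ideal.comap χ.hom (IsLocalRing.maximalIdeal K)) : Set _) ↔ _
      rw [IsLocalRing.maximalIdeal_eq_bot, Set.singleton_subset_iff]
      rfl
    have hpq : (AlgSp.yon S).map (p ≫ πW) ≫ a = (AlgSp.yon S).map (q ≫ πW) ≫ a := by
      have := congrArg (· ≫ pullback.fst f.hom ((AlgSp.yon S).map πA)) (ha'.rep.isPullback' a').w
      simp only [a', Category.assoc, pullback.lift_fst] at this
      simpa only [Functor.map_comp, Category.assoc] using this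
    have hpq' : p ≫ qW = q ≫ qW := by
      apply (AlgSp.yon S).map_injective
      have := congrArg (· ≫ pullback.snd f.hom ((AlgSp.yon S).map πA)) (ha'.rep.isPullback' a').w
      simp only [a', Category.assoc, pullback.lift_snd] at this
      simpa only [Functor.map_comp] using this
    -- the function agrees
    let R2 := ha.rep.pullback a
    let r₁ : R2 ⟶ U := ha.rep.fst' a
    let r₂ : R2 ⟶ U := ha.rep.snd a
    obtain ⟨l, hl⟩ := (AlgSp.yon S).map_surjective ((ha.rep.isPullback' a).lift _ _ hpq)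
    have hl1 : l ≫ r₁ = p ≫ πW := (AlgSp.yon S).map_injective (by
      rw [Functor.map_comp, hl]; exact (ha.rep.isPullback' a).lift_fst _ _ _)
    have hl2 : l ≫ r₂ = q ≫ πW := (AlgSp.yon S).map_injective (by
      rw [Functor.map_comp, hl]; exact (ha.rep.isPullback' a).lift_snd _ _ _)
    have : Etale r₂.left := ha.property_snd a
    have hE2 : AlgSp.RepWith @Etale ((AlgSp.yon S).map r₂ ≫ a) :=
      repWith_comp ((AlgSp.repWith_yon_map_iff _ r₂).2 this) ha
    let E2 : AlgSp.EtOver X.obj := AlgSp.EtOver.mk ((AlgSp.yon S).map r₂ ≫ a) hE2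
    let g₁ : E2 ⟶ EU := AlgSp.EtOver.homMk r₁ (ha.rep.isPullback' a).w
    let g₂ : E2 ⟶ EU := AlgSp.EtOver.homMk r₂ rfl
    have hr : r₁.left.appTop.hom sU = r₂.left.appTop.hom sU := (hsec g₁).trans (hsec g₂).symm
    have hC : ∀ (r : ha'.rep.pullback a' ⟶ W) (r' : R2 ⟶ U) (χ : BX ⟶ K), Spec.map χ = ι ≫ r.left →
        l ≫ r' = r ≫ πW → χ.hom (Polynomial.C sU) = (ev (ι ≫ l.left)).hom (r'.left.appTop.hom sU) := by
      intro r r' χ hχ hl'
      have h1 : Spec.map (CB ≫ χ) ≫ U.left.isoSpec.inv = (ι ≫ l.left) ≫ r'.left := by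
        rw [Spec.map_comp, hχ, Category.assoc, Category.assoc, Category.assoc, ← Over.comp_left, hl',
          Over.comp_left]
        rfl
      have h2 := congrArg ev h1
      rw [ev_map, ev_comp] at h2
      exact congrArg (fun φ => φ.hom sU) h2
    have hC' : χp.hom (Polynomial.C sU) = χq.hom (Polynomial.C sU) :=
      (hC p r₁ χp (Spec.map_preimage _) hl1).trans ((congrArg _ hr).trans (hC q r₂ χq (Spec.map_preimage _) hl2).symm)
    have hX' : χp.hom Polynomial.X = χq.hom Polynomial.X := by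
      have h0 : ψX ≫ χp = ψX ≫ χq := by
        apply Spec.map_injective
        rw [Spec.map_comp, Spec.map_comp, Spec.map_preimage, Spec.map_preimage, Category.assoc, Category.assoc]
        exact congrArg (ι ≫ ·) (congrArg CommaMorphism.left hpq')
      have h := congrArg (fun φ => φ.hom Polynomial.X) h0
      have h1 : (Polynomial.mapRingHom ψ.hom) Polynomial.X = Polynomial.X := Polynomial.map_X _
      exact (congrArg χp.hom h1).symm.trans (h.trans (congrArg χq.hom h1))
    have hee : χp.hom e = χq.hom e := by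
      simp only [e, map_sub, map_mul, map_one, hC', hX']
    rw [← hz']
    rw [← hz] at hw
    exact (hpt q χq (Spec.map_preimage _)).2 (hee.symm.trans ((hpt p χp (Spec.map_preimage _)).1 hw))
  have hTcl : IsClosed T := by
    rw [← isOpen_compl_iff, isOpen_iff_chart ha' has', Set.preimage_compl, hsat]
    exact (PrimeSpectrum.isClosed_zeroLocus _).isOpen_compl
  have hcl : IsClosed (AlgSp.Points.map (pullback.snd f.hom ((AlgSp.yon S).map πA)) '' T) :=
    huc (AlgSp.IsAlgSpace.yon_obj A) ((AlgSp.yon S).map πA) _ _ (IsPullback.of_hasPullback _ _) T hTcl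
  let Z : Set (PrimeSpectrum Γ(V.left, ⊤)[X]) := AlgSp.Points.ofPt (𝟙 ((AlgSp.yon S).obj A)) ⁻¹'
    (AlgSp.Points.map (pullback.snd f.hom ((AlgSp.yon S).map πA)) '' T)
  have hZ : IsClosed Z := by
    refine isOpen_compl_iff.1 ?_
    exact AlgSp.Points.isOpen_iff.1 hcl.isOpen_compl A (𝟙 _)
  have hofPt : ∀ z : ↥A.left, AlgSp.Points.toScheme A (AlgSp.Points.ofPt (𝟙 ((AlgSp.yon S).obj A)) z) = z :=
    fun z => by
    rw [← CategoryTheory.Functor.map_id (AlgSp.yon S) A, AlgSp.Points.toScheme_ofPt]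
    rfl
  have hZmem : ∀ w ∈ Ce, qW.left w ∈ Z := by
    intro w hw
    refine ⟨_, ⟨w, hw, rfl⟩, ?_⟩
    rw [AlgSp.Points.map_ofPt, pullback.lift_snd]
    exact (congrArg (AlgSp.Points.ofPt · w) (Category.comp_id _).symm).trans (ofPt_comp qW (𝟙 _) w)
  have hZsub : ∀ z ∈ Z, ∃ w ∈ Ce, qW.left w = z := by
    rintro z ⟨_, ⟨w, hw, rfl⟩, hzw⟩
    refine ⟨w, hw, ?_⟩
    rw [AlgSp.Points.map_ofPt, pullback.lift_snd] at hzw
    have h1 := congrArg (AlgSp.Points.toScheme A) hzw
    rw [AlgSp.Points.toScheme_ofPt] at h1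
    exact h1.trans (hofPt z)
  obtain ⟨J, hJ⟩ := (PrimeSpectrum.isClosed_iff_zeroLocus_ideal Z).1 hZ
  have hJX : J ⊔ Ideal.span {Polynomial.X} = ⊤ := by
    rw [← PrimeSpectrum.zeroLocus_empty_iff_eq_top, PrimeSpectrum.zeroLocus_sup, Set.eq_empty_iff_forall_notMem]
    rintro z ⟨hzJ, hzX⟩
    obtain ⟨w, hw, rfl⟩ := hZsub z (hJ ▸ hzJ)
    have hX1 : (Polynomial.mapRingHom ψ.hom) Polynomial.X ∈ (w : PrimeSpectrum Γ(U.left, ⊤)[X]).asIdeal :=
      hzX (Ideal.subset_span rfl)
    have he : e ∈ (w : PrimeSpectrum Γ(U.left, ⊤)[X]).asIdeal := hw rfl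
    rw [Polynomial.coe_mapRingHom, Polynomial.map_X] at hX1
    refine (w : PrimeSpectrum Γ(U.left, ⊤)[X]).isPrime.ne_top ((Ideal.eq_top_iff_one _).2 ?_)
    have := Ideal.add_mem _ he (Ideal.mul_mem_left _ (Polynomial.C sU) hX1)
    simpa [e] using this
  obtain ⟨q, hqJ, y, hy, hqy⟩ := Submodule.mem_sup.1 (hJX ▸ Submodule.mem_top : (1 : Γ(V.left, ⊤)[X]) ∈ _)
  have hq0 : q.coeff 0 = 1 := by
    obtain ⟨y', rfl⟩ := Ideal.mem_span_singleton'.1 hy
    have := congrArg (Polynomial.coeff · 0) hqy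
    simpa using this
  have hrad : q.map ψ.hom ∈ (Ideal.span {e}).radical := by
    rw [← PrimeSpectrum.vanishingIdeal_zeroLocus_eq_radical, PrimeSpectrum.mem_vanishingIdeal,
      PrimeSpectrum.zeroLocus_span]
    intro w hw
    have : qW.left w ∈ (PrimeSpectrum.zeroLocus (J : Set Γ(V.left, ⊤)[X]) : Set _) := hJ ▸ hZmem w hw
    exact this hqJ
  obtain ⟨p, hpm, hp⟩ := exists_monic_of_radical ψ.hom sU q hq0 hrad
  refine ⟨p, hpm, fun E => ?_⟩
  let R3 := ha.rep.pullback E.obj.hom
  let u₁ : R3 ⟶ U := ha.rep.fst' E.obj.hom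
  let u₂ : R3 ⟶ E.obj.left := ha.rep.snd E.obj.hom
  have he2 : Etale u₂.left := ha.property_snd E.obj.hom
  have : Surjective u₂.left := has.property _ _ _ (ha.rep.isPullback E.obj.hom)
  have hE3 : AlgSp.RepWith @Etale ((AlgSp.yon S).map u₂ ≫ E.obj.hom) :=
    repWith_comp ((AlgSp.repWith_yon_map_iff _ u₂).2 he2) E.property
  let E3 : AlgSp.EtOver X.obj := AlgSp.EtOver.mk ((AlgSp.yon S).map u₂ ≫ E.obj.hom) hE3
  let g₁ : E3 ⟶ EU := AlgSp.EtOver.homMk u₁ (ha.rep.isPullback' E.obj.hom).w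
  let g₂ : E3 ⟶ E := AlgSp.EtOver.homMk u₂ rfl
  have hφ : u₂ ≫ (AlgSp.yon S).preimage (E.obj.hom ≫ f.hom) = u₁ ≫ φU := (AlgSp.yon S).map_injective (by
    simp only [φU, Functor.map_comp, Functor.map_preimage]
    exact ((Category.assoc _ _ _).symm.trans (congrArg (· ≫ f.hom) (ha.rep.isPullback' E.obj.hom).w.symm)).trans
      (Category.assoc _ _ _))
  apply appTop_injective_of_flat_surjective u₂.left
  rw [map_zero, Polynomial.hom_eval₂, ← CommRingCat.hom_comp, ← Scheme.Hom.comp_appTop, ← Over.comp_left, hφ,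
    show u₂.left.appTop.hom ((limit.π (AlgSp.OEt X.obj).obj (op E)) s).down = u₁.left.appTop.hom sU from
      (hsec g₂).trans (hsec g₁).symm,
    Over.comp_left, Scheme.Hom.comp_appTop, CommRingCat.hom_comp, ← Polynomial.hom_eval₂, hp, map_zero]

end Groth.Agent.S10331
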