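import Groth.Statements.S10335
import Groth.Agent.AlgSpDec.ResTrdeg
import Groth.Agent.AlgSpDec.BaseChangeCharts
import Groth.Agent.DimFormula.Fibre
import Groth.Agent.FibDim.RelDim
-- import your own Groth.Agent.* helpers here

set_option autoImplicit false
universe u
open CategoryTheory CategoryTheory.Limits AlgebraicGeometry
open AlgSp

set_option backward.isDefEq.respectTransparency false
set_option backward.isDefEq.respectTransparency.types false

open Groth.Agent.AlgSpLib Groth.Agent.AlgSpPts Groth.Agent.AlgSpDec Groth.Agent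

namespace Groth.Agent.S10335

theorem fb_add_rd {X Y X' Y' : Scheme.{u}} {p : X' ⟶ X} {q : X' ⟶ Y'} {f : X ⟶ Y} {g : Y' ⟶ Y}
    [LocallyOfFiniteType f] [LocallyOfFiniteType q] (h : IsPullback p q f g) (z : X') :
    DimFormula.fb q z + FibDim.rd q z = DimFormula.fb f (p z) + FibDim.rd f (p z) := by
  have := FibDim.fibreDimAt_baseChange h z
  rw [DimFormula.fibreDimAt_eq_add, DimFormula.fibreDimAt_eq_add] at this
  have h' : FibDim.rd q z + DimFormula.fb q z = FibDim.rd f (p z) + DimFormula.fb f (p z) := by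
    exact_mod_cast this
  omega

theorem exists_minimal {X Y X' Y' : Scheme.{u}} {p : X' ⟶ X} {q : X' ⟶ Y'} {f : X ⟶ Y} {g : Y' ⟶ Y}
    [LocallyOfFiniteType f] [LocallyOfFiniteType q] (h : IsPullback p q f g) (z : X') :
    ∃ v, p v = p z ∧ q v = q z ∧ FibDim.rd q v = FibDim.rd f (p v) := by
  have key : ∀ n v, p v = p z → q v = q z → FibDim.rd f (p z) - FibDim.rd q v = n →
      ∃ v, p v = p z ∧ q v = q z ∧ FibDim.rd q v = FibDim.rd f (p v) := by
    intro n
    induction n using Nat.strong_induction_on with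
    | h n ih =>
      intro v hp hq hn
      by_cases hmin : ∀ w, w ⤳ v → p w = p v → q w = q v → w = v
      · exact ⟨v, hp, hq, FibDim.rd_baseChange_eq_of_minimal h v hmin⟩
      · push Not at hmin
        obtain ⟨w, hw, hpw, hqw, hne⟩ := hmin
        have h1 := FibDim.rd_lt q hw hne hqw
        have h2 := FibDim.rd_baseChange_le h w
        rw [hpw, hp] at h2
        exact ih _ (by omega) w (hpw.trans hp) (hqw.trans hq) rfl
  exact key _ z rfl rfl rfl

theorem eq_fb_of_hasAtMor {S : Scheme.{u}} {F G : AlgSp.Sp S} {f : F ⟶ G}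
    (hf : AlgSp.LocP @LocallyOfFiniteType f) {U V : Over S} {a : (AlgSp.yon S).obj U ⟶ F}
    {b : (AlgSp.yon S).obj V ⟶ G} {h : U ⟶ V} [LocallyOfFiniteType h.left] (ha : AlgSp.RepWith @Etale a)
    (hb : AlgSp.RepWith @Etale b) (w : a ≫ f = (AlgSp.yon S).map h ≫ b) (u : ↥U.left) {e : WithBot ℕ∞}
    (he : AlgSp.HasAtMor (fun _ _ h u => ringKrullDim ↥((h.fiber (h u)).presheaf.stalk (h.asFiber u)) = e)
      f (AlgSp.Points.ofPt a u)) :
    e = ((DimFormula.fb h.left u : ℕ∞) : WithBot ℕ∞) := by
  obtain ⟨U', V', a', b', h', u', ha', hb', w', hx, hu⟩ := he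
  have : LocallyOfFiniteType h'.left := hf a' b' h' ha' hb' w'
  rw [← hu, DimFormula.ringKrullDim_stalk_fibre]
  have h1 := ResTrdeg.rdeg_congr ha hb w ha' hb' w' hx.symm
  rw [← FibDim.rd_eq_rdeg, ← FibDim.rd_eq_rdeg] at h1
  have h1' : FibDim.rd h.left u = FibDim.rd h'.left u' := by exact_mod_cast h1
  have h2 := RelDimSp.fibreDimAt_congr hf ha hb w ha' hb' w' hx.symm
  rw [DimFormula.fibreDimAt_eq_add, DimFormula.fibreDimAt_eq_add] at h2
  have h2' : FibDim.rd h.left u + DimFormula.fb h.left u = FibDim.rd h'.left u' + DimFormula.fb h'.left u' := by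
    exact_mod_cast h2
  rw [show DimFormula.fb h'.left u' = DimFormula.fb h.left u by omega]
  rfl

theorem eq_rd_of_hasAtMor {S : Scheme.{u}} {F G : AlgSp.Sp S} {f : F ⟶ G}
    {U V : Over S} {a : (AlgSp.yon S).obj U ⟶ F}
    {b : (AlgSp.yon S).obj V ⟶ G} {h : U ⟶ V} [LocallyOfFiniteType h.left] (ha : AlgSp.RepWith @Etale a)
    (hb : AlgSp.RepWith @Etale b) (w : a ≫ f = (AlgSp.yon S).map h ≫ b) (u : ↥U.left) {r : Cardinal.{u}}
    (hr : AlgSp.HasAtMor (fun _ _ h u => Dual3.resTrdeg h u = r) f (AlgSp.Points.ofPt a u)) :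
    (Cardinal.toENat r : ℕ∞) = (FibDim.rd h.left u : ℕ∞) := by
  rw [← (ResTrdeg.hasAtMor_iff ha hb w u r).1 hr, ← FibDim.rd_eq_rdeg, Cardinal.toENat_nat]


/-- In a base change square of algebraic spaces with f : X -> Y locally of finite type and f' : X' -> Y'
its base change along g : Y' -> Y, take a point x' of X' over x. The fibre of f' has a local ring at
x' whose dimension exceeds the corresponding dimension for the fibre of f at x by exactly the
transcendence degree of x over f(x) minus that of x' over f'(x'), and this excess is never negative;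
and for x in X and y' in Y' over the same point of Y some x' over both has excess zero. All four
quantities are read on some chart diagram through the point. -/
theorem result {S : Scheme.{u}} {X Y Y' X' : AlgSp.Space S} (f : X ⟶ Y) (g : Y' ⟶ Y)
    (g' : X' ⟶ X) (f' : X' ⟶ Y') (sq : IsPullback g'.hom f'.hom f.hom g.hom)
    (hf : AlgSp.LocP @LocallyOfFiniteType f.hom) :
    (∀ (x' : AlgSp.Points X'.obj) (e e' : WithBot ℕ∞) (r r' : Cardinal.{u}),
      AlgSp.HasAtMor (fun _ _ h u => ringKrullDim ↥((h.fiber (h u)).presheaf.stalk (h.asFiber u)) = e) f.hom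
          (AlgSp.Points.map g'.hom x') →
      AlgSp.HasAtMor (fun _ _ h u => Dual3.resTrdeg h u = r) f.hom (AlgSp.Points.map g'.hom x') →
      AlgSp.HasAtMor (fun _ _ h u => ringKrullDim ↥((h.fiber (h u)).presheaf.stalk (h.asFiber u)) = e') f'.hom x' →
      AlgSp.HasAtMor (fun _ _ h u => Dual3.resTrdeg h u = r') f'.hom x' →
        e' + ((Cardinal.toENat r' : ℕ∞) : WithBot ℕ∞) = e + ((Cardinal.toENat r : ℕ∞) : WithBot ℕ∞) ∧ e ≤ e') ∧
    (∀ (x : AlgSp.Points X.obj) (y' : AlgSp.Points Y'.obj) (e : WithBot ℕ∞),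
      AlgSp.Points.map f.hom x = AlgSp.Points.map g.hom y' →
      AlgSp.HasAtMor (fun _ _ h u => ringKrullDim ↥((h.fiber (h u)).presheaf.stalk (h.asFiber u)) = e) f.hom x →
        ∃ x' : AlgSp.Points X'.obj, AlgSp.Points.map g'.hom x' = x ∧ AlgSp.Points.map f'.hom x' = y' ∧
          AlgSp.HasAtMor (fun _ _ h u => ringKrullDim ↥((h.fiber (h u)).presheaf.stalk (h.asFiber u)) = e)
            f'.hom x') := by
  obtain ⟨U, V, W, a, b, c, h, h₁, a', ha, hb, hc, w, ha', hs', w', w''⟩ :=
    exists_baseChange_charts sq X.property Y.property Y'.property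
  haveI hl : LocallyOfFiniteType h.left := hf a b h ha hb w
  haveI : LocallyOfFiniteType ((Over.forget S).map h) := hl
  have sq' := (IsPullback.of_hasPullback h h₁).map (Over.forget S)
  haveI hl' : LocallyOfFiniteType ((Over.forget S).map (pullback.snd h h₁)) :=
    MorphismProperty.of_isPullback (P := @LocallyOfFiniteType) sq' hl
  haveI : LocallyOfFiniteType (pullback.snd h h₁).left := hl'
  have hf' : AlgSp.LocP @LocallyOfFiniteType f'.hom :=
    locP_of_isPullback sq X.property Y.property Y'.property hf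
  have hmap : ∀ z, AlgSp.Points.map g'.hom (AlgSp.Points.ofPt a' z) =
      AlgSp.Points.ofPt a ((pullback.fst h h₁).left z) := fun z => by
    rw [AlgSp.Points.map_ofPt, w'', ofPt_comp]
  refine ⟨?_, ?_⟩
  · intro x' e e' r r' he hr he' hr'
    obtain ⟨z, rfl⟩ := surjective_ofPt hs' x'
    rw [hmap z] at he hr
    have h1 := fb_add_rd sq' z
    have h2 := FibDim.rd_baseChange_le sq' z
    rw [eq_fb_of_hasAtMor hf ha hb w _ he, eq_fb_of_hasAtMor hf' ha' hc w' _ he',
      eq_rd_of_hasAtMor ha hb w _ hr, eq_rd_of_hasAtMor ha' hc w' _ hr']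
    simp only [Over.forget_map] at h1 h2
    refine ⟨?_, ?_⟩
    · exact_mod_cast h1
    · exact_mod_cast (show DimFormula.fb h.left ((pullback.fst h h₁).left z) ≤
        DimFormula.fb (pullback.snd h h₁).left z by omega)
  · intro x y' e hxy he
    obtain ⟨z₀, hz₁, hz₂⟩ := exists_point_of_isPullback sq hxy
    obtain ⟨z, rfl⟩ := surjective_ofPt hs' z₀
    obtain ⟨v, hpv, hqv, hrd⟩ := exists_minimal sq' z
    simp only [Over.forget_map] at hrd
    refine ⟨AlgSp.Points.ofPt a' v, ?_, ?_, ?_⟩
    · exact (hmap v).trans ((congrArg (AlgSp.Points.ofPt a) hpv).trans ((hmap z).symm.trans hz₁))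
    · rw [← hz₂, AlgSp.Points.map_ofPt, AlgSp.Points.map_ofPt, w', ofPt_comp, ofPt_comp]
      exact congrArg (AlgSp.Points.ofPt c) hqv
    · rw [← hz₁, hmap z] at he
      rw [eq_fb_of_hasAtMor hf ha hb w _ he]
      refine ⟨_, W, a', c, pullback.snd h h₁, v, ha', hc, w', rfl, ?_⟩
      refine (DimFormula.ringKrullDim_stalk_fibre (pullback.snd h h₁).left v).trans ?_
      have h1 := fb_add_rd sq' v
      simp only [Over.forget_map] at h1
      have h3 : DimFormula.fb h.left ((pullback.fst h h₁).left v) =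
          DimFormula.fb h.left ((pullback.fst h h₁).left z) := congrArg (DimFormula.fb h.left) hpv
      exact_mod_cast (show DimFormula.fb (pullback.snd h h₁).left v =
        DimFormula.fb h.left ((pullback.fst h h₁).left z) by omega)

end Groth.Agent.S10335
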