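import Groth.Statements.S10376
import Groth.Agent.RelNorm.Main
import Groth.Agent.AlgSpPts.Sep
import Groth.Agent.AlgSpLib.AffineDescProps
import Groth.Agent.AlgSpLib.EtaleSmoothLocal

set_option autoImplicit false
set_option backward.isDefEq.respectTransparency false
set_option backward.isDefEq.respectTransparency.types false
universe u
open CategoryTheory CategoryTheory.Limits AlgebraicGeometry Topology TopologicalSpace
open AlgSp Groth.Agent.AlgSpLib Groth.Agent.AlgSpDec Groth.Agent.AlgSpPts Groth.Agent.RelNorm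

namespace Groth.Agent.S10376

/-- Let S be a scheme, Y and V algebraic spaces over S, j : V ⟶ Y a quasi-compact open immersion, and π
: Z ⟶ V an integral morphism. Then one can find an integral morphism ν : Y' ⟶ Y for which Z is
isomorphic over V to the preimage in Y' of V: there is j' : Z ⟶ Y' making the square (j', π, ν, j)
cartesian. -/
theorem result {S : Scheme.{u}} {V Y Z : AlgSp.Space S} (j : V ⟶ Y)
    (hj : AlgSp.RepWith @IsOpenImmersion j.hom) (hjq : AlgSp.IsQuasiCompactMor j.hom) (π : Z ⟶ V)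
    (hπ : AlgSp.IsIntegralMor π.hom) :
    ∃ (Y' : AlgSp.Space S) (ν : Y' ⟶ Y) (j' : Z ⟶ Y'), AlgSp.IsIntegralMor ν.hom ∧
      IsPullback j'.hom π.hom ν.hom j.hom := by
  have hπr := isIntegralMor_iff_repWith.1 hπ
  have hπqc : IsQuasiCompactMor π.hom := isQuasiCompactMor_of_repWith
    (repWith_mono (fun _ _ k (_ : IsIntegralHom k) => inferInstanceAs (QuasiCompact k)) _ hπr)
  have hπs : IsSeparatedMor π.hom := isSeparatedMor_of_repWith
    (repWith_mono (fun _ _ k (_ : IsIntegralHom k) => inferInstanceAs (IsSeparated k)) _ hπr)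
  have hjs : IsSeparatedMor j.hom := isSeparatedMor_of_repWith
    (repWith_mono (fun _ _ k (_ : IsOpenImmersion k) => inferInstanceAs (IsSeparated k)) _ hj)
  have hqs : IsQuasiSeparatedMor (π.hom ≫ j.hom) := isQuasiSeparatedMor_comp
    (repWith_mono (fun _ _ k (_ : IsClosedImmersion k) => inferInstanceAs (QuasiCompact k)) _ hπs)
    (repWith_mono (fun _ _ k (_ : IsClosedImmersion k) => inferInstanceAs (QuasiCompact k)) _ hjs)
  obtain ⟨Y', ν, f', hY', hs⟩ := exists_stabNorm Z.property Y.property (π.hom ≫ j.hom)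
    (isQuasiCompactMor_comp V.property Y.property hπqc hjq) hqs
  have : Mono j.hom := mono_of_openImmersion hj
  have sqZ : IsPullback (𝟙 Z.obj) π.hom (π.hom ≫ j.hom) j.hom :=
    IsPullback.of_horiz_isIso_mono ⟨by rw [Category.id_comp]⟩
  have sqN := IsPullback.of_hasPullback ν j.hom
  let g : Z.obj ⟶ pullback ν j.hom := pullback.lift f' π.hom hs.fac
  have hn : IsRelNormalization π.hom (pullback.snd ν j.hom) g :=
    hs.normAt Y.property V.property (isEtaleMor_of_repWith_isOpenImmersion hj) _ _ _ _ g sqZ sqN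
      (pullback.lift_snd _ _ _) (by rw [pullback.lift_fst, Category.id_comp])
  have hid : IsRelNormalization π.hom π.hom (𝟙 Z.obj) :=
    ⟨Category.id_comp _, hπ, fun Z' _ τ γ _ hγ => ⟨γ, ⟨Category.id_comp _, hγ⟩, fun k hk => by
      rw [← hk.1, Category.id_comp]⟩⟩
  obtain ⟨e, he1, he2⟩ := exists_iso V.property hid hn
  rw [Category.id_comp] at he1
  have hj' : e.hom ≫ pullback.fst ν j.hom = f' := by rw [he1, pullback.lift_fst]
  exact ⟨⟨Y', hY'⟩, ObjectProperty.homMk ν, ObjectProperty.homMk f', hs.integral,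
    sqN.of_iso e.symm (Iso.refl _) (Iso.refl _) (Iso.refl _) (by simp [← hj']) (by simp [← he2]) (by simp) (by simp)⟩

end Groth.Agent.S10376
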