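import Groth.Statements.S10389
import Groth.Agent.MonoFib.Basic

set_option autoImplicit false
set_option backward.isDefEq.respectTransparency false
set_option backward.isDefEq.respectTransparency.types false
universe u
open CategoryTheory CategoryTheory.Limits AlgebraicGeometry Topology TopologicalSpace
open AlgSp

namespace Groth.Agent.S10389

/-- Let W = X ×_Y Z be a fibre product of algebraic spaces over a scheme S with projections p, q, and
let x ∈ |X|, z ∈ |Z| lie over the same point y ∈ |Y|. If y is represented by a monomorphism Spec k ⟶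
Y from the spectrum of a field and g : Z ⟶ Y is quasi-finite at z, then the set of points of |W|
mapping to x and to z is finite. (Special case: Y decent and g etale.) -/
theorem result {S : Scheme.{u}} {X Y Z W : AlgSp.Space S} (f : X ⟶ Y)
    (g : Z ⟶ Y) (p : W ⟶ X) (q : W ⟶ Z) (hW : IsPullback p.hom q.hom f.hom g.hom) (x : AlgSp.Points X.obj)
    (z : AlgSp.Points Z.obj) (hxz : AlgSp.Points.map f.hom x = AlgSp.Points.map g.hom z)
    (hy : ∃ r : AlgSp.FieldPt Y.obj, AlgSp.Points.mk r = AlgSp.Points.map g.hom z ∧ Mono r.toHom)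
    (hg : AlgSp.HasAtMor (fun U _ h u => ∃ W : U.Opens, u ∈ W ∧ LocallyQuasiFinite (W.ι ≫ h) ∧ LocallyOfFiniteType (W.ι ≫ h)) g.hom z) :
    {w : AlgSp.Points W.obj | AlgSp.Points.map p.hom w = x ∧ AlgSp.Points.map q.hom w = z}.Finite := by
  obtain ⟨U, V, a, b, h, u, -, hb, w, rfl, O, huO, hl, -⟩ := hg
  obtain ⟨r, hr, _⟩ := hy
  refine MonoFib.finite_points_over_of_chart Y.property hW hb w ?_ r hr.symm x (hxz.trans hr.symm)
  let i := IsOpenImmersion.lift O.ι (U.left.fromSpecResidueField u) (by
    rw [Scheme.range_fromSpecResidueField, Scheme.Opens.range_ι]; exact Set.singleton_subset_iff.2 huO)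
  have hi : i ≫ O.ι = U.left.fromSpecResidueField u := IsOpenImmersion.lift_fac _ _ _
  have : LocallyQuasiFinite (i ≫ O.ι) := by rw [hi]; infer_instance
  have : LocallyQuasiFinite i := LocallyQuasiFinite.of_comp i O.ι
  rw [← hi, Category.assoc]
  infer_instance

end Groth.Agent.S10389
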