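import Groth.Statements.S10393
import Groth.Agent.AlgSpDec.OnePoint
import Groth.Agent.AlgSpDec.OpenGlue
import Groth.Agent.AlgSpDec.DecentMor
import Groth.Agent.AlgSpDec.RedInduced
import Groth.Agent.AlgSpDec.LimOpen
import Groth.Agent.AlgSpPts.OpenSub
import Groth.Agent.S10045

set_option autoImplicit false
set_option backward.isDefEq.respectTransparency false
set_option backward.isDefEq.respectTransparency.types false
universe u
open CategoryTheory CategoryTheory.Limits AlgebraicGeometry Topology TopologicalSpace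
open AlgSp

namespace Groth.Agent.S10393

/-- Let S be a scheme, Y a scheme over S whose underlying topological space is discrete (equivalently, Y
is a disjoint union of spectra of local rings of dimension zero), and X an algebraic space over S
with a monomorphism X ⟶ Y over S. Then X is a scheme. -/
theorem result {S : Scheme.{u}} (Y : Over S) [DiscreteTopology ↥Y.left]
    (X : AlgSp.Space S) (f : X ⟶ (AlgSp.ofScheme S).obj Y) [Mono f.hom] : X.obj.obj.IsRepresentable := by
  have hqs : AlgSp.IsQuasiSeparatedMor f.hom := by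
    haveI : IsIso (pullback.diagonal f.hom) := inferInstance
    exact AlgSpLib.repWith_of_isIso _ _
  have hXd : AlgSp.IsDecent X.obj := AlgSpDec.isDecent_of_isDecentMor X.property f.hom
    (AlgSpDec.isDecentMor_of_isQuasiSeparatedMor X.property (AlgSp.IsAlgSpace.yon_obj Y) f.hom hqs)
    (AlgSpDec.isDecent_yon Y)
  have hinj := AlgSpDec.injective_points_map_of_mono f.hom
  have hopen : ∀ x : AlgSp.Points X.obj, IsOpen ({x} : Set (AlgSp.Points X.obj)) := fun x => by
    haveI : DiscreteTopology (AlgSp.Points ((AlgSp.ofScheme S).obj Y).obj) :=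
      (AlgSp.Points.schemeHomeo Y).symm.isEmbedding.discreteTopology
    rw [← hinj.preimage_image {x}]
    exact (isOpen_discrete _).preimage (AlgSp.Points.continuous_map f.hom)
  have piece : ∀ x : AlgSp.Points X.obj, ∃ (T : Over S) (j : (AlgSp.yon S).obj T ⟶ X.obj),
      AlgSp.RepWith @IsOpenImmersion j ∧ ∃ t, AlgSp.Points.ofPt j t = x := by
    intro x
    obtain ⟨Z₀, j, hZ₀, hj, hr⟩ := AlgSpPts.exists_open_subspace X.property (hopen x)
    let Z : AlgSp.Space S := ⟨Z₀, hZ₀⟩
    haveI := AlgSpDec.mono_of_openImm hj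
    have hji := AlgSpDec.injective_points_map_of_mono j
    haveI : Subsingleton (AlgSp.Points Z.obj) := ⟨fun a b => hji
      ((hr.le ⟨a, rfl⟩ : _ = x).trans (hr.le ⟨b, rfl⟩ : _ = x).symm)⟩
    haveI : Nonempty (AlgSp.Points Z.obj) := ⟨(hr.ge rfl : x ∈ _).choose⟩
    have hZd : AlgSp.IsDecent Z.obj :=
      AlgSpDec.isDecent_of_isDecentMor Z.property j (AlgSpDec.isDecentMor_of_representable X.property j hj.rep) hXd
    obtain ⟨R, k, hk⟩ := AlgSpDec.exists_reduced_induced Z.property (T := Set.univ) isClosed_univ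
    obtain ⟨hkc, hkr, hkred⟩ := id hk
    haveI := AlgSpDec.mono_of_closedImmersion hkc
    have hki := AlgSpDec.injective_points_map_of_mono k
    haveI : Subsingleton (AlgSp.Points R.obj) := ⟨fun a b => hki (Subsingleton.elim _ _)⟩
    haveI : Nonempty (AlgSp.Points R.obj) :=
      ⟨((hkr.ge trivial : Classical.arbitrary (AlgSp.Points Z.obj) ∈ _)).choose⟩
    obtain ⟨K, _, str, ⟨e⟩⟩ := AlgSpDec.exists_iso_field_of_reduced R.property
      (AlgSpDec.isDecent_of_isDecentMor R.property k (AlgSpDec.isDecentMor_of_representable Z.property k hkc.rep) hZd) hkred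
    obtain ⟨T, ⟨r⟩⟩ := (Groth.Agent.S10045.result S Z R (ObjectProperty.homMk k) hk
      (AlgSpDec.isRepresentable_of_iso e)).has_representation
    refine ⟨T, (AlgSp.isoOfRepresentableBy r).hom ≫ j, MorphismProperty.RespectsIso.precomp _ _ _ hj, ?_⟩
    obtain ⟨z, hz⟩ := (hr.ge rfl : x ∈ _)
    obtain ⟨t, ht⟩ := (AlgSp.Points.schemeEquiv T).surjective (AlgSp.Points.map (AlgSp.isoOfRepresentableBy r).inv z)
    refine ⟨t, ?_⟩
    rw [← AlgSp.Points.map_ofPt, AlgSp.Points.ofPt_eq_map_ofScheme, ← hz]
    congr 1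
    show AlgSp.Points.map _ (AlgSp.Points.schemeEquiv T t) = z
    rw [ht, ← AlgSp.Points.map_comp, Iso.inv_hom_id, AlgSp.Points.map_id]
  choose T j hj t ht using piece
  obtain ⟨U, a, ha, has⟩ := X.property.atlas
  obtain ⟨Q, ⟨e⟩, -⟩ := AlgSpDec.exists_iso_of_open_cover (fun u : U.left => T (AlgSp.Points.ofPt a u))
    (fun u => j (AlgSp.Points.ofPt a u)) (fun u => hj _) fun x => by
      obtain ⟨u, rfl⟩ := AlgSpLib.surjective_ofPt has x
      exact ⟨u, t _, ht _⟩
  exact AlgSpDec.isRepresentable_of_iso e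

end Groth.Agent.S10393
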