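import Groth.Statements.S10399
import Groth.Agent.CodimQf.Basic

set_option autoImplicit false
set_option backward.isDefEq.respectTransparency false
set_option backward.isDefEq.respectTransparency.types false
universe u
open CategoryTheory CategoryTheory.Limits AlgebraicGeometry Topology TopologicalSpace
open AlgSp Groth.Agent.AlgSpLib

namespace Groth.Agent.S10399

/-- Let f : X ⟶ Y be a morphism locally of finite type of algebraic spaces over a scheme S and y a
codimension 0 point of Y. The following are equivalent: (1) every point of |X| over y has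
codimension 0 on X; (2) f is quasi-finite at all points over y; (3) f is quasi-finite at all
codimension 0 points of X over y. Stated as (1) ⇔ (2) together with (3) ⇒ (1). -/
theorem result {S : Scheme.{u}} {X Y : AlgSp.Space S} (f : X ⟶ Y)
    (hf : AlgSp.LocP @LocallyOfFiniteType f.hom) (y : AlgSp.Points Y.obj) (hy : AlgSp.HasAt (fun U u => ringKrullDim ↥(U.presheaf.stalk u) = 0) Y.obj y) :
    ((∀ x : AlgSp.Points X.obj, AlgSp.Points.map f.hom x = y → AlgSp.HasAt (fun U u => ringKrullDim ↥(U.presheaf.stalk u) = 0) X.obj x) ↔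
        (∀ x : AlgSp.Points X.obj, AlgSp.Points.map f.hom x = y → AlgSp.HasAtMor (fun U _ h u => ∃ W : U.Opens, u ∈ W ∧ LocallyQuasiFinite (W.ι ≫ h) ∧ LocallyOfFiniteType (W.ι ≫ h)) f.hom x)) ∧
      ((∀ x : AlgSp.Points X.obj, AlgSp.Points.map f.hom x = y → AlgSp.HasAt (fun U u => ringKrullDim ↥(U.presheaf.stalk u) = 0) X.obj x → AlgSp.HasAtMor (fun U _ h u => ∃ W : U.Opens, u ∈ W ∧ LocallyQuasiFinite (W.ι ≫ h) ∧ LocallyOfFiniteType (W.ι ≫ h)) f.hom x) →
        ∀ x : AlgSp.Points X.obj, AlgSp.Points.map f.hom x = y → AlgSp.HasAt (fun U u => ringKrullDim ↥(U.presheaf.stalk u) = 0) X.obj x) := by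
  obtain ⟨U, V, a, b, h, ha, has, hb, -, w⟩ := exists_chart X.property Y.property f.hom
  have hl : LocallyOfFiniteType h.left := hf a b h ha hb w
  have hu : ∀ u : ↥U.left, Points.map f.hom (Points.ofPt a u) = Points.ofPt b (h.left u) := fun u => by
    rw [Points.map_ofPt, w, ofPt_comp]
  have hv : ∀ u : ↥U.left, Points.map f.hom (Points.ofPt a u) = y → ∀ v' : ↥V.left, v' ⤳ h.left u → v' = h.left u :=
    fun u h1 => (CodimQf.coheight_eq_zero_iff _).1 ((CodimQf.hasAt_codim_zero_iff hb _).1 (by rw [← hu, h1]; exact hy))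
  refine ⟨⟨fun H x hx => ?_, fun H x hx => ?_⟩, fun H x hx => ?_⟩
  · obtain ⟨u, rfl⟩ := surjective_ofPt has x
    rw [CodimQf.hasAtMor_qf_iff hf ha hb w]
    refine CodimQf.fibreDimAt_eq_zero_of_max h.left fun z z' hz hz' => ?_
    exact (CodimQf.coheight_eq_zero_iff z).1 ((CodimQf.hasAt_codim_zero_iff ha z).1
      (H _ (by rw [hu, hz, ← hu, hx]))) z' hz'
  · obtain ⟨u, rfl⟩ := surjective_ofPt has x
    have h0 := (CodimQf.hasAtMor_qf_iff hf ha hb w u).1 (H _ hx)
    rw [CodimQf.hasAt_codim_zero_iff ha, CodimQf.coheight_eq_zero_iff]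
    exact fun u' h' => CodimQf.eq_of_qf h.left h0 (hv u hx _ (h'.map h.left.continuous)) (Or.inl h')
  · obtain ⟨u, rfl⟩ := surjective_ofPt has x
    obtain ⟨g, hgu, hg0⟩ := CodimQf.exists_coheight_zero_specializes u
    have hgv : h.left g = h.left u := hv u hx _ (hgu.map h.left.continuous)
    have hgy : Points.map f.hom (Points.ofPt a g) = y := by rw [hu, hgv, ← hu, hx]
    have h0 := (CodimQf.hasAtMor_qf_iff hf ha hb w g).1 (H _ hgy ((CodimQf.hasAt_codim_zero_iff ha g).2 hg0))
    rw [CodimQf.hasAt_codim_zero_iff ha, CodimQf.eq_of_qf h.left h0 hgv.symm (Or.inr hgu)]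
    exact hg0

end Groth.Agent.S10399
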