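import Groth.Statements.S1041
import Groth.Agent.PerfD40.ThomasonAffine
import Groth.Agent.PerfD40.Support

set_option autoImplicit false
set_option linter.style.haveILetI false
universe u
open CategoryTheory CategoryTheory.Limits AlgebraicGeometry
attribute [local instance] HasDerivedCategory.standard
open Perf

namespace Groth.Agent.S1041

/-- Let X be an affine scheme, T ⊆ X a closed subset with quasi-compact complement, U a quasi-compact
open and F a perfect object of D(O_U) whose cohomology sheaves are supported on T ∩ U. Then F ⊕ F[1]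
extends to X as a perfect complex whose cohomology sheaves are supported on T (through a
representing complex restricted termwise; the binary direct sum in D(O_U) is assumed to exist, which
it does). -/
theorem result (X : Scheme.{u}) [IsAffine X] (T : Set X) (hT : IsClosed T) (hTc : IsCompact Tᶜ)
    (U : X.Opens) (hU : IsCompact (U : Set X))
    (F : DCoh.D (U : Scheme.{u})) (hF : DCoh.IsPerfect F)
    (hFT : ∀ i : ℤ, CohB1.support (DCoh.HD F i) ⊆ {x : ↥(U : Scheme.{u}) | U.ι.base x ∈ T}) [HasBinaryBiproduct F (F⟦(1 : ℤ)⟧)] :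
    ∃ G : CochainComplex X.Modules ℤ, DCoh.IsPerfect (DCoh.toD X G) ∧ (∀ i : ℤ, CohB1.support (DCoh.HD (DCoh.toD X G) i) ⊆ T) ∧
      Nonempty (DerivedCategory.Q.obj ((DCoh.restrictCx U).obj G) ≅ F ⊞ F⟦(1 : ℤ)⟧) := by
  let V : X.Opens := ⟨Tᶜ, hT.isOpen_compl⟩
  obtain ⟨G, hG, hGV, ⟨e⟩⟩ := PerfD40.exists_extension_affine X U hU V hTc F hF
    (KFlatLib.isZero_restrictD_of_support (U.ι ⁻¹ᵁ V) F _ hFT fun x hx h => hx h)
  let eQ : DerivedCategory.Q.obj (DerivedCategory.Q.objPreimage G) ≅ G := DerivedCategory.Q.objObjPreimageIso G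
  refine ⟨DerivedCategory.Q.objPreimage G, PerfD40.isPerfect_of_iso' eQ.symm hG,
    fun i x hx => not_not.1 (PerfD40.support_subset_of_isZero_restrictD V _
      (hGV.of_iso ((DCoh.restrictD V.ι).mapIso eQ)) i hx),
    ⟨((Scheme.Modules.restrictFunctor U.ι).mapDerivedCategoryFactors.app _).symm ≪≫
      (DCoh.restrictD U.ι).mapIso eQ ≪≫ e⟩⟩

end Groth.Agent.S1041
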