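import Groth.Statements.S10411
import Groth.Agent.AlgSpDM.FinLocFreeClass
import Groth.Agent.AlgSpDec.Glue
-- import your own Groth.Agent.* helpers here

set_option autoImplicit false
universe u
open CategoryTheory CategoryTheory.Limits AlgebraicGeometry Topology TopologicalSpace
open AlgSp

namespace Groth.Agent.S10411

/-- Let S be a scheme, X and Y algebraic spaces over S, X ⟶ Y a surjective finite locally free morphism,
and y ∈ |Y|. Then y lies in the schematic locus of Y (some open subspace of Y containing y is a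
scheme) if and only if there is an affine open subscheme U ⊆ X containing the preimage of y. -/
theorem result {S : Scheme.{u}} {X Y : AlgSp.Space S} (f : X ⟶ Y)
    (hf : AlgSp.IsFinLocFreeMor f.hom) (hs : AlgSp.RepWith @Surjective f.hom) (y : AlgSp.Points Y.obj) :
    (∃ (Y' : AlgSp.Space S) (j : Y' ⟶ Y), AlgSp.RepWith @IsOpenImmersion j.hom ∧ Y'.obj.obj.IsRepresentable ∧
        y ∈ Set.range (AlgSp.Points.map j.hom)) ↔
      ∃ (U : Over S) (a : (AlgSp.yon S).obj U ⟶ X.obj), IsAffine U.left ∧ AlgSp.RepWith @IsOpenImmersion a ∧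
        AlgSp.Points.map f.hom ⁻¹' {y} ⊆ Set.range (AlgSp.Points.ofPt a) := by
  constructor
  · rintro ⟨Y', j, hj, hY', y', hy'⟩
    obtain ⟨T, ⟨r⟩⟩ := hY'.has_representation
    let e := AlgSp.isoOfRepresentableBy r
    obtain ⟨t, ht⟩ := (Points.schemeHomeo T).surjective (Points.map e.inv y')
    have hk : AlgSp.RepWith @IsOpenImmersion (e.hom ≫ j.hom) :=
      AlgSpLib.repWith_comp (AlgSpLib.repWith_of_isIso _ e.hom) hj
    obtain ⟨V, hV, htV, -⟩ := exists_isAffineOpen_mem_and_subset (U := (⊤ : T.left.Opens)) (x := t) trivial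
    let TV : Over S := Over.mk (V.ι ≫ T.hom)
    let ι : TV ⟶ T := Over.homMk V.ι rfl
    let k : (AlgSp.yon S).obj TV ⟶ Y.obj := (AlgSp.yon S).map ι ≫ e.hom ≫ j.hom
    have hkV : AlgSp.RepWith @IsOpenImmersion k :=
      AlgSpLib.repWith_comp ((repWith_yon_map_iff _ ι).2 (inferInstanceAs (IsOpenImmersion V.ι))) hk
    obtain ⟨_, -, -⟩ : finLocFree (hf.rep.snd k).left := hf.property_snd k
    have : IsAffine TV.left := hV
    have haff : IsAffine (hf.rep.pullback k).left := isAffine_of_isAffineHom (hf.rep.snd k).left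
    refine ⟨hf.rep.pullback k, hf.rep.fst k, haff,
      AlgSpLib.repWith_of_isPullback (hf.rep.isPullback k).flip hkV, fun x hx => ?_⟩
    have hy : Points.map f.hom x = Points.map k (Points.ofScheme TV ⟨t, htV⟩) := by
      rw [show Points.map f.hom x = y from hx, ← hy', Points.map_comp, Points.map_comp]
      refine (congrArg (Points.map j.hom) ?_)
      show y' = Points.map e.hom (Points.map ((AlgSp.yon S).map ι) ((Points.schemeHomeo TV) ⟨t, htV⟩))
      rw [Points.map_yon_map_apply ι]
      rw [show (Points.schemeHomeo T) (ι.left ⟨t, htV⟩) = Points.map e.inv y' from ht, ← Points.map_comp,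
        e.inv_hom_id, Points.map_id]
    obtain ⟨z, hz, -⟩ := AlgSpLib.exists_point_of_isPullback (hf.rep.isPullback k) hy
    obtain ⟨v, rfl⟩ := (Points.schemeHomeo _).surjective z
    exact ⟨v, (Points.ofPt_eq_map_ofScheme _ v).trans hz⟩
  · rintro ⟨U, a, hU, ha, hfib⟩
    obtain ⟨T, j, hj, hy⟩ :=
      AlgSpDM.exists_open_subscheme_of_fibre_affine X.property Y.property hf hs y a ha hfib
    exact ⟨⟨(AlgSp.yon S).obj T, IsAlgSpace.yon_obj T⟩, ObjectProperty.homMk j, hj,
      AlgSpDec.isRepresentable_of_iso (Iso.refl _), hy⟩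

end Groth.Agent.S10411
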