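import Groth.Statements.S10422
import Groth.Agent.AlgSpDM.ClosureDiag
-- import your own Groth.Agent.* helpers here

set_option autoImplicit false
universe u
open Topology TopologicalSpace TensorProduct
open AlgSp

namespace Groth.Agent.S10422

/-- Let A be a ring, k a field, (p_n) a sequence of primes of A which are pairwise distinct, and k →
κ(p_n) field embeddings. Then the closure in Spec(A ⊗ A) of the image of ∐_{n ≠ m} Spec(κ(p_n) ⊗_k
κ(p_m)) meets the diagonal. Here κ(p_n) is any A-algebra K_n which is a field whose structure map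
has kernel p_n and whose elements are quotients of images of elements of A. -/
theorem result (A : Type u) [CommRing A] (k : Type u) [Field k]
    (p : ℕ → PrimeSpectrum A) (hp : Function.Injective p) (K : ℕ → Type u) [∀ n, Field (K n)]
    [∀ n, Algebra A (K n)] [∀ n, Algebra k (K n)]
    (hker : ∀ n, RingHom.ker (algebraMap A (K n)) = (p n).asIdeal)
    (hfrac : ∀ n (x : K n), ∃ a b : A, algebraMap A (K n) b ≠ 0 ∧ x * algebraMap A (K n) b = algebraMap A (K n) a) :
    (closure (⋃ (n : ℕ) (m : ℕ) (_ : n ≠ m),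
        Set.range (PrimeSpectrum.comap
          (Algebra.TensorProduct.lift
            ((Algebra.TensorProduct.includeLeft (R := k) (S := ℤ) (A := K n) (B := K m)).toRingHom.toIntAlgHom.comp
              (Algebra.ofId A (K n)).toRingHom.toIntAlgHom)
            ((Algebra.TensorProduct.includeRight (R := k) (A := K n) (B := K m)).toRingHom.toIntAlgHom.comp
              (Algebra.ofId A (K m)).toRingHom.toIntAlgHom)
            (fun _ _ => Commute.all _ _)).toRingHom)) ∩
      Set.range (PrimeSpectrum.comap (Algebra.TensorProduct.lmul' (S := A) ℤ).toRingHom)).Nonempty := by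
  classical
  by_contra hne
  rw [Set.not_nonempty_iff_eq_empty, ← PrimeSpectrum.zeroLocus_vanishingIdeal_eq_closure,
    Groth.Agent.AlgSpDM.range_comap_lmul', ← PrimeSpectrum.zeroLocus_sup] at hne
  rw [PrimeSpectrum.zeroLocus_empty_iff_eq_top, Ideal.eq_top_iff_one, Submodule.mem_sup] at hne
  obtain ⟨z, hz, w, hw, hzw⟩ := hne
  have hμ : Algebra.TensorProduct.lmul' (S := A) ℤ z = 1 := by
    have := congrArg (Algebra.TensorProduct.lmul' (S := A) ℤ) hzw
    rwa [map_add, show Algebra.TensorProduct.lmul' (S := A) ℤ w = 0 from RingHom.mem_ker.1 hw, add_zero, map_one] at this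
  obtain ⟨s, hs⟩ := TensorProduct.exists_finset z
  refine Groth.Agent.AlgSpDM.no_biorthogonal (k := k) (fun i : s => i.1.1) (fun i : s => i.1.2) K ?_ ?_
  · intro n
    rw [Finset.sum_coe_sort s (fun i => algebraMap A (K n) i.1 * algebraMap A (K n) i.2)]
    simp only [← map_mul, ← map_sum]
    rw [hs, map_sum] at hμ
    simp only [Algebra.TensorProduct.lmul'_apply_tmul] at hμ
    rw [hμ, map_one]
  · intro n m hnm Ω _ φ
    rw [Finset.sum_coe_sort s (fun i => φ (algebraMap A (K n) i.1 ⊗ₜ[k] algebraMap A (K m) i.2))]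
    have := (PrimeSpectrum.mem_vanishingIdeal _ _).1 hz _ (Set.mem_iUnion.2 ⟨n, Set.mem_iUnion.2 ⟨m,
      Set.mem_iUnion.2 ⟨hnm, ⟨⟨RingHom.ker φ, RingHom.ker_isPrime φ⟩, rfl⟩⟩⟩⟩)
    simp only [PrimeSpectrum.comap_asIdeal, Ideal.mem_comap, RingHom.mem_ker] at this
    rw [hs, map_sum, map_sum] at this
    simpa using this

end Groth.Agent.S10422
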