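import Groth.Statements.S1044
import Groth.Agent.PerfD40.KoszulOrth

set_option autoImplicit false
set_option linter.style.haveILetI false
universe u
open CategoryTheory CategoryTheory.Limits AlgebraicGeometry
attribute [local instance] HasDerivedCategory.standard
open Perf

namespace Groth.Agent.S1044

/-- Let A be a ring, f₁, …, f_r elements of A, X = Spec A, U ⊆ X the open complement of V(f₁, …, f_r)
with inclusion j, and K the perfect object of D(O_X) associated with the Koszul complex on f₁, …,
f_r. Assuming Rj_* exists (and tilde is recorded as exact), for E ∈ D(O_X) with quasi-coherent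
cohomology sheaves the following are equivalent: E is of the form Rj_*M for some M ∈ D_QCoh(O_U)
(equivalently E = Rj_*(E|_U)); every morphism K[n] ⟶ E, n ∈ ℤ, is zero. -/
theorem result (A : Type u) [CommRing A] (fs : List A) [PreservesFiniteLimits (tilde.functor (CommRingCat.of A))]
    [DCoh.HasRpush (LocCoh.puncturedOpen A (Ideal.span {a | a ∈ fs})).ι]
    (E : DCoh.D (Spec (CommRingCat.of A))) (hE : DCoh.IsQCohD E) :
    (∃ M : DCoh.D (LocCoh.puncturedOpen A (Ideal.span {a | a ∈ fs}) : Scheme.{u}), DCoh.IsQCohD M ∧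
        Nonempty (E ≅ (DCoh.Rpush (LocCoh.puncturedOpen A (Ideal.span {a | a ∈ fs})).ι).obj M)) ↔
    ∀ (n : ℤ) (φ : ((DCoh.tildeD (CommRingCat.of A)).obj (DerivedCategory.Q.obj (Koszul.koszul A fs)))⟦n⟧ ⟶ E), φ = 0 := by
  open Groth.Agent.KFlatLib in
  let R : CommRingCat.{u} := CommRingCat.of A
  let U := PerfD40.outOpen (A := R) fs
  haveI : CompactSpace (U : Scheme.{u}) := isCompact_iff_compactSpace.1 (PerfD40.isCompact_outOpen (A := R) fs)
  let adj := PerfD40.restrictRpushAdj U.ι
  constructor
  · rintro ⟨M, -, ⟨e⟩⟩ n φ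
    exact (cancel_mono e.hom).1
      ((PerfD40.hom_kX_rpush_eq_zero (A := R) fs adj n M (φ ≫ e.hom)).trans zero_comp.symm)
  · intro h
    obtain ⟨N, ι, δ, hT, hN, hbij⟩ := PerfD40.exists_unit_fibre (A := R) fs adj E hE
    have hz : ∀ i, IsZero (DCoh.HD ((DCoh.tildeD R).obj N) i) := fun i =>
      PerfD40.isZero_hd_tildeD N i (PerfD40.isZero_homology_of_hom_kX fs hN i fun φ =>
        (hbij (-i)).1 ((h (-i) _).trans zero_comp.symm))
    haveI : IsIso (adj.unit.app E) := (DerivedCategory.isIso_iff _ (adj.unit.app E)).2 fun i =>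
      PerfD40.isIso_hd_of_isZero_fibre hT i (hz i) (hz (i + 1))
    exact ⟨_, isQCohD_restrictD _ hE, ⟨@asIso _ _ _ _ (adj.unit.app E) inferInstance⟩⟩

end Groth.Agent.S1044
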