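import Groth.Statements.S10441
import Groth.Agent.AlgSpDM.HenzNbhd
import Groth.Agent.S2052
-- import your own Groth.Agent.* helpers here

set_option autoImplicit false
universe u
open CategoryTheory CategoryTheory.Limits AlgebraicGeometry Topology TopologicalSpace
open AlgSp

namespace Groth.Agent.S10441

/-- For a decent algebraic space X over a scheme S and x ∈ |X|, fix an elementary etale neighbourhood
(U₀, u₀) of (X, x) and a henselization R of O_{U₀, u₀} (a model of the henselian local ring at x).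
The following are equivalent: (1) O_{U, u} has exactly one minimal prime whenever (U, u) is an
elementary etale neighbourhood of (X, x); (2) a unique irreducible component of U passes through u
for all such (U, u); (3) O_{U, u} is unibranch for all such (U, u); (4) R has exactly one minimal
prime. -/
theorem result {S : Scheme.{u}} (X : AlgSp.Space S)
    (hX : AlgSp.IsDecent X.obj) (x : AlgSp.Points X.obj) {U₀ : Over S}
    (a₀ : (AlgSp.yon S).obj U₀ ⟶ X.obj) (u₀ : ↥U₀.left) (h₀ : AlgSp.IsElemEtaleNbhd a₀ u₀ x)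
    (R : Type u) [CommRing R] [IsLocalRing R] [Algebra ↥(U₀.left.presheaf.stalk u₀) R]
    [IsLocalHom (algebraMap ↥(U₀.left.presheaf.stalk u₀) R)] [Hensel.IsHenselization ↥(U₀.left.presheaf.stalk u₀) R] :
    ((∀ (U : Over S) (a : (AlgSp.yon S).obj U ⟶ X.obj) (u : ↥U.left), AlgSp.IsElemEtaleNbhd a u x →
        CAlgX.HasUniqueMinimalPrime ↥(U.left.presheaf.stalk u)) ↔
      (∀ (U : Over S) (a : (AlgSp.yon S).obj U ⟶ X.obj) (u : ↥U.left), AlgSp.IsElemEtaleNbhd a u x →
        {Z : Set ↥U.left | Z ∈ irreducibleComponents ↥U.left ∧ u ∈ Z}.encard = 1)) ∧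
    ((∀ (U : Over S) (a : (AlgSp.yon S).obj U ⟶ X.obj) (u : ↥U.left), AlgSp.IsElemEtaleNbhd a u x →
        {Z : Set ↥U.left | Z ∈ irreducibleComponents ↥U.left ∧ u ∈ Z}.encard = 1) ↔
      (∀ (U : Over S) (a : (AlgSp.yon S).obj U ⟶ X.obj) (u : ↥U.left), AlgSp.IsElemEtaleNbhd a u x →
        CAlg2.IsUnibranch ↥(U.left.presheaf.stalk u))) ∧
    ((∀ (U : Over S) (a : (AlgSp.yon S).obj U ⟶ X.obj) (u : ↥U.left), AlgSp.IsElemEtaleNbhd a u x →
        CAlg2.IsUnibranch ↥(U.left.presheaf.stalk u)) ↔ CAlgX.HasUniqueMinimalPrime R) := by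
  have hone : ∀ (A : Type u) [CommRing A], CAlgX.HasUniqueMinimalPrime A ↔ (minimalPrimes A).encard = 1 := by
    intro A _
    rw [Set.encard_eq_one]
    exact ⟨fun ⟨p, hp, hu⟩ => ⟨p, Set.eq_singleton_iff_unique_mem.2 ⟨hp, hu⟩⟩,
      fun ⟨p, hp⟩ => ⟨p, hp ▸ Set.mem_singleton p, fun q hq => by rwa [hp] at hq⟩⟩
  have hB : ∀ (U : Over S) (a : (AlgSp.yon S).obj U ⟶ X.obj) (u : ↥U.left), AlgSp.IsElemEtaleNbhd a u x →
      Brnch.numBranchesAt U.left u = (minimalPrimes R).encard := fun U a u h => by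
    rw [AlgSpDM.numBranchesAt_eq_of_elem X.property h h₀, Brnch.numBranchesAt,
      ← BrnchLib.card_minimalPrimes_henselization _ R]
    exact ENat.card_coe_set_eq _
  have hU : ∀ (U : Over S) (u : ↥U.left),
      CAlg2.IsUnibranch ↥(U.left.presheaf.stalk u) ↔ Brnch.numBranchesAt U.left u = 1 := fun U u => by
    rw [Groth.Agent.S2052.result (A := ↥(U.left.presheaf.stalk u))
      (Ah := Groth.Agent.Hensel.LocalHenz ↥(U.left.presheaf.stalk u)), hone, Brnch.numBranchesAt,
      ← BrnchLib.card_minimalPrimes_henselization _ (Groth.Agent.Hensel.LocalHenz ↥(U.left.presheaf.stalk u))]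
    rw [ENat.card_coe_set_eq]
  refine ⟨⟨fun h U a u hu => ?_, fun h U a u hu => ?_⟩, ⟨fun h U a u hu => ?_, fun h U a u hu => ?_⟩, ⟨fun h => ?_, fun h U a u hu => ?_⟩⟩
  · exact (AlgSpDM.encard_minimalPrimes_stalk u).symm.trans ((hone _).1 (h U a u hu))
  · exact (hone _).2 ((AlgSpDM.encard_minimalPrimes_stalk u).trans (h U a u hu))
  · exact (hU U u).2 (le_antisymm (AlgSpDM.numBranchesAt_le_of_elem hu fun W b w hw => (h W b w hw).le)
      ((h U a u hu).ge.trans (AlgSpDM.compsAt_le_numBranchesAt _ u)))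
  · exact le_antisymm ((AlgSpDM.compsAt_le_numBranchesAt _ u).trans_eq ((hU U u).1 (h U a u hu)))
      (BrnchEt.compsAt_ne_zero u)
  · exact (hone R).2 ((hB U₀ a₀ u₀ h₀).symm.trans ((hU U₀ u₀).1 (h U₀ a₀ u₀ h₀)))
  · exact (hU U u).2 ((hB U a u hu).trans ((hone R).1 h))

end Groth.Agent.S10441
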