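import Groth.Statements.S10483
import Groth.Agent.AlgSpDM.FieldZero
import Groth.Agent.AlgSpDM.MonoField
import Groth.Agent.AlgSpLib.EtLocalInst
-- import your own Groth.Agent.* helpers here

set_option autoImplicit false
universe u
open CategoryTheory CategoryTheory.Limits AlgebraicGeometry Topology TopologicalSpace
open AlgSp

namespace Groth.Agent.S10483

/-- (1) ⇔ (5): let k be a field and X an algebraic space over k. Then X is locally quasi-finite over k
if and only if X decomposes as a disjoint union of spectra of finite-dimensional Artinian local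
k-algebras: X is a scheme every point of which has an affine open neighbourhood with Artinian local
coordinate ring, finite over k. -/
theorem result (k : Type u) [Field k] (X : AlgSp.Space (Spec (CommRingCat.of k))) (p : X.obj ⟶ (AlgSp.yon (Spec (CommRingCat.of k))).obj (Over.mk (𝟙 _))) :
    AlgSp.LocP (@LocallyQuasiFinite ⊓ @LocallyOfFiniteType : MorphismProperty Scheme.{u}) p ↔
      ∃ (U : Over (Spec (CommRingCat.of k))) (_ : (AlgSp.yon (Spec (CommRingCat.of k))).obj U ≅ X.obj), ∀ u : ↥U.left, ∃ V : U.left.Opens,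
        u ∈ V ∧ IsAffineOpen V ∧ IsArtinianRing ↥Γ(U.left, V) ∧ IsLocalRing ↥Γ(U.left, V) ∧
          IsFinite (V.ι ≫ U.hom) := by
  constructor
  · intro h
    obtain ⟨U, e, -, -, haff⟩ := AlgSpDM.isScheme_of_qs_dim_le_zero X
      (AlgSpDM.isQuasiSeparatedSp_of_lqf h) (AlgSpDM.dim_le_zero_of_lqf h)
    refine ⟨U, e, fun u => ?_⟩
    obtain ⟨h1, h2⟩ := AlgSpDM.chart_locP h (AlgSpLib.repWith_of_isIso _ e.hom : RepWith @Etale e.hom)
    have : LocallyQuasiFinite U.hom := h1
    have : LocallyOfFiniteType U.hom := h2
    have := AlgSpDM.discreteTopology_of_lqf U.hom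
    have := LocallyOfFiniteType.isLocallyNoetherian U.hom
    have : IsLocallyArtinian U.left := .of_isLocallyNoetherian_of_discreteTopology
    let V : U.left.Opens := ⟨{u}, isOpen_discrete _⟩
    have hV : IsAffineOpen V := haff V isCompact_singleton
    have : IsAffine V.toScheme := hV
    have : IsLocallyArtinian (Spec (CommRingCat.of k)) :=
      Scheme.isLocallyArtinianScheme_Spec.2 (inferInstanceAs (IsArtinianRing k))
    exact ⟨V, rfl, hV, IsLocallyArtinian.isArtinianRing_presheaf_obj ⟨V, hV⟩,
      AlgSpDM.isLocalRing_of_unique_point hV rfl, IsFinite.of_locallyQuasiFinite _⟩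
  · rintro ⟨U, e, hU⟩
    choose V hV _ _ _ hfin using hU
    have hc : iSup V = ⊤ := top_le_iff.1 fun u _ => TopologicalSpace.Opens.mem_iSup.2 ⟨u, hV u⟩
    have h1 : LocallyQuasiFinite U.hom := (IsZariskiLocalAtSource.iff_of_iSup_eq_top
      (P := @LocallyQuasiFinite) V hc).2 fun u => by have := hfin u; infer_instance
    have h2 : LocallyOfFiniteType U.hom := (IsZariskiLocalAtSource.iff_of_iSup_eq_top
      (P := @LocallyOfFiniteType) V hc).2 fun u => by have := hfin u; infer_instance
    obtain ⟨g, hg⟩ := (AlgSp.yon _).map_surjective (e.hom ≫ p)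
    refine AlgSpLib.locP_of_chart (AlgSpLib.repWith_of_isIso _ e.hom) (AlgSpLib.repWith_of_isIso _ e.hom)
      (AlgSp.repWith_id _ _) (by rw [Category.comp_id, hg]) ?_
    have : g.left = U.hom := by simpa using Over.w g
    rw [this]
    exact ⟨h1, h2⟩

end Groth.Agent.S10483
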