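import Groth.Statements.S10484
import Groth.Agent.AlgSpDM.FieldZero
import Groth.Agent.AlgSpDM.MonoField
import Groth.Agent.AlgSpDec.MonoRep
import Groth.Agent.AlgSpLib.EtLocalInst
-- import your own Groth.Agent.* helpers here

set_option autoImplicit false
universe u
open CategoryTheory CategoryTheory.Limits AlgebraicGeometry Topology TopologicalSpace
open AlgSp

namespace Groth.Agent.S10484

/-- For a field k, local quasi-finiteness over k passes from the target Y of a monomorphism f : X ⟶ Y of
algebraic spaces over k to its source X. -/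
theorem result (k : Type u) [Field k] {X Y : AlgSp.Space (Spec (CommRingCat.of k))} (f : X ⟶ Y)
    [Mono f.hom] (q : Y.obj ⟶ (AlgSp.yon (Spec (CommRingCat.of k))).obj (Over.mk (𝟙 _))) (hq : AlgSp.LocP (@LocallyQuasiFinite ⊓ @LocallyOfFiniteType : MorphismProperty Scheme.{u}) q) :
    AlgSp.LocP (@LocallyQuasiFinite ⊓ @LocallyOfFiniteType : MorphismProperty Scheme.{u}) (f.hom ≫ q) := by
  obtain ⟨W, e, -, -, -⟩ := AlgSpDM.isScheme_of_qs_dim_le_zero Y
    (AlgSpDM.isQuasiSeparatedSp_of_lqf hq) (AlgSpDM.dim_le_zero_of_lqf hq)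
  obtain ⟨h1, h2⟩ := AlgSpDM.chart_locP hq (AlgSpLib.repWith_of_isIso _ e.hom : RepWith @Etale e.hom)
  have : LocallyQuasiFinite W.hom := h1
  have : LocallyOfFiniteType W.hom := h2
  have := AlgSpDM.discreteTopology_of_lqf W.hom
  have := LocallyOfFiniteType.isLocallyNoetherian W.hom
  have : IsLocallyArtinian W.left := .of_isLocallyNoetherian_of_discreteTopology
  obtain ⟨U, a, ha, has⟩ := X.property.atlas
  have : Mono e.inv := inferInstance
  obtain ⟨φ, hφ⟩ := (AlgSp.yon _).map_surjective (a ≫ f.hom ≫ e.inv)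
  have hk : IsKernelPair ((AlgSp.yon _).map φ) ((AlgSp.yon _).map (ha.rep.fst' a))
      ((AlgSp.yon _).map (ha.rep.snd a)) := by
    rw [hφ]
    exact IsKernelPair.comp_of_mono (ha.rep.isPullback' a)
  have sq := AlgSpDec.isPullback_of_yon hk
  have : Etale (ha.rep.fst' a).left := ha.property _ _ _ (ha.rep.isPullback' a).flip
  have : Etale (pullback.fst φ.left φ.left) := by
    rw [← sq.isoPullback_inv_fst]
    infer_instance
  obtain ⟨h3, h4⟩ := AlgSpDM.lqft_of_etale_pullback φ.left
  obtain ⟨g, hg⟩ := (AlgSp.yon _).map_surjective (a ≫ f.hom ≫ q)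
  refine AlgSpLib.locP_of_chart ha has (AlgSp.repWith_id _ _) (by rw [Category.comp_id, hg]) ?_
  have hgl : g.left = φ.left ≫ W.hom := by
    have : g.left = U.hom := by simpa using Over.w g
    rw [this, Over.w φ]
  rw [hgl]
  exact ⟨inferInstance, inferInstance⟩

end Groth.Agent.S10484
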