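import Groth.Statements.S10514
import Groth.Agent.S7190
import Groth.Agent.HTop83.Ph
import Groth.Agent.AlgSpLib.LocalSource
import Groth.Agent.AlgSpLib.LocP
import Groth.Agent.AlgSpLib.EtLocalInst
-- import your own Groth.Agent.* helpers here

set_option autoImplicit false
universe u
open CategoryTheory CategoryTheory.Limits AlgebraicGeometry
open AlgSp

namespace Groth.Agent.S10514

/-- An fppf covering of an algebraic space `X` over `S` by algebraic spaces is a ph covering of `X`: its
members are locally of finite type and every morphism from an affine scheme `Z` to `X` admits a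
standard ph covering of `Z` whose members lift through members of the family. -/
theorem result {S : Scheme.{u}} (X : AlgSp.Space S) {ι : Type u}
    (Xi : ι → AlgSp.Space S) (g : ∀ i, Xi i ⟶ X)
    (h : AlgSp.IsFppfCover (fun i => (Xi i).obj) (fun i => (g i).hom)) :
    AlgSp.IsPhCover (fun i => (Xi i).obj) (fun i => (g i).hom) := by
  refine ⟨fun i => AlgSpLib.locP_mono (P := @LocallyOfFinitePresentation) (Q := @LocallyOfFiniteType)
    (fun _ _ v (_ : LocallyOfFinitePresentation v) => inferInstanceAs (LocallyOfFiniteType v)) (h.1 i).2,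
    fun Z hZ t => ?_⟩
  choose U a₀ v h1 h2 hv using fun i => AlgSpLib.exists_chart_over (Xi i).property X.property (g i).hom t
  let E : PreZeroHypercover.{u} Z.left := ⟨ι, fun i => (U i).left, fun i => (v i).left⟩
  have hflat : ∀ i, Flat (E.f i) := fun i =>
    AlgSpLib.locP_of_isPullback (P := @Flat) (IsPullback.of_hasPullback (g i).hom t) (Xi i).property X.property
      (IsAlgSpace.yon_obj Z) (h.1 i).1 (a₀ i) (𝟙 _) (v i) (h1 i) (AlgSpLib.repWith_of_isIso _ _)
      (by rw [hv i, Category.comp_id])
  have hfp : ∀ i, LocallyOfFinitePresentation (E.f i) := fun i =>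
    AlgSpLib.locP_of_isPullback (P := @LocallyOfFinitePresentation) (IsPullback.of_hasPullback (g i).hom t)
      (Xi i).property X.property (IsAlgSpace.yon_obj Z) (h.1 i).2 (a₀ i) (𝟙 _) (v i) (h1 i)
      (AlgSpLib.repWith_of_isIso _ _) (by rw [hv i, Category.comp_id])
  have hsurj : ∀ z : ↥Z.left, ∃ (i : E.I₀) (x : E.X i), E.f i x = z := fun z => by
    obtain ⟨i, hi⟩ := h.2 (Points.ofPt t z)
    obtain ⟨x, hx⟩ := (AlgSpLib.range_chart_over (IsPullback.of_hasPullback (g i).hom t) (h2 i) (hv i)).ge hi
    exact ⟨i, x, hx⟩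
  have := hZ
  obtain ⟨F, hF, href⟩ := HTop83.IsPhCover.exists_refine (Groth.Agent.S7190.result E hflat hfp hsurj) (𝟙 Z.left)
  refine ⟨F, hF, fun j => ?_⟩
  obtain ⟨i, m, hm⟩ := href j
  have hm' : m ≫ (v i).left = F.f j := hm.trans (Category.comp_id _)
  let k : Over.mk (F.f j ≫ Z.hom) ⟶ U i := Over.homMk m (by
    show m ≫ (U i).hom = F.f j ≫ Z.hom
    rw [← Over.w (v i), reassoc_of% hm'])
  refine ⟨i, (AlgSp.yon S).map k ≫ a₀ i ≫ pullback.fst (g i).hom t, ?_⟩
  rw [Category.assoc, Category.assoc, pullback.condition, reassoc_of% (hv i), ← Category.assoc,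
    ← Functor.map_comp]
  congr 2
  exact Over.OverMorphism.ext hm'

end Groth.Agent.S10514
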