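import Groth.Statements.S10517
import Groth.Agent.HTop83.Ph
import Groth.Agent.AlgSpLib.EtLocalInst
import Groth.Agent.AlgSpLib.LocP
-- import your own Groth.Agent.* helpers here

set_option autoImplicit false
universe u
open CategoryTheory CategoryTheory.Limits AlgebraicGeometry
open AlgSp

namespace Groth.Agent.S10517

/-- If `{X_i ⟶ X}` is a ph covering of the algebraic space `X` by algebraic spaces and each `X_i` has a
ph covering `{X_ij ⟶ X_i}` by algebraic spaces, then the composites `X_ij ⟶ X_i ⟶ X`, indexed by the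
pairs `(i, j)`, form a ph covering of `X`. -/
theorem result {S : Scheme.{u}} (X : AlgSp.Space S) {ι : Type u}
    (Xi : ι → AlgSp.Space S) (g : ∀ i, Xi i ⟶ X) (κ : ι → Type u) (Xij : ∀ i, κ i → AlgSp.Space S)
    (gij : ∀ i j, Xij i j ⟶ Xi i)
    (h : AlgSp.IsPhCover (fun i => (Xi i).obj) (fun i => (g i).hom))
    (hij : ∀ i, AlgSp.IsPhCover (fun j => (Xij i j).obj) (fun j => (gij i j).hom)) :
    AlgSp.IsPhCover (fun r : Σ i, κ i => (Xij r.1 r.2).obj) (fun r => (gij r.1 r.2 ≫ g r.1).hom) := by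
  refine ⟨fun r => AlgSpLib.locP_comp (Xij r.1 r.2).property (Xi r.1).property X.property ((hij r.1).1 r.2) (h.1 r.1),
    fun Z hZ t => ?_⟩
  obtain ⟨F, hF, hl⟩ := h.2 Z hZ t
  choose i l hl using hl
  have key := fun j => (hij (i j)).2 (Over.mk (F.f j ≫ Z.hom)) (hF.isAffine_obj j) (l j)
  choose G hG hm using key
  have := hZ
  obtain ⟨F', hF', ⟨e⟩⟩ := HTop83.exists_standardPh_bind F hF G hG
  refine ⟨F', hF', fun j => ?_⟩
  obtain ⟨m, l', hl'⟩ := hm (e.s₀ j).1 (e.s₀ j).2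
  have he : e.h₀ j ≫ (G (e.s₀ j).1).f (e.s₀ j).2 ≫ F.f (e.s₀ j).1 = F'.f j := e.w₀ j
  let k : Over.mk (F'.f j ≫ Z.hom) ⟶ Over.mk ((G (e.s₀ j).1).f (e.s₀ j).2 ≫ F.f (e.s₀ j).1 ≫ Z.hom) :=
    Over.homMk (e.h₀ j) (by simp only [Over.mk_hom]; rw [← he, Category.assoc, Category.assoc]; rfl)
  refine ⟨⟨i (e.s₀ j).1, m⟩, (AlgSp.yon S).map k ≫ l', ?_⟩
  simp only [ObjectProperty.FullSubcategory.comp_hom, Category.assoc]
  rw [reassoc_of% hl', hl, ← Functor.map_comp_assoc, ← Functor.map_comp_assoc]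
  congr 2
  ext
  exact he

end Groth.Agent.S10517
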