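import Groth.Statements.S10579
import Groth.Agent.IntBC.UnibranchDescent
import Groth.Agent.AlgSpLib.LocP
import Groth.Agent.AlgSpLib.Points
import Groth.Agent.AlgSpLib.Rep
-- import your own Groth.Agent.* helpers here

set_option autoImplicit false
universe u
open CategoryTheory CategoryTheory.Limits AlgebraicGeometry
open AlgSp

namespace Groth.Agent.S10579

/-- Let f : X ⟶ Y be a morphism of algebraic spaces over S and x ∈ |X|. If X is geometrically unibranch
at x and f is flat at x, then Y is geometrically unibranch at the image point f(x). Here an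
algebraic space is geometrically unibranch at a point when for every etale chart from a scheme U and
every point u of U over it the local ring of U at u is geometrically unibranch. -/
theorem result {S : Scheme.{u}} {X Y : AlgSp.Space S} (f : X ⟶ Y) (x : AlgSp.Points X.obj)
    (hf : AlgSp.IsFlatAtMor f.hom x)
    (hX : ∀ (U : Over S) (a : (AlgSp.yon S).obj U ⟶ X.obj) (v : ↥U.left), AlgSp.RepWith @Etale a →
      AlgSp.Points.ofPt a v = x → CAlg2.IsGeomUnibranch ↥(U.left.presheaf.stalk v))
    (V : Over S) (b : (AlgSp.yon S).obj V ⟶ Y.obj) (w : ↥V.left) (hb : AlgSp.RepWith @Etale b)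
    (hw : AlgSp.Points.ofPt b w = AlgSp.Points.map f.hom x) :
    CAlg2.IsGeomUnibranch ↥(V.left.presheaf.stalk w) := by
  obtain ⟨U, a₀, h, h1, h2, h3⟩ := AlgSpLib.exists_chart_over X.property Y.property f.hom b
  have hb' : AlgSp.RepWith @Etale (pullback.fst f.hom b) := AlgSpLib.repWith_fst f.hom hb
  obtain ⟨z, hz1, hz2⟩ := AlgSpLib.exists_point_of_isPullback (IsPullback.of_hasPullback f.hom b) (x := x)
    (y := Points.ofScheme V w) (hw.symm.trans (Points.ofPt_eq_map_ofScheme b w))
  obtain ⟨u, hu⟩ := AlgSpLib.surjective_ofPt h2 z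
  have hux : Points.ofPt (a₀ ≫ pullback.fst f.hom b) u = x := by rw [← Points.map_ofPt, hu, hz1]
  have huw : h.left u = w := by
    have e : Points.ofPt ((AlgSp.yon S).map h) u = Points.ofScheme V w := by
      rw [← h3, ← Points.map_ofPt, hu, hz2]
    exact (Points.toScheme_ofPt h u).symm.trans ((congrArg (Points.toScheme V) e).trans (Points.toScheme_ofScheme V w))
  have he : AlgSp.RepWith @Etale (a₀ ≫ pullback.fst f.hom b) := AlgSpLib.repWith_comp h1 hb'
  have hflat := hf (a₀ ≫ pullback.fst f.hom b) b h u he hb
    (by rw [Category.assoc, pullback.condition, reassoc_of% h3]) hux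
  subst huw
  algebraize [(h.left.stalkMap u).hom]
  have : Module.Flat ↥(V.left.presheaf.stalk (h.left u)) ↥(U.left.presheaf.stalk u) := hflat
  have : IsLocalHom (algebraMap ↥(V.left.presheaf.stalk (h.left u)) ↥(U.left.presheaf.stalk u)) :=
    inferInstanceAs (IsLocalHom (h.left.stalkMap u).hom)
  exact IntBC.isGeomUnibranch_descent (hX U _ u he hux)

end Groth.Agent.S10579
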