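import Groth.Statements.S10607
import Groth.Agent.AlgSpDM.UHomeoDescent
import Groth.Agent.AlgSpLib.EtaleSmoothLocal
-- import your own Groth.Agent.* helpers here

set_option autoImplicit false
universe u
open CategoryTheory CategoryTheory.Limits AlgebraicGeometry
open AlgSp

namespace Groth.Agent.S10607

/-- Take a morphism f : X ⟶ Y of algebraic spaces over S that is integral, universally injective and
surjective. Then V ↦ X ×_Y V is an equivalence from the category of algebraic spaces etale over Y to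
the category of algebraic spaces etale over X, stated through pullback squares: (full faithfulness)
given V₁', V₂' etale over Y with base changes V₁, V₂ to X, every morphism V₁ ⟶ V₂ over X is the base
change of a unique morphism V₁' ⟶ V₂' over Y; (essential surjectivity) every algebraic space etale
over X is the base change of an algebraic space etale over Y. -/
theorem result {S : Scheme.{u}}
    {X Y : AlgSp.Space S} (f : X ⟶ Y) (h1 : AlgSp.IsIntegralMor f.hom) (h2 : AlgSp.IsUnivInjectiveMor f.hom)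
    (h3 : AlgSp.IsSurjectiveMor f.hom) :
    (∀ (V₁' V₂' V₁ V₂ : AlgSp.Space S) (a₁ : V₁' ⟶ Y) (a₂ : V₂' ⟶ Y) (b₁ : V₁ ⟶ X) (b₂ : V₂ ⟶ X)
        (c₁ : V₁ ⟶ V₁') (c₂ : V₂ ⟶ V₂'),
        AlgSp.IsEtaleMor a₁.hom → AlgSp.IsEtaleMor a₂.hom →
        IsPullback b₁.hom c₁.hom f.hom a₁.hom → IsPullback b₂.hom c₂.hom f.hom a₂.hom →
        ∀ φ : V₁ ⟶ V₂, φ ≫ b₂ = b₁ →
          ∃! φ' : V₁' ⟶ V₂', φ' ≫ a₂ = a₁ ∧ c₁ ≫ φ' = φ ≫ c₂) ∧
    (∀ (V : AlgSp.Space S) (b : V ⟶ X), AlgSp.IsEtaleMor b.hom →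
        ∃ (V' : AlgSp.Space S) (a : V' ⟶ Y) (c : V ⟶ V'),
          AlgSp.IsEtaleMor a.hom ∧ IsPullback b.hom c.hom f.hom a.hom) := by
  have hf := Groth.Agent.AlgSpDM.repWith_uh h1 h2 h3
  refine ⟨?_, fun V b hb => ?_⟩
  · intro V₁' V₂' V₁ V₂ a₁ a₂ b₁ b₂ c₁ c₂ ha₁ ha₂ sq₁ sq₂ φ hφ
    have hφ' : φ.hom ≫ b₂.hom = b₁.hom := congrArg (fun k => k.hom) hφ
    have hW : IsAlgSpace (pullback a₁.hom a₂.hom) :=
      Groth.Agent.AlgSpLib.isAlgSpace_pullback V₁'.property V₂'.property Y.property _ _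
    have hπ : AlgSp.IsEtaleMor (pullback.fst a₁.hom a₂.hom) :=
      Groth.Agent.AlgSpLib.isEtaleMor_of_isPullback (IsPullback.of_hasPullback a₁.hom a₂.hom).flip
        V₂'.property Y.property V₁'.property ha₂
    let k : V₁.obj ⟶ pullback a₁.hom a₂.hom := pullback.lift c₁.hom (φ.hom ≫ c₂.hom) (by
      rw [Category.assoc, ← sq₂.w, ← sq₁.w, reassoc_of% hφ'])
    obtain ⟨σ, ⟨hσ₁, hσ₂⟩, huniq⟩ := Groth.Agent.AlgSpDM.existsUnique_section hW V₁'.property V₁.property hπ
      (Groth.Agent.AlgSpDM.repWith_uh_of_isPullback sq₁ hf) k (pullback.lift_fst _ _ _)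
    refine ⟨ObjectProperty.homMk (σ ≫ pullback.snd _ _), ⟨?_, ?_⟩, fun φ' hφ₂ => ?_⟩
    · apply ObjectProperty.hom_ext
      show (σ ≫ pullback.snd _ _) ≫ a₂.hom = a₁.hom
      rw [Category.assoc, ← pullback.condition, reassoc_of% hσ₁]
    · apply ObjectProperty.hom_ext
      show c₁.hom ≫ σ ≫ pullback.snd _ _ = φ.hom ≫ c₂.hom
      rw [reassoc_of% hσ₂, pullback.lift_snd]
    · have e₁ : φ'.hom ≫ a₂.hom = a₁.hom := congrArg (fun k => k.hom) hφ₂.1
      have e₂ : c₁.hom ≫ φ'.hom = φ.hom ≫ c₂.hom := congrArg (fun k => k.hom) hφ₂.2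
      let σ' : V₁'.obj ⟶ pullback a₁.hom a₂.hom := pullback.lift (𝟙 _) φ'.hom (by rw [Category.id_comp, e₁])
      have : σ' = σ := huniq σ' ⟨pullback.lift_fst _ _ _, by
        apply pullback.hom_ext
        · exact (Category.assoc _ _ _).trans (((congrArg (c₁.hom ≫ ·) (pullback.lift_fst _ _ _)).trans
            (Category.comp_id _)).trans (pullback.lift_fst _ _ _).symm)
        · exact (Category.assoc _ _ _).trans (((congrArg (c₁.hom ≫ ·) (pullback.lift_snd _ _ _)).trans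
            e₂).trans (pullback.lift_snd _ _ _).symm)⟩
      apply ObjectProperty.hom_ext
      show φ'.hom = σ ≫ pullback.snd _ _
      rw [← this, pullback.lift_snd]
  · obtain ⟨E', hE', a, c, ha, sq⟩ :=
      Groth.Agent.AlgSpDM.exists_descent X.property Y.property V.property hf b.hom hb
    exact ⟨⟨E', hE'⟩, ObjectProperty.homMk a, ObjectProperty.homMk c, ha, sq⟩

end Groth.Agent.S10607
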