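import Groth.Statements.S10614
import Groth.Agent.AlgSpDM.UnramMono
-- import your own Groth.Agent.* helpers here

set_option autoImplicit false
universe u
open CategoryTheory CategoryTheory.Limits AlgebraicGeometry
open AlgSp

namespace Groth.Agent.S10614

/-- For a morphism f : X ⟶ Y of algebraic spaces over S, being a closed immersion (representable by
closed immersions) is equivalent to each of: (a) universally closed plus unramified plus
monomorphism; (b) universally closed plus unramified plus universally injective; (c) a universally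
closed monomorphism that is locally of finite type; (d) universally closed, universally injective,
locally of finite type and formally unramified (lifting sense). (Unramified is the etale-local
condition locally of finite type and formally unramified on charts; monomorphisms are taken in fppf
sheaves.) -/
theorem result {S : Scheme.{u}} {X Y : AlgSp.Space S} (f : X ⟶ Y) :
    (AlgSp.RepWith @IsClosedImmersion f.hom ↔
      (AlgSp.IsUnivClosedMor f.hom ∧ AlgSp.LocP (@LocallyOfFiniteType ⊓ @FormallyUnramified) f.hom ∧ Mono f.hom)) ∧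
    (AlgSp.RepWith @IsClosedImmersion f.hom ↔
      (AlgSp.IsUnivClosedMor f.hom ∧ AlgSp.LocP (@LocallyOfFiniteType ⊓ @FormallyUnramified) f.hom ∧ AlgSp.IsUnivInjectiveMor f.hom)) ∧
    (AlgSp.RepWith @IsClosedImmersion f.hom ↔
      (AlgSp.IsUnivClosedMor f.hom ∧ AlgSp.LocP @LocallyOfFiniteType f.hom ∧ Mono f.hom)) ∧
    (AlgSp.RepWith @IsClosedImmersion f.hom ↔
      (AlgSp.IsUnivClosedMor f.hom ∧ AlgSp.IsUnivInjectiveMor f.hom ∧ AlgSp.LocP @LocallyOfFiniteType f.hom ∧
        AlgSp.IsFormallyUnramifiedMor f.hom)) := by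
  have fwd := AlgSpDM.univClosed_lft_mono_of_closedImmersion f
  have bwd : AlgSp.IsUnivClosedMor f.hom → AlgSp.LocP @LocallyOfFiniteType f.hom → Mono f.hom →
      AlgSp.RepWith @IsClosedImmersion f.hom := fun h1 h2 h3 =>
    AlgSpDM.closedImmersion_of_univClosed_lft_mono f h1 h2
  refine ⟨⟨fun h => ?_, fun h => bwd h.1 ((AlgSpDM.locP_unram_iff f).1 h.2.1).1 h.2.2⟩,
    ⟨fun h => ?_, fun h => bwd h.1 ((AlgSpDM.locP_unram_iff f).1 h.2.1).1 (AlgSpDM.mono_of_unram_univInjective f h.2.1 h.2.2)⟩,
    ⟨fwd, fun h => bwd h.1 h.2.1 h.2.2⟩,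
    ⟨fun h => ?_, fun h => bwd h.1 h.2.2.1
      (AlgSpDM.mono_of_unram_univInjective f ((AlgSpDM.locP_unram_iff f).2 h.2.2) h.2.1)⟩⟩
  all_goals obtain ⟨h1, h2, h3⟩ := fwd h
  · exact ⟨h1, AlgSpDM.unram_of_lft_mono f h2, h3⟩
  · exact ⟨h1, AlgSpDM.unram_of_lft_mono f h2, AlgSpDM.isUnivInjectiveMor_of_mono f⟩
  · exact ⟨h1, AlgSpDM.isUnivInjectiveMor_of_mono f, h2, AlgSpDM.isFormallyUnramifiedMor_of_mono _⟩

end Groth.Agent.S10614
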