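import Groth.Statements.S10633
import Groth.Agent.AlgSpLib.EtaleSmoothLocal
import Groth.Agent.AlgSpDM.WhereFlat
import Groth.Agent.AlgSpDM.UnivThick
-- import your own Groth.Agent.* helpers here

set_option autoImplicit false
universe u
open CategoryTheory CategoryTheory.Limits AlgebraicGeometry
open AlgSp

namespace Groth.Agent.S10633

/-- Let e : Z ⟶ Y be a surjective etale morphism of algebraic spaces over S, hY : Y ⟶ X, and let (Z ⊂
Z') ⟶ (Y ⊂ Y') be an etale morphism of first order thickenings over X: iZ : Z ⟶ Z' and iY : Y ⟶ Y'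
first order thickenings, f' : Z' ⟶ Y' etale with iZ ≫ f' = e ≫ iY, hY' : Y' ⟶ X with iY ≫ hY' = hY.
If (iZ, f' ≫ hY') is a universal first order thickening of Z over X, then (iY, hY') is a universal
first order thickening of Y over X. -/
theorem result {S : Scheme.{u}} {Z Y Z' Y' X : AlgSp.Space S} (e : Z ⟶ Y)
    (he : AlgSp.IsEtaleMor e.hom) (hes : AlgSp.IsSurjectiveMor e.hom) (hY : Y ⟶ X)
    (iZ : Z ⟶ Z') (iY : Y ⟶ Y') (hiZ : AlgSp.IsFOThickMor iZ.hom) (hiY : AlgSp.IsFOThickMor iY.hom)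
    (f' : Z' ⟶ Y') (hf' : AlgSp.IsEtaleMor f'.hom) (w : iZ ≫ f' = e ≫ iY) (hY' : Y' ⟶ X) (w' : iY ≫ hY' = hY)
    (HU : AlgSp.IsUnivFOThick (e ≫ hY).hom iZ.hom (f' ≫ hY').hom) :
    AlgSp.IsUnivFOThick hY.hom iY.hom hY'.hom := by
  have hm : Mono iZ.hom := Groth.Agent.AlgSpLib.mono_of_thick hiZ.1
  have w0 : iZ.hom ≫ f'.hom = e.hom ≫ iY.hom := congrArg (·.hom) w
  -- the square is cartesian
  have hPsp : IsAlgSpace (pullback iY.hom f'.hom) :=
    Groth.Agent.AlgSpLib.isAlgSpace_pullback Y.property Z'.property Y'.property _ _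
  let P : Space S := ⟨pullback iY.hom f'.hom, hPsp⟩
  let m : Z ⟶ P := ⟨pullback.lift e.hom iZ.hom w0.symm⟩
  have hm1 : m.hom ≫ pullback.fst _ _ = e.hom := pullback.lift_fst _ _ _
  have hm2 : m.hom ≫ pullback.snd _ _ = iZ.hom := pullback.lift_snd _ _ _
  have hfst : IsEtaleMor (pullback.fst iY.hom f'.hom) :=
    Groth.Agent.AlgSpLib.isEtaleMor_of_isPullback (IsPullback.of_hasPullback _ _).flip Z'.property Y'.property Y.property hf'
  have hme : IsEtaleMor m.hom :=
    Groth.Agent.AlgSpLib.isEtaleMor_of_comp Z.property hPsp Y.property (hm1.symm ▸ he) hfst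
  have : Mono (m.hom ≫ pullback.snd iY.hom f'.hom) := hm2.symm ▸ hm
  have : Mono m.hom := mono_of_mono m.hom (pullback.snd iY.hom f'.hom)
  have hsth : IsThickMor (pullback.snd iY.hom f'.hom) :=
    Groth.Agent.AlgSpLib.repWith_of_isPullback (IsPullback.of_hasPullback iY.hom f'.hom) hiY.1
  have hms : IsSurjectiveMor m.hom := fun p => by
    obtain ⟨z, hz⟩ := (Groth.Agent.AlgSpLib.isHomeomorph_map_of_thick Z'.property hiZ.1).surjective
      (Points.map (pullback.snd iY.hom f'.hom) p)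
    refine ⟨z, (Groth.Agent.AlgSpLib.isHomeomorph_map_of_thick Z'.property hsth).injective ?_⟩
    rw [← hz, ← hm2, Points.map_comp]
  have := Groth.Agent.AlgSpDM.isIso_of_etale_mono_surjective m ((Groth.Agent.AlgSpLib.isEtaleMor_iff_locP Z.property hPsp _).1 hme) hms
  have sq : IsPullback e.hom iZ.hom iY.hom f'.hom :=
    (IsPullback.of_hasPullback iY.hom f'.hom).of_iso (asIso m.hom).symm (Iso.refl _) (Iso.refl _) (Iso.refl _)
      (by simp [← hm1]) (by simp [← hm2]) (by simp) (by simp)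
  have hfs : IsSurjectiveMor f'.hom := fun y' => by
    obtain ⟨y, rfl⟩ := (Groth.Agent.AlgSpLib.isHomeomorph_map_of_thick Y'.property hiY.1).surjective y'
    obtain ⟨z, rfl⟩ := hes y
    exact ⟨Points.map iZ.hom z, by rw [← Points.map_comp, w0, Points.map_comp]⟩
  -- pass to a chart
  obtain ⟨V', a, ha, has⟩ := Z'.property.atlas
  let V := hiZ.1.rep.pullback a
  let iV : (yon S).obj V ⟶ (yon S).obj V' := (yon S).map (hiZ.1.rep.snd a)
  let aV : (yon S).obj V ⟶ Z.obj := hiZ.1.rep.fst a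
  have sqV : IsPullback aV iV iZ.hom a := hiZ.1.rep.isPullback a
  have hq : RepWith @Etale (a ≫ f'.hom) := hf' a ha
  have he0 : RepWith @Etale (aV ≫ e.hom) :=
    he aV (Groth.Agent.AlgSpLib.repWith_of_isPullback sqV.flip ha)
  have sq0 : IsPullback (aV ≫ e.hom) iV iY.hom (a ≫ f'.hom) := sqV.paste_horiz sq
  have hqs : RepWith @Surjective (a ≫ f'.hom) :=
    Groth.Agent.AlgSpLib.repWith_surjective_of_surjective hq.1 fun y => by
      obtain ⟨z, rfl⟩ := hfs y
      obtain ⟨v, rfl⟩ := Groth.Agent.AlgSpLib.surjective_map_of_repWith has z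
      exact ⟨v, Points.map_comp _ _ v⟩
  have hU := Groth.Agent.AlgSpLib.isUnivFOThick_etale Z'.property (IsAlgSpace.yon_obj V') aV (e ≫ hY).hom
    iZ.hom (f' ≫ hY').hom HU iV a (Groth.Agent.AlgSpLib.isEtaleMor_of_repWith ha) sqV
  exact Groth.Agent.AlgSpDM.isUnivFOThick_of_chart Y'.property hiY (congrArg (·.hom) w') he0
    (Groth.Agent.AlgSpLib.repWith_of_isPullback sq0.flip hqs) hq hqs sq0 (by simpa [Category.assoc] using hU)

end Groth.Agent.S10633
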