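import Groth.Statements.S10638
import Groth.Agent.AlgSpDM.UnivThickLift
-- import your own Groth.Agent.* helpers here

set_option autoImplicit false
universe u
open CategoryTheory CategoryTheory.Limits AlgebraicGeometry
open AlgSp

namespace Groth.Agent.S10638

/-- Take a formally unramified morphism h : Z ⟶ X of algebraic spaces over S with universal first order
thickening (iZ : Z ⟶ Z', hZ' : Z' ⟶ X). Let v : V ⟶ Z and w : U ⟶ X be etale morphisms of algebraic
spaces and ψ : V ⟶ U with ψ ≫ w = v ≫ h. Then ψ is formally unramified, and for a universal first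
order thickening (iV : V ⟶ V', hV' : V' ⟶ U) of V over U, every e' : V' ⟶ Z' with iV ≫ e' = v ≫ iZ
and e' ≫ hZ' = hV' ≫ w (there is exactly one) is etale. (The published statement also identifies the
conormal sheaf of V over U with the restriction of that of Z over X; this row omits that clause.) -/
theorem result {S : Scheme.{u}} {Z X Z' V U V' : AlgSp.Space S} (h : Z ⟶ X)
    (hh : AlgSp.IsFormallyUnramifiedMor h.hom) (iZ : Z ⟶ Z') (hZ' : Z' ⟶ X) (HZ : AlgSp.IsUnivFOThick h.hom iZ.hom hZ'.hom)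
    (v : V ⟶ Z) (w : U ⟶ X) (hv : AlgSp.IsEtaleMor v.hom) (hw : AlgSp.IsEtaleMor w.hom) (ψ : V ⟶ U)
    (c : ψ ≫ w = v ≫ h) :
    AlgSp.IsFormallyUnramifiedMor ψ.hom ∧
    ∀ (iV : V ⟶ V') (hV' : V' ⟶ U), AlgSp.IsUnivFOThick ψ.hom iV.hom hV'.hom →
      ∀ e' : V' ⟶ Z', iV ≫ e' = v ≫ iZ → e' ≫ hZ' = hV' ≫ w → AlgSp.IsEtaleMor e'.hom := by
  have c0 : ψ.hom ≫ w.hom = v.hom ≫ h.hom := congrArg (·.hom) c
  refine ⟨Groth.Agent.AlgSpLib.isFormallyUnramifiedMor_of_comp (b := w.hom) ?_, fun iV hV' HV e' e1 e2 =>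
    Groth.Agent.AlgSpDM.isEtaleMor_of_univ Z.property Z'.property V.property V'.property HZ hv
      (Groth.Agent.AlgSpLib.isFormallyEtaleMor_of_isEtaleMor U.property hw) c0 HV (congrArg (·.hom) e1)
      (congrArg (·.hom) e2)⟩
  rw [c0]
  exact Groth.Agent.AlgSpLib.isFormallyUnramifiedMor_comp
    ((Groth.Agent.AlgSpLib.isFormallyEtaleMor_iff v.hom).1
      (Groth.Agent.AlgSpLib.isFormallyEtaleMor_of_isEtaleMor V.property hv)).2 hh

end Groth.Agent.S10638
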