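import Groth.Statements.S10641
import Groth.Agent.AlgSpDM.Where
-- import your own Groth.Agent.* helpers here

set_option autoImplicit false
universe u
open CategoryTheory CategoryTheory.Limits AlgebraicGeometry
open AlgSp

namespace Groth.Agent.S10641

/-- For morphisms f : X ⟶ Y, p : X ⟶ Z and q : Y ⟶ Z of algebraic spaces over S with f ≫ q = p, where p
is universally closed and locally of finite type and q is separated, there is an open subspace W of
Z with the following property: a morphism of algebraic spaces g : Z' ⟶ Z factors through W exactly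
when the base change X' ⟶ Y' of f along g is a closed immersion (representable, and a closed
immersion on every represented pullback). Here the base change of f along g is any f' : X' ⟶ Y'
obtained from pullback squares Y' = Y ×_Z Z' and X' = X ×_Y Y' of algebraic spaces over S, and W ⊂ Z
is given as a representable open immersion w : W ⟶ Z. -/
theorem result {S : Scheme.{u}} {X Y Z : AlgSp.Space S}
    (f : X ⟶ Y) (p : X ⟶ Z) (q : Y ⟶ Z) (hc : f ≫ q = p)
    (hp1 : AlgSp.LocP @LocallyOfFiniteType p.hom) (hp2 : AlgSp.IsUnivClosedMor p.hom)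
    (hq : AlgSp.IsSeparatedMor q.hom) :
    ∃ (W : AlgSp.Space S) (w : W ⟶ Z), AlgSp.RepWith @IsOpenImmersion w.hom ∧
      ∀ (Z' : AlgSp.Space S) (g : Z' ⟶ Z),
        (∃ k : Z' ⟶ W, k ≫ w = g) ↔
          ∀ (Y' : AlgSp.Space S) (gY : Y' ⟶ Y) (q' : Y' ⟶ Z'),
            IsPullback gY.hom q'.hom q.hom g.hom →
            ∀ (X' : AlgSp.Space S) (gX : X' ⟶ X) (f' : X' ⟶ Y'),
              IsPullback gX.hom f'.hom f.hom gY.hom →
                AlgSp.RepWith @IsClosedImmersion f'.hom := by
  have hf := AlgSpDM.isUnivClosedMor_of_fac f p q hc hp2 hq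
  have hl := AlgSpDM.locP_lft_of_fac f p q hc hp1
  let XX : AlgSp.Space S := ⟨pullback f.hom f.hom,
    AlgSpLib.isAlgSpace_pullback X.property X.property Y.property _ _⟩
  let pr0 : XX ⟶ X := ⟨pullback.fst _ _⟩
  let pr1 : XX ⟶ X := ⟨pullback.snd _ _⟩
  have hXX : IsPullback pr0.hom pr1.hom f.hom f.hom := IsPullback.of_hasPullback _ _
  have hpc : AlgSp.IsClosedMor p.hom := hp2 Z.property (𝟙 _) (𝟙 _) p.hom (IsPullback.of_horiz_isIso ⟨by simp⟩)
  have h1 : AlgSp.IsClosedMor pr1.hom := hf X.property f.hom pr0.hom pr1.hom hXX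
  have hpp : AlgSp.IsClosedMor (pr1 ≫ p).hom := by
    change IsClosedMap (AlgSp.Points.map (pr1.hom ≫ p.hom))
    rw [show AlgSp.Points.map (pr1.hom ≫ p.hom) = AlgSp.Points.map p.hom ∘ AlgSp.Points.map pr1.hom from
      funext (AlgSp.Points.map_comp _ _)]
    exact IsClosedMap.comp hpc h1
  obtain ⟨U, hU, h⟩ := AlgSpDM.exists_where_unram_univInjective hc hXX hp1 hpc hpp
  obtain ⟨W, w, hw, -, hW⟩ := AlgSpDM.exists_where_space hU h
  refine ⟨W, w, hw, fun Z' g => (hW Z' g).trans ⟨fun H Y' gY q' sqY X' gX f' sqX => ?_, fun H Y' gY q' sqY X' gX f' sqX => ?_⟩⟩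
  · obtain ⟨h2, h3⟩ := H Y' gY q' sqY X' gX f' sqX
    have := AlgSpDM.mono_of_unram_univInjective f' h2 h3
    exact AlgSpDM.closedImmersion_of_univClosed_lft_mono f'
      (AlgSpPts.isUnivClosedMor_of_isPullback sqX hf) ((AlgSpDM.locP_unram_iff f').1 h2).1
  · obtain ⟨-, h2, h3⟩ := AlgSpDM.univClosed_lft_mono_of_closedImmersion f' (H Y' gY q' sqY X' gX f' sqX)
    exact ⟨AlgSpDM.unram_of_lft_mono f' h2, AlgSpDM.isUnivInjectiveMor_of_mono f'⟩

end Groth.Agent.S10641
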