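import Groth.Statements.S10661
import Groth.Agent.AlgSpMor.RegImm

set_option autoImplicit false
universe u
open CategoryTheory CategoryTheory.Limits AlgebraicGeometry
open AlgSp

namespace Groth.Agent.S10661

/-- For an immersion i : Z ⟶ X of algebraic spaces over S with X locally Noetherian (some etale
surjective chart is a locally Noetherian scheme), the three conditions Koszul-regular immersion,
H_1-regular immersion and quasi-regular immersion on i are equivalent. -/
theorem result {S : Scheme.{u}} {Z X : AlgSp.Space S} (i : Z ⟶ X) (hi : AlgSp.RepWith @IsImmersion i.hom)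
    (hX : AlgSp.IsLocNoethSp X.obj) :
    (AlgSp.IsRegImmMor RegImm.Kind.koszul i.hom ↔ AlgSp.IsRegImmMor RegImm.Kind.h1 i.hom) ∧
      (AlgSp.IsRegImmMor RegImm.Kind.h1 i.hom ↔ AlgSp.IsRegImmMor RegImm.Kind.quasi i.hom) := by
  exact ⟨⟨Groth.Agent.AlgSpMor.isRegImmMor_iff_of_locNoeth i.hom hX _ _, Groth.Agent.AlgSpMor.isRegImmMor_iff_of_locNoeth i.hom hX _ _⟩,
    ⟨Groth.Agent.AlgSpMor.isRegImmMor_iff_of_locNoeth i.hom hX _ _, Groth.Agent.AlgSpMor.isRegImmMor_iff_of_locNoeth i.hom hX _ _⟩⟩

end Groth.Agent.S10661
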