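import Groth.Statements.S10670
import Groth.Agent.AlgSpMor.GeomFibreConn

set_option autoImplicit false
set_option linter.style.haveILetI false
set_option backward.isDefEq.respectTransparency false
set_option backward.isDefEq.respectTransparency.types false
universe u
open CategoryTheory CategoryTheory.Limits AlgebraicGeometry
open AlgSp

namespace Groth.Agent.S10670

/-- For morphisms f : X ⟶ Y and g : Y' ⟶ Y between algebraic spaces over S, f' : X' ⟶ Y' the base change
of f along g, an algebraically closed field point k' of Y' and an algebraically closed field point k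
of Y whose class in |Y| is the image of the class of k', the fibres X'_{k'} and X_k (pullbacks in
fppf sheaves) have the same number of connected components of their spaces of points, counted in ℕ∞.
With g the identity this says the number of geometric connected components of the fibre over a point
of |Y| is well defined. -/
theorem result {S : Scheme.{u}} {X Y X' Y' : AlgSp.Space S} (f : X ⟶ Y) (g : Y' ⟶ Y) (gX : X' ⟶ X) (f' : X' ⟶ Y')
    (hsq : IsPullback gX.hom f'.hom f.hom g.hom)
    (k' : AlgSp.FieldPt Y'.obj) (hk' : k'.IsGeometric) (k : AlgSp.FieldPt Y.obj) (hk : k.IsGeometric)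
    (hkk : AlgSp.Points.mk k = AlgSp.Points.map g.hom (AlgSp.Points.mk k'))
    (Xk' : AlgSp.Sp S) (a' : Xk' ⟶ X'.obj) (b' : Xk' ⟶ (AlgSp.yon S).obj k'.pt) (h' : IsPullback a' b' f'.hom k'.toHom)
    (Xk : AlgSp.Sp S) (a : Xk ⟶ X.obj) (b : Xk ⟶ (AlgSp.yon S).obj k.pt) (h : IsPullback a b f.hom k.toHom) :
    ENat.card (_root_.ConnectedComponents (AlgSp.Points Xk')) = ENat.card (_root_.ConnectedComponents (AlgSp.Points Xk)) := by
  rw [AlgSp.Points.map_mk, AlgSp.Points.mk_eq_mk_iff] at hkk
  obtain ⟨Ω, _, w, c, d, hcd⟩ := hkk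
  let d' : Over.mk w ⟶ k'.pt := d
  haveI : IsAlgClosed k.K := hk
  haveI : IsAlgClosed k'.K := hk'
  have e : (yon S).map c ≫ k.toHom = (yon S).map d' ≫ k'.toHom ≫ g.hom := by
    rw [← AlgSp.FieldPt.toHom_map]
    apply (J S).uliftYonedaEquiv.injective
    erw [← Groth.Agent.AlgSpLib.uliftYonedaEquiv_precomp, ← Groth.Agent.AlgSpLib.uliftYonedaEquiv_precomp, AlgSp.FieldPt.uliftYonedaEquiv_toHom,
      AlgSp.FieldPt.uliftYonedaEquiv_toHom]
    exact hcd
  have sqQ := IsPullback.of_hasPullback f.hom ((yon S).map c ≫ k.toHom)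
  let l := h.lift (pullback.fst _ _) (pullback.snd _ _ ≫ (yon S).map c) (by rw [Category.assoc]; exact sqQ.w)
  have sq1 : IsPullback l (pullback.snd _ _) b ((yon S).map c) :=
    IsPullback.of_right (by rw [h.lift_fst]; exact sqQ) (h.lift_snd _ _ _) h
  have h'' : IsPullback (a' ≫ gX.hom) b' f.hom (k'.toHom ≫ g.hom) := h'.paste_horiz hsq
  let l' := h''.lift (pullback.fst _ _) (pullback.snd _ _ ≫ (yon S).map d')
    (by rw [Category.assoc, ← e]; exact sqQ.w)
  have sq2 : IsPullback l' (pullback.snd f.hom ((yon S).map c ≫ k.toHom)) b' ((yon S).map d') :=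
    IsPullback.of_right (by rw [h''.lift_fst, ← e]; exact sqQ) (h''.lift_snd _ _ _) h''
  obtain ⟨e1⟩ := Groth.Agent.AlgSpMor.nonempty_connectedComponents_equiv c sq1
  obtain ⟨e2⟩ := Groth.Agent.AlgSpMor.nonempty_connectedComponents_equiv d' sq2
  exact ENat.card_congr (e2.symm.trans e1)

end Groth.Agent.S10670
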