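import Groth.Statements.S10686
import Groth.Agent.AlgSpMor.GeomRed

set_option backward.isDefEq.respectTransparency false
set_option backward.isDefEq.respectTransparency.types false
open Groth.Agent Groth.Agent.AlgSpLib

set_option autoImplicit false
universe u
open CategoryTheory CategoryTheory.Limits AlgebraicGeometry
open AlgSp

namespace Groth.Agent.S10686

/-- For a morphism f : X ⟶ Y between algebraic spaces over S and a point y of |Y|, write X_k for the
fibre (pullback in fppf sheaves) over a field point k of Y and call X_k geometrically reduced when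
for every field homomorphism k ⟶ k' the base change X_{k'} is reduced (some etale surjective scheme
chart reduced). The following are equivalent: (1) X_k is geometrically reduced for some k in the
class of y; (2) X_k is geometrically reduced for every k in the class of y; (3) X_k is reduced for
every k in the class of y. -/
theorem result {S : Scheme.{u}} {X Y : AlgSp.Space S} (f : X ⟶ Y) (y : AlgSp.Points Y.obj) :
    [∃ (k : AlgSp.FieldPt Y.obj), AlgSp.Points.mk k = y ∧
        ∀ (k' : Type u) [Field k'] (φ : k.K →+* k') (Xk' : AlgSp.Sp S) (a : Xk' ⟶ X.obj)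
          (b : Xk' ⟶ (AlgSp.yon S).obj (Over.mk (Spec.map (CommRingCat.ofHom φ) ≫ k.str))),
          IsPullback a b f.hom ((AlgSp.yon S).map (Over.homMk (Spec.map (CommRingCat.ofHom φ)) rfl :
            Over.mk (Spec.map (CommRingCat.ofHom φ) ≫ k.str) ⟶ k.pt) ≫ k.toHom) →
          AlgSp.EtaleLocally (fun U => IsReduced U) Xk',
      ∀ (k : AlgSp.FieldPt Y.obj), AlgSp.Points.mk k = y →
        ∀ (k' : Type u) [Field k'] (φ : k.K →+* k') (Xk' : AlgSp.Sp S) (a : Xk' ⟶ X.obj)
          (b : Xk' ⟶ (AlgSp.yon S).obj (Over.mk (Spec.map (CommRingCat.ofHom φ) ≫ k.str))),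
          IsPullback a b f.hom ((AlgSp.yon S).map (Over.homMk (Spec.map (CommRingCat.ofHom φ)) rfl :
            Over.mk (Spec.map (CommRingCat.ofHom φ) ≫ k.str) ⟶ k.pt) ≫ k.toHom) →
          AlgSp.EtaleLocally (fun U => IsReduced U) Xk',
      ∀ (k : AlgSp.FieldPt Y.obj), AlgSp.Points.mk k = y →
        ∀ (Xk : AlgSp.Sp S) (a : Xk ⟶ X.obj) (b : Xk ⟶ (AlgSp.yon S).obj k.pt), IsPullback a b f.hom k.toHom →
          AlgSp.EtaleLocally (fun U => IsReduced U) Xk].TFAE := by
  tfae_have 1 → 2 := by
    rintro ⟨k, hk, h⟩ k₂ hk₂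
    exact AlgSpMor.geomRedAt_of_rel X.property Y.property h (Points.mk_eq_mk_iff.1 (hk.trans hk₂.symm))
  tfae_have 2 → 1 := by
    intro h
    obtain ⟨k, hk⟩ := Points.mk_surjective y
    exact ⟨k, hk, h k hk⟩
  tfae_have 2 → 3 := by
    intro h k hk Xk a b sq
    have hid : Spec.map (CommRingCat.ofHom (RingHom.id k.K)) = 𝟙 _ := Spec.map_id _
    refine h k hk k.K (RingHom.id _) Xk a (b ≫ (yon S).map (Over.homMk (𝟙 _) (by
      simp only [Over.mk_hom, hid, Category.id_comp]))) ?_
    refine sq.of_iso (Iso.refl _) (Iso.refl _) ((yon S).mapIso (Over.isoMk (Iso.refl _) (by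
      simp only [Over.mk_hom, hid, Iso.refl_hom, Category.id_comp]))) (Iso.refl _) (by simp) (by simp; rfl) (by simp) ?_
    simp only [Iso.refl_hom, Category.comp_id, Functor.mapIso_hom]
    rw [← Functor.map_comp_assoc]
    have : ∀ (e : k.pt ⟶ k.pt), e.left = 𝟙 _ → (yon S).map e ≫ k.toHom = k.toHom := fun e he => by
      rw [show e = 𝟙 _ from Over.OverMorphism.ext he, CategoryTheory.Functor.map_id, Category.id_comp]
    exact (this _ (by simp [hid])).symm
  tfae_have 3 → 2 := by
    intro h k hk K _ φ P a b sq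
    let k'' : FieldPt Y.obj := ⟨K, Spec.map (CommRingCat.ofHom φ) ≫ k.str,
      (J S).uliftYonedaEquiv ((yon S).map (Over.homMk (Spec.map (CommRingCat.ofHom φ)) rfl :
            Over.mk (Spec.map (CommRingCat.ofHom φ) ≫ k.str) ⟶ k.pt) ≫ k.toHom)⟩
    have hk'' : k''.toHom = (yon S).map (Over.homMk (Spec.map (CommRingCat.ofHom φ)) rfl :
            Over.mk (Spec.map (CommRingCat.ofHom φ) ≫ k.str) ⟶ k.pt) ≫ k.toHom :=
      (J S).uliftYonedaEquiv.symm_apply_apply _
    have hr : FieldPt.Rel k'' k := ⟨K, inferInstance, k''.str, 𝟙 _, Over.homMk (Spec.map (CommRingCat.ofHom φ)) rfl, by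
      show Y.obj.obj.map _ ((J S).uliftYonedaEquiv _) = _
      rw [← FieldPt.uliftYonedaEquiv_toHom k, uliftYonedaEquiv_precomp, uliftYonedaEquiv_precomp]
      erw [CategoryTheory.Functor.map_id, Category.id_comp]
      ⟩
    exact h k'' (Points.mk_eq_mk_iff.2 hr |>.trans hk) P a b (hk''.symm ▸ sq)
  tfae_finish

end Groth.Agent.S10686
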