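import Groth.Statements.S10687
import Groth.Agent.AlgSpMor.GorChart
set_option backward.isDefEq.respectTransparency false
set_option backward.isDefEq.respectTransparency.types false
open Groth.Agent.AlgSpLib Groth.Agent.AlgSpMor

set_option autoImplicit false
universe u
open CategoryTheory CategoryTheory.Limits AlgebraicGeometry
open AlgSp

namespace Groth.Agent.S10687

/-- For morphisms f : X ⟶ Y and g : Y ⟶ Z between algebraic spaces over S whose fibres, and those of f ≫
g, are locally Noetherian, and a point x of |X|: (1) if g is Gorenstein at the image of x and f is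
Gorenstein at x itself, then so is f ≫ g at x; (2) if f ≫ g is Gorenstein at x and f is flat there,
then f is Gorenstein at x and g at the image of x. Here f is Gorenstein at x when in every etale
chart diagram through x the top arrow is Gorenstein at the point over x (flat there, with Gorenstein
local ring of its fibre), and the fibres of a morphism are locally Noetherian when every fibre over
a field point (pullback in fppf sheaves) is a locally Noetherian algebraic space. -/
theorem result {S : Scheme.{u}} {X Y Z : AlgSp.Space S} (f : X ⟶ Y) (g : Y ⟶ Z)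
    (hf : ∀ (k : AlgSp.FieldPt Y.obj) (Xk : AlgSp.Sp S) (a : Xk ⟶ X.obj) (b : Xk ⟶ (AlgSp.yon S).obj k.pt),
        IsPullback a b f.hom k.toHom → AlgSp.IsLocNoethSp Xk)
    (hg : ∀ (k : AlgSp.FieldPt Z.obj) (Xk : AlgSp.Sp S) (a : Xk ⟶ Y.obj) (b : Xk ⟶ (AlgSp.yon S).obj k.pt),
        IsPullback a b g.hom k.toHom → AlgSp.IsLocNoethSp Xk)
    (hfg : ∀ (k : AlgSp.FieldPt Z.obj) (Xk : AlgSp.Sp S) (a : Xk ⟶ X.obj) (b : Xk ⟶ (AlgSp.yon S).obj k.pt),
        IsPullback a b (f ≫ g).hom k.toHom → AlgSp.IsLocNoethSp Xk)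
    (x : AlgSp.Points X.obj) :
    (AlgSp.LocPAt (fun h u => Dual3.IsGorensteinAt h u) f.hom x → AlgSp.LocPAt (fun h u => Dual3.IsGorensteinAt h u) g.hom (AlgSp.Points.map f.hom x) →
        AlgSp.LocPAt (fun h u => Dual3.IsGorensteinAt h u) (f ≫ g).hom x) ∧
      (AlgSp.LocPAt (fun h u => Dual3.IsGorensteinAt h u) (f ≫ g).hom x → AlgSp.IsFlatAtMor f.hom x →
        AlgSp.LocPAt (fun h u => Dual3.IsGorensteinAt h u) f.hom x ∧ AlgSp.LocPAt (fun h u => Dual3.IsGorensteinAt h u) g.hom (AlgSp.Points.map f.hom x)) := by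
  obtain ⟨W, c, hc, hc'⟩ := Z.property.atlas
  obtain ⟨V, b₀, hVW, hb₁, hb₂, hb₃⟩ := exists_chart_over Y.property Z.property g.hom c
  have hb : RepWith @Etale (b₀ ≫ pullback.fst g.hom c) := repWith_comp hb₁ (repWith_fst _ hc)
  have hb' : RepWith @Surjective (b₀ ≫ pullback.fst g.hom c) := repWith_comp hb₂ (repWith_fst _ hc')
  set b := b₀ ≫ pullback.fst g.hom c with hbdef
  obtain ⟨U, a₀, h, ha₁, ha₂, ha₃⟩ := exists_chart_over X.property Y.property f.hom b
  have ha : RepWith @Etale (a₀ ≫ pullback.fst f.hom b) := repWith_comp ha₁ (repWith_fst _ hb)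
  have ha' : RepWith @Surjective (a₀ ≫ pullback.fst f.hom b) := repWith_comp ha₂ (repWith_fst _ hb')
  set a := a₀ ≫ pullback.fst f.hom b with hadef
  have cf : IsChart f.hom a b h :=
    ⟨ha, hb, by rw [hadef, Category.assoc, pullback.condition, ← Category.assoc, ha₃]⟩
  have cg : IsChart g.hom b c hVW :=
    ⟨hb, hc, by rw [hbdef, Category.assoc, pullback.condition, ← Category.assoc, hb₃]⟩
  have cfg : IsChart (f ≫ g).hom a c (h ≫ hVW) :=
    ⟨ha, hc, by
      change a ≫ f.hom ≫ g.hom = _
      rw [← Category.assoc, cf.w, Category.assoc, cg.w, ← Category.assoc, ← Functor.map_comp]⟩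
  obtain ⟨u, rfl⟩ := surjective_ofPt ha' x
  have hy : Points.map f.hom (Points.ofPt a u) = Points.ofPt b (h.left u) := by
    rw [Points.map_ofPt, cf.w, ofPt_comp]
  rw [hy, cf.locPAt_gor_iff hf, cfg.locPAt_gor_iff hfg, cg.locPAt_gor_iff hg, cf.isFlatAtMor_iff]
  exact Groth.Agent.S3627.result U.left V.left W.left h.left hVW.left (cf.noeth_fiber hf) (cg.noeth_fiber hg)
    (cfg.noeth_fiber hfg) u

end Groth.Agent.S10687
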