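import Groth.Statements.S3625
import Groth.Agent.Dual3Lib.GorMor

set_option autoImplicit false
set_option backward.isDefEq.respectTransparency false
set_option backward.isDefEq.respectTransparency.types false
universe u
open CategoryTheory CategoryTheory.Limits AlgebraicGeometry
attribute [local instance] HasDerivedCategory.standard
open Dual3

namespace Groth.Agent.S3625

/-- Let f : X → Y be a morphism of schemes all of whose fibres are locally Noetherian, g : Y' → Y
locally of finite type, and X' = Y' ×_Y X with projections f' : X' → Y', g' : X' → X. Let x' be a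
point of X' with image x in X. Then: (1) Gorensteinness of f at x passes to f' at x'; (2)
conversely, f' being Gorenstein at x' forces f to be Gorenstein at x as long as f is flat at x; (3)
the same converse holds when instead g is flat at the point f'(x'). -/
theorem result (X Y X' Y' : Scheme.{u}) (f : X ⟶ Y) (g : Y' ⟶ Y) (f' : X' ⟶ Y') (g' : X' ⟶ X) (hsq : IsPullback g' f' f g) (hfibf : ∀ y, IsLocallyNoetherian (f.fiber y)) [LocallyOfFiniteType g] (x' : X') : (Dual3.IsGorensteinAt f (g' x') → Dual3.IsGorensteinAt f' x') ∧ ((f.stalkMap (g' x')).hom.Flat → Dual3.IsGorensteinAt f' x' → Dual3.IsGorensteinAt f (g' x')) ∧ ((g.stalkMap (f' x')).hom.Flat → Dual3.IsGorensteinAt f' x' → Dual3.IsGorensteinAt f (g' x')) := by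
  rw [Dual3Lib.isGorensteinAt_iff_sm f' x' (f' x') rfl,
    Dual3Lib.isGorensteinAt_iff_sm f (g' x') (f (g' x')) rfl]
  have hiff := Dual3Lib.isGor_fibre_iff hsq x' (hfibf _)
  refine ⟨fun h => ⟨(FibFlat.sm_flat_iff f' x' (f' x') rfl).2 (Triage.CMBC.flat_stalk_of_isPullback hsq x'
    ((FibFlat.sm_flat_iff f (g' x') (f (g' x')) rfl).1 h.1)), hiff.2 h.2⟩,
    fun hfl h => ⟨(FibFlat.sm_flat_iff f (g' x') (f (g' x')) rfl).2 hfl, hiff.1 h.2⟩,
    fun hflat h => ⟨?_, hiff.1 h.2⟩⟩
  have hg' : (g'.stalkMap x').hom.Flat := Triage.CMBC.flat_stalk_of_isPullback hsq.flip x' hflat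
  have hy : (g' ≫ f) x' = f (g' x') := Scheme.Hom.comp_apply g' f x'
  have h1 : (FibFlat.sm (g' ≫ f) x' (f (g' x')) hy).Flat := by
    rw [FibFlat.sm_congr hsq.w x' (f (g' x')) hy]
    rw [FibFlat.sm_flat_iff]
    rw [Scheme.Hom.stalkMap_comp, CommRingCat.hom_comp]
    exact RingHom.Flat.comp hflat ((FibFlat.sm_flat_iff f' x' (f' x') rfl).1 h.1)
  rw [FibFlat.sm_comp g' f x' (g' x') (f (g' x')) rfl rfl] at h1
  exact Triage.CMMor.flat_of_comp _ _ ((FibFlat.sm_flat_iff g' x' (g' x') rfl).2 hg') h1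

end Groth.Agent.S3625
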