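import Groth.Statements.S10688
import Groth.Agent.AlgSpMor.GorChart
import Groth.Agent.S3625
set_option backward.isDefEq.respectTransparency false
set_option backward.isDefEq.respectTransparency.types false
open Groth.Agent.AlgSpLib Groth.Agent.AlgSpMor

set_option autoImplicit false
universe u
open CategoryTheory CategoryTheory.Limits AlgebraicGeometry
open AlgSp

namespace Groth.Agent.S10688

/-- For a morphism f : X ⟶ Y between algebraic spaces over S with locally Noetherian fibres, g : Y' ⟶ Y
locally of finite type, f' : X' ⟶ Y' the base change (a pullback square of algebraic spaces) with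
projection g' : X' ⟶ X, and x' a point of |X'| with image x: (1) if f is Gorenstein at x then so is
f' at x'; (2) when f is flat at x, Gorensteinness of f' at x' implies that of f at x; (3) the same
conclusion holds if instead g is flat at the image of x' and f' is Gorenstein at x'. Here f is
Gorenstein at x when in every etale chart diagram through x the top arrow is Gorenstein at the point
over x (flat there, with Gorenstein local ring of its fibre), and the fibres of a morphism are
locally Noetherian when every fibre over a field point (pullback in fppf sheaves) is a locally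
Noetherian algebraic space. -/
theorem result {S : Scheme.{u}} {X Y X' Y' : AlgSp.Space S} (f : X ⟶ Y) (g : Y' ⟶ Y) (g' : X' ⟶ X) (f' : X' ⟶ Y')
    (hsq : IsPullback g'.hom f'.hom f.hom g.hom)
    (hf : ∀ (k : AlgSp.FieldPt Y.obj) (Xk : AlgSp.Sp S) (a : Xk ⟶ X.obj) (b : Xk ⟶ (AlgSp.yon S).obj k.pt),
        IsPullback a b f.hom k.toHom → AlgSp.IsLocNoethSp Xk)
    (hg : AlgSp.LocP @LocallyOfFiniteType g.hom) (x' : AlgSp.Points X'.obj) :
    (AlgSp.LocPAt (fun h u => Dual3.IsGorensteinAt h u) f.hom (AlgSp.Points.map g'.hom x') → AlgSp.LocPAt (fun h u => Dual3.IsGorensteinAt h u) f'.hom x') ∧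
      (AlgSp.IsFlatAtMor f.hom (AlgSp.Points.map g'.hom x') → AlgSp.LocPAt (fun h u => Dual3.IsGorensteinAt h u) f'.hom x' →
        AlgSp.LocPAt (fun h u => Dual3.IsGorensteinAt h u) f.hom (AlgSp.Points.map g'.hom x')) ∧
      (AlgSp.IsFlatAtMor g.hom (AlgSp.Points.map f'.hom x') → AlgSp.LocPAt (fun h u => Dual3.IsGorensteinAt h u) f'.hom x' →
        AlgSp.LocPAt (fun h u => Dual3.IsGorensteinAt h u) f.hom (AlgSp.Points.map g'.hom x')) := by
  obtain ⟨V, b, hb, hb'⟩ := Y.property.atlas
  obtain ⟨U, a₀, h, ha₁, ha₂, ha₃⟩ := exists_chart_over X.property Y.property f.hom b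
  obtain ⟨W, c₀, h₁, hc₁, hc₂, hc₃⟩ := exists_chart_over Y'.property Y.property g.hom b
  have hc : RepWith @Etale (c₀ ≫ pullback.fst g.hom b) := repWith_comp hc₁ (repWith_fst _ hb)
  have hcs : RepWith @Surjective (c₀ ≫ pullback.fst g.hom b) := repWith_comp hc₂ (repWith_fst _ hb')
  set c := c₀ ≫ pullback.fst g.hom b with hcdef
  have hgw : c ≫ g.hom = (yon S).map h₁ ≫ b := by
    rw [hcdef, Category.assoc, pullback.condition, ← Category.assoc, hc₃]
  obtain ⟨a', w'', w', hR⟩ := exists_bc_chart hsq ha₃ hgw
  set a := a₀ ≫ pullback.fst f.hom b with hadef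
  have ha : RepWith @Etale a := repWith_comp ha₁ (repWith_fst _ hb)
  have w : a ≫ f.hom = (yon S).map h ≫ b := by
    rw [hadef, Category.assoc, pullback.condition, ← Category.assoc, ha₃]
  have ha' : RepWith @Etale a' := hR _ ha₁ hc
  have hs' : RepWith @Surjective a' := hR _ ha₂ hcs
  obtain ⟨z, rfl⟩ := surjective_ofPt hs' x'
  have cf : IsChart f.hom a b h := ⟨ha, hb, w⟩
  have cf' : IsChart f'.hom a' c (pullback.snd h h₁) := ⟨ha', hc, w'⟩
  have hN' : FibNoeth f'.hom := FibNoeth.of_isPullback hf hsq
  have hx : Points.map g'.hom (Points.ofPt a' z) = Points.ofPt a ((pullback.fst h h₁).left z) := by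
    rw [Points.map_ofPt, w'', ofPt_comp]
  rw [hx, cf.locPAt_gor_iff hf, cf'.locPAt_gor_iff hN', cf.isFlatAtMor_iff, Points.map_ofPt, w', ofPt_comp]
  have : LocallyOfFiniteType h₁.left := hg c b h₁ hc hb hgw
  rw [IsChart.isFlatAtMor_iff ⟨hc, hb, hgw⟩]
  exact Groth.Agent.S3625.result _ _ _ _ h.left h₁.left (pullback.snd h h₁).left (pullback.fst h h₁).left
    ((IsPullback.of_hasPullback h h₁).map (Over.forget S)) (cf.noeth_fiber hf) z

end Groth.Agent.S10688
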