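import Groth.Statements.S10690
import Groth.Agent.AlgSpMor.GorSpace
set_option backward.isDefEq.respectTransparency false
set_option backward.isDefEq.respectTransparency.types false
open Groth.Agent.AlgSpLib Groth.Agent.AlgSpMor

set_option autoImplicit false
universe u
open CategoryTheory CategoryTheory.Limits AlgebraicGeometry
open AlgSp

namespace Groth.Agent.S10690

/-- For a morphism f : X ⟶ Y between algebraic spaces over S whose fibres are locally Noetherian, the
following are equivalent: (1) f is Gorenstein at every point of |X|; (2) f is flat and for some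
scheme V with a representable etale surjective b : h_V ⟶ Y every fibre of X ×_Y V ⟶ V over a point v
of V (pullback along the residue field point of v) is a Gorenstein algebraic space (some etale
surjective scheme chart is a Gorenstein scheme); (3) f is flat and the same holds for every scheme V
with a representable etale b : h_V ⟶ Y. Here f is Gorenstein at x when in every etale chart diagram
through x the top arrow is Gorenstein at the point over x (flat there, with Gorenstein local ring of
its fibre), and the fibres of a morphism are locally Noetherian when every fibre over a field point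
(pullback in fppf sheaves) is a locally Noetherian algebraic space. (The published statement also
characterises being Gorenstein at a single point through strict henselizations; that part is stated
separately and not included here.) -/
theorem result {S : Scheme.{u}} {X Y : AlgSp.Space S} (f : X ⟶ Y)
    (hf : ∀ (k : AlgSp.FieldPt Y.obj) (Xk : AlgSp.Sp S) (a : Xk ⟶ X.obj) (b : Xk ⟶ (AlgSp.yon S).obj k.pt),
        IsPullback a b f.hom k.toHom → AlgSp.IsLocNoethSp Xk) :
    [∀ x : AlgSp.Points X.obj, AlgSp.LocPAt (fun h u => Dual3.IsGorensteinAt h u) f.hom x,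
      AlgSp.LocP @Flat f.hom ∧ ∃ (V : Over S) (b : (AlgSp.yon S).obj V ⟶ Y.obj),
        AlgSp.RepWith @Etale b ∧ AlgSp.RepWith @Surjective b ∧
          ∀ (v : ↥V.left) (Xv : AlgSp.Sp S) (a : Xv ⟶ X.obj)
            (c : Xv ⟶ (AlgSp.yon S).obj (Over.mk (V.left.fromSpecResidueField v ≫ V.hom))),
            IsPullback a c f.hom ((AlgSp.yon S).map (Over.homMk (V.left.fromSpecResidueField v) rfl :
              Over.mk (V.left.fromSpecResidueField v ≫ V.hom) ⟶ V) ≫ b) →
            AlgSp.EtaleLocally Dual3.IsGorenstein Xv,
      AlgSp.LocP @Flat f.hom ∧ ∀ (V : Over S) (b : (AlgSp.yon S).obj V ⟶ Y.obj), AlgSp.RepWith @Etale b →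
          ∀ (v : ↥V.left) (Xv : AlgSp.Sp S) (a : Xv ⟶ X.obj)
            (c : Xv ⟶ (AlgSp.yon S).obj (Over.mk (V.left.fromSpecResidueField v ≫ V.hom))),
            IsPullback a c f.hom ((AlgSp.yon S).map (Over.homMk (V.left.fromSpecResidueField v) rfl :
              Over.mk (V.left.fromSpecResidueField v ≫ V.hom) ⟶ V) ≫ b) →
            AlgSp.EtaleLocally Dual3.IsGorenstein Xv].TFAE := by
  tfae_have 1 → 3 := by
    intro H
    refine ⟨fun U V a b h ha hb w => ?_, fun V b hb v Xv α γ sq => ?_⟩
    · exact Flat.of_stalkMap _ fun u => (H (Points.ofPt a u) a b h u ha hb w rfl).1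
    · obtain ⟨U, a₀, h, ha₁, ha₂, ha₃⟩ := exists_chart_over X.property Y.property f.hom b
      have cf : IsChart f.hom (a₀ ≫ pullback.fst f.hom b) b h := ⟨repWith_comp ha₁ (repWith_fst _ hb), hb,
        by rw [Category.assoc, pullback.condition, ← Category.assoc, ha₃]⟩
      obtain ⟨P, a', e, ha', hs', hP⟩ := exists_fibre_chart hf ha₁ ha₃ v sq
      refine ⟨P, a', ha', hs' ha₂, hP, fun z => ?_⟩
      rw [Dual3Lib.isGorensteinLocalRing_stalk_iff e.hom z]
      exact gor_fiber h.left (fun u => (cf.locPAt_gor_iff hf u).1 (H _)) v _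
  tfae_have 3 → 2 := by
    rintro ⟨hfl, H⟩
    obtain ⟨V, b, hb, hb'⟩ := Y.property.atlas
    exact ⟨hfl, V, b, hb, hb', H V b hb⟩
  tfae_have 2 → 1 := by
    rintro ⟨hfl, V, b, hb, hb', H⟩ x
    obtain ⟨U, a₀, h, ha₁, ha₂, ha₃⟩ := exists_chart_over X.property Y.property f.hom b
    have cf : IsChart f.hom (a₀ ≫ pullback.fst f.hom b) b h := ⟨repWith_comp ha₁ (repWith_fst _ hb), hb,
      by rw [Category.assoc, pullback.condition, ← Category.assoc, ha₃]⟩
    obtain ⟨u, rfl⟩ := surjective_ofPt (repWith_comp ha₂ (repWith_fst f.hom hb')) x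
    have : Flat h.left := hfl _ b h cf.ha hb cf.w
    refine (cf.locPAt_gor_iff hf u).2 ⟨Flat.stalkMap h.left u, ?_⟩
    set v := h.left u
    obtain ⟨P, a', e, ha', -, hP⟩ := exists_fibre_chart hf ha₁ ha₃ v (IsPullback.of_hasPullback _ _)
    obtain ⟨W, p, hp, hp', hWN, hW⟩ := H v _ _ _ (IsPullback.of_hasPullback _ _)
    set z := e.inv (h.left.asFiber u) with hz
    obtain ⟨w, hw⟩ := surjective_ofPt hp' (Points.ofPt a' z)
    have hzu : e.hom z = h.left.asFiber u := by
      rw [hz, ← Scheme.Hom.comp_apply, Iso.inv_hom_id]; rfl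
    have := (Dual3Lib.isGorensteinLocalRing_stalk_iff e.hom z).1 ((gor_chart_iff ha' hp hw.symm).2 (hW w))
    rwa [hzu] at this
  tfae_finish

end Groth.Agent.S10690
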