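import Groth.Statements.S10691
import Groth.Agent.AlgSpMor.GorSpace
import Groth.Agent.AlgSpMor.ShGor
set_option backward.isDefEq.respectTransparency false
set_option backward.isDefEq.respectTransparency.types false
open Groth.Agent.AlgSpLib Groth.Agent.AlgSpMor

set_option autoImplicit false
universe u
open CategoryTheory CategoryTheory.Limits AlgebraicGeometry
open AlgSp

namespace Groth.Agent.S10691

/-- For locally Noetherian algebraic spaces X, Y over S and a flat morphism f : X ⟶ Y, with X Gorenstein
(some etale surjective scheme chart is a Gorenstein scheme): f is Gorenstein at every point of |X|,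
and for every point x of |X| the etale local ring of Y at a geometric point over f(x), presented as
a strict henselization R of the local ring of an etale scheme chart V of Y at a point v over f(x),
is a Gorenstein local ring. Here f is Gorenstein at x when in every etale chart diagram through x
the top arrow is Gorenstein at the point over x (flat there, with Gorenstein local ring of its
fibre), and the fibres of a morphism are locally Noetherian when every fibre over a field point
(pullback in fppf sheaves) is a locally Noetherian algebraic space. -/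
theorem result {S : Scheme.{u}} {X Y : AlgSp.Space S} (f : X ⟶ Y) (hf : AlgSp.LocP @Flat f.hom)
    (hX1 : AlgSp.IsLocNoethSp X.obj) (hY1 : AlgSp.IsLocNoethSp Y.obj)
    (hX2 : AlgSp.EtaleLocally Dual3.IsGorenstein X.obj) :
    (∀ x : AlgSp.Points X.obj, AlgSp.LocPAt (fun h u => Dual3.IsGorensteinAt h u) f.hom x) ∧
      ∀ (x : AlgSp.Points X.obj) (V : Over S) (b : (AlgSp.yon S).obj V ⟶ Y.obj), AlgSp.RepWith @Etale b →
        ∀ (v : ↥V.left), AlgSp.Points.ofPt b v = AlgSp.Points.map f.hom x →
          ∀ (R : Type u) [CommRing R] [IsLocalRing R] [Algebra ↥(V.left.presheaf.stalk v) R]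
            [IsLocalHom (algebraMap ↥(V.left.presheaf.stalk v) R)]
            [Hensel.IsStrictHenselization ↥(V.left.presheaf.stalk v) R],
            LocCoh.IsGorensteinLocalRing R := by
  obtain ⟨W, p, hp, hp', hWN, hW⟩ := hX2
  have key : ∀ {U V : Over S} {a : (yon S).obj U ⟶ X.obj} {b : (yon S).obj V ⟶ Y.obj} {h : U ⟶ V},
      IsChart f.hom a b h → Dual3.IsGorensteinMor h.left ∧
        ∀ u, LocCoh.IsGorensteinLocalRing (V.left.presheaf.stalk (h.left u)) := by
    intro U V a b h cf
    have := AlgSpDec.isLocallyNoetherian_chart cf.ha hX1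
    have := AlgSpDec.isLocallyNoetherian_chart cf.hb hY1
    have : Flat h.left := hf a b h cf.ha cf.hb cf.w
    refine Groth.Agent.S3624.result U.left V.left h.left ⟨inferInstance, fun u => ?_⟩
    obtain ⟨w, hw⟩ := surjective_ofPt hp' (Points.ofPt a u)
    exact (gor_chart_iff cf.ha hp hw.symm).2 (hW w)
  refine ⟨fun x U V a b h u ha hb w _ => (key ⟨ha, hb, w⟩).1 u, fun x V b hb v hv R _ _ _ _ _ => ?_⟩
  obtain ⟨U, a₀, h, ha₁, ha₂, ha₃⟩ := exists_chart_over X.property Y.property f.hom b
  have cf : IsChart f.hom (a₀ ≫ pullback.fst f.hom b) b h := ⟨repWith_comp ha₁ (repWith_fst _ hb), hb,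
    by rw [Category.assoc, pullback.condition, ← Category.assoc, ha₃]⟩
  obtain ⟨z, -, hz⟩ := exists_point_of_isPullback (IsPullback.of_hasPullback f.hom b)
    (x := x) (y := Points.ofScheme V v) (by rw [← hv, Points.map_ofPt, Category.id_comp])
  obtain ⟨u, rfl⟩ := surjective_ofPt ha₂ z
  have hu : h.left u = v := by
    rw [Points.map_ofPt, ha₃, ← Category.comp_id ((yon S).map h), ofPt_comp] at hz
    rw [← Points.toScheme_ofScheme V (h.left u), ← Points.toScheme_ofScheme V v]
    exact congrArg (Points.toScheme V) hz
  subst hu
  exact (gor_sh_iff _ R).2 ((key cf).2 u)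

end Groth.Agent.S10691
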