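import Groth.Statements.S10695
import Groth.Agent.AlgSpMor.Glue

set_option autoImplicit false
universe u
open CategoryTheory CategoryTheory.Limits AlgebraicGeometry
open AlgSp

namespace Groth.Agent.S10695

/-- Suppose `(U ⊂ W, f : V → W)`, a square of algebraic spaces over `S`, is elementary distinguished
(`j` an open immersion, `f` etale and an isomorphism over the reduced closed complement of `U`) and
let `P` with its two projections be a fibre product `U ×_W V`. Then `W` is the pushout of `U` and
`V` along `P` among algebraic spaces over `S`. -/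
theorem result {S : Scheme.{u}} {U V W P : AlgSp.Space S} (j : U ⟶ W) (f : V ⟶ W)
    (hsq : AlgSp.IsElemDistSq j.hom f.hom) (p : P ⟶ U) (q : P ⟶ V)
    (hP : IsPullback p.hom q.hom j.hom f.hom) : IsPushout p q j f := by
  have w : p ≫ j = q ≫ f := InducedCategory.hom_ext hP.w
  refine IsPushout.of_isColimit' ⟨w⟩ (PushoutCocone.isColimitAux' _ fun s => ?_)
  have hw : p.hom ≫ s.inl.hom = q.hom ≫ s.inr.hom :=
    congrArg (fun φ => InducedCategory.Hom.hom φ) s.condition
  let hex := Groth.Agent.AlgSpMor.exists_desc_of_isElemDistSq U.property V.property W.property hsq hP hw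
  refine ⟨⟨hex.choose⟩, InducedCategory.hom_ext hex.choose_spec.1, InducedCategory.hom_ext hex.choose_spec.2,
    fun {m} h₁ h₂ => InducedCategory.hom_ext (Groth.Agent.AlgSpMor.hom_ext_of_isElemDistSq U.property V.property
      W.property hsq ?_ ?_)⟩
  · exact (congrArg (fun φ => InducedCategory.Hom.hom φ) h₁).trans hex.choose_spec.1.symm
  · exact (congrArg (fun φ => InducedCategory.Hom.hom φ) h₂).trans hex.choose_spec.2.symm

end Groth.Agent.S10695
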