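import Groth.Statements.S10707
import Groth.Agent.AlgSpMor.GlueEq

set_option autoImplicit false
universe u
open CategoryTheory CategoryTheory.Limits AlgebraicGeometry TensorProduct
open AlgSp

namespace Groth.Agent.S10707

/-- Let `(R → R', f)` be a glueing pair, `X = Spec R`, `U = Spec R_f`, `X' = Spec R'`, and let `Y`, `Z`
be algebraic spaces over `X` glueable for `(R → R', f)`. Two morphisms `a, b : Y → Z` over `X` whose
base changes to `U` agree and whose base changes to `X'` agree are equal. -/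
theorem result (R : Type u) [CommRing R] (R' : Type u) [CommRing R'] [Algebra R R']
    (f : R) (hRR' : EtGlue.IsGlueingPair R R' f) {Y Z YU YX' : AlgSp.Space (Spec (CommRingCat.of R))}
    (hY : (∀ (A : Type u) [CommRing A] [Algebra R A]
      (g : (AlgSp.yon (Spec (CommRingCat.of R))).obj (Over.mk (Spec.map (CommRingCat.ofHom (algebraMap R A))) : Over (Spec (CommRingCat.of R))) ⟶ Y.obj),
      AlgSp.RepWith @Etale g → EtGlue.IsGlueable R R' f A))
    (hZ : (∀ (A : Type u) [CommRing A] [Algebra R A]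
      (g : (AlgSp.yon (Spec (CommRingCat.of R))).obj (Over.mk (Spec.map (CommRingCat.ofHom (algebraMap R A))) : Over (Spec (CommRingCat.of R))) ⟶ Z.obj),
      AlgSp.RepWith @Etale g → EtGlue.IsGlueable R R' f A))
    (a b : Y ⟶ Z) (πZ : Z.obj ⟶ (AlgSp.yon (Spec (CommRingCat.of R))).obj (Over.mk (𝟙 _)))
    (inU : (Over.mk (Spec.map (CommRingCat.ofHom (algebraMap R (Localization.Away f)))) : Over (Spec (CommRingCat.of R))) ⟶ Over.mk (𝟙 _))
    (uY : YU ⟶ Y) (vY : YU.obj ⟶ (AlgSp.yon (Spec (CommRingCat.of R))).obj (Over.mk (Spec.map (CommRingCat.ofHom (algebraMap R (Localization.Away f)))) : Over (Spec (CommRingCat.of R))))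
    (hYU : IsPullback uY.hom vY (a.hom ≫ πZ) ((AlgSp.yon (Spec (CommRingCat.of R))).map inU))
    (inX' : (Over.mk (Spec.map (CommRingCat.ofHom (algebraMap R R'))) : Over (Spec (CommRingCat.of R))) ⟶ Over.mk (𝟙 _))
    (uY' : YX' ⟶ Y) (vY' : YX'.obj ⟶ (AlgSp.yon (Spec (CommRingCat.of R))).obj (Over.mk (Spec.map (CommRingCat.ofHom (algebraMap R R'))) : Over (Spec (CommRingCat.of R))))
    (hYX' : IsPullback uY'.hom vY' (a.hom ≫ πZ) ((AlgSp.yon (Spec (CommRingCat.of R))).map inX'))
    (haU : uY ≫ a = uY ≫ b) (haX' : uY' ≫ a = uY' ≫ b) : a = b := by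
  apply ObjectProperty.hom_ext
  have hterm : ∀ {T : Over (Spec (CommRingCat.of R))}
      (u v : (AlgSp.yon _).obj T ⟶ (AlgSp.yon (Spec (CommRingCat.of R))).obj (Over.mk (𝟙 _))), u = v := fun u v => by
    obtain ⟨u', rfl⟩ := (AlgSp.yon _).map_surjective u
    obtain ⟨v', rfl⟩ := (AlgSp.yon _).map_surjective v
    congr 1
    apply Over.OverMorphism.ext
    have hu := Over.w u'
    have hv := Over.w v'
    simp only [Over.mk_hom] at hu hv
    exact hu.trans hv.symm
  refine AlgSpMor.GlueEq.eq_of_eq hRR' hY a.hom b.hom (fun A _ _ g hA => ?_) (fun A _ _ g hA => ?_)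
  · let φ : Localization.Away f →+* A := IsLocalization.Away.lift f hA
    let s : AlgSpMor.GlueableEt.aff R A ⟶ AlgSpMor.GlueableEt.aff R (Localization.Away f) :=
      Over.homMk (Spec.map (CommRingCat.ofHom φ)) (by
        show Spec.map _ ≫ Spec.map _ = Spec.map _
        rw [← Spec.map_comp, ← CommRingCat.ofHom_comp]
        congr 2
        exact IsLocalization.Away.lift_comp f hA)
    have h := congrArg (hYU.lift g ((AlgSp.yon _).map s) (hterm _ _) ≫ ·) (congrArg (fun k => k.hom) haU)
    simp only [ObjectProperty.FullSubcategory.comp_hom, hYU.lift_fst_assoc] at h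
    exact h
  · obtain ⟨φ, hφ⟩ := hA
    let s : AlgSpMor.GlueableEt.aff R A ⟶ AlgSpMor.GlueableEt.aff R R' :=
      Over.homMk (Spec.map (CommRingCat.ofHom φ)) (by
        show Spec.map _ ≫ Spec.map _ = Spec.map _
        rw [← Spec.map_comp, ← CommRingCat.ofHom_comp, hφ])
    have h := congrArg (hYX'.lift g ((AlgSp.yon _).map s) (hterm _ _) ≫ ·) (congrArg (fun k => k.hom) haX')
    simp only [ObjectProperty.FullSubcategory.comp_hom, hYX'.lift_fst_assoc] at h
    exact h

end Groth.Agent.S10707
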