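import Groth.Statements.S10739
import Groth.Agent.AlgSpQC10.AffinePushH
import Groth.Agent.SitePullUnit.DerivedClass

set_option autoImplicit false
universe u
open CategoryTheory CategoryTheory.Limits AlgebraicGeometry Opposite
open AlgSp

namespace Groth.Agent.S10739

/-- Let f : X ⟶ Y be an affine morphism of algebraic spaces over S; such a morphism is representable,
and the representability is carried as a hypothesis. Then for every quasi-coherent O_X-module M on
the small etale site of X and every i > 0, the higher direct image R^i f_* of the abelian sheaf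
underlying M is zero. -/
theorem result {S : Scheme.{u}} {X Y : AlgSp.Space S} (f : X ⟶ Y)
    (hf : AlgSp.Representable f.hom) (haff : AlgSp.IsAffineMor f.hom) (M : AlgSp.ModEt X.obj) [M.IsQuasicoherent]
    (i : ℕ) (hi : 0 < i) :
    IsZero ((AlgSp.RpushEt hf i).obj ((AlgSp.toAbEt X.obj).obj M)) := by
  obtain ⟨q, rfl⟩ := Nat.exists_eq_succ_of_ne_zero hi.ne'
  haveI : (AlgSp.pushEt hf AddCommGrpCat.{u + 1}).IsRightAdjoint :=
    (AlgSp.pullPushAdjEt hf AddCommGrpCat.{u + 1}).isRightAdjoint
  haveI : PreservesFiniteLimits (AlgSp.pushEt hf AddCommGrpCat.{u + 1}) :=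
    letI := (AlgSp.pullPushAdjEt hf AddCommGrpCat.{u + 1}).rightAdjoint_preservesLimits
    PreservesLimitsOfSize.preservesFiniteLimits.{0, 0} _
  refine Groth.Agent.SitePullUnit.isZero_rightDerived_of_class _
    (fun F => Groth.Agent.AlgSpQC10.IsCechAcyclic (Groth.Agent.QCart.etBasis X.obj) F)
    (fun T hT h1 h2 => ?_) (fun T hT h1 _ => ?_)
    (Groth.Agent.AlgSpQC10.isCechAcyclic_of_isQuasicoherent M) q
  · exact Groth.Agent.AlgSpQC10.isCechAcyclic_X₃ T hT (fun e h => Groth.Agent.AlgSpQC10.isAff_of_iso e h) h1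
      (Groth.Agent.AlgSpQC10.isCechAcyclic_of_injective T.X₂)
  · exact (Groth.Agent.AlgSpQC10.shortExact_map_pushEt hf haff X.property Y.property T hT h1).epi_g

end Groth.Agent.S10739
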