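import Groth.Statements.S1075
import Groth.Agent.DSites.DerPi
import Mathlib.Algebra.Homology.Factorizations.CM5a
import Mathlib.Algebra.Homology.DerivedCategory.TStructure
-- import your own Groth.Agent.* helpers here

set_option autoImplicit false
universe w v u
open CategoryTheory CategoryTheory.Limits
open CohDer

namespace Groth.Agent.S1075

/-- In D(A), for A abelian with enough injectives and countable products, every sequence of
bounded-below objects has a product, so derived limits of such sequences exist. -/
theorem result {A : Type u} [Category.{v} A] [Abelian A] [HasDerivedCategory.{w} A]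
    [HasLimitsOfShape (Discrete ℕ) A] [EnoughInjectives A]
    (K : ℕ → DerivedCategory A) (hK : ∀ n, ∃ a : ℤ, (K n).IsGE a) : HasProduct K := by
  have hrep : ∀ n, ∃ (I : CochainComplex A ℤ) (_ : DerivedCategory.Qh.obj
      ((HomotopyCategory.quotient A (ComplexShape.up ℤ)).obj I) ≅ K n), I.IsKInjective := by
    intro n
    obtain ⟨a, ha⟩ := hK n
    obtain ⟨M, hM, ⟨e⟩⟩ := DerivedCategory.exists_iso_Q_obj_of_isGE (K n) a
    obtain ⟨I, i, hi, hinj, hI⟩ :=
      CochainComplex.Plus.modelCategoryQuillen.exists_quasiIso_injective M a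
    exact ⟨I, (DerivedCategory.quotientCompQhIso A).app I ≪≫
      (asIso (DerivedCategory.Q.map i)).symm ≪≫ e.symm, CochainComplex.isKInjective_of_injective I a⟩
  choose I e hI using hrep
  haveI := hI
  let q := HomotopyCategory.quotient A (ComplexShape.up ℤ)
  let p := fun n => DerivedCategory.Qh.map (q.map (Pi.π I n)) ≫ (e n).hom
  have hp : ∀ Y : DerivedCategory A, Function.Bijective
      fun (g : Y ⟶ DerivedCategory.Qh.obj (q.obj (∏ᶜ I))) (n : ℕ) => g ≫ p n := by
    intro Y
    have h := DSites.DerPi.bijective_Qh_pi I Y
    refine ⟨fun g g' he => h.1 (funext fun n => ?_), fun g => ?_⟩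
    · have := congrFun he n
      simp only [p, ← Category.assoc, cancel_mono] at this
      exact this
    · obtain ⟨l, hl⟩ := h.2 fun n => g n ≫ (e n).inv
      refine ⟨l, funext fun n => ?_⟩
      show l ≫ _ ≫ _ = _
      rw [← Category.assoc]
      exact (congrArg (· ≫ (e n).hom) (congrFun hl n)).trans (by simp)
  exact HasLimit.mk ⟨Fan.mk _ p, Fan.IsLimit.mk _
    (fun s => ((hp s.pt).2 s.proj).choose)
    (fun s n => congrFun ((hp s.pt).2 s.proj).choose_spec n)
    (fun s m hm => (hp s.pt).1 (funext fun n =>
      (hm n).trans (congrFun ((hp s.pt).2 s.proj).choose_spec n).symm))⟩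

end Groth.Agent.S1075
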