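import Groth.Statements.S10750
import Groth.Agent.AlgSpDM.Finite
import Groth.Agent.AlgSpVal.ExistUC
import Groth.Agent.AlgSpDec.LimDescentRep
import Groth.Agent.AlgSpDec.MonoRep
import Groth.Agent.AlgSpDec.Basic
-- import your own Groth.Agent.* helpers here

set_option backward.isDefEq.respectTransparency false
open CategoryTheory CategoryTheory.Limits AlgebraicGeometry AlgSp Groth.Agent.AlgSpLib Groth.Agent.AlgSpPts

set_option autoImplicit false
universe u
open CategoryTheory CategoryTheory.Limits AlgebraicGeometry Opposite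
open AlgSp

namespace Groth.Agent.S10750

/-- Take a proper morphism f : X ⟶ Y of algebraic spaces over S whose target Y is locally Noetherian,
and let y be a geometric point of Y such that the fibre X_y (a pullback of f along the corresponding
morphism from the spectrum of the algebraically closed field) has finitely many points. Then there
is an open subspace V of Y containing the image of y such that the base change X ×_Y V ⟶ V is
finite. -/
theorem result {S : Scheme.{u}} {X Y : AlgSp.Space S}
    (f : X ⟶ Y) (hY : AlgSp.IsLocNoethSp Y.obj) (hf : AlgSp.IsProperMor f.hom) (y : AlgSp.FieldPt Y.obj)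
    (hy : y.IsGeometric) (Xy : AlgSp.Sp S) (fst : Xy ⟶ X.obj) (snd : Xy ⟶ (AlgSp.yon S).obj y.pt)
    (hsq : IsPullback fst snd f.hom y.toHom) (hfin : Finite (AlgSp.Points Xy)) :
    ∃ (V : AlgSp.Space S) (j : V ⟶ Y), AlgSp.RepWith @IsOpenImmersion j.hom ∧
      AlgSp.Points.mk y ∈ Set.range (AlgSp.Points.map j.hom) ∧
        ∀ (P : AlgSp.Space S) (fst' : P ⟶ X) (snd' : P ⟶ V), IsPullback fst'.hom snd'.hom f.hom j.hom →
          AlgSp.IsFiniteMor snd'.hom := by
  have hlft := hf.2.1.1
  have hP : IsAlgSpace Xy := isAlgSpace_of_isPullback hsq X.property (IsAlgSpace.yon_obj _) Y.property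
  haveI : IsAffine y.pt.left := inferInstanceAs (IsAffine (Spec (CommRingCat.of y.K)))
  have hdec : IsDecent Xy := AlgSpDec.isDecent_of_isQuasiSeparatedSp hP
    (AlgSpVal.isQuasiSeparatedSp_of_toAffine snd
      (isQuasiSeparatedMor_of_isPullback hsq (AlgSpDec.isQuasiSeparatedMor_of_isSeparatedMor hf.1)))
  have hl : LocP @LocallyOfFiniteType snd :=
    locP_of_isPullback hsq X.property Y.property (IsAlgSpace.yon_obj _) hlft
  haveI : DiscreteTopology (Points Xy) := by
    refine discreteTopology_iff_isOpen_singleton.2 fun z => ?_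
    obtain ⟨U, a, u, hU, ha, rfl⟩ := AlgSpDec.exists_affine_chart_at hP z
    haveI := hU
    haveI : Finite U.left := by
      refine Set.finite_univ_iff.1 ?_
      rw [← Set.preimage_univ (f := Points.ofPt a)]
      exact (Set.finite_univ (α := Points Xy)).preimage' fun x _ => AlgSpDec.finite_fibre hP hdec ha x
    obtain ⟨h, hh⟩ := (yon S).map_surjective (a ≫ snd)
    haveI : LocallyOfFiniteType h.left :=
      hl a (𝟙 _) h ha (repWith_id _ _) (by rw [Category.comp_id, hh])
    let h' : U.left ⟶ Spec (CommRingCat.of y.K) := h.left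
    haveI : LocallyOfFiniteType h' := ‹LocallyOfFiniteType h.left›
    haveI : JacobsonSpace U.left := LocallyOfFiniteType.jacobsonSpace h'
    simpa using isOpenMap_ofPt ha {u} (isOpen_discrete _)
  refine AlgSpDM.exists_finite_nhd f (Points.mk y) hf fun x hx => ?_
  obtain ⟨z, hz, -⟩ := exists_point_of_isPullback hsq (x := x)
    (y := Points.ofScheme y.pt (IsLocalRing.closedPoint y.K)) (by
      rw [hx, ← Points.ofPt_eq_map_ofScheme, ← mk_eq_ofPt])
  obtain ⟨U, a, ha, has⟩ := hP.atlas
  obtain ⟨u, hu⟩ := surjective_ofPt has z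
  obtain ⟨h, hh⟩ := (yon S).map_surjective (a ≫ snd)
  haveI : LocallyOfFiniteType h.left := hl a (𝟙 _) h ha (repWith_id _ _) (by rw [Category.comp_id, hh])
  rw [← hz]
  exact AlgSpDec.FieldFibre.hasAtMor_zero_of_fibre hsq X.property Y.property hlft z a ha h hh.symm u hu
    (AlgSpDec.FieldFibre.fibreDimAt_zero_of_discrete ha hh.symm u)

end Groth.Agent.S10750
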