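import Groth.Statements.S10758
import Groth.Agent.AlgSpQC10.StalkFin

set_option backward.isDefEq.respectTransparency false
set_option linter.style.haveILetI false
-- import your own Groth.Agent.* helpers here

set_option autoImplicit false
universe u
open CategoryTheory CategoryTheory.Limits AlgebraicGeometry Opposite
open AlgSp

namespace Groth.Agent.S10758

/-- Let X be a locally Noetherian algebraic space over S, φ : G ⟶ F a morphism of coherent O_X-modules
on the small etale site of X (of finite presentation, X being locally Noetherian) and x̄ a geometric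
point of X. If the map φ_x̄ on stalks at x̄ (of the underlying abelian sheaves) is bijective, then
there is an open subspace X' ⊂ X containing the image of x̄ such that φ|_{X'} is an isomorphism: φ
is bijective on sections over every scheme etale over X whose image in |X| lies in |X'|. -/
theorem result {S : Scheme.{u}} (X : AlgSp.Space S)
    (hX : AlgSp.IsLocNoethSp X.obj) {G F : AlgSp.ModEt X.obj} [G.IsFinitePresentation] [F.IsFinitePresentation]
    (φ : G ⟶ F) (xbar : AlgSp.FieldPt X.obj) (hx : xbar.IsGeometric)
    (hbij : IsIso ((AlgSp.stalkEtFunctor AddCommGrpCat.{u + 1} xbar).map ((AlgSp.toAbEt X.obj).map φ))) :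
    ∃ (X' : AlgSp.Space S) (j : X' ⟶ X), AlgSp.RepWith @IsOpenImmersion j.hom ∧
      AlgSp.Points.mk xbar ∈ Set.range (AlgSp.Points.map j.hom) ∧
        ∀ E : AlgSp.EtOver X.obj, Set.range (AlgSp.Points.ofPt E.obj.hom) ⊆ Set.range (AlgSp.Points.map j.hom) →
          IsIso (φ.val.app (op E)) := by
  obtain ⟨N₁, h₁, hs⟩ := Groth.Agent.AlgSpQC10.exists_surjective X.property hx φ
    ((AddCommGrpCat.epi_iff_surjective _).1 inferInstance)
  obtain ⟨N, g, hN, hi⟩ := Groth.Agent.AlgSpQC10.exists_injective_under X.property hx hX φ
    ((AddCommGrpCat.mono_iff_injective _).1 inferInstance) N₁ h₁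
  haveI := h₁
  haveI := hN
  have hsN := Groth.Agent.AlgSpQC10.surjective_ap_of_map φ g.val hs
  obtain ⟨X', j, hj, hr⟩ := Groth.Agent.AlgSpQC10.exists_open_sub X.property X.property N.1
  refine ⟨X', j, hj, ?_, fun E hE => ?_⟩
  · rw [hr]
    exact ⟨_, Groth.Agent.AlgSpDec.EtStalkElts.ofPt_base xbar N⟩
  · rw [hr] at hE
    exact (ConcreteCategory.isIso_iff_bijective _).2
      (Groth.Agent.AlgSpQC10.bijective_ap_of_range X.property φ ⟨hi, hsN⟩ E hE)

end Groth.Agent.S10758
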