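import Groth.Statements.S10765
import Groth.Agent.AlgSpProper.FiniteUnion
-- import your own Groth.Agent.* helpers here

set_option autoImplicit false
universe u
open CategoryTheory CategoryTheory.Limits AlgebraicGeometry
open AlgSp

namespace Groth.Agent.S10765

/-- Let f : X ⟶ Y be a morphism of algebraic spaces over S that is locally of finite type and let i_k :
Z_k ⟶ X, for k ranging over a finite index set, be closed subspaces with each Z_k ⟶ Y proper. Then
there is a closed subspace W ⟶ X whose image in |X| is the union of the images of the |Z_k| and with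
W ⟶ Y proper; that is, a finite union of closed subsets proper over Y is proper over Y. -/
theorem result {S : Scheme.{u}} {X Y : AlgSp.Space S}
    (f : X ⟶ Y) (hf : AlgSp.LocP @LocallyOfFiniteType f.hom)
    {n : ℕ} (Z : Fin n → AlgSp.Space S) (i : ∀ k, Z k ⟶ X)
    (hi : ∀ k, AlgSp.RepWith @IsClosedImmersion (i k).hom) (hZ : ∀ k, AlgSp.IsProperMor (i k ≫ f).hom) :
    ∃ (W : AlgSp.Space S) (j : W ⟶ X), AlgSp.RepWith @IsClosedImmersion j.hom ∧
      Set.range (AlgSp.Points.map j.hom) = ⋃ k, Set.range (AlgSp.Points.map (i k).hom) ∧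
      AlgSp.IsProperMor (j ≫ f).hom := by
  classical
  open Groth.Agent.AlgSpLib Groth.Agent.AlgSpPts Groth.Agent.AlgSpPts.ProperSub in
  have hcl : ∀ k, IsClosed (Set.range (AlgSp.Points.map (i k).hom)) := fun k =>
    isClosed_range_of_univClosed X.property (isProperMor_of_closedImmersion (hi k)).2.2
  obtain ⟨W, j, hj, hjr, hW⟩ := Groth.Agent.S10192.result X _ (isClosed_iUnion_of_finite hcl)
  choose R a ha har hR using fun k => Groth.Agent.S10192.result X _ (hcl k)
  choose r hr using fun k => (Groth.Agent.S10193.result j hj (hR k) (a k)).2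
    (by rw [hjr, har k]; exact Set.subset_iUnion (fun k => Set.range (AlgSp.Points.map (i k).hom)) k)
  have := Groth.Agent.AlgSpPts.ProperSub.mono_closedImmersion hj
  have hrj : ∀ k, (r k).hom ≫ j.hom = (a k).hom := fun k => congrArg (·.hom) (hr k)
  refine ⟨W, j, hj, hjr, Groth.Agent.AlgSpProper.isProperMor_of_finite_cover R r (j ≫ f) (fun k => ?_) (fun w => ?_)
    (Groth.Agent.AlgSpLib.locP_comp W.property X.property Y.property
      (Groth.Agent.AlgSpPts.isProperMor_of_closedImmersion hj).2.1.1 hf) fun k => ?_⟩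
  · exact Groth.Agent.AlgSpLib.repWith_of_isPullback (P := @IsClosedImmersion) (fst := 𝟙 _) (g := j.hom)
      ⟨⟨by rw [Category.id_comp, hrj k]⟩, ⟨PullbackCone.IsLimit.mk _ (fun s => s.fst)
        (fun s => Category.comp_id _)
        (fun s => (cancel_mono j.hom).1 (by rw [Category.assoc, hrj k]; exact s.condition))
        (fun s m h₁ _ => by simpa using h₁)⟩⟩ (ha k)
  · obtain ⟨k, hk⟩ := Set.mem_iUnion.1 (hjr.subset ⟨w, rfl⟩)
    obtain ⟨y, hy⟩ := (har k).symm.subset hk
    refine ⟨k, y, Groth.Agent.AlgSpPts.injective_map (Groth.Agent.AlgSpLib.repWith_mono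
      (fun _ _ g (_ : IsClosedImmersion g) => g.isClosedEmbedding.injective) _ hj) ?_⟩
    rw [← AlgSp.Points.map_comp, hrj k, hy]
  · rw [← Category.assoc, hr k]
    exact Groth.Agent.AlgSpPts.ProperSub.isProperMor_of_range_eq f hf (i k) (a k) (hi k) (ha k) (har k).symm (hZ k)

end Groth.Agent.S10765
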