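import Groth.Statements.S10769
import Groth.Agent.AlgSpQC10.QCohD
import Groth.Agent.KFlatLib.Scheme.RpushCoprodQCoh
import Groth.Agent.QCart.Colim

set_option autoImplicit false
universe u
open CategoryTheory CategoryTheory.Limits AlgebraicGeometry
attribute [local instance] HasDerivedCategory.standard
open AlgSp

namespace Groth.Agent.S10769

set_option backward.isDefEq.respectTransparency false
set_option backward.isDefEq.respectTransparency.types false

open Groth.Agent.QCart Groth.Agent.AlgSpQC10

set_option maxHeartbeats 400000 in
/-- Let X be an algebraic space over S and E_i a family of objects of D(O_X) (modules on the small etale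
site) with quasi-coherent cohomology sheaves. Granted that the direct sum of the E_i exists in
D(O_X) (it does), the direct sum again has quasi-coherent cohomology sheaves; thus D_QCoh(O_X) has
direct sums and they agree with those of D(O_X). -/
theorem result {S : Scheme.{u}} (X : AlgSp.Space S) {ι : Type (u + 1)}
    (E : ι → AlgSp.DModEt X.obj) [HasCoproduct E]
    (hE : ∀ i, DCoh.IsQCohDMod (AlgSp.OEtRing X.obj) (E i)) :
    DCoh.IsQCohDMod (AlgSp.OEtRing X.obj) (∐ E) := by
  intro q
  haveI := isGrothendieckAbelian_sheafOfModules (OEtRing X.obj)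
  haveI := KFlatLib.preservesColimit_homology E q
  let D : Discrete ι ⥤ SheafOfModules.{u + 1} (RS.{u + 1, u, u + 1} (OEt X.obj)) :=
    Discrete.functor E ⋙ DerivedCategory.homologyFunctor (ModEt X.obj) q
  let c : Cocone D := (DerivedCategory.homologyFunctor (ModEt X.obj) q).mapCocone
    (Cofan.mk (∐ E) (Sigma.ι E))
  have hc : IsColimit c := isColimitOfPreserves (DerivedCategory.homologyFunctor (ModEt X.obj) q) (coproductIsCoproduct E)
  have hk : ∀ k, (QCart.etBasis X.obj).IsCart (QCart.psh (R := OEt X.obj) (D.obj k)) := fun k =>
    haveI := hE k.as q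
    isCart (X := X.obj) (DCoh.HDMod (OEtRing X.obj) (E k.as) q)
  have h := AffBasis.isCart_colimit_sheaf (R := OEt X.obj) (b := QCart.etBasis X.obj) D c hc hk
  exact (AffBasis.isQuasicoherent_iff_isCart (R := OEt X.obj) (QCart.etBasis X.obj)).2 h

end Groth.Agent.S10769
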