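import Groth.Statements.S10771
import Groth.Agent.AlgSpQC10.Weak
import Groth.Agent.KFlatLib.PsiC
import Groth.Agent.QCart.Exact
import Groth.Agent.QCart.Colim

set_option autoImplicit false
universe u
open CategoryTheory CategoryTheory.Limits AlgebraicGeometry
attribute [local instance] HasDerivedCategory.standard
open AlgSp

namespace Groth.Agent.S10771

set_option backward.isDefEq.respectTransparency false
set_option backward.isDefEq.respectTransparency.types false
set_option linter.style.haveILetI false

open Opposite Groth.Agent.QCart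

section

universe v₁ u₁ w

variable {C : Type u₁} [Category.{v₁} C] {J : GrothendieckTopology C}
  [HasSheafify J AddCommGrpCat.{w}] [J.WEqualsLocallyBijective AddCommGrpCat.{w}]
  [J.HasSheafCompose (forget₂ CommRingCat.{w} RingCat.{w})]
  [J.HasSheafCompose (CategoryTheory.forget AddCommGrpCat.{w})] {R : Sheaf J CommRingCat.{w}}
  (b : AffBasis J R.obj)

/-- A summand of a free module is cartesian. -/
theorem isCart_of_summand {M : SheafOfModules.{w} (RS R)} {I : Type w}
    (i : M ⟶ SheafOfModules.free (R := RS R) I) (p : SheafOfModules.free (R := RS R) I ⟶ M) (h : i ≫ p = 𝟙 M) :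
    b.IsCart (psh M) := by
  let f := p ≫ i - 𝟙 (SheafOfModules.free (R := RS R) I)
  have hi : i ≫ f = 0 := by
    rw [Preadditive.comp_sub, ← Category.assoc, h, Category.id_comp, Category.comp_id, sub_self]
  have hl : IsLimit (KernelFork.ofι i hi) := KernelFork.IsLimit.ofι i hi (fun k _ => k ≫ p)
    (fun k hk => by
      rw [Preadditive.comp_sub, Category.comp_id, sub_eq_zero] at hk
      rw [Category.assoc]
      exact hk)
    (fun k _ m hm => by rw [← hm, Category.assoc, h, Category.comp_id])
  exact AffBasis.IsCart.of_iso (AffBasis.IsCart.kernel f (b.isCart_free I) (b.isCart_free I))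
    (IsLimit.conePointUniqueUpToIso (kernelIsKernel f) hl)

/-- The cohomology of a complex of cartesian modules is cartesian. -/
theorem isCart_homology (K : CochainComplex (SheafOfModules.{w} (RS R)) ℤ) (h : ∀ i, b.IsCart (psh (K.X i)))
    (i : ℤ) : b.IsCart (psh (K.homology i)) := by
  have hc : b.IsCart (psh (K.cycles i)) :=
    AffBasis.IsCart.of_iso (AffBasis.IsCart.kernel (K.d i (i + 1)) (h _) (h _))
      (IsLimit.conePointUniqueUpToIso (kernelIsKernel _) (K.cyclesIsKernel i (i + 1) (by simp)))
  exact AffBasis.IsCart.of_iso (AffBasis.IsCart.cokernel (K.toCycles (i - 1) i) (h _) hc)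
    (IsColimit.coconePointUniqueUpToIso (cokernelIsCokernel _) (K.homologyIsCokernel (i - 1) i (by simp)))

end


/-- Let X be an algebraic space over S and E an m-pseudo-coherent object of D(O_X) (modules on the small
etale site). Then H^i(E) is a quasi-coherent O_X-module for every i > m. In particular a
pseudo-coherent object has quasi-coherent cohomology sheaves. -/
theorem result {S : Scheme.{u}} (X : AlgSp.Space S) (m : ℤ)
    (E : AlgSp.DModEt X.obj) (hE : AlgSp.IsPseudoCoherentEtD m E) (i : ℤ) (hi : m < i) :
    (DCoh.HDMod (AlgSp.OEtRing X.obj) E i).IsQuasicoherent := by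
  let b := QCart.etBasis X.obj
  let H : SheafOfModules.{u + 1} (RS.{u + 1, u, u + 1} (OEt X.obj)) := DCoh.HDMod (OEtRing X.obj) E i
  have hloc : AffBasis.IsCartLocal.{u + 1, u, u + 1} (R := OEt X.obj) b H := by
    intro A _
    obtain ⟨ι, V, g, hg, hP⟩ := hE A
    refine ⟨_, Precoverage.generate_mem_toGrothendieck hg, fun W f hf => ?_⟩
    obtain ⟨k, r, hr⟩ := (Sieve.mem_ofArrows_iff _ _ _).1 hf
    obtain ⟨P, α, ⟨-, hfree⟩, hiso, -⟩ := hP k
    have h1 := isCart_homology (R := (OEt X.obj).over (V k)) (b.over (V k)) P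
      (fun j => by
        obtain ⟨n, a, p, hap⟩ := hfree j
        exact isCart_of_summand (R := (OEt X.obj).over (V k)) (b.over (V k)) a p hap) i
    haveI := hiso i hi
    let e : P.homology i ≅ (resModEt (V k)).obj H :=
      ((DerivedCategory.homologyFunctorFactors (ModEtOn (V k)) i).app P).symm ≪≫
        asIso ((DerivedCategory.homologyFunctor (ModEtOn (V k)) i).map α) ≪≫
          (KFlatLib.mapDCHomologyIso (resModEt (V k)) i).app E
    have h2 := AffBasis.IsCart.of_iso (R := (OEt X.obj).over (V k)) h1 e
    exact fun A₁ A₂ hA₁ hA₂ v s => (h2 (E := Over.mk (v ≫ r)) (E' := Over.mk (s ≫ v ≫ r)) hA₁ hA₂ (Over.homMk s) :)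
  exact (AffBasis.isQuasicoherent_iff_isCart (R := OEt X.obj) b).2 (AffBasis.IsCartLocal.isCart (R := OEt X.obj) H hloc)

end Groth.Agent.S10771
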