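import Groth.Statements.S10786
import Groth.Agent.AlgSpQC10.SeqCech
import Groth.Agent.AlgSpQC10.ModCartan
import Groth.Agent.AlgSpQC10.Vanish

set_option autoImplicit false
universe u
open CategoryTheory CategoryTheory.Limits AlgebraicGeometry
attribute [local instance] HasDerivedCategory.standard
open AlgSp

namespace Groth.Agent.S10786

set_option backward.isDefEq.respectTransparency false
set_option backward.isDefEq.respectTransparency.types false

open Opposite Abelian Groth.Agent.QCart Groth.Agent.AlgSpQC10

theorem surjective_sections_of_epi {S : Scheme.{u}} {X : Sp S} {M N : ModEt X} [M.IsQuasicoherent]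
    [N.IsQuasicoherent] (f : M ⟶ N) [Epi f] (W : EtOver X) (hW : (QCart.etBasis X).aff W) :
    Function.Surjective (((toAbEt X).map f).hom.app (op W)).hom := by
  let T := ShortComplex.mk (kernel.ι f) f (kernel.condition f)
  have hT : T.ShortExact := { exact := ShortComplex.exact_kernel f }
  exact sections_surjective (T.map (toAbEt X)) (hT.map_of_exact (toAbEt X))
    (isCechAcyclic_of_isCart (fun e h => isAff_of_iso e h) _ (QCart.psh (R := OEt X) (kernel f)) rfl
      (AffBasis.IsCart.kernel (R := OEt X) f (isCart M) (isCart N))) hW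


set_option maxHeartbeats 400000 in
/-- Part (3): for the inverse system of cohomology sheaves: let X be an algebraic space over S and (M_n,
t_n : M_{n+1} ⟶ M_n) an inverse system of quasi-coherent O_X-modules (on the small etale site) whose
transition maps are epimorphisms. Then H^p(U, lim M_n) = 0 for every p > 0 and every affine object U
of the small etale site. (The published statement asks this only for affine open subspaces U of X;
this row asks it for every affine object U of the small etale site.) -/
theorem result {S : Scheme.{u}} (X : AlgSp.Space S)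
    (M : ℕ → AlgSp.ModEt X.obj) (t : ∀ n, M (n + 1) ⟶ M n) (hM : ∀ n, (M n).IsQuasicoherent)
    (ht : ∀ n, Epi (t n)) (U : AlgSp.EtOver X.obj) (hU : IsAffine U.obj.left.left) (p : ℤ) (hp : 0 < p) :
    Subsingleton (AlgSp.HEtDOn U (DCoh.inDMod (AlgSp.OEtRing X.obj) (limit (Functor.ofOpSequence t))) p) := by
  obtain ⟨n, rfl⟩ : ∃ n : ℕ, p = ((n + 1 : ℕ) : ℤ) := ⟨(p - 1).toNat, by omega⟩
  let L : ModEt X.obj := limit (Functor.ofOpSequence t)
  haveI := fun m => hM m
  haveI := fun m => ht m
  let R' : Sheaf ((etTop X.obj).over U) CommRingCat.{u + 1} := (OEt X.obj).over U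
  let b' : AffBasis ((etTop X.obj).over U) R'.obj := (QCart.etBasis X.obj).over U
  haveI := isGrothendieckAbelian_sheafOfModules (OEtOn U)
  haveI : HasExt.{u + 1} (ModEtOn U) := hasExt_of_enoughInjectives _
  haveI hExt : HasExt.{u + 1} (SheafOfModules.{u + 1} (RS.{u + 1, u, u + 1} R')) :=
    hasExt_of_enoughInjectives.{u + 1} (ModEtOn U)
  have hiso : ∀ {W W' : Over U}, (W ≅ W') → b'.aff W' → b'.aff W := fun e h =>
    isAff_of_iso ((Over.forget U).mapIso e) h
  let F : ℕ → Sheaf ((etTop X.obj).over U) AddCommGrpCat.{u + 1} := fun m =>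
    (SheafOfModules.toSheaf (OEtOn U)).obj ((resModEt U).obj (M m))
  have hL : IsCechAcyclic b' ((SheafOfModules.toSheaf (OEtOn U)).obj ((resModEt U).obj L)) := by
    refine isCechAcyclic_seqLimit F (fun m => (SheafOfModules.toSheaf (OEtOn U)).map ((resModEt U).map (t m))) _
      (fun m => (SheafOfModules.toSheaf (OEtOn U)).map ((resModEt U).map
        (limit.π (Functor.ofOpSequence t) (op m)))) hiso (fun m => ?_) (fun W hW x hx => ?_) (fun m => ?_)
      (fun m W hW => surjective_sections_of_epi (t m) W.left hW)
    · rw [← Functor.map_comp, ← Functor.map_comp, ← limit.w (Functor.ofOpSequence t) (homOfLE m.le_succ).op,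
        Functor.ofOpSequence_map_homOfLE_succ]
    · let G : ModEt X.obj ⥤ AddCommGrpCat.{u + 1} :=
        SheafOfModules.evaluation (OEtRing X.obj) (op W.left) ⋙ forget₂ _ AddCommGrpCat.{u + 1}
      let hl := isLimitOfPreserves G (limit.isLimit (Functor.ofOpSequence t))
      let hl' := isLimitOfPreserves (CategoryTheory.forget AddCommGrpCat.{u + 1}) hl
      obtain ⟨s, hs, huniq⟩ := (Types.isLimit_iff _).1 ⟨hl'⟩ (fun m => x m.unop) (fun {i j} f => by
        induction i using Opposite.rec with | op i => ?_
        induction j using Opposite.rec with | op j => ?_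
        have hji : j ≤ i := leOfHom f.unop
        obtain ⟨d, rfl⟩ := Nat.exists_eq_add_of_le hji
        induction d with
        | zero =>
          rw [Subsingleton.elim f (𝟙 _)]
          exact congrArg (fun k => k (x j)) ((Functor.ofOpSequence t ⋙ G ⋙ CategoryTheory.forget _).map_id _)
        | succ d ih =>
          rw [Subsingleton.elim f ((homOfLE (Nat.le_succ (j + d))).op ≫ (homOfLE (Nat.le_add_right j d)).op),
            Functor.map_comp]
          refine Eq.trans (congrArg ((Functor.ofOpSequence t ⋙ G ⋙ CategoryTheory.forget _).map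
            (homOfLE (Nat.le_add_right j d)).op) ?_) (ih _ (Nat.le_add_right j d))
          show (G.map ((Functor.ofOpSequence t).map _)).hom (x (j + d + 1)) = x (j + d)
          rw [Functor.ofOpSequence_map_homOfLE_succ]
          exact hx (j + d))
      exact ⟨s, fun m => hs (op m), fun s' hs' => huniq s' fun j => hs' j.unop⟩
    · exact isCechAcyclic_of_isCart hiso _ (QCart.psh (R := R') ((resModEt U).obj (M m))) rfl
        (AffBasis.IsCart.over (R := OEt X.obj) (isCart (M m)) U)
  haveI : Subsingleton (Abelian.Ext.{u + 1} (SheafOfModules.unit (OEtOn U)) ((resModEt U).obj L) (n + 1)) :=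
    subsingleton_ext_unit (R := R') (b := b') Over.mkIdTerminal
    (show b'.aff (Over.mk (𝟙 U)) from hU) hiso n ((resModEt U).obj L) hL
  exact (((shiftFunctor _ ((n + 1 : ℕ) : ℤ)).mapIso
    (((resModEt U).mapDerivedCategorySingleFunctor 0).app L)).homToEquiv.trans
    (Ext.homEquiv (X := SheafOfModules.unit (OEtOn U)) (Y := (resModEt U).obj L) (n := n + 1)).symm).subsingleton

end Groth.Agent.S10786
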