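import Groth.Statements.S10789
import Groth.Agent.AlgSpQC10.MVPair
import Groth.Agent.AlgSpQC10.MVDual
import Groth.Agent.AlgSpQC10.ModGroth
-- import your own Groth.Agent.* helpers here

set_option autoImplicit false
universe u
open CategoryTheory CategoryTheory.Limits AlgebraicGeometry
attribute [local instance] HasDerivedCategory.standard
open AlgSp

namespace Groth.Agent.S10789

/-- Part (1): for squares whose two parts are schemes: let X be an algebraic space over S and let U, V
be objects of the small etale site of X (schemes with representable etale structure maps to X) such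
that (U ⊂ X, V ⟶ X) is an elementary distinguished square; write U ×_X V for their product in the
site. Granting that restriction of O_X-modules to each of U, V and U ×_X V has a left adjoint j_!
(extension by zero, which exists), for every O_X-module F the sequence 0 ⟶ j_{U ×_X V,!}F|_{U ×_X V}
⟶ j_{U,!}F|_U ⊕ j_{V,!}F|_V ⟶ F ⟶ 0 is short exact, where the second map is given by the two
adjunction counits and the first by the extension map along U ×_X V ⟶ U and minus the extension map
along U ×_X V ⟶ V. Only squares whose open part and etale part are both schemes are covered. -/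
theorem result {S : Scheme.{u}} (X : AlgSp.Space S)
    (U V : AlgSp.EtOver X.obj) (hsq : AlgSp.IsElemDistSq U.obj.hom V.obj.hom)
    [(AlgSp.resModEt U).IsRightAdjoint] [(AlgSp.resModEt V).IsRightAdjoint]
    [(AlgSp.resModEt (AlgSp.EtOver.prodObj U V)).IsRightAdjoint] (F : AlgSp.ModEt X.obj) :
    ∃ h : biprod.lift ((AlgSp.shriekResNatTrans (AlgSp.EtOver.prodFst U V)).app F)
          (-((AlgSp.shriekResNatTrans (AlgSp.EtOver.prodSnd U V)).app F)) ≫
        biprod.desc ((Adjunction.ofIsRightAdjoint (AlgSp.resModEt U)).counit.app F)
          ((Adjunction.ofIsRightAdjoint (AlgSp.resModEt V)).counit.app F) = 0,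
      (ShortComplex.mk _ _ h).ShortExact := by
  haveI : EnoughInjectives (ModEt X.obj) :=
    haveI := Groth.Agent.AlgSpQC10.isGrothendieckAbelian_sheafOfModules (OEtRing X.obj)
    inferInstance
  have key : ∀ (W : EtOver X.obj) [(resModEt W).IsRightAdjoint] (A B : ModEt X.obj) (φ : A ⟶ B),
      (shriekResAdj W).homEquiv A B ((Adjunction.ofIsRightAdjoint (resModEt W)).counit.app A ≫ φ) =
        φ ≫ (resPushAdjEt W).unit.app B := fun W _ A B φ => by
    rw [shriekResAdj, Adjunction.comp_homEquiv]
    refine Eq.trans (congrArg ((resPushAdjEt W).homEquiv A ((resModEt W).obj B)) (a₂ := (resModEt W).map φ) ?_) ?_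
    · show (Adjunction.ofIsRightAdjoint (resModEt W)).homEquiv ((resModEt W).obj A) B _ = (resModEt W).map φ
      rw [Adjunction.homEquiv_unit, Functor.map_comp, ← Category.assoc, Adjunction.right_triangle_components,
        Category.id_comp]
    · rw [Adjunction.homEquiv_unit]
      exact ((resPushAdjEt W).unit.naturality φ).symm
  exact Groth.Agent.AlgSpQC10.MV.shortExact_adjoint (shriekResAdj U) (shriekResAdj V)
    (shriekResAdj (EtOver.prodObj U V)) (resPushAdjEt U).unit (resPushAdjEt V).unit
    (pushResNatTrans (EtOver.prodFst U V)) (pushResNatTrans (EtOver.prodSnd U V))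
    (fun I => Groth.Agent.AlgSpQC10.mv_pushforward X.property U V hsq I)
    (Adjunction.ofIsRightAdjoint (resModEt U)).counit (Adjunction.ofIsRightAdjoint (resModEt V)).counit
    (fun A B φ => key U A B φ) (fun A B φ => key V A B φ) F

end Groth.Agent.S10789
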