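import Groth.Statements.S10790
import Groth.Agent.AlgSpQC10.SeqExact
import Groth.Agent.AlgSpQC10.Vanish

set_option autoImplicit false
universe u
open CategoryTheory CategoryTheory.Limits AlgebraicGeometry
attribute [local instance] HasDerivedCategory.standard
open AlgSp

namespace Groth.Agent.S10790

set_option backward.isDefEq.respectTransparency false
set_option backward.isDefEq.respectTransparency.types false

open Opposite Abelian Pretriangulated Groth.Agent.QCart Groth.Agent.AlgSpQC10


/-- Part (2): for the inverse system of cohomology sheaves: let X be an algebraic space over S and (M_n,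
t_n : M_{n+1} ⟶ M_n) an inverse system of quasi-coherent O_X-modules (on the small etale site) whose
transition maps are epimorphisms. Then R lim M_n = lim M_n in D(O_X): granted that the product of
the M_n[0] exists in D(O_X) (it does), the morphism (lim M_n)[0] ⟶ ∏ M_n[0] whose components are the
limit projections, followed by identity minus transition, extends to a distinguished triangle (lim
M_n)[0] ⟶ ∏ M_n[0] ⟶ ∏ M_n[0] ⟶ (lim M_n)[1]. -/
theorem result {S : Scheme.{u}} (X : AlgSp.Space S)
    (M : ℕ → AlgSp.ModEt X.obj) (t : ∀ n, M (n + 1) ⟶ M n) (hM : ∀ n, (M n).IsQuasicoherent)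
    (ht : ∀ n, Epi (t n)) [HasProduct fun n : ℕ => DCoh.inDMod (AlgSp.OEtRing X.obj) (M n)] :
    ∃ c : (∏ᶜ fun n : ℕ => DCoh.inDMod (AlgSp.OEtRing X.obj) (M n)) ⟶
        (DCoh.inDMod (AlgSp.OEtRing X.obj) (limit (Functor.ofOpSequence t)))⟦(1 : ℤ)⟧,
      CategoryTheory.Pretriangulated.Triangle.mk
        (Pi.lift (f := fun n : ℕ => DCoh.inDMod (AlgSp.OEtRing X.obj) (M n))
          fun n : ℕ => (DerivedCategory.singleFunctor (AlgSp.ModEt X.obj) 0).map
            (limit.π (Functor.ofOpSequence t) (Opposite.op n)))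
        (Pi.lift fun n : ℕ => Pi.π (fun n : ℕ => DCoh.inDMod (AlgSp.OEtRing X.obj) (M n)) n -
          Pi.π (fun n : ℕ => DCoh.inDMod (AlgSp.OEtRing X.obj) (M n)) (n + 1) ≫
            (DerivedCategory.singleFunctor (AlgSp.ModEt X.obj) 0).map (t n))
        c ∈ CategoryTheory.Pretriangulated.distinguishedTriangles := by
  haveI := isGrothendieckAbelian_sheafOfModules (OEtRing X.obj)
  haveI : HasExt.{u + 1} (SheafOfModules.{u + 1} (RS.{u + 1, u, u + 1} (OEt X.obj))) :=
    hasExt_of_enoughInjectives.{u + 1} (ModEt X.obj)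
  haveI := fun m => hM m
  haveI := fun m => ht m
  let b := QCart.etBasis X.obj
  have hac : ∀ n, IsCechAcyclic b ((toAbEt X.obj).obj (M n)) := fun n => isCechAcyclic_of_isQuasicoherent (M n)
  have hl : ∀ (n : ℕ) (W : EtOver X.obj), b.aff W → ∀ φ : shRep (OEt X.obj) W ⟶ M n,
      ∃ ψ : shRep (OEt X.obj) W ⟶ M (n + 1), ψ ≫ t n = φ := fun n W hW φ =>
    exists_lift_shRep (b := b) (S := ShortComplex.mk (kernel.ι (t n)) (t n) (kernel.condition (t n)))
      { exact := ShortComplex.exact_kernel (t n) }
      (isCechAcyclic_of_isCart (fun e h => isAff_of_iso e h) _ (QCart.psh (R := OEt X.obj) (kernel (t n))) rfl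
        (AffBasis.IsCart.kernel (R := OEt X.obj) (t n) (isCart (M (n + 1))) (isCart (M n)))) hW φ
  have hSS := shortExact_seqShort (R := OEt X.obj) b M t (limit.cone _) (limit.isLimit _) hl
  haveI : HasProduct fun n => (DerivedCategory.singleFunctor (ModEt X.obj) 0).obj (M n) :=
    ‹HasProduct fun n : ℕ => DCoh.inDMod (OEtRing X.obj) (M n)›
  exact distinguished_of_seq (A := ModEt X.obj) M t (fun n => limit.π (Functor.ofOpSequence t) (op n))
    (seqShort (R := OEt X.obj) M t (limit.cone _)).zero hSS
    (isIso_piComparison_single (R := OEt X.obj) (b := b) (fun e h => isAff_of_iso e h) M hac)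

end Groth.Agent.S10790
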