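import Groth.Statements.S10870
import Groth.Agent.PlLib.DetRing
import Groth.Agent.Calg46.DimExt

set_option autoImplicit false
universe u
open CAlgX

namespace Groth.Agent.S10870

/-- For a field k and 0 ≤ r ≤ min(n, m), the affine determinantal scheme of n × m matrices of rank at
most r over k — the spectrum of the polynomial ring on the entries of the generic n × m matrix
modulo the ideal of its (r+1) × (r+1) minors — has dimension r(m + n − r). -/
theorem result (k : Type u) [Field k] (n m r : ℕ) (hr : r ≤ min n m) :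
    ringKrullDim (MvPolynomial (Fin n × Fin m) k ⧸ CAlgX.minorIdeal (Matrix.of fun (i : Fin n) (j : Fin m) => (MvPolynomial.X (i, j) : MvPolynomial (Fin n × Fin m) k)) (r + 1)) =
      ((r * (m + n - r) : ℕ) : WithBot ℕ∞) := by
  rcases Nat.eq_zero_or_pos m with rfl | hm
  · obtain rfl : r = 0 := by simpa using hr
    have hbot : CAlgX.minorIdeal (Matrix.of fun (i : Fin n) (j : Fin 0) =>
        (MvPolynomial.X (i, j) : MvPolynomial (Fin n × Fin 0) k)) (0 + 1) = ⊥ := by
      refine Ideal.span_eq_bot.2 ?_
      rintro _ ⟨fg, rfl⟩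
      exact (fg.2 0).elim0
    rw [hbot, ringKrullDim_eq_of_ringEquiv (RingEquiv.quotientBot _),
      MvPolynomial.ringKrullDim_of_isNoetherianRing]
    simp
  let K := AlgebraicClosure k
  have hmap : (CAlgX.minorIdeal (W4bk4grassmannian.genMatrix k n m) (r + 1)).map
      (MvPolynomial.map (algebraMap k K)) =
      CAlgX.minorIdeal (W4bk4grassmannian.genMatrix K n m) (r + 1) := by
    unfold CAlgX.minorIdeal
    rw [Ideal.map_span, ← Set.range_comp]
    refine congrArg (fun s => Ideal.span (Set.range s)) (funext fun fg => ?_)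
    rw [Function.comp_apply, RingHom.map_det]
    congr 1
    ext i j
    simp [W4bk4grassmannian.genMatrix]
  change ringKrullDim (MvPolynomial (Fin n × Fin m) k ⧸
    CAlgX.minorIdeal (W4bk4grassmannian.genMatrix k n m) (r + 1)) = _
  rw [← Calg46.DimExt.ringKrullDim_map k K, hmap]
  have h : ∀ s, s ≤ n → s ≤ m → (s ≤ r ↔ s < r + 1) := fun s _ _ => by omega
  have hI := Groth.Agent.PlLib.cellIdeal_cellPhi (m := n) (n := m) K (σ := r) (by omega) (by omega) h
  obtain ⟨-, hdim⟩ := Groth.Agent.PlLib.cm_and_dim_cell (K := K) (r := n) hm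
    (Groth.Agent.PlLib.cellPhi m n r (by omega) (by omega))
  rw [← hI, hdim, Groth.Agent.PlLib.codeg_cellPhi]

end Groth.Agent.S10870
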