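import Groth.Statements.S10876
import Groth.Agent.S12419
import Mathlib.RingTheory.Filtration
import Mathlib.RingTheory.Ideal.GoingUp

set_option autoImplicit false
universe u
open TensorProduct
open CAlg

namespace Groth.Agent.S10876

/-- Descent of flatness along finite injective maps: let A → B be a local homomorphism of Noetherian
local rings and A → A' an injective ring homomorphism making A' a finite A-module. Then B is A-flat
if and only if the base change A' ⊗_A B is A'-flat. -/
theorem result (A B A' : Type u) [CommRing A] [CommRing B]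
    [CommRing A'] [IsNoetherianRing A] [IsLocalRing A] [IsNoetherianRing B] [IsLocalRing B]
    [Algebra A B] [IsLocalHom (algebraMap A B)] [Algebra A A'] [Module.Finite A A']
    (hinj : Function.Injective (algebraMap A A')) :
    Module.Flat A B ↔ Module.Flat A' (A' ⊗[A] B) := by
  haveI : IsNoetherianRing A' := IsNoetherianRing.of_finite A A'
  haveI : Algebra.IsIntegral A A' := Algebra.IsIntegral.of_finite A A'
  haveI : FaithfulSMul A A' := (faithfulSMul_iff_algebraMap_injective A A').2 hinj
  haveI : Nontrivial A' := hinj.nontrivial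
  set m := IsLocalRing.maximalIdeal A
  set J := m.map (algebraMap A A')
  set r := Ideal.jacobson (⊥ : Ideal A') with hr
  have hcomap : ∀ P : Ideal A', P.IsMaximal → P.comap (algebraMap A A') = m := fun P hP =>
    IsLocalRing.eq_maximalIdeal (Ideal.isMaximal_comap_of_isIntegral_of_isMaximal (R := A) P)
  have hmax : ∀ P : Ideal A', P.IsPrime → J ≤ P → P.IsMaximal := fun P hP hJP => by
    refine Ideal.isMaximal_of_isIntegral_of_isMaximal_comap (R := A) P ?_
    rw [← (IsLocalRing.maximalIdeal.isMaximal A).eq_of_le (Ideal.IsPrime.ne_top (hP.comap _))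
      (Ideal.map_le_iff_le_comap.1 hJP)]
    exact IsLocalRing.maximalIdeal.isMaximal A
  have hJmax : ∀ P : Ideal A', P.IsMaximal → J ≤ P := fun P hP =>
    Ideal.map_le_iff_le_comap.2 (hcomap P hP).ge
  haveI : Finite (MaximalSpectrum A') := by
    haveI := J.finite_minimalPrimes_of_isNoetherianRing.to_subtype
    refine Finite.of_injective (β := J.minimalPrimes) (fun P => ⟨P.asIdeal,
      ⟨P.isMaximal.isPrime, hJmax _ P.isMaximal⟩, fun q hq hqP =>
        ((hmax q hq.1 hq.2).eq_of_le P.isMaximal.ne_top hqP).ge⟩) fun P Q h => ?_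
    exact MaximalSpectrum.ext (congrArg Subtype.val h)
  refine Groth.Agent.S12419.result A B A' ?_ fun n => ?_
  · refine le_antisymm ?_ fun a ha => ?_
    · obtain ⟨P, hP⟩ := Ideal.exists_maximal A'
      exact (Ideal.comap_mono (show r ≤ P from sInf_le ⟨bot_le, hP⟩)).trans (hcomap P hP).le
    · refine Ideal.mem_comap.2 (Submodule.mem_sInf.2 fun P hP => ?_)
      exact hJmax P hP.2 (Ideal.mem_map_of_mem _ ha)
  · have hle : r ≤ J.radical := by
      rw [Ideal.radical_eq_sInf]
      exact le_sInf fun P hP => sInf_le ⟨bot_le, hmax P hP.2 hP.1⟩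
    obtain ⟨c, hc⟩ := Ideal.exists_pow_le_of_le_radical_of_fg hle (IsNoetherian.noetherian r)
    let N : Submodule A A' := LinearMap.range (Algebra.linearMap A A')
    obtain ⟨k, hk⟩ := Ideal.exists_pow_inf_eq_pow_smul m N
    refine ⟨c * (n + k), fun a ha => ?_⟩
    have h1 : algebraMap A A' a ∈ (m ^ (n + k)).map (algebraMap A A') := by
      rw [Ideal.map_pow]
      exact (le_of_eq_of_le (pow_mul r c (n + k)) (Ideal.pow_right_mono hc (n + k))) ha
    have h2 : algebraMap A A' a ∈ m ^ (n + k) • (⊤ : Submodule A A') ⊓ N := by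
      refine ⟨?_, a, rfl⟩
      rw [Ideal.smul_top_eq_map]
      exact h1
    rw [hk (n + k) (by omega), Nat.add_sub_cancel] at h2
    have h3 : algebraMap A A' a ∈ m ^ n • N := Submodule.smul_mono le_rfl inf_le_right h2
    have h4 : m ^ n • N = Submodule.map (Algebra.linearMap A A') (m ^ n) := by
      rw [show N = Submodule.map (Algebra.linearMap A A') ⊤ from (Submodule.map_top _).symm,
        ← Submodule.map_smul'', smul_eq_mul, Ideal.mul_top]
    rw [h4] at h3
    obtain ⟨b, hb, hab⟩ := h3
    exact hinj hab ▸ hb

end Groth.Agent.S10876
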