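import Groth.Statements.S10879
import Mathlib.AlgebraicGeometry.Morphisms.Flat
import Mathlib.AlgebraicGeometry.Morphisms.Separated
import Mathlib
-- import your own Groth.Agent.* helpers here

set_option autoImplicit false
universe u
open CategoryTheory AlgebraicGeometry
open FlatMor
set_option backward.isDefEq.respectTransparency false
set_option linter.style.haveILetI false

namespace Groth.Agent.S10879

theorem exists_fraction {X : Scheme.{u}} [IsIntegral X] {y y0 : X} (h0 : y0 = genericPoint X) (hy : y0 ⤳ y)
    (r : X.presheaf.stalk y0) : ∃ a s : X.presheaf.stalk y, s ≠ 0 ∧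
      X.presheaf.stalkSpecializes hy s * r = X.presheaf.stalkSpecializes hy a := by
  subst h0
  obtain ⟨a, s, hs, e⟩ := IsFractionRing.div_surjective (X.presheaf.stalk y) (r : X.functionField)
  refine ⟨a, s, nonZeroDivisors.ne_zero hs, ?_⟩
  have h : (algebraMap (X.presheaf.stalk y) X.functionField) s ≠ 0 :=
    IsFractionRing.to_map_ne_zero_of_mem_nonZeroDivisors hs
  show algebraMap (X.presheaf.stalk y) X.functionField s * (r : X.functionField) =
    algebraMap (X.presheaf.stalk y) X.functionField a
  rw [← e]
  exact mul_div_cancel₀ _ h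

theorem injective_stalkSpecializes {X : Scheme.{u}} [IsIntegral X] {y y0 : X} (hy : y0 ⤳ y) :
    Function.Injective (X.presheaf.stalkSpecializes hy).hom := by
  rw [injective_iff_map_eq_zero]
  intro z hz
  obtain ⟨U, hU, s, rfl⟩ := X.presheaf.exists_germ_eq z
  rw [TopCat.Presheaf.germ_stalkSpecializes_apply] at hz
  rw [show s = 0 from germ_injective_of_isIntegral X y0 (hy.mem_open U.2 hU) (hz.trans (map_zero _).symm),
    map_zero]

theorem isIso_of_flat {X' X : Scheme.{u}} [IsIntegral X'] [IsIntegral X] (f : X' ⟶ X) [Surjective f]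
    [IsSeparated f] [IsIso (f.stalkMap (genericPoint X'))] [Flat f]
    (h : IsAffineHom f ∨ LocallyOfFinitePresentation f) : IsIso f := by
  let η := genericPoint X'
  have hsp : ∀ x : X', f η ⤳ f x := fun x => (genericPoint_specializes x).map f.continuous
  have h0 : f η = genericPoint X := by
    obtain ⟨x, hx⟩ := Surjective.surj (f := f) (genericPoint X)
    have := hsp x
    rw [hx] at this
    exact ((genericPoint_specializes (f η)).antisymm this).eq.symm
  have hiso : ∀ x, IsIso (f.stalkMap x) := by
    intro x
    letI : Algebra (X.presheaf.stalk (f x)) (X'.presheaf.stalk x) := (f.stalkMap x).hom.toAlgebra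
    let φ : X.presheaf.stalk (f x) →+* X'.presheaf.stalk x := (f.stalkMap x).hom
    haveI : Module.Flat (X.presheaf.stalk (f x)) (X'.presheaf.stalk x) := Flat.stalkMap f x
    haveI : IsLocalHom (algebraMap (X.presheaf.stalk (f x)) (X'.presheaf.stalk x)) :=
      inferInstanceAs (IsLocalHom (f.stalkMap x).hom)
    haveI : Module.FaithfullyFlat (X.presheaf.stalk (f x)) (X'.presheaf.stalk x) :=
      Module.FaithfullyFlat.of_flat_of_isLocalHom
    rw [ConcreteCategory.isIso_iff_bijective]
    refine ⟨FaithfulSMul.algebraMap_injective (X.presheaf.stalk (f x)) (X'.presheaf.stalk x), fun b => ?_⟩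
    obtain ⟨r, hr⟩ := ((ConcreteCategory.isIso_iff_bijective (f.stalkMap η)).1 inferInstance).2
      (X'.presheaf.stalkSpecializes (genericPoint_specializes x) b)
    obtain ⟨a, s, hs, e⟩ := exists_fraction h0 (hsp x) r
    have e2 : φ s * b = φ a := by
      apply injective_stalkSpecializes (genericPoint_specializes x)
      show X'.presheaf.stalkSpecializes _ (f.stalkMap x s * b) = X'.presheaf.stalkSpecializes _ (f.stalkMap x a)
      rw [map_mul, ← Scheme.Hom.stalkSpecializes_stalkMap_apply f η x (genericPoint_specializes x),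
        ← Scheme.Hom.stalkSpecializes_stalkMap_apply f η x (genericPoint_specializes x), ← hr, ← map_mul, e]
    obtain ⟨c, hc⟩ : s ∣ a := by
      rw [← Ideal.mem_span_singleton,
        ← Ideal.comap_map_eq_self_of_faithfullyFlat (B := X'.presheaf.stalk x) (Ideal.span {s}),
        Ideal.mem_comap, Ideal.map_span, Set.image_singleton, Ideal.mem_span_singleton]
      exact ⟨b, e2.symm⟩
    refine ⟨c, (mul_left_cancel₀ (?_ : φ s ≠ 0) ?_).symm⟩
    · exact fun h => hs ((FaithfulSMul.algebraMap_injective (X.presheaf.stalk (f x)) (X'.presheaf.stalk x))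
        (h.trans (map_zero _).symm))
    · rw [e2, hc, map_mul]
  have hinj : Function.Injective f := by
    let G₀ := Spec.map (inv (f.stalkMap η)) ≫ X'.fromSpecStalk η
    have key : ∀ (x : X') (y : X) (hy : f η ⤳ y), f x = y → ∃ g : Spec (X.presheaf.stalk y) ⟶ X',
        g ≫ f = X.fromSpecStalk y ∧ g (IsLocalRing.closedPoint (X.presheaf.stalk y)) = x ∧
          Spec.map (X.presheaf.stalkSpecializes hy) ≫ g = G₀ := by
      rintro x _ hy rfl
      haveI := hiso x
      refine ⟨Spec.map (inv (f.stalkMap x)) ≫ X'.fromSpecStalk x, ?_, ?_, ?_⟩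
      · rw [Category.assoc, ← Scheme.SpecMap_stalkMap_fromSpecStalk, ← Spec.map_comp_assoc, IsIso.hom_inv_id,
          Spec.map_id, Category.id_comp]
      · rw [Scheme.Hom.comp_apply, Spec_closedPoint, Scheme.fromSpecStalk_closedPoint]
      · have e : inv (f.stalkMap x) ≫ X.presheaf.stalkSpecializes hy =
            X'.presheaf.stalkSpecializes (genericPoint_specializes x) ≫ inv (f.stalkMap η) := by
          rw [IsIso.inv_comp_eq, ← Category.assoc, ← IsIso.comp_inv_eq, IsIso.inv_inv]
          exact Scheme.Hom.stalkSpecializes_stalkMap f η x (genericPoint_specializes x)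
        rw [← Spec.map_comp_assoc, e, Spec.map_comp_assoc, Scheme.SpecMap_stalkSpecializes_fromSpecStalk]
    intro x₁ x₂ h12
    obtain ⟨g₁, hg₁, hx₁, hG₁⟩ := key x₁ (f x₁) (hsp x₁) rfl
    obtain ⟨g₂, hg₂, hx₂, hG₂⟩ := key x₂ (f x₁) (hsp x₁) h12.symm
    haveI : IsDominant (Spec.map (X.presheaf.stalkSpecializes (hsp x₁))) := by
      rw [isDominant_iff]
      refine (PrimeSpectrum.denseRange_comap_iff_ker_le_nilRadical _).2 ?_
      rw [(RingHom.injective_iff_ker_eq_bot _).1 (injective_stalkSpecializes (hsp x₁))]
      exact bot_le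
    rw [← hx₁, ← hx₂, ext_of_isDominant_of_isSeparated f (hg₁.trans hg₂.symm)
      (Spec.map (X.presheaf.stalkSpecializes (hsp x₁))) (hG₁.trans hG₂.symm)]
  have hopen : IsOpenMap f := by
    rcases h with h | h
    · intro U hU
      rw [← (Flat.isQuotientMap_of_surjective f).isOpen_preimage, hinj.preimage_image]
      exact hU
    · exact f.isOpenMap
  haveI : IsOpenImmersion f := IsOpenImmersion.of_isIso_stalkMap f (.of_continuous_injective_isOpenMap f.continuous hinj hopen)
  exact isIso_of_isOpenImmersion_of_opensRange_eq_top f (TopologicalSpace.Opens.ext (Set.range_eq_univ.2 (Surjective.surj (f := f))))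

/-- Take integral schemes X' and X and a separated surjective morphism f : X' → X which is birational in
the sense that the induced map of function fields (the stalk map of f at the generic point of X') is
an isomorphism, and suppose f is affine (e.g. a normalization) or locally of finite presentation
(e.g. a blow-up of a Noetherian integral scheme). Then f is flat exactly when it is an isomorphism. -/
theorem result {X' X : Scheme.{u}} [IsIntegral X'] [IsIntegral X]
    (f : X' ⟶ X) [Surjective f] [IsSeparated f] (hK : IsIso (f.stalkMap (genericPoint X')))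
    (h : IsAffineHom f ∨ LocallyOfFinitePresentation f) :
    Flat f ↔ IsIso f := by
  refine ⟨fun hf => isIso_of_flat f h, fun hf => inferInstance⟩

end Groth.Agent.S10879
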