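import Groth.Statements.S10882
import Groth.Agent.VarDim.Fibre
import Groth.Agent.FlatDvr.DimFibre
import Groth.Agent.S2082

set_option linter.style.haveILetI false
set_option backward.isDefEq.respectTransparency false

set_option autoImplicit false
universe u
open CategoryTheory AlgebraicGeometry
open FlatMor

namespace Groth.Agent.S10882

open Groth.Agent.VarDim Topology

/-- The local dimension formula on an equidimensional scheme. -/
theorem exists_stalk_dim {K : Type u} [Field K] {X : Scheme.{u}} (p : X ⟶ Spec (CommRingCat.of K))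
    [LocallyOfFiniteType p] (e : ℕ) (hX : ∀ Z ∈ irreducibleComponents (X : Type u), topologicalKrullDim Z = e)
    (x : X) : ∃ b : ℕ, ringKrullDim (X.presheaf.stalk x) = b ∧ deg p x + b = e := by
  obtain ⟨b, hb, ⟨η, hη, hηd⟩, hmax⟩ := exists_deg_add_stalk p x
  refine ⟨b, hb, le_antisymm ?_ ?_⟩
  · rw [← hηd]
    obtain ⟨Z, hZ, hηZ⟩ : ∃ Z ∈ irreducibleComponents (X : Type u), η ∈ Z :=
      ⟨_, irreducibleComponent_mem_irreducibleComponents η, mem_irreducibleComponent⟩
    have := hX Z hZ
    rw [topologicalKrullDim_set_eq_iSup_deg p (isClosed_of_mem_irreducibleComponents Z hZ)] at this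
    have h1 : ((deg p η : ℕ∞) : WithBot ℕ∞) ≤ (e : ℕ) := this ▸ le_iSup_of_le (⟨η, hηZ⟩ : Z) le_rfl
    exact_mod_cast h1
  · have hZ := irreducibleComponent_mem_irreducibleComponents x
    have hcl := isClosed_of_mem_irreducibleComponents _ hZ
    obtain ⟨g, hg⟩ : ∃ g, closure {g} = irreducibleComponent x := ⟨_, hZ.1.isGenericPoint_genericPoint hcl⟩
    have hgx : g ⤳ x := specializes_iff_mem_closure.2 (hg.ge mem_irreducibleComponent)
    have := hX _ hZ
    rw [← hg, topologicalKrullDim_closure_singleton p g] at this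
    have h1 : deg p g = e := by exact_mod_cast this
    exact h1 ▸ hmax g hgx

end Groth.Agent.S10882

namespace Groth.Agent.S10882

open Groth.Agent.VarDim Topology

/-- Let X and Y be schemes locally of finite type over a field k and f : X → Y a k-morphism, with Y
regular (all local rings regular), X Cohen–Macaulay (all local rings Cohen–Macaulay), X
equidimensional of dimension e, Y equidimensional of dimension d ≤ e, and all fibres of f
equidimensional of dimension e − d (every irreducible component of every fibre has dimension e − d).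
Then f is flat. -/
theorem result (k : Type u) [Field k] {X Y : Scheme.{u}}
    (q : Y ⟶ Spec (CommRingCat.of k)) [LocallyOfFiniteType q] (f : X ⟶ Y) [LocallyOfFiniteType (f ≫ q)]
    (hY : ∀ y : Y, IsRegularLocalRing (Y.presheaf.stalk y))
    (hX : ∀ x : X, LocCoh.IsCohenMacaulayLocalRing (X.presheaf.stalk x))
    (e d : ℕ) (hde : d ≤ e)
    (hXe : ∀ Z ∈ irreducibleComponents (X : Type u), topologicalKrullDim Z = e)
    (hYd : ∀ Z ∈ irreducibleComponents (Y : Type u), topologicalKrullDim Z = d)
    (hfib : ∀ y : Y, ∀ Z ∈ irreducibleComponents (f.base ⁻¹' {y}), topologicalKrullDim Z = (e - d : ℕ)) :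
    Flat f := by
  haveI : LocallyOfFiniteType f := locallyOfFiniteType_of_comp f q
  refine Flat.of_stalkMap f fun x => ?_
  have hfib' : ∀ Z ∈ irreducibleComponents (f.fiber (f x) : Type u), topologicalKrullDim Z = (e - d : ℕ) := by
    intro Z hZ
    let h := f.fiberHomeo (f x)
    have hs : h.symm ⁻¹' Z ∈ irreducibleComponents (f.base ⁻¹' {f x} : Set X) :=
      preimage_mem_irreducibleComponents hZ h.symm.isOpenEmbedding
        (by rw [h.symm.surjective.range_eq, Set.inter_univ]; exact hZ.1.1)
    rw [← hfib (f x) _ hs]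
    let φ : (h.symm ⁻¹' Z) ≃ₜ Z := h.symm.sets (s := h.symm ⁻¹' Z) (t := Z) rfl
    exact (φ.isHomeomorph.topologicalKrullDim_eq _).symm
  obtain ⟨b, hb, hbe⟩ := exists_stalk_dim (f ≫ q) e hXe x
  obtain ⟨b', hb', hbd⟩ := exists_stalk_dim q d hYd (f x)
  obtain ⟨c, hc, hce⟩ := exists_stalk_dim (K := Y.residueField (f x)) (f.fiberToSpecResidueField (f x)) (e - d)
    hfib' (f.asFiber x)
  rw [deg_fiber, f.fiberι_asFiber x] at hce
  rw [deg_comp_eq f q] at hbe
  rw [FlatDvr.ringKrullDim_stalk_fibre] at hc
  have key : ∀ z : X, z = f.fiberι (f x) (f.asFiber x) → ringKrullDim (X.presheaf.stalk z ⧸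
      (IsLocalRing.maximalIdeal (Y.presheaf.stalk (f z))).map (f.stalkMap z).hom) = (c : WithBot ℕ∞) := by
    intro z hz
    subst hz
    exact hc
  have hc' := key x (f.fiberι_asFiber x).symm
  haveI := hY (f x)
  haveI := hX x
  letI : Algebra (Y.presheaf.stalk (f x)) (X.presheaf.stalk x) := (f.stalkMap x).hom.toAlgebra
  haveI : IsLocalHom (algebraMap (Y.presheaf.stalk (f x)) (X.presheaf.stalk x)) :=
    inferInstanceAs (IsLocalHom (f.stalkMap x).hom)
  show Module.Flat (Y.presheaf.stalk (f x)) (X.presheaf.stalk x)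
  refine S2082.result ?_
  rw [show algebraMap (Y.presheaf.stalk (f x)) (X.presheaf.stalk x) = (f.stalkMap x).hom from rfl, hb, hb', hc']
  exact_mod_cast (by omega : b = b' + c)

end Groth.Agent.S10882
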