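import Groth.Statements.S10888
import Groth.Agent.LimMor.FibreNhd
import Groth.Agent.GrpSchLib.HomFibre
import Groth.Agent.FlatLocus.Basic
import Groth.Agent.FibFlat.Core
import Mathlib

set_option autoImplicit false
set_option linter.style.haveILetI false
set_option backward.isDefEq.respectTransparency false
set_option maxHeartbeats 1000000
universe u
open CategoryTheory AlgebraicGeometry
open FlatMor

namespace Groth.Agent.S10888

open Limits

variable {X Y S : Scheme.{u}}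

/-- If `f ≫ g` is locally of finite presentation and `g` locally of finite type, then `f` is locally of finite
presentation. -/
theorem locallyOfFinitePresentation_of_comp {X Y Z : Scheme.{u}} (f : X ⟶ Y) (g : Y ⟶ Z)
    [LocallyOfFinitePresentation (f ≫ g)] [LocallyOfFiniteType g] : LocallyOfFinitePresentation f := by
  rw [HasRingHomProperty.iff_exists_appLE (P := @LocallyOfFinitePresentation)
    (RingHom.finitePresentation_stableUnderComposition.stableUnderCompositionWithLocalizationAway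
      RingHom.finitePresentation_holdsForLocalizationAway).left]
  intro x
  obtain ⟨W, hW, hgx, -⟩ := exists_isAffineOpen_mem_and_subset (U := (⊤ : Z.Opens)) (x := g (f x)) trivial
  obtain ⟨U, hU, hfx, hUW⟩ := exists_isAffineOpen_mem_and_subset (U := g ⁻¹ᵁ W) (x := f x) hgx
  obtain ⟨V, hV, hx, hVU⟩ := exists_isAffineOpen_mem_and_subset (U := f ⁻¹ᵁ U) (x := x) hfx
  refine ⟨⟨U, hU⟩, ⟨V, hV⟩, hx, hVU, ?_⟩
  have h2 := HasRingHomProperty.appLE @LocallyOfFiniteType g ‹_› ⟨W, hW⟩ ⟨U, hU⟩ hUW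
  have h1 := HasRingHomProperty.appLE @LocallyOfFinitePresentation (f ≫ g) ‹_› ⟨W, hW⟩ ⟨V, hV⟩
    (fun y hy => hUW (hVU hy))
  rw [← Scheme.Hom.appLE_comp_appLE _ _ W U V hUW hVU, CommRingCat.hom_comp] at h1
  exact RingHom.FinitePresentation.of_comp_finiteType _ h1 h2

/-- Near a fibre on which it is an isomorphism, the morphism is an isomorphism. -/
theorem exists_iso_nhd (g : X ⟶ S) (h : Y ⟶ S) [IsProper g] [LocallyOfFinitePresentation g] [Flat g]
    [IsProper h] [LocallyOfFinitePresentation h] (f : X ⟶ Y) (w : f ≫ h = g) (s : S)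
    (hs : IsIso (CohIII.fiberMapOver f g h w s)) : ∃ U : S.Opens, s ∈ U ∧ IsIso (f ∣_ (h ⁻¹ᵁ U)) := by
  haveI := hs
  haveI : IsProper (f ≫ h) := w ▸ ‹IsProper g›
  haveI : IsProper f := IsProper.of_comp f h
  haveI : LocallyOfFinitePresentation (f ≫ h) := w ▸ ‹LocallyOfFinitePresentation g›
  haveI : LocallyOfFinitePresentation f := locallyOfFinitePresentation_of_comp f h
  obtain ⟨U₁, hs₁, hci⟩ := LimMor.exists_ci_nhd_of_fibre f g h w s inferInstance
  -- the flat locus contains the fibre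
  let W : X.Opens := ⟨{x | (f.stalkMap x).hom.Flat}, FlatLocus.isOpen_flat_locus f⟩
  have hW : ∀ x, g x = s → x ∈ W := fun x hx => by
    obtain ⟨z, rfl⟩ : x ∈ Set.range (g.fiberι s) := (g.range_fiberι s).ge hx
    exact GrpSchLib.HomFibre.flat_of_fibre_flat f h g w s z (CohIII.fiberMapOver f g h w s)
      (pullback.lift_fst _ _ _) ((pullback.lift_snd _ _ _).trans (Category.comp_id _))
      (haveI : IsOpenImmersion (CohIII.fiberMapOver f g h w s) := inferInstance
       haveI : Flat (CohIII.fiberMapOver f g h w s) := HasRingHomProperty.of_isOpenImmersion RingHom.Flat.containsIdentities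
       Flat.stalkMap (CohIII.fiberMapOver f g h w s) z)
  obtain ⟨U₂, hs₂, hU₂⟩ := LimMor.exists_opens_base g s W hW
  let V : Y.Opens := h ⁻¹ᵁ (U₁ ⊓ U₂)
  haveI hciV : IsClosedImmersion (f ∣_ V) :=
    LimMor.morphismRestrict_of_le_iSup @IsClosedImmersion f (fun _ : Unit => h ⁻¹ᵁ U₁) (fun _ => hci) V
      (fun y hy => TopologicalSpace.Opens.mem_iSup.mpr ⟨(), hy.1⟩)
  haveI : LocallyOfFinitePresentation (f ∣_ V) := inferInstance
  haveI : Flat (f ∣_ V) := by
    haveI : Flat ((f ⁻¹ᵁ V).ι ≫ f) := Flat.of_stalkMap _ fun z =>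
      (FibFlat.flat_stalk_open_comp (f ⁻¹ᵁ V).ι f z).2 (hU₂ (by
        subst w
        exact z.2.2))
    haveI : Flat ((f ∣_ V) ≫ V.ι) := by rw [morphismRestrict_ι]; infer_instance
    exact Flat.of_stalkMap _ fun z => by
      have h1 := Flat.stalkMap ((f ∣_ V) ≫ V.ι) z
      rw [Scheme.Hom.stalkMap_comp] at h1
      exact (FlatLocus.flat_isIso_comp _ _).1 h1
  haveI : IsOpenImmersion (f ∣_ V) := IsOpenImmersion.of_flat_of_mono _
  -- surjectivity near the fibre
  let V' : Y.Opens := ⟨Set.range ((f ∣_ V) ≫ V.ι), ((f ∣_ V) ≫ V.ι).isOpenEmbedding.isOpen_range⟩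
  have hV' : ∀ y, h y = s → y ∈ V' := fun y hy => by
    obtain ⟨z, rfl⟩ : y ∈ Set.range (h.fiberι s) := (h.range_fiberι s).ge hy
    obtain ⟨t, rfl⟩ := (CohIII.fiberMapOver f g h w s).surjective z
    have ht : f (g.fiberι s t) = h.fiberι s (CohIII.fiberMapOver f g h w s t) := by
      rw [← Scheme.Hom.comp_apply, ← Scheme.Hom.comp_apply]
      exact congrArg (fun φ : g.fiber s ⟶ Y => φ t) (pullback.lift_fst _ _ _).symm
    have hmem : g.fiberι s t ∈ f ⁻¹ᵁ V := by
      show h (f (g.fiberι s t)) ∈ U₁ ⊓ U₂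
      rw [ht, hy]
      exact ⟨hs₁, hs₂⟩
    refine ⟨⟨g.fiberι s t, hmem⟩, ?_⟩
    rw [morphismRestrict_ι]
    exact ht
  obtain ⟨U₃, hs₃, hU₃⟩ := LimMor.exists_opens_base h s V' hV'
  refine ⟨U₁ ⊓ U₂ ⊓ U₃, ⟨⟨hs₁, hs₂⟩, hs₃⟩, ?_⟩
  let V'' : Y.Opens := h ⁻¹ᵁ (U₁ ⊓ U₂ ⊓ U₃)
  haveI : IsOpenImmersion (f ∣_ V'') := LimMor.morphismRestrict_of_le_iSup @IsOpenImmersion f
    (fun _ : Unit => V) (fun _ => inferInstance) V'' (fun y hy => TopologicalSpace.Opens.mem_iSup.mpr ⟨(), hy.1⟩)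
  haveI : Surjective (f ∣_ V'') := ⟨fun y => by
    obtain ⟨t, ht⟩ := hU₃ (show y.1 ∈ h ⁻¹ᵁ U₃ from y.2.2)
    rw [morphismRestrict_ι] at ht
    exact ⟨⟨t.1, show f t.1 ∈ V'' from (show f t.1 = y.1 from ht) ▸ y.2⟩, V''.ι.isOpenEmbedding.injective ((congrArg (fun φ : (f ⁻¹ᵁ V'' : Scheme.{u}) ⟶ Y => φ _)
      (morphismRestrict_ι f V'')).trans ht)⟩⟩
  haveI : Epi (f ∣_ V'').base := (TopCat.epi_iff_surjective _).2 (f ∣_ V'').surjective
  exact IsOpenImmersion.isIso _

/-- Fibres of a restriction that is an isomorphism. -/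
theorem isIso_fiberMapOver (g : X ⟶ S) (h : Y ⟶ S) (f : X ⟶ Y) (w : f ≫ h = g) (U : S.Opens)
    (hU : IsIso (f ∣_ (h ⁻¹ᵁ U))) (s : S) (hs : s ∈ U) : IsIso (CohIII.fiberMapOver f g h w s) := by
  let V : Y.Opens := h ⁻¹ᵁ U
  have hr : Set.range (h.fiberι s) ⊆ Set.range V.ι := by
    rw [Scheme.Opens.range_ι]
    intro y hy
    rw [Scheme.Hom.range_fiberι] at hy
    show h y ∈ U
    rw [show h y = s from hy]
    exact hs
  let l := IsOpenImmersion.lift V.ι (h.fiberι s) hr
  have hl : l ≫ V.ι = h.fiberι s := IsOpenImmersion.lift_fac _ _ _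
  have sq := (Synt29.UnramFibre.isPullback_fiberMapOver f g h w s).flip
  rw [← hl] at sq
  have hV := isPullback_morphismRestrict f V
  refine MorphismProperty.of_isPullback (P := MorphismProperty.isomorphisms Scheme.{u})
    (IsPullback.of_right (h₁₁ := hV.lift (CohIII.fiberMapOver f g h w s ≫ l) (g.fiberι s)
      (by rw [Category.assoc]; exact sq.w)) ?_ (hV.lift_fst _ _ _) hV.flip) hU
  rw [hV.lift_snd]
  exact sq.flip

end Groth.Agent.S10888

namespace Groth.Agent.S10888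

open Limits

/-- Let g : X → S and h : Y → S be proper and of finite presentation with g flat, and f : X → Y a
morphism over S. Then the locus U of points of S over which the fibre morphism X_s → Y_s is an
isomorphism is an open subset of S, and f restricts to an isomorphism over U. -/
theorem result {X Y S : Scheme.{u}} (g : X ⟶ S) (h : Y ⟶ S)
    [IsProper g] [LocallyOfFinitePresentation g] [Flat g] [IsProper h] [LocallyOfFinitePresentation h]
    (f : X ⟶ Y) (w : f ≫ h = g) :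
    ∃ U : S.Opens, (∀ s : S, s ∈ U ↔ ∃ e : g.fiber s ≅ h.fiber s, e.hom ≫ h.fiberι s = g.fiberι s ≫ f) ∧
      IsIso (f ∣_ (h ⁻¹ᵁ U)) := by
  have key : ∀ s : S, (∃ e : g.fiber s ≅ h.fiber s, e.hom ≫ h.fiberι s = g.fiberι s ≫ f) ↔
      IsIso (CohIII.fiberMapOver f g h w s) := fun s => by
    refine ⟨fun ⟨e, he⟩ => ?_, fun _ => ⟨asIso (CohIII.fiberMapOver f g h w s), pullback.lift_fst _ _ _⟩⟩
    rw [← (cancel_mono (h.fiberι s)).1 (he.trans (pullback.lift_fst _ _ _).symm :
      e.hom ≫ h.fiberι s = CohIII.fiberMapOver f g h w s ≫ h.fiberι s)]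
    infer_instance
  choose U hsU hUiso using fun s : {s : S // IsIso (CohIII.fiberMapOver f g h w s)} =>
    exists_iso_nhd g h f w s.1 s.2
  refine ⟨⨆ s, U s, fun s => ?_, ?_⟩
  · rw [key, TopologicalSpace.Opens.mem_iSup]
    exact ⟨fun ⟨i, hi⟩ => isIso_fiberMapOver g h f w _ (hUiso i) s hi, fun hs => ⟨⟨s, hs⟩, hsU _⟩⟩
  · exact LimMor.morphismRestrict_of_le_iSup (MorphismProperty.isomorphisms Scheme.{u}) f _ hUiso _ (fun y hy => by
      obtain ⟨i, hi⟩ := TopologicalSpace.Opens.mem_iSup.mp (show h y ∈ ⨆ s, U s from hy)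
      exact TopologicalSpace.Opens.mem_iSup.mpr ⟨i, hi⟩)

end Groth.Agent.S10888
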