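import Groth.Statements.S1092
import Groth.Agent.DSites.HoLimPi
import Groth.Agent.DSites.SpecialSystem
import Mathlib.CategoryTheory.Preadditive.Injective.Basic
-- import your own Groth.Agent.* helpers here

set_option autoImplicit false
universe v u
open CategoryTheory CategoryTheory.Limits
open CohDer

namespace Groth.Agent.S1092

/-- Let A be an abelian category with enough injectives in which countable products exist and are exact.
Then every cochain complex K admits a quasi-isomorphism K ⟶ I to a K-injective complex I. -/
theorem result {A : Type u} [Category.{v} A] [Abelian A] [EnoughInjectives A]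
    [HasLimitsOfShape (Discrete ℕ) A] [HasExactLimitsOfShape (Discrete ℕ) A] (K : CochainComplex A ℤ) :
    ∃ (I : CochainComplex A ℤ) (f : K ⟶ I), I.IsKInjective ∧ QuasiIso f := by
  haveI : (isInjective A).IsClosedUnderIsomorphisms := ⟨fun e h => Injective.of_iso e h⟩
  obtain ⟨Z, hZ⟩ := HasZeroObject.zero (C := A)
  obtain ⟨J, p, π, hπ, hbdd, hinj, -, hcomm⟩ := DSites.SpecialSystem.exists_system
    (isInjective A) ⟨Z, hZ, hZ.injective⟩
    (fun X Y hX hY => by
      have : Injective X := hX
      have : Injective Y := hY
      exact (inferInstance : Injective (X ⊞ Y)))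
    (fun X => ⟨Injective.under X, Injective.ι X, (inferInstance : Injective (Injective.under X)),
      inferInstance⟩) K
  haveI : ∀ n, (J n).IsKInjective := fun n => by
    obtain ⟨a, ha⟩ := hbdd n
    haveI : ∀ i, Injective ((J n).X i) := hinj n
    exact CochainComplex.isKInjective_of_injective (J n) a
  haveI : (∏ᶜ J).IsKInjective := DSites.DerPi.isKInjective_pi J
  let a : ∀ n, K ⟶ J n := fun n => K.πTruncGE (-(n : ℤ)) ≫ π n
  have ha : ∀ n, a (n + 1) ≫ p n = a n := fun n => (Category.assoc _ _ _).trans (hcomm n)
  obtain ⟨f, hf⟩ := DSites.HoLimPi.exists_quasiIso_cocone J p K a ha fun i => by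
    refine ⟨(-i + 1).toNat, fun n hn => ?_⟩
    haveI := (hπ n).1
    haveI : QuasiIsoAt (K.πTruncGE (-(n : ℤ))) i :=
      K.quasiIsoAt_πTruncGE _ _ (by omega)
    rw [← quasiIsoAt_iff_isIso_homologyMap]
    infer_instance
  exact ⟨_, f, DSites.HoLimPi.isKInjective_mappingCocone _, hf⟩

end Groth.Agent.S1092
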