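import Groth.Statements.S10926
import Groth.Agent.S10925
import Groth.Agent.H23.PicMul

set_option autoImplicit false
universe u
open CategoryTheory CategoryTheory.Limits AlgebraicGeometry
open PicF

namespace Groth.Agent.S10926

set_option backward.isDefEq.respectTransparency false
set_option backward.isDefEq.respectTransparency.types false
open Groth.Agent.H23.PicMul in

/-- Let k be an algebraically closed field, Y an integral scheme of finite type over k, f : X → Y flat
and projective (f = i ≫ pr for a closed immersion i : X → P^n_Y) with every fibre X_y integral, and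
L, M invertible O_X-modules whose pullbacks to each fibre X_y are isomorphic. Then there is an
invertible O_Y-module E with L ≅ M ⊗ f^*E. -/
theorem result (k : Type u) [Field k] [IsAlgClosed k]
    {X Y : Scheme.{u}} (g : Y ⟶ Spec (CommRingCat.of k)) [LocallyOfFiniteType g] [QuasiCompact g]
    [IsIntegral Y] (n : ℕ) (i : X ⟶ CohB1.ProjSpaceOver n Y) [IsClosedImmersion i]
    (f : X ⟶ Y) (hf : f = i ≫ CohB1.ProjSpaceOver.toBase n Y) [Flat f]
    (hint : ∀ y : Y, IsIntegral (f.fiber y))
    (L M : X.Modules) (hL : PicF.IsInvertible L) (hM : PicF.IsInvertible M)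
    (hLM : ∀ y : Y, Nonempty ((Scheme.Modules.pullback (f.fiberι y)).obj L ≅ (Scheme.Modules.pullback (f.fiberι y)).obj M)) :
    ∃ E : Y.Modules, PicF.IsInvertible E ∧
      Nonempty (L ≅ CohB1.tensorMod M ((Scheme.Modules.pullback f).obj E)) := by
  obtain ⟨D, hD, ⟨eD⟩⟩ := Groth.Agent.H23.PicInv.exists_inverse hM
  have hMD : PicF.cl M * PicF.cl D = 1 := (PicGrp.cl_eq_cl_iff _ _).2 ⟨eD⟩
  have hN := isInvertible_tensor hL hD
  have hfib : ∀ y : Y, Nonempty ((Scheme.Modules.pullback (f.fiberι y)).obj (CohB1.tensorMod L D) ≅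
      Coh.structureModule (f.fiber y)) := fun y => cl_eq_iff.1 (by
    have hy : PicF.pullCl (f.fiberι y) (PicF.cl L) = PicF.pullCl (f.fiberι y) (PicF.cl M) :=
      cl_eq_iff.2 (hLM y)
    show PicF.pullCl (f.fiberι y) (PicF.cl L * PicF.cl D) = 1
    rw [pullCl_mul, hy, ← pullCl_mul, hMD, pullCl_one])
  obtain ⟨h1, h2⟩ := Groth.Agent.S10925.result k g n i f hf hint _ hN hfib
  refine ⟨_, h1, cl_eq_iff.1 ?_⟩
  have h3 : PicF.pullCl f (PicF.cl ((Scheme.Modules.pushforward f).obj (CohB1.tensorMod L D))) =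
      PicF.cl L * PicF.cl D :=
    cl_eq_iff.2 ⟨@asIso _ _ _ _ ((Scheme.Modules.pullbackPushforwardAdjunction f).counit.app _) h2⟩
  show PicF.cl L = PicF.cl M * PicF.pullCl f (PicF.cl ((Scheme.Modules.pushforward f).obj (CohB1.tensorMod L D)))
  rw [h3, mul_left_comm, hMD, mul_one]


end Groth.Agent.S10926
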