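import Groth.Statements.S10932
import Groth.Agent.LC.PdRegular
import Groth.Agent.LC.GorHull

set_option autoImplicit false
universe u
open CategoryTheory
open CAlg

namespace Groth.Agent.S10932

/-- Let A be a (Noetherian) regular local ring of Krull dimension n and M a finitely generated A-module
such that Ext^j_A(M, A) = 0 for every j with 1 ≤ j ≤ n. Then M is projective, hence a free A-module. -/
theorem result (A : Type u) [CommRing A] [IsRegularLocalRing A]
    (n : ℕ) (hn : ringKrullDim A = n) (M : Type u) [AddCommGroup M] [Module A M] [Module.Finite A M]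
    (h : ∀ j : ℕ, 1 ≤ j → j ≤ n →
      Subsingleton (Abelian.Ext (ModuleCat.of A M) (ModuleCat.of A A) j)) :
    Module.Free A M := by
  have := Groth.Agent.LC.gorenstein_of_isRegularLocalRing (R := A)
  obtain ⟨d, hd, -, hv⟩ := Groth.Agent.LC.gorenstein_basic (R := A)
  obtain rfl : n = d := by rw [hn] at hd; exact_mod_cast hd
  have hP : Groth.Agent.RegLoc6.PdLE A 0 M :=
    Groth.Agent.LC.pdLE_of_ext_finite 0 M (Groth.Agent.LC.ext_finite_vanish _ 0
      (Groth.Agent.RegLoc6.pdLE_of_isRegularLocalRing A M) fun j hj => by
        rcases Nat.lt_or_ge n j with hnj | hnj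
        · exact hv M j hnj
        · exact h j hj hnj)
  haveI := Groth.Agent.RegLoc6.pdLE_zero_iff.1 hP
  exact Module.free_of_flat_of_isLocalRing

end Groth.Agent.S10932
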