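import Groth.Statements.S10934
import Groth.Agent.PD70.ClosedSub
import Groth.Agent.BunLib68.Free

set_option linter.style.haveILetI false

set_option autoImplicit false
universe u
open CategoryTheory CategoryTheory.Limits AlgebraicGeometry
open ProjDual

namespace Groth.Agent.S10934

/-- (a)⇔(b): let k be a field, i : X → P^N_k a closed immersion with X of dimension n, and write F(−q) =
F ⊗ i^*O(−q). Then X is an equidimensional Cohen–Macaulay scheme of dimension n — the local ring of
X at every closed point is Cohen–Macaulay of Krull dimension n — if and only if for every finite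
locally free O_X-module F (vector bundle) there is q₀ such that H^j(X, F(−q)) = 0 for all j < n and
all q ≥ q₀. -/
theorem result (k : Type u) [Field k] (N n : ℕ)
    {X : Scheme.{u}} (i : X ⟶ CohB1.ProjSpace N k) [IsClosedImmersion i] (hn : topologicalKrullDim ↥X = n) :
    (∀ x : X, IsClosed ({x} : Set ↥X) →
        LocCoh.IsCohenMacaulayLocalRing (X.presheaf.stalk x) ∧ ringKrullDim (X.presheaf.stalk x) = n) ↔
      ∀ F : X.Modules, FlatMod.IsFinLocFree F → ∃ q₀ : ℕ, ∀ q : ℕ, q₀ ≤ q → ∀ j : ℕ, j < n →
        Subsingleton (Coh.HH X (CohB1.tensorMod F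
          ((Scheme.Modules.pullback i).obj (Twist.twistProjSpace N k (-(q : ℤ))))) j) := by
  haveI := Pic13Lib.isNoetherian i
  constructor
  · intro h F hF
    rcases n with _ | b
    · exact ⟨0, fun q _ j hj => absurd hj (Nat.not_lt_zero j)⟩
    obtain ⟨m₀, hm⟩ := (PD70.hvan_closed_iff i (CurveDeg.isCoh_of_isFinLocFree hF) b).2 fun x hx => by
      haveI := QCoh.free_stalk_of_isFinLocFree hF x
      haveI := BunLib68.finite_stalk hF x
      refine lt_of_lt_of_le ?_ (PD70.depth_le_of_free _)
      refine lt_of_lt_of_le ?_ ((PD70.isCM_iff_le_depth hn x).1 (h x hx))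
      exact_mod_cast Nat.lt_succ_self b
    exact ⟨m₀.toNat, fun q hq j hj => hm q (by omega) j (Nat.lt_succ_iff.1 hj)⟩
  · intro h x hx
    refine (PD70.isCM_iff_le_depth hn x).2 ?_
    rcases n with _ | b
    · exact bot_le
    have hO := BunLib68.isFinLocFree_one (X := X)
    obtain ⟨q₀, hq⟩ := h _ hO
    have := (PD70.hvan_closed_iff i (CurveDeg.isCoh_of_isFinLocFree hO) b).1 ⟨q₀, fun m hm j hj => by
      obtain ⟨q, rfl⟩ := Int.eq_ofNat_of_zero_le ((Int.natCast_nonneg q₀).trans hm)
      exact hq q (by omega) j (Nat.lt_succ_iff.2 hj)⟩ x hx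
    rw [← Hensel.depth_congr (RefX.unitStalk x)] at this
    rw [Nat.cast_add, Nat.cast_one]
    exact Order.add_one_le_of_lt this

end Groth.Agent.S10934
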