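import Groth.Statements.S10935
import Groth.Agent.FlatAssHx.Dim1
import Groth.Agent.CurveCohLib.SubBundle
-- import your own Groth.Agent.* helpers here

set_option autoImplicit false
universe u
open CategoryTheory CategoryTheory.Limits AlgebraicGeometry
open FlatMor
set_option backward.isDefEq.respectTransparency false
set_option linter.style.haveILetI false

namespace Groth.Agent.S10935

/-- Let Y be an integral, regular (every local ring a regular local ring), one-dimensional scheme with
generic point η, X a Noetherian scheme and f : X → Y a morphism. Then f is flat if and only if every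
associated point x of X — a point such that the maximal ideal of O_{X,x} is an associated prime of
O_{X,x} — satisfies f(x) = η. -/
theorem result {X Y : Scheme.{u}} (f : X ⟶ Y)
    [IsIntegral Y] (hreg : ∀ y : Y, IsRegularLocalRing (Y.presheaf.stalk y))
    (hY : topologicalKrullDim ↥Y = 1) [IsNoetherian X] :
    Flat f ↔ ∀ x : X, Curv2.IsAssPoint (Coh.structureModule X) x → f.base x = genericPoint ↥Y := by
  have hY' : ∀ y : Y, IsRegularLocalRing (Y.presheaf.stalk y) ∧ ringKrullDim (Y.presheaf.stalk y) ≤ 1 :=
    fun y => ⟨hreg y, hY ▸ CurveCohLib.ringKrullDim_stalk_le_topologicalKrullDim y⟩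
  have key : ∀ y : Y, IsField (Y.presheaf.stalk y) ↔ y = genericPoint ↥Y := by
    intro y
    refine ⟨fun h => ?_, fun h => ?_⟩
    · refine Eq.trans ?_ (DimFormula.fromSpecStalk_bot y)
      refine (Scheme.fromSpecStalk_closedPoint (X := Y) (x := y)).symm.trans ?_
      congr 1
      exact PrimeSpectrum.ext ((IsLocalRing.isField_iff_maximalIdeal_eq).1 h)
    · rw [h]
      exact Field.toIsField Y.functionField
  constructor
  · intro hf x hx
    exact (key _).1 (FlatAssHx.isField_of_flat f hx)
  · exact fun h => FlatAssHx.flat_of_assPoints f hY' fun x hx => (key _).2 (h x hx)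

end Groth.Agent.S10935
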