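import Groth.Statements.S10940

import Groth.Agent.VarBase.HyperCoverPn

set_option autoImplicit false
set_option linter.style.haveILetI false
set_option linter.unusedSectionVars false
set_option backward.isDefEq.respectTransparency false
set_option backward.isDefEq.respectTransparency.types false
universe u
open CategoryTheory CategoryTheory.Limits AlgebraicGeometry
open Variety

namespace Groth.Agent.S10940

open Groth.Agent TopologicalSpace

/-- Let k be a field and X a quasi-projective variety over k of dimension r: an integral scheme with an
immersion j : X → P^n_k. Then X admits a cover by r + 1 affine open subschemes. (Consequently the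
cohomology of every quasi-coherent O_X-module vanishes above degree r; that consequence is the
general vanishing above the number of affines in a cover and is not restated here. The published
statement is for varieties over an algebraically closed field; the argument, r + 1 hypersurfaces
through the boundary of the closure of X, works over any field, so k is an arbitrary field here.) -/
theorem result (k : Type u) [Field k] (n r : ℕ)
    {X : Scheme.{u}} (j : X ⟶ CohB1.ProjSpace n k) [IsImmersion j] [IsIntegral X]
    (hX : topologicalKrullDim ↥X = r) :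
    ∃ U : Fin (r + 1) → X.Opens, (∀ i, IsAffineOpen (U i)) ∧ ⨆ i, U i = ⊤ := by
  obtain ⟨O, T, hO, hT, hOT⟩ := j.isLocallyClosed_range
  have hsub : Set.range j ⊆ T := hOT ▸ Set.inter_subset_right
  have heq : closure (Set.range j) \ (closure (Set.range j) \ O) = Set.range j := by
    ext x
    refine ⟨fun hx => ?_, fun hx => ⟨subset_closure hx, fun h => h.2 (hOT.le hx).1⟩⟩
    rw [hOT]
    exact ⟨by_contra fun hxO => hx.2 ⟨hx.1, hxO⟩, hT.closure_subset_iff.2 hsub hx.1⟩
  obtain ⟨h, D, hD, hh, haff, hY, hcov⟩ := VarBase.HyperCover.exists_cover_projSpace k n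
    (isClosed_closure.sdiff hO : IsClosed (closure (Set.range j) \ O)) isClosed_closure r (by
      rw [heq]
      exact ((IsHomeomorph.topologicalKrullDim_eq _ j.isEmbedding.toHomeomorph.isHomeomorph).symm.trans hX).le)
  refine ⟨fun i => j ⁻¹ᵁ D i, fun i => ?_, ?_⟩
  · haveI : IsClosedImmersion (j ∣_ D i) := by
      refine IsClosedImmersion.of_isPreimmersion _ ?_
      have hr : Set.range (j ∣_ D i) = (D i).ι ⁻¹' Set.range j := by
        ext ⟨x, hx⟩
        constructor
        · rintro ⟨y, hy⟩
          exact ⟨(j ⁻¹ᵁ D i).ι y, by rw [← Scheme.Hom.comp_apply, ← morphismRestrict_ι, Scheme.Hom.comp_apply, hy]⟩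
        · rintro ⟨z, hz⟩
          have hzD : z ∈ j ⁻¹ᵁ D i := by
            show j z ∈ D i
            rw [hz]; exact hx
          refine ⟨⟨z, hzD⟩, (D i).ι.isOpenEmbedding.injective ?_⟩
          rw [← Scheme.Hom.comp_apply, morphismRestrict_ι, Scheme.Hom.comp_apply]
          exact hz
      rw [hr]
      have : (D i).ι ⁻¹' Set.range j = (D i).ι ⁻¹' closure (Set.range j) := by
        refine Set.Subset.antisymm (Set.preimage_mono subset_closure) fun z hz => ?_
        show (D i).ι z ∈ Set.range j
        rw [← heq]
        exact ⟨hz, fun h => hY i h z.2⟩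
      rw [this]
      exact isClosed_closure.preimage (D i).ι.continuous
    haveI : IsAffine (D i : Scheme.{u}) := haff i
    exact isAffine_of_isAffineHom (j ∣_ D i)
  · refine eq_top_iff.2 fun x _ => Opens.mem_iSup.2 ?_
    obtain ⟨i, hi⟩ := Set.mem_iUnion.1 (hcov (heq.ge ⟨x, rfl⟩))
    exact ⟨i, hi⟩

end Groth.Agent.S10940
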