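import Groth.Statements.S10941
import Groth.Agent.FlatDimHx.Basic

set_option autoImplicit false
universe u
open CategoryTheory CategoryTheory.Limits AlgebraicGeometry
open FlatMor

namespace Groth.Agent.S10941

/-- Let k be a field, X, Y and Y' schemes of finite type over k with Y irreducible, f : X → Y a flat
k-morphism and n a natural number such that every irreducible component of X has dimension dim Y +
n. Let g : Y' → Y be a k-morphism and f' : X ×_Y Y' → Y' the base change of f. Then for every
irreducible closed subset V of Y', every irreducible component of the preimage of V under f' (with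
the subspace topology) has dimension dim V + n. In particular (Y' = Y) every irreducible component
of f⁻¹(V) has dimension dim V + n for every irreducible closed V ⊆ Y. -/
theorem result (k : Type u) [Field k]
    {X Y Y' : Scheme.{u}} (qX : X ⟶ Spec (CommRingCat.of k)) (qY : Y ⟶ Spec (CommRingCat.of k))
    (qY' : Y' ⟶ Spec (CommRingCat.of k))
    [LocallyOfFiniteType qX] [QuasiCompact qX] [LocallyOfFiniteType qY] [QuasiCompact qY]
    [LocallyOfFiniteType qY'] [QuasiCompact qY']
    [IrreducibleSpace ↥Y] (f : X ⟶ Y) (hf : f ≫ qY = qX) [Flat f] (n : ℕ)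
    (hX : ∀ Z : Set ↥X, Z ∈ irreducibleComponents ↥X →
      topologicalKrullDim ↥Z = topologicalKrullDim ↥Y + (n : WithBot ℕ∞))
    (g : Y' ⟶ Y) (hg : g ≫ qY = qY')
    (V : Set ↥Y') (hV : IsClosed V) (hVirr : IsIrreducible V)
    (W : Set ↥((pullback.snd f g).base ⁻¹' V))
    (hW : W ∈ irreducibleComponents ↥((pullback.snd f g).base ⁻¹' V)) :
    topologicalKrullDim ↥W = topologicalKrullDim ↥V + (n : WithBot ℕ∞) := by
  haveI := Groth.Agent.FlatDimHx.lfp_of_over k qX qY f hf
  obtain ⟨D, hD⟩ : ∃ D : ℕ, topologicalKrullDim ↥Y = (D : WithBot ℕ∞) :=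
    ⟨_, Groth.Agent.FlatDimHx.dim_irreducible k qY⟩
  have hθ : ∀ θ : Y, (∀ y, y ⤳ θ → y = θ) → Groth.Agent.FibDim.rd qY θ = D := fun θ h => by
    have h1 := (Groth.Agent.FlatDimHx.rd_eq_of_irreducible k qY θ h).symm.trans hD
    exact_mod_cast h1
  have hfib := (Groth.Agent.FlatDimHx.components_iff k qX qY f hf D n hθ).1
    (fun Z hZ => by rw [hX Z hZ, hD, Nat.cast_add])
  obtain ⟨v, hv⟩ : ∃ v, IsGenericPoint v V := ⟨_, hVirr.isGenericPoint_genericPoint hV⟩
  haveI : QuasiSober ↥((pullback.snd f g).base ⁻¹' V) :=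
    (hV.preimage (pullback.snd f g).continuous).isClosedEmbedding_subtypeVal.quasiSober
  obtain ⟨w, rfl, hw⟩ := Groth.Agent.FDescent.exists_maximal_of_mem_irreducibleComponents hW
  have hwv : (pullback.snd f g) w.1 = v := by
    obtain ⟨w', hw', he⟩ := Flat.generalizingMap (pullback.snd f g) (hv.specializes w.2)
    have hmem : w' ∈ (pullback.snd f g).base ⁻¹' V := (congrArg (· ∈ V) he).mpr hv.mem
    have h1 : (⟨w', hmem⟩ : ↥((pullback.snd f g).base ⁻¹' V)) = w := hw _ ((subtype_specializes_iff _ _).2 hw')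
    rw [← h1]; exact he
  have hwmax : Groth.Agent.FibDim.FibMax (pullback.snd f g) w.1 := fun w' hw' he => by
    have hmem : w' ∈ (pullback.snd f g).base ⁻¹' V := by
      show (pullback.snd f g) w' ∈ V
      rw [he, hwv]; exact hv.mem
    exact congrArg Subtype.val (hw ⟨w', hmem⟩ ((subtype_specializes_iff _ _).2 hw'))
  have hn : Groth.Agent.FibDim.rd (pullback.snd f g) w.1 = n := by
    have h1 := Groth.Agent.FibDim.fibreDimAt_baseChange (IsPullback.of_hasPullback f g) w.1
    rw [Groth.Agent.FibDim.fibreDimAt_eq_rd _ hwmax] at h1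
    obtain ⟨z, -, hfz, hz, he⟩ :=
      Groth.Agent.FibDim.exists_fibMax_generization f ((pullback.fst f g) w.1)
    rw [he] at h1
    obtain ⟨Z', hZ', hd⟩ := (Groth.Agent.FibDim.fiber_component_dims f _).symm.subset
      ⟨z, ⟨hfz, hz⟩, rfl⟩
    have h2 := hfib _ Z' hZ'
    dsimp only at hd
    rw [hd, ← h1] at h2
    exact_mod_cast h2
  have hq : pullback.snd f g ≫ qY' = pullback.fst f g ≫ qX := by
    rw [← hg, ← hf, ← Category.assoc, ← pullback.condition, Category.assoc]
  haveI : LocallyOfFiniteType (pullback.fst f g ≫ qX) := hq ▸ inferInstance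
  rw [Groth.Agent.FibDim.topologicalKrullDim_range_closed,
    show Subtype.val '' closure {w} = closure ({w.1} : Set ↥(pullback f g)) from ?_,
    Groth.Agent.FlatDimHx.dim_closure_eq k (pullback.fst f g ≫ qX) qY' (pullback.snd f g) hq, hwv, hn,
    ← hv.def, Groth.Agent.FlatDimHx.dim_closure k qY', Nat.cast_add]
  · rfl
  rw [← (hV.preimage (pullback.snd f g).continuous).isClosedEmbedding_subtypeVal.closure_image_eq,
    Set.image_singleton]

end Groth.Agent.S10941
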