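import Groth.Statements.S10960
import Groth.Agent.SBBundle.PicPn
import Groth.Agent.PD70.Splitting
import Groth.Agent.PnCoh.Finite.HomTwist

set_option autoImplicit false
universe u
set_option backward.isDefEq.respectTransparency false
set_option backward.isDefEq.respectTransparency.types false
set_option maxHeartbeats 1600000
open CategoryTheory CategoryTheory.Limits AlgebraicGeometry TopologicalSpace
open SDiv

namespace Groth.Agent.S10960

/-- Let L be a field and n ≥ 1. Then every invertible module on projective n-space over L is isomorphic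
to the twisting sheaf O(d) for exactly one integer d. In other words d ↦ O(d) is a bijection from
the integers onto the isomorphism classes of invertible modules on P^n_L. -/
theorem result (L : Type u) [Field L] (n : ℕ) (hn : 1 ≤ n)
    (M : (CohB1.ProjSpace n L).Modules) (hM : PicF.IsInvertible M) :
    ∃! d : ℤ, Nonempty (M ≅ Twist.twistProjSpace n L d) := by
  obtain ⟨d, ⟨e⟩⟩ := Groth.Agent.SBBundle.PicPn.exists_iso_twist M hM
  refine ⟨d, ⟨e⟩, ?_⟩
  rintro d' ⟨e'⟩
  have key : ∀ a b : ℤ, a < b → (Twist.twistProjSpace n L a ≅ Twist.twistProjSpace n L b) → False := by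
    intro a b hab i
    obtain ⟨φa⟩ := Groth.Agent.PnCoh.Finite.twist_tensor_iso (Groth.Agent.ProjRegular.coords L n)
      Groth.Agent.ProjRegular.coords_mem Groth.Agent.ProjRegular.coords_cover a (-b)
    obtain ⟨φb⟩ := Groth.Agent.PnCoh.Finite.twist_tensor_iso (Groth.Agent.ProjRegular.coords L n)
      Groth.Agent.ProjRegular.coords_mem Groth.Agent.ProjRegular.coords_cover b (-b)
    have h0 := Groth.Agent.S0844.result L n (a + -b) 0 (fun h => by omega) (fun h => by omega)
    let i' : Twist.twist (CohB1.polyGrading n L) a ≅ Twist.twist (CohB1.polyGrading n L) b := i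
    let m := (Groth.Agent.RegEpi.twF (k := L) (n := n) (-b)).mapIso i'
    let j := φa.symm ≪≫ m ≪≫ φb
    exact Groth.Agent.PD70.not_subsingleton_HH_twist (b + -b) (by omega)
      (Groth.Agent.QCoh.subsingleton_HH_of_iso j 0 h0)
  rcases lt_trichotomy d d' with h | h | h
  · exact (key d d' h (e.symm ≪≫ e')).elim
  · exact h.symm
  · exact (key d' d h (e'.symm ≪≫ e)).elim

end Groth.Agent.S10960
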