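import Groth.Statements.S10961
import Groth.Agent.Div57.KQuotPts

set_option autoImplicit false
set_option linter.style.haveILetI false
universe u
open CategoryTheory AlgebraicGeometry TopologicalSpace
open Mero

namespace Groth.Agent.S10961

/-- Let X be a reduced scheme with only finitely many irreducible components, with generic points x_1,
…, x_r, and let U be an open subset of X. Then the ring of sections over U of the sheaf of
meromorphic functions K_X maps bijectively, by evaluation, onto the product of the rings K_{X,x_i}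
over those generic points x_i that lie in U; moreover for each generic point x_i the local ring of X
at x_i is a field and maps bijectively onto K_{X,x_i}, so that K_{X,x_i} is the residue field of
x_i. (The hypothesis holds for every Noetherian scheme; for X integral it says that K_X is the
constant sheaf with value the function field.) -/
theorem result
    (X : Scheme.{u}) [IsReduced X] (hfin : (irreducibleComponents (X : Type u)).Finite) (U : X.Opens) :
    Function.Bijective (fun s : Γ(Mero.kmod X, U) =>
      fun x : {x : U // closure ({x.1} : Set X) ∈ irreducibleComponents (X : Type u)} =>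
        Mero.evalK X U x.1 s) ∧
    (∀ x : X, closure ({x} : Set X) ∈ irreducibleComponents (X : Type u) →
      IsField (X.presheaf.stalk x) ∧
        Function.Bijective (algebraMap (X.presheaf.stalk x) (Mero.KStalk X x))) := by
  classical
  have hmax : ∀ x : X, closure ({x} : Set X) ∈ irreducibleComponents (X : Type u) → ∀ z : X, z ⤳ x → z = x := by
    intro x hx z hz
    have h1 : closure ({x} : Set X) = closure ({z} : Set X) :=
      le_antisymm (specializes_iff_closure_subset.1 hz) (hx.2 isIrreducible_singleton.closure
        (specializes_iff_closure_subset.1 hz))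
    exact ((specializes_iff_closure_subset.2 h1.symm.subset).antisymm hz).eq.symm
  have hWA : ∀ x : X, Groth.Agent.Div57.KQuot.WA x →
      closure ({x} : Set X) ∈ irreducibleComponents (X : Type u) :=
    fun x hx => FlatMisc.closure_mem_irreducibleComponents_of_generic x hx.maximal
  have hWA' : ∀ x : X, closure ({x} : Set X) ∈ irreducibleComponents (X : Type u) →
      Groth.Agent.Div57.KQuot.WA x := fun x hx => Groth.Agent.Div57.KQuot.WA_of_maximal (hmax x hx)
  have hwf : Groth.Agent.Div57.KQuot.WFin X := Groth.Agent.Div57.KQuot.wfin_of_locallyFinite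
    fun x => ⟨⊤, trivial, hfin.subset fun Z hZ => hZ.1⟩
  have hbij : ∀ x : X, closure ({x} : Set X) ∈ irreducibleComponents (X : Type u) →
      Function.Bijective (algebraMap (X.presheaf.stalk x) (Mero.KStalk X x)) := fun x hx =>
    Groth.Agent.Div57.KQuot.bijective_algebraMap_of_WA (hWA' x hx)
  refine ⟨⟨fun s t hst => Groth.Agent.Div57.KQuot.kmod_ext fun y hy =>
    congrFun hst ⟨y, hWA y.1 hy⟩, fun v => ?_⟩, fun x hx => ⟨?_, hbij x hx⟩⟩
  · let S : Type u := {x : U // closure ({x.1} : Set X) ∈ irreducibleComponents (X : Type u)}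
    have hv : ∀ x : S, ∃ (W : X.Opens) (hx : x.1.1 ∈ W) (r : Γ(X, W)),
        algebraMap (X.presheaf.stalk x.1.1) (Mero.KStalk X x.1.1) (X.presheaf.germ W x.1.1 hx r) = v x := fun x => by
      obtain ⟨g, hg⟩ := (hbij x.1.1 x.2).2 (v x)
      obtain ⟨W, hx, r, rfl⟩ := TopCat.Presheaf.exists_germ_eq X.presheaf g
      exact ⟨W, hx, r, hg⟩
    choose W hxW r hr using hv
    let G : Set X := {z | closure ({z} : Set X) ∈ irreducibleComponents (X : Type u)}
    have hG : G.Finite := by
      refine Set.Finite.of_finite_image (f := fun z : X => closure ({z} : Set X))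
        (hfin.subset ?_) fun a _ b _ h => ?_
      · rintro _ ⟨z, hz, rfl⟩
        exact hz
      · exact ((specializes_iff_closure_subset.2 h.symm.subset).antisymm
          (specializes_iff_closure_subset.2 h.subset)).eq
    let W' : S → X.Opens := fun x => W x ⊓ U ⊓
      ⟨(⋃ z ∈ G \ {x.1.1}, closure ({z} : Set X))ᶜ,
        ((hG.sdiff).isClosed_biUnion fun z _ => isClosed_closure).isOpen_compl⟩
    have hxW' : ∀ x : S, x.1.1 ∈ W' x := fun x => by
      refine ⟨⟨hxW x, x.1.2⟩, fun h => ?_⟩
      obtain ⟨z, hz, hzx⟩ := Set.mem_iUnion₂.1 h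
      exact hz.2 (hmax _ x.2 z (specializes_iff_mem_closure.2 hzx))
    have hdisj : ∀ (x x' : S), x ≠ x' → ∀ z, z ∈ W' x → z ∈ W' x' → False := by
      intro x x' hne z hz hz'
      obtain ⟨Z, hZ, hzZ⟩ : ∃ Z ∈ irreducibleComponents (X : Type u), z ∈ Z :=
        ⟨_, irreducibleComponent_mem_irreducibleComponents z, mem_irreducibleComponent⟩
      have hg := hZ.1.isGenericPoint_genericPoint (isClosed_of_mem_irreducibleComponents Z hZ)
      have hgG : hZ.1.genericPoint ∈ G := by
        show closure ({hZ.1.genericPoint} : Set X) ∈ irreducibleComponents (X : Type u)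
        rw [hg.def]; exact hZ
      have hzg : z ∈ closure ({hZ.1.genericPoint} : Set X) := by rw [hg.def]; exact hzZ
      have key : ∀ y : S, z ∈ W' y → hZ.1.genericPoint = y.1.1 := fun y hy => by_contra fun h =>
        hy.2 (Set.mem_iUnion₂.2 ⟨_, ⟨hgG, h⟩, hzg⟩)
      exact hne (Subtype.ext (Subtype.ext ((key x hz).symm.trans (key x' hz'))))
    obtain ⟨g, hg, -⟩ := TopCat.Sheaf.existsUnique_gluing' X.sheaf W' (iSup W')
      (fun x => homOfLE (le_iSup W' x)) le_rfl
      (fun x => X.presheaf.map (homOfLE (inf_le_left.trans inf_le_left : W' x ≤ W x)).op (r x)) (by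
        intro x x'
        by_cases h : x = x'
        · subst h
          rfl
        · refine TopCat.Presheaf.section_ext X.sheaf _ _ _ fun z hz => ?_
          exact (hdisj x x' h z hz.1 hz.2).elim)
    have hle : iSup W' ≤ U := iSup_le fun x => inf_le_left.trans inf_le_right
    obtain ⟨s, hs⟩ := Groth.Agent.Div57.KQuot.exists_extend hwf hle
      (fun y hy hya => le_iSup W' ⟨⟨y, hy⟩, hWA y hya⟩ (hxW' _)) g
    refine ⟨s, funext fun x => ?_⟩
    have h1 : x.1.1 ∈ iSup W' := le_iSup W' x (hxW' x)
    have h2 := congrArg (fun t : Γ(Mero.kmod X, iSup W') => t.1 ⟨x.1.1, h1⟩) hs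
    refine h2.trans ?_
    rw [Groth.Agent.DivX.toK_val, ← hr x]
    have h3 := congrArg (X.presheaf.germ (W' x) x.1.1 (hxW' x)) (hg x)
    refine congrArg (algebraMap _ _) ?_
    exact ((X.presheaf.germ_res_apply (homOfLE (le_iSup W' x)) x.1.1 (hxW' x) g).symm.trans h3).trans
      (X.presheaf.germ_res_apply _ x.1.1 (hxW' x) (r x))
  · haveI : Ring.KrullDimLE 0 (X.presheaf.stalk x) := Ring.krullDimLE_zero_iff.2 fun P hP => by
      by_contra hPm
      have hne : P ≠ IsLocalRing.maximalIdeal (X.presheaf.stalk x) := fun h =>
        hPm (h ▸ IsLocalRing.maximalIdeal.isMaximal _)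
      have hz := Scheme.range_fromSpecStalk (X := X) (x := x)
      have hy : X.fromSpecStalk x ⟨P, hP⟩ = x :=
        hmax x hx _ (hz.subset ⟨⟨P, hP⟩, rfl⟩)
      have := (X.fromSpecStalk x).isEmbedding.injective (hy.trans Scheme.fromSpecStalk_closedPoint.symm)
      exact hne (congrArg PrimeSpectrum.asIdeal this)
    exact Ring.KrullDimLE.isField_of_isReduced

end Groth.Agent.S10961
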