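import Groth.Statements.S10966
import Groth.Agent.Ega2Va.Main
import Groth.Agent.QCoh.LocFree
-- import your own Groth.Agent.* helpers here

set_option autoImplicit false
universe u
open CategoryTheory CategoryTheory.Limits AlgebraicGeometry
open RelAmple

namespace Groth.Agent.S10966

/-- Let R be a nonzero ring and X an affine scheme of finite type over R, with structure morphism q : X
→ Spec R. Then every invertible O_X-module L is very ample relative to q: there are a natural number
n and an immersion i : X → P^n over Spec R, compatible with q, such that i^*O(1) ≅ L. -/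
theorem result (R : Type u) [CommRing R] [Nontrivial R]
    {X : Scheme.{u}} [IsAffine X] (q : X ⟶ Spec (CommRingCat.of R)) [LocallyOfFiniteType q]
    (L : X.Modules) (hL : PicF.IsInvertible L) :
    RelAmple.IsRelVeryAmplePn q L := by
  classical
  have hO : PicF.IsInvertible (Coh.structureModule X) := InvX.isInvertible_structureModule
  have hq := ProjUPX.isQCoh_of_isInvertible hL
  have hft : CohB1.IsFT L :=
    QCoh.isFT_of_isFP (QCoh.isFP_of_isFinLocFree (H23.PullPush.isFinLocFree_of_isInvertible hL))
  obtain ⟨m, t, ht⟩ := Submodule.fg_iff_exists_fin_generating_family.1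
    (QCoh.finite_of_isFT hq hft (isAffineOpen_top X)).fg_top
  letI := (q.appTop).hom.toAlgebra
  have hfin : Algebra.FiniteType Γ(Spec (CommRingCat.of R), ⊤) Γ(X, ⊤) := by
    have := q.finiteType_appLE (isAffineOpen_top _) (isAffineOpen_top X) le_top
    rw [show q.appLE ⊤ ⊤ le_top = q.appTop from Scheme.Hom.appLE_eq_app (f := q) (U := ⊤)] at this
    exact this
  obtain ⟨G, hG⟩ := hfin.out
  let e : Fin (G.card + 1) → Γ(X, ⊤) := Fin.cons 1 (fun a => (G.equivFin.symm a).1)
  let s : Fin (G.card + 1) → Γ(Coh.structureModule X, ⊤) := fun a => e a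
  have h0 : H23.TrivBasic.locus (s 0) = ⊤ := H23.TrivBasic.locus_eq_top_iff.2 (InvX.isFrame_one ⊤)
  have hva : RelAmple.IsRelVeryAmplePn q (Coh.structureModule X) := by
    refine Ega2Va.isRelVeryAmplePn_of_sections q hO s {0}
      (fun x => ⟨0, rfl, by rw [h0]; trivial⟩) (fun j hj => ?_) (fun j hj => ?_)
    · rw [Set.mem_singleton_iff.1 hj, h0]
      exact isAffineOpen_top X
    · obtain rfl := Set.mem_singleton_iff.1 hj
      have key : ∀ (V : X.Opens), V = ⊤ → ∀ B : Subring Γ(X, V), Set.range (q.appLE ⊤ V le_top).hom ⊆ B →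
          (∀ (l : Fin (G.card + 1)) (b : Γ(X, V)), AModX.res (Coh.structureModule X) (le_top : V ≤ ⊤) (s l) =
            b • AModX.res (Coh.structureModule X) (le_top : V ≤ ⊤) (s 0) → b ∈ B) → B = ⊤ := by
        rintro _ rfl B h1 h2
        rw [show q.appLE ⊤ ⊤ le_top = q.appTop from Scheme.Hom.appLE_eq_app (f := q) (U := ⊤)] at h1
        refine top_le_iff.1 fun x hx0 => ?_
        clear hx0
        have hx : x ∈ Algebra.adjoin Γ(Spec (CommRingCat.of R), ⊤) (G : Set Γ(X, ⊤)) := hG ▸ Algebra.mem_top
        induction hx using Algebra.adjoin_induction with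
        | mem y hy =>
          refine h2 (Fin.succ (G.equivFin ⟨y, hy⟩)) y ?_
          rw [AModX.res_self, AModX.res_self]
          show e _ = y * e 0
          simp [e]
        | algebraMap c => exact h1 ⟨c, rfl⟩
        | add y z _ _ hy hz => exact B.add_mem hy hz
        | mul y z _ _ hy hz => exact B.mul_mem hy hz
      exact key _ h0
  refine Ega2Va.isRelVeryAmplePn_of_iso (L := CohB1.tensorMod (Coh.structureModule X) L) ?_
    (Ega2Va.tensor_generated q hO hva hL t (ProjUPX.generatedBy_of_span hq t ht))
  exact (H23.PicMul.comm _ _).some ≪≫ (H23.PicMul.unit L).some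

end Groth.Agent.S10966
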