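import Groth.Statements.S1108
import Groth.Agent.AmpleVan.Vanish
import Groth.Agent.AmpleVan.FinGen
import Groth.Agent.AmpleX.Separated
import Groth.Agent.DEqLib.Sib.ResProp
import Groth.Agent.KRRLib.Pn.RegVan
import Groth.Agent.InvX.GenEpi

set_option autoImplicit false
universe u
open CategoryTheory AlgebraicGeometry
open Perf

open Groth.Agent

namespace Groth.Agent.S1108

/-- A scheme X admitting an ample invertible O_X-module has the resolution property: every
quasi-coherent O_X-module of finite type is a quotient of a finite locally free O_X-module. -/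
theorem result (X : Scheme.{u}) (L : X.Modules) (hL : CohB1.IsAmple L) : PerfAux.HasResolutionProperty X := by
  intro M hMq hMft
  haveI : CompactSpace X := hL.2.1
  haveI : X.IsSeparated := AmpleX.isSeparated_of_isAmple hL
  obtain ⟨n₀, hn₀⟩ := AmpleX.eventually_generated hL hMq hMft
  obtain ⟨G, iso, ι, s, hs⟩ := hn₀ n₀ le_rfl
  let N := CohB1.tensorPow L n₀
  have hN : PicF.IsInvertible N := InvX.isInvertible_tensorPow hL.1 n₀
  have hNfp := QCoh.isFP_of_isFinLocFree (H23.PullPush.isFinLocFree_of_isInvertible hN)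
  have hT : Coh.IsCoh (CohB1.tensorMod M N) := by
    have hMc : Coh.IsCoh M := ⟨hMq, hMft⟩
    have hNc : Coh.IsCoh N := ⟨QCoh.isQCoh_of_isFP hNfp, QCoh.isFT_of_isFP hNfp⟩
    refine QCoh.isCoh_iff.2 ⟨KFlatLib.isQCoh_tensor hMc.1 hNc.1, fun U => ?_⟩
    haveI := (QCoh.isCoh_iff.1 hMc).2 U
    haveI := (QCoh.isCoh_iff.1 hNc).2 U
    exact Module.Finite.of_surjective (QCoh.tmLin M N U.1) (QCoh.bijective_tmLin hMc.1 hNc.1 U.2).2
  have hG : Coh.IsCoh G := QCoh.isCoh_of_epi iso.inv hT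
    ((QCoh.isQCoh_iff_iso iso).2 hT.1)
  obtain ⟨k, j, hj⟩ := AmpleVan.exists_fin_generatedBy hG s hs
  obtain ⟨p, hp⟩ := InvX.exists_epi_freeMod hj
  obtain ⟨D, hD, ⟨e⟩⟩ := H23.PicInv.exists_inverse hN
  haveI := AmpleVan.isEquivalence_tw hD
  haveI := hp
  have hpe : Epi ((AmpleVan.tw D).map p) := (AmpleVan.tw D).map_epi p
  let back : CohB1.tensorMod G D ≅ M :=
    (AmpleVan.tw D).mapIso iso ≪≫ AmpleVan.assocT M N D ≪≫ (DCoh.tensorBi.obj M).mapIso e ≪≫ AmpleVan.twUnit.app M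
  exact ⟨CohB1.tensorMod (FlatMod.freeMod X k) D, (AmpleVan.tw D).map p ≫ back.hom,
    KFlatLib.isFinLocFree_tensor (DEqLib.Sib.ResProp.isFinLocFree_freeMod k) (KRRLib.Pn.isFinLocFree_of_isInvertible hD),
    @epi_comp _ _ _ _ _ ((AmpleVan.tw D).map p) hpe back.hom inferInstance⟩

end Groth.Agent.S1108
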