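import Groth.Statements.S11094
import Groth.Agent.AVFac.Degree
import Groth.Agent.AVDegLib.Pull
import Mathlib.FieldTheory.Galois.Basic
import Mathlib.AlgebraicGeometry.SpreadingOut


set_option autoImplicit false
universe u
open CategoryTheory CategoryTheory.Limits MonoidalCategory CartesianMonoidalCategory MonObj GrpObj AlgebraicGeometry
open AbVar

set_option backward.isDefEq.respectTransparency false
set_option backward.isDefEq.respectTransparency.types false
set_option linter.style.haveILetI false
set_option maxHeartbeats 1000000

namespace Groth.Agent.S11094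

variable {k : Type u} [Field k] {X Y Z : Over (Spec (CommRingCat.of k))}
  [IsIntegral X.left] [IsIntegral Y.left] [IsIntegral Z.left]

theorem ffMap_comp (f : X ⟶ Y) (g : Y ⟶ Z) [IsFinite f.left] [Surjective f.left] [IsFinite g.left]
    [Surjective g.left] [IsFinite (f ≫ g).left] [Surjective (f ≫ g).left] (z : Z.left.functionField) :
    AVDegLib.ffMap (f ≫ g) z = AVDegLib.ffMap f (AVDegLib.ffMap g z) := by
  obtain ⟨U, hU, hη, -⟩ := exists_isAffineOpen_mem_and_subset (x := genericPoint Z.left) (U := ⊤) trivial
  suffices h : ∀ a : Γ(Z.left, U), AVDegLib.ffMap (f ≫ g) (AVDegLib.gm U hη a) =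
      AVDegLib.ffMap f (AVDegLib.ffMap g (AVDegLib.gm U hη a)) by
    obtain ⟨a, ha, b, hb, -, rfl⟩ := AVDegLib.frac_sect hU hη z
    obtain ⟨a, rfl⟩ := ha hη
    obtain ⟨b, rfl⟩ := hb hη
    simp only [map_div₀, h]
  intro a
  rw [AVDegLib.ffMap_gm, AVDegLib.ffMap_gm g hη, AVDegLib.ffMap_gm f (AVDegLib.eta_preimage g hη)]
  rfl

theorem fromSpecStalk_ffMap (f : X ⟶ Y) [IsFinite f.left] [Surjective f.left] :
    Spec.map (CommRingCat.ofHom (AVDegLib.ffMap f)) ≫ Y.left.fromSpecStalk (genericPoint Y.left) =
      X.left.fromSpecStalk (genericPoint X.left) ≫ f.left := by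
  rw [show CommRingCat.ofHom (AVDegLib.ffMap f) =
    Y.left.presheaf.stalkSpecializes (show f.left (genericPoint X.left) ⤳ genericPoint Y.left by rw [AVDegLib.map_eta]) ≫
      f.left.stalkMap (genericPoint X.left) from rfl, Spec.map_comp, Category.assoc,
    Scheme.SpecMap_stalkSpecializes_fromSpecStalk, Scheme.SpecMap_stalkMap_fromSpecStalk]

theorem eq_of_ffMap_eq [IsSeparated Y.hom] (f g : X ⟶ Y) [IsFinite f.left] [Surjective f.left]
    [IsFinite g.left] [Surjective g.left] (h : AVDegLib.ffMap f = AVDegLib.ffMap g) : f = g := by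
  apply Over.OverMorphism.ext
  haveI : IsDominant (X.left.fromSpecStalk (genericPoint X.left)) := by
    refine ⟨dense_iff_closure_eq.2 (Set.univ_subset_iff.1 ?_)⟩
    rw [← (genericPoint_spec X.left).def]
    refine closure_mono (Set.singleton_subset_iff.2 ?_)
    rw [Scheme.range_fromSpecStalk]
    exact specializes_rfl
  refine ext_of_isDominant_of_isSeparated Y.hom ((Over.w f).trans (Over.w g).symm)
    (X.left.fromSpecStalk (genericPoint X.left)) ?_
  rw [← fromSpecStalk_ffMap f, ← fromSpecStalk_ffMap g, h]


/-- Let k be an algebraically closed field, E and E′ elliptic curves over k — group schemes over Spec k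
whose underlying schemes are proper, smooth, integral and one-dimensional — and φ : E → E′ a
homomorphism which is finite, surjective and étale (a separable isogeny), sending the generic point
of E to that of E′, so that the function field of E′ maps into the function field of E. Then the
function field of E is a Galois extension of that of E′, and the number of its automorphisms over
the function field of E′ equals the number of k-valued points of E that φ sends to the unit of E′. -/
theorem result (k : Type u) [Field k] [IsAlgClosed k]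
    (E E' : Over (Spec (CommRingCat.of k)))
    [GrpObj E] [IsProper E.hom] [Smooth E.hom] [IsIntegral E.left] (hE : topologicalKrullDim E.left = 1)
    [GrpObj E'] [IsProper E'.hom] [Smooth E'.hom] [IsIntegral E'.left] (hE' : topologicalKrullDim E'.left = 1)
    (φ : E ⟶ E') [IsMonHom φ] [IsFinite φ.left] [Surjective φ.left] [Etale φ.left]
    (e : φ.left (genericPoint E.left) = genericPoint E'.left) :
    letI := ((E'.left.presheaf.stalkSpecializes (specializes_of_eq e) ≫
      φ.left.stalkMap (genericPoint E.left)).hom).toAlgebra
    IsGalois E'.left.functionField E.left.functionField ∧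
      Nat.card (E.left.functionField ≃ₐ[E'.left.functionField] E.left.functionField) =
        Nat.card {P : 𝟙_ (Over (Spec (CommRingCat.of k))) ⟶ E // P ≫ φ = η[E']} := by
  let σ : E ⟶ E' := φ
  letI := AVDegLib.ffExt φ
  haveI := AVDegLib.finiteDimensional_ff φ
  show IsGalois E'.left.functionField E.left.functionField ∧ Nat.card _ = _
  let N := {P : 𝟙_ (Over (Spec (CommRingCat.of k))) ⟶ E // P ≫ φ = η[E']}
  have hN : Nat.card N = Module.finrank E'.left.functionField E.left.functionField :=
    (AVFac.card_fibre φ η[E']).trans (AVDegLib.finrank_eq φ _)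
  let τ : (𝟙_ (Over (Spec (CommRingCat.of k))) ⟶ E) → (E ⟶ E) := fun P => 𝟙 E * (toUnit E ≫ P)
  have hτ : ∀ P Q, τ P ≫ τ Q = τ (P * Q) := fun P Q => by
    simp only [τ, MonObj.comp_mul, Category.comp_id, ← Category.assoc, comp_toUnit, _root_.mul_assoc]
  have hτ1 : τ 1 = 𝟙 E := by simp [τ, MonObj.comp_one]
  have hiso : ∀ P, IsIso (τ P).left := fun P => by
    haveI : IsIso (τ P) := ⟨τ P⁻¹, by rw [hτ, mul_inv_cancel, hτ1], by rw [hτ, inv_mul_cancel, hτ1]⟩
    exact (Over.forget _).map_isIso (τ P)
  have hfin : ∀ P, IsFinite (τ P).left := fun P => haveI := hiso P; inferInstance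
  have hsur : ∀ P, Surjective (τ P).left := fun P => haveI := hiso P; inferInstance
  have hfix : ∀ P : N, τ P.1 ≫ φ = φ := fun P => by
    simp only [τ, MonObj.mul_comp, Category.id_comp, Category.assoc, P.2, MonObj.one_eq_one, MonObj.comp_one,
      _root_.mul_one]
  let a : N → (E.left.functionField →ₐ[E'.left.functionField] E.left.functionField) := fun P =>
    haveI := hfin P.1; haveI := hsur P.1
    { AVDegLib.ffMap (τ P.1) with
      commutes' := fun z => by
        haveI : IsFinite (τ P.1 ≫ φ).left := by rw [hfix P]; infer_instance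
        haveI : Surjective (τ P.1 ≫ φ).left := by rw [hfix P]; infer_instance
        refine (ffMap_comp (τ P.1) φ z).symm.trans ?_
        show AVDegLib.ffMap (τ P.1 ≫ φ) z = AVDegLib.ffMap φ z
        congr! 2
        exact hfix P }
  let b : N → (E.left.functionField ≃ₐ[E'.left.functionField] E.left.functionField) :=
    fun P => AlgEquiv.ofBijective (a P) (Algebra.IsAlgebraic.algHom_bijective (a P))
  have hinj : Function.Injective b := fun P Q h => by
    haveI := hfin P.1; haveI := hsur P.1; haveI := hfin Q.1; haveI := hsur Q.1
    have h1 : AVDegLib.ffMap (τ P.1) = AVDegLib.ffMap (τ Q.1) :=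
      RingHom.ext fun z => AlgEquiv.congr_fun h z
    have h2 := congrArg (η[E] ≫ ·) (eq_of_ffMap_eq (τ P.1) (τ Q.1) h1)
    simp only [τ, MonObj.comp_mul, Category.comp_id, MonObj.one_eq_one, _root_.one_mul, ← Category.assoc,
      comp_toUnit, toUnit_unique (toUnit (𝟙_ _)) (𝟙 _), Category.id_comp] at h2
    exact Subtype.ext h2
  have hle : Nat.card (E.left.functionField ≃ₐ[E'.left.functionField] E.left.functionField) ≤
      Module.finrank E'.left.functionField E.left.functionField := by
    rw [Nat.card_eq_fintype_card]
    refine le_trans (Fintype.card_le_of_injective AlgEquiv.toAlgHom fun x y h => AlgEquiv.ext fun z =>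
      AlgHom.congr_fun h z) AlgHom.card_le
  have hcard : Nat.card (E.left.functionField ≃ₐ[E'.left.functionField] E.left.functionField) =
      Module.finrank E'.left.functionField E.left.functionField :=
    le_antisymm hle (hN ▸ Nat.card_le_card_of_injective b hinj)
  exact ⟨IsGalois.of_card_aut_eq_finrank _ _ hcard, hcard.trans hN.symm⟩


end Groth.Agent.S11094
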