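import Groth.Statements.S11122
import Groth.Agent.PerfD40.PCBound
import Groth.Agent.KFlatLib.Scheme.RpushUnbounded
import Groth.Agent.KFlatLib.Scheme.Derived

set_option autoImplicit false
set_option linter.style.haveILetI false
universe u
open CategoryTheory CategoryTheory.Limits AlgebraicGeometry
attribute [local instance] HasDerivedCategory.standard
open Perf

namespace Groth.Agent.S11122

/-- Let f : X ⟶ Y be a quasi-compact quasi-separated morphism of schemes with Y quasi-compact, and
assume the unbounded derived direct image Rf_* exists. Suppose there is an integer k such that for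
every integer n and every object F of D(O_X) with bounded cohomology that is n-pseudo-coherent, Rf_*
F is (n + k)-pseudo-coherent. Then for every object F of D(O_X) that is n-pseudo-coherent for all n
(no boundedness assumed), Rf_* F is n-pseudo-coherent for all n. (The published statement obtains
the bound for proper pseudo-coherent f from a cited finiteness theorem; this row assumes the bound.) -/
theorem result {X Y : Scheme.{u}} (f : X ⟶ Y) [QuasiCompact f]
    [QuasiSeparated f] [CompactSpace Y] [DCoh.HasRpush f] (k : ℤ)
    (hK : ∀ (F : DCoh.D X) (n a b : ℤ), F.IsGE a → F.IsLE b → DCoh.IsPseudoCoherentD n F →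
      DCoh.IsPseudoCoherentD (n + k) ((DCoh.Rpush f).obj F))
    (F : DCoh.D X) (hF : ∀ m : ℤ, DCoh.IsPseudoCoherentD m F) (m : ℤ) :
    DCoh.IsPseudoCoherentD m ((DCoh.Rpush f).obj F) := by
  open Groth.Agent.KFlatLib in
  haveI : CompactSpace X := QuasiCompact.compactSpace_of_compactSpace f
  haveI : HasInjectiveResolutions X.Modules := hasInjectiveResolutions_modules
  have hq : DCoh.IsQCohD F := fun i => isQCoh_HD_of_pseudoCoherent (hF (i - 1)) i (by omega)
  choose U hU using fun y : Y => exists_isAffineOpen_mem_and_subset (X := Y) (U := ⊤) (x := y) trivial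
  choose d hd using fun y : Y => exists_Rpush_bound_near f (hU y).1
  obtain ⟨t, ht⟩ := isCompact_univ.elim_finite_subcover (fun y : Y => (U y : Set Y))
    (fun y => (U y).2) fun y _ => Set.mem_iUnion.2 ⟨y, (hU y).2.1⟩
  let N : ℕ := ∑ y ∈ t, d y
  let c : ℤ := min (m - k) (m - N)
  let A := ((PerfD40.tS X).truncLT c).obj F
  let B := ((PerfD40.tS X).truncGE c).obj F
  haveI : A.IsLE (c - 1) := PerfD40.isLE_truncLT F c
  haveI : B.IsGE c := PerfD40.isGE_truncGE F c
  obtain ⟨δ, hδ⟩ := exists_rpush_triangle f _ ((PerfD40.tS X).triangleLTGE_distinguished c F)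
  have hA : LocPC m ((DCoh.Rpush f).obj A) := locPC_of_isZero _ _ fun i hi => by
    refine isZero_of_isZero_restrict _ fun y => ?_
    obtain ⟨z, hz, hy⟩ := Set.mem_iUnion₂.1 (ht (Set.mem_univ y))
    have hle : d z ≤ N := Finset.single_le_sum (f := d) (fun _ _ => Nat.zero_le _) hz
    exact ⟨U z, hy, isZero_restrict_hd_rpush f (PerfD40.isQCohD_truncLT hq c) (c - 1) (U z) (d z)
      (hd z) i (by omega)⟩
  have hB0 : DCoh.IsPseudoCoherentD (m - k) B := PerfD40.isPseudoCoherentD_truncGE (hF (m - k)) (by omega)
  obtain ⟨b, hb⟩ := PerfD40.exists_isLE_of_pseudoCoherent hB0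
  have hB : LocPC m ((DCoh.Rpush f).obj B) := by
    have := hK B (m - k) c b inferInstance hb hB0
    rw [sub_add_cancel] at this
    exact (isPseudoCoherentD_iff _ _).1 this
  exact (isPseudoCoherentD_iff _ _).2 ((locPC_two_of_three m _ hδ).2.1 hA hB)

end Groth.Agent.S11122
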