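import Groth.Statements.S11199
import Groth.Agent.Obs28.Hull

set_option autoImplicit false
set_option linter.style.haveILetI false
universe u
open CategoryTheory MonoidalCategory CartesianMonoidalCategory MonObj GrpObj AlgebraicGeometry
open scoped TensorProduct
open AGF

namespace Groth.Agent.S11199

/-- Let k be an algebraically closed field, G a linear algebraic group over k (an affine smooth group
scheme over k) and H a closed subgroup of G (a smooth closed subgroup scheme, i : H → G). Then there
are finitely many right-H-invariant global functions f₁, ..., fₙ on G which already cut out the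
observable hull of H: a rational point of G whose right translation fixes each fⱼ fixes every
right-H-invariant global function. -/
theorem result (k : Type u) [Field k] [IsAlgClosed k]
    (G : Over (Spec (CommRingCat.of k))) [GrpObj G] [IsAffine G.left] [Smooth G.hom]
    (H : Over (Spec (CommRingCat.of k))) [GrpObj H] [Smooth H.hom] (i : H ⟶ G) [IsMonHom i]
    [IsClosedImmersion i.left] :
    ∃ s : Finset Γ(G.left, ⊤), (∀ f ∈ s, AGF.IsRTransInv i f) ∧
      ∀ g : VecGrp.pt k k ⟶ G, (∀ f ∈ s, AGF.IsRTransInv g f) →
        ∀ f : Γ(G.left, ⊤), AGF.IsRTransInv i f → AGF.IsRTransInv g f := by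
  haveI := Obs28.isAffine_of_closed i
  obtain ⟨s, hs, hsep⟩ := Obs28.exists_finset_sep i
  refine ⟨s, fun f hf => (Obs28.inv'_iff i f).mpr (hs f hf), fun g hg f hf => ?_⟩
  rw [Obs28.isRTransInv_pt_iff]
  have hfix : Obs28.Fix i g := by
    rw [Obs28.fix_iff]
    refine hsep g 1 fun f hf => ?_
    have := (Obs28.isRTransInv_pt_iff g f).mp (hg f hf)
    rw [← _root_.one_mul g, ← Obs28.pfn_rMap', this]
  exact hfix f ((Obs28.inv'_iff i f).mp hf)

end Groth.Agent.S11199
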