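import Groth.Statements.S11202
import Groth.Agent.Obs28.RadObs

set_option autoImplicit false
set_option linter.style.haveILetI false
universe u
open CategoryTheory MonoidalCategory CartesianMonoidalCategory MonObj GrpObj AlgebraicGeometry
open scoped TensorProduct
open AGF
open Groth.Agent

namespace Groth.Agent.S11202

/-- Let k be an algebraically closed field, G a linear algebraic group over k (an affine smooth group
scheme over k) and H a closed subgroup of G (a smooth closed subgroup scheme, i : H → G). If the
radical of H is unipotent — every smooth connected solvable closed normal subgroup of H contains no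
non-trivial subtorus — then H is observable in G. -/
theorem result (k : Type u) [Field k] [IsAlgClosed k]
    (G : Over (Spec (CommRingCat.of k))) [GrpObj G] [IsAffine G.left] [Smooth G.hom]
    (H : Over (Spec (CommRingCat.of k))) [GrpObj H] [Smooth H.hom] (i : H ⟶ G) [IsMonHom i]
    [IsClosedImmersion i.left]
    (hrad : ∀ (R : Over (Spec (CommRingCat.of k))) [GrpObj R] (r : R ⟶ H) [IsMonHom r], IsClosedImmersion r.left → Smooth R.hom →
      ConnectedSpace R.left → AlgGrp.IsNormalHom r → Red.IsSolvableGrp R → Red.HasNoSubtorus k R) :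
    AGF.IsObservableIn k i := by
  haveI : IsAffine H.left := Obs28.isAffine_of_closed i
  obtain ⟨H₀, _, j, hj, hjo, hjc, hHa, hHs, hHc, -⟩ := Obs28.exists_open_identityComponent H
  haveI := hj; haveI := hjo; haveI := hjc; haveI := hHa; haveI := hHs; haveI := hHc
  haveI : IsClosedImmersion (j ≫ i).left := by rw [Over.comp_left]; infer_instance
  haveI : Mono j.left := inferInstance
  haveI : Mono j := Over.mono_of_mono_left j
  refine (Obs28.observable_open_sub_iff j i).mp (Obs28.observable_of_chars (j ≫ i) fun χ hχ V _ _ _ π hπ v hv hev => ?_)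
  haveI := hχ
  refine ⟨V, inferInstance, inferInstance, π, hπ, v, hv, fun h => ?_⟩
  suffices hc : χ = 1 by rw [hev h, hc, Obs28.cv_one', inv_one]
  refine Obs28.TorW.char_eq_one_of_radical χ fun R₁ _ r₁ _ h2 h3 h4 h5 h6 => ?_
  haveI := h2; haveI := h3; haveI := h4
  haveI : IsAffine R₁.left := Obs28.isAffine_of_closed r₁
  -- the radical of the component is normal in H, hence has no subtori
  obtain ⟨R₀, _, r₀, g1, g2, g3, g4, g5, g6, guniv⟩ := Obs28.TorW.exists_solvRadical (G := H₀)
  haveI := g1; haveI := g2; haveI := g3; haveI := g4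
  haveI : IsAffine R₀.left := Obs28.isAffine_of_closed r₀
  haveI : IsClosedImmersion (r₀ ≫ j).left := by rw [Over.comp_left]; infer_instance
  obtain ⟨f₁, hf₁⟩ := guniv R₁ r₁ ‹_› h2 h3 h4 h5 h6
  have hno : Red.HasNoSubtorus k R₀ := hrad R₀ (r₀ ≫ j) inferInstance g3 g4
    (Obs28.TorW.normal_comp_radical j r₀ g5 g6 guniv) g6
  exact Obs28.TorW.hom_Gm_eq_one hno (r₀ ≫ χ) f₁ (by rw [← Category.assoc, hf₁])

end Groth.Agent.S11202
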