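import Groth.Statements.S11203
import Groth.Agent.Obs28.FGInv

set_option autoImplicit false
set_option linter.style.haveILetI false
universe u
open CategoryTheory MonoidalCategory CartesianMonoidalCategory MonObj GrpObj AlgebraicGeometry
open scoped TensorProduct
open AGF
open Groth.Agent.Obs28 Groth.Agent.GrpSchLib.Kunneth Groth.Agent

namespace Groth.Agent.S11203

/-- Let k be an algebraically closed field, G a linear algebraic group over k (an affine smooth group
scheme over k) and H a closed subgroup of G (a smooth closed subgroup scheme, i : H → G); let G₀ ⊆ G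
and H₀ ⊆ H be the identity components and i₀ : H₀ → G₀ the induced homomorphism. If one of the rings
k[G]^H (right-H-invariant global functions on G), k[G]^{H₀}, k[G₀]^{H₀} is finitely generated over
the constants, then all three are. (The published statement also lists the invariants of H ∩ G₀ on
G₀, omitted here.) -/
theorem result (k : Type u) [Field k] [IsAlgClosed k]
    (G : Over (Spec (CommRingCat.of k))) [GrpObj G] [IsAffine G.left] [Smooth G.hom]
    (H : Over (Spec (CommRingCat.of k))) [GrpObj H] [Smooth H.hom] (i : H ⟶ G) [IsMonHom i]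
    [IsClosedImmersion i.left]
    (G₀ : Over (Spec (CommRingCat.of k))) [GrpObj G₀] [ConnectedSpace G₀.left] (jG : G₀ ⟶ G) [IsMonHom jG]
    [IsOpenImmersion jG.left]
    (H₀ : Over (Spec (CommRingCat.of k))) [GrpObj H₀] [ConnectedSpace H₀.left] (jH : H₀ ⟶ H) [IsMonHom jH]
    [IsOpenImmersion jH.left] (i₀ : H₀ ⟶ G₀) [IsMonHom i₀] (hc : i₀ ≫ jG = jH ≫ i) :
    List.TFAE [AGF.SubringFGOver k G (AGF.rTransInv i), AGF.SubringFGOver k G (AGF.rTransInv (jH ≫ i)),
      AGF.SubringFGOver k G₀ (AGF.rTransInv i₀)] := by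
  classical
  haveI := isClosedImmersion_of_open jG
  haveI := isClosedImmersion_of_open jH
  haveI := isAffine_of_closed jG
  haveI := isAffine_of_closed i
  haveI := isAffine_of_closed jH
  haveI : Smooth G₀.hom := by rw [← Over.w jG]; infer_instance
  haveI : Smooth H₀.hom := by rw [← Over.w jH]; infer_instance
  haveI : Mono jG := (Over.forget _).mono_of_mono_map (inferInstanceAs (Mono jG.left))
  haveI := isReduced_grp G
  haveI := isReduced_grp G₀
  rw [subringFG_iff, subringFG_iff, subringFG_iff]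
  let a := jH ≫ i
  have hc' : ∀ y : Rat H₀, (y ≫ jH) ≫ i = (y ≫ i₀) ≫ jG := fun y => by rw [Category.assoc, Category.assoc, hc]
  have hm : ∀ (x : Rat G) (y : Rat H₀), Mem jG (x * (y ≫ a)) ↔ Mem jG x := fun x y => by
    have hy : Mem jG (y ≫ a) := ⟨y ≫ i₀, by rw [Category.assoc, hc]⟩
    refine ⟨fun h => ?_, fun h => h.mul hy⟩
    have hy' : Mem jG (y ≫ a)⁻¹ := ⟨(y ≫ i₀)⁻¹, by rw [GrpObj.inv_comp, Category.assoc, hc]⟩
    simpa using h.mul hy'
  have hres : ∀ F ∈ invAlg a, ev jG F ∈ invAlg i₀ := fun F hF y => ext_pts fun x => by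
    rw [pfn_rMap', ← pfn_comp, ← pfn_comp, MonObj.mul_comp, ← hc', Category.assoc, Inv'.apply a hF]
  have hext : ∀ f ∈ invAlg i₀, extFn jG f ∈ invAlg a := fun f hf y => ext_pts fun x => by
    rw [pfn_rMap']
    by_cases hx : Mem jG x
    · obtain ⟨w, rfl⟩ := hx
      rw [← Category.assoc y, hc', ← MonObj.mul_comp, pfn_extFn_mem, pfn_extFn_mem, Inv'.apply i₀ hf]
    · rw [pfn_extFn_not jG f hx, pfn_extFn_not jG f ((hm x y).not.mpr hx)]
  -- finiteness of cosets
  let SG := (MonoidHom.mk' (fun y : Rat G₀ => y ≫ jG) fun y z => MonObj.mul_comp y z jG).range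
  let SH := (MonoidHom.mk' (fun y : Rat H₀ => y ≫ jH) fun y z => MonObj.mul_comp y z jH).range
  haveI : Finite (Rat G ⧸ SG) := finite_cosets jG
  haveI : Finite (Rat H ⧸ SH) := finite_cosets jH
  haveI := Fintype.ofFinite (Rat G ⧸ SG)
  tfae_have 2 → 3 := fun h => by
    let r : invAlg a →ₐ[k] invAlg i₀ := ((ev jG).comp (invAlg a).val).codRestrict _ fun F => hres F F.2
    exact Algebra.FiniteType.of_surjective r (fun f =>
      ⟨⟨extFn jG f, hext f f.2⟩, Subtype.ext (ev_extFn jG _)⟩)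
  tfae_have 3 → 2 := fun h => by
    obtain ⟨s, hs⟩ := (Subalgebra.fg_iff_finiteType _).mpr h
    let E : (Rat G ⧸ SG) → Fn G₀ → Fn G := fun q f => lMap (q.out)⁻¹ (extFn jG f)
    let t : Finset (Fn G) := (Finset.univ ×ˢ insert 1 s).image fun p => E p.1 p.2
    refine (Subalgebra.fg_iff_finiteType _).mp ⟨t, le_antisymm (Algebra.adjoin_le fun x hx => ?_) fun F hF => ?_⟩
    · obtain ⟨⟨q, f⟩, hp, rfl⟩ := Finset.mem_image.mp hx
      refine Inv'.lMap a (hext f ?_) _
      rcases Finset.mem_insert.mp (Finset.mem_product.mp hp).2 with h1 | hf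
      · rw [show f = 1 from h1]; exact one_mem _
      · exact hs ▸ Algebra.subset_adjoin hf
    have hD : ∀ q, ∀ f ∈ Algebra.adjoin k (s : Set (Fn G₀)), E q f ∈ Algebra.adjoin k (t : Set (Fn G)) := by
      intro q f hf
      induction hf using Algebra.adjoin_induction with
      | mem y hy => exact Algebra.subset_adjoin (Finset.mem_image.mpr ⟨(q, y), by simp_all, rfl⟩)
      | algebraMap c =>
        show lMap _ _ ∈ _
        rw [extFn_algebraMap, map_smul]
        exact Subalgebra.smul_mem _ (Algebra.subset_adjoin (Finset.mem_image.mpr ⟨(q, 1), by simp, rfl⟩)) c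
      | add u v _ _ hu hv =>
        show lMap _ _ ∈ _
        rw [extFn_add, map_add]
        exact add_mem hu hv
      | mul u v _ _ hu hv =>
        show lMap _ _ ∈ _
        rw [extFn_mul, map_mul]
        exact mul_mem hu hv
    have hsum : F = ∑ q, E q (ev jG (lMap q.out F)) := ext_pts fun y => by
      rw [map_sum, Finset.sum_eq_single (QuotientGroup.mk y)]
      · obtain ⟨⟨_, w, rfl⟩, hw⟩ := QuotientGroup.mk_out_eq_mul SG y
        replace hw : (QuotientGroup.mk y : Obs28.Rat G ⧸ SG).out = y * (w ≫ jG) := hw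
        rw [pfn_lMap, hw]
        show pfn y F = pfn ((y * (w ≫ jG))⁻¹ * y) _
        rw [show (y * (w ≫ jG))⁻¹ * y = w⁻¹ ≫ jG by rw [GrpObj.inv_comp]; group, pfn_extFn_mem, ← pfn_comp,
          pfn_lMap, GrpObj.inv_comp, show y * (w ≫ jG) * (w ≫ jG)⁻¹ = y by group]
      · intro q _ hne
        rw [pfn_lMap]
        refine pfn_extFn_not jG _ fun ⟨w, hw⟩ => hne ?_
        rw [← QuotientGroup.out_eq' q]
        exact QuotientGroup.eq.mpr ⟨w, hw⟩
      · exact fun hh => absurd (Finset.mem_univ _) hh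
    exact hsum ▸ Subalgebra.sum_mem _ fun q _ => hD q _ (hs.symm ▸ hres _ (Inv'.lMap a hF _))
  tfae_have 2 → 1 := fun h => by
    let P := (MonoidHom.mk' (fun y : Rat H => y ≫ i) fun y z => MonObj.mul_comp y z i).range
    have hnorm : ∀ p ∈ P, ∀ y : Rat H₀, ∃ y' : Rat H₀, p⁻¹ * (y ≫ a) * p = y' ≫ a := by
      rintro _ ⟨w, rfl⟩ y
      obtain ⟨y', hy'⟩ := conj_mem jH w⁻¹ y
      refine ⟨y', ?_⟩
      show (w ≫ i)⁻¹ * (y ≫ a) * (w ≫ i) = _
      simp only [a, ← Category.assoc, hy', MonObj.mul_comp, GrpObj.inv_comp, _root_.inv_inv]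
    choose pre hpre using fun p : P => MonoidHom.mem_range.mp p.2
    have e : invP P = invAlg i := SetLike.ext fun f =>
      ⟨fun hf y => (show ∀ p ∈ P, rMap p f = f from hf) _ ⟨y, rfl⟩, fun hf p ⟨y, hy⟩ => hy ▸ hf y⟩
    refine e ▸ finiteType_invP a P hnorm (fun y => ⟨y ≫ jH, (Category.assoc _ _ _ : (y ≫ jH) ≫ i = y ≫ a)⟩)
      (fun p : P => (QuotientGroup.mk (pre p) : Rat H ⧸ SH)) (fun p p' hpp => ?_) h
    obtain ⟨y, hy⟩ := QuotientGroup.eq.mp hpp
    refine ⟨y, ?_⟩
    rw [← hpre p, ← hpre p']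
    show _ = (pre p ≫ i) * (y ≫ a)
    rw [← Category.assoc y, show y ≫ jH = (pre p)⁻¹ * pre p' from hy, ← MonObj.mul_comp]
    exact congrArg (· ≫ i) (by group)
  tfae_have 1 → 3 := fun h => by
    let S' := (MonoidHom.mk' (fun y : Rat G₀ => y ≫ jG) fun y z => MonObj.mul_comp y z jG).range.comap
      (MonoidHom.mk' (fun y : Rat H => y ≫ i) fun y z => MonObj.mul_comp y z i)
    let P := (MonoidHom.mk' (fun y : Rat H => y ≫ i) fun y z => MonObj.mul_comp y z i).range.comap
      (MonoidHom.mk' (fun y : Rat G₀ => y ≫ jG) fun y z => MonObj.mul_comp y z jG)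
    choose pre hpre using fun p : P => MonoidHom.mem_range.mp p.2
    have hpre' : ∀ p : P, pre p ≫ i = (p : Rat G₀) ≫ jG := hpre
    have hnorm : ∀ p ∈ P, ∀ y : Rat H₀, ∃ y' : Rat H₀, p⁻¹ * (y ≫ i₀) * p = y' ≫ i₀ := fun p hp y => by
      obtain ⟨y', hy'⟩ := conj_mem jH (pre ⟨p, hp⟩)⁻¹ y
      refine ⟨y', (cancel_mono jG).mp ?_⟩
      rw [← hc', hy']
      simp only [MonObj.mul_comp, GrpObj.inv_comp, _root_.inv_inv, hpre' ⟨p, hp⟩, hc']
    -- restriction from the invariants of the whole group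
    have hq : S' ≥ SH := by
      rintro _ ⟨y, rfl⟩
      exact ⟨y ≫ i₀, (hc' y).symm⟩
    haveI : Finite (Rat H ⧸ S') := Finite.of_surjective (Subgroup.quotientMapOfLE hq) fun x => by
      obtain ⟨w, rfl⟩ := QuotientGroup.mk_surjective x
      exact ⟨QuotientGroup.mk w, rfl⟩
    haveI := Fintype.ofFinite (Rat H ⧸ S')
    let r : invAlg i →ₐ[k] invP P := ((ev jG).comp (invAlg i).val).codRestrict _ fun F p hp => ext_pts fun x => by
      show pfn x (rMap p (ev jG F)) = pfn x (ev jG F)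
      rw [pfn_rMap', ← pfn_comp, ← pfn_comp, MonObj.mul_comp, ← hpre' ⟨p, hp⟩, Inv'.apply i F.2]
    have hfg : Algebra.FiniteType k (invP P) := Algebra.FiniteType.of_surjective r fun f => by
      let F := extFn jG (f : Fn G₀)
      have hF : ∀ w ∈ S', ∀ x, pfn (x * (w ≫ i)) F = pfn x F := by
        rintro w ⟨g, hg⟩ x
        replace hg : g ≫ jG = w ≫ i := hg
        by_cases hx : Mem jG x
        · obtain ⟨u, rfl⟩ := hx
          have hgP : g ∈ P := ⟨w, hg.symm⟩
          rw [← hg, ← MonObj.mul_comp, pfn_extFn_mem, pfn_extFn_mem, ← pfn_rMap', f.2 g hgP]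
        · rw [pfn_extFn_not jG _ hx, pfn_extFn_not jG _ fun hh => hx ?_]
          have hg' : Mem jG (w ≫ i)⁻¹ := ⟨g⁻¹, by rw [GrpObj.inv_comp, hg]⟩
          simpa using hh.mul hg'
      have hcl : ∀ x (w w' : Rat H), (QuotientGroup.mk w : Rat H ⧸ S') = QuotientGroup.mk w' →
          pfn (x * (w ≫ i)) F = pfn (x * (w' ≫ i)) F := fun x w w' hww => by
        have := hF _ (QuotientGroup.eq.mp hww) (x * (w ≫ i))
        rw [← this, _root_.mul_assoc, ← MonObj.mul_comp, mul_inv_cancel_left]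
      let F' := ∑ q : Rat H ⧸ S', rMap (q.out ≫ i) F
      have hF' : Inv' i F' := fun y => ext_pts fun x => by
        simp only [F', map_sum, pfn_rMap']
        refine Fintype.sum_equiv (MulAction.toPerm y) _ _ fun q => ?_
        rw [_root_.mul_assoc, ← MonObj.mul_comp]
        refine hcl x _ _ ?_
        rw [QuotientGroup.out_eq']
        conv_rhs => rw [← QuotientGroup.out_eq' q]
        rfl
      refine ⟨⟨F', hF'⟩, Subtype.ext (ext_pts fun x => ?_)⟩
      show pfn x (ev jG F') = _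
      rw [← pfn_comp, map_sum, Finset.sum_eq_single (QuotientGroup.mk 1 : Rat H ⧸ S')]
      · rw [pfn_rMap', hcl _ _ 1 (QuotientGroup.out_eq' _), MonObj.one_comp, _root_.mul_one, pfn_extFn_mem]
      · intro q _ hne
        rw [pfn_rMap']
        refine pfn_extFn_not jG _ fun ⟨g, hg⟩ => hne ?_
        rw [← QuotientGroup.out_eq' q, QuotientGroup.eq, _root_.mul_one, inv_mem_iff]
        exact ⟨x⁻¹ * g, by
          show (x⁻¹ * g) ≫ jG = q.out ≫ i
          rw [MonObj.mul_comp, GrpObj.inv_comp, hg]; group⟩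
      · exact fun hh => absurd (Finset.mem_univ _) hh
    refine finiteType_of_invP i₀ P hnorm (fun y => ⟨y ≫ jH, hc' y⟩)
      (fun p : P => (QuotientGroup.mk (pre p) : Rat H ⧸ SH)) (fun p p' hpp => ?_) hfg
    obtain ⟨y, hy⟩ := QuotientGroup.eq.mp hpp
    refine ⟨y, (cancel_mono jG).mp ?_⟩
    rw [MonObj.mul_comp, ← hc', show y ≫ jH = (pre p)⁻¹ * pre p' from hy, ← hpre' p, ← hpre' p', ← MonObj.mul_comp]
    exact congrArg (· ≫ i) (by group)
  tfae_finish

end Groth.Agent.S11203
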