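import Groth.Statements.S11204
import Groth.Agent.Obs28.Restrict
import Groth.Agent.Obs28.Comp
import Groth.Agent.Obs28.Reg

set_option autoImplicit false
set_option linter.style.haveILetI false
universe u
open CategoryTheory MonoidalCategory CartesianMonoidalCategory MonObj GrpObj AlgebraicGeometry
open scoped TensorProduct
open AGF

namespace Groth.Agent.S11204

/-- Let k be an algebraically closed field, G a linear algebraic group over k and K ⊆ H ⊆ G closed
subgroups (smooth closed subgroup schemes κ : K → H, i : H → G) with K and H observable in G. If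
k[G]^K is finitely generated over the constants (K is a Grosshans subgroup of G), then K is
observable in H and k[H]^K is finitely generated over the constants (K is a Grosshans subgroup of
H). -/
theorem result (k : Type u) [Field k] [IsAlgClosed k]
    (G : Over (Spec (CommRingCat.of k))) [GrpObj G] [IsAffine G.left] [Smooth G.hom]
    (H : Over (Spec (CommRingCat.of k))) [GrpObj H] [Smooth H.hom] (i : H ⟶ G) [IsMonHom i]
    [IsClosedImmersion i.left]
    (K : Over (Spec (CommRingCat.of k))) [GrpObj K] [Smooth K.hom] (κ : K ⟶ H) [IsMonHom κ] [IsClosedImmersion κ.left]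
    (hK : AGF.IsObservableIn k (κ ≫ i)) (hH : AGF.IsObservableIn k i)
    (hfg : AGF.SubringFGOver k G (AGF.rTransInv (κ ≫ i))) :
    AGF.IsObservableIn k κ ∧ AGF.SubringFGOver k H (AGF.rTransInv κ) := by
  classical
  haveI : IsAffine H.left := Obs28.isAffine_of_closed i
  haveI : IsAffine K.left := Obs28.isAffine_of_closed κ
  haveI := Obs28.finiteType_fn H
  haveI := Obs28.isReduced_grp H
  haveI : Mono i.left := inferInstance
  haveI : Mono i := Over.mono_of_mono_left i
  refine ⟨Obs28.observable_left κ i hK, ?_⟩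
  obtain ⟨s, hs, hle⟩ := hfg
  let r : GrpSchLib.Kunneth.Fn G →+* GrpSchLib.Kunneth.Fn H := (GrpSchLib.Kunneth.ev i).toRingHom
  refine ⟨s.image r, fun x hx => ?_, fun f hf => ?_⟩
  · obtain ⟨y, hy, rfl⟩ := Finset.mem_image.mp (Finset.mem_coe.mp hx)
    refine (Obs28.inv'_iff κ _).mpr fun t => Obs28.ext_pts fun z => ?_
    have h1 := ((Obs28.inv'_iff (κ ≫ i) y).mp (hs hy))
    show Obs28.pfn z (Obs28.rMap (t ≫ κ) (GrpSchLib.Kunneth.ev i y)) = Obs28.pfn z (GrpSchLib.Kunneth.ev i y)
    rw [Obs28.pfn_rMap', ← Obs28.pfn_comp, ← Obs28.pfn_comp, MonObj.mul_comp, Category.assoc,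
      ← Obs28.pfn_rMap', h1 t]
  · obtain ⟨F, hF, rfl⟩ := Obs28.exists_extension_invariant i κ hH ((Obs28.inv'_iff κ f).mp hf)
    have h2 : (GrpSchLib.Kunneth.ev i F : GrpSchLib.Kunneth.Fn H) ∈ Subring.map r (Subring.closure _) :=
      Subring.mem_map.mpr ⟨F, hle ((Obs28.inv'_iff (κ ≫ i) F).mpr hF), rfl⟩
    rw [RingHom.map_closure, Set.image_union, ← Finset.coe_image] at h2
    refine Subring.closure_mono (Set.union_subset_union ?_ subset_rfl) h2
    rintro _ ⟨_, ⟨c, rfl⟩, rfl⟩
    exact ⟨c, ((GrpSchLib.Kunneth.ev i).commutes c).symm⟩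

end Groth.Agent.S11204
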