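import Groth.Statements.S11205
import Groth.Agent.Obs28.PurelyInsepNormal

set_option autoImplicit false
set_option linter.style.haveILetI false
universe u
open CategoryTheory MonoidalCategory CartesianMonoidalCategory MonObj GrpObj AlgebraicGeometry
open scoped TensorProduct
open AGF
open Groth.Agent.Obs28.PINormal

namespace Groth.Agent.S11205

/-- Let k be an algebraically closed field and let X and Y be irreducible normal varieties over k
(integral separated schemes of finite type over k all of whose local rings are integrally closed),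
and π : Y → X a k-morphism which is bijective on points. If the ring of global functions of Y is
finitely generated over k, then so is the ring of global functions of X. (The published statement
asks π bijective on rational points; this row asks bijectivity on all points, which for schemes of
finite type over an algebraically closed field is the same condition.) -/
theorem result (k : Type u) [Field k] [IsAlgClosed k] (X Y : Over (Spec (CommRingCat.of k)))
    [IsIntegral X.left] [IsIntegral Y.left] [LocallyOfFiniteType X.hom] [QuasiCompact X.hom]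
    [IsSeparated X.hom] [LocallyOfFiniteType Y.hom] [QuasiCompact Y.hom] [IsSeparated Y.hom]
    (hX : ∀ x : X.left, IsIntegrallyClosed ↑(X.left.presheaf.stalk x))
    (hY : ∀ y : Y.left, IsIntegrallyClosed ↑(Y.left.presheaf.stalk y))
    (π : Y ⟶ X) (hπ : Function.Bijective π.left.base)
    (hfg : ((Scheme.ΓSpecIso (CommRingCat.of k)).inv ≫ Y.hom.appTop).hom.FiniteType) :
    ((Scheme.ΓSpecIso (CommRingCat.of k)).inv ≫ X.hom.appTop).hom.FiniteType := by
  haveI : Surjective π.left := ⟨hπ.2⟩
  haveI := universallyInjective_of_injective π hπ.1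
  haveI : IsLocallyNoetherian X.left := LocallyOfFiniteType.isLocallyNoetherian X.hom
  let sX : k →+* Γ(X.left, ⊤) := ((Scheme.ΓSpecIso (CommRingCat.of k)).inv ≫ X.hom.appTop).hom
  letI algX : Algebra k Γ(X.left, ⊤) := sX.toAlgebra
  letI algY : Algebra k Γ(Y.left, ⊤) := ((Scheme.ΓSpecIso (CommRingCat.of k)).inv ≫ Y.hom.appTop).hom.toAlgebra
  letI algXY : Algebra Γ(X.left, ⊤) Γ(Y.left, ⊤) := π.left.appTop.hom.toAlgebra
  haveI : IsScalarTower k Γ(X.left, ⊤) Γ(Y.left, ⊤) := IsScalarTower.of_algebraMap_eq' (by
    show (((Scheme.ΓSpecIso (CommRingCat.of k)).inv ≫ Y.hom.appTop).hom : k →+* Γ(Y.left, ⊤)) = _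
    rw [← Over.w π]
    rfl)
  haveI : Algebra.FiniteType k Γ(Y.left, ⊤) := RingHom.finiteType_algebraMap.mp hfg
  haveI : Algebra.IsIntegral Γ(X.left, ⊤) Γ(Y.left, ⊤) := ⟨fun b => by
    obtain ⟨n, hn, a, ha⟩ := exists_pow_eq π.left hX b
    refine IsIntegral.of_pow hn ?_
    rw [← ha]
    exact isIntegral_algebraMap (x := a)⟩
  haveI : Algebra.FiniteType Γ(X.left, ⊤) Γ(Y.left, ⊤) :=
    Algebra.FiniteType.of_restrictScalars_finiteType k Γ(X.left, ⊤) Γ(Y.left, ⊤)
  haveI : Module.Finite Γ(X.left, ⊤) Γ(Y.left, ⊤) := Algebra.IsIntegral.finite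
  exact RingHom.finiteType_algebraMap.mpr
    (⟨fg_of_fg_of_fg k Γ(X.left, ⊤) Γ(Y.left, ⊤) Algebra.FiniteType.out Module.Finite.fg_top
      (appTop_injective π.left)⟩ : Algebra.FiniteType k Γ(X.left, ⊤))

end Groth.Agent.S11205
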