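import Groth.Statements.S11207
import Groth.Agent.Obs28.Transfer
import Groth.Agent.Obs28.Reg

set_option autoImplicit false
set_option linter.style.haveILetI false
universe u
open CategoryTheory MonoidalCategory CartesianMonoidalCategory MonObj GrpObj AlgebraicGeometry
open scoped TensorProduct
open AGF

namespace Groth.Agent.S11207

/-- (a) ⇔ (b): let k be an algebraically closed field, G a linear algebraic group over k whose identity
component is reductive, and H a closed subgroup of G. Assume that invariants of reductive groups
over k on finitely generated algebras are finitely generated (a standard result, carried as a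
hypothesis). Then k[G]^H is finitely generated over the constants if and only if, for every finitely
generated commutative k-algebra A with a rational action of G by algebra automorphisms, the algebra
of H-invariants A^H is finitely generated over k. -/
theorem result (k : Type u) [Field k] [IsAlgClosed k]
    (G : Over (Spec (CommRingCat.of k))) [GrpObj G] [IsAffine G.left] [Smooth G.hom]
    (H : Over (Spec (CommRingCat.of k))) [GrpObj H] [Smooth H.hom] (i : H ⟶ G) [IsMonHom i]
    [IsClosedImmersion i.left]
    (hG : VecGrp.IsReductiveGrp k G) (thmA : VecGrp.ReductiveInvariantsFG k) :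
    AGF.SubringFGOver k G (AGF.rTransInv i) ↔
      ∀ (A : Type u) [CommRing A] [Algebra k A] [Algebra.FiniteType k A] (ρ : VecGrp.GMod G A) (hρ : ρ.IsMult),
        Algebra.FiniteType k ↥(ρ.fixedSubalgebra hρ i) := by
  classical
  haveI : IsAffine H.left := Obs28.isAffine_of_closed i
  constructor
  · intro hfg A _ _ _ ρ hρ
    exact Obs28.finiteType_of_transfer i hG thmA (Obs28.fg_invAlg i hfg) ρ hρ
  · intro h
    haveI := Obs28.finiteType_fn G
    have h1 := h (GrpSchLib.Kunneth.Fn G) (Obs28.regR G) Obs28.regR_isMult
    obtain ⟨s, hs⟩ := (Subalgebra.fg_iff_finiteType _).mpr h1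
    have hmem : ∀ f, f ∈ AGF.rTransInv i ↔ f ∈ (Obs28.regR G).fixedSubalgebra Obs28.regR_isMult i := fun f =>
      Obs28.rTransInv_eq_fixedUnder i f
    refine ⟨s, fun x hx => (hmem x).mpr (hs ▸ Algebra.subset_adjoin hx), fun x hx => ?_⟩
    have hx' := (hmem x).mp hx
    rw [← hs, ← Subalgebra.mem_toSubring, Algebra.adjoin_eq_ring_closure] at hx'
    exact hx'

end Groth.Agent.S11207
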