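import Groth.Statements.S11211
import Groth.Agent.Obs28.Sl2
import Groth.Agent.Obs28.Jordan

set_option autoImplicit false
set_option linter.style.haveILetI false
universe u
open CategoryTheory MonoidalCategory CartesianMonoidalCategory MonObj GrpObj AlgebraicGeometry
open scoped TensorProduct
open AGF

namespace Groth.Agent.S11211

/-- Let k be an algebraically closed field of characteristic zero, n a natural number and M a nilpotent
n × n matrix over k; let δ be the k-derivation of the polynomial ring k[X₁, …, Xₙ] with δ(Xⱼ) = Σᵢ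
Mᵢⱼ Xᵢ (the derivation of the linear action of the additive group on an n-dimensional module; its
kernel is the ring of invariant polynomial functions). Assume finite generation of invariants of
reductive groups over k on finitely generated algebras (a standard result, carried as a hypothesis).
Then the kernel of δ is a finitely generated k-subalgebra. -/
theorem result (k : Type u) [Field k] [IsAlgClosed k] [CharZero k] (thmA : VecGrp.ReductiveInvariantsFG k)
    (n : ℕ) (M : Matrix (Fin n) (Fin n) k) (hM : IsNilpotent M) :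
    ∃ S : Subalgebra k (MvPolynomial (Fin n) k), S.FG ∧
      ∀ f : MvPolynomial (Fin n) k, f ∈ S ↔
        MvPolynomial.mkDerivation k (fun j : Fin n => ∑ i : Fin n, M i j • (MvPolynomial.X i : MvPolynomial (Fin n) k)) f = 0 := by
  classical
  obtain ⟨I, _, d, b, hb⟩ := Groth.Agent.Obs28.Jordan.exists_basis (Matrix.toLin' M)
    (hM.map (Matrix.toLinAlgEquiv' (R := k) (n := Fin n)))
  let D := MvPolynomial.mkDerivation k (fun j : Fin n => ∑ i : Fin n, M i j • (MvPolynomial.X i : MvPolynomial (Fin n) k))
  let L : (Fin n → k) →ₗ[k] MvPolynomial (Fin n) k := Fintype.linearCombination k (MvPolynomial.X : Fin n → MvPolynomial (Fin n) k)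
  have hL : ∀ v, D (L v) = L (Matrix.toLin' M v) := fun v => by
    show D (Fintype.linearCombination k _ v) = Fintype.linearCombination k _ (Matrix.toLin' M v)
    simp only [Fintype.linearCombination_apply, map_sum, Derivation.map_smul, D, MvPolynomial.mkDerivation_X,
      Matrix.toLin'_apply, Matrix.mulVec, dotProduct, Finset.smul_sum, Finset.sum_smul, smul_smul]
    rw [Finset.sum_comm]
    exact Finset.sum_congr rfl fun i _ => Finset.sum_congr rfl fun j _ => by rw [mul_comm]
  -- the blocks, with an additional block of length two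
  let d' : Option I → ℕ := fun o => o.elim 2 d
  let σ := Σ o : Option I, Fin (d' o)
  let xs : Option I → ℕ → MvPolynomial σ k := fun o j => if h : j < d' o then MvPolynomial.X ⟨o, ⟨j, h⟩⟩ else 0
  let e := MvPolynomial.mkDerivation k (fun s : σ => xs s.1 ((s.2 : ℕ) + 1))
  let f := MvPolynomial.mkDerivation k
    (fun s : σ => (((s.2 : ℕ) * (d' s.1 - s.2) : ℕ) : k) • xs s.1 ((s.2 : ℕ) - 1))
  let w : σ → ℤ := fun s => 2 * (s.2 : ℤ) - ((d' s.1 : ℤ) - 1)
  have hxs : ∀ o j, MvPolynomial.IsWeightedHomogeneous (fun i => (w i, (1 : ℤ))) (xs o j)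
      (2 * (j : ℤ) - ((d' o : ℤ) - 1), 1) := fun o j => by
    simp only [xs]; split_ifs with h
    · exact MvPolynomial.isWeightedHomogeneous_X k _ (⟨o, ⟨j, h⟩⟩ : σ)
    · exact MvPolynomial.isWeightedHomogeneous_zero ..
  have he : ∀ o j, j < d' o → e (xs o j) = xs o (j + 1) := fun o j h => by
    simp only [xs, dif_pos h, e, MvPolynomial.mkDerivation_X]
  have hf : ∀ o j, j ≤ d' o → f (xs o j) = ((j * (d' o - j) : ℕ) : k) • xs o (j - 1) := fun o j hle => by
    rcases lt_or_eq_of_le hle with h | h
    · simp only [xs, dif_pos h, f, MvPolynomial.mkDerivation_X]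
    · simp [xs, h]
  have hX : ∀ (o : Option I) (j : Fin (d' o)), (MvPolynomial.X ⟨o, j⟩ : MvPolynomial σ k) = xs o j := fun o j => by
    simp [xs]
  let data : Groth.Agent.Obs28.Sl2.Data (k := k) (σ := σ) :=
    { w := w
      E := e
      F := f
      hE := fun ⟨o, j⟩ => by
        rw [hX, he o j j.2]
        convert hxs o (j + 1) using 2
        simp only [w]; push_cast; ring
      hF := fun ⟨o, j⟩ => by
        rw [hX, hf o j j.2.le]
        rcases Nat.eq_zero_or_pos (j : ℕ) with h0 | h0
        · simp [h0, MvPolynomial.isWeightedHomogeneous_zero]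
        rw [MvPolynomial.smul_eq_C_mul]
        refine MvPolynomial.IsWeightedHomogeneous.C_mul ?_ _
        convert hxs o ((j : ℕ) - 1) using 2
        simp only [w]; rw [Nat.cast_sub h0]; push_cast; ring
      hH := fun ⟨o, j⟩ => by
        have hj : (j : ℕ) < d' o := j.2
        rw [hX, hf o j hj.le, Derivation.map_smul, he o j hj, hf o ((j : ℕ) + 1) hj, Nat.add_sub_cancel, he o _ (by omega)]
        have e1 : ((((j : ℕ) * (d' o - j) : ℕ) : k)) • xs o ((j : ℕ) - 1 + 1) =
            ((((j : ℕ) * (d' o - j) : ℕ) : k)) • xs o j := by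
          rcases Nat.eq_zero_or_pos (j : ℕ) with h0 | h0
          · simp [h0]
          · rw [Nat.sub_add_cancel h0]
        rw [e1, ← sub_smul]
        congr 1
        simp only [w]
        rw [Nat.cast_mul, Nat.cast_mul, Nat.cast_sub hj.le, Nat.cast_sub (show (j : ℕ) + 1 ≤ d' o from hj)]
        push_cast
        ring }
  let u : MvPolynomial σ k := xs none 0
  let v : MvPolynomial σ k := xs none 1
  let img : σ → MvPolynomial (Fin n) k := fun s => match s with
    | ⟨none, j⟩ => if (j : ℕ) = 0 then 1 else 0
    | ⟨some i, j⟩ => L (b ⟨i, j⟩)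
  let φ : MvPolynomial σ k →ₐ[k] MvPolynomial (Fin n) k := MvPolynomial.aeval img
  have hφe : ∀ p, φ (e p) = D (φ p) := fun p => by
    induction p using MvPolynomial.induction_on with
    | C a => simp [e, D, φ]
    | add p q hp hq => simp only [map_add, hp, hq]
    | mul_X p s hp =>
      have hs : φ (e (MvPolynomial.X s)) = D (φ (MvPolynomial.X s)) := by
        simp only [e, MvPolynomial.mkDerivation_X, φ, MvPolynomial.aeval_X, xs]
        obtain ⟨_ | i, j⟩ := s
        · split_ifs with h <;> simp [img, MvPolynomial.aeval_X] <;> split_ifs <;> simp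
        · show MvPolynomial.aeval img (if h : (j : ℕ) + 1 < d i then MvPolynomial.X ⟨some i, ⟨_, h⟩⟩ else 0) =
            D (L (b ⟨i, j⟩))
          rw [hL]; erw [hb i j j.2]
          split_ifs with h
          · erw [MvPolynomial.aeval_X]; rfl
          · simp
      rw [e.leibniz, smul_eq_mul, smul_eq_mul, map_add, map_mul, map_mul, hs, hp, map_mul, D.leibniz, smul_eq_mul,
        smul_eq_mul]
  -- sections of the restriction
  let sec : MvPolynomial (Fin n) k →ₐ[k] MvPolynomial σ k := MvPolynomial.aeval fun i =>
    ∑ s, b.repr (Pi.single i (1 : k)) s • MvPolynomial.X ⟨some s.1, s.2⟩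
  let L' : (Fin n → k) →ₗ[k] MvPolynomial σ k := b.constr k fun s => MvPolynomial.X ⟨some s.1, s.2⟩
  have hsecL : ∀ x, sec (L x) = L' x := fun x => by
    refine LinearMap.congr_fun ((Pi.basisFun k (Fin n)).ext (f₁ := sec.toLinearMap ∘ₗ L) (f₂ := L') fun i => ?_) x
    rw [Pi.basisFun_apply, LinearMap.comp_apply, AlgHom.toLinearMap_apply, Fintype.linearCombination_apply_single,
      one_smul, MvPolynomial.aeval_X, Module.Basis.constr_apply_fintype]
    exact Finset.sum_congr rfl fun s _ => by rw [Module.Basis.equivFun_apply]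
  have hsec : ∀ p, φ (sec p) = p := by
    intro p
    have : φ.comp sec = AlgHom.id k _ := MvPolynomial.algHom_ext fun i => by
      have h1 : φ.toLinearMap ∘ₗ L' = L := b.ext fun s => by
        rw [LinearMap.comp_apply, Module.Basis.constr_basis]
        simp [φ, img]
      show φ (sec (MvPolynomial.X i)) = MvPolynomial.X i
      rw [show (MvPolynomial.X i : MvPolynomial (Fin n) k) = L (Pi.single i 1) by
        simp [L, Fintype.linearCombination_apply_single], hsecL]
      exact LinearMap.congr_fun h1 _
    exact DFunLike.congr_fun this p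
  have hsece : ∀ p, e (sec p) = sec (D p) := fun p => by
    induction p using MvPolynomial.induction_on with
    | C a => simp [e, D, sec]
    | add p q hp hq => simp only [map_add, hp, hq]
    | mul_X p i hp =>
      have hi : e (sec (MvPolynomial.X i)) = sec (D (MvPolynomial.X i)) := by
        rw [show (MvPolynomial.X i : MvPolynomial (Fin n) k) = L (Pi.single i 1) by
          simp [L, Fintype.linearCombination_apply_single], hL, hsecL, hsecL]
        refine LinearMap.congr_fun (b.ext (f₁ := e.toLinearMap ∘ₗ L') (f₂ := L' ∘ₗ Matrix.toLin' M) fun ⟨j, l⟩ => ?_) _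
        rw [LinearMap.comp_apply, LinearMap.comp_apply, show b ⟨j, l⟩ = b ⟨j, ⟨l, l.2⟩⟩ from rfl, hb,
          Module.Basis.constr_basis, Derivation.coeFn_coe]
        simp only [e, MvPolynomial.mkDerivation_X, xs]
        show (if h : (l : ℕ) + 1 < d j then (MvPolynomial.X ⟨some j, ⟨_, h⟩⟩ : MvPolynomial σ k) else 0) = _
        split_ifs with h
        · rw [Module.Basis.constr_basis]; rfl
        · rw [map_zero]
      rw [map_mul, e.leibniz, hi, hp, D.leibniz, smul_eq_mul, smul_eq_mul, smul_eq_mul, smul_eq_mul, map_add, map_mul,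
        map_mul]
  refine ⟨data.inv.map φ, data.fg_inv.map φ, fun p => ⟨?_, fun hp => ?_⟩⟩
  · rintro ⟨P, hP, rfl⟩
    show D (φ P) = 0
    rw [← hφe, show e P = 0 from hP.1, map_zero]
  · have hu : φ u = 1 := by simp [φ, u, xs, img, d']
    have hv : φ v = 0 := by simp [φ, v, xs, img, d']
    obtain ⟨P, hP, hPp⟩ := data.exists_lift u v (show e u = v from he none 0 (by simp [d']))
      (show e v = 0 by rw [he none 1 (by simp [d'])]; simp [xs, d'])
      (show f u = 0 by rw [hf none 0 (by simp [d'])]; simp)
      (show f v = u by rw [hf none 1 (by simp [d'])]; simp [d', u]) φ hu hv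
      (p := sec p) (show e (sec p) = 0 by rw [hsece, show D p = 0 from hp, map_zero])
    exact ⟨P, hP, hPp.trans (hsec p)⟩

end Groth.Agent.S11211
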