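import Groth.Statements.S11212
import Groth.Agent.Obs28.Res

set_option autoImplicit false
set_option linter.style.haveILetI false
universe u
open CategoryTheory MonoidalCategory CartesianMonoidalCategory MonObj GrpObj AlgebraicGeometry
open scoped TensorProduct
open AGF

namespace Groth.Agent.S11212

/-- Let k be an algebraically closed field, G a linear algebraic group over k (an affine smooth group
scheme over k) and H a closed subgroup of G (a smooth closed subgroup scheme, i : H → G), with the
identity component of H reductive. Assume the following standard results of geometric invariant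
theory for groups with reductive identity component, carried as hypotheses: finite generation of
invariants on finitely generated algebras, and that for such a group acting on an affine variety the
quotient map sends disjoint closed invariant subsets to disjoint sets. Then H is observable in G. -/
theorem result (k : Type u) [Field k] [IsAlgClosed k]
    (G : Over (Spec (CommRingCat.of k))) [GrpObj G] [IsAffine G.left] [Smooth G.hom]
    (H : Over (Spec (CommRingCat.of k))) [GrpObj H] [Smooth H.hom] (i : H ⟶ G) [IsMonHom i]
    [IsClosedImmersion i.left]
    (hH : VecGrp.IsReductiveGrp k H) (thmA : VecGrp.ReductiveInvariantsFG k)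
    (thmAbiv : AGF.ReductiveQuotSeparates k) :
    AGF.IsObservableIn k i := by
  haveI := Obs28.isAffine_of_closed i
  open Obs28 GrpSchLib.Kunneth in
  rw [observable_iff]
  intro g hg
  by_contra hmem
  haveI := isReduced_grp G
  haveI : _root_.IsReduced (Fn G) := inferInstanceAs (_root_.IsReduced Γ(G.left, ⊤))
  haveI := finiteType_fn G
  have hst : ∀ a : Rat G, (res (regR G) i).IsStable (𝟙 H) ((cosetIdeal i a).restrictScalars k) := by
    intro a
    rw [isStable_iff]
    intro y f hf
    rw [Category.comp_id, show rep (res (regR G) i) y f = rep (regR G) (y ≫ i) f from rfl, rep_regR]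
    refine (mem_cosetIdeal i a _).mpr fun h => ?_
    rw [pfn_rMap', _root_.mul_assoc, ← MonObj.mul_comp]
    exact (mem_cosetIdeal i a f).mp hf _
  have htop : cosetIdeal i 1 ⊔ cosetIdeal i g = ⊤ := by
    by_contra hne
    obtain ⟨x, hx⟩ := exists_zero (X := G) hne
    refine hmem ?_
    have := cosetIdeal_eq_of_common_zero i (g := 1) (g' := g)
      (fun f hf => hx f (Ideal.mem_sup_left hf)) (fun f hf => hx f (Ideal.mem_sup_right hf))
    rwa [inv_one, _root_.one_mul] at this
  have key := thmAbiv H hH (Fn G) (res (regR G) i) (res_isMult regR_isMult i) inferInstance _ _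
    (cosetIdeal_isRadical i 1) (cosetIdeal_isRadical i g) (hst 1) (hst g) htop
  obtain ⟨a, ha, b, hb, hab⟩ := Submodule.mem_sup.mp ((Ideal.eq_top_iff_one _).mp key)
  have ha0 : pfn (1 : Rat G) (a : Fn G) = 0 := by
    have := (mem_cosetIdeal i 1 (a : Fn G)).mp ha 1
    rwa [MonObj.one_comp, _root_.mul_one] at this
  have hb0 : pfn g (b : Fn G) = 0 := by
    have := (mem_cosetIdeal i g (b : Fn G)).mp hb 1
    rwa [MonObj.one_comp, _root_.mul_one] at this
  have hinv : Inv' i (a : Fn G) := fun h => by
    have hh : (a : Fn G) ∈ (regR G).fixedUnder i := (fixedUnder_res (regR G) i (a : Fn G)).mp a.2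
    have := (mem_fixedUnder_iff (regR G) i _).mp hh h
    rwa [rep_regR] at this
  have e1 : pfn g (a : Fn G) + pfn g (b : Fn G) = 1 := by
    rw [← map_add, ← Subalgebra.coe_add, hab, Subalgebra.coe_one, map_one]
  rw [(fix_iff i g).mp hg _ hinv, ha0, hb0, add_zero] at e1
  exact zero_ne_one e1

end Groth.Agent.S11212
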