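import Groth.Statements.S11213
import Groth.Agent.Obs28.HomogAffine
import Groth.Agent.Obs28.Res
import Groth.Agent.Obs28.Reg
import Groth.Agent.S11212

set_option autoImplicit false
set_option linter.style.haveILetI false
universe u
open CategoryTheory MonoidalCategory CartesianMonoidalCategory MonObj GrpObj AlgebraicGeometry
open scoped TensorProduct
open AGF

namespace Groth.Agent.S11213

/-- Let k be an algebraically closed field, G a linear algebraic group over k (an affine smooth group
scheme over k) and H a closed subgroup of G (a smooth closed subgroup scheme, i : H → G), with the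
identity component of H reductive, and let X (with action a, base point o) be the quotient G/H.
Assume the following standard results of geometric invariant theory for groups with reductive
identity component, carried as hypotheses: finite generation of invariants on finitely generated
algebras, and that the quotient map of an affine variety by such a group is surjective and separates
disjoint closed invariant subsets. Then k[G]^H is finitely generated over the constants (H is a
Grosshans subgroup of G) and X is affine. -/
theorem result (k : Type u) [Field k] [IsAlgClosed k]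
    (G : Over (Spec (CommRingCat.of k))) [GrpObj G] [IsAffine G.left] [Smooth G.hom]
    (H : Over (Spec (CommRingCat.of k))) [GrpObj H] [Smooth H.hom] (i : H ⟶ G) [IsMonHom i]
    [IsClosedImmersion i.left]
    (hH : VecGrp.IsReductiveGrp k H) (thmA : VecGrp.ReductiveInvariantsFG k)
    (thmAbi : AGF.ReductiveQuotSurj k) (thmAbiv : AGF.ReductiveQuotSeparates k)
    (X : Over (Spec (CommRingCat.of k))) (a : AlgGrp.Action G X) (o : 𝟙_ (Over (Spec (CommRingCat.of k))) ⟶ X) (hX : AGF.IsQuotient i X a o) :
    AGF.SubringFGOver k G (AGF.rTransInv i) ∧ IsAffine X.left := by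
  haveI : IsAffine H.left := Obs28.isAffine_of_closed i
  have hobs : AGF.IsObservableIn k i := S11212.result k G H i hH thmA thmAbiv
  haveI := Obs28.isReduced_grp G
  haveI : _root_.IsReduced (GrpSchLib.Kunneth.Fn G) := inferInstanceAs (_root_.IsReduced Γ(G.left, ⊤))
  haveI := Obs28.finiteType_fn G
  let ρ := Obs28.res (Obs28.regR G) i
  have hρ : ρ.IsMult := Obs28.res_isMult Obs28.regR_isMult i
  have hmem : ∀ f, f ∈ ρ.fixedUnder (𝟙 H) ↔ f ∈ AGF.rTransInv i := fun f =>
    (Obs28.fixedUnder_res (Obs28.regR G) i f).trans (Obs28.rTransInv_eq_fixedUnder i f).symm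
  refine ⟨?_, ?_⟩
  · obtain ⟨s, hs, hle⟩ := thmA H hH (GrpSchLib.Kunneth.Fn G) ρ hρ inferInstance
    refine ⟨s, fun x hx => (hmem x).mp (hs hx), fun x hx => ?_⟩
    have hx' := hle ((hmem x).mpr hx)
    rw [SetLike.mem_coe, ← Subalgebra.mem_toSubring, Algebra.adjoin_eq_ring_closure] at hx'
    exact hx'
  · refine Obs28.isAffine_of_inv_primes i hX hobs fun q hq => ?_
    have hm : ∀ {f}, f ∈ ρ.fixedSubalgebra hρ (𝟙 H) ↔ f ∈ Obs28.invAlg i := fun {f} =>
      (hmem f).trans (Obs28.mem_rTransInv_iff' i)
    let E : ↥(ρ.fixedSubalgebra hρ (𝟙 H)) →+* ↥(Obs28.invAlg i) :=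
      (ρ.fixedSubalgebra hρ (𝟙 H)).val.toRingHom.codRestrict (Obs28.invAlg i).toSubring fun x => hm.mp x.2
    obtain ⟨p, hp, hpq⟩ := thmAbi H hH (GrpSchLib.Kunneth.Fn G) ρ hρ inferInstance (q.comap E) inferInstance
    refine ⟨p, hp, Ideal.ext fun x => ?_⟩
    exact (Ideal.ext_iff.mp hpq ⟨x.1, hm.mpr x.2⟩)

end Groth.Agent.S11213
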