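import Groth.Statements.S11214
import Groth.Agent.Obs28.UnipMain
import Groth.Agent.GrpSchLib.SmoothQuot

set_option autoImplicit false
set_option linter.style.haveILetI false
universe u
open CategoryTheory MonoidalCategory CartesianMonoidalCategory MonObj GrpObj AlgebraicGeometry
open scoped TensorProduct
open AGF
open Groth.Agent

namespace Groth.Agent.S11214

/-- Let k be an algebraically closed field, L a linear algebraic group over k and H a closed subgroup of
L, with unipotent radicals U_H of H and U_L of L such that U_H ⊆ U_L; let X (with action a and base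
point o) be the quotient L/H. Assume the following standard results of geometric invariant theory
for groups with reductive identity component, carried as hypotheses: finite generation of invariants
on finitely generated algebras, and that the quotient map of an affine variety by such a group is
surjective and separates disjoint closed invariant subsets. Then X is affine. -/
theorem result (k : Type u) [Field k] [IsAlgClosed k]
    (L : Over (Spec (CommRingCat.of k))) [GrpObj L] [IsAffine L.left] [Smooth L.hom]
    (H : Over (Spec (CommRingCat.of k))) [GrpObj H] [Smooth H.hom] (i : H ⟶ L) [IsMonHom i] [IsClosedImmersion i.left]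
    (UL : Over (Spec (CommRingCat.of k))) [GrpObj UL] (uL : UL ⟶ L) (hUL : Par.IsUnipotentRadical uL)
    (UH : Over (Spec (CommRingCat.of k))) [GrpObj UH] (uH : UH ⟶ H) (hUH : Par.IsUnipotentRadical uH)
    (f : UH ⟶ UL) (hf : f ≫ uL = uH ≫ i)
    (thmA : VecGrp.ReductiveInvariantsFG k) (thmAbi : AGF.ReductiveQuotSurj k)
    (thmAbiv : AGF.ReductiveQuotSeparates k)
    (X : Over (Spec (CommRingCat.of k))) (a : AlgGrp.Action L X) (o : 𝟙_ (Over (Spec (CommRingCat.of k))) ⟶ X) (hX : AGF.IsQuotient i X a o) :
    IsAffine X.left := by
  haveI : IsAffine H.left := Obs28.isAffine_of_closed i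
  have hL := Obs28.RadM.isUN_of_isUnipotentRadical hUL
  have hR := Obs28.RadM.isUN_of_isUnipotentRadical hUH
  haveI := hL.hom; haveI := hL.closed; haveI := hL.smooth; haveI := hL.connected
  haveI := hR.hom; haveI := hR.closed; haveI := hR.smooth
  haveI : IsAffine UH.left := Obs28.isAffine_of_closed uH
  haveI : IsAffine UL.left := Obs28.isAffine_of_closed uL
  haveI : Mono uL.left := inferInstance
  haveI : Mono uL := Over.mono_of_mono_left uL
  haveI : IsMonHom (f ≫ uL) := by rw [hf]; infer_instance
  haveI : IsMonHom f := RedSub30.isMonHom_of_mono uL f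
  haveI : IsClosedImmersion f.left := by
    haveI : IsClosedImmersion (f.left ≫ uL.left) := by
      rw [← Over.comp_left, hf, Over.comp_left]; infer_instance
    exact IsClosedImmersion.of_comp f.left uL.left
  haveI : QuasiCompact UH.hom := inferInstance
  haveI : IsClosedImmersion (uH ≫ i).left := by rw [Over.comp_left]; infer_instance
  haveI : Mono (uH ≫ i).left := inferInstance
  haveI : Mono (uH ≫ i) := Over.mono_of_mono_left (uH ≫ i)
  obtain ⟨Y, aY, oY, hl, -, hfl, hs, hp⟩ := GrpSchLib.HomogeneousQuot.exists_quot L UH (uH ≫ i)
  have hY : AGF.IsQuotient (uH ≫ i) Y aY oY := ⟨hl, hfl, hs, hp⟩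
  haveI : IsAffine Y.left :=
    Obs28.RadM.isAffine_quotient_normal uL hL.normal hL.noSub f (a := aY) (o := oY) (by rw [hf]; exact hY)
  obtain ⟨Q, _, q, hq, hQa, hQf, hqf, hqs, hk⟩ := GrpSchLib.NormalQuot.exists_quot H UH uH hR.normal
  haveI := hq; haveI := hQa; haveI := hQf; haveI := hqf; haveI := hqs
  haveI : Smooth (q.left ≫ Q.hom) := by rw [Over.w q]; infer_instance
  haveI : Smooth Q.hom := GrpSchLib.smooth_of_flat_surjective q.left Q.hom
  exact Obs28.RadM.isAffine_of_two_steps i uH hR.normal hY q hk
    (Obs28.RadM.isReductiveGrp_quotient hUH q hk) thmAbi thmAbiv hX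

end Groth.Agent.S11214
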