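import Groth.Statements.S11215
import Groth.Agent.Obs28.Matsushima
import Groth.Agent.Obs28.SolvObs
import Groth.Agent.S11213

set_option autoImplicit false
set_option linter.style.haveILetI false
universe u
open CategoryTheory MonoidalCategory CartesianMonoidalCategory MonObj GrpObj AlgebraicGeometry
open scoped TensorProduct
open AGF
open Groth.Agent.Obs28 Groth.Agent.GrpSchLib.Kunneth Groth.Agent

namespace Groth.Agent.S11215

/-- Let k be an algebraically closed field, G a linear algebraic group over k whose identity component
is reductive, H a closed subgroup of G, and X (with action a and base point o) the quotient G/H.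
Assume the following standard results of geometric invariant theory for groups with reductive
identity component, carried as hypotheses: finite generation of invariants on finitely generated
algebras, and that the quotient map of an affine variety by such a group is surjective and separates
disjoint closed invariant subsets. Then X is affine if and only if the identity component of H is
reductive. -/
theorem result (k : Type u) [Field k] [IsAlgClosed k]
    (G : Over (Spec (CommRingCat.of k))) [GrpObj G] [IsAffine G.left] [Smooth G.hom]
    (H : Over (Spec (CommRingCat.of k))) [GrpObj H] [Smooth H.hom] (i : H ⟶ G) [IsMonHom i]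
    [IsClosedImmersion i.left]
    (hG : VecGrp.IsReductiveGrp k G) (thmA : VecGrp.ReductiveInvariantsFG k)
    (thmAbi : AGF.ReductiveQuotSurj k) (thmAbiv : AGF.ReductiveQuotSeparates k)
    (X : Over (Spec (CommRingCat.of k))) (a : AlgGrp.Action G X) (o : 𝟙_ (Over (Spec (CommRingCat.of k))) ⟶ X) (hX : AGF.IsQuotient i X a o) :
    IsAffine X.left ↔ VecGrp.IsReductiveGrp k H := by
  haveI : IsAffine H.left := isAffine_of_closed i
  refine ⟨fun hXa => ?_, fun hH => (S11213.result k G H i hH thmA thmAbi thmAbiv X a o hX).2⟩
  haveI := hXa
  obtain ⟨K, iK, j, hj, hjo, hjc, hKa, hKs, hKc, -⟩ := exists_open_identityComponent H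
  haveI := hj; haveI := hjo; haveI := hKa; haveI := hKs; haveI := hKc
  refine ⟨inferInstance, inferInstance, K, iK, j, hj, hjo, hKa, hKs, hKc, fun U _ u _ hu hUs hUc hn hUn => ?_⟩
  haveI := hu; haveI := hUs; haveI := hUc
  haveI : IsAffine U.left := isAffine_of_closed u
  by_contra hne
  obtain ⟨u₀, hu₀⟩ : ∃ u₀ : Obs28.Rat U, u₀ ≠ 1 := by
    by_contra h
    push Not at h
    refine hne ?_
    haveI := isReduced_grp U
    have h1 : (𝟙 U : U ⟶ U) = 1 := Unip.hom_ext_rat fun x => by
      rw [Category.comp_id, MonObj.comp_one, h x]
    refine ⟨⟨η[U].left, ?_, ?_⟩⟩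
    · have h2 := congrArg CommaMorphism.left h1
      exact h2.symm
    · exact Over.w η[U]
  obtain ⟨V, iV, iMV, iFV, π, hπ, v, w, c, hv, hvf, hw, hc⟩ := exists_unipotent_pair hUn u hn hu₀
  obtain ⟨Φ, hΦ, hΦv⟩ := exists_equivariant_one i j π hX hπ hv hvf
  exact false_of_pair i j π hG thmAbiv hΦ hΦv (fun y : Obs28.Rat U => y ≫ u) c hw hvf hc

end Groth.Agent.S11215
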