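import Groth.Statements.S11216
import Groth.Agent.Obs28.OrbitImage

set_option autoImplicit false
set_option linter.style.haveILetI false
universe u
open CategoryTheory MonoidalCategory CartesianMonoidalCategory MonObj GrpObj AlgebraicGeometry
open scoped TensorProduct
open AGF

namespace Groth.Agent.S11216

/-- (b) ⇒ (i): let k be an algebraically closed field, G a linear algebraic group over k (an affine
smooth group scheme over k) and H a closed subgroup of G (a smooth closed subgroup scheme, i : H →
G), with H observable in G and k[G]^H finitely generated over the constants; let X = Spec k[G]^H and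
φ : G → X the morphism given by the inclusion k[G]^H ⊆ k[G]. Then the image of φ (the orbit of the
base point) is open in X and every point of X outside the image has codimension at least 2 (its
prime ideal has height ≥ 2). (The published statement also asserts that G/H maps isomorphically onto
the image, and that finite generation is equivalent to an orbit-closure condition in a
representation; neither is stated here.) -/
theorem result (k : Type u) [Field k] [IsAlgClosed k]
    (G : Over (Spec (CommRingCat.of k))) [GrpObj G] [IsAffine G.left] [Smooth G.hom]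
    (H : Over (Spec (CommRingCat.of k))) [GrpObj H] [Smooth H.hom] (i : H ⟶ G) [IsMonHom i]
    [IsClosedImmersion i.left]
    (hobs : AGF.IsObservableIn k i) (hfg : AGF.SubringFGOver k G (AGF.rTransInv i)) :
    IsOpen (Set.range ⇑(G.left.toSpecΓ ≫ Spec.map (CommRingCat.ofHom (AGF.rTransInv i).subtype)).base) ∧
      ∀ x : ↥(Spec (CommRingCat.of ↥(AGF.rTransInv i))),
        x ∉ Set.range ⇑(G.left.toSpecΓ ≫ Spec.map (CommRingCat.ofHom (AGF.rTransInv i).subtype)).base →
          (2 : ℕ∞) ≤ x.asIdeal.height := by
  haveI : IsAffine H.left := Obs28.isAffine_of_closed i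
  have hf := Obs28.fg_invAlg i hfg
  let e : ↥(AGF.rTransInv i) ≃+* ↥(Obs28.invAlg i) :=
    { toFun := fun x => ⟨x.1, (Obs28.mem_rTransInv_iff' i).mp x.2⟩
      invFun := fun x => ⟨x.1, (Obs28.mem_rTransInv_iff' i).mpr x.2⟩
      left_inv := fun _ => rfl
      right_inv := fun _ => rfl
      map_mul' := fun _ _ => rfl
      map_add' := fun _ _ => rfl }
  set j := PrimeSpectrum.comap (Obs28.invAlg i).val.toRingHom with hj
  have hrange : Set.range ⇑(G.left.toSpecΓ ≫ Spec.map (CommRingCat.ofHom (AGF.rTransInv i).subtype)).base =
      PrimeSpectrum.comap (e.symm : ↥(Obs28.invAlg i) →+* ↥(AGF.rTransInv i)) ⁻¹' Set.range j := by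
    have h1 : Set.range ⇑(G.left.toSpecΓ ≫ Spec.map (CommRingCat.ofHom (AGF.rTransInv i).subtype)).base =
        Set.range (PrimeSpectrum.comap (AGF.rTransInv i).subtype) := by
      rw [Scheme.Hom.comp_base, TopCat.coe_comp, Set.range_comp,
        Set.range_eq_univ.mpr (G.left.toSpecΓ).surjective, Set.image_univ]
      rfl
    rw [h1]
    ext x
    constructor
    · rintro ⟨Q, rfl⟩
      exact ⟨Q, PrimeSpectrum.ext (Ideal.ext fun a => Iff.rfl)⟩
    · rintro ⟨Q, hQ⟩
      refine ⟨Q, PrimeSpectrum.ext (Ideal.ext fun a => ?_)⟩
      have h2 := Ideal.ext_iff.mp (congrArg PrimeSpectrum.asIdeal hQ) (e a)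
      exact h2.trans (by show e.symm (e a) ∈ x.asIdeal ↔ _; rw [RingEquiv.symm_apply_apply])
  rw [hrange]
  refine ⟨(Obs28.isOpen_range_comap i hf).preimage (PrimeSpectrum.continuous_comap _), fun x hx => ?_⟩
  have h2 := Obs28.two_le_height i hf _ hx
  rw [← RingEquiv.height_comap e.symm x.asIdeal]
  exact h2

end Groth.Agent.S11216
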