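import Groth.Statements.S11219
import Groth.Agent.Obs28.Quotient
import Groth.Agent.Obs28.Reg
import Groth.Agent.Obs28.Hull

set_option autoImplicit false
set_option linter.style.haveILetI false
universe u
open CategoryTheory MonoidalCategory CartesianMonoidalCategory MonObj GrpObj AlgebraicGeometry
open scoped TensorProduct
open AGF

namespace Groth.Agent.S11219

/-- Let k be an algebraically closed field, G a linear algebraic group over k (an affine smooth group
scheme over k) and H a closed subgroup of G (a smooth closed subgroup scheme, i : H → G), with G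
connected. Then H is observable in G if and only if every right-H-invariant rational function on G
is a quotient of two right-H-invariant global functions: whenever global functions a, b with b ≠ 0
satisfy a(xh)·b(x) = a(x)·b(xh) on G × H, there are right-H-invariant global functions a′, b′ with
b′ ≠ 0 and a·b′ = a′·b. (The published condition concerns the identity component of G and its
intersection with H; for connected G it reads as stated.) -/
theorem result (k : Type u) [Field k] [IsAlgClosed k]
    (G : Over (Spec (CommRingCat.of k))) [GrpObj G] [IsAffine G.left] [Smooth G.hom]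
    (H : Over (Spec (CommRingCat.of k))) [GrpObj H] [Smooth H.hom] (i : H ⟶ G) [IsMonHom i]
    [IsClosedImmersion i.left] [ConnectedSpace G.left] :
    AGF.IsObservableIn k i ↔
      ∀ a b : Γ(G.left, ⊤), b ≠ 0 →
        ((G ◁ i) ≫ μ[G]).left.appTop a * (fst G H).left.appTop b = (fst G H).left.appTop a * ((G ◁ i) ≫ μ[G]).left.appTop b →
        ∃ a' b' : Γ(G.left, ⊤), AGF.IsRTransInv i a' ∧ AGF.IsRTransInv i b' ∧ b' ≠ 0 ∧ a * b' = a' * b := by
  classical
  haveI : IsAffine H.left := Obs28.isAffine_of_closed i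
  haveI := Obs28.isReduced_grp G
  haveI := Obs28.isReduced_grp H
  haveI : IsDomain (GrpSchLib.Kunneth.Fn G) := Obs28.isDomain_fn
  -- the translated equation at rational points
  have hpts : ∀ a b : GrpSchLib.Kunneth.Fn G,
      ((G ◁ i) ≫ μ[G]).left.appTop a * (fst G H).left.appTop b =
        (fst G H).left.appTop a * ((G ◁ i) ≫ μ[G]).left.appTop b ↔
      ∀ h : Obs28.Rat H, Obs28.rMap (h ≫ i) a * b = a * Obs28.rMap (h ≫ i) b := by
    intro a b
    haveI : IsAffine (G ⊗ H).left := inferInstanceAs (IsAffine (Limits.pullback G.hom H.hom))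
    haveI : Smooth (G ⊗ H).hom := inferInstanceAs (Smooth (Limits.pullback.fst G.hom H.hom ≫ G.hom))
    haveI : IsReduced (G ⊗ H).left := GrpSchLib.isReduced_of_smooth_field (G ⊗ H).hom
    have e : ∀ (g : Obs28.Rat G) (h : Obs28.Rat H) (f : GrpSchLib.Kunneth.Fn G),
        Obs28.pfn (lift g h) (GrpSchLib.Kunneth.ev ((G ◁ i) ≫ μ[G]) f) = Obs28.pfn g (Obs28.rMap (h ≫ i) f) ∧
        Obs28.pfn (lift g h) (GrpSchLib.Kunneth.ev (fst G H) f) = Obs28.pfn g f := fun g h f => by
      rw [Obs28.pfn_rMap', ← Obs28.pfn_comp, ← Obs28.pfn_comp, lift_fst, lift_whiskerLeft_assoc, ← Hom.mul_def]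
      exact ⟨rfl, rfl⟩
    constructor
    · intro hab h
      refine Obs28.ext_pts fun g => ?_
      have hab' : GrpSchLib.Kunneth.ev ((G ◁ i) ≫ μ[G]) a * GrpSchLib.Kunneth.ev (fst G H) b =
          GrpSchLib.Kunneth.ev (fst G H) a * GrpSchLib.Kunneth.ev ((G ◁ i) ≫ μ[G]) b := hab
      have := congrArg (Obs28.pfn (lift g h)) hab'
      simpa only [map_mul, (e g h a).1, (e g h a).2, (e g h b).1, (e g h b).2] using this
    · intro hab
      show GrpSchLib.Kunneth.ev ((G ◁ i) ≫ μ[G]) a * GrpSchLib.Kunneth.ev (fst G H) b =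
          GrpSchLib.Kunneth.ev (fst G H) a * GrpSchLib.Kunneth.ev ((G ◁ i) ≫ μ[G]) b
      refine Obs28.ext_pts fun w => ?_
      rw [← lift_comp_fst_snd w]
      simp only [map_mul, (e _ _ a).1, (e _ _ a).2, (e _ _ b).1, (e _ _ b).2]
      simpa only [map_mul] using congrArg (Obs28.pfn (w ≫ fst G H)) (hab (w ≫ snd G H))
  constructor
  · intro hobs a b hb hab
    obtain ⟨a', b', ha', hb', hb0, e⟩ := Obs28.exists_inv_quotient i hobs hb ((hpts a b).mp hab)
    exact ⟨a', b', (Obs28.inv'_iff i a').mpr ha', (Obs28.inv'_iff i b').mpr hb', hb0, e⟩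
  · intro hq
    refine Obs28.observable_of_quotient i fun a b hb hab => ?_
    obtain ⟨a', b', ha', hb', hb0, e⟩ := hq a b hb ((hpts a b).mpr hab)
    exact ⟨a', b', (Obs28.inv'_iff i a').mp ha', (Obs28.inv'_iff i b').mp hb', hb0, e⟩

end Groth.Agent.S11219
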