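import Groth.Statements.S11220
import Groth.Agent.Obs28.Criterion

set_option autoImplicit false
set_option linter.style.haveILetI false
universe u
open CategoryTheory MonoidalCategory CartesianMonoidalCategory MonObj GrpObj AlgebraicGeometry
open scoped TensorProduct
open AGF

namespace Groth.Agent.S11220

/-- Let k be an algebraically closed field, G a linear algebraic group over k (an affine smooth group
scheme over k) and H a closed subgroup of G (a smooth closed subgroup scheme, i : H → G). Then H is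
observable in G if and only if, for every character χ of H which occurs on a nonzero
H-semi-invariant vector of some finite-dimensional rational G-module (h·v = χ(h)v), the inverse
character χ⁻¹ also occurs on a nonzero H-semi-invariant vector of some finite-dimensional rational
G-module (every one-dimensional H-module found inside a finite-dimensional G-module has its dual
inside one too). -/
theorem result (k : Type u) [Field k] [IsAlgClosed k]
    (G : Over (Spec (CommRingCat.of k))) [GrpObj G] [IsAffine G.left] [Smooth G.hom]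
    (H : Over (Spec (CommRingCat.of k))) [GrpObj H] [Smooth H.hom] (i : H ⟶ G) [IsMonHom i]
    [IsClosedImmersion i.left] :
    AGF.IsObservableIn k i ↔
      ∀ (χ : H ⟶ Red.Gm (Spec (CommRingCat.of k))), IsMonHom χ →
        (∃ (V : Type u) (_ : AddCommGroup V) (_ : Module k V) (_ : Module.Finite k V) (ρ : VecGrp.GMod G V) (v : V), v ≠ 0 ∧
          ∀ (B : Type u) [CommRing B] [Algebra k B] (h : VecGrp.pt k B ⟶ H),
            ρ.ρ B (h ≫ i) ((1 : B) ⊗ₜ[k] v) = VecGrp.chiVal χ h • ((1 : B) ⊗ₜ[k] v)) →
        (∃ (V : Type u) (_ : AddCommGroup V) (_ : Module k V) (_ : Module.Finite k V) (ρ : VecGrp.GMod G V) (v : V), v ≠ 0 ∧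
          ∀ (B : Type u) [CommRing B] [Algebra k B] (h : VecGrp.pt k B ⟶ H),
            ρ.ρ B (h ≫ i) ((1 : B) ⊗ₜ[k] v) = VecGrp.chiVal χ⁻¹ h • ((1 : B) ⊗ₜ[k] v)) := by
  haveI := Obs28.isAffine_of_closed i
  open Obs28 GrpSchLib.Kunneth in
  constructor
  · rintro hobs χ hχ ⟨V, iV, iM, iF, ρ, v, hv, hev⟩
    obtain ⟨W, iW, iMW, iFW, π, hπ, w, hw, hwe⟩ := eigen_inv_of_observable i hobs (cv χ) (cv_ne_zero χ)
      (rep_isRegular ρ) hv ((eigen_gmod_iff i ρ v χ).mp hev)
    refine ⟨W, iW, iMW, iFW, ofRat hπ, w, hw, (eigen_gmod_iff i (ofRat hπ) w χ⁻¹).mpr fun h => ?_⟩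
    rw [rep_ofRat, cv_inv, hwe]
  · intro hyp
    refine observable_of_chars i fun χ hχ V _ _ _ π hπ v hv hev => ?_
    obtain ⟨W, iW, iMW, iFW, ρ, w, hw, hwe⟩ := hyp χ hχ ⟨V, inferInstance, inferInstance, inferInstance, ofRat hπ, v, hv,
      (eigen_gmod_iff i (ofRat hπ) v χ).mpr (by rw [rep_ofRat]; exact hev)⟩
    refine ⟨W, iW, iMW, rep ρ, rep_isRegular ρ, w, hw, fun h => ?_⟩
    rw [(eigen_gmod_iff i ρ w χ⁻¹).mp hwe h, cv_inv]

end Groth.Agent.S11220
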