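import Groth.Statements.S11222
import Groth.Agent.Obs28.Transfer
import Groth.Agent.Obs28.Restrict
import Groth.Agent.Obs28.Comp
import Groth.Agent.Obs28.Reg
import Groth.Agent.Obs28.Res
import Groth.Agent.S11212

set_option autoImplicit false
set_option linter.style.haveILetI false
universe u
open CategoryTheory MonoidalCategory CartesianMonoidalCategory MonObj GrpObj AlgebraicGeometry
open scoped TensorProduct
open AGF

namespace Groth.Agent.S11222

/-- Let k be an algebraically closed field, L a linear algebraic group over k, G a closed subgroup of L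
whose identity component is reductive, H a closed subgroup of G which is observable in G with k[G]^H
finitely generated over the constants (a Grosshans subgroup of G), and G₁ a closed subgroup of L,
observable in L, containing H (i₁ : H → G₁ compatible with the inclusions into L). Assume the
following standard results of geometric invariant theory for groups with reductive identity
component, carried as hypotheses: finite generation of invariants on finitely generated algebras,
and that the quotient map of an affine variety by such a group separates disjoint closed invariant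
subsets. Then H is observable in G₁ and k[G₁]^H is finitely generated over the constants (H is a
Grosshans subgroup of G₁). -/
theorem result (k : Type u) [Field k] [IsAlgClosed k]
    (L : Over (Spec (CommRingCat.of k))) [GrpObj L] [IsAffine L.left] [Smooth L.hom]
    (G : Over (Spec (CommRingCat.of k))) [GrpObj G] [Smooth G.hom] (jG : G ⟶ L) [IsMonHom jG] [IsClosedImmersion jG.left]
    (hG : VecGrp.IsReductiveGrp k G)
    (H : Over (Spec (CommRingCat.of k))) [GrpObj H] [Smooth H.hom] (i : H ⟶ G) [IsMonHom i]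
    [IsClosedImmersion i.left]
    (hH : AGF.IsObservableIn k i) (hfg : AGF.SubringFGOver k G (AGF.rTransInv i))
    (G₁ : Over (Spec (CommRingCat.of k))) [GrpObj G₁] [Smooth G₁.hom] (j₁ : G₁ ⟶ L) [IsMonHom j₁] [IsClosedImmersion j₁.left]
    (hG₁ : AGF.IsObservableIn k j₁) (i₁ : H ⟶ G₁) [IsMonHom i₁] (hc : i₁ ≫ j₁ = i ≫ jG)
    (thmA : VecGrp.ReductiveInvariantsFG k) (thmAbiv : AGF.ReductiveQuotSeparates k) :
    AGF.IsObservableIn k i₁ ∧ AGF.SubringFGOver k G₁ (AGF.rTransInv i₁) := by
  classical
  haveI : IsAffine G.left := Obs28.isAffine_of_closed jG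
  haveI : IsAffine H.left := Obs28.isAffine_of_closed i
  haveI : IsAffine G₁.left := Obs28.isAffine_of_closed j₁
  haveI : IsClosedImmersion (i ≫ jG).left := inferInstanceAs (IsClosedImmersion (i.left ≫ jG.left))
  haveI : IsClosedImmersion i₁.left := by
    haveI : IsClosedImmersion (i₁.left ≫ j₁.left) := by rw [← Over.comp_left, hc]; infer_instance
    exact IsClosedImmersion.of_comp i₁.left j₁.left
  haveI : Mono j₁.left := inferInstance
  haveI : Mono j₁ := Over.mono_of_mono_left j₁
  have hGL : AGF.IsObservableIn k jG := S11212.result k L G jG hG thmA thmAbiv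
  have hHL : AGF.IsObservableIn k (i₁ ≫ j₁) := hc ▸ Obs28.observable_comp i jG hH hGL
  haveI := Obs28.finiteType_fn L
  haveI := Obs28.isReduced_grp G₁
  let ρ := Obs28.res (Obs28.regR L) jG
  have hρ : ρ.IsMult := Obs28.res_isMult Obs28.regR_isMult jG
  obtain ⟨s, hs⟩ := (Subalgebra.fg_iff_finiteType _).mpr
    (Obs28.finiteType_of_transfer i hG thmA (Obs28.fg_invAlg i hfg) ρ hρ)
  have hmem : ∀ f, f ∈ ρ.fixedSubalgebra hρ i ↔ Obs28.Inv' (i₁ ≫ j₁) f := fun f => by
    refine (Obs28.mem_fixedUnder_iff ρ i f).trans (forall_congr' fun h => ?_)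
    show Obs28.rep (Obs28.res (Obs28.regR L) jG) (h ≫ i) f = f ↔ Obs28.rMap (h ≫ i₁ ≫ j₁) f = f
    rw [hc, show Obs28.rep (Obs28.res (Obs28.regR L) jG) (h ≫ i) f = Obs28.rep (Obs28.regR L) ((h ≫ i) ≫ jG) f from rfl,
      Obs28.rep_regR, Category.assoc]
  refine ⟨Obs28.observable_left i₁ j₁ hHL, ?_⟩
  let r : GrpSchLib.Kunneth.Fn L →ₐ[k] GrpSchLib.Kunneth.Fn G₁ := GrpSchLib.Kunneth.ev j₁
  refine ⟨s.image r, fun x hx => ?_, fun f hf => ?_⟩
  · obtain ⟨y, hy, rfl⟩ := Finset.mem_image.mp (Finset.mem_coe.mp hx)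
    refine (Obs28.inv'_iff i₁ _).mpr fun t => Obs28.ext_pts fun z => ?_
    have h1 := (hmem y).mp (hs ▸ Algebra.subset_adjoin hy)
    show Obs28.pfn z (Obs28.rMap (t ≫ i₁) (GrpSchLib.Kunneth.ev j₁ y)) = Obs28.pfn z (GrpSchLib.Kunneth.ev j₁ y)
    rw [Obs28.pfn_rMap', ← Obs28.pfn_comp, ← Obs28.pfn_comp, MonObj.mul_comp, Category.assoc,
      ← Obs28.pfn_rMap', h1 t]
  · obtain ⟨F, hF, rfl⟩ := Obs28.exists_extension_invariant j₁ i₁ hG₁ ((Obs28.inv'_iff i₁ f).mp hf)
    have h2 : F ∈ Algebra.adjoin k (s : Set (GrpSchLib.Kunneth.Fn L)) := hs.symm ▸ (hmem F).mpr hF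
    have h3 : r F ∈ (Algebra.adjoin k (s : Set (GrpSchLib.Kunneth.Fn L))).map r := ⟨F, h2, rfl⟩
    rw [AlgHom.map_adjoin, ← Finset.coe_image, ← Subalgebra.mem_toSubring, Algebra.adjoin_eq_ring_closure] at h3
    exact h3

end Groth.Agent.S11222
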