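import Groth.Statements.S11229
import Groth.Agent.Obs28.Radical
import Groth.Agent.Obs28.Reg

set_option autoImplicit false
set_option linter.style.haveILetI false
universe u
open CategoryTheory MonoidalCategory CartesianMonoidalCategory MonObj GrpObj AlgebraicGeometry
open scoped TensorProduct
open AGF

namespace Groth.Agent.S11229

/-- Let k an algebraically closed field, G a connected reductive linear algebraic group over k, B a
Borel subgroup of G with unipotent radical U (a maximal unipotent subgroup), and let A be a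
commutative k-algebra with a rational action of G by algebra automorphisms. Then A has a nonzero
nilpotent element if and only if A^U does; equivalently A is reduced if and only if A^U is reduced. -/
theorem result (k : Type u) [Field k] [IsAlgClosed k]
    (G : Over (Spec (CommRingCat.of k))) [GrpObj G] (hG : Red.IsReductiveOver k G)
    (Bo : Over (Spec (CommRingCat.of k))) [GrpObj Bo] (iB : Bo ⟶ G) (hB : Red.IsBorelOver k iB)
    (U : Over (Spec (CommRingCat.of k))) [GrpObj U] (u : U ⟶ Bo) (hU : Par.IsUnipotentRadical u)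
    (A : Type u) [CommRing A] [Algebra k A] (ρ : VecGrp.GMod G A) (hρ : ρ.IsMult) :
    IsReduced A ↔ IsReduced ↥(ρ.fixedSubalgebra hρ (u ≫ iB)) := by
  obtain ⟨hu, huc, hus, hconn, hno⟩ := Obs28.unipRad_facts hU
  obtain ⟨hGa, hGs, -, -⟩ := hG
  obtain ⟨hiB, hiBc, -⟩ := hB
  haveI := hu; haveI := huc; haveI := hus; haveI := hconn; haveI := hiB; haveI := hiBc; haveI := hGa; haveI := hGs
  haveI : IsAffine Bo.left := Obs28.isAffine_of_closed iB
  haveI : IsAffine U.left := Obs28.isAffine_of_closed u
  constructor
  · intro h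
    exact isReduced_of_injective (ρ.fixedSubalgebra hρ (u ≫ iB)).val Subtype.val_injective
  · intro h
    by_contra hA
    set π := Obs28.rep ρ
    have hpow : ∀ g a (n : ℕ), π g (a ^ n) = π g a ^ n := fun g a n => by
      induction n with
      | zero => simpa using Obs28.rep_one ρ hρ g
      | succ n ih => rw [pow_succ, pow_succ, Obs28.rep_mul ρ hρ, ih]
    have hst : ∀ t : Obs28.Rat U, ∀ x ∈ (nilradical A).restrictScalars k,
        π (t ≫ u ≫ iB) x ∈ (nilradical A).restrictScalars k := fun t x ⟨n, hn⟩ =>
      ⟨n, by rw [← hpow, show x ^ n = 0 from hn, map_zero]; rfl⟩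
    have hne : (nilradical A).restrictScalars k ≠ ⊥ := fun e => hA ⟨fun x hx => by
      have hx' : x ∈ (nilradical A).restrictScalars k := hx
      rwa [e, Submodule.mem_bot] at hx'⟩
    obtain ⟨x, ⟨n, hn⟩, hx0, hfix⟩ :=
      Obs28.exists_fixed_in hno (Obs28.rep_isRegular ρ) (u ≫ iB) hst hne
    have hmem : x ∈ ρ.fixedSubalgebra hρ (u ≫ iB) :=
      (Obs28.mem_fixedUnder_iff ρ (u ≫ iB) x).mpr hfix
    have hnil : IsNilpotent (⟨x, hmem⟩ : ↥(ρ.fixedSubalgebra hρ (u ≫ iB))) :=
      ⟨n, Subtype.ext (show x ^ n = 0 from hn)⟩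
    exact hx0 (congrArg Subtype.val hnil.eq_zero)

end Groth.Agent.S11229
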