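import Groth.Statements.S11230
import Groth.Agent.Obs28.Radical
import Groth.Agent.Obs28.Reg
import Groth.Agent.Obs28.Primes

set_option autoImplicit false
set_option linter.style.haveILetI false
universe u
open CategoryTheory MonoidalCategory CartesianMonoidalCategory MonObj GrpObj AlgebraicGeometry
open scoped TensorProduct
open AGF

namespace Groth.Agent.S11230

/-- Let k an algebraically closed field, G a connected reductive linear algebraic group over k, B a
Borel subgroup of G with unipotent radical U (a maximal unipotent subgroup), and let A be a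
commutative k-algebra with a rational action of G by algebra automorphisms. Then A has zero divisors
(two nonzero elements with product zero) if and only if the algebra of invariants A^U does. -/
theorem result (k : Type u) [Field k] [IsAlgClosed k]
    (G : Over (Spec (CommRingCat.of k))) [GrpObj G] (hG : Red.IsReductiveOver k G)
    (Bo : Over (Spec (CommRingCat.of k))) [GrpObj Bo] (iB : Bo ⟶ G) (hB : Red.IsBorelOver k iB)
    (U : Over (Spec (CommRingCat.of k))) [GrpObj U] (u : U ⟶ Bo) (hU : Par.IsUnipotentRadical u)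
    (A : Type u) [CommRing A] [Algebra k A] (ρ : VecGrp.GMod G A) (hρ : ρ.IsMult) :
    (∃ a b : A, a ≠ 0 ∧ b ≠ 0 ∧ a * b = 0) ↔
      ∃ a b : ↥(ρ.fixedSubalgebra hρ (u ≫ iB)), a ≠ 0 ∧ b ≠ 0 ∧ a * b = 0 := by
  obtain ⟨hu, huc, hus, hconn, hno⟩ := Obs28.unipRad_facts hU
  obtain ⟨hGa, hGs, hGc, -⟩ := hG
  obtain ⟨hiB, hiBc, -⟩ := hB
  haveI := hu; haveI := huc; haveI := hus; haveI := hconn; haveI := hiB; haveI := hiBc; haveI := hGa; haveI := hGs
  haveI := hGc
  haveI : IsAffine Bo.left := Obs28.isAffine_of_closed iB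
  haveI : IsAffine U.left := Obs28.isAffine_of_closed u
  constructor
  · rintro ⟨a, b, ha, hb, hab⟩
    set π := Obs28.rep ρ
    have fixed : ∀ W : Submodule k A, W ≠ ⊥ → (∀ g, ∀ x ∈ W, π g x ∈ W) →
        ∃ x : ↥(ρ.fixedSubalgebra hρ (u ≫ iB)), (x : A) ∈ W ∧ x ≠ 0 := fun W hW hst => by
      obtain ⟨x, hxW, hx0, hfix⟩ := Obs28.exists_fixed_in hno (Obs28.rep_isRegular ρ) (u ≫ iB)
        (fun t => hst _) hW
      exact ⟨⟨x, (Obs28.mem_fixedUnder_iff ρ (u ≫ iB) x).mpr hfix⟩, hxW, fun e => hx0 (congrArg Subtype.val e)⟩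
    have span : ∀ c : A, c ≠ 0 → ∃ x : ↥(ρ.fixedSubalgebra hρ (u ≫ iB)),
        (x : A) ∈ Obs28.orbitSpan π {c} ∧ x ≠ 0 := fun c hc => by
      refine fixed _ (fun e => hc ?_) (Obs28.orbitSpan_stable π _)
      exact (Submodule.mem_bot k).mp (e ▸ Obs28.subset_orbitSpan π {c} (Set.mem_singleton c))
    by_cases hA : _root_.IsReduced A
    · obtain ⟨x, hx, hx0⟩ := span a ha
      obtain ⟨y, hy, hy0⟩ := span b hb
      refine ⟨x, y, hx0, hy0, Subtype.ext ?_⟩
      have h1 : ∀ g g', π g a * π g' b = 0 := Obs28.mul_rep_eq_zero hρ hab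
      have h2 : ∀ g, ∀ z ∈ Obs28.orbitSpan π {a}, z * π g b = 0 := fun g z hz => by
        induction hz using Submodule.span_induction with
        | mem w hw => obtain ⟨g₁, c, hc, rfl⟩ := hw; rw [Set.mem_singleton_iff.mp hc]; exact h1 g₁ g
        | zero => rw [MulZeroClass.zero_mul]
        | add p q _ _ hp hq => rw [add_mul, hp, hq, add_zero]
        | smul c p _ hp => rw [smul_mul_assoc, hp, smul_zero]
      show (x : A) * (y : A) = 0
      revert hy
      generalize (y : A) = z
      intro hy
      induction hy using Submodule.span_induction with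
      | mem w hw => obtain ⟨g₁, c, hc, rfl⟩ := hw; rw [Set.mem_singleton_iff.mp hc]; exact h2 g₁ _ hx
      | zero => rw [MulZeroClass.mul_zero]
      | add p q _ _ hp hq => rw [mul_add, hp, hq, add_zero]
      | smul c p _ hp => rw [mul_smul_comm, hp, smul_zero]
    · have hne : (nilradical A).restrictScalars k ≠ ⊥ := fun e => hA ⟨fun x hx => by
        have hx' : x ∈ (nilradical A).restrictScalars k := hx
        rwa [e, Submodule.mem_bot] at hx'⟩
      obtain ⟨x, ⟨n, hn⟩, hx0⟩ := fixed _ hne fun g z ⟨n, hn⟩ => ⟨n, by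
        have hpow : ∀ n : ℕ, π g (z ^ n) = π g z ^ n := fun n => by
          induction n with
          | zero => simpa using Obs28.rep_one ρ hρ g
          | succ n ih => rw [pow_succ, pow_succ, Obs28.rep_mul ρ hρ, ih]
        rw [← hpow, show z ^ n = 0 from hn, map_zero]; rfl⟩
      have hn' : x ^ n = 0 := Subtype.ext (show (x : A) ^ n = 0 from hn)
      classical
      have hm := Nat.find_spec (⟨n, hn'⟩ : ∃ m, x ^ m = 0)
      set m := Nat.find (⟨n, hn'⟩ : ∃ m, x ^ m = 0) with hmdef
      rcases Nat.eq_zero_or_pos m with h0 | hpos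
      · rw [h0, pow_zero] at hm
        exact absurd (by simpa using congrArg (fun t => x * t) hm) hx0
      · refine ⟨x, x ^ (m - 1), hx0, Nat.find_min (⟨n, hn'⟩ : ∃ m, x ^ m = 0) (by omega), ?_⟩
        rw [← pow_succ', Nat.sub_add_cancel hpos, hm]
  · rintro ⟨a, b, ha, hb, hab⟩
    exact ⟨a, b, fun e => ha (Subtype.ext e), fun e => hb (Subtype.ext e), congrArg Subtype.val hab⟩

end Groth.Agent.S11230
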