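import Groth.Statements.S11231
import Mathlib

set_option autoImplicit false
set_option linter.style.haveILetI false
universe u
open CategoryTheory MonoidalCategory CartesianMonoidalCategory MonObj GrpObj AlgebraicGeometry
open scoped TensorProduct
open AGF

namespace Groth.Agent.S11231

/-- Let k an algebraically closed field, G a connected reductive linear algebraic group over k, B a
Borel subgroup of G with unipotent radical U (a maximal unipotent subgroup), and let A be a
commutative k-algebra with a rational action of G by algebra automorphisms. If A is an integrally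
closed domain then so is A^U. (The published statement is for A normal; its proof reduces to the
case of a domain, which is the case stated here.) -/
theorem result (k : Type u) [Field k] [IsAlgClosed k]
    (G : Over (Spec (CommRingCat.of k))) [GrpObj G] (hG : Red.IsReductiveOver k G)
    (Bo : Over (Spec (CommRingCat.of k))) [GrpObj Bo] (iB : Bo ⟶ G) (hB : Red.IsBorelOver k iB)
    (U : Over (Spec (CommRingCat.of k))) [GrpObj U] (u : U ⟶ Bo) (hU : Par.IsUnipotentRadical u)
    (A : Type u) [CommRing A] [IsDomain A] [Algebra k A] [IsIntegrallyClosed A]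
    (ρ : VecGrp.GMod G A) (hρ : ρ.IsMult) :
    IsIntegrallyClosed ↥(ρ.fixedSubalgebra hρ (u ≫ iB)) := by
  obtain ⟨hGa, hGs, -, -⟩ := hG
  haveI := hGa; haveI := hGs
  set B := ρ.fixedSubalgebra hρ (u ≫ iB)
  have sat : ∀ a b : B, b ≠ 0 → ∀ c : A, (a : A) = b * c → c ∈ B := fun a b hb c e R _ _ h => by
    have ha := a.2 R h
    have hb' := b.2 R h
    have he : ((1 : R) ⊗ₜ[k] (a : A) : VecGrp.W k A R) = ((1 : R) ⊗ₜ[k] (b : A)) * ((1 : R) ⊗ₜ[k] c) := by
      rw [Algebra.TensorProduct.tmul_mul_tmul, _root_.one_mul, e]
    rw [he, (hρ R _).1, hb'] at ha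
    have hz : ((1 : R) ⊗ₜ[k] (b : A)) * (ρ.ρ R (h ≫ u ≫ iB) ((1 : R) ⊗ₜ[k] c) - (1 : R) ⊗ₜ[k] c) = 0 := by
      rw [mul_sub, ha, sub_self]
    have hinj : Function.Injective (LinearMap.lTensor R (LinearMap.mulLeft k (b : A))) :=
      Module.Flat.lTensor_preserves_injective_linearMap _
        (mul_right_injective₀ (fun h0 => hb (Subtype.ext h0)))
    have hl : ∀ z : R ⊗[k] A, LinearMap.lTensor R (LinearMap.mulLeft k (b : A)) z = ((1 : R) ⊗ₜ[k] (b : A)) * z := by
      intro z
      induction z using TensorProduct.induction_on with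
      | zero => simp
      | tmul r m => simp [Algebra.TensorProduct.tmul_mul_tmul]
      | add p q hp hq => simp only [map_add, mul_add, hp, hq]
    exact sub_eq_zero.mp (hinj (by rw [hl, hz, map_zero]))
  refine (isIntegrallyClosed_iff (FractionRing B)).mpr fun {x} hx => ?_
  have hinj : Function.Injective (B.val : B →+* A) := Subtype.val_injective
  let φ : FractionRing B →+* FractionRing A := IsFractionRing.map hinj
  obtain ⟨p, hp, hpx⟩ := hx
  have hc : φ.comp (algebraMap B (FractionRing B)) = (algebraMap A (FractionRing A)).comp (B.val : B →+* A) :=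
    IsLocalization.map_comp _
  have hint : IsIntegral A (φ x) := by
    refine ⟨p.map (B.val : B →+* A), hp.map _, ?_⟩
    rw [Polynomial.eval₂_map, ← hc, ← Polynomial.hom_eval₂, hpx, map_zero]
  obtain ⟨c, hc'⟩ := IsIntegrallyClosed.isIntegral_iff.mp hint
  obtain ⟨a, b, hb, rfl⟩ := IsFractionRing.div_surjective (A := B) x
  have hb0 : b ≠ 0 := nonZeroDivisors.ne_zero hb
  have e := fun y => RingHom.congr_fun hc y
  simp only [RingHom.comp_apply] at e
  rw [map_div₀, e, e, eq_div_iff ((map_ne_zero_iff _ (IsFractionRing.injective A (FractionRing A))).mpr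
    ((map_ne_zero_iff _ hinj).mpr hb0)), ← map_mul] at hc'
  have hab : (a : A) = b * c := by
    rw [_root_.mul_comm]; exact (IsFractionRing.injective A (FractionRing A) hc').symm
  refine ⟨⟨c, sat a b hb0 c hab⟩, ?_⟩
  rw [eq_div_iff ((map_ne_zero_iff _ (IsFractionRing.injective B (FractionRing B))).mpr hb0), ← map_mul]
  congr 1
  exact Subtype.ext (by rw [hab]; exact _root_.mul_comm c b)

end Groth.Agent.S11231
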