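import Groth.Statements.S11232
import Groth.Agent.Obs28.Char
import Groth.Agent.Obs28.Reg
import Groth.Agent.Obs28.Primes

set_option autoImplicit false
set_option linter.style.haveILetI false
universe u
open CategoryTheory MonoidalCategory CartesianMonoidalCategory MonObj GrpObj AlgebraicGeometry
open scoped TensorProduct
open AGF

namespace Groth.Agent.S11232

/-- Let k be an algebraically closed field, G a connected linear algebraic group over k (affine, smooth,
connected) admitting no nontrivial character (every homomorphism to the multiplicative group is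
trivial), and A a commutative k-algebra which is a unique factorization domain whose group of units
consists of the nonzero scalars, carrying a rational action of G by algebra automorphisms. Then the
algebra of invariants A^G is a unique factorization domain. -/
theorem result (k : Type u) [Field k] [IsAlgClosed k]
    (G : Over (Spec (CommRingCat.of k))) [GrpObj G] [IsAffine G.left] [Smooth G.hom] [ConnectedSpace G.left]
    (hχ : ∀ χ : G ⟶ Red.Gm (Spec (CommRingCat.of k)), IsMonHom χ → χ = 1)
    (A : Type u) [CommRing A] [IsDomain A] [Algebra k A] [UniqueFactorizationMonoid A]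
    (hunits : ∀ x : Aˣ, (x : A) ∈ Set.range (algebraMap k A))
    (ρ : VecGrp.GMod G A) (hρ : ρ.IsMult) :
    UniqueFactorizationMonoid ↥(ρ.fixedSubalgebra hρ (𝟙 G)) := by
  classical
  haveI := Obs28.isReduced_grp G
  set π := Obs28.rep ρ with hπ
  set S := ρ.fixedSubalgebra hρ (𝟙 G)
  have hfix : ∀ {x : A}, x ∈ S ↔ ∀ g, π g x = x := fun {x} =>
    (Obs28.mem_fixedUnder_iff ρ (𝟙 G) x).trans (by simp [hπ])
  -- a prime factor of a fixed element is fixed
  have prime_fixed : ∀ f : A, f ∈ S → f ≠ 0 → ∀ q : A, Prime q → q ∣ f → q ∈ S := fun f hf hf0 q hq hqf => by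
    haveI : (Ideal.span {q}).IsPrime := (Ideal.span_singleton_prime hq.ne_zero).mpr hq
    obtain ⟨P, hP, hle, hmem⟩ := Obs28.exists_prime_core hρ (Ideal.span {q})
    haveI := hP
    have hfP : f ∈ P := (hmem f).mpr fun g => by
      show π g f ∈ _
      rw [hfix.mp hf g, Ideal.mem_span_singleton]; exact hqf
    obtain ⟨r, hrP, hr⟩ := Ideal.IsPrime.exists_mem_prime_of_ne_bot hP
      (fun e => hf0 (by simpa [e] using hfP))
    have hqr : Associated q r := hq.associated_of_dvd hr (Ideal.mem_span_singleton.mp (hle hrP))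
    have hqP : q ∈ P := by
      obtain ⟨u, hu⟩ := hqr.symm
      rw [← hu]; exact P.mul_mem_right _ hrP
    have hl : ∀ h : Obs28.Rat G, ∃ c : k, π (h ≫ 𝟙 G) q = c • q := fun h => by
      rw [Category.comp_id]
      obtain ⟨c, hc⟩ := Ideal.mem_span_singleton.mp ((hmem q).mp hqP h)
      obtain ⟨d, hd⟩ := Ideal.mem_span_singleton.mp ((hmem q).mp hqP h⁻¹)
      have hcu : IsUnit c := by
        refine IsUnit.of_mul_eq_one (b := π h d) (mul_left_cancel₀ hq.ne_zero ?_)
        rw [_root_.mul_one, ← _root_.mul_assoc, ← hc, ← Obs28.rep_mul ρ hρ, ← hd, ← LinearEquiv.mul_apply,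
          ← map_mul, mul_inv_cancel, map_one]
        rfl
      obtain ⟨z, hz⟩ := hunits hcu.unit
      exact ⟨z, by rw [hc, Algebra.smul_def, hz, IsUnit.unit_spec, _root_.mul_comm]⟩
    obtain ⟨χ, hχm, hχq⟩ := Obs28.exists_char_of_line (𝟙 G) (Obs28.rep_isRegular ρ) hq.ne_zero hl
    refine hfix.mpr fun g => ?_
    have := hχq g
    rwa [Category.comp_id, hχ χ hχm, Obs28.cv_one', one_smul] at this
  have sat : ∀ a b : S, ∀ c : A, b ≠ 0 → (a : A) = b * c → c ∈ S := fun a b c hb e => hfix.mpr fun g => by
    refine mul_left_cancel₀ (fun h0 => hb (Subtype.ext h0)) ?_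
    rw [← e]
    conv_rhs => rw [← hfix.mp a.2 g, e, Obs28.rep_mul ρ hρ]
    rw [hfix.mp b.2 g]
  have dvd : ∀ a b : S, b ≠ 0 → (b : A) ∣ a → b ∣ a := fun a b hb ⟨c, hc⟩ =>
    ⟨⟨c, sat a b c hb hc⟩, Subtype.ext hc⟩
  have hprime : ∀ q : S, Prime (q : A) → Prime q := fun q hq => by
    refine ⟨fun e => hq.ne_zero (congrArg Subtype.val e), fun hu => hq.not_isUnit (hu.map S.val), fun a b h => ?_⟩
    have hq0 : q ≠ 0 := fun e => hq.ne_zero (congrArg Subtype.val e)
    exact (hq.dvd_or_dvd (map_dvd S.val h)).imp (dvd a q hq0) (dvd b q hq0)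
  refine UniqueFactorizationMonoid.of_exists_prime_factors fun a ha => ?_
  have ha' : (a : A) ≠ 0 := fun e => ha (Subtype.ext e)
  obtain ⟨F, hF, hFa⟩ := UniqueFactorizationMonoid.exists_prime_factors (a : A) ha'
  let m : Multiset S := F.attach.map fun q =>
    ⟨q.1, prime_fixed a a.2 ha' q.1 (hF q.1 q.2) ((Multiset.dvd_prod q.2).trans hFa.dvd)⟩
  have hval : (m.prod : A) = F.prod := by
    show S.val m.prod = _
    rw [map_multiset_prod, Multiset.map_map]
    conv_rhs => rw [← F.attach_map_val]
    rfl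
  refine ⟨m, fun q hq => hprime q ?_, ?_⟩
  · obtain ⟨q', -, rfl⟩ := Multiset.mem_map.mp hq
    exact hF q'.1 q'.2
  · have h0 : m.prod ≠ 0 := fun e => by
      have := hval
      rw [e] at this
      exact ha' ((associated_zero_iff_eq_zero _).mp (this.symm ▸ hFa).symm)
    exact associated_of_dvd_dvd (dvd _ _ h0 (hval ▸ hFa.dvd)) (dvd _ _ ha (hval ▸ hFa.symm.dvd))

end Groth.Agent.S11232
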