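import Groth.Statements.S11234
import Groth.Agent.Obs28.GL
import Groth.Agent.Obs28.Hull
import Groth.Agent.Obs28.Reg
import Groth.Agent.Obs28.Ops

set_option autoImplicit false
set_option linter.style.haveILetI false
universe u
open CategoryTheory MonoidalCategory CartesianMonoidalCategory MonObj GrpObj AlgebraicGeometry
open scoped TensorProduct
open AGF

namespace Groth.Agent.S11234

/-- Let k be an algebraically closed field, G a linear algebraic group over k (affine, smooth) and H a
smooth closed subgroup of G. The following are equivalent: (b) every global function on G invariant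
under right translation by H is a constant; (c) for every rational G-module E, the H-invariants of E
coincide with the G-invariants; (e) two homomorphisms from G to a linear algebraic group which agree
on H are equal. (The published list also contains the statement that H is epimorphic in the sense of
its hull under the stabilizer correspondence, and the statement that complementary H-stable
subspaces of a rational G-module are G-stable; this row states the other three.) -/
theorem result (k : Type u) [Field k] [IsAlgClosed k]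
    (G : Over (Spec (CommRingCat.of k))) [GrpObj G] [IsAffine G.left] [Smooth G.hom]
    (H : Over (Spec (CommRingCat.of k))) [GrpObj H] [Smooth H.hom] (i : H ⟶ G) [IsMonHom i]
    [IsClosedImmersion i.left] :
    List.TFAE [
      ∀ f : Γ(G.left, ⊤), ((G ◁ i) ≫ μ[G]).left.appTop f = (fst G H).left.appTop f →
        ∃ c : k, f = G.hom.appTop ((Scheme.ΓSpecIso (CommRingCat.of k)).inv c),
      ∀ (E : Type u) [AddCommGroup E] [Module k E] (ρ : VecGrp.GMod G E),
        ρ.fixedUnder i = ρ.fixedUnder (𝟙 G),
      ∀ (G' : Over (Spec (CommRingCat.of k))) [GrpObj G'] [IsAffine G'.left] [Smooth G'.hom]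
        (r s : G ⟶ G') [IsMonHom r] [IsMonHom s], i ≫ r = i ≫ s → r = s] := by
  classical
  haveI := Obs28.isReduced_grp G
  haveI : IsAffine H.left := Obs28.isAffine_of_closed i
  tfae_have 1 → 2 := by
    intro hb E _ _ ρ
    refine le_antisymm (fun v hv => ?_) (fun v hv => ?_)
    · rw [Obs28.mem_fixedUnder_iff] at hv ⊢
      intro g
      refine sub_eq_zero.mp ((Module.forall_dual_apply_eq_zero_iff k _).mp fun φ => ?_)
      obtain ⟨c, hc⟩ := hb (Obs28.coeff (Obs28.rep_isRegular ρ) φ v)
        ((Obs28.inv'_iff i _).mpr (Obs28.inv'_coeff i (Obs28.rep_isRegular ρ) hv φ))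
      have hc' : Obs28.coeff (Obs28.rep_isRegular ρ) φ v = algebraMap k (GrpSchLib.Kunneth.Fn G) c := hc
      have e := fun x : Obs28.Rat G => Obs28.pfn_coeff (Obs28.rep_isRegular ρ) φ v x
      simp only [hc', AlgHom.commutes] at e
      rw [map_sub, Category.comp_id, sub_eq_zero, ← e, e 1, map_one]
      rfl
    · rw [Obs28.mem_fixedUnder_iff] at hv ⊢
      intro h
      simpa using hv (h ≫ i)
  tfae_have 2 → 1 := by
    intro hc f hf
    refine ⟨Obs28.pfn (1 : Obs28.Rat G) f, ?_⟩
    have hf' : f ∈ (Obs28.regR G).fixedUnder (𝟙 G) := by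
      rw [← hc _ (Obs28.regR G)]
      exact (Obs28.rTransInv_eq_fixedUnder i f).mp hf
    rw [Obs28.mem_fixedUnder_iff] at hf'
    show f = algebraMap k (GrpSchLib.Kunneth.Fn G) _
    refine Obs28.ext_pts fun x => ?_
    have := hf' x
    rw [Category.comp_id, Obs28.rep_regR] at this
    rw [AlgHom.commutes, Algebra.algebraMap_self_apply]
    conv_rhs => rw [← this]
    rw [Obs28.pfn_rMap', _root_.one_mul]
  tfae_have 1 → 3 := by
    intro hb G' _ _ _ r s _ _ hrs
    refine Obs28.Unip.hom_ext_rat fun g => ?_
    suffices h : g ≫ r * (g ≫ s)⁻¹ = 1 from mul_inv_eq_one.mp h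
    refine Obs28.pfn_injective (AlgHom.ext fun a => ?_)
    let f : GrpSchLib.Kunneth.Fn G := GrpSchLib.Kunneth.ev (r * s⁻¹) a
    have hval : ∀ x : Obs28.Rat G, Obs28.pfn x f = Obs28.pfn (x ≫ r * (x ≫ s)⁻¹) a := fun x => by
      rw [← Obs28.pfn_comp, MonObj.comp_mul, GrpObj.comp_inv]
    obtain ⟨c, hc⟩ := hb f ((Obs28.inv'_iff i f).mpr fun h => Obs28.ext_pts fun x => by
      rw [Obs28.pfn_rMap', hval, hval, MonObj.mul_comp, MonObj.mul_comp _ _ s, Category.assoc,
        Category.assoc, hrs]
      group)
    have hc' : f = algebraMap k (GrpSchLib.Kunneth.Fn G) c := hc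
    have h1 := hval 1
    rw [hc', AlgHom.commutes, MonObj.one_comp, MonObj.one_comp, inv_one, _root_.mul_one] at h1
    have h2 := hval g
    rw [hc', AlgHom.commutes, h1] at h2
    exact h2.symm
  tfae_have 3 → 2 := by
    intro he E _ _ ρ
    refine le_antisymm (fun v hv => ?_) (fun v hv => ?_)
    · rw [Obs28.mem_fixedUnder_iff] at hv ⊢
      intro g
      rw [Category.comp_id]
      set π := Obs28.rep ρ
      let W := Obs28.orbitSpan π {v}
      haveI : Module.Finite k W := Obs28.finite_orbitSpan (Obs28.rep_isRegular ρ) (Set.finite_singleton v)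
      let v' : W := ⟨v, Obs28.subset_orbitSpan π {v} (Set.mem_singleton v)⟩
      let π₁ := Obs28.Unip.prodPi (Obs28.subPi π W (Obs28.orbitSpan_stable π _)) (1 : Obs28.Rat G →* (k ≃ₗ[k] k))
      have hπ₁ : Obs28.IsRegular π₁ := Obs28.Unip.prodPi_regular (Obs28.subPi_regular _ _ _ (Obs28.rep_isRegular ρ))
        (fun m => ⟨1 ⊗ₜ[k] m, fun h => by simp⟩)
      let a : (W × k) ≃ₗ[k] (W × k) :=
        { toFun := fun x => (x.1 + x.2 • v', x.2)
          invFun := fun x => (x.1 - x.2 • v', x.2)
          map_add' := fun x y => by ext <;> simp [add_smul]; abel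
          map_smul' := fun c x => by ext <;> simp [smul_smul]
          left_inv := fun x => by simp
          right_inv := fun x => by simp }
      let π₂ : Obs28.Rat G →* ((W × k) ≃ₗ[k] (W × k)) :=
        MonoidHom.mk' (fun g => a.symm.trans ((π₁ g).trans a)) fun g g' => LinearEquiv.ext fun x => by
          simp
      have hπ₂ : Obs28.IsRegular π₂ := fun m => by
        obtain ⟨z, hz⟩ := hπ₁ (a.symm m)
        exact ⟨a.toLinearMap.lTensor _ z, fun h => by rw [Obs28.evl_lTensor, ← hz h]; rfl⟩
      have hsub : ∀ (t : k) (h : Obs28.Rat H), π₁ (h ≫ i) (t • v', 0) = (t • v', 0) := fun t h =>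
        Prod.ext (Subtype.ext (show π (h ≫ i) (t • v) = t • v by rw [map_smul, hv h])) rfl
      have hagree : ∀ h : Obs28.Rat H, π₁ (h ≫ i) = π₂ (h ≫ i) := fun h => LinearEquiv.ext fun x => by
        show π₁ (h ≫ i) x = a (π₁ (h ≫ i) (x.1 - x.2 • v', x.2))
        have hx : (x.1 - x.2 • v', x.2) = x - (x.2 • v', (0 : k)) := by ext <;> simp
        rw [hx, map_sub (π₁ (h ≫ i)), hsub]
        show π₁ (h ≫ i) x = (((π₁ (h ≫ i) x).1 - x.2 • v') + ((π₁ (h ≫ i) x).2 - 0) • v', (π₁ (h ≫ i) x).2 - 0)
        have h2 : (π₁ (h ≫ i) x).2 = x.2 := rfl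
        rw [h2, sub_zero, sub_add_cancel, ← h2]
      obtain ⟨r, s, hr, hs, hrs, hinj⟩ :=
        Obs28.exists_homs_GL hπ₁ (Module.finBasis k (W × k)) i hπ₂ hagree
      haveI := hr; haveI := hs
      haveI := Obs28.isAffine_GLn (k := k) (Module.finrank k (W × k))
      haveI := Obs28.smooth_GLn (k := k) (Module.finrank k (W × k))
      have := congrArg (fun q : W × k => (q.1 : E)) (LinearEquiv.congr_fun
        (DFunLike.congr_fun (hinj (he _ r s hrs)) g) ((0 : W), (1 : k)))
      have h3 : π g 0 = π g (0 - (1 : k) • v) + (1 : k) • v := this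
      rw [map_zero, one_smul, zero_sub, map_neg] at h3
      exact (neg_add_eq_zero.mp h3.symm)
    · rw [Obs28.mem_fixedUnder_iff] at hv ⊢
      intro h
      simpa using hv (h ≫ i)
  tfae_finish

end Groth.Agent.S11234
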