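import Groth.Statements.S11237
import Groth.Agent.Obs28.Res
import Mathlib.Algebra.TrivSqZeroExt.Basic

set_option autoImplicit false
set_option linter.style.haveILetI false
universe u
open CategoryTheory MonoidalCategory CartesianMonoidalCategory MonObj GrpObj AlgebraicGeometry
open scoped TensorProduct
open AGF

namespace Groth.Agent.S11237

/-- Let k be an algebraically closed field and G a linear algebraic group over k (affine, smooth) whose
identity component is reductive. Assume finite generation of invariants of reductive groups over k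
on finitely generated algebras (a true result which the published text assumes without proof,
carried here as a hypothesis). Let A be a finitely generated commutative k-algebra with a rational
action of G by algebra automorphisms and M a finitely generated A-module with a compatible rational
G-action. Then the invariants M^G form a finitely generated A^G-module (the A^G-span of finitely
many invariant elements). -/
theorem result (k : Type u) [Field k] [IsAlgClosed k]
    (G : Over (Spec (CommRingCat.of k))) [GrpObj G] (hG : VecGrp.IsReductiveGrp k G)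
    (thmA : VecGrp.ReductiveInvariantsFG k)
    (A : Type u) [CommRing A] [Algebra k A] [Algebra.FiniteType k A] (ρA : VecGrp.GMod G A) (hρ : ρA.IsMult)
    (M : Type u) [AddCommGroup M] [Module A M] [Module k M] [IsScalarTower k A M] [Module.Finite A M]
    (ρM : VecGrp.GMod G M) (hc : VecGrp.GMod.IsCompat ρA ρM) :
    ∃ s : Finset M, (↑s : Set M) ⊆ ρM.fixedUnder (𝟙 G) ∧
      ρM.fixedUnder (𝟙 G) ≤ (Submodule.span ↥(ρA.fixedSubalgebra hρ (𝟙 G)) (↑s : Set M)).restrictScalars k := by
  haveI : IsAffine G.left := hG.1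
  haveI : Smooth G.hom := hG.2.1
  open Obs28 GrpSchLib.Kunneth in
  classical
  letI : Module Aᵐᵒᵖ M := Module.compHom M ((RingHom.id A).fromOpposite fun x y => mul_comm x y)
  haveI : IsCentralScalar A M := ⟨fun _ _ => rfl⟩
  let R := TrivSqZeroExt A M
  let πR : Rat G →* (R ≃ₗ[k] R) :=
    { toFun := fun g => LinearEquiv.prodCongr (rep ρA g) (rep ρM g)
      map_one' := LinearEquiv.ext fun x => by
        show (rep ρA 1 (x : A × M).1, rep ρM 1 (x : A × M).2) = x
        simp
      map_mul' := fun g h => LinearEquiv.ext fun x => by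
        show (rep ρA (g * h) (x : A × M).1, rep ρM (g * h) (x : A × M).2) = _
        simp
        rfl }
  have hπ : IsRegular πR := fun x =>
    ⟨(LinearMap.inl k A M).lTensor (Fn G) (coact ρA (x : A × M).1) +
      (LinearMap.inr k A M).lTensor (Fn G) (coact ρM (x : A × M).2), fun g => by
        show ((rep ρA g (x : A × M).1, rep ρM g (x : A × M).2) : A × M) = evl (M := A × M) (pfn g) (_ + _)
        rw [map_add (evl (M := A × M) (pfn g)), evl_lTensor, evl_lTensor, ← rep_eq_evl, ← rep_eq_evl]
        simp⟩
  have hcompat : ∀ (g : Rat G) (a : A) (m : M), rep ρM g (a • m) = rep ρA g a • rep ρM g m := by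
    intro g a m
    have h := hc k g ((1 : k) ⊗ₜ[k] a) ((1 : k) ⊗ₜ[k] m)
    have e : ∀ (a : A) (m : M), VecGrp.GMod.smulW k A M k ((1 : k) ⊗ₜ[k] a) ((1 : k) ⊗ₜ[k] m) = (1 : k) ⊗ₜ[k] (a • m) := by
      intro a m
      simp [VecGrp.GMod.smulW]
    rw [e, rho_k_apply, rho_k_apply, rho_k_apply, e] at h
    simpa using congrArg (TensorProduct.lid k M) h
  have hmult : (ofRat hπ).IsMult := by
    refine isMult_of_rep _ (fun g x y => ?_) fun g => ?_
    · simp only [rep_ofRat]
      refine TrivSqZeroExt.ext ?_ ?_
      · show rep ρA g (x.fst * y.fst) = rep ρA g x.fst * rep ρA g y.fst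
        exact rep_mul ρA hρ g _ _
      · show rep ρM g (x.fst • y.snd + MulOpposite.op y.fst • x.snd) =
          rep ρA g x.fst • rep ρM g y.snd + MulOpposite.op (rep ρA g y.fst) • rep ρM g x.snd
        rw [op_smul_eq_smul, op_smul_eq_smul, map_add, hcompat, hcompat]
    · simp only [rep_ofRat]
      refine TrivSqZeroExt.ext ?_ ?_
      · exact rep_one ρA hρ g
      · exact map_zero (rep ρM g)
  haveI : Algebra.FiniteType k R := by
    obtain ⟨sA, hsA⟩ := Algebra.FiniteType.out (R := k) (A := A)
    obtain ⟨sM, hsM⟩ := Module.Finite.fg_top (R := A) (M := M)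
    refine ⟨⟨sA.image TrivSqZeroExt.inl ∪ sM.image TrivSqZeroExt.inr, eq_top_iff.mpr fun x _ => ?_⟩⟩
    set S := Algebra.adjoin k (↑(sA.image TrivSqZeroExt.inl ∪ sM.image TrivSqZeroExt.inr : Finset R) : Set R)
    have hl : ∀ a : A, (TrivSqZeroExt.inl a : R) ∈ S := by
      intro a
      have ha : a ∈ Algebra.adjoin k (sA : Set A) := hsA ▸ Algebra.mem_top
      induction ha using Algebra.adjoin_induction with
      | mem a ha =>
        refine Algebra.subset_adjoin ?_
        rw [Finset.coe_union, Finset.coe_image]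
        exact Or.inl ⟨a, ha, rfl⟩
      | algebraMap r => exact S.algebraMap_mem r
      | add a b _ _ ha hb => rw [TrivSqZeroExt.inl_add]; exact S.add_mem ha hb
      | mul a b _ _ ha hb => rw [TrivSqZeroExt.inl_mul]; exact S.mul_mem ha hb
    have hr : ∀ m : M, (TrivSqZeroExt.inr m : R) ∈ S := by
      intro m
      have hm : m ∈ Submodule.span A (sM : Set M) := hsM ▸ Submodule.mem_top
      induction hm using Submodule.span_induction with
      | mem m hm =>
        refine Algebra.subset_adjoin ?_
        rw [Finset.coe_union, Finset.coe_image, Finset.coe_image]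
        exact Or.inr ⟨m, hm, rfl⟩
      | zero => rw [TrivSqZeroExt.inr_zero]; exact S.zero_mem
      | add a b _ _ ha hb => rw [TrivSqZeroExt.inr_add]; exact S.add_mem ha hb
      | smul a b _ hb => rw [← TrivSqZeroExt.inl_mul_inr]; exact S.mul_mem (hl a) hb
    rw [← TrivSqZeroExt.inl_fst_add_inr_snd_eq x]
    exact S.add_mem (hl _) (hr _)
  obtain ⟨s, hs, hgen⟩ := thmA G hG R (ofRat hπ) hmult inferInstance
  have hfix : ∀ x : R, x ∈ (ofRat hπ).fixedUnder (𝟙 G) ↔
      x.fst ∈ ρA.fixedUnder (𝟙 G) ∧ x.snd ∈ ρM.fixedUnder (𝟙 G) := by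
    intro x
    simp only [mem_fixedUnder_iff, rep_ofRat, Category.comp_id, ← forall_and]
    exact forall_congr' fun h => TrivSqZeroExt.ext_iff
  refine ⟨s.image TrivSqZeroExt.snd, ?_, fun m hm => ?_⟩
  · rw [Finset.coe_image]
    rintro _ ⟨x, hx, rfl⟩
    exact ((hfix x).mp (hs hx)).2
  let SG := ρA.fixedSubalgebra hρ (𝟙 G)
  let N := Submodule.span ↥SG ((s.image TrivSqZeroExt.snd : Finset M) : Set M)
  have key : ∀ x ∈ Algebra.adjoin k (s : Set R), x.fst ∈ SG ∧ x.snd ∈ N := by
    intro x hx
    induction hx using Algebra.adjoin_induction with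
    | mem x hx => exact ⟨((hfix x).mp (hs hx)).1, Submodule.subset_span (Finset.mem_image_of_mem _ hx)⟩
    | algebraMap r => exact ⟨SG.algebraMap_mem r, by
        rw [show (algebraMap k R r).snd = 0 from rfl]; exact zero_mem _⟩
    | add x y _ _ hx hy => exact ⟨SG.add_mem hx.1 hy.1, N.add_mem hx.2 hy.2⟩
    | mul x y _ _ hx hy => exact ⟨SG.mul_mem hx.1 hy.1, by
        rw [TrivSqZeroExt.snd_mul, op_smul_eq_smul]
        exact N.add_mem (N.smul_mem ⟨_, hx.1⟩ hy.2) (N.smul_mem ⟨_, hy.1⟩ hx.2)⟩
  exact (key (TrivSqZeroExt.inr m) (hgen ((hfix _).mpr ⟨by rw [TrivSqZeroExt.fst_inr]; exact zero_mem _, by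
    rw [TrivSqZeroExt.snd_inr]; exact hm⟩))).2

end Groth.Agent.S11237
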