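import Groth.Statements.S11241
import Groth.Agent.Obs28.Radical
import Groth.Agent.Obs28.Reg

set_option autoImplicit false
universe u
open CategoryTheory MonoidalCategory CartesianMonoidalCategory MonObj GrpObj AlgebraicGeometry
open scoped TensorProduct
open AGF

namespace Groth.Agent.S11241

/-- Let k be an algebraically closed field and H a connected unipotent linear algebraic group over k
(affine, smooth, connected, with no nontrivial subtorus), acting rationally by algebra automorphisms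
on a commutative k-algebra A which is an integral domain. An H-invariant element of the fraction
field of A is a quotient of two H-invariant elements of A: if a₀, b₀ ∈ A with b₀ ≠ 0 satisfy
(h·a₀)·b₀ = a₀·(h·b₀) for every point h of H (invariance of a₀/b₀), then there are a, b ∈ A^H with b
≠ 0 and a·b₀ = b·a₀. (The published statement allows any unipotent H; this row takes H connected.) -/
theorem result (k : Type u) [Field k] [IsAlgClosed k]
    (H : Over (Spec (CommRingCat.of k))) [GrpObj H] [IsAffine H.left] [Smooth H.hom] [ConnectedSpace H.left]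
    (hH : Red.HasNoSubtorus k H)
    (A : Type u) [CommRing A] [IsDomain A] [Algebra k A] (ρ : VecGrp.GMod H A) (hρ : ρ.IsMult)
    (a₀ b₀ : A) (hb₀ : b₀ ≠ 0)
    (hinv : ∀ (B : Type u) [CommRing B] [Algebra k B] (h : VecGrp.pt k B ⟶ H),
      ρ.ρ B h ((1 : B) ⊗ₜ[k] a₀) * ((1 : B) ⊗ₜ[k] b₀) = ((1 : B) ⊗ₜ[k] a₀) * ρ.ρ B h ((1 : B) ⊗ₜ[k] b₀)) :
    ∃ a b : A, a ∈ ρ.fixedUnder (𝟙 H) ∧ b ∈ ρ.fixedUnder (𝟙 H) ∧ b ≠ 0 ∧ a * b₀ = b * a₀ := by
  set π := Obs28.rep ρ with hπ
  have hm := Obs28.rep_mul ρ hρ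
  have key : ∀ h : Obs28.Rat H, π h a₀ * b₀ = a₀ * π h b₀ := fun h => by
    have := congrArg (TensorProduct.lid k A) (hinv k h)
    rw [Obs28.rho_k_apply, Obs28.rho_k_apply] at this
    simpa [Algebra.TensorProduct.tmul_mul_tmul] using this
  let I : Submodule k A :=
    { carrier := {b | ∃ a, a * b₀ = b * a₀}
      add_mem' := fun {x y} ⟨a, ha⟩ ⟨a', ha'⟩ => ⟨a + a', by rw [add_mul, add_mul, ha, ha']⟩
      zero_mem' := ⟨0, by simp⟩
      smul_mem' := fun c x ⟨a, ha⟩ => ⟨c • a, by rw [smul_mul_assoc, smul_mul_assoc, ha]⟩ }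
  have stab : ∀ h : Obs28.Rat H, ∀ a b, a * b₀ = b * a₀ → π h a * b₀ = π h b * a₀ := fun h a b e => by
    have h1 : π h a * π h b₀ = π h b * π h a₀ := by rw [← hm h, ← hm h, e]
    refine mul_left_cancel₀ ((LinearEquiv.map_ne_zero_iff (π h)).mpr hb₀) ?_
    linear_combination b₀ * h1 + π h b * key h
  have hI : ∀ h : Obs28.Rat H, ∀ x ∈ I, π (h ≫ 𝟙 H) x ∈ I := fun h x ⟨a, ha⟩ =>
    ⟨π h a, by rw [Category.comp_id]; exact stab h a x ha⟩
  have hb₀I : b₀ ∈ I := ⟨a₀, _root_.mul_comm _ _⟩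
  obtain ⟨b, ⟨a, hab⟩, hb, hfix⟩ := Obs28.exists_fixed_in hH (Obs28.rep_isRegular ρ) (𝟙 H) hI
    (fun e => hb₀ (by rw [e] at hb₀I; exact (Submodule.mem_bot k).mp hb₀I))
  refine ⟨a, b, ?_, ?_, hb, hab⟩
  · rw [Obs28.mem_fixedUnder_iff]
    intro h
    have := stab h a b hab
    rw [show π h b = b by simpa using hfix h, ← hab] at this
    simpa using mul_right_cancel₀ hb₀ this
  · rw [Obs28.mem_fixedUnder_iff]
    exact hfix

end Groth.Agent.S11241
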