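import Groth.Statements.S11246
import Groth.Agent.Obs28.Radical
import Groth.Agent.Obs28.Reg
import Groth.Agent.Obs28.Solv

set_option autoImplicit false
set_option linter.style.haveILetI false
universe u
open CategoryTheory MonoidalCategory CartesianMonoidalCategory MonObj GrpObj AlgebraicGeometry
open scoped TensorProduct
open AGF

namespace Groth.Agent.S11246

/-- Let k be an algebraically closed field and H a connected solvable linear algebraic group over k
(affine, smooth, connected, solvable) with maximal torus T and unipotent radical U (so H = T·U),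
acting rationally by algebra automorphisms on a commutative k-algebra A which is an integral domain.
Let χ be a character of H and let a₀, b₀ ∈ A, b₀ ≠ 0, be such that H acts on the fraction a₀/b₀
through χ: (h·a₀)·b₀ = χ(h)·a₀·(h·b₀) for every point h of H. Then there are U-invariant elements a,
b ∈ A with b ≠ 0 and a·b₀ = b·a₀ (so a₀/b₀ = a/b), and a character θ of T such that b is a
T-semi-invariant of weight θ and a is a T-semi-invariant of weight θ + χ|_T. -/
theorem result (k : Type u) [Field k] [IsAlgClosed k]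
    (H : Over (Spec (CommRingCat.of k))) [GrpObj H] [IsAffine H.left] [Smooth H.hom] [ConnectedSpace H.left]
    (hsolv : Red.IsSolvableGrp H)
    (T : Over (Spec (CommRingCat.of k))) [GrpObj T] (iT : T ⟶ H) [IsMonHom iT] (hT : AGF.IsMaxTorus iT)
    (U : Over (Spec (CommRingCat.of k))) [GrpObj U] (uH : U ⟶ H) (hU : Par.IsUnipotentRadical uH)
    (χ : H ⟶ Red.Gm (Spec (CommRingCat.of k))) [IsMonHom χ]
    (A : Type u) [CommRing A] [IsDomain A] [Algebra k A] (ρ : VecGrp.GMod H A) (hρ : ρ.IsMult)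
    (a₀ b₀ : A) (hb₀ : b₀ ≠ 0)
    (hχ : ∀ (B : Type u) [CommRing B] [Algebra k B] (h : VecGrp.pt k B ⟶ H),
      ρ.ρ B h ((1 : B) ⊗ₜ[k] a₀) * ((1 : B) ⊗ₜ[k] b₀) =
        VecGrp.chiVal χ h • (((1 : B) ⊗ₜ[k] a₀) * ρ.ρ B h ((1 : B) ⊗ₜ[k] b₀))) :
    ∃ a b : A, a ∈ ρ.fixedUnder uH ∧ b ∈ ρ.fixedUnder uH ∧ b ≠ 0 ∧ a * b₀ = b * a₀ ∧
      ∃ θ : T ⟶ Red.Gm (Spec (CommRingCat.of k)), IsMonHom θ ∧
        (∀ (B : Type u) [CommRing B] [Algebra k B] (t : VecGrp.pt k B ⟶ T),
          ρ.ρ B (t ≫ iT) ((1 : B) ⊗ₜ[k] b) = VecGrp.chiVal θ t • ((1 : B) ⊗ₜ[k] b)) ∧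
        (∀ (B : Type u) [CommRing B] [Algebra k B] (t : VecGrp.pt k B ⟶ T),
          ρ.ρ B (t ≫ iT) ((1 : B) ⊗ₜ[k] a) =
            (VecGrp.chiVal θ t * VecGrp.chiVal χ (t ≫ iT)) • ((1 : B) ⊗ₜ[k] a)) := by
  obtain ⟨hu, huc, hus, hconn, hno⟩ := Obs28.unipRad_facts hU
  haveI := hu; haveI := huc; haveI := hus; haveI := hconn
  haveI : IsAffine U.left := Obs28.isAffine_of_closed uH
  set π := Obs28.rep ρ
  have hm := Obs28.rep_mul ρ hρ
  have key : ∀ h : Obs28.Rat H, π h a₀ * b₀ = Obs28.cv χ h • (a₀ * π h b₀) := fun h => by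
    have e := congrArg (TensorProduct.lid k A) (hχ k h)
    rw [Obs28.rho_k_apply, Obs28.rho_k_apply, Obs28.chiVal_eq] at e
    simpa [Algebra.TensorProduct.tmul_mul_tmul, Obs28.cv] using e
  have stab : ∀ h : Obs28.Rat H, ∀ a b, a * b₀ = b * a₀ → π h a * b₀ = Obs28.cv χ h • (π h b * a₀) :=
    fun h a b e => by
      refine mul_left_cancel₀ ((LinearEquiv.map_ne_zero_iff (π h)).mpr hb₀) ?_
      calc π h b₀ * (π h a * b₀) = π h (a * b₀) * b₀ := by rw [hm]; ring
        _ = π h b * (π h a₀ * b₀) := by rw [e, hm]; ring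
        _ = π h b₀ * (Obs28.cv χ h • (π h b * a₀)) := by
          rw [key, mul_smul_comm, mul_smul_comm]
          congr 1
          ring
  let I : Submodule k A :=
    { carrier := {b | ∃ a, a * b₀ = b * a₀}
      add_mem' := fun {x y} ⟨a, ha⟩ ⟨a', ha'⟩ => ⟨a + a', by rw [add_mul, add_mul, ha, ha']⟩
      zero_mem' := ⟨0, by simp⟩
      smul_mem' := fun c x ⟨a, ha⟩ => ⟨c • a, by rw [smul_mul_assoc, smul_mul_assoc, ha]⟩ }
  have hI : ∀ h : Obs28.Rat H, ∀ x ∈ I, π h x ∈ I := fun h x ⟨a, ha⟩ =>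
    ⟨(Obs28.cv χ h)⁻¹ • π h a, by
      rw [smul_mul_assoc, stab h a x ha, inv_smul_smul₀ (Obs28.cv_ne_zero χ h)]⟩
  haveI : Nontrivial I := ⟨⟨b₀, a₀, _root_.mul_comm _ _⟩, 0, fun e => hb₀ (congrArg Subtype.val e)⟩
  obtain ⟨⟨b, a, hab⟩, hb, hline⟩ := Obs28.Solv.exists_eigen hsolv
    (Obs28.subPi_regular π I hI (Obs28.rep_isRegular ρ))
  have hb' : b ≠ 0 := fun e => hb (Subtype.ext e)
  obtain ⟨θ, hθm, hθ⟩ := Obs28.exists_char_of_line (π := π) (𝟙 H) (Obs28.rep_isRegular ρ) hb'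
    (fun h => by
      obtain ⟨c, hc⟩ := hline h
      exact ⟨c, by rw [Category.comp_id]; exact congrArg Subtype.val hc⟩)
  haveI := hθm
  have hθ' : ∀ h, π h b = Obs28.cv θ h • b := fun h => by simpa using hθ h
  have hb1 : ∀ t : Obs28.Rat U, π (t ≫ uH) b = b := fun t => by
    rw [hθ', Obs28.char_eq_one hno uH θ t, one_smul]
  have ha : ∀ h, π h a = (Obs28.cv χ h * Obs28.cv θ h) • a := fun h => by
    refine mul_right_cancel₀ hb₀ ?_
    rw [stab h a b hab, hθ', smul_mul_assoc, smul_mul_assoc, hab, smul_smul]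
  refine ⟨a, b, ?_, ?_, hb', hab, iT ≫ θ, inferInstance, fun B _ _ t => ?_, fun B _ _ t => ?_⟩
  · rw [Obs28.mem_fixedUnder_iff]
    intro t
    rw [ha, Obs28.char_eq_one hno uH χ t, Obs28.char_eq_one hno uH θ t, _root_.one_mul, one_smul]
  · rw [Obs28.mem_fixedUnder_iff]
    exact hb1
  · have := (Obs28.eigen_gmod_iff (𝟙 H) ρ b θ).mpr hθ B (t ≫ iT)
    rw [Category.comp_id] at this
    rw [this, VecGrp.chiVal, VecGrp.chiVal, Category.assoc]
  · have := (Obs28.eigen_gmod_iff (𝟙 H) ρ a (θ * χ)).mpr (fun h => by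
      rw [Category.comp_id, ha, Obs28.cv_mul, _root_.mul_comm]) B (t ≫ iT)
    rw [Category.comp_id] at this
    rw [this, Obs28.chiVal_mul]
    rw [VecGrp.chiVal, VecGrp.chiVal, VecGrp.chiVal, Category.assoc]

end Groth.Agent.S11246
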