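import Groth.Statements.S11308
import Groth.Agent.CIntLib.BlowRegular
import Groth.Agent.CIntLib.RegularPair
import Groth.Agent.CIntLib.BlowExc

set_option autoImplicit false
universe u
open CategoryTheory CategoryTheory.Limits AlgebraicGeometry
open NonsingVar

namespace Groth.Agent.S11308

/-- Let k be an algebraically closed field, X a nonsingular variety over k (an integral scheme,
separated and of finite type over k, all of whose local rings are regular), Y a nonsingular closed
subvariety of X (an integral closed subscheme all of whose local rings are regular) with ideal sheaf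
I, and π : X~ → X a blowing-up of X with respect to I, characterised by its universal property. Then
X~ is nonsingular: all of its local rings are regular. -/
theorem result (k : Type u) [Field k] [IsAlgClosed k]
    (X : Scheme.{u}) [X.Over (Spec (CommRingCat.of k))] [IsIntegral X] [IsSeparated (X ↘ (Spec (CommRingCat.of k)))]
    [LocallyOfFiniteType (X ↘ (Spec (CommRingCat.of k)))] [QuasiCompact (X ↘ (Spec (CommRingCat.of k)))]
    (hreg : ∀ x : ↥X, IsRegularLocalRing ↑(X.presheaf.stalk x))
    (Y : Scheme.{u}) (i : Y ⟶ X) [IsClosedImmersion i] [IsIntegral Y]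
    (hregY : ∀ y : ↥Y, IsRegularLocalRing ↑(Y.presheaf.stalk y))
    (Xt : Scheme.{u}) (π : Xt ⟶ X) (hπ : BlowUp.IsBlowUp π i.ker) :
    ∀ z : ↥Xt, IsRegularLocalRing ↑(Xt.presheaf.stalk z) := by
  open Groth.Agent.CIntLib in
  have : IsLocallyNoetherian X := LocallyOfFiniteType.isLocallyNoetherian (X ↘ (Spec (CommRingCat.of k)))
  have : IsLocallyNoetherian Y := LocallyOfFiniteType.isLocallyNoetherian i
  have : IsLocallyNoetherian Xt := Groth.Agent.CIntLib.isLocallyNoetherian_of_isBlowUp hπ
  intro z
  by_cases hz : π z ∈ i.ker.support
  · obtain ⟨e, rfl⟩ : z ∈ Set.range (BlowUp.exceptional π i.ker).subschemeι := by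
      rw [Scheme.IdealSheafData.range_subschemeι, BlowUp.exceptional,
        Scheme.IdealSheafData.support_comap]
      exact hz
    let g : (BlowUp.exceptional π i.ker).subscheme ⟶ Y :=
      IsClosedImmersion.lift i ((BlowUp.exceptional π i.ker).subschemeι ≫ π)
        (Scheme.IdealSheafData.le_map_comap i.ker π)
    have : Smooth g := Groth.Agent.CIntLib.smooth_exceptional i
      (Groth.Agent.CIntLib.isRegularClosedImmersion_of_regular i hreg hregY) hπ g
      (IsClosedImmersion.lift_fac _ _ _)
    have := hregY (g e)
    exact Groth.Agent.CIntLib.isRegularLocalRing_of_smooth_exceptional hπ g e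
  · have := Groth.Agent.CIntLib.isIso_stalkMap_of_notMem hπ hz
    have := hreg (π z)
    exact IsRegularLocalRing.of_ringEquiv (asIso (π.stalkMap z)).commRingCatIsoToRingEquiv

end Groth.Agent.S11308
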