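import Groth.Statements.S11322
import Groth.Agent.FlatDimHx.Basic

set_option autoImplicit false
universe u
open CategoryTheory AlgebraicGeometry
open FlatMor

namespace Groth.Agent.S11322

/-- Let k be a field, X and Y schemes of finite type over k with Y irreducible, f : X → Y a flat
k-morphism and n a natural number. Then all irreducible components of X have dimension dim Y + n if
and only if, for each point y of Y (generic points included), all irreducible components of the
fibre of f over y have dimension n. -/
theorem result (k : Type u) [Field k]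
    {X Y : Scheme.{u}} (qX : X ⟶ Spec (CommRingCat.of k)) (qY : Y ⟶ Spec (CommRingCat.of k))
    [LocallyOfFiniteType qX] [QuasiCompact qX] [LocallyOfFiniteType qY] [QuasiCompact qY]
    [IrreducibleSpace ↥Y] (f : X ⟶ Y) (hf : f ≫ qY = qX) [Flat f] (n : ℕ) :
    (∀ Z : Set ↥X, Z ∈ irreducibleComponents ↥X → topologicalKrullDim ↥Z = topologicalKrullDim ↥Y + (n : WithBot ℕ∞)) ↔
      ∀ (y : Y) (Z : Set ↥(f.fiber y)), Z ∈ irreducibleComponents ↥(f.fiber y) →
        topologicalKrullDim ↥Z = (n : WithBot ℕ∞) := by
  obtain ⟨D, hD⟩ : ∃ D : ℕ, topologicalKrullDim ↥Y = (D : WithBot ℕ∞) :=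
    ⟨_, Groth.Agent.FlatDimHx.dim_irreducible k qY⟩
  have hθ : ∀ θ : Y, (∀ y, y ⤳ θ → y = θ) → Groth.Agent.FibDim.rd qY θ = D := fun θ h => by
    have h1 := (Groth.Agent.FlatDimHx.rd_eq_of_irreducible k qY θ h).symm.trans hD
    exact_mod_cast h1
  have key := Groth.Agent.FlatDimHx.components_iff k qX qY f hf D n hθ
  rw [hD]
  simpa only [Nat.cast_add] using key

end Groth.Agent.S11322
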