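import Groth.Statements.S11333
import Groth.Agent.CurvFam16.FrobTwist
import Groth.Agent.CurveCohLib.RegularCurve
import Groth.Agent.RegLoc6.Normal

set_option autoImplicit false
universe u
open CategoryTheory CategoryTheory.Limits AlgebraicGeometry
open Curves

set_option linter.style.haveILetI false
namespace Groth.Agent.S11333

/-- Let f : X → Y be a finite morphism over k of curves over an algebraically closed field k (integral,
proper over k, of dimension one, all local rings regular), sending the generic point of X to that of
Y, such that the function field extension K(X)/K(Y) is purely inseparable. Then X and Y are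
isomorphic as schemes (the isomorphism need not be compatible with the k-structures; existence of an
isomorphism only). -/
theorem result (k : Type u) [Field k] [IsAlgClosed k] (X : Scheme.{u}) [X.Over (Spec (CommRingCat.of k))]
    [IsIntegral X] [IsProper (X ↘ (Spec (CommRingCat.of k)))] (hdimX : topologicalKrullDim X = 1)
    (hregX : ∀ x : X, IsRegularLocalRing (X.presheaf.stalk x))
    (Y : Scheme.{u}) [Y.Over (Spec (CommRingCat.of k))]
    [IsIntegral Y] [IsProper (Y ↘ (Spec (CommRingCat.of k)))] (hdimY : topologicalKrullDim Y = 1)
    (hregY : ∀ x : Y, IsRegularLocalRing (Y.presheaf.stalk x))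
    (f : X ⟶ Y) [IsFinite f] (hf : f ≫ (Y ↘ (Spec (CommRingCat.of k))) = X ↘ (Spec (CommRingCat.of k)))
    (e : f (genericPoint X) = genericPoint Y) :
    letI := ((Y.presheaf.stalkSpecializes (specializes_of_eq e) ≫ f.stalkMap (genericPoint X)).hom).toAlgebra
    IsPurelyInseparable Y.functionField X.functionField → Nonempty (X ≅ Y) := by
  intro hpi
  haveI : Smooth (X ↘ Spec (CommRingCat.of k)) :=
    CurveCohLib.RegularCurve.smooth_of_regular k fun x _ => hregX x
  have hnY : ∀ y : Y, IsIntegrallyClosed (Y.presheaf.stalk y) := fun y => by
    haveI := hregY y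
    exact RegLoc6.isIntegrallyClosed_of_isRegularLocalRing _
  by_cases h0 : CharZero k
  · -- in characteristic zero purely inseparable means trivial
    letI := CurvFam16.GenFF.ffAlg k Y
    haveI : CharZero Y.functionField := charZero_of_injective_algebraMap
      (algebraMap k Y.functionField).injective
    letI := (CurvFam16.P1Map.ffMap f e).hom.toAlgebra
    haveI : IsPurelyInseparable Y.functionField X.functionField := hpi
    haveI := CurvFam16.isIso_of_finite_birational f e hnY
      (IsPurelyInseparable.surjective_algebraMap_of_isSeparable Y.functionField X.functionField)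
    exact ⟨asIso f⟩
  · obtain h | ⟨p, hp, hpk⟩ := CharP.exists' k
    · exact absurd h h0
    · haveI := hp
      haveI : ExpChar k p := .prime hp.out
      obtain ⟨r, i, -⟩ := CurvFam16.FrobTwist.exists_iso p hdimX hdimY hnY f hf e hpi
      have hb : Function.Bijective (iterateFrobenius k p r) :=
        (iterateFrobeniusEquiv k p r).bijective
      haveI : IsIso (Spec.map (CommRingCat.ofHom (algebraMap k (CurvFam16.FrobTwist.Tw k p r)))) := by
        haveI : IsIso (CommRingCat.ofHom (algebraMap k (CurvFam16.FrobTwist.Tw k p r))) :=
          (ConcreteCategory.isIso_iff_bijective _).2 hb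
        infer_instance
      haveI : IsIso (Curv2.bcFst k X (CurvFam16.FrobTwist.Tw k p r)) :=
        inferInstanceAs (IsIso (pullback.fst _ _))
      exact ⟨(i ≪≫ asIso (Curv2.bcFst k X (CurvFam16.FrobTwist.Tw k p r))).symm⟩

end Groth.Agent.S11333
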