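import Groth.Statements.S11337
import Groth.Agent.LS17.Modules
import Groth.Agent.CurveCohLib.RegularCurve

set_option autoImplicit false
set_option linter.style.haveILetI false
set_option backward.isDefEq.respectTransparency false
set_option backward.isDefEq.respectTransparency.types false
universe u
open CategoryTheory CategoryTheory.Limits AlgebraicGeometry
open Curves
attribute [local instance] Groth.Agent.CurveFF.ffAlg

namespace Groth.Agent.S11337

open LS17 FFLib in
/-- Divisors with equality in Clifford's inequality are multiples of a pencil of degree two. -/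
theorem clifford_eq {k K : Type*} [Field k] [IsAlgClosed k] [Field K] [Algebra k K]
    (hK : FunFld.IsFunctionField k K) {C : FunFld.Divisor k K} (hC : FunFld.IsCanonical k K C)
    {D : FunFld.Divisor k K} (h1 : 1 ≤ FunFld.ell D) (h2 : 1 ≤ FunFld.ell (C - D))
    (h3 : 2 * (FunFld.ell D : ℤ) = D.deg + 2) (h0 : ¬ Lin D 0) (hne : ¬ Lin D C) :
    ∃ A : FunFld.Divisor k K, A.deg = 2 ∧ 2 ≤ FunFld.ell A ∧ Lin D ((FunFld.ell D - 1) • A) := by
  obtain ⟨P₀⟩ := exists_place hK.1
  have hcl : ∀ D : FunFld.Divisor k K, 0 ≤ D.deg → D.deg ≤ 2 * (FunFld.genus k K : ℤ) →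
      2 * (FunFld.ell D : ℤ) ≤ D.deg + 2 := fun D => clifford hK (deg_eq_one hK.1 P₀)
  have hzero : ∀ E : FunFld.Divisor k K, E.deg = 0 → 1 ≤ FunFld.ell E → Lin E 0 := fun E hd hl => by
    obtain ⟨F, hF, hl'⟩ := LS17.exists_effective hK.1 (D := E) hl
    rwa [eq_zero_of_deg_zero hK hF (by rw [← hl'.deg_eq hK.1, hd])] at hl'
  obtain ⟨r1, r2, r3, r4⟩ := rr_C hK hC D
  have hD2 : 2 ≤ FunFld.ell D := by
    by_contra h
    exact h0 (hzero D (by omega) h1)
  have hC2 : 2 ≤ FunFld.ell (C - D) := by
    by_contra h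
    refine hne ?_
    have h4 := (hzero (C - D) (by omega) h2).add hK.1 (Lin.refl hK.1 D)
    rw [sub_add_cancel, zero_add] at h4
    exact h4.symm hK.1
  obtain ⟨A, hA, hA2⟩ := hyperelliptic_of_clifford hK hC hD2 hC2 (by omega)
  have hg : D.deg + 4 ≤ 2 * (FunFld.genus k K : ℤ) := by omega
  have hA' := hcl A (by omega) (by omega)
  have hbpf : NoBase A := noBase_of_ell hK.1 fun P => by
    have := hcl (A - Finsupp.single P 1) (by rw [deg_sub_pt hK]; omega) (by rw [deg_sub_pt hK]; omega)
    rw [deg_sub_pt hK] at this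
    omega
  refine ⟨A, hA, hA2, ?_⟩
  suffices ∀ (r : ℕ) (E : FunFld.Divisor k K), FunFld.ell E = r + 1 → E.deg = 2 * r →
      E.deg + 3 ≤ 2 * (FunFld.genus k K : ℤ) → Lin E (r • A) from
    this (FunFld.ell D - 1) D (by omega) (by omega) (by omega)
  intro r
  induction r with
  | zero => intro E hl hd _; rw [zero_smul]; exact hzero E (by omega) (by omega)
  | succ r ih =>
    intro E hl hd hle
    have hp := pencil_trick hK hbpf (by omega) E
    have hs := hcl (A + E) (by rw [Divisor.deg_add]; omega) (by rw [Divisor.deg_add]; omega)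
    have hm := hcl (E - A) (by rw [Divisor.deg_sub]; omega) (by rw [Divisor.deg_sub]; omega)
    rw [Divisor.deg_add] at hs
    rw [Divisor.deg_sub] at hm
    have h5 := ih (E - A) (by omega) (by rw [Divisor.deg_sub]; omega) (by rw [Divisor.deg_sub]; omega)
    have h6 := h5.add hK.1 (Lin.refl hK.1 A)
    rwa [sub_add_cancel, ← succ_nsmul] at h6

/-- Let k be an algebraically closed field and X a curve over k (an integral scheme, proper over k, of
dimension one, with all local rings regular), and L an invertible O_X-module with an inverse M such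
that H^0(X, L) ≠ 0, H^0(X, Ω_{X/k} ⊗ M) ≠ 0, L is isomorphic neither to O_X nor to Ω_{X/k}, and 2
(dim_k H^0(X, L) - 1) = deg L. Then X is hyperelliptic and L is a multiple of the g^1_2: there is an
invertible module N of degree 2 with two k-linearly independent global sections (a g^1_2) such that
L ≅ N^{⊗ r} with r = dim_k H^0(X, L) - 1. (Only the implication from equality is stated here; the
converse, that on a hyperelliptic curve the effective special multiples of the g^1_2 attain
equality, is not part of this statement.) -/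
theorem result (k : Type u) [Field k] [IsAlgClosed k] (X : Scheme.{u}) [X.Over (Spec (CommRingCat.of k))]
    [IsIntegral X] [IsProper (X ↘ (Spec (CommRingCat.of k)))] (hdim : topologicalKrullDim X = 1)
    (hreg : ∀ x : X, IsRegularLocalRing (X.presheaf.stalk x))
    (L M : X.Modules) (hL : PicF.IsInvertible L) (hM : ClSub.IsInverseOf L M)
    (hs : Nontrivial (Coh.HH X L 0)) (hsp : Nontrivial (Coh.HH X (CohB1.tensorMod (Omega.sheaf (X ↘ (Spec (CommRingCat.of k)))) M) 0))
    (h0 : IsEmpty (L ≅ Coh.structureModule X)) (hK : IsEmpty (L ≅ (Omega.sheaf (X ↘ (Spec (CommRingCat.of k))))))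
    (heq : 2 * (Module.finrank k (Coh.HH X L 0) : ℤ) = Curv2.deg k X L 1 + 2) :
    ∃ (N : X.Modules) (s : Fin 2 → LinSer.Sect X N), LinSer.IsLinSer k X N 2 1 s ∧
      Nonempty (L ≅ CohB1.tensorPow N (Module.finrank k (Coh.HH X L 0) - 1)) := by
  have hKΩ := hK
  haveI : Smooth (X ↘ Spec (CommRingCat.of k)) :=
    CurveCohLib.RegularCurve.smooth_of_regular k fun x _ => hreg x
  obtain ⟨C, hC, hΩ⟩ := LS17.exists_canonical_hasDiv k (X := X) hdim
  have hK := CurveFF.isFunctionField k X hdim
  obtain ⟨D, hD⟩ := LS17.exists_hasDiv k hdim hL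
  obtain ⟨e⟩ := hM
  obtain ⟨D', hD'⟩ := LS17.exists_hasDiv k hdim (CurveFF.isInvertible_of_inverse k hdim hL ⟨e⟩)
  have hD'' := hD'.congr k hdim (hD.inverse k hdim hD' e)
  haveI := CurveCohLib.isNoetherian_of_proper (k := k) (X := X)
  haveI := CurveCohLib.finite_HH (k := k) (CurveDeg.isCoh_of_isInvertible hL) 0
  have hT := hΩ.tensor k hdim hD''
  haveI := CurveCohLib.finite_HH (k := k) (CurveDeg.isCoh_of_isInvertible hT.1) 0
  have h1 : 1 ≤ FunFld.ell D := by
    rw [← hD.h0 k hdim]; exact Module.finrank_pos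
  have h2 : 1 ≤ FunFld.ell (C - D) := by
    rw [sub_eq_add_neg, ← hT.h0 k hdim]
    haveI : Nontrivial (Coh.HH X (CohB1.tensorMod (CurveFF.Ωm k X) M) 0) := hsp
    exact Module.finrank_pos
  rw [hD.h0 k hdim, hD.deg k hdim] at heq
  obtain ⟨A, hA, hA2, hlin⟩ := clifford_eq hK hC h1 h2 heq
    (fun hl => h0.false (LS17.nonempty_iso k hdim (hD.congr k hdim hl) (LS17.hasDiv_structure k hdim)).some)
    (fun hl => hKΩ.false (LS17.nonempty_iso k hdim (hD.congr k hdim hl) hΩ).some)
  obtain ⟨N, hN⟩ := LS17.exists_mod k hdim A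
  obtain ⟨s, hs⟩ := LS17.exists_linIndep k (CurveDeg.isCoh_of_isInvertible hN.1) (n := 2)
    (by rw [hN.h0 k hdim]; exact hA2)
  refine ⟨N, s, ⟨hN.1, by rw [hN.deg k hdim, hA]; norm_num, hs⟩, ?_⟩
  rw [hD.h0 k hdim]
  exact LS17.nonempty_iso k hdim (hD.congr k hdim hlin) (hN.tensorPow k hdim _)

end Groth.Agent.S11337
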