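import Groth.Statements.S11338
import Groth.Agent.CurvFam16.Nonspec.FF
import Groth.Agent.CurvFam16.Nonspec.Embed
import Groth.Agent.CurveCohLib.RegularCurve

set_option autoImplicit false
set_option linter.style.haveILetI false
set_option backward.isDefEq.respectTransparency false
set_option backward.isDefEq.respectTransparency.types false
universe u
open CategoryTheory CategoryTheory.Limits AlgebraicGeometry
open Curves
attribute [local instance] Groth.Agent.CurveFF.ffAlg

namespace Groth.Agent.S11338

/-- Let k be an algebraically closed field and X a curve over k (an integral scheme, proper over k, of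
dimension one, with all local rings regular), of genus g ≥ 2, and d an integer. Then X carries a
very ample divisor of degree d that is nonspecial — an invertible module L with deg L = d, H^1(X, L)
= 0 (equivalently H^0 of ω ⊗ L^{-1} vanishes), and L isomorphic to the pullback of O(1) along a
closed immersion into some P^n_k over k — if and only if d ≥ g + 3. -/
theorem result (k : Type u) [Field k] [IsAlgClosed k] (X : Scheme.{u}) [X.Over (Spec (CommRingCat.of k))]
    [IsIntegral X] [IsProper (X ↘ (Spec (CommRingCat.of k)))] (hdim : topologicalKrullDim X = 1)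
    (hreg : ∀ x : X, IsRegularLocalRing (X.presheaf.stalk x)) (hg : 2 ≤ Curv2.genus k X) (d : ℤ) :
    (∃ L : X.Modules, PicF.IsInvertible L ∧ Curv2.deg k X L 1 = d ∧ Subsingleton (Coh.HH X L 1) ∧
      (∃ (n : ℕ) (i : X ⟶ CohB1.ProjSpace n k), IsClosedImmersion i ∧ i ≫ CohB1.ProjSpace.toSpec n k = (X ↘ (Spec (CommRingCat.of k))) ∧
        Nonempty ((Scheme.Modules.pullback i).obj (Twist.twistProjSpace n k 1) ≅ L))) ↔
      (Curv2.genus k X : ℤ) + 3 ≤ d := by
  haveI : Smooth (X ↘ Spec (CommRingCat.of k)) :=
    CurveCohLib.RegularCurve.smooth_of_regular k fun x _ => hreg x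
  haveI := CurveCohLib.isNoetherian_of_proper (k := k) (X := X)
  have hK := CurveFF.isFunctionField k X hdim
  obtain ⟨C, hC, hΩ⟩ := LS17.exists_canonical_hasDiv k (X := X) hdim
  constructor
  · rintro ⟨L, hL, hd, hh, n, i, hcl, hi, ⟨τ⟩⟩
    haveI := hcl
    obtain ⟨E, f, hE, -, hb, hrat⟩ := LS17.exists_functions_of_map k i hi hdim
    have hsep := CurvFam16.Nonspec.ell_sep k i hi hdim hb (fun a l W h hη => (hrat a l W h hη).2)
    have hL' := hE.map_iso k hdim τ hL
    rw [← hd, hL'.deg k hdim, ← CurveFF.genus_eq k hdim]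
    refine CurvFam16.Nonspec.genus_add_three_le hK (by rw [CurveFF.genus_eq k hdim]; exact hg) hC ?_ hsep
    rw [← hL'.rr k hdim hC]
    exact Module.finrank_zero_of_subsingleton
  · intro hd
    obtain ⟨j, hj⟩ : ∃ j : ℕ, d = (FunFld.genus k X.functionField : ℤ) + 3 + j :=
      ⟨(d - (FunFld.genus k X.functionField : ℤ) - 3).toNat, by rw [CurveFF.genus_eq k hdim]; omega⟩
    obtain ⟨D, hDd, hDs, hsep⟩ := CurvFam16.Nonspec.exists_very_ample hK hC j
    obtain ⟨L, hL⟩ := LS17.exists_mod k hdim D
    have hrr := (LS17.rr_C hK hC D).1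
    rw [hDd, hDs] at hrr
    obtain ⟨i, hcl, hi, τ⟩ := CurvFam16.Nonspec.exists_embedding k hdim hL (m := j + 3) (by omega) hsep
    haveI := CurveCohLib.finite_HH (k := k) (CurveDeg.isCoh_of_isInvertible hL.1) 1
    exact ⟨L, hL.1, by rw [hL.deg k hdim, hDd, hj],
      Module.finrank_zero_iff.mp ((hL.rr k hdim hC).trans hDs), j + 3, i, hcl, hi, τ⟩

end Groth.Agent.S11338
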