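import Groth.Statements.S11339
import Groth.Agent.CurvFam16.NodalPlane.Plane
import Groth.Agent.CurveCohLib.RegularCurve

set_option autoImplicit false
universe u
open CategoryTheory CategoryTheory.Limits AlgebraicGeometry
open Curves

namespace Groth.Agent.S11339

/-- Let k be an algebraically closed field and X a curve over k (an integral scheme, proper over k, of
dimension one, with all local rings regular). Then X is birational to an integral plane curve whose
only singular points are nodes: there exist an integral closed subscheme Y of P^2_k, all of whose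
closed points are either smooth over k or nodes (ordinary double points), and a morphism X → Y over
k which restricts to an isomorphism over some nonempty open subset of Y. -/
theorem result (k : Type u) [Field k] [IsAlgClosed k] (X : Scheme.{u}) [X.Over (Spec (CommRingCat.of k))]
    [IsIntegral X] [IsProper (X ↘ (Spec (CommRingCat.of k)))] (hdim : topologicalKrullDim X = 1)
    (hreg : ∀ x : X, IsRegularLocalRing (X.presheaf.stalk x)) :
    ∃ (Y : Scheme.{u}) (j : Y ⟶ CohB1.ProjSpace 2 k) (φ : X ⟶ Y), IsClosedImmersion j ∧ IsIntegral Y ∧
      φ ≫ j ≫ CohB1.ProjSpace.toSpec 2 k = (X ↘ (Spec (CommRingCat.of k))) ∧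
      (letI : Y.Over (Spec (CommRingCat.of k)) := ⟨j ≫ CohB1.ProjSpace.toSpec 2 k⟩
       Curv2.AtWorstNodal k Y) ∧
      ∃ U : Y.Opens, (U : Set Y).Nonempty ∧ IsIso (φ ∣_ U) := by
  haveI : Smooth (X ↘ Spec (CommRingCat.of k)) :=
    CurveCohLib.RegularCurve.smooth_of_regular k fun x _ => hreg x
  exact CurvFam16.NodalPlane.exists_plane_model hdim

end Groth.Agent.S11339
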