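import Groth.Statements.S11341
import Groth.Agent.SurfInt.RRSmooth
import Groth.Agent.SurfInt.Restrict
import Groth.Agent.CurveCohLib.SmoothCurve
import Groth.Agent.Lib.CurveRR
-- import your own Groth.Agent.* helpers here

set_option autoImplicit false
universe u
open CategoryTheory CategoryTheory.Limits AlgebraicGeometry
open Surf

set_option backward.isDefEq.respectTransparency false
set_option backward.isDefEq.respectTransparency.types false
attribute [-instance] CategoryTheory.catToReflQuiver

namespace Groth.Agent.S11341

/-- Let X be a surface over an algebraically closed field k (an integral scheme of dimension two with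
all local rings regular, admitting a closed immersion into some P^n_k over k), let W be the
canonical sheaf of X (a second exterior power of the sheaf of differentials Ω_{X/k}), and let C be a
nonsingular curve of genus g on X: an integral closed subscheme of dimension one with all local
rings regular, with ideal sheaf I ⊆ O_X, g = dim_k H^1(C, O_C). Then 2g - 2 = C.(C + K). Writing
(L·M) for the intersection number χ(O_X) - χ(L) - χ(M) + χ(L ⊗ M) of two invertible modules
(packaged as FGA.intNum), C.C = (I·I) and C.K = -(I·W), so the formula reads 2g - 2 = (I·I) - (I·W). -/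
theorem result (k : Type u) [Field k] [IsAlgClosed k] (X : Scheme.{u}) [X.Over (Spec (CommRingCat.of k))]
    [IsIntegral X] (hdim : topologicalKrullDim X = 2) (hreg : ∀ x : X, IsRegularLocalRing (X.presheaf.stalk x))
    (hproj : ∃ (n : ℕ) (ι : X ⟶ CohB1.ProjSpace n k), IsClosedImmersion ι ∧ ι ≫ CohB1.ProjSpace.toSpec n k = (X ↘ (Spec (CommRingCat.of k))))
    (W : X.Modules) (hW : ExtPow.IsExtPow 2 (Omega.sheaf (X ↘ (Spec (CommRingCat.of k)))) W)
    (C : Scheme.{u}) (i : C ⟶ X) [IsClosedImmersion i] [IsIntegral C] (hC : topologicalKrullDim C = 1)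
    (hCreg : ∀ c : C, IsRegularLocalRing (C.presheaf.stalk c)) :
    letI : C.Over (Spec (CommRingCat.of k)) := ⟨i ≫ (X ↘ (Spec (CommRingCat.of k)))⟩
    2 * (Curv2.genus k C : ℤ) - 2 =
      FGA.intNum k X 2 ![ClSub.idealMod i.ker, ClSub.idealMod i.ker] (Coh.structureModule X) - FGA.intNum k X 2 ![ClSub.idealMod i.ker, W] (Coh.structureModule X) := by
  obtain ⟨n, ι, hι, hιs⟩ := hproj
  haveI := hι
  haveI := SurfInt.isProper_of_projective k hι hιs
  haveI := CurveCohLib.RegularCurve.smooth_of_regular k (X := X) fun x _ => hreg x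
  letI : C.Over (Spec (CommRingCat.of k)) := ⟨i ≫ (X ↘ (Spec (CommRingCat.of k)))⟩
  haveI : IsProper (C ↘ Spec (CommRingCat.of k)) := inferInstanceAs (IsProper (i ≫ (X ↘ Spec (CommRingCat.of k))))
  haveI := CurveCohLib.RegularCurve.smooth_of_regular k (X := C) fun x _ => hCreg x
  haveI := CurveCohLib.isNoetherian_of_proper (k := k) (X := X)
  haveI := SurfInt.isIntegral_ker i
  have hI : BlowUp.IsEffCartierIdeal i.ker :=
    SurfInt.isEffCartier_curve k hdim hreg i.ker (by rw [SurfInt.dim_support_ker]; exact hC)
  have hInv := SurfInt.isInvertible_idealMod hI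
  have hRR := SurfInt.riemann_roch k hdim hW hInv
  have h1 := SurfInt.euler_ideal k i.ker
  obtain ⟨q⟩ := SurfInt.nonempty_quotMod_ker i
  have h2 : Curv2.euler k X (ClSub.quotMod i.ker) = Curv2.euler k C (Coh.structureModule C) := by
    rw [SurfInt.euler_congr k q, SurfInt.euler_push k i rfl QCoh.isQCoh_structureModule]
  rw [CurveRR.euler_eq_h0_sub_h1 (k := k) hC.le QCoh.isQCoh_structureModule, CurveCohLib.finrank_h0_eq_one k C] at h2
  unfold Curv2.genus
  push_cast at h2 ⊢
  linarith

end Groth.Agent.S11341
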