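import Groth.Statements.S11342
import Groth.Agent.SurfInt.RRDual
import Groth.Agent.Pic13Lib.CurveSec
import Groth.Agent.ExtDual45.Smooth
import Groth.Agent.OmegaTop.Main
import Groth.Agent.CurveCohLib.RegularCurve

set_option autoImplicit false
universe u
set_option backward.isDefEq.respectTransparency false
set_option linter.style.haveILetI false
set_option maxHeartbeats 1000000
open CategoryTheory CategoryTheory.Limits AlgebraicGeometry
open Surf

namespace Groth.Agent.S11342

/-- Let X be a surface over an algebraically closed field k (an integral scheme of dimension two with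
all local rings regular, admitting a closed immersion into some P^n_k over k), W its canonical sheaf
(a second exterior power of Ω_{X/k}), and L an invertible O_X-module (the sheaf of a divisor D).
Then l(D) - s(D) + l(K - D) = (1/2) D.(D - K) + 1 + p_a; since the left side is χ(L) by Serre
duality and 1 + p_a = χ(O_X), this reads 2 χ(L) = (L·L) - (L·W) + 2 χ(O_X), where (L·M) = χ(O_X) -
χ(L) - χ(M) + χ(L ⊗ M) is the intersection number (packaged as FGA.intNum). -/
theorem result (k : Type u) [Field k] [IsAlgClosed k] (X : Scheme.{u}) [X.Over (Spec (CommRingCat.of k))]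
    [IsIntegral X] (hdim : topologicalKrullDim X = 2) (hreg : ∀ x : X, IsRegularLocalRing (X.presheaf.stalk x))
    (hproj : ∃ (n : ℕ) (ι : X ⟶ CohB1.ProjSpace n k), IsClosedImmersion ι ∧ ι ≫ CohB1.ProjSpace.toSpec n k = (X ↘ (Spec (CommRingCat.of k))))
    (W : X.Modules) (hW : ExtPow.IsExtPow 2 (Omega.sheaf (X ↘ (Spec (CommRingCat.of k)))) W)
    (L : X.Modules) (hL : PicF.IsInvertible L) :
    2 * Curv2.euler k X L = FGA.intNum k X 2 ![L, L] (Coh.structureModule X) - FGA.intNum k X 2 ![L, W] (Coh.structureModule X) + 2 * Curv2.euler k X (Coh.structureModule X) := by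
  obtain ⟨n, ι, hι, hιs⟩ := hproj
  haveI := hι
  haveI := Groth.Agent.SurfInt.isProper_of_projective k hι hιs
  haveI : Smooth (X ↘ Spec (CommRingCat.of k)) := Groth.Agent.CurveCohLib.RegularCurve.smooth_of_regular k fun x _ => hreg x
  haveI := Groth.Agent.OmegaTop.smoothOfRelativeDimension_of_dim (X ↘ Spec (CommRingCat.of k)) 2 hdim
  have hWi := Groth.Agent.CanonDual.isInvertible_of_isTopDiff (X ↘ Spec (CommRingCat.of k)) 2 hW
  obtain ⟨t, -, hdual⟩ := Groth.Agent.OmegaTop.exists_isRDualOver_topForms 2 ι hιs hW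
  refine Groth.Agent.SurfInt.two_mul_euler_of_dualizing k (Groth.Agent.SurfInt.dim_le_of_eq hdim) hWi t
    (fun F hF ψ => ?_) (Groth.Agent.Pic13Lib.isAmple_hyp_one ι) (fun x hx => ?_) hL
  · obtain ⟨φ, hφ⟩ := (hdual F hF.1).2 ψ
    exact ⟨φ, fun x => (LinearMap.congr_fun hφ x).symm,
      fun φ' h' => (hdual F hF.1).1 (LinearMap.ext fun x => (h' x).symm.trans (LinearMap.congr_fun hφ x).symm)⟩
  · exact lt_of_lt_of_le (by norm_num) (Groth.Agent.ExtDual45.le_depth_of_smooth k 2 hdim x hx)

end Groth.Agent.S11342
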