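import Groth.Statements.S11349
import Groth.Agent.CurvFam16.Genus1.Geom
import Groth.Agent.CurveCohLib.RegularCurve

set_option autoImplicit false
set_option linter.style.haveILetI false
set_option backward.isDefEq.respectTransparency false
set_option backward.isDefEq.respectTransparency.types false
universe u
open CategoryTheory CategoryTheory.Limits AlgebraicGeometry
open Curves
attribute [local instance] Groth.Agent.CurveFF.ffAlg

namespace Groth.Agent.S11349

/-- Take an algebraically closed field k of characteristic different from 2 and an elliptic curve X over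
k — an integral scheme, proper over k, of dimension one, all local rings regular, of genus dim_k
H^1(X, O_X) = 1 — and let P, Q be closed points of X, possibly equal. Then there is an automorphism
σ of X over k with σ² = id and σ(P) = Q such that R + σ(R) is linearly equivalent to P + Q for every
closed point R; the last condition is written on ideal sheaves of points: I_R ⊗ I_{σ(R)} ≅ I_P ⊗
I_Q. -/
theorem result (k : Type u) [Field k] [IsAlgClosed k] (X : Scheme.{u}) [X.Over (Spec (CommRingCat.of k))]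
    [IsIntegral X] [IsProper (X ↘ (Spec (CommRingCat.of k)))] (hdim : topologicalKrullDim X = 1)
    (hreg : ∀ x : X, IsRegularLocalRing (X.presheaf.stalk x)) (hchar : ringChar k ≠ 2) (hg : Curv2.genus k X = 1)
    (P Q : X) (hP : IsClosed ({P} : Set X)) (hQ : IsClosed ({Q} : Set X)) :
    ∃ σ : X ≅ X, σ.hom ≫ (X ↘ (Spec (CommRingCat.of k))) = (X ↘ (Spec (CommRingCat.of k))) ∧ σ.hom ≫ σ.hom = 𝟙 X ∧ σ.hom P = Q ∧
      ∀ (R R' : X) (hR : IsClosed ({R} : Set X)) (hR' : IsClosed ({R'} : Set X)), σ.hom R = R' →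
        Nonempty (CohB1.tensorMod (ClSub.idealMod (Scheme.IdealSheafData.vanishingIdeal ⟨{R}, hR⟩)) (ClSub.idealMod (Scheme.IdealSheafData.vanishingIdeal ⟨{R'}, hR'⟩)) ≅ CohB1.tensorMod (ClSub.idealMod (Scheme.IdealSheafData.vanishingIdeal ⟨{P}, hP⟩)) (ClSub.idealMod (Scheme.IdealSheafData.vanishingIdeal ⟨{Q}, hQ⟩))) := by
  haveI : Smooth (X ↘ Spec (CommRingCat.of k)) :=
    CurveCohLib.RegularCurve.smooth_of_regular k fun x _ => hreg x
  have hK := CurveFF.isFunctionField k X hdim
  have h2k : (2 : k) ≠ 0 := fun h => by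
    haveI := ringChar.charP k
    have hdvd : ringChar k ∣ 2 := (ringChar.spec k 2).mp (by exact_mod_cast h)
    rcases (Nat.dvd_prime Nat.prime_two).mp hdvd with h1 | h1
    · exact CharP.ringChar_ne_one h1
    · exact hchar h1
  obtain ⟨t, w, -, -, -, -, hww, hPQ, -, hlin⟩ := CurvFam16.Genus1.exists_swap hK
    (by rw [CurveFF.genus_eq k hdim]; exact_mod_cast hg) h2k
    (CurveFF.pl k X hdim ⟨P, hP⟩) (CurveFF.pl k X hdim ⟨Q, hQ⟩)
  obtain ⟨H, hH, hr⟩ := CurvFam16.Genus1.exists_iso hdim w
  haveI : X.IsSeparated := ⟨by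
    rw [← Limits.terminal.comp_from (X ↘ Spec (CommRingCat.of k))]; infer_instance⟩
  have hcl : ∀ x : X, IsClosed ({x} : Set X) → IsClosed ({H.hom x} : Set X) := fun x hx => by
    have := H.hom.isClosedMap _ hx
    rwa [Set.image_singleton] at this
  refine ⟨H, hH, ?_, ?_, fun R R' hR hR' he => ?_⟩
  · exact CurvFam16.FFHom.Restricts.unique (hr.comp hr)
      ((show CommRingCat.ofHom w.toAlgHom.toRingHom ≫ CommRingCat.ofHom w.toAlgHom.toRingHom = 𝟙 _ by
        ext a; exact hww a).symm ▸ CurvFam16.FFHom.Restricts.id)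
  · have := (CurveFF.pl k X hdim).injective ((CurvFam16.Genus1.pl_image hdim hr ⟨P, hP⟩ (hcl P hP)).trans hPQ)
    exact congrArg Subtype.val this
  · subst he
    have h1 := (LS17.hasDiv_ptMod k hdim R hR).tensor k hdim (LS17.hasDiv_ptMod k hdim (H.hom R) hR')
    have h2 := (LS17.hasDiv_ptMod k hdim P hP).tensor k hdim (LS17.hasDiv_ptMod k hdim Q hQ)
    rw [CurvFam16.Genus1.pl_image hdim hr ⟨R, hR⟩ hR'] at h1
    refine LS17.nonempty_iso k hdim (h1.congr k hdim ?_) h2
    have h3 := (hlin (CurveFF.pl k X hdim ⟨R, hR⟩)).neg hK.1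
    rwa [neg_add, neg_add] at h3

end Groth.Agent.S11349
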