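import Groth.Statements.S11350
import Groth.Agent.CurvFam16.Castel.Bound
import Groth.Agent.CurvFam16.Castel.Sep
import Groth.Agent.CurvFam16.NondegDeg
import Groth.Agent.CurveCohLib.RegularCurve

set_option autoImplicit false
set_option linter.style.haveILetI false
universe u
open CategoryTheory CategoryTheory.Limits AlgebraicGeometry
open Curves
attribute [local instance] Groth.Agent.CurveFF.ffAlg

namespace Groth.Agent.S11350

theorem ratio_congr {k : Type u} [Field k] {X : Scheme.{u}} [IsIntegral X] {n : ℕ}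
    {r r' : X ⟶ CohB1.ProjSpace n k} (e : r = r') {f : Fin (n + 1) → X.functionField}
    (h : ∀ (a l : Fin (n + 1)) (W : X.Opens) (hW : W ≤ r ⁻¹ᵁ LS17.chartD k l) (hη : genericPoint X ∈ W),
      (X.presheaf.germ W _ hη (ProjUPX.ratioOf r (ProjPt.X_mem a) (ProjPt.X_mem l) hW) : X.functionField) = f a / f l) :
    ∀ (a l : Fin (n + 1)) (W : X.Opens) (hW : W ≤ r' ⁻¹ᵁ LS17.chartD k l) (hη : genericPoint X ∈ W),
      (X.presheaf.germ W _ hη (ProjUPX.ratioOf r' (ProjPt.X_mem a) (ProjPt.X_mem l) hW) : X.functionField) = f a / f l := by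
  subst e; exact h

/-- Let k be an algebraically closed field and X a curve over k (integral, proper over k, of dimension
one, all local rings regular) together with a closed immersion i : X → P^3_k over k whose image is
not contained in any plane — every nonzero global section of O(1) on P^3_k restricts to a nonzero
global section of i^* O(1) — and let d = deg i^* O(1) be its degree and g its genus. Then d ≥ 3 and
g ≤ d²/4 - d + 1 if d is even, g ≤ (d² - 1)/4 - d + 1 if d is odd; both cases read g ≤ ⌊d²/4⌋ - d +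
1 (integer division below). -/
theorem result (k : Type u) [Field k] [IsAlgClosed k] (X : Scheme.{u}) [X.Over (Spec (CommRingCat.of k))]
    [IsIntegral X] [IsProper (X ↘ (Spec (CommRingCat.of k)))] (hdim : topologicalKrullDim X = 1)
    (hreg : ∀ x : X, IsRegularLocalRing (X.presheaf.stalk x))
    (i : X ⟶ CohB1.ProjSpace 3 k) [IsClosedImmersion i] (hi : i ≫ CohB1.ProjSpace.toSpec 3 k = (X ↘ (Spec (CommRingCat.of k))))
    (hplane : ∀ s : LinSer.Sect (CohB1.ProjSpace 3 k) (Twist.twistProjSpace 3 k 1), s ≠ 0 →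
      OmegaSh.pullSect i (Twist.twistProjSpace 3 k 1) ⊤ s ≠ 0) :
    3 ≤ Curv2.deg k X ((Scheme.Modules.pullback i).obj (Twist.twistProjSpace 3 k 1)) 1 ∧
      (Curv2.genus k X : ℤ) ≤
        Curv2.deg k X ((Scheme.Modules.pullback i).obj (Twist.twistProjSpace 3 k 1)) 1 ^ 2 / 4 -
          Curv2.deg k X ((Scheme.Modules.pullback i).obj (Twist.twistProjSpace 3 k 1)) 1 + 1 := by
  haveI : Smooth (X ↘ Spec (CommRingCat.of k)) :=
    CurveCohLib.RegularCurve.smooth_of_regular k fun x _ => hreg x
  obtain ⟨D, f, hD, hli, hbpf, hrat⟩ := LS17.exists_series_of_map k i hi hdim hplane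
  have hG := LS17.seriesGen_of_birational k i (𝟙 X) (by rw [Category.id_comp, hi])
    ⟨⊤, ⟨genericPoint X, trivial⟩, inferInstance⟩ f
    (ratio_congr (Category.id_comp i).symm hrat)
  have hK := CurveFF.isFunctionField k X hdim
  have h3 := CurvFam16.le_deg hdim i hi hplane
  rw [hD.deg k hdim] at h3 ⊢
  obtain ⟨d, hd⟩ : ∃ d : ℕ, D.deg = d := ⟨D.deg.toNat, by omega⟩
  rw [hd] at h3 ⊢
  refine ⟨by exact_mod_cast h3, ?_⟩
  rw [← CurveFF.genus_eq k hdim]
  exact CurvFam16.Castel.genus_le hK hbpf hli hd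
    (fun P Q hPQ => CurvFam16.Castel.eq_of_evv_smul k i hi hdim hbpf hrat P Q hPQ)
    (by omega) (i₀ := 0) (hG.adjoin_ratios rfl (hli.ne_zero 0))

end Groth.Agent.S11350
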