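import Groth.Statements.S11351
import Groth.Agent.CurvFam16.Genus1.Pencils
import Groth.Agent.CurvFam16.Genus1.Cover
import Groth.Agent.CurvFam16.Genus1.Geom
import Groth.Agent.CurveEmbed.Conic
import Groth.Agent.CurveCohLib.RegularCurve

set_option autoImplicit false
set_option linter.style.haveILetI false
set_option backward.isDefEq.respectTransparency false
set_option backward.isDefEq.respectTransparency.types false
universe u
open CategoryTheory CategoryTheory.Limits AlgebraicGeometry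
open Curves
attribute [local instance] Groth.Agent.CurveFF.ffAlg

namespace Groth.Agent.S11351

/-- Take an algebraically closed field k of characteristic different from 2 and an elliptic curve X over
k (integral, proper over k, of dimension one, all local rings regular, of genus dim_k H^1(X, O_X) =
1), and let f₁, f₂ : X → P^1_k be two finite morphisms over k of degree 2 (the direct image of O_X
is locally free of rank 2). Then there are an automorphism σ of X over k and an automorphism τ of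
P^1_k over k such that f₂ ∘ σ = τ ∘ f₁. -/
theorem result (k : Type u) [Field k] [IsAlgClosed k] (X : Scheme.{u}) [X.Over (Spec (CommRingCat.of k))]
    [IsIntegral X] [IsProper (X ↘ (Spec (CommRingCat.of k)))] (hdim : topologicalKrullDim X = 1)
    (hreg : ∀ x : X, IsRegularLocalRing (X.presheaf.stalk x)) (hchar : ringChar k ≠ 2) (hg : Curv2.genus k X = 1)
    (f₁ f₂ : X ⟶ (CohB1.ProjSpace 1 k)) [IsFinite f₁] [IsFinite f₂]
    (hf₁ : f₁ ≫ CohB1.ProjSpace.toSpec 1 k = (X ↘ (Spec (CommRingCat.of k)))) (hf₂ : f₂ ≫ CohB1.ProjSpace.toSpec 1 k = (X ↘ (Spec (CommRingCat.of k))))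
    (hd₁ : FlatMod.IsFinLocFreeOfRank 2 ((Scheme.Modules.pushforward f₁).obj (Coh.structureModule X)))
    (hd₂ : FlatMod.IsFinLocFreeOfRank 2 ((Scheme.Modules.pushforward f₂).obj (Coh.structureModule X))) :
    ∃ (σ : X ≅ X) (τ : (CohB1.ProjSpace 1 k) ≅ (CohB1.ProjSpace 1 k)), σ.hom ≫ (X ↘ (Spec (CommRingCat.of k))) = (X ↘ (Spec (CommRingCat.of k))) ∧
      τ.hom ≫ CohB1.ProjSpace.toSpec 1 k = CohB1.ProjSpace.toSpec 1 k ∧ σ.hom ≫ f₂ = f₁ ≫ τ.hom := by
  haveI : Smooth (X ↘ Spec (CommRingCat.of k)) :=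
    CurveCohLib.RegularCurve.smooth_of_regular k fun x _ => hreg x
  have hK := CurveFF.isFunctionField k X hdim
  have h2k : (2 : k) ≠ 0 := fun h => by
    haveI := ringChar.charP k
    have hdvd : ringChar k ∣ 2 := (ringChar.spec k 2).mp (by exact_mod_cast h)
    rcases (Nat.dvd_prime Nat.prime_two).mp hdvd with h1 | h1
    · exact CharP.ringChar_ne_one h1
    · exact hchar h1
  letI := H23.PnChart.isIntegral_projSpace 1 k
  letI : (CohB1.ProjSpace 1 k).Over (Spec (CommRingCat.of k)) := ⟨CohB1.ProjSpace.toSpec 1 k⟩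
  haveI : IsProper ((CohB1.ProjSpace 1 k) ↘ Spec (CommRingCat.of k)) := PnCoh.Chow.isProper_toSpec 1 k
  haveI : Smooth ((CohB1.ProjSpace 1 k) ↘ Spec (CommRingCat.of k)) := CurveEmbed.smooth_toSpec 1 k
  haveI : (CohB1.ProjSpace 1 k).IsSeparated := ⟨by
    rw [← Limits.terminal.comp_from ((CohB1.ProjSpace 1 k) ↘ Spec (CommRingCat.of k))]; infer_instance⟩
  have hP : topologicalKrullDim ↥(CohB1.ProjSpace 1 k) = 1 := by simpa using S10829.result k 1
  obtain ⟨ψ₁, t₁, hr₁, ht₁, hR₁, hk₁⟩ := CurvFam16.Genus1.exists_range hdim rfl f₁ hf₁ hd₁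
  obtain ⟨ψ₂, t₂, hr₂, ht₂, hR₂, hk₂⟩ := CurvFam16.Genus1.exists_range hdim rfl f₂ hf₂ hd₂
  obtain ⟨w, hw⟩ := CurvFam16.Genus1.exists_aut_maps hK
    (by rw [CurveFF.genus_eq k hdim]; exact_mod_cast hg) h2k ht₁ ht₂ hk₁ hk₂
  have hrange : ((w : X.functionField →ₐ[k] X.functionField).comp ψ₁).fieldRange = ψ₂.fieldRange := by
    rw [hR₂, ← hw, ← hR₁, AlgHom.map_fieldRange]
  let v := ((AlgEquiv.ofInjectiveField ((w : X.functionField →ₐ[k] X.functionField).comp ψ₁)).trans
    (IntermediateField.equivOfEq hrange)).trans (AlgEquiv.ofInjectiveField ψ₂).symm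
  have hv : ∀ a, ψ₂ (v a) = w (ψ₁ a) := fun a =>
    congrArg Subtype.val ((AlgEquiv.ofInjectiveField ψ₂).apply_symm_apply _)
  have hv' : ∀ a, w.symm (ψ₂ a) = ψ₁ (v.symm a) := fun a => by
    have h := hv (v.symm a)
    rw [AlgEquiv.apply_symm_apply] at h
    rw [h, AlgEquiv.symm_apply_apply]
  obtain ⟨H, hH, hrH⟩ := CurvFam16.Genus1.exists_iso hdim w.symm
  obtain ⟨T, hT, hrT⟩ := CurvFam16.FFHom.exists_iso hP hP v.symm
  refine ⟨H, T, hH, hT, CurvFam16.FFHom.Restricts.unique (hrH.comp hr₂) ?_⟩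
  convert hr₁.comp hrT using 1
  exact CommRingCat.hom_ext (RingHom.ext fun a => hv' a)

end Groth.Agent.S11351
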