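import Groth.Statements.S11371

import Groth.Agent.VarBase.IntegralSub
import Groth.Agent.IntNum47.NumInv

set_option autoImplicit false
set_option linter.style.haveILetI false
set_option linter.unusedSectionVars false
set_option backward.isDefEq.respectTransparency false
set_option backward.isDefEq.respectTransparency.types false
universe u
open CategoryTheory CategoryTheory.Limits AlgebraicGeometry TopologicalSpace
open Variety

namespace Groth.Agent.S11371

/-- Let X be proper over an algebraically closed field k and L, L' invertible O_X-modules that are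
numerically equivalent: (L · C) = (L' · C), i.e. χ(O_C ⊗ L) = χ(O_C ⊗ L'), for every integral closed
subscheme C ⊆ X of dimension one. If L is ample then L' is ample. (The published statement is
phrased for Cartier divisors; it depends on them only through the associated invertible modules, and
the printed reduction to integral X covers every invertible module.) -/
theorem result (k : Type u) [Field k] [IsAlgClosed k] (X : Scheme.{u})
    [X.Over (Spec (CommRingCat.of k))] [IsProper (X ↘ (Spec (CommRingCat.of k)))]
    (L L' : X.Modules) (hL : PicF.IsInvertible L) (hL' : PicF.IsInvertible L')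
    (hnum : ∀ C : X.IdealSheafData, IsIntegral C.subscheme →
      topologicalKrullDim (C.support : Set X) = 1 →
        Curv2.euler k X (CohB1.tensorMod (ClSub.quotMod C) L) =
          Curv2.euler k X (CohB1.tensorMod (ClSub.quotMod C) L'))
    (hamp : CohB1.IsAmple L) : CohB1.IsAmple L' := by
  haveI := Groth.Agent.CurveCohLib.isNoetherian_of_proper (k := k) (X := X)
  have hdeg : Groth.Agent.IntNum47.SameDeg k L L' := fun Y i hi hY hY1 => by
    haveI := hi
    haveI := hY
    obtain ⟨C, hC, -, hd, ⟨e⟩⟩ := Groth.Agent.VarBase.exists_ideal_of_integral i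
    have h := hnum C hC (hd.trans hY1)
    have hadd : ∀ A : X.Modules, PicF.IsInvertible A →
        Groth.Agent.HilbPoly.iterD [A] (Curv2.euler k X) (ClSub.quotMod C) =
          Groth.Agent.HilbPoly.iterD [A] (Curv2.euler k X) ((Coh.push i).obj (Coh.structureModule Y)) := fun A hA =>
      (Groth.Agent.HilbPoly.additive_iterD (Groth.Agent.HilbPoly.additive_euler k)
        (fun B hB => (List.mem_singleton.1 hB) ▸ hA)).iso _ _ ⟨e⟩
    rw [← hadd L hL, ← hadd L' hL']
    show Curv2.euler k X (CohB1.tensorMod (ClSub.quotMod C) L) - _ =
      Curv2.euler k X (CohB1.tensorMod (ClSub.quotMod C) L') - _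
    rw [h]
  have hpos := Groth.Agent.VarBase.posOn_of_isAmple k hamp
  refine Groth.Agent.VarBase.isAmple_of_posOn k hL' fun Z i hi hZ d hd hdim => ?_
  haveI := hi
  have hF : Coh.IsCoh ((Coh.push i).obj (Coh.structureModule Z)) := Groth.Agent.QCoh.isCoh_push_structure i
  have h : Groth.Agent.HilbPoly.mult k L d ((Coh.push i).obj (Coh.structureModule Z)) =
      Groth.Agent.HilbPoly.mult k L' d ((Coh.push i).obj (Coh.structureModule Z)) := by
    refine Groth.Agent.IntNum47.iterD_eq_of_forall₂ k (l := List.replicate d L) (l' := List.replicate d L')
      (List.forall₂_iff_get.2 ⟨by simp, fun n h₁ h₂ => by simpa using ⟨hL, hL', hdeg⟩⟩) [] (by simp) _ hF ?_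
    refine ((Groth.Agent.H23.TopDim.dim_le_dim_of_subset
      (Groth.Agent.QCoh.support_push_subset i Groth.Agent.QCoh.isQCoh_structureModule)).trans
      ((Groth.Agent.VarBase.dim_range i).trans hdim).le).trans_lt ?_
    simp only [List.length_nil, List.length_replicate, zero_add]
    exact_mod_cast Nat.lt_succ_self d
  rw [← h]
  exact hpos Z i hi hZ d hd hdim

end Groth.Agent.S11371
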