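import Groth.Statements.S11377
import Groth.Agent.H75.Descend

set_option autoImplicit false
universe u
open CategoryTheory CategoryTheory.Limits AlgebraicGeometry TopologicalSpace
open CohDim

namespace Groth.Agent.S11377

/-- Let S be an integral scheme, separated and of finite type over an algebraically closed field k, with
all local rings regular, let L be an ample invertible O_S-module with tensor inverse M (so S is
quasi-projective and M^{⊗m} plays the role of O_S(-m)), and let r ≥ 0. If there is m₀ such that
H^i(S, M^{⊗m}) = 0 for every i > r and every m ≥ m₀, then H^i(S, F) = 0 for every i > r and every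
coherent O_S-module F. (The published statement takes O_S(1) from a quasi-projective embedding; the
printed proof uses only that F ⊗ O_S(m) is generated by finitely many global sections for m ≫ 0,
which holds for any ample L.) -/
theorem result (k : Type u) [Field k] [IsAlgClosed k] (S : Scheme.{u})
    [S.Over (Spec (CommRingCat.of k))] [IsSeparated (S ↘ (Spec (CommRingCat.of k)))]
    [LocallyOfFiniteType (S ↘ (Spec (CommRingCat.of k)))] [QuasiCompact (S ↘ (Spec (CommRingCat.of k)))]
    [IsIntegral S] (hreg : ∀ x : S, IsRegularLocalRing (S.presheaf.stalk x))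
    (L M : S.Modules) (hL : CohB1.IsAmple L) (hM : ClSub.IsInverseOf M L) (r : ℕ)
    (hneg : ∃ m₀ : ℕ, ∀ m : ℕ, m₀ ≤ m → ∀ i : ℕ, r < i → Subsingleton (Coh.HH S (CohB1.tensorPow M m) i))
    (F : S.Modules) (hF : Coh.IsCoh F) (i : ℕ) (hi : r < i) :
    Subsingleton (Coh.HH S F i) := by
  haveI : IsNoetherianRing ↑(CommRingCat.of k) := inferInstanceAs (IsNoetherianRing k)
  haveI : IsLocallyNoetherian S := LocallyOfFiniteType.isLocallyNoetherian (S ↘ Spec (CommRingCat.of k))
  haveI : CompactSpace S := QuasiCompact.compactSpace_of_compactSpace (S ↘ Spec (CommRingCat.of k))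
  haveI : IsNoetherian S := {}
  haveI : S.IsSeparated := ⟨by
    rw [Subsingleton.elim (terminal.from S) ((S ↘ Spec (CommRingCat.of k)) ≫ terminal.from _)]
    infer_instance⟩
  obtain ⟨m₀, hm₀⟩ := hneg
  refine Groth.Agent.H75.subsingleton_HH_of_quotients r (fun G hG => ?_) F hF i hi
  haveI := Groth.Agent.QCoh.hasFiniteBiproducts S
  obtain ⟨n, hn, c, p, hp⟩ := Groth.Agent.H75.exists_epi_negPow hL hM m₀ G hG
  refine ⟨_, p, hp, Groth.Agent.QCoh.isCoh_biproduct _ (fun _ => Groth.Agent.AmpleVan.isCoh_invertible
    (Groth.Agent.InvX.isInvertible_tensorPow (Groth.Agent.H75.isInvertible_inverse hL.1 hM) n)), fun j hj => ?_⟩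
  let T : ULift.{u} (Fin c) → S.Modules := fun _ => CohB1.tensorPow M n
  exact Groth.Agent.PnCoh.Finite.subsingleton_HH_of_decomposition (E := ⨁ T) T
    (biproduct.π T) (biproduct.ι T) (Groth.Agent.QCoh.biproduct_total' T) j (fun _ => hm₀ n hn j hj)

end Groth.Agent.S11377
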