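import Groth.Statements.S11386
import Groth.Agent.H75.LinAvoid
import Groth.Agent.H75.GGMul
import Groth.Agent.SurfInt.Restrict
import Groth.Agent.CIX45.Scheme
import Groth.Agent.CurveCohLib.Euler
import Groth.Agent.QCoh.Bound
import Groth.Agent.S0845
import Groth.Agent.S0002
-- import your own Groth.Agent.* helpers here

set_option autoImplicit false
set_option linter.style.haveILetI false
set_option backward.isDefEq.respectTransparency false
set_option backward.isDefEq.respectTransparency.types false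
attribute [-instance] CategoryTheory.catToReflQuiver
universe u
open CategoryTheory CategoryTheory.Limits AlgebraicGeometry TopologicalSpace
open CohDim

namespace Groth.Agent.S11386

open Groth.Agent

/-- Degree `m` forms in at least two variables span a space of dimension more than `m`. -/
theorem lt_finrank_homogeneous (k : Type u) [Field k] (c m : ℕ)
    [Module.Finite k ↥(MvPolynomial.homogeneousSubmodule (Fin (c + 2)) k m)] :
    m < Module.finrank k ↥(MvPolynomial.homogeneousSubmodule (Fin (c + 2)) k m) := by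
  let e : Fin (m + 1) → (Fin (c + 2) →₀ ℕ) := fun i => Finsupp.single 0 i.1 + Finsupp.single 1 (m - i.1)
  have he : Function.Injective e := fun i j h => Fin.ext (by
    have h0 := DFunLike.congr_fun h 0
    simpa [e] using h0)
  let v : Fin (m + 1) → ↥(MvPolynomial.homogeneousSubmodule (Fin (c + 2)) k m) := fun i =>
    ⟨MvPolynomial.monomial (e i) 1, (MvPolynomial.mem_homogeneousSubmodule _ _).2
      (MvPolynomial.isHomogeneous_monomial _ (by
      show (e i).degree = m
      simp only [e, map_add, Finsupp.degree_single]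
      omega))⟩
  have hv : LinearIndependent k v := by
    refine LinearIndependent.of_comp (Submodule.subtype _) ?_
    exact ((MvPolynomial.basisMonomials (Fin (c + 2)) k).linearIndependent.comp e he)
  simpa using hv.fintype_card_le_finrank

/-- The top cohomology of a hypersurface of degree `(c + 2) + m` has dimension more than `m`. -/
theorem lt_finrank_quot_hypIdeal (k : Type u) [Field k] (c m : ℕ)
    [IsProper ((CohB1.ProjSpace (c + 1) k) ↘ Spec (CommRingCat.of k))] {d : ℕ}
    (G : LefPen.Form (c + 1) k d) (hG : G ≠ 0) (hd : d = c + 2 + m) :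
    m < Module.finrank k (Coh.HH (CohB1.ProjSpace (c + 1) k) (ClSub.quotMod (LefPen.hypIdeal G)) c) := by
  haveI := CurveCohLib.isNoetherian_of_proper (k := k) (X := CohB1.ProjSpace (c + 1) k)
  have hS := SurfInt.idealSeq_shortExact (LefPen.hypIdeal G)
  set S := SurfInt.idealSeq (LefPen.hypIdeal G)
  haveI : Subsingleton (Coh.HH (CohB1.ProjSpace (c + 1) k) S.X₂ (c + 1)) :=
    PnCoh.subsingleton_HH_structureModule (ι := Fin (c + 1 + 1)) (R := k) QCoh.isQCoh_structureModule c
  have hsurj : Function.Surjective (PnCoh.Finite.deltaLin k hS c) := by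
    rw [← LinearMap.range_eq_top, ← CurveCohLib.ker_mapLin_f_succ k hS c, LinearMap.ker_eq_top]
    exact LinearMap.ext fun x => Subsingleton.elim _ _
  haveI : Module.Finite k (Coh.HH (CohB1.ProjSpace (c + 1) k) S.X₃ c) :=
    S0002.result k _ _ (ParShLib.isCoh_quotMod _) c
  have h1 := LinearMap.finrank_range_of_inj (f := (LinearMap.range (PnCoh.Finite.deltaLin k hS c)).subtype) Subtype.val_injective
  have h2 : Module.finrank k (Coh.HH (CohB1.ProjSpace (c + 1) k) S.X₁ (c + 1)) ≤
      Module.finrank k (Coh.HH (CohB1.ProjSpace (c + 1) k) S.X₃ c) :=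
    LinearMap.finrank_le_finrank_of_surjective hsurj
  obtain ⟨e⟩ := CIX45.nonempty_idealMod_hypIdeal G hG
  obtain ⟨e'⟩ := S0845.result k (c + 1) m
  have h3 : Module.finrank k (Coh.HH (CohB1.ProjSpace (c + 1) k) S.X₁ (c + 1)) =
      Module.finrank k ↥(MvPolynomial.homogeneousSubmodule (Fin (c + 1 + 1)) k m) := by
    refine (HilbPoly.finrank_HH_iso k e (c + 1)).trans ?_
    rw [show (-(d : ℤ)) = -(((c + 1 : ℕ) : ℤ) + 1 + m) by rw [hd]; push_cast; ring]
    exact e'.finrank_eq
  haveI : Module.Finite k ↥(MvPolynomial.homogeneousSubmodule (Fin (c + 2)) k m) :=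
    haveI := S0002.result k (CohB1.ProjSpace (c + 1) k) _
      (AmpleVan.isCoh_invertible (H75.GGMul.isInvertible_twist (-(((c + 1 : ℕ) : ℤ) + 1 + m)))) (c + 1)
    Module.Finite.equiv e'
  have h4 := lt_finrank_homogeneous k c m
  exact h4.trans_le (h3.symm.le.trans h2)

/-- Let k be an algebraically closed field and Y ⊆ P = P^n_k a closed subset of dimension s with s + 1 ≤
n which is a set-theoretic complete intersection, i.e. the common zero set of n - s homogeneous
forms of positive degrees; let U = P ∖ Y. Then cd(U) = q(U) = n - s - 1: H^i(U, F) = 0 for every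
coherent O_U-module F and every i > n - s - 1, while H^{n-s-1}(U, F) is infinite-dimensional over k
for some coherent O_U-module F. -/
theorem result (k : Type u) [Field k] [IsAlgClosed k] (n : ℕ) (s : ℕ) (hs : s + 1 ≤ n)
    (a : Fin (n - s) → ℕ) (ha : ∀ j, 1 ≤ a j) (G : ∀ j : Fin (n - s), LefPen.Form n k (a j))
    (hdim : topologicalKrullDim ((LefPen.ciIdeal G).support : Set (CohB1.ProjSpace n k)) = s)
    (U : (CohB1.ProjSpace n k).Opens)
    (hU : (U : Set (CohB1.ProjSpace n k)) = ((LefPen.ciIdeal G).support : Set (CohB1.ProjSpace n k))ᶜ) :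
    (∀ F : (U : Scheme.{u}).Modules, Coh.IsCoh F → ∀ i : ℕ, n - s - 1 < i →
        Subsingleton (Coh.HH (U : Scheme.{u}) F i)) ∧
      ∃ F : (U : Scheme.{u}).Modules, Coh.IsCoh F ∧
        ¬ Module.Finite k (Coh.HH (U : Scheme.{u}) F (n - s - 1)) := by
  set Y : Set (CohB1.ProjSpace n k) := ((LefPen.ciIdeal G).support : Set (CohB1.ProjSpace n k))
  obtain ⟨c, hc⟩ : ∃ c, n - s = c + 1 := ⟨n - s - 1, by omega⟩
  haveI : IsProper ((CohB1.ProjSpace n k) ↘ Spec (CommRingCat.of k)) := PnCoh.Chow.isProper_toSpec n k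
  haveI := CurveCohLib.isNoetherian_of_proper (k := k) (X := CohB1.ProjSpace n k)
  haveI : (CohB1.ProjSpace n k).IsSeparated := SurfInt.isSeparated_of_proper k
  haveI : (U : Scheme.{u}).IsSeparated :=
    ⟨by rw [← terminal.comp_from U.ι]; infer_instance⟩
  have hmem : ∀ x, x ∈ U ↔ ∃ j, x ∈ Proj.basicOpen (CohB1.polyGrading n k) (G j).1 := fun x => by
    rw [← SetLike.mem_coe, hU, Set.mem_compl_iff, SetLike.mem_coe, CIX45.mem_support_ciIdeal ha G x, CIX45.pI,
      Ideal.span_le, Set.range_subset_iff, not_forall]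
    exact Iff.rfl
  -- part one: `n - s` affine opens cover `U`
  have hvan : ∀ M : (U : Scheme.{u}).Modules, Coh.IsQCoh M → ∀ i : ℕ, n - s ≤ i →
      Subsingleton (Coh.HH (U : Scheme.{u}) M i) := by
    intro M hM i hi
    refine QCoh.HH_subsingleton_of_cover (n - s)
      (fun j => U.ι ⁻¹ᵁ Proj.basicOpen (CohB1.polyGrading n k) (G j).1) (fun j => ?_) ?_
      (fun V W hV hW => hV.inf hW) hM i hi
    · refine (Proj.isAffineOpen_basicOpen (CohB1.polyGrading n k) (G j).1 (G j).2 (ha j)).preimage_of_isOpenImmersion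
        U.ι ?_
      rw [Scheme.Opens.opensRange_ι]
      exact fun x hx => (hmem x).2 ⟨j, hx⟩
    · refine top_unique fun x _ => ?_
      obtain ⟨j, hj⟩ := (hmem (U.ι x)).1 x.2
      exact TopologicalSpace.Opens.mem_iSup.2 ⟨j, hj⟩
  refine ⟨fun F hF i hi => hvan F hF.1 i (by omega), Coh.structureModule _, QCoh.isCoh_structureModule', fun hfin => ?_⟩
  rw [hc, Nat.add_sub_cancel] at hfin
  -- a linear subspace and a hypersurface of it inside `U`
  haveI : Infinite k := inferInstance
  obtain ⟨j, hj, hjk, hjY⟩ := Groth.Agent.H75.exists_linear_subspace_finite ha G s (c + 1) (by omega) hdim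
  haveI : IsProper ((CohB1.ProjSpace (c + 1) k) ↘ Spec (CommRingCat.of k)) := PnCoh.Chow.isProper_toSpec (c + 1) k
  obtain ⟨y₀, -⟩ := VarDim.ProjN.exists_point (k := k) (n := c + 1) Ideal.isPrime_bot
    (Ideal.IsHomogeneous.bot _) (fun h => MvPolynomial.X_ne_zero (R := k) (0 : Fin (c + 1 + 1)) (by
      have : MvPolynomial.X 0 ∈ VarDim.ProjN.vertex k (c + 1) := MvPolynomial.constantCoeff_X k 0
      rw [← h] at this
      exact this))
  obtain ⟨d, l, hd, hl, hlY'⟩ := SerreVan45.exists_form (insert y₀ (j ⁻¹' Y)) (hjY.insert y₀)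
  have hlY : ∀ y ∈ j ⁻¹' Y, y ∈ Proj.basicOpen (CohB1.polyGrading (c + 1) k) l := fun y hy =>
    hlY' y (Set.mem_insert_of_mem _ hy)
  set D := Module.finrank k (Coh.HH (U : Scheme.{u}) (Coh.structureModule _) c)
  obtain ⟨t, m, ht, hm, htm⟩ : ∃ t m, 0 < t ∧ D ≤ m ∧ t * d = c + 2 + m :=
    ⟨c + 2 + D, (c + 2 + D) * d - (c + 2), by omega, by
      have := Nat.le_mul_of_pos_right (c + 2 + D) hd; omega, by
      have := Nat.le_mul_of_pos_right (c + 2 + D) hd; omega⟩
  have hl0 : l ≠ 0 := by
    intro h0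
    exact hlY' y₀ (Set.mem_insert _ _) (by rw [h0]; exact zero_mem _)
  let L : LefPen.Form (c + 1) k (t * d) := ⟨l ^ t, by
    rw [mul_comm]; exact SetLike.pow_mem_graded t hl |> fun h => by simpa [mul_comm] using h⟩
  have hL : L ≠ 0 := fun h => pow_ne_zero t hl0 (congrArg Subtype.val h)
  have key := lt_finrank_quot_hypIdeal k c m L hL htm
  set K := LefPen.hypIdeal L
  have hKU : Set.range (K.subschemeι ≫ j) ⊆ Set.range U.ι := by
    rintro _ ⟨z, rfl⟩
    rw [Scheme.Opens.range_ι, hU]
    intro hY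
    have hz : K.subschemeι z ∈ (K.support : Set _) := K.range_subschemeι ▸ ⟨z, rfl⟩
    exact hlY _ hY (Ideal.IsPrime.mem_of_pow_mem (K.subschemeι z).isPrime t
      ((CIX45.mem_support_hypIdeal (by positivity) L _).1 hz))
  let g : K.subscheme ⟶ (U : Scheme.{u}) := IsOpenImmersion.lift U.ι (K.subschemeι ≫ j) hKU
  have hg : g ≫ U.ι = K.subschemeι ≫ j := IsOpenImmersion.lift_fac _ _ _
  haveI : IsClosedImmersion g := by
    haveI : IsClosedImmersion (g ≫ U.ι) := hg ▸ inferInstance
    exact IsClosedImmersion.of_comp g U.ι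
  letI : K.subscheme.Over (Spec (CommRingCat.of k)) :=
    ⟨K.subschemeι ≫ CohB1.ProjSpace.toSpec (c + 1) k⟩
  -- the cohomology of the hypersurface is a quotient of that of `U`
  obtain ⟨eK⟩ := PnCoh.exists_linearEquiv_push k K.subschemeι rfl
    (QCoh.isQCoh_structureModule (X := K.subscheme)) c
  let I := g.ker
  let h : K.subscheme ⟶ I.subscheme := g.toImage
  have hh : h ≫ I.subschemeι = g := g.toImage_imageι
  haveI : IsIso h := inferInstance
  letI : I.subscheme.Over (Spec (CommRingCat.of k)) :=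
    ⟨I.subschemeι ≫ ((U : Scheme.{u}) ↘ Spec (CommRingCat.of k))⟩
  have hhk : h ≫ (I.subscheme ↘ Spec (CommRingCat.of k)) = K.subscheme ↘ Spec (CommRingCat.of k) := by
    show h ≫ I.subschemeι ≫ U.ι ≫ CohB1.ProjSpace.toSpec n k = K.subschemeι ≫ CohB1.ProjSpace.toSpec (c + 1) k
    rw [← Category.assoc, hh, ← Category.assoc, hg, Category.assoc, hjk]
  obtain ⟨eh⟩ := PnCoh.exists_linearEquiv_push k h hhk (QCoh.isQCoh_structureModule (X := K.subscheme)) c
  obtain ⟨eI⟩ := PnCoh.exists_linearEquiv_push k I.subschemeι rfl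
    (QCoh.isQCoh_structureModule (X := I.subscheme)) c
  have hpush : Nonempty ((Coh.push h).obj (Coh.structureModule K.subscheme) ≅ Coh.structureModule I.subscheme) :=
    ⟨(Coh.push h).mapIso (Scheme.Modules.restrictUnitIso h).symm ≪≫
      (@asIso _ _ _ _ ((Scheme.Modules.restrictAdjunction h).unit.app (Coh.structureModule I.subscheme))
        (CurveTensor.isIso_unit_of_isIso h _)).symm⟩
  obtain ⟨ep⟩ := hpush
  have h1 : Module.finrank k (Coh.HH (CohB1.ProjSpace (c + 1) k) (ClSub.quotMod K) c) =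
      Module.finrank k (Coh.HH (U : Scheme.{u}) (ClSub.quotMod I) c) :=
    eK.finrank_eq.symm.trans (eh.finrank_eq.trans ((HilbPoly.finrank_HH_iso k ep c).trans eI.finrank_eq))
  have hS := SurfInt.idealSeq_shortExact I
  have hIq : Coh.IsQCoh (ClSub.idealMod I) := (SurfInt.isCoh_idealMod I).1
  haveI : Subsingleton (Coh.HH (U : Scheme.{u}) (SurfInt.idealSeq I).X₁ (c + 1)) := hvan _ hIq _ (by omega)
  have hsurj : Function.Surjective (PnCoh.Finite.mapLin k (SurfInt.idealSeq I).g c) := by
    rw [← LinearMap.range_eq_top, ← CurveCohLib.ker_deltaLin k hS c, LinearMap.ker_eq_top]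
    exact LinearMap.ext fun x => Subsingleton.elim _ _
  haveI : Module.Finite k (Coh.HH (U : Scheme.{u}) (SurfInt.idealSeq I).X₂ c) := hfin
  have h2 : Module.finrank k (Coh.HH (U : Scheme.{u}) (ClSub.quotMod I) c) ≤ D :=
    LinearMap.finrank_le_finrank_of_surjective hsurj
  omega

end Groth.Agent.S11386
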