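import Groth.Statements.S1139
import Groth.Agent.PurX.Bridge
import Groth.Agent.PurX.DualHyp
-- import your own Groth.Agent.* helpers here

set_option autoImplicit false
universe u
attribute [local instance] HasDerivedCategory.standard
open Pi1

namespace Groth.Agent.S1139

open AlgebraicGeometry CategoryTheory CategoryTheory.Limits in
/-- Let A be a Noetherian local ring with a dualizing complex, f an element of the maximal ideal with
(A, (f)) a henselian pair, and assume either that the ring A_f satisfies (S_2) while all irreducible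
components of Spec A meeting the locus f ≠ 0 have dimension at least 3, or that depth(A_p) +
dim(A/p) > 2 for every prime p not containing f. Then restricting finite etale covers from the
punctured spectrum of A to the punctured spectrum of A/fA is fully faithful. -/
theorem result (A : Type u) [CommRing A] [IsNoetherianRing A] [IsLocalRing A] (f : A) (hf : f ∈ IsLocalRing.maximalIdeal A) (hd : ∃ ω : Dual.D A, Dual.IsDualizing A ω)
    [HenselianRing A (Ideal.span {f})]
    (hc : ((LocCoh.HasSk 2 (Localization.Away f) (Localization.Away f) ∧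
        ∀ p : Ideal A, p ∈ minimalPrimes A → f ∉ p → (3 : WithBot ℕ∞) ≤ ringKrullDim (A ⧸ p)) ∨
      (∀ p : Ideal A, ∀ _ : p.IsPrime, f ∉ p →
        (2 : WithBot ℕ∞) < (LocCoh.depth (Localization.AtPrime p) (Localization.AtPrime p) : WithBot ℕ∞) + ringKrullDim (A ⧸ p)))) :
    (FEt.restrict (pullback.fst (FEt.puncturedSpec A).ι (Spec.map (CommRingCat.ofHom (Ideal.Quotient.mk (Ideal.span {f})))))).Full ∧ (FEt.restrict (pullback.fst (FEt.puncturedSpec A).ι (Spec.map (CommRingCat.ofHom (Ideal.Quotient.mk (Ideal.span {f})))))).Faithful := by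
  haveI : IsNoetherianRing A := inferInstance
  obtain ⟨ω, hω⟩ := hd
  obtain ⟨N, hN⟩ := Groth.Agent.PurX.exists_kill_of_depth_add_dim hω f 2 (by
    rcases hc with ⟨hsk, hdim⟩ | h
    · exact fun p hp hfp => Groth.Agent.PurX.depth_add_dim_of_hasSk hω f hf 2 hsk hdim le_rfl p hp hfp
    · exact h)
  obtain ⟨k, g, hg⟩ := Groth.Agent.PurX.exists_gens (IsLocalRing.maximalIdeal A)
  have h0 := Groth.Agent.PurX.h0Killed_of_H g hg (ModuleCat.of A A) (f ^ N) (hN 1 one_le_two)
  have h1 := Groth.Agent.PurX.h1Killed_of_H g hg (ModuleCat.of A A) (f ^ N) (hN 2 le_rfl)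
  exact Groth.Agent.PurX.restrict_ff_of_killed f hf g hg h0 h1

end Groth.Agent.S1139
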