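import Groth.Statements.S11393
import Groth.Agent.Growth22.FormalLocal
-- import your own Groth.Agent.* helpers here

set_option autoImplicit false
universe u
open CategoryTheory CategoryTheory.Limits AlgebraicGeometry TopologicalSpace
open Variety

namespace Groth.Agent.S11393

set_option linter.style.haveILetI false
set_option linter.unusedSectionVars false
set_option maxHeartbeats 1000000
set_option backward.isDefEq.respectTransparency false
set_option backward.isDefEq.respectTransparency.types false
/-- Let X be proper over an algebraically closed field k and 𝓘 a quasi-coherent ideal whose closed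
subscheme Y is connected (and nonempty); let Y_m be the closed subscheme of 𝓘^{m+1} and A = lim_m
Γ(Y_m, O_{Y_m}) the ring of formal-regular functions along Y (global sections of the structure sheaf
of the formal completion), formed as the limit in commutative rings along the restriction maps
Γ(Y_{m+1}, O) → Γ(Y_m, O). Then A is a local ring, and every element a of A differs from the image
of some constant c ∈ k by an element whose image in each Γ(Y_m, O_{Y_m}) is nilpotent (so the
residue field of A is k through the structure map). (The published statement also asserts that A is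
a complete local ring; that clause is not included here.) -/
theorem result (k : Type u) [Field k] [IsAlgClosed k] (X : Scheme.{u})
    [X.Over (Spec (CommRingCat.of k))] [IsProper (X ↘ (Spec (CommRingCat.of k)))]
    (𝓘 : X.IdealSheafData) (hY : _root_.IsConnected (𝓘.support : Set X)) :
    IsLocalRing ↑(limit (Functor.ofOpSequence
        (X := fun m : ℕ => Γ((𝓘 ^ (m + 1)).subscheme, ⊤))
        (fun m : ℕ => (Scheme.IdealSheafData.inclusion (Lef.pow_succ_le 𝓘 m)).appTop))) ∧
      ∀ a : ↑(limit (Functor.ofOpSequence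
        (X := fun m : ℕ => Γ((𝓘 ^ (m + 1)).subscheme, ⊤))
        (fun m : ℕ => (Scheme.IdealSheafData.inclusion (Lef.pow_succ_le 𝓘 m)).appTop))),
        ∃ c : k, ∀ m : ℕ, IsNilpotent (Sub.sub (α := ↑Γ((𝓘 ^ (m + 1)).subscheme, ⊤))
          ((limit.π (Functor.ofOpSequence
              (X := fun m : ℕ => Γ((𝓘 ^ (m + 1)).subscheme, ⊤))
              (fun m : ℕ => (Scheme.IdealSheafData.inclusion (Lef.pow_succ_le 𝓘 m)).appTop)) (Opposite.op m)).hom a)
          (((𝓘 ^ (m + 1)).subschemeι ≫ (X ↘ Spec (CommRingCat.of k))).appTop.hom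
            ((Scheme.ΓSpecIso (CommRingCat.of k)).inv.hom c))) := by
  have key : ∀ m : ℕ, (((𝓘 ^ (m + 1)).subschemeι ≫ (X ↘ Spec (CommRingCat.of k))).appTop.hom.comp
      (Scheme.ΓSpecIso (CommRingCat.of k)).inv.hom).IsIntegral ∧
      Nontrivial Γ((𝓘 ^ (m + 1)).subscheme, ⊤) ∧
      ∀ e : Γ((𝓘 ^ (m + 1)).subscheme, ⊤), IsIdempotentElem e → e = 0 ∨ e = 1 := fun m => by
    haveI : ConnectedSpace ↥(𝓘 ^ (m + 1)).subscheme := by
      have h : _root_.IsConnected (Set.range (𝓘 ^ (m + 1)).subschemeι) := by
        rw [Scheme.IdealSheafData.range_subschemeι, Scheme.IdealSheafData.support_pow_succ]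
        exact hY
      exact (Set.range_nonempty_iff_nonempty.1 h.nonempty).elim fun y =>
        { toNonempty := ⟨y⟩
          isPreconnected_univ := ((𝓘 ^ (m + 1)).subschemeι.isEmbedding.isInducing.isPreconnected_image).1
            (by rw [Set.image_univ]; exact h.isPreconnected) }
    exact Growth22.FormalLocal.globalFunctions k _
  haveI : ∀ m, Nontrivial Γ((𝓘 ^ (m + 1)).subscheme, ⊤) := fun m => (key m).2.1
  have hdich : ∀ (m : ℕ) (a : Γ((𝓘 ^ (m + 1)).subscheme, ⊤)), IsUnit a ∨ IsNilpotent a := fun m a =>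
    Growth22.FormalLocal.isUnit_or_isNilpotent _ (key m).1 (key m).2.2 a
  refine ⟨Growth22.FormalLocal.isLocalRing_limit _ hdich, fun a => ?_⟩
  let F := Functor.ofOpSequence (X := fun m : ℕ => Γ((𝓘 ^ (m + 1)).subscheme, ⊤))
    (fun m : ℕ => (Scheme.IdealSheafData.inclusion (Lef.pow_succ_le 𝓘 m)).appTop)
  let c₀ : ∀ m : ℕ, k → Γ((𝓘 ^ (m + 1)).subscheme, ⊤) := fun m c =>
    ((𝓘 ^ (m + 1)).subschemeι ≫ (X ↘ Spec (CommRingCat.of k))).appTop.hom
      ((Scheme.ΓSpecIso (CommRingCat.of k)).inv.hom c)
  obtain ⟨c, hc⟩ := Growth22.FormalLocal.exists_isNilpotent_sub _ (key 0).1 (key 0).2.2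
    ((limit.π F (Opposite.op 0)).hom a)
  refine ⟨c, fun m => (hdich m _).resolve_left fun hu => ?_⟩
  let φ : Γ((𝓘 ^ (m + 1)).subscheme, ⊤) →+* Γ((𝓘 ^ (0 + 1)).subscheme, ⊤) := (F.map (homOfLE m.zero_le).op).hom
  have hπ : φ ((limit.π F (Opposite.op m)).hom a) = (limit.π F (Opposite.op 0)).hom a :=
    congr(($(limit.w F (homOfLE m.zero_le).op)).hom a)
  have hconst : ∀ m : ℕ, (F.map (homOfLE m.zero_le).op).hom (c₀ m c) = c₀ 0 c := by
    intro m
    induction m with
    | zero =>
      rw [show (homOfLE (Nat.zero_le 0)).op = 𝟙 (Opposite.op 0) from rfl, F.map_id]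
      rfl
    | succ m ih =>
      rw [show (homOfLE (m + 1).zero_le).op = (homOfLE m.le_succ).op ≫ (homOfLE m.zero_le).op from rfl,
        F.map_comp]
      refine Eq.trans ?_ ih
      refine congrArg (F.map (homOfLE m.zero_le).op).hom ?_
      rw [Functor.ofOpSequence_map_homOfLE_succ]
      refine Eq.trans ?_ (congrArg (fun g => (Scheme.Hom.appTop g).hom ((Scheme.ΓSpecIso (CommRingCat.of k)).inv.hom c))
        (congrArg (· ≫ (X ↘ Spec (CommRingCat.of k))) (Scheme.IdealSheafData.inclusion_subschemeι (Lef.pow_succ_le 𝓘 m))))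
      simp only [Category.assoc, Scheme.Hom.comp_appTop]
      rfl
  refine hc.not_isUnit ?_
  let x : Γ((𝓘 ^ (m + 1)).subscheme, ⊤) := (limit.π F (Opposite.op m)).hom a
  have hu' : IsUnit (x - c₀ m c) := hu
  have h2 := hu'.map φ
  rw [map_sub, show φ (c₀ m c) = c₀ 0 c from hconst m, show φ x = _ from hπ] at h2
  exact h2

end Groth.Agent.S11393
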