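import Groth.Statements.S11400
import Groth.Agent.AGStr.Chev.RosDecomp

set_option autoImplicit false
universe u
open CategoryTheory MonoidalCategory CartesianMonoidalCategory MonObj GrpObj AlgebraicGeometry CategoryTheory.Limits
open AlgGrp

namespace Groth.Agent.S11400

/-- Over an algebraically closed field k, let G be a connected algebraic group (smooth k-group scheme of
finite type), let i : N → G be its largest connected affine normal algebraic subgroup G_aff (a
homomorphism and closed immersion from a smooth, connected, affine k-group scheme, normal in G,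
through which every other such subgroup factors), and let j : Z → G be the scheme-theoretic centre
of G. Then G = Z · G_aff, in the sense that the multiplication morphism Z × G_aff → G is surjective,
and G is commutative exactly when G_aff is. (The published statement also gives G = Z⁰_red · G_aff
and identifies the scheme-theoretic intersection Z ∩ G_aff with the centre of G_aff; those clauses
are not stated here.) -/
theorem result (k : Type u) [Field k] [IsAlgClosed k]
    (G : Over (Spec (CommRingCat.of k))) [GrpObj G] [Smooth G.hom] [QuasiCompact G.hom] [ConnectedSpace ↥G.left]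
    (N : Over (Spec (CommRingCat.of k))) [GrpObj N] (i : N ⟶ G) [IsMonHom i] [IsClosedImmersion i.left]
    [Smooth N.hom] [ConnectedSpace ↥N.left] [IsAffine N.left] (hN : AlgGrp.IsNormalHom i)
    (hNmax : ∀ (N' : Over (Spec (CommRingCat.of k))) [GrpObj N'] (i' : N' ⟶ G) [IsMonHom i'] [IsClosedImmersion i'.left]
      [Smooth N'.hom] [ConnectedSpace ↥N'.left] [IsAffine N'.left], AlgGrp.IsNormalHom i' → ∃ f : N' ⟶ N, f ≫ i = i')
    (Z : Over (Spec (CommRingCat.of k))) [GrpObj Z] (j : Z ⟶ G) (hZ : Red.IsCentre j) :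
    Surjective ((j ⊗ₘ i) ≫ μ[G]).left ∧ (IsCommMonObj G ↔ IsCommMonObj N) := by
  obtain ⟨M, _, a, I, _, p, _, _, hMl, hMq, hM, -, -, _, hIa, -, -, -, -, hka⟩ :=
    Groth.Agent.AGStr.Chev.exists_antiAffine_kernel G
  haveI := hMl; haveI := hMq; haveI := hIa
  obtain ⟨L, _, l, Q, _, q, _, _, hLa, hLs, hLc, hln, _, hqs, _, hk, hQp, hQs, hQc⟩ :=
    Groth.Agent.AGStr.Chev.exists_chevalley G
  haveI := hLa; haveI := hLs; haveI := hLc; haveI := hqs; haveI := hQp; haveI := hQs; haveI := hQc
  haveI : QuasiCompact L.hom := inferInstance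
  obtain ⟨_, hs⟩ := Groth.Agent.AGStr.Chev.surjective_mul_antiAffine l q hk a hM
    (fun M' _ _ _ j' _ _ h => Groth.Agent.AGStr.Chev.exists_factor_antiAffine_kernel a p hka h j')
  have hcen : ∀ {T : Over (Spec (CommRingCat.of k))} (x : T ⟶ M) (g : T ⟶ G), (x ≫ a) * g = g * (x ≫ a) :=
    fun x g => Groth.Agent.AGStr.Chev.commute_antiAffine hM a x g
  obtain ⟨b, hb⟩ := hNmax L l hln
  obtain ⟨z, hz⟩ := (hZ.2.2 M a).mpr fun X' x h => by
    rw [Category.comp_id]; exact hcen x h
  refine ⟨?_, ?_, ?_⟩
  · rw [show (l ⊗ₘ a) ≫ μ[G] = lift (snd L M ≫ z) (fst L M ≫ b) ≫ (j ⊗ₘ i) ≫ μ[G] by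
      rw [lift_map_assoc, Category.assoc, Category.assoc, hz, hb, MonObj.mul_eq_mul, MonObj.comp_mul,
        MonObj.comp_mul, tensorHom_fst, tensorHom_snd, lift_fst, lift_snd]
      exact (hcen _ _).symm, Over.comp_left] at hs
    haveI := hs
    exact Surjective.of_comp (lift (snd L M ≫ z) (fst L M ≫ b)).left ((j ⊗ₘ i) ≫ μ[G]).left
  · intro hG
    haveI : Mono i := (Over.forget _).mono_of_mono_map (inferInstanceAs (Mono i.left))
    refine ⟨?_⟩
    rw [← cancel_mono i, Category.assoc, IsMonHom.mul_hom i, ← BraidedCategory.braiding_naturality_assoc,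
      IsCommMonObj.mul_comm]
  · intro hN'
    haveI := hs
    haveI : LocallyOfFiniteType (L ⊗ M).hom := inferInstanceAs (LocallyOfFiniteType (pullback.fst L.hom M.hom ≫ L.hom))
    have hpt : ∀ x y : Groth.Agent.AGStr.Chev.pts k k ⟶ G, x * y = y * x := by
      intro x y
      obtain ⟨x', rfl⟩ := Groth.Agent.AGStr.Chev.point_lift ((l ⊗ₘ a) ≫ μ[G]) x
      obtain ⟨y', rfl⟩ := Groth.Agent.AGStr.Chev.point_lift ((l ⊗ₘ a) ≫ μ[G]) y
      simp only [MonObj.mul_eq_mul, MonObj.comp_mul, tensorHom_fst, tensorHom_snd, ← hb]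
      simp only [← Category.assoc]
      have h1 := fun (u v : Groth.Agent.AGStr.Chev.pts k k ⟶ N) =>
        show Commute (u ≫ i) (v ≫ i) by
          rw [Commute, SemiconjBy, ← MonObj.mul_comp, ← MonObj.mul_comp, mul_comm]
      exact ((h1 _ _).mul_right (hcen _ _).symm).mul_left
        ((show Commute _ _ from hcen _ _).mul_right (hcen _ _))
    haveI : Smooth (G ⊗ G).hom := inferInstanceAs (Smooth (pullback.fst G.hom G.hom ≫ G.hom))
    haveI : IsReduced (G ⊗ G).left := Groth.Agent.GrpSchLib.isReduced_of_smooth_field (G ⊗ G).hom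
    haveI : IsSeparated G.hom := Groth.Agent.GrpSchLib.AntiAffine.isSeparated_grp G
    refine ⟨Groth.Agent.AGStr.Chev.hom_ext_points fun r => ?_⟩
    simp only [MonObj.mul_eq_mul, MonObj.comp_mul, CartesianMonoidalCategory.braiding_hom_fst, CartesianMonoidalCategory.braiding_hom_snd]
    exact (hpt _ _)

end Groth.Agent.S11400
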