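import Groth.Statements.S11403
import Groth.Agent.AGStr.Chev.RosDecomp

set_option autoImplicit false
universe u
open CategoryTheory MonoidalCategory CartesianMonoidalCategory MonObj GrpObj AlgebraicGeometry CategoryTheory.Limits
open AlgGrp

namespace Groth.Agent.S11403

/-- Over an algebraically closed field k, let G be a connected algebraic group (smooth k-group scheme of
finite type), let i : N → G be its largest connected affine normal algebraic subgroup G_aff (a
homomorphism and closed immersion from a smooth, connected, affine k-group scheme, normal in G,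
through which every other such subgroup factors), and let j : M → G be its largest anti-affine
subgroup scheme G_ant (a homomorphism and closed immersion from a k-group scheme M whose only global
functions are the constants, through which every other such subgroup scheme factors). Then G = G_aff
· G_ant, in the sense that the multiplication morphism G_aff × G_ant → G is surjective, and G_ant is
the smallest closed subgroup scheme H of G with G = G_aff · H: every such H contains G_ant. (The
published statement adds that the scheme-theoretic intersection of G_aff and G_ant contains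
(G_ant)_aff as a normal subgroup of finite index; that clause is not stated here.) -/
theorem result (k : Type u) [Field k] [IsAlgClosed k]
    (G : Over (Spec (CommRingCat.of k))) [GrpObj G] [Smooth G.hom] [QuasiCompact G.hom] [ConnectedSpace ↥G.left]
    (N : Over (Spec (CommRingCat.of k))) [GrpObj N] (i : N ⟶ G) [IsMonHom i] [IsClosedImmersion i.left]
    [Smooth N.hom] [ConnectedSpace ↥N.left] [IsAffine N.left] (hN : AlgGrp.IsNormalHom i)
    (hNmax : ∀ (N' : Over (Spec (CommRingCat.of k))) [GrpObj N'] (i' : N' ⟶ G) [IsMonHom i'] [IsClosedImmersion i'.left]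
      [Smooth N'.hom] [ConnectedSpace ↥N'.left] [IsAffine N'.left], AlgGrp.IsNormalHom i' → ∃ f : N' ⟶ N, f ≫ i = i')
    (M : Over (Spec (CommRingCat.of k))) [GrpObj M] (j : M ⟶ G) [IsMonHom j] [IsClosedImmersion j.left]
    (hM : Function.Bijective ((Scheme.ΓSpecIso (CommRingCat.of k)).inv ≫ M.hom.appTop).hom)
    (hMmax : ∀ (M' : Over (Spec (CommRingCat.of k))) [GrpObj M'] (j' : M' ⟶ G) [IsMonHom j'] [IsClosedImmersion j'.left],
      Function.Bijective ((Scheme.ΓSpecIso (CommRingCat.of k)).inv ≫ M'.hom.appTop).hom → ∃ f : M' ⟶ M, f ≫ j = j') :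
    Surjective ((i ⊗ₘ j) ≫ μ[G]).left ∧
      ∀ (H : Over (Spec (CommRingCat.of k))) [GrpObj H] (h : H ⟶ G) [IsMonHom h] [IsClosedImmersion h.left],
        Surjective ((i ⊗ₘ h) ≫ μ[G]).left → ∃ f : M ⟶ H, f ≫ h = j := by
  have hM' := (Groth.Agent.GrpSchLib.AntiAffine.bijective_appTop_iff M.hom).mp hM
  have hmax' : ∀ (M' : Over (Spec (CommRingCat.of k))) [GrpObj M'] [LocallyOfFiniteType M'.hom] [QuasiCompact M'.hom]
      (j' : M' ⟶ G) [IsMonHom j'] [IsClosedImmersion j'.left], Function.Bijective M'.hom.appTop →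
      ∃ f : M' ⟶ M, f ≫ j = j' := fun M' _ _ _ j' _ _ h =>
    hMmax M' j' ((Groth.Agent.GrpSchLib.AntiAffine.bijective_appTop_iff M'.hom).mpr h)
  obtain ⟨L, _, l, Q, _, q, _, _, hLa, hLs, hLc, hln, _, hqs, _, hk, hQp, hQs, hQc⟩ :=
    Groth.Agent.AGStr.Chev.exists_chevalley G
  haveI := hLa; haveI := hLs; haveI := hLc; haveI := hqs; haveI := hQp; haveI := hQs; haveI := hQc
  haveI : QuasiCompact L.hom := inferInstance
  obtain ⟨g, hg⟩ := hNmax L l hln
  refine ⟨?_, fun H _ h _ _ hH => ?_⟩
  · have hs := (Groth.Agent.AGStr.Chev.surjective_mul_antiAffine l q hk j hM' hmax').2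
    rw [show (l ⊗ₘ j) ≫ μ[G] = (g ⊗ₘ 𝟙 M) ≫ (i ⊗ₘ j) ≫ μ[G] by
      rw [tensorHom_comp_tensorHom_assoc, hg, Category.id_comp], Over.comp_left] at hs
    haveI := hs
    exact Surjective.of_comp (g ⊗ₘ 𝟙 M).left ((i ⊗ₘ j) ≫ μ[G]).left
  · haveI := hH
    haveI : LocallyOfFiniteType H.hom := by rw [← Over.w h]; infer_instance
    haveI : LocallyOfFiniteType (N ⊗ H).hom :=
      inferInstanceAs (LocallyOfFiniteType (CategoryTheory.Limits.pullback.fst N.hom H.hom ≫ N.hom))
    obtain ⟨b, hb⟩ := Groth.Agent.AGStr.Chev.exists_factor_kernel l q hk i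
    refine Groth.Agent.AGStr.Chev.exists_factor_antiAffine l q hk j hM' hmax' h fun x => ?_
    obtain ⟨y, hy⟩ := Groth.Agent.AGStr.Chev.point_lift ((i ⊗ₘ h) ≫ μ[G]) x
    refine ⟨(y ≫ fst N H) ≫ b, y ≫ snd N H, Or.inl ?_⟩
    rw [← hy, MonObj.mul_eq_mul, MonObj.comp_mul, MonObj.comp_mul, tensorHom_fst, tensorHom_snd]
    simp only [Category.assoc, hb]

end Groth.Agent.S11403
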