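import Groth.Statements.S11416
import Groth.Agent.AGStr.FixedFaithful
import Groth.Agent.AGStr.GModFn
import Groth.Agent.GrpSchLib.Affinization

set_option autoImplicit false
universe u
open CategoryTheory MonoidalCategory CartesianMonoidalCategory MonObj GrpObj AlgebraicGeometry CategoryTheory.Limits
open AlgGrp

namespace Groth.Agent.S11416

/-- Over an algebraically closed field k, let G be an algebraic group (a smooth k-group scheme of finite
type) and M a rational G-module, not necessarily finite-dimensional: a k-vector space with a
G-module structure (points of G with values in a k-algebra B act B-linearly on B ⊗ M, naturally in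
B) such that every vector lies in a finite-dimensional subspace N with B ⊗ N stable under all
B-points of G. If the representation is faithful, in the sense that every rational point of G acting
as the identity on M is the identity element, then G is affine. -/
theorem result (k : Type u) [Field k] [IsAlgClosed k]
    (G : Over (Spec (CommRingCat.of k))) [GrpObj G] [Smooth G.hom] [QuasiCompact G.hom]
    (M : Type u) [AddCommGroup M] [Module k M] (m : VecGrp.GMod G M)
    (hlf : ∀ v : M, ∃ N : Submodule k M, v ∈ N ∧ Module.Finite k ↥N ∧
      ∀ (B : Type u) [CommRing B] [Algebra k B] (g : VecGrp.pt k B ⟶ G) (x : VecGrp.W k M B),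
        x ∈ Submodule.baseChange B N → m.ρ B g x ∈ Submodule.baseChange B N)
    (hfaith : ∀ g : VecGrp.pt k k ⟶ G, m.ρ k g = 1 → g = 1) :
    IsAffine G.left := by
  haveI : IsSeparated G.hom := GrpSchLib.AntiAffine.isSeparated_grp G
  obtain ⟨I, _, p, hp, hI, hlft, -, -, hb⟩ := GrpSchLib.Affinization.exists_affinization G
  haveI := hp; haveI := hI; haveI := hlft
  haveI : QuasiCompact (p.left ≫ I.hom) := by rw [Over.w p]; infer_instance
  haveI : IsSeparated I.hom := GrpSchLib.AntiAffine.isSeparated_grp I
  haveI : QuasiCompact p.left := QuasiCompact.of_comp p.left I.hom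
  -- coefficient functions are global functions, hence factor through the affinization
  haveI : IsFinite p.left := by
    refine AGStr.isFinite_of_ker_points p fun g hg => ?_
    let e : VecGrp.pt k k ≅ 𝟙_ (Over (Spec (CommRingCat.of k))) := Over.isoMk (Iso.refl _) (by
      show 𝟙 _ ≫ 𝟙 _ = Spec.map (CommRingCat.ofHom (algebraMap k k))
      rw [Category.id_comp, Algebra.algebraMap_self]
      exact (Spec.map_id _).symm)
    have hg1 : (e.hom ≫ g) ≫ p = 1 := by
      rw [Category.assoc, hg, MonObj.one_eq_one, MonObj.comp_one]
    suffices h : m.ρ k (e.hom ≫ g) = 1 by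
      have h1 := hfaith _ h
      rw [← cancel_epi e.hom, h1, MonObj.one_eq_one, MonObj.comp_one]
    refine LinearEquiv.ext fun x => ?_
    show m.ρ k (e.hom ≫ g) x = x
    induction x using TensorProduct.induction_on with
    | zero => simp
    | add x y hx hy => rw [map_add, hx, hy]
    | tmul c v =>
      rw [← _root_.mul_one c, ← smul_eq_mul, ← TensorProduct.smul_tmul', LinearEquiv.map_smul]
      congr 1
      refine (TensorProduct.lid k M).injective ?_
      rw [TensorProduct.lid_tmul, one_smul]
      rw [← sub_eq_zero]
      refine (Module.forall_dual_apply_eq_zero_iff k _).mp fun φ => ?_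
      rw [map_sub, sub_eq_zero]
      let F : ∀ (B : Type u) [CommRing B] [Algebra k B], (VecGrp.pt k B ⟶ G) → B := fun B _ _ g =>
        (φ.baseChange B (m.ρ B g (1 ⊗ₜ v)))
      have hrid : ∀ {B B' : Type u} [CommRing B] [Algebra k B] [CommRing B'] [Algebra k B'] (ψ : B →ₐ[k] B') (z : VecGrp.W k M B),
          ψ ((φ.baseChange B z)) =
            (φ.baseChange B' (VecGrp.Wmap ψ z)) := by
        intro B B' _ _ _ _ ψ z
        induction z using TensorProduct.induction_on with
        | zero => simp
        | add x y hx hy => simp only [map_add, hx, hy]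
        | tmul b w => simp [map_smul]
      obtain ⟨s, hs⟩ := AGStr.exists_fn (G := G) F (fun ψ g => by
        show ψ (F _ g) = _
        rw [hrid, m.naturality, VecGrp.Wmap_tmul, map_one])
      obtain ⟨t, ht⟩ := hb.2 s
      have heq : GrpSchLib.Kunneth.pullFn (e.hom ≫ g) s = GrpSchLib.Kunneth.pullFn (1 : VecGrp.pt k k ⟶ G) s := by
        have h2 : ∀ g' : VecGrp.pt k k ⟶ G, GrpSchLib.Kunneth.pullFn g' s =
            GrpSchLib.Kunneth.pullFn (g' ≫ p) t := fun g' => by
          rw [← ht, GrpSchLib.Kunneth.pullFn_apply, GrpSchLib.Kunneth.pullFn_apply, ← GrpSchLib.Kunneth.ev_ev]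
          rfl
        rw [h2, h2, hg1, MonObj.one_comp]
      have h3 := hs k (e.hom ≫ g)
      rw [heq, ← hs k 1] at h3
      simp only [F, map_one] at h3
      have hk : ∀ z : VecGrp.W k M k, (φ.baseChange k z) =
          φ (TensorProduct.lid k M z) := fun z => by
        induction z using TensorProduct.induction_on with
        | zero => simp
        | add x y hx hy => simp only [map_add, hx, hy]
        | tmul b w => simp [map_smul, mul_comm]
      rw [hk, hk] at h3
      simpa using h3
  exact isAffine_of_isAffineHom p.left

end Groth.Agent.S11416
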