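import Groth.Statements.S11418
import Groth.Agent.GrpSchLib.Action

set_option autoImplicit false
universe u
open CategoryTheory MonoidalCategory CartesianMonoidalCategory MonObj GrpObj AlgebraicGeometry CategoryTheory.Limits
open AlgGrp

namespace Groth.Agent.S11418

/-- Over an algebraically closed field k, let G be an affine algebraic group (smooth affine k-group
scheme of finite type) and π : X → Y a principal G-bundle of k-schemes of finite type: G acts on X,
π is G-invariant, faithfully flat, and the square formed by the action, the second projection G × X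
→ X and π is cartesian. Then the map θ sending a G-equivariant morphism f : X → G (for the
conjugation action on G, i.e. f(g·x) = g f(x) g⁻¹ on points) to the automorphism x ↦ f(x)·x is a
bijection onto the bundle automorphisms: every G-equivariant automorphism φ of X with π ∘ φ = π
equals θ(f) for exactly one such f. -/
theorem result (k : Type u) [Field k] [IsAlgClosed k]
    (G X Y : Over (Spec (CommRingCat.of k))) [GrpObj G] [Smooth G.hom] [QuasiCompact G.hom] [IsAffine G.left]
    [LocallyOfFiniteType X.hom] [QuasiCompact X.hom] [LocallyOfFiniteType Y.hom] [QuasiCompact Y.hom]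
    (a : AlgGrp.Action G X) (π : X ⟶ Y) (hinv : a.act ≫ π = snd G X ≫ π) [Flat π.left] [Surjective π.left]
    (hcart : IsPullback (snd G X) a.act π π)
    (φ : X ≅ X) (hφ : φ.hom ≫ π = π) (hφeq : (G ◁ φ.hom) ≫ a.act = a.act ≫ φ.hom) :
    ∃! f : X ⟶ G, (∀ (S : Over (Spec (CommRingCat.of k))) (g : S ⟶ G) (x : S ⟶ X),
        lift g x ≫ a.act ≫ f = g * (x ≫ f) * g⁻¹) ∧ φ.hom = lift f (𝟙 X) ≫ a.act := by
  obtain ⟨g₀, hg1, hg2⟩ : ∃ g₀ : X ⟶ G ⊗ X, g₀ ≫ snd G X = 𝟙 X ∧ g₀ ≫ a.act = φ.hom :=
    ⟨hcart.lift (𝟙 X) φ.hom (by rw [Category.id_comp, hφ]), hcart.lift_fst _ _ _, hcart.lift_snd _ _ _⟩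
  have free : ∀ {S : Over (Spec (CommRingCat.of k))} (g g' : S ⟶ G) (x : S ⟶ X),
      lift g x ≫ a.act = lift g' x ≫ a.act → g = g' := by
    intro S g g' x h
    have := hcart.hom_ext (show lift g x ≫ snd G X = lift g' x ≫ snd G X by simp) h
    simpa using congrArg (· ≫ fst G X) this
  have hgl : g₀ = lift (g₀ ≫ fst G X) (𝟙 X) := CartesianMonoidalCategory.hom_ext _ _ (by simp) (by simpa using hg1)
  have hfφ : φ.hom = lift (g₀ ≫ fst G X) (𝟙 X) ≫ a.act := by rw [← hgl, hg2]
  have hpt : ∀ {S : Over (Spec (CommRingCat.of k))} (x : S ⟶ X),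
      x ≫ φ.hom = lift (x ≫ g₀ ≫ fst G X) x ≫ a.act := by
    intro S x
    conv_lhs => rw [hfφ]
    rw [← Category.assoc, comp_lift, Category.comp_id]
  refine ⟨g₀ ≫ fst G X, ⟨fun S g x => ?_, hfφ⟩, fun f' hf' => free _ _ (𝟙 X) ?_⟩
  · have h1 : (lift g x ≫ a.act) ≫ φ.hom = lift g (x ≫ φ.hom) ≫ a.act := by
      rw [Category.assoc, ← hφeq, ← Category.assoc, lift_whiskerLeft]
    rw [hpt, hpt x, GrpSchLib.act_mul, GrpSchLib.act_mul] at h1
    have h2 := free _ _ x h1
    simp only [Category.assoc] at h2 ⊢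
    exact eq_mul_inv_of_mul_eq h2
  · rw [← hf'.2, hfφ]

end Groth.Agent.S11418
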