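import Groth.Statements.S11432
import Groth.Agent.AffQuot66.Main

set_option autoImplicit false
universe u
open CategoryTheory MonoidalCategory CartesianMonoidalCategory MonObj GrpObj AlgebraicGeometry Topology
open GIT

namespace Groth.Agent.S11432

/-- Let k be a field of characteristic zero, G a connected reductive algebraic group over k acting on an
affine scheme X over k, and W₁, W₂ disjoint closed invariant subsets of X. Then there is an
invariant f ∈ Γ(X, O_X) which is 0 at every point of W₁ and 1 at every point of W₂. (The published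
statement is for any reductive G in any characteristic; this row is the characteristic-zero case
with G connected.) -/
theorem result (k : Type u) [Field k] [CharZero k]
    (G X : Over (Spec (CommRingCat.of k))) [GrpObj G] (hG : Red.IsReductive G) [IsAffine X.left]
    (a : AlgGrp.Action G X) (W₁ W₂ : Set X.left) (h₁ : IsClosed W₁) (h₂ : IsClosed W₂)
    (hi₁ : a.act.left.base '' ((snd G X).left.base ⁻¹' W₁) ⊆ W₁)
    (hi₂ : a.act.left.base '' ((snd G X).left.base ⁻¹' W₂) ⊆ W₂) (hd : Disjoint W₁ W₂) :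
    ∃ f : Γ(X.left, ⊤), a.act.left.appTop f = (snd G X).left.appTop f ∧
      W₁ ⊆ X.left.zeroLocus (U := ⊤) {f} ∧ W₂ ⊆ X.left.zeroLocus (U := ⊤) {1 - f} := by
  obtain ⟨A, _, _, α, hα, h₀, -, ⟨e⟩⟩ := Groth.Agent.AffQuot66.exists_integral_model hG
  letI := AffQuot66.comod e a
  obtain ⟨J₁, hJ₁, hW₁⟩ := AffQuot66.exists_stable_ideal e a h₁ hi₁
  obtain ⟨J₂, hJ₂, hW₂⟩ := AffQuot66.exists_stable_ideal e a h₂ hi₂
  have htop : J₁ ⊔ J₂ = ⊤ := by
    by_contra h
    obtain ⟨m, hm, hle⟩ := Ideal.exists_le_maximal _ h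
    obtain ⟨x, hx⟩ := X.left.isoSpec.hom.homeomorph.surjective ⟨m, hm.isPrime⟩
    have hmem : ∀ s ∈ m, x ∉ X.left.basicOpen s := fun s hs => (AffQuot66.mem_toSpecΓ x s).mp (by
      show s ∈ (X.left.isoSpec.hom.homeomorph x).asIdeal
      rw [hx]
      exact hs)
    exact Set.disjoint_left.mp hd ((hW₁ x).mpr fun s hs => hmem s (hle (Submodule.mem_sup_left hs)))
      ((hW₂ x).mpr fun s hs => hmem s (hle (Submodule.mem_sup_right hs)))
  obtain ⟨u, hu, v, hv, huv⟩ := Submodule.mem_sup.mp (htop ▸ (Submodule.mem_top : (1 : Γ(X.left, ⊤)) ∈ ⊤))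
  refine ⟨AffQuot66.reyFn e a α u, AffQuot66.isInvFn_reyFn e hα u, fun x hx => ?_, fun x hx => ?_⟩
  · rw [Scheme.mem_zeroLocus_iff]
    rintro _ rfl
    exact (hW₁ x).mp hx _ (ComodLib.rey_mem_of_isSubcomod hJ₁ hu)
  · rw [Scheme.mem_zeroLocus_iff]
    rintro _ rfl
    have hone : GLinSh.IsInvFn a (1 : Γ(X.left, ⊤)) := by
      show a.act.left.appTop 1 = (snd G X).left.appTop 1
      rw [map_one, map_one]
    rw [← AffQuot66.reyFn_of_isInvFn e h₀ hone, ← map_sub, show (1 : Γ(X.left, ⊤)) - u = v by rw [← huv]; ring]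
    exact (hW₂ x).mp hx _ (ComodLib.rey_mem_of_isSubcomod hJ₂ hv)

end Groth.Agent.S11432
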