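import Groth.Statements.S11433
import Groth.Agent.AffQuot66.Main
import Groth.Agent.AffQuot66.Closed

set_option autoImplicit false
universe u
open CategoryTheory MonoidalCategory CartesianMonoidalCategory MonObj GrpObj AlgebraicGeometry Topology
open GIT

set_option backward.isDefEq.respectTransparency false
set_option backward.isDefEq.respectTransparency.types false

namespace Groth.Agent.S11433

/-- Universal geometric quotients are geometric after an isomorphism of the target. -/
theorem isUnivGeomQuot_comp_iso {k : Type u} [Field k] {G X Y Y' : Over (Spec (CommRingCat.of k))} [GrpObj G]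
    {a : AlgGrp.Action G X} {φ : X ⟶ Y} (χ : Y ≅ Y') (h : GIT.IsUnivGeomQuot a φ) :
    GIT.IsUnivGeomQuot a (φ ≫ χ.hom) := by
  have hi : GIT.IsInvariant a (φ ≫ χ.hom) := by
    show a.act ≫ φ ≫ χ.hom = snd G X ≫ φ ≫ χ.hom
    rw [← Category.assoc, h.1.inv, Category.assoc]
  refine ⟨h.2 (𝟙 X) (φ ≫ χ.hom) χ.inv trivial (IsPullback.of_horiz_isIso ⟨by simp⟩) a (by simp) hi,
    fun X' Z pr φ' g _ hpb a' heq hinv => h.2 pr φ' (g ≫ χ.inv) trivial ?_ a' heq hinv⟩
  have h' := hpb.paste_horiz (IsPullback.of_horiz_isIso (fst := 𝟙 X) (snd := φ ≫ χ.hom) (f := φ) (g := χ.inv) ⟨by simp⟩)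
  simpa using h'

/-- Let k be a field of characteristic zero, G a connected reductive algebraic group over k acting on an
affine scheme X over k, and (Y, φ) a categorical quotient of X by G. Then (Y, φ) is a geometric
quotient exactly when every orbit of a geometric point is closed, and in that case (Y, φ) is even a
universal geometric quotient. (The published statement is for any reductive G, the universal
conclusion being stated in characteristic zero; this row is the characteristic-zero case with G
connected.) -/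
theorem result (k : Type u) [Field k] [CharZero k]
    (G X Y : Over (Spec (CommRingCat.of k))) [GrpObj G] (hG : Red.IsReductive G) [IsAffine X.left]
    (a : AlgGrp.Action G X) (φ : X ⟶ Y) (hq : GIT.IsCatQuot a φ) :
    (GIT.IsGeomQuot a φ ↔ GIT.IsClosedAction a) ∧ (GIT.IsClosedAction a → GIT.IsUnivGeomQuot a φ) := by
  obtain ⟨A, _, _, α, hα, h1, -, ⟨e⟩⟩ := AffQuot66.exists_integral_model hG
  have hp := AffQuot66.isPair_toQuot e a
  have : IsAffine (VecGrp.pt k (AffQuot66.invSubalg e a)).left :=
    inferInstanceAs (IsAffine (Spec (CommRingCat.of (AffQuot66.invSubalg e a))))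
  have hc := (hp.isUnivCatQuot e hα h1).1
  obtain ⟨χ, hχ, -⟩ := hc.2 Y φ hq.1
  obtain ⟨ψ, hψ, -⟩ := hq.2 _ _ hc.1
  have e₁ : χ ≫ ψ = 𝟙 _ :=
    (hc.2 _ _ hc.1).unique (by rw [← Category.assoc, hχ, hψ]) (Category.comp_id _)
  have e₂ : ψ ≫ χ = 𝟙 _ := (hq.2 _ _ hq.1).unique (by rw [← Category.assoc, hψ, hχ]) (Category.comp_id _)
  have huniv : GIT.IsClosedAction a → GIT.IsUnivGeomQuot a φ := fun hcl =>
    hχ ▸ isUnivGeomQuot_comp_iso ⟨χ, ψ, e₁, e₂⟩ (hp.isUnivGeomQuot e hα h1 hcl)
  exact ⟨⟨fun h => GITQuot.isClosedAction h, fun hcl => (huniv hcl).1⟩, huniv⟩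

end Groth.Agent.S11433
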