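import Groth.Statements.S11435
import Groth.Agent.OrbitProper66.Basic

set_option autoImplicit false
universe u
open CategoryTheory MonoidalCategory CartesianMonoidalCategory MonObj GrpObj AlgebraicGeometry Topology
open GIT

namespace Groth.Agent.S11435

/-- Over an algebraically closed field k, let a group scheme G of finite type act on a scheme X of
finite type and let x be a k-rational point of X. Then the orbit morphism ψ_x : G × Spec k → X ×
Spec k, g ↦ (g · x, pt), is proper if and only if the orbit of x (the image of ψ_x) is closed and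
the stabilizer of x (the fibre of ψ_x over (x, pt)) is proper over k. -/
theorem result (k : Type u) [Field k] [IsAlgClosed k]
    (G X : Over (Spec (CommRingCat.of k))) [GrpObj G] [LocallyOfFiniteType G.hom] [QuasiCompact G.hom]
    [LocallyOfFiniteType X.hom] [QuasiCompact X.hom] (a : AlgGrp.Action G X)
    (x : 𝟙_ (Over (Spec (CommRingCat.of k))) ⟶ X) :
    IsProper (GIT.psi a x).left ↔
      IsClosed (Set.range (GIT.psi a x).left.base) ∧
        IsProper (Limits.pullback.snd (GIT.psi a x).left (lift x (𝟙 (𝟙_ (Over (Spec (CommRingCat.of k)))))).left ≫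
          (𝟙_ (Over (Spec (CommRingCat.of k)))).hom) := by
  let φ := a.orbitMap x
  let u : (G ⊗ 𝟙_ _).left ⟶ G.left := (fst G (𝟙_ _)).left
  let v : (X ⊗ 𝟙_ _).left ⟶ X.left := (fst X (𝟙_ _)).left
  haveI : IsIso u := inferInstanceAs (IsIso ((Over.forget _).map (ρ_ G).hom))
  haveI : IsIso v := inferInstanceAs (IsIso ((Over.forget _).map (ρ_ X).hom))
  have hsqO : GIT.psi a x ≫ fst X _ = fst G _ ≫ φ := by
    rw [GIT.psi, lift_fst]
    simp only [φ, AlgGrp.Action.orbitMap, ← Category.assoc]
    congr 1
    apply CartesianMonoidalCategory.hom_ext <;>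
      simp [toUnit_unique (snd G (𝟙_ (Over (Spec (CommRingCat.of k))))) (fst G _ ≫ toUnit G)]
  have hsq : (GIT.psi a x).left ≫ v = u ≫ φ.left := congrArg CommaMorphism.left hsqO
  have hψ : (GIT.psi a x).left = u ≫ φ.left ≫ inv v := by rw [← reassoc_of% hsq]; simp
  have hx : (lift x (𝟙 (𝟙_ (Over (Spec (CommRingCat.of k)))))).left = x.left ≫ inv v := by
    rw [← cancel_mono v, Category.assoc, IsIso.inv_hom_id, Category.comp_id]
    exact congrArg CommaMorphism.left (lift_fst x (𝟙 _))
  have hP : IsProper (Limits.pullback.snd (GIT.psi a x).left (lift x (𝟙 (𝟙_ (Over (Spec (CommRingCat.of k)))))).left) ↔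
      IsProper (Limits.pullback.snd φ.left x.left) := by
    have sq : IsPullback (u : (G ⊗ 𝟙_ _).left ⟶ G.left) (GIT.psi a x).left φ.left v :=
      IsPullback.of_horiz_isIso ⟨hsq.symm⟩
    have sq2 := (IsPullback.of_hasPullback (GIT.psi a x).left
      (lift x (𝟙 (𝟙_ (Over (Spec (CommRingCat.of k)))))).left).flip.paste_vert sq.flip
    rw [show (lift x (𝟙 (𝟙_ (Over (Spec (CommRingCat.of k)))))).left ≫ v = x.left from
      congrArg CommaMorphism.left (lift_fst x (𝟙 _))] at sq2
    rw [← sq2.flip.isoPullback_hom_snd]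
    exact MorphismProperty.cancel_left_of_respectsIso @IsProper _ _
  have hrange : IsClosed (Set.range (GIT.psi a x).left.base) ↔ IsClosed (Set.range φ.left) := by
    have e : Set.range (GIT.psi a x).left.base = (inv v) '' Set.range φ.left := by
      rw [hψ, Scheme.Hom.comp_base, Scheme.Hom.comp_base, TopCat.coe_comp, TopCat.coe_comp, Function.comp_assoc,
        Set.range_comp, Set.range_comp, Set.range_eq_univ.2 u.surjective, Set.image_univ]
    rw [e]
    exact (inv v).homeomorph.isClosed_image
  constructor
  · intro h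
    refine ⟨(GIT.psi a x).left.isClosedMap.isClosed_range, ?_⟩
    haveI : IsProper (𝟙_ (Over (Spec (CommRingCat.of k)))).hom := inferInstanceAs (IsProper (𝟙 _))
    infer_instance
  · rintro ⟨hc, hs⟩
    haveI : IsSeparated (𝟙_ (Over (Spec (CommRingCat.of k)))).hom := inferInstanceAs (IsSeparated (𝟙 _))
    haveI := hs
    have hs' : IsProper (Limits.pullback.snd φ.left x.left) := hP.1 (IsProper.of_comp _ (𝟙_ (Over (Spec (CommRingCat.of k)))).hom)
    haveI := OrbitProper66.isProper_orbitMap a x (hrange.1 hc) hs'
    rw [hψ]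
    infer_instance

end Groth.Agent.S11435
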