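import Groth.Statements.S11462
import Groth.Agent.Hartogs.Basic
import Groth.Agent.CDiv6.Normal
import Groth.Agent.LC.DepthFlatFibre

set_option autoImplicit false
set_option linter.style.haveILetI false
universe u
open CategoryTheory AlgebraicGeometry Opposite
open DefT

namespace Groth.Agent.S11462

/-- Let C be a local Artin ring with maximal ideal m, A a Noetherian C-algebra flat over C such that
Spec(A/mA) is a normal scheme, and U ⊆ X = Spec A an open subset whose closed complement has
codimension ≥ 2, i.e. every prime of A not in U has height at least 2. Then the restriction map Γ(X,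
O_X) → Γ(U, O_X) is bijective. (The published statement assumes only that A is flat over C with
normal special fibre; this row also assumes A Noetherian: for a valuation ring of rank two over a
field, which is normal and flat, the functions on the complement of the closed point are not all
global.) -/
theorem result (C : Type u) [CommRing C]
    [IsLocalRing C] [IsArtinianRing C] (A : Type u) [CommRing A] [IsNoetherianRing A] [Algebra C A]
    [Module.Flat C A]
    (hnorm : Pi1.IsNormalScheme (Spec (CommRingCat.of (A ⧸ (IsLocalRing.maximalIdeal C).map (algebraMap C A)))))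
    (U : (Spec (CommRingCat.of A)).Opens)
    (hU : ∀ p : ↥(Spec (CommRingCat.of A)), p ∉ U → (2 : ℕ∞) ≤ p.asIdeal.height) :
    Function.Bijective ((Spec (CommRingCat.of A)).presheaf.map (homOfLE (le_top : U ≤ ⊤)).op) := by
  refine Groth.Agent.Hartogs.spec_bijective A U fun p hp => ?_
  let I : Ideal A := (IsLocalRing.maximalIdeal C).map (algebraMap C A)
  let B := Localization.AtPrime p.asIdeal
  obtain ⟨n, hn⟩ : IsNilpotent (IsLocalRing.maximalIdeal C) := by
    rw [← IsLocalRing.jacobson_eq_maximalIdeal (⊥ : Ideal C) bot_ne_top]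
    exact IsArtinianRing.isNilpotent_jacobson_bot
  have hInil : I ≤ nilradical A := by
    refine fun x hx => ⟨n, ?_⟩
    have : x ^ n ∈ I ^ n := Ideal.pow_mem_pow hx n
    rw [← Ideal.map_pow, hn] at this
    simpa using this
  have hIp : I ≤ p.asIdeal := hInil.trans (nilradical_le_prime p.asIdeal)
  haveI : IsLocalHom (algebraMap C B) := ⟨fun c hc => by
    by_contra hcu
    have hcm : c ∈ IsLocalRing.maximalIdeal C := hcu
    have h2 : algebraMap C A c ∈ p.asIdeal := hIp (Ideal.mem_map_of_mem _ hcm)
    rw [IsScalarTower.algebraMap_apply C A B] at hc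
    exact (IsLocalization.AtPrime.isUnit_to_map_iff B p.asIdeal _).mp hc h2⟩
  haveI : Module.Flat A B := IsLocalization.flat B p.asIdeal.primeCompl
  haveI : Module.Flat C B := Module.Flat.trans C A B
  let J : Ideal B := (IsLocalRing.maximalIdeal C).map (algebraMap C B)
  have hJ : J = I.map (algebraMap A B) := by
    show _ = Ideal.map _ (Ideal.map _ _)
    rw [Ideal.map_map, ← IsScalarTower.algebraMap_eq]
  have hJle : J ≤ IsLocalRing.maximalIdeal B := IsLocalRing.map_maximalIdeal_le (algebraMap C B)
  haveI : Nontrivial (B ⧸ J) := Ideal.Quotient.nontrivial_iff.mpr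
    (ne_top_of_le_ne_top (IsLocalRing.maximalIdeal.isMaximal B).ne_top hJle)
  haveI : IsLocalRing (B ⧸ J) :=
    IsLocalRing.of_surjective' (Ideal.Quotient.mk J) Ideal.Quotient.mk_surjective
  -- the stalk of the special fibre
  let q : PrimeSpectrum (A ⧸ I) := ⟨p.asIdeal.map (Ideal.Quotient.mk I),
    Ideal.map_isPrime_of_surjective Ideal.Quotient.mk_surjective (by rwa [Ideal.mk_ker])⟩
  haveI hqp : q.asIdeal.IsPrime := q.2
  let S := (Spec (CommRingCat.of (A ⧸ I))).presheaf.stalk q
  letI : Algebra (A ⧸ I) S :=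
    (inferInstance : Algebra (A ⧸ I) ((Spec.structureSheaf (A ⧸ I)).presheaf.stalk q))
  haveI : IsLocalization.AtPrime S q.asIdeal := StructureSheaf.IsLocalization.to_stalk (A ⧸ I) q
  let J' : Ideal B := I.map (algebraMap A B)
  have hsub : Algebra.algebraMapSubmonoid (A ⧸ I) p.asIdeal.primeCompl = q.asIdeal.primeCompl := by
    ext x
    obtain ⟨a, rfl⟩ := Ideal.Quotient.mk_surjective x
    constructor
    · rintro ⟨b, hb, hba⟩ hq
      apply hb
      obtain ⟨c, hc, hca⟩ := (Ideal.mem_map_iff_of_surjective _ Ideal.Quotient.mk_surjective).mp hq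
      have : b - c ∈ I := Ideal.Quotient.eq.mp (hba.trans hca.symm)
      simpa using add_mem (hIp this) hc
    · intro h
      exact ⟨a, fun ha => h (Ideal.mem_map_of_mem _ ha), rfl⟩
  haveI : IsLocalization q.asIdeal.primeCompl (B ⧸ J') := by
    rw [← hsub]; infer_instance
  let e : S ≃+* B ⧸ J :=
    (IsLocalization.algEquiv q.asIdeal.primeCompl S (B ⧸ J')).toRingEquiv.trans
      (Ideal.quotEquivOfEq hJ.symm)
  haveI : IsDomain S := (hnorm q).1
  haveI : IsIntegrallyClosed S := (hnorm q).2
  haveI : IsDomain (B ⧸ J) := e.symm.toMulEquiv.isDomain S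
  haveI : IsIntegrallyClosed (B ⧸ J) := IsIntegrallyClosed.of_equiv e
  have hJnil : J ≤ nilradical B := by
    rintro x hx
    refine ⟨n, ?_⟩
    have : x ^ n ∈ J ^ n := Ideal.pow_mem_pow hx n
    rw [← Ideal.map_pow, hn] at this
    simpa using this
  have hdim : (2 : WithBot ℕ∞) ≤ ringKrullDim (B ⧸ J) := by
    have h1 : ringKrullDim (B ⧸ J) = ringKrullDim B := by
      rw [ringKrullDim_quotient, ringKrullDim, (PrimeSpectrum.zeroLocus_eq_univ_iff _).mpr
        (by exact_mod_cast hJnil)]
      exact Order.krullDim_eq_of_orderIso (OrderIso.Set.univ)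
    rw [h1, IsLocalization.AtPrime.ringKrullDim_eq_height p.asIdeal]
    exact WithBot.coe_le_coe.mpr (hU p hp)
  -- depth of the fibre
  have hd : (2 : ℕ∞) ≤ LocCoh.depth (B ⧸ J) (B ⧸ J) := by
    rcases le_or_gt (2 : ℕ∞) (LocCoh.depth (B ⧸ J) (B ⧸ J)) with h | h
    · exact h
    exfalso
    by_cases h1 : (1 : ℕ∞) ≤ LocCoh.depth (B ⧸ J) (B ⧸ J)
    · have hd1 : LocCoh.depth (B ⧸ J) (B ⧸ J) = 1 :=
        le_antisymm (Order.le_of_lt_add_one (by rw [one_add_one_eq_two]; exact h)) h1
      haveI := Groth.Agent.CDiv6.isDVR_of_depth_eq_one _ hd1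
      rw [IsPrincipalIdealRing.ringKrullDim_eq_one _ (IsDiscreteValuationRing.not_isField _)] at hdim
      exact absurd hdim (by norm_num)
    · rw [Groth.Agent.Alg6.one_le_depth_iff, not_not] at h1
      obtain ⟨-, z, hz⟩ := Groth.Agent.Alg6.mem_ass_iff.mp h1
      have hF : IsField (B ⧸ J) := by
        rw [IsLocalRing.isField_iff_maximalIdeal_eq, eq_bot_iff]
        intro a ha
        have := (hz a).mp ha
        rcases eq_zero_or_eq_zero_of_mul_eq_zero (smul_eq_mul a z ▸ this) with h' | h'
        · exact h'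
        · exact absurd ((hz 1).mpr (by rw [h', smul_zero]))
            (fun h => (IsLocalRing.maximalIdeal.isMaximal _).ne_top ((Ideal.eq_top_iff_one _).mpr h))
      rw [ringKrullDim_eq_zero_of_isField hF] at hdim
      exact absurd hdim (by norm_num)
  refine Groth.Agent.LC.le_idealDepth_of_fibre (A := C) (IsLocalRing.maximalIdeal B)
    (IsLocalRing.maximalIdeal.isMaximal B).ne_top 2 B ?_
  have hmN : Groth.Agent.FlatLoc6.mN C B B = J := by
    show J • (⊤ : Submodule B B) = J
    rw [smul_eq_mul, Ideal.mul_top]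
  rw [Groth.Agent.LC.idealDepth_congr _ (Submodule.quotEquivOfEq _ _ hmN),
    Groth.Agent.LC.idealDepth_quot_self_le J (IsLocalRing.maximalIdeal B)]
  rw [IsLocalRing.map_maximalIdeal_of_surjective _ Ideal.Quotient.mk_surjective]
  exact hd

end Groth.Agent.S11462
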