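import Groth.Statements.S11469
import Mathlib.RingTheory.Flat.Basic
import Mathlib.LinearAlgebra.TensorProduct.RightExactness
import Mathlib.LinearAlgebra.TensorProduct.Tower

set_option autoImplicit false
universe u
open scoped TensorProduct
open DefT

namespace Groth.Agent.S11469

/-- Let C' be a local Artin ring with maximal ideal m, J ⊊ C' a proper ideal with mJ = 0, A' a
C'-algebra, M' an A'-module flat over C', and M₀ = M'/mM'. Then (1) every A'-linear endomorphism σ
of M' that is the identity modulo JM' is bijective, and there is exactly one A'-linear τ : M₀ → M₀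
⊗_{C'} J such that, for all x ∈ M' and all z ∈ M' ⊗_{C'} J mapping to σ(x) − x in M', the image of z
in M₀ ⊗_{C'} J is τ applied to the class of x; and (2) every A'-linear τ : M₀ → M₀ ⊗_{C'} J comes in
this way from some such σ. Thus the automorphisms of the extension M' inducing the identity on
M'/JM' correspond to Hom(M₀, M₀ ⊗ J). -/
theorem result (C' : Type u) [CommRing C'] [IsLocalRing C']
    [IsArtinianRing C'] (J : Ideal C') (hJ : IsLocalRing.maximalIdeal C' * J = ⊥) (hJne : J ≠ ⊤)
    (A' : Type u) [CommRing A'] [Algebra C' A'] (M' : Type u) [AddCommGroup M'] [Module A' M'] [Module C' M']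
    [IsScalarTower C' A' M'] [Module.Flat C' M'] :
    (∀ σ : M' →ₗ[A'] M', (∀ x : M', σ x - x ∈ (J.map (algebraMap C' A')) • (⊤ : Submodule A' M')) →
      Function.Bijective σ ∧
        ∃! τ : (M' ⧸ ((IsLocalRing.maximalIdeal C').map (algebraMap C' A')) • (⊤ : Submodule A' M')) →ₗ[A'] ((M' ⧸ ((IsLocalRing.maximalIdeal C').map (algebraMap C' A')) • (⊤ : Submodule A' M')) ⊗[C'] ↥J),
          (∀ (x : M') (z : M' ⊗[C'] ↥J), TensorProduct.rid C' M' (LinearMap.lTensor M' (Submodule.subtype J) z) = σ x - x →
            LinearMap.rTensor ↥J ((Submodule.mkQ (((IsLocalRing.maximalIdeal C').map (algebraMap C' A')) • (⊤ : Submodule A' M'))).restrictScalars C') z =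
              τ (Submodule.mkQ _ x))) ∧
    (∀ τ : (M' ⧸ ((IsLocalRing.maximalIdeal C').map (algebraMap C' A')) • (⊤ : Submodule A' M')) →ₗ[A'] ((M' ⧸ ((IsLocalRing.maximalIdeal C').map (algebraMap C' A')) • (⊤ : Submodule A' M')) ⊗[C'] ↥J),
      ∃ σ : M' →ₗ[A'] M', (∀ x : M', σ x - x ∈ (J.map (algebraMap C' A')) • (⊤ : Submodule A' M')) ∧
          (∀ (x : M') (z : M' ⊗[C'] ↥J), TensorProduct.rid C' M' (LinearMap.lTensor M' (Submodule.subtype J) z) = σ x - x →
            LinearMap.rTensor ↥J ((Submodule.mkQ (((IsLocalRing.maximalIdeal C').map (algebraMap C' A')) • (⊤ : Submodule A' M'))).restrictScalars C') z =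
              τ (Submodule.mkQ _ x))) := by
  set m := IsLocalRing.maximalIdeal C' with hm
  set N : Submodule A' M' := (m.map (algebraMap C' A')) • ⊤ with hN
  set JM : Submodule A' M' := (J.map (algebraMap C' A')) • ⊤ with hJM
  let ι : M' ⊗[C'] ↥J →ₗ[A'] M' :=
    (TensorProduct.AlgebraTensorModule.rid C' A' M').toLinearMap ∘ₗ
      TensorProduct.AlgebraTensorModule.map LinearMap.id J.subtype
  have hι : ∀ z, ι z = TensorProduct.rid C' M' (LinearMap.lTensor M' J.subtype z) := by
    intro z
    induction z using TensorProduct.induction_on with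
    | zero => simp
    | tmul x j => simp [ι]
    | add a b ha hb => simp [ha, hb]
  have hιinj : Function.Injective ι := by
    intro a b h
    rw [hι, hι] at h
    exact Module.Flat.lTensor_preserves_injective_linearMap _ J.subtype_injective
      ((TensorProduct.rid C' M').injective h)
  have hιrange : LinearMap.range ι = JM := by
    refine le_antisymm ?_ ?_
    · rintro _ ⟨z, rfl⟩
      induction z using TensorProduct.induction_on with
      | zero => simp
      | tmul x j =>
        have : ι (x ⊗ₜ j) = algebraMap C' A' (j : C') • x := by simp [ι, algebraMap_smul]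
        rw [this]
        exact Submodule.smul_mem_smul (Ideal.mem_map_of_mem _ j.2) trivial
      | add a b ha hb => rw [map_add]; exact add_mem ha hb
    · rw [hJM, Submodule.smul_le]
      intro r hr x _
      induction hr using Submodule.span_induction with
      | mem r hr =>
        obtain ⟨j, hj, rfl⟩ := hr
        exact ⟨x ⊗ₜ ⟨j, hj⟩, by simp [ι, algebraMap_smul]⟩
      | zero => simp
      | add a b _ _ ha hb => rw [add_smul]; exact add_mem ha hb
      | smul c a _ ha => rw [smul_assoc]; exact Submodule.smul_mem _ c ha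
  let φ : M' ⊗[C'] ↥J →ₗ[A'] (M' ⧸ N) ⊗[C'] ↥J :=
    TensorProduct.AlgebraTensorModule.map N.mkQ LinearMap.id
  have hφ' : ∀ z, φ z = LinearMap.rTensor ↥J (N.mkQ.restrictScalars C') z := by
    intro z
    induction z using TensorProduct.induction_on with
    | zero => simp
    | tmul x j => simp [φ]
    | add a b ha hb => simp [ha, hb]
  have hkill : ∀ y ∈ N, ∀ j : ↥J, y ⊗ₜ[C'] j = (0 : M' ⊗[C'] ↥J) := by
    intro y hy j
    let f : M' →ₗ[A'] M' ⊗[C'] ↥J :=
      (TensorProduct.AlgebraTensorModule.mk C' A' M' ↥J).flip j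
    suffices N ≤ LinearMap.ker f from this hy
    rw [hN, Submodule.smul_le]
    intro r hr x _
    induction hr using Submodule.span_induction with
    | mem r hr =>
      obtain ⟨a, ha, rfl⟩ := hr
      have h0 : a • j = 0 := Subtype.ext (by
        have : a * (j : C') ∈ (⊥ : Ideal C') := hJ ▸ Ideal.mul_mem_mul ha j.2
        simpa using this)
      show (algebraMap C' A' a • x) ⊗ₜ[C'] j = 0
      rw [algebraMap_smul, TensorProduct.smul_tmul, h0, TensorProduct.tmul_zero]
    | zero => simp
    | add a b _ _ ha hb => rw [add_smul]; exact add_mem ha hb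
    | smul c a _ ha => rw [smul_assoc]; exact Submodule.smul_mem _ c ha
  have hφ : Function.Bijective φ := by
    refine ⟨?_, ?_⟩
    · rw [injective_iff_map_eq_zero]
      intro z hz
      rw [hφ'] at hz
      obtain ⟨w, rfl⟩ := (rTensor_exact ↥J
        (f := (N.restrictScalars C').subtype) (g := N.mkQ.restrictScalars C')
        (fun x => LinearMap.exact_subtype_mkQ N x) N.mkQ_surjective z).mp hz
      clear hz
      induction w using TensorProduct.induction_on with
      | zero => simp
      | tmul y j => exact hkill y.1 y.2 j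
      | add a b ha hb => simp [ha, hb]
    · intro z
      obtain ⟨w, rfl⟩ := LinearMap.rTensor_surjective ↥J
        (g := N.mkQ.restrictScalars C') N.mkQ_surjective z
      exact ⟨w, hφ' w⟩
  constructor
  · intro σ hσ
    let d : M' →ₗ[A'] M' := σ - LinearMap.id
    have hd : ∀ x, d x ∈ JM := hσ
    have hdd : ∀ x, d (d x) = 0 := by
      intro x
      have : JM.map d ≤ ⊥ := by
        rw [hJM, Submodule.map_smul'']
        refine (Submodule.smul_mono le_rfl (show Submodule.map d ⊤ ≤ JM from
          fun y hy => by obtain ⟨x, -, rfl⟩ := hy; exact hd x)).trans ?_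
        rw [hJM, ← Submodule.mul_smul, ← Ideal.map_mul,
          show J * J = ⊥ from le_bot_iff.mp (hJ ▸ Ideal.mul_mono_left
            (IsLocalRing.le_maximalIdeal hJne)), Ideal.map_bot, Submodule.bot_smul]
      exact (Submodule.mem_bot A').mp (this ⟨d x, hd x, rfl⟩)
    refine ⟨Function.bijective_iff_has_inverse.mpr ⟨fun x => x - d x, ?_, ?_⟩, ?_⟩
    · intro x
      have := hdd x
      simp only [d, LinearMap.sub_apply, LinearMap.id_apply, map_sub] at this ⊢
      rw [← sub_eq_zero, ← neg_eq_zero, ← this]; abel
    · intro x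
      have := hdd x
      simp only [d, LinearMap.sub_apply, LinearMap.id_apply, map_sub] at this ⊢
      rw [← sub_eq_zero, ← neg_eq_zero, ← this]; abel
    let e := LinearEquiv.ofInjective ι hιinj
    have hde : ∀ x, d x ∈ LinearMap.range ι := fun x => hιrange.symm ▸ hd x
    let g : M' →ₗ[A'] (M' ⧸ N) ⊗[C'] ↥J :=
      φ ∘ₗ e.symm.toLinearMap ∘ₗ d.codRestrict _ hde
    have hgN : N ≤ LinearMap.ker g := by
      intro y hy
      have h2 : ∀ w : (M' ⧸ N) ⊗[C'] ↥J, ∀ r ∈ m.map (algebraMap C' A'), r • w = 0 := by
        intro w r hr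
        induction w using TensorProduct.induction_on with
        | zero => simp
        | tmul q j =>
          obtain ⟨x, rfl⟩ := N.mkQ_surjective q
          rw [TensorProduct.smul_tmul', ← map_smul,
            show N.mkQ (r • x) = 0 from (Submodule.Quotient.mk_eq_zero N).mpr
              (Submodule.smul_mem_smul hr trivial), TensorProduct.zero_tmul]
        | add a b ha hb => rw [smul_add, ha, hb, add_zero]
      suffices m.map (algebraMap C' A') • (⊤ : Submodule A' M') ≤ LinearMap.ker g from this hy
      rw [Submodule.smul_le]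
      intro r hr x _
      rw [LinearMap.mem_ker, map_smul]
      exact h2 _ r hr
    refine ⟨N.liftQ g hgN, ?_, ?_⟩
    · intro x z hz
      rw [← hφ', Submodule.mkQ_apply, Submodule.liftQ_apply]
      show φ z = φ (e.symm ⟨d x, hde x⟩)
      congr 1
      refine hιinj ?_
      rw [hι z, hz]
      exact (congrArg Subtype.val (e.apply_symm_apply ⟨d x, hde x⟩)).symm
    · intro τ hτ
      refine Submodule.linearMap_qext _ (LinearMap.ext fun x => ?_)
      obtain ⟨z, hz⟩ := hde x
      have h1 := hτ x z (by rw [← hι, hz]; rfl)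
      rw [← hφ'] at h1
      simp only [LinearMap.comp_apply, Submodule.mkQ_apply, Submodule.liftQ_apply] at h1 ⊢
      rw [← h1]
      show φ z = φ (e.symm ⟨d x, hde x⟩)
      congr 1
      refine hιinj ?_
      rw [hz]
      exact (congrArg Subtype.val (e.apply_symm_apply ⟨d x, hde x⟩)).symm
  · intro τ
    let e := LinearEquiv.ofBijective φ hφ
    refine ⟨LinearMap.id + ι ∘ₗ e.symm.toLinearMap ∘ₗ τ ∘ₗ N.mkQ, fun x => ?_, fun x z hz => ?_⟩
    · simp only [LinearMap.add_apply, LinearMap.id_apply, add_sub_cancel_left, LinearMap.comp_apply]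
      exact hιrange.le ⟨_, rfl⟩
    · rw [← hι] at hz
      simp only [LinearMap.add_apply, LinearMap.id_apply, add_sub_cancel_left,
        LinearMap.comp_apply] at hz
      rw [hιinj hz, ← hφ']
      exact e.apply_symm_apply _

end Groth.Agent.S11469
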