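import Groth.Statements.S11481
import Groth.Agent.CurvFam16.Gonal.Curve

set_option autoImplicit false
universe u
open CategoryTheory CategoryTheory.Limits AlgebraicGeometry
open Curves

set_option linter.style.haveILetI false

namespace Groth.Agent.S11481

/-- Let k be an algebraically closed field. For every g and every d ≥ 2 there exists a d-gonal curve of
genus g: a smooth, proper, integral curve X over k with dim H¹(X, O_X) = g together with a
k-morphism X → P¹_k that is finite locally free of degree d. -/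
theorem result (k : Type u) [Field k] [IsAlgClosed k] (g d : ℕ) (hd : 2 ≤ d) :
    ∃ (X : Scheme.{u}) (f : X ⟶ Spec (CommRingCat.of k)), Curve.IsSmoothProperCurve k X f ∧ @Curv2.genus k _ X ⟨f⟩ = g ∧
      ∃ π : X ⟶ CohB1.ProjSpace 1 k, π ≫ CohB1.ProjSpace.toSpec 1 k = f ∧ Mor2.IsFinLocFreeOfDeg d π := by
  rcases Nat.eq_zero_or_pos g with rfl | hg
  · refine CurvFam16.Gonal.exists_curve 0 d (RatFunc k) ⟨{RatFunc.X}, ?_⟩ ?_ fun K' _ _ ⟨e⟩ => ?_
    · rw [Finset.coe_singleton]; exact RatFunc.adjoin_X
    · haveI : Algebra.IsAlgebraic (IntermediateField.adjoin k ({RatFunc.X} : Set (RatFunc k))) (RatFunc k) :=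
        ⟨fun z => isAlgebraic_algebraMap (A := RatFunc k)
          (⟨z, (RatFunc.adjoin_X (K := k)).symm ▸ trivial⟩ :
            IntermediateField.adjoin k ({RatFunc.X} : Set (RatFunc k)))⟩
      exact CurvFam16.Gonal.trdeg_eq_one RatFunc.transcendental_X
    · exact CurvFam16.Gonal.ratFunc_cover e d (by omega)
  · obtain ⟨G, r, r', hG, hform, K, _, _, φ, x, S, hφC, hfr, hfg, htr⟩ := CurvFam16.Gonal.exists_ff (k := k) g d hg hd
    refine CurvFam16.Gonal.exists_curve g d K hfg htr fun K' _ _ ⟨e⟩ => ?_
    intro _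
    have S' := S.map e.toRingEquiv
    have hC : ∀ c, (e.toRingEquiv.toRingHom.comp φ) (Polynomial.C c) = algebraMap k K' c := fun c => by
      show e (φ (Polynomial.C c)) = _
      rw [hφC, e.commutes]
    have hfr' : Module.finrank (IntermediateField.adjoin k ({(e.toRingEquiv.toRingHom.comp φ) Polynomial.X} : Set K')) K' =
        G.natDegree := (CurvFam16.Gonal.finrank_adjoin_map e (φ Polynomial.X)).trans hfr
    have hpos := S.pos
    obtain ⟨-, hgen⟩ := S'.genus_eq hC hG (Module.finite_of_finrank_pos (by rw [hfr']; exact hpos)) hfr'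
    obtain ⟨ht, hd'⟩ := S'.finrank_x hC hG
    exact ⟨by exact_mod_cast hgen.trans hform, _, ht, hd'⟩

end Groth.Agent.S11481
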