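import Groth.Statements.S11486
import Groth.Agent.PD70.HorrocksBundle

set_option linter.style.haveILetI false

set_option autoImplicit false
universe u
open VBPn

namespace Groth.Agent.S11486

open CategoryTheory CategoryTheory.Limits AlgebraicGeometry in
/-- Let k be a characteristic-zero algebraically closed field and E a finite locally free O-module of
rank r on P^n_k. Then E splits as a direct sum of twisting sheaves O(a_1) ⊕ ⋯ ⊕ O(a_r) if and only
if H^i(P^n_k, E ⊗ O(d)) = 0 for every 0 < i < n and every integer d. -/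
theorem result (k : Type u) [Field k] [IsAlgClosed k] [CharZero k]
    (n r : ℕ) (E : (CohB1.ProjSpace n k).Modules) (hE : FlatMod.IsFinLocFreeOfRank r E) :
    (∃ a : Fin r → ℤ, Nonempty (E ≅ ∐ fun j : Fin r => Twist.twistProjSpace n k (a j))) ↔
      ∀ (i : ℕ) (d : ℤ), 0 < i → i < n →
        Subsingleton (Coh.HH (CohB1.ProjSpace n k) (CohB1.tensorMod E (Twist.twistProjSpace n k d)) i) := by
  haveI hP : AlgebraicGeometry.IsNoetherian (Proj (CohB1.polyGrading n k)) := Proj16.isNoetherian_proj _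
  haveI : IsLocallyNoetherian (CohB1.ProjSpace n k) := hP.toIsLocallyNoetherian
  have hflf := KRRLib.flf_of_rank hE
  rcases Nat.eq_zero_or_pos n with rfl | hn
  · exact ⟨fun _ i _ _ h => absurd h (Nat.not_lt_zero i), fun _ => ⟨fun _ => 0, PD70.nonempty_iso_of_dim_zero hE⟩⟩
  constructor
  · rintro ⟨a, ⟨e⟩⟩ i d h1 h2
    exact ((PD70.split0_iff hn E (CurveDeg.isCoh_of_isFinLocFree hflf)).2 ⟨r, a, ⟨e⟩⟩).mid d i h1 h2
  · intro h
    obtain ⟨r', a, ⟨e⟩⟩ := (PD70.split0_iff hn E (CurveDeg.isCoh_of_isFinLocFree hflf)).1 (PD70.split0_of_bundle hn hflf h)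
    haveI := H23.PnChart.isIntegral_projSpace (n := n) (k := k)
    let x := genericPoint ↥(CohB1.ProjSpace n k)
    obtain rfl : r' = r := (KRRLib.finrank_stk (PD70.isFinLocFreeOfRank_iso e.symm (PD70.isFinLocFreeOfRank_sigma a)) x).symm.trans
      (KRRLib.finrank_stk hE x)
    exact ⟨a, ⟨e⟩⟩

end Groth.Agent.S11486
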