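import Groth.Statements.S11523
import Mathlib.CategoryTheory.Simple
import Mathlib.CategoryTheory.Subobject.ArtinianObject
import Mathlib.CategoryTheory.Subobject.NoetherianObject
import Mathlib.Algebra.Homology.ShortComplex.ExactFunctor
import Mathlib.CategoryTheory.Subobject.Limits
import Mathlib.CategoryTheory.Limits.Shapes.Pullback.Mono
import Mathlib.CategoryTheory.Abelian.Basic

set_option autoImplicit false
set_option backward.isDefEq.respectTransparency false
set_option backward.defeqAttrib.useBackward true
universe v u v' u'
open CategoryTheory CategoryTheory.Limits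
open PervT

namespace Groth.Agent.S11523

/-- Let `u : A ⥤ B` be a fully faithful exact functor of abelian categories admitting a left adjoint and
a right adjoint `uStar`. Suppose every object of `A` has finite length (it is both an artinian and a
noetherian object) and that `u` sends simple objects to simple objects. Then for every object `Y` of
`B` the counit `u (uStar Y) ⟶ Y` of the adjunction `u ⊣ uStar` is a monomorphism. (The published
statement also lists two further conditions equivalent to this one: that for every object `Y` of `B`
the unit `Y ⟶ u (L Y)` of the adjunction `L ⊣ u` of the left adjoint `L` is an epimorphism, and that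
the essential image of `u` is stable under subobjects and quotients; this row states only the counit
condition.) -/
theorem result {A : Type u} [Category.{v} A] [Abelian A] {B : Type u'} [Category.{v'} B] [Abelian B]
    (u : A ⥤ B) [u.Full] [u.Faithful] [PreservesFiniteLimits u] [PreservesFiniteColimits u] [u.IsRightAdjoint]
    (uStar : B ⥤ A) (adj : u ⊣ uStar)
    (hlen : ∀ X : A, IsArtinianObject X ∧ IsNoetherianObject X)
    (hsimple : ∀ X : A, Simple X → Simple (u.obj X)) (Y : B) :
    Mono (adj.counit.app Y) := by
  have key : ∀ (X : A) (N : Subobject X) (Q : A) (π : X ⟶ Q), Epi π → kernelSubobject π = N →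
      ∀ (K : B) (i : K ⟶ u.obj Q), Mono i → ¬ IsZero K → ∃ (S : A) (a : u.obj S ⟶ K), a ≠ 0 := by
    intro X
    haveI := (hlen X).2
    intro N
    induction N using WellFoundedGT.induction with
    | _ N ih =>
      intro Q π hπ hN K i hi hK
      have hQ : ¬ IsZero Q := fun h => hK (IsZero.of_mono i (u.map_isZero h))
      haveI := (hlen Q).1
      obtain ⟨S, hS⟩ := exists_simple_subobject hQ
      haveI := hS
      let s : (S : A) ⟶ Q := S.arrow
      haveI : Simple (u.obj (S : A)) := hsimple _ hS
      by_cases h0 : (pullback.fst (u.map s) i) = 0
      · let c := cokernel.π s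
        have hex : ((ShortComplex.mk s c (cokernel.condition s)).map u).ShortExact :=
          ShortComplex.ShortExact.map_of_exact
            { exact := ShortComplex.exact_of_g_is_cokernel _ (cokernelIsCokernel s)
              mono_f := inferInstanceAs (Mono S.arrow)
              epi_g := inferInstanceAs (Epi (cokernel.π s)) } u
        have hmono : Mono (i ≫ u.map c) := Preadditive.mono_of_cancel_zero _ fun x hx => by
          haveI := hex.mono_f
          obtain ⟨l, hl⟩ : ∃ l, l ≫ u.map s = x ≫ i :=
            ⟨hex.exact.lift (x ≫ i) (by simpa using hx), hex.exact.lift_f _ _⟩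
          have h1 : pullback.lift l x hl ≫ pullback.fst (u.map s) i = l := pullback.lift_fst _ _ _
          rw [h0, comp_zero] at h1
          rw [← h1, zero_comp] at hl
          exact (cancel_mono i).1 (by rw [zero_comp]; exact hl.symm)
        have hle : kernelSubobject π ≤ kernelSubobject (π ≫ c) := kernelSubobject_comp_le π c
        have hne : kernelSubobject π ≠ kernelSubobject (π ≫ c) := fun heq => by
          obtain ⟨l, hl⟩ : ∃ l, (π ≫ c) ≫ l = π := by
            have hz : kernel.ι (π ≫ c) ≫ π = 0 := by
              have : (kernelSubobject π).Factors (kernel.ι (π ≫ c)) := by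
                rw [heq]; exact kernelSubobject_factors _ _ (kernel.condition _)
              rw [← (kernelSubobject π).factorThru_arrow _ this, Category.assoc,
                kernelSubobject_arrow_comp, comp_zero]
            exact ⟨Abelian.epiDesc (π ≫ c) π hz, Abelian.comp_epiDesc _ _ _⟩
          haveI := hπ
          have h2 : c ≫ l = 𝟙 Q := (cancel_epi π).1 (by rw [Category.comp_id, ← Category.assoc]; exact hl)
          have h3 : s = 0 := by
            rw [← Category.comp_id s, ← h2, ← Category.assoc, cokernel.condition, zero_comp]
          exact Simple.not_isZero (S : A) (IsZero.of_mono_eq_zero s h3)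
        haveI := hπ
        exact ih _ (hN ▸ lt_of_le_of_ne hle hne) _ (π ≫ c) (epi_comp _ _) rfl K (i ≫ u.map c) hmono hK
      · haveI := hi
        haveI : IsIso (pullback.fst (u.map s) i) := isIso_of_mono_of_nonzero h0
        refine ⟨(S : A), inv (pullback.fst (u.map s) i) ≫ pullback.snd _ _, fun hz => h0 ?_⟩
        have h1 : pullback.snd (u.map s) i = 0 := by
          rw [← IsIso.hom_inv_id_assoc (pullback.fst (u.map s) i) (pullback.snd (u.map s) i), hz, comp_zero]
        exact (cancel_mono (u.map s)).1 (by rw [pullback.condition, h1, zero_comp, zero_comp])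
  apply Preadditive.mono_of_kernel_zero
  by_contra h
  obtain ⟨S, a, ha⟩ := key (uStar.obj Y) _ _ (𝟙 _) inferInstance rfl _
    (kernel.ι (adj.counit.app Y)) inferInstance (fun hz => h (hz.eq_of_src _ _))
  refine ha ((cancel_mono (kernel.ι (adj.counit.app Y))).1 ?_)
  obtain ⟨m, hm⟩ := u.map_surjective (a ≫ kernel.ι (adj.counit.app Y))
  rw [zero_comp, ← hm]
  have h0 : (adj.homEquiv _ _).symm m = (adj.homEquiv _ _).symm 0 := by
    rw [Adjunction.homEquiv_counit, Adjunction.homEquiv_counit, hm, Functor.map_zero, zero_comp,
      Category.assoc, kernel.condition, comp_zero]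
  rw [(adj.homEquiv _ _).symm.injective h0, Functor.map_zero]

end Groth.Agent.S11523
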