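import Groth.Statements.S1184
import Groth.Agent.PicFRel.CurveDiv

set_option autoImplicit false
open CategoryTheory CategoryTheory.Limits AlgebraicGeometry
universe u
open HilbD

namespace Groth.Agent.S1184

set_option backward.isDefEq.respectTransparency false
set_option backward.isDefEq.respectTransparency.types false

/-- Let f : X ⟶ S be smooth of relative dimension 1 and D the closed subscheme of X defined by a
quasi-coherent ideal sheaf I. Then I is the ideal of an effective Cartier divisor with D flat over S
if and only if the projection from D to S is flat, locally quasi-finite and locally finitely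
presented; and both hold as soon as D is finite locally free over S. -/
theorem result {X S : Scheme.{u}} (f : X ⟶ S) [SmoothOfRelativeDimension 1 f]
    (I : X.IdealSheafData) :
    ((BlowUp.IsEffCartierIdeal I ∧ Flat (I.subschemeι ≫ f)) ↔
      (LocallyQuasiFinite (I.subschemeι ≫ f) ∧ Flat (I.subschemeι ≫ f) ∧ LocallyOfFinitePresentation (I.subschemeι ≫ f))) ∧
    (Mor2.IsFinLocFree (I.subschemeι ≫ f) → BlowUp.IsEffCartierIdeal I ∧ Flat (I.subschemeι ≫ f)) := by
  exact ⟨⟨fun h => ⟨(Groth.Agent.PicFRel.CurveDiv.quasiFinite_and_fp h.1 h.2).1, h.2,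
      (Groth.Agent.PicFRel.CurveDiv.quasiFinite_and_fp h.1 h.2).2⟩,
    fun h => ⟨Groth.Agent.PicFRel.CurveDiv.isEffCartierIdeal h.1 h.2.1 h.2.2, h.2.1⟩⟩,
    Groth.Agent.PicFRel.CurveDiv.of_isFinLocFree⟩


end Groth.Agent.S1184
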