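import Groth.Statements.S1194
import Groth.Agent.RG11.LocalUI
-- import your own Groth.Agent.* helpers here

set_option autoImplicit false
universe u
open FlatMor

namespace Groth.Agent.S1194

open IsLocalRing in
/-- Let R → S be a local homomorphism of local rings which is essentially of finite presentation, and N
a finitely presented S-module flat over R. Then multiplication by any element of S acting
injectively on N/𝔪_R N is a universally injective map of R-modules on N, and the localization map
from N to its localization at all such elements is universally injective over R. -/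
theorem result {R S : Type u} [CommRing R] [IsLocalRing R] [CommRing S] [IsLocalRing S] [Algebra R S]
    [IsLocalHom (algebraMap R S)] (hS : FlatCA.EssFinitePresentation R S)
    (N : Type u) [AddCommGroup N] [Module S N] [Module R N] [IsScalarTower R S N] [Module.FinitePresentation S N] [Module.Flat R N] :
    (∀ s ∈ FlatCA.nzdFiber R S N, FlatCA.UnivInj R ((LinearMap.lsmul S N s).restrictScalars R)) ∧
    FlatCA.UnivInj R ((LocalizedModule.mkLinearMap (FlatCA.nzdFiber R S N) N).restrictScalars R) := by
  haveI := Groth.Agent.RG11.essFiniteType_of_essFP hS
  refine ⟨fun s hs => Groth.Agent.RG11.ui_of_linear_map_local (LinearMap.lsmul S N s)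
    (fun x hx => Groth.Agent.RG11.mem_of_nzdFiber_smul_mem hs hx), ?_⟩
  haveI : Module.Flat R (LocalizedModule (FlatCA.nzdFiber R S N) N) :=
    Groth.Agent.RG11.flat_localizedModule (FlatCA.nzdFiber R S N) N
  refine Groth.Agent.RG11.ui_of_linear_map_local (LocalizedModule.mkLinearMap (FlatCA.nzdFiber R S N) N) fun x hx => ?_
  obtain ⟨s, hs, h⟩ := Groth.Agent.RG11.exists_smul_mem_of_localized_mem (maximalIdeal R) (FlatCA.nzdFiber R S N)
    (LocalizedModule.mkLinearMap (FlatCA.nzdFiber R S N) N) x hx
  exact Groth.Agent.RG11.mem_of_nzdFiber_smul_mem hs h

end Groth.Agent.S1194
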