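import Groth.Statements.S1195
import Groth.Agent.RG11.GlobalUI
-- import your own Groth.Agent.* helpers here

set_option autoImplicit false
universe u
open FlatMor

namespace Groth.Agent.S1195

open TensorProduct in
/-- Let S be a finitely presented R-algebra, N a finitely presented S-module flat over R, and S' a flat
S-algebra such that every prime q of S (over p in R) whose extension to the fibre ring over p is an
associated prime of the fibre module of N is the contraction of a prime of S'. Then the base change
map N → S' ⊗_S N is universally injective as a map of R-modules. -/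
theorem result {R S S' : Type u} [CommRing R] [CommRing S] [CommRing S'] [Algebra R S] [Algebra S S'] [Algebra R S'] [IsScalarTower R S S']
    [Algebra.FinitePresentation R S] [Module.Flat S S']
    (N : Type u) [AddCommGroup N] [Module S N] [Module R N] [IsScalarTower R S N] [Module.FinitePresentation S N] [Module.Flat R N]
    (h : ∀ (p : Ideal R) (q : Ideal S) [p.IsPrime] [q.IsPrime] [q.LiesOver p],
      FlatCA.fiberIdeal p q ∈ associatedPrimes (p.Fiber S) (FlatCA.fiberMod p S N) →
      ∃ q' : Ideal S', q'.IsPrime ∧ q'.comap (algebraMap S S') = q) :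
    FlatCA.UnivInj R ((TensorProduct.mk S S' N 1).restrictScalars R) := by
  haveI : Module.Flat R (S' ⊗[S] N) :=
    Groth.Agent.FlatFibres.flat_of_isBaseChange (R := R) (TensorProduct.mk S S' N 1) (TensorProduct.isBaseChange S N S')
  refine (Groth.Agent.RG11.univInj_iff _).2 fun Q _ _ => (injective_iff_map_eq_zero _).2 fun z hz => ?_
  by_contra hne
  let J : Ideal S := (Submodule.span S {z}).annihilator
  have hJ : J ≠ ⊤ := fun h0 => hne (by
    have h1 : (1 : S) ∈ J := by rw [h0]; exact Submodule.mem_top
    simpa using (Submodule.mem_annihilator_span_singleton z (1 : S)).1 h1)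
  obtain ⟨q, hq, hJq⟩ := Ideal.exists_le_maximal J hJ
  haveI := hq.isPrime
  haveI : q.LiesOver (q.under R) := ⟨rfl⟩
  obtain ⟨s, hs, hsz⟩ := Groth.Agent.RG11.exists_smul_eq_zero_of_linear_map (R := R) N (q.under R) q
    (TensorProduct.mk S S' N 1)
    (fun n hn => Groth.Agent.RG11.exists_smul_mem_of_one_tmul_mem N (q.under R) q (fun t _ _ ht => h _ t ht) n hn) Q z hz
  exact hs (hJq ((Submodule.mem_annihilator_span_singleton z s).2 hsz))

end Groth.Agent.S1195
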