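import Groth.Statements.S1196
import Groth.Agent.RG11.LocalUI
-- import your own Groth.Agent.* helpers here

set_option autoImplicit false
universe u
open FlatMor

namespace Groth.Agent.S1196

open TensorProduct IsLocalRing in
/-- Let R → S be a local homomorphism of local rings, essentially of finite presentation, N a finitely
presented S-module flat over R, and S' a flat S-algebra such that every prime of S which is an
associated prime of N/𝔪_R N is the contraction of a prime of S'. Then N → S' ⊗_S N is universally
injective as a map of R-modules. -/
theorem result {R S S' : Type u} [CommRing R] [IsLocalRing R] [CommRing S] [IsLocalRing S] [CommRing S'] [Algebra R S] [IsLocalHom (algebraMap R S)] [Algebra S S'] [Algebra R S'] [IsScalarTower R S S']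
    (hS : FlatCA.EssFinitePresentation R S) [Module.Flat S S']
    (N : Type u) [AddCommGroup N] [Module S N] [Module R N] [IsScalarTower R S N] [Module.FinitePresentation S N] [Module.Flat R N]
    (h : ∀ q ∈ associatedPrimes S (FlatCA.fiberMod (maximalIdeal R) S N),
      ∃ q' : Ideal S', q'.IsPrime ∧ q'.comap (algebraMap S S') = q) :
    FlatCA.UnivInj R ((TensorProduct.mk S S' N 1).restrictScalars R) := by
  haveI := Groth.Agent.RG11.essFiniteType_of_essFP hS
  haveI : IsNoetherianRing ((maximalIdeal R).Fiber S) :=
    Algebra.EssFiniteType.isNoetherianRing (maximalIdeal R).ResidueField _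
  haveI : Module.Flat R (S' ⊗[S] N) :=
    Groth.Agent.FlatFibres.flat_of_isBaseChange (R := R) (TensorProduct.mk S S' N 1) (TensorProduct.isBaseChange S N S')
  exact Groth.Agent.RG11.ui_of_linear_map_local (TensorProduct.mk S S' N 1)
    (fun x hx => Groth.Agent.RG11.mem_of_one_tmul_mem h x hx)

end Groth.Agent.S1196
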