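import Groth.Statements.S12113
import Groth.Agent.SGA7X.FppfExact
-- import your own Groth.Agent.* helpers here

set_option autoImplicit false
universe u
open CategoryTheory CategoryTheory.Limits MonoidalCategory CartesianMonoidalCategory MonObj AlgebraicGeometry
open SGA7

namespace Groth.Agent.S12113

/-- Group schemes, fppf site: over a base scheme S, let P and G be S-group schemes with G commutative,
and let u : G → E, v : E → P and u' : G → E', v' : E' → P be homomorphisms forming sequences 1 → G →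
E → P → 1 and 1 → G → E' → P → 1 exact for the fppf topology. Suppose every morphism of S-schemes P
×_S P → G trivial on P × e_P and on e_P × P is trivial. Let f : E → E' be a morphism of S-schemes
over P (f ≫ v' = v) and under G (u ≫ f = u'), preserving the unit section, and compatible with left
and right translations by G: for all points g of G and x of E with values in any S-scheme, f(u(g) x)
= u'(g) f(x) and f(x u(g)) = f(x) u'(g). Then f is a homomorphism of S-group schemes: such
extensions have no non-multiplicative morphisms of their underlying rigidified bitorsors. (The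
published statement is for sheaves of groups on an arbitrary topos and phrased as full faithfulness
of the functor from extensions to rigidified bitorsors; this row is the case of representable
sheaves on the fppf site of S, with G commutative so that the defect of multiplicativity descends to
P ×_S P as in the printed argument. Morphisms to a group scheme form a group; trivial means equal to
its unit.) -/
theorem result (S : Scheme.{u})
    (P G E E' : Over S) [GrpObj P] [GrpObj G] [GrpObj E] [GrpObj E'] [IsCommMonObj G]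
    (u : G ⟶ E) (v : E ⟶ P) (hex : NonAbH1.IsExactSeq Scheme.fppfPrecoverage u v)
    (u' : G ⟶ E') (v' : E' ⟶ P) (hex' : NonAbH1.IsExactSeq Scheme.fppfPrecoverage u' v')
    (hPP : ∀ c : P ⊗ P ⟶ G, lift (𝟙 P) (toUnit P ≫ η[P]) ≫ c = 1 → lift (toUnit P ≫ η[P]) (𝟙 P) ≫ c = 1 → c = 1)
    (f : E ⟶ E') (hv : f ≫ v' = v) (hu : u ≫ f = u') (h1 : η[E] ≫ f = η[E'])
    (hl : ∀ (T : Over S) (g : T ⟶ G) (x : T ⟶ E), ((g ≫ u) * x) ≫ f = (g ≫ u') * (x ≫ f))
    (hr : ∀ (T : Over S) (g : T ⟶ G) (x : T ⟶ E), (x * (g ≫ u)) ≫ f = (x ≫ f) * (g ≫ u')) :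
    IsMonHom f := by
  have := hex.1
  have := hex.2.1
  have := hex'.1
  have := hex'.2.1
  let xy : E ⊗ E ⟶ E' := (fst E E * snd E E) ≫ f
  let x : E ⊗ E ⟶ E' := fst E E ≫ f
  let y : E ⊗ E ⟶ E' := snd E E ≫ f
  obtain ⟨D, hD⟩ := SGA7X.FppfExact.exists_ker hex' (y := xy * (x * y)⁻¹) (by
    simp only [xy, x, y, MonObj.mul_comp, GrpObj.inv_comp, Category.assoc, hv]
    exact _root_.mul_inv_cancel _)
  have hDpt : ∀ (T : Over S) (a b : T ⟶ E),
      (lift a b ≫ D) ≫ u' = ((a * b) ≫ f) * ((a ≫ f) * (b ≫ f))⁻¹ := by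
    intro T a b
    rw [Category.assoc, hD]
    simp only [xy, x, y, MonObj.comp_mul, GrpObj.comp_inv, ← Category.assoc, lift_fst, lift_snd]
  have hvv := (SGA7X.FppfExact.locEpi hex).tensorHom (SGA7X.FppfExact.locEpi hex)
  obtain ⟨c, hc⟩ := hvv.desc D (fun T p q hpq => by
    refine SGA7X.FppfExact.mono hex' ?_
    have hp : p = lift (p ≫ fst E E) (p ≫ snd E E) := by ext1 <;> simp
    have hq : q = lift (q ≫ fst E E) (q ≫ snd E E) := by ext1 <;> simp
    have e1 : (p ≫ fst E E) ≫ v = (q ≫ fst E E) ≫ v := by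
      simpa using congrArg (· ≫ fst P P) hpq
    have e2 : (p ≫ snd E E) ≫ v = (q ≫ snd E E) ≫ v := by
      simpa using congrArg (· ≫ snd P P) hpq
    obtain ⟨g, hg⟩ := SGA7X.FppfExact.exists_mul_right hex e1
    obtain ⟨h, hh⟩ := SGA7X.FppfExact.exists_mul_right hex e2
    set a := p ≫ fst E E
    set b := p ≫ snd E E
    rw [hp, hq, hg, hh, hDpt, hDpt]
    obtain ⟨g', hg'⟩ := SGA7X.FppfExact.exists_ker hex (y := b⁻¹ * (g ≫ u) * b) (by
      rw [MonObj.mul_comp, MonObj.mul_comp, GrpObj.inv_comp, SGA7X.FppfExact.comp_u_v hex,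
        _root_.mul_one, _root_.inv_mul_cancel])
    have hgb : (g ≫ u) * b = b * (g' ≫ u) := by rw [hg']; group
    have hgb' : (g ≫ u') * (b ≫ f) = (b ≫ f) * (g' ≫ u') := by rw [← hl, hgb, hr]
    have hprod : a * (g ≫ u) * (b * (h ≫ u)) = a * b * ((g' * h) ≫ u) := by
      rw [MonObj.mul_comp]
      calc a * (g ≫ u) * (b * (h ≫ u)) = a * ((g ≫ u) * b) * (h ≫ u) := by group
        _ = a * (b * (g' ≫ u)) * (h ≫ u) := by rw [hgb]
        _ = a * b * ((g' ≫ u) * (h ≫ u)) := by group
    rw [hprod, hr, hr, hr, MonObj.mul_comp g' h u']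
    calc _ = ((a * b) ≫ f) * ((g' ≫ u') * (h ≫ u')) *
          ((a ≫ f) * ((b ≫ f) * (g' ≫ u')) * (h ≫ u'))⁻¹ := by group
      _ = _ := by rw [← hgb']; group)
  have h1u : ∀ (T : Over S), (1 : T ⟶ E) ≫ f = 1 := fun T => by
    rw [Hom.one_def, Category.assoc, h1, ← Hom.one_def]
  have hax1 : lift (𝟙 P) (toUnit P ≫ η[P]) ≫ c = 1 := by
    refine (SGA7X.FppfExact.locEpi hex).cancel (SGA7X.FppfExact.mono hex' ?_)
    have h2 : v ≫ lift (𝟙 P) (toUnit P ≫ η[P]) = lift (𝟙 E) 1 ≫ (v ⊗ₘ v) := by
      rw [lift_map, Category.id_comp, comp_lift, Category.comp_id, MonObj.one_comp, ← Category.assoc,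
        toUnit_unique (v ≫ toUnit P) (toUnit E), ← Hom.one_def]
    rw [← Category.assoc v, h2, Category.assoc (lift _ _), hc, hDpt, h1u, _root_.mul_one, _root_.mul_one, Category.id_comp,
      _root_.mul_inv_cancel, MonObj.comp_one, MonObj.one_comp]
  have hax2 : lift (toUnit P ≫ η[P]) (𝟙 P) ≫ c = 1 := by
    refine (SGA7X.FppfExact.locEpi hex).cancel (SGA7X.FppfExact.mono hex' ?_)
    have h2 : v ≫ lift (toUnit P ≫ η[P]) (𝟙 P) = lift 1 (𝟙 E) ≫ (v ⊗ₘ v) := by
      rw [lift_map, Category.id_comp, comp_lift, Category.comp_id, MonObj.one_comp, ← Category.assoc,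
        toUnit_unique (v ≫ toUnit P) (toUnit E), ← Hom.one_def]
    rw [← Category.assoc v, h2, Category.assoc (lift _ _), hc, hDpt, h1u, _root_.one_mul, _root_.one_mul, Category.id_comp,
      _root_.mul_inv_cancel, MonObj.comp_one, MonObj.one_comp]
  have hD1 : D = 1 := by rw [← hc, hPP c hax1 hax2, MonObj.comp_one]
  refine ⟨h1, ?_⟩
  have h2 : xy * (x * y)⁻¹ = 1 := by rw [← hD, hD1, MonObj.one_comp]
  have h3 : xy = x * y := mul_inv_eq_one.1 h2
  have hμ : μ[E] = fst E E * snd E E := by rw [Hom.mul_def, lift_fst_snd, Category.id_comp]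
  rw [hμ]
  refine h3.trans ?_
  rw [Hom.mul_def]
  congr 1

end Groth.Agent.S12113
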