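import Groth.Statements.S12115
import Groth.Agent.ParLib.LeviCent
import Groth.Agent.RedSub30.Centre
import Groth.Agent.RedSub30.SplitTorus
import Groth.Agent.RedSub30.TorusClosed
import Groth.Agent.RedSub30.TorusOverField
import Groth.Agent.S5427

set_option autoImplicit false
open CategoryTheory MonoidalCategory CartesianMonoidalCategory MonObj GrpObj AlgebraicGeometry
universe u
open Par

namespace Groth.Agent.S12115

open CategoryTheory.Limits WithConv Groth.Agent.BigCell29 Groth.Agent.RedSub30 Groth.Agent.RedRk29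
  Groth.Agent.ParLib Groth.Agent.GrpSchLib.AffineHopf

variable {S : Scheme.{u}} {G : Over S} [GrpObj G] (D : Red.SplitRed G)

/-- A torus point commuting with a root point of parameter one is killed by the root. -/
theorem char_root_eq_one {R : Type u} [CommRing R] {f : Spec (CommRingCat.of R) ⟶ S} {B : Type u} [CommRing B]
    [Algebra R B] (χ : Multiplicative D.M →* B) (a : D.idx)
    (h : torG (f := f) D χ * rtG D a 1 = rtG D a 1 * torG D χ) :
    χ (Multiplicative.ofAdd (D.P.root a)) = 1 := by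
  rw [rtG_conj, _root_.mul_one] at h
  haveI := (D.rootHom a).2.1
  haveI := mono_of_closedImmersion (D.u a)
  exact (gaPt_bijective f).injective ((cancel_mono (D.u a)).mp (mul_right_cancel h))

/-- A root homomorphism is not trivial. -/
theorem root_ne_one [ConnectedSpace S] (a : D.idx) : D.u a ≠ 1 := by
  intro h
  obtain ⟨s⟩ : Nonempty S := inferInstance
  have h1 := congrArg (fun k => gaPt (Red.geomPt s) (1 : AlgebraicClosure (S.residueField s)) ≫ k) h
  have h2 := congrArg (fun k => gaPt (Red.geomPt s) (0 : AlgebraicClosure (S.residueField s)) ≫ k) h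
  simp only [MonObj.comp_one] at h1 h2
  haveI := (D.rootHom a).2.1
  haveI := mono_of_closedImmersion (D.u a)
  exact one_ne_zero ((gaPt_bijective _).injective ((cancel_mono (D.u a)).mp (h1.trans h2.symm)))

/-- The points of the universal point of a split torus at the origin. -/
theorem theta_counit {K : Type u} [Field K] {n : ℕ} (f : Spec (CommRingCat.of K) ⟶ S) {X : Over S} [GrpObj X]
    (j : splitTorus K n ⟶ Red.bc f X) [IsMonHom j] :
    tMap f ((1 : WithConv (MonoidAlgebra K (Multiplicative (Fin n → ℤ)) →ₐ[K] K)).ofConv) ≫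
      DSPtsLib.theta f j = 1 := by
  set ε : MonoidAlgebra K (Multiplicative (Fin n → ℤ)) →ₐ[K] K :=
    (1 : WithConv (MonoidAlgebra K (Multiplicative (Fin n → ℤ)) →ₐ[K] K)).ofConv
  have h1 : spMap ε * spMap ε = spMap ε := by
    rw [spMap_mul]
    exact congrArg spMap (congrArg WithConv.ofConv (_root_.mul_one (toConv ε)))
  have h2 : spMap ε ≫ j = 1 := by
    have h3 := (MonObj.mul_comp (spMap ε) (spMap ε) j).symm
    rw [h1] at h3
    exact mul_eq_left.mp h3
  rw [← theta_spMap, h2]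
  exact GrpSchLib.HomUnitLocus.theta_one _ _

/-- The splitting of the torus. -/
theorem isIso_split : IsIso D.split.inv.hom.hom :=
  ((Grp.forget _).mapIso D.split.symm).isIso_hom

/-- Let S be a connected scheme and G a reductive S-group with a pinning D (maximal torus i : T ⟶ G
split by T ≅ D_S(M), root datum D.P with root homomorphisms D.u a, base D.base), and p : P ⟶ G a
parabolic subgroup to which the pinning is adapted: T ⊆ P and U_a ⊆ P for every root a that is a
non-negative combination of simple roots. Let Δ(P) be the set of simple roots a with U_{-a} ⊆ P, N ⊆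
M the saturation of the subgroup generated by the roots in Δ(P), and j : D_S(M/N) ⟶ G the subtorus
T_{Δ(P)} of T it defines (the maximal torus of the intersection of the kernels of the a ∈ Δ(P)).
Then for every Levi subgroup l : L ⟶ P containing T: (a) L is the centralizer of T_{Δ(P)} in G; (b)
T_{Δ(P)} is the radical of L: it factors through L and, for any centre ZL ⟶ L of L, through ZL as a
maximal torus of ZL. (Here P is any parabolic subgroup adapted to the pinning and S is taken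
connected, so that P has constant type; over a disconnected base Δ(P), computed over all of S, can
be smaller than the type of P on a component, and the conclusion fails.) -/
theorem result {S : Scheme.{u}} [ConnectedSpace S] {G P L : Over S}
    [GrpObj G] [GrpObj P] [GrpObj L] (D : Red.Pinning G) (p : P ⟶ G) (hP : Red.IsParabolic p)
    (hT : ∃ t : D.T ⟶ P, t ≫ p = D.i)
    (hpos : ∀ a : D.idx, D.P.root a ∈ AddSubmonoid.closure (D.P.root '' (D.base.support : Set D.idx)) →
      ∃ v : Red.Ga S ⟶ P, v ≫ p = D.u a)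
    (ΔP : Set D.idx)
    (hΔP : ∀ a : D.idx, a ∈ ΔP ↔ (a ∈ D.base.support ∧
      ∃ b : D.idx, D.P.root b = - D.P.root a ∧ ∃ v : Red.Ga S ⟶ P, v ≫ p = D.u b))
    (N : Submodule ℤ D.M)
    (hN : ∀ m : D.M, m ∈ N ↔ ∃ k : ℤ, k ≠ 0 ∧ k • m ∈ Submodule.span ℤ (D.P.root '' ΔP))
    (l : L ⟶ P) (hl : Par.IsLevi l) (hTL : ∃ t' : D.T ⟶ L, t' ≫ l ≫ p = D.i) :
    Red.IsCentralizerOf (Red.DSmap S N.mkQ.toAddMonoidHom ≫ D.split.inv.hom.hom ≫ D.i) (l ≫ p) ∧
    (∃ r₀ : Red.DS S (D.M ⧸ N) ⟶ L, r₀ ≫ l ≫ p = Red.DSmap S N.mkQ.toAddMonoidHom ≫ D.split.inv.hom.hom ≫ D.i) ∧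
    ∀ (ZL : Over S) [GrpObj ZL] (jz : ZL ⟶ L), Red.IsCentre jz →
      ∃ r : Red.DS S (D.M ⧸ N) ⟶ ZL, r ≫ jz ≫ l ≫ p = Red.DSmap S N.mkQ.toAddMonoidHom ≫ D.split.inv.hom.hom ≫ D.i ∧
        Red.IsMaximalTorus r := by
  classical
  obtain ⟨tP, htP⟩ := hT
  obtain ⟨t', ht'⟩ := hTL
  obtain ⟨hlm, hlmono, hLred, U, _, u, hu, hiso⟩ := hl
  have hP' := hP
  obtain ⟨hpm, hpc, hps, -⟩ := hP
  haveI := hlm
  haveI := hlmono
  haveI := hpm
  haveI := hpc
  haveI := hps
  haveI := hiso
  haveI := hu.1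
  haveI := hu.2.1
  haveI : Mono p := mono_of_closedImmersion p
  haveI : IsAffineHom G.hom := D.reductive.1
  haveI : IsAffineHom P.hom := by rw [← Over.w p]; infer_instance
  haveI : IsAffineHom U.hom := by rw [← Over.w u]; infer_instance
  haveI : IsClosedImmersion l.left := isClosedImmersion_of_semidirect l u
  haveI : IsClosedImmersion (l ≫ p).left := by rw [Over.comp_left]; infer_instance
  haveI : Mono (l ≫ p) := mono_of_closedImmersion (l ≫ p)
  haveI : IsMonHom (l ≫ p) := inferInstance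
  haveI : Smooth L.hom := hLred.2.1
  haveI : Smooth U.hom := hu.2.2.2.1
  haveI : IsMonHom D.i := D.maximalTorus.1
  haveI : Mono D.i := D.maximalTorus.2.1
  -- connected fibres
  have hconnP : ∀ s : S, _root_.IsConnected (P.hom ⁻¹' {s}) := fun s => by
    haveI : LocallyOfFiniteType U.hom := inferInstance
    have h := isConnected_tensor_fibre (X := L) (Y := U) (fun s => ParLib.isConnected_fibre hLred s)
      (fun s => isConnected_fibre_of_geom U s (hu.2.2.2.2.2.1 s).1) s
    haveI : IsIso ((l ⊗ₘ u) ≫ μ[P]).left := inferInstanceAs (IsIso ((Over.forget _).map ((l ⊗ₘ u) ≫ μ[P])))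
    have hsurj : Function.Surjective ((l ⊗ₘ u) ≫ μ[P]).left :=
      (asIso ((l ⊗ₘ u) ≫ μ[P]).left).hom.homeomorph.surjective
    have e : ((l ⊗ₘ u) ≫ μ[P]).left '' ((L ⊗ U).hom ⁻¹' {s}) = P.hom ⁻¹' {s} := by
      rw [← Over.w ((l ⊗ₘ u) ≫ μ[P]), Scheme.Hom.comp_base, TopCat.coe_comp, Set.preimage_comp,
        Set.image_preimage_eq _ hsurj]
    rw [← e]
    exact h.image _ ((l ⊗ₘ u) ≫ μ[P]).left.continuous.continuousOn
  -- combinatorics of the roots of `P`
  obtain ⟨m, hm⟩ := (exists_lam_weight D.toSplitRed p hP' tP htP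
    (R' := {a | ∃ v : Red.Ga S ⟶ P, v ≫ p = D.u a}) fun _ => Iff.rfl).2
  have hneg : ∀ a : D.idx, D.P.root (negIdx D.toSplitRed a) = -D.P.root a := root_negIdx D.toSplitRed
  have hnegc : ∀ a : D.idx, D.P.coroot' (negIdx D.toSplitRed a) m = -D.P.coroot' a m := by
    intro a
    have e : D.P.coroot (D.P.reflectionPerm a a) = -D.P.coroot a := by
      rw [RootPairing.coroot_reflectionPerm, RootPairing.coreflection_apply_self]
    simp [RootPairing.coroot', negIdx, e]
  have hsimple : ∀ i ∈ D.base.support, ∃ v : Red.Ga S ⟶ P, v ≫ p = D.u i := fun i hi =>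
    hpos i (AddSubmonoid.subset_closure ⟨i, hi, rfl⟩)
  have hΔ : ΔP ⊆ (D.base.support : Set D.idx) := fun i hi => ((hΔP i).mp hi).1
  have hm0 : ∀ i ∈ D.base.support, D.P.coroot' i m = 0 ↔ i ∈ ΔP := fun i hi => by
    refine ⟨fun h => (hΔP i).mpr ⟨hi, negIdx D.toSplitRed i, hneg i, (hm i (hsimple i hi)).2 h⟩, fun h => ?_⟩
    obtain ⟨-, b, hb, v, hv⟩ := (hΔP i).mp h
    have hb' : b = negIdx D.toSplitRed i := D.P.root.injective (hb.trans (hneg i).symm)
    subst hb'
    have h1 := (hm _ ⟨v, hv⟩).1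
    have h2 := (hm i (hsimple i hi)).1
    rw [hnegc] at h1
    omega
  have hsign := fun c hc => coroot_sign D.P D.base hΔ N hN (fun i hi => (hm i (hsimple i hi)).1) hm0 (c := c) hc
  obtain ⟨lf, hlf0, hlfpos⟩ := exists_levi_functional D.P D.base hΔ N hN
  set q : D.M →+ D.M ⧸ N := N.mkQ.toAddMonoidHom
  set ν : D.M →+ ℤ := lf.comp q
  have hν0 : ∀ a, ν (D.P.root a) = 0 ↔ D.P.root a ∈ N := hlf0
  have hnegpos : ∀ a, a ∉ RedSub.posRoots D.P D.base → negIdx D.toSplitRed a ∈ RedSub.posRoots D.P D.base := by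
    intro a ha
    show D.P.root (negIdx D.toSplitRed a) ∈ AddSubmonoid.closure (D.P.root '' (D.base.support : Set D.idx))
    rw [hneg]
    exact (D.base.root_mem_or_neg_mem a).resolve_left ha
  have hR : ∀ a : D.idx, (∃ v : Red.Ga S ⟶ P, v ≫ p = D.u a) ↔ 0 ≤ ν (D.P.root a) := by
    intro a
    by_cases ha : a ∈ RedSub.posRoots D.P D.base
    · exact ⟨fun _ => hlfpos a ha, fun _ => hpos a ha⟩
    have hb := hnegpos a ha
    have hνb : ν (D.P.root (negIdx D.toSplitRed a)) = -ν (D.P.root a) := by rw [hneg, map_neg]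
    refine ⟨fun h => ?_, fun h => ?_⟩
    · have h1 := (hm a h).1
      have h2 := (hsign _ hb).1
      rw [hnegc] at h2
      have h3 := (hsign _ hb).2.mp (by rw [hnegc]; omega)
      rw [hneg, neg_mem_iff] at h3
      exact ((hν0 a).mpr h3).ge
    · have h1 : (0 : ℤ) ≤ ν (D.P.root (negIdx D.toSplitRed a)) := hlfpos _ hb
      have h3 := (hν0 _).mp (show ν (D.P.root (negIdx D.toSplitRed a)) = 0 by rw [hνb]; omega)
      obtain ⟨v, hv⟩ := (hm _ (hpos _ hb)).2 ((hsign _ hb).2.mpr h3)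
      rw [show negIdx D.toSplitRed (negIdx D.toSplitRed a) = a from
        D.P.root.injective (by rw [hneg, hneg, neg_neg])] at hv
      exact ⟨v, hv⟩
  -- the roots of `L`
  have hLν : ∀ a : D.idx, (∃ w : Red.Ga S ⟶ L, w ≫ l ≫ p = D.u a) → ν (D.P.root a) = 0 := by
    rintro a ⟨w, hw⟩
    refine le_antisymm (not_lt.mp fun hlt => ?_) ((hR a).mp ⟨w ≫ l, by rw [Category.assoc, hw]⟩)
    obtain ⟨w', hw'⟩ := exists_radical_factor D.toSplitRed p tP htP hu ν hR hconnP hlt
    have e : w ≫ l = w' ≫ u := (cancel_mono p).mp (by rw [Category.assoc, Category.assoc, hw, hw'])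
    have h1 : w = 1 := (decomp_unique l u (a := w) (b := 1) (a' := 1) (b' := w') (by
      rw [MonObj.one_comp, MonObj.one_comp, _root_.mul_one, _root_.one_mul, e])).1
    rw [h1, MonObj.one_comp] at hw
    exact root_ne_one D.toSplitRed a hw.symm
  have hνL : ∀ a : D.idx, ν (D.P.root a) = 0 → ∃ w : Red.Ga S ⟶ L, w ≫ l ≫ p = D.u a := fun a ha => by
    obtain ⟨va, hva⟩ := (hR a).mpr ha.ge
    obtain ⟨vb, hvb⟩ := (hR (negIdx D.toSplitRed a)).mpr (by rw [hneg, map_neg, ha, neg_zero])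
    exact exists_levi_root D.toSplitRed p tP htP l u hu.2.2.1 t' ht' va hva vb hvb
  -- `L` commutes with the subtorus
  set jj : Red.DS S (D.M ⧸ N) ⟶ G := Red.DSmap S q ≫ D.split.inv.hom.hom ≫ D.i
  have hcomm : ∀ (X : Over S) (z : X ⟶ L) (h : X ⟶ Red.DS S (D.M ⧸ N)),
      (z ≫ l ≫ p) * (h ≫ jj) = (h ≫ jj) * (z ≫ l ≫ p) := by
    intro X z h
    refine ext_tObj fun R _ f _ B _ _ j => ?_
    obtain ⟨A, _, _, ⟨Md⟩⟩ := exists_model (R := R) f G
    set E := (Md.frame D.toSplitRed).T.coact.push q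
    let J : Set A := {x | ∃ (a : A) (n : D.M ⧸ N), n ≠ 0 ∧ x = E.p n a}
    have hJ : ∀ {C : Type u} [CommRing C] [Algebra R C] (g : Pt R A C), (∀ x ∈ J, g x = 0) ↔ E.InZ g :=
      fun g => ⟨fun h a n hn => h _ ⟨a, n, hn, rfl⟩, fun h x ⟨a, n, hn, e⟩ => e ▸ h a n hn⟩
    have hZ : E.InZ (Md.ofPt ((j ≫ z) ≫ l ≫ p)) := (hJ _).mp (ann_of_roots D.toSplitRed (l ≫ p) t' ht'
      (fun s => ParLib.isConnected_fibre hLred s) Md J
      (fun C _ _ g g' h1 h2 => (hJ _).mpr (Coact.InZ.mul _ ((hJ _).mp h1) ((hJ _).mp h2)))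
      (fun C _ _ χ => (hJ _).mpr (inZ_push_tor D.toSplitRed Md q χ))
      (fun i hi C _ _ x => (hJ _).mpr (inZ_push_rt D.toSplitRed Md q
        ((Submodule.Quotient.mk_eq_zero N).mpr ((hν0 i).mp (hLν i hi))) x)) (j ≫ z))
    obtain ⟨χ, hχ⟩ := (chPt_bijective f).surjective (j ≫ h)
    have e : Md.pt ((Md.frame D.toSplitRed).T.tor (χ.comp q.toMultiplicative)) = (j ≫ h) ≫ jj := by
      rw [Md.pt_tor, torG, ← RedRk29.chPt_DSmap, hχ]
      simp only [jj, Category.assoc]
    have h1 := congrArg Md.pt (tor_comm_of_inZ D.toSplitRed Md q hZ χ)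
    rw [Md.pt_mul, Md.pt_mul, Md.pt_ofPt, e] at h1
    simp only [MonObj.comp_mul, Category.assoc] at h1 ⊢
    exact h1.symm
  haveI := isIso_split D.toSplitRed
  haveI : IsMonHom D.split.inv.hom.hom := D.split.inv.hom.isMonHom_hom
  haveI : IsMonHom (Red.DSmap S q) := S5427.isMonHom_DSmap S q
  haveI := S5427.isClosedImmersion_DSmap S q N.mkQ_surjective
  haveI : Mono (Red.DSmap S q) := mono_of_closedImmersion _
  set r₀ : Red.DS S (D.M ⧸ N) ⟶ L := Red.DSmap S q ≫ D.split.inv.hom.hom ≫ t'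
  have hr₀ : r₀ ≫ l ≫ p = jj := by simp only [r₀, jj, Category.assoc, ht']
  refine ⟨⟨inferInstance, inferInstance, fun X g => ⟨?_, fun hg => ?_⟩⟩, ⟨r₀, hr₀⟩, fun ZL _ jz hjz => ?_⟩
  · rintro ⟨z, rfl⟩ X' x h
    rw [← Category.assoc x z]
    exact hcomm X' (x ≫ z) h
  · exact exists_factor_of_inZ D.toSplitRed (l ≫ p) t' ht' ν hνL g
      fun R _ f _ B _ _ A _ _ Md j => inZ_of_comm D.toSplitRed q lf g hg R f B A Md j
  -- the subtorus lies in the centre
  haveI := hjz.1
  haveI := hjz.2.1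
  haveI : IsMonHom (t' ≫ l ≫ p) := by rw [ht']; infer_instance
  haveI : IsMonHom t' := isMonHom_of_mono (l ≫ p) t'
  obtain ⟨r, hr, hrz⟩ := exists_lift_centre hjz r₀ fun X g h => by
    rw [← cancel_mono (l ≫ p), MonObj.mul_comp, MonObj.mul_comp, Category.assoc, hr₀]
    exact (hcomm X g h).symm
  have hrG : r ≫ jz ≫ l ≫ p = jj := by rw [← Category.assoc, hrz, hr₀]
  haveI : Mono jj := inferInstanceAs (Mono (Red.DSmap S q ≫ D.split.inv.hom.hom ≫ D.i))
  haveI : Mono (r ≫ jz ≫ l ≫ p) := by rw [hrG]; infer_instance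
  haveI hrm : Mono r := mono_of_mono r (jz ≫ l ≫ p)
  haveI : IsMonHom r := hr
  haveI : Module.Free ℤ (D.M ⧸ N) := free_quot D.P N hN
  have hDS : Red.IsTorus (Red.DS S (D.M ⧸ N)) := by
    obtain ⟨k, ⟨e⟩⟩ := exists_DS_iso S (D.M ⧸ N)
    exact MaxTorusLib.isTorus_of_iso e (MaxTorusLib.isTorus_DS S k)
  refine ⟨r, hrG, inferInstance, hrm, hDS, fun s T' _ j _ _ φ hT' hφ => ?_⟩
  -- the centre lies in the torus
  haveI : IsClosedImmersion D.i.left :=
    TorusClosed.isClosedImmersion_of_mono D.i (GrpSchLib.RankOne.isMultTypeFT_of_isTorus D.maximalTorus.2.2.1)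
  obtain ⟨lam, hlam, -⟩ := RedRk29.exists_perturb (0 : D.M →+ ℤ) (Set.finite_range D.P.root)
  obtain ⟨zt, hzt⟩ := exists_factor_of_inZ D.toSplitRed D.i (𝟙 D.T) (Category.id_comp _) lam
    (fun a ha => absurd ha (hlam _ ⟨a, rfl⟩ (D.P.ne_zero a))) (jz ≫ l ≫ p)
    fun R _ f _ B _ _ A _ _ Md jB => by
      have := inZ_of_comm D.toSplitRed (AddMonoidHom.id D.M) lam (jz ≫ l ≫ p) (fun X' x h => by
        have h1 := congrArg (fun k => k ≫ l ≫ p) (centralizer_comm hjz x (h ≫ Red.DSmap S (AddMonoidHom.id D.M) ≫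
          D.split.inv.hom.hom ≫ t'))
        simp only [Category.comp_id, MonObj.mul_comp, Category.assoc, ht'] at h1
        exact h1) R f B A Md jB
      simpa using this
  -- maximality
  let K := AlgebraicClosure (S.residueField s)
  let f : Spec (CommRingCat.of K) ⟶ S := Red.geomPt s
  obtain ⟨n, ⟨eT⟩⟩ := exists_splitTorus_iso T' hT'
  haveI : IsMonHom eT.hom.hom.hom := eT.hom.hom.isMonHom_hom
  haveI : IsIso eT.hom.hom.hom := ⟨eT.inv.hom.hom, congrArg (fun k => k.hom.hom) eT.hom_inv_id,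
    congrArg (fun k => k.hom.hom) eT.inv_hom_id⟩
  let B := MonoidAlgebra K (Multiplicative (Fin n → ℤ))
  let y₀ : tObj f B ⟶ ZL := DSPtsLib.theta f (eT.hom.hom.hom ≫ j)
  haveI : IsIso D.split.hom.hom.hom := ((Grp.forget _).mapIso D.split).isIso_hom
  obtain ⟨χ, hχ⟩ := (chPt_bijective f).surjective (y₀ ≫ zt ≫ D.split.hom.hom.hom)
  have hy : torG (f := f) D.toSplitRed χ = y₀ ≫ jz ≫ l ≫ p := by
    rw [torG, hχ, Category.assoc, Category.assoc, ← Category.assoc D.split.hom.hom.hom,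
      show D.split.hom.hom.hom ≫ D.split.inv.hom.hom = 𝟙 _ from congrArg (fun k => k.hom.hom) D.split.hom_inv_id,
      Category.id_comp, hzt]
  have hspan : ∀ x ∈ Submodule.span ℤ (D.P.root '' ΔP), χ (Multiplicative.ofAdd x) = 1 := by
    intro x hx
    induction hx using Submodule.span_induction with
    | mem x hx =>
      obtain ⟨a, ha, rfl⟩ := hx
      obtain ⟨w, hw⟩ := hνL a ((hν0 a).mpr ((hN _).mpr ⟨1, one_ne_zero, by
        rw [one_smul]; exact Submodule.subset_span ⟨a, ha, rfl⟩⟩))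
      refine char_root_eq_one D.toSplitRed (f := f) χ a ?_
      have h1 := congrArg (fun k => k ≫ l ≫ p) (centralizer_comm hjz y₀ (gaPt f (1 : B) ≫ w))
      simp only [Category.comp_id, MonObj.mul_comp, Category.assoc, hw] at h1
      rw [hy]
      exact h1
    | zero => exact map_one χ
    | add x y _ _ hx hy' => rw [ofAdd_add, map_mul, hx, hy', _root_.one_mul]
    | smul k x _ hx =>
      rw [ofAdd_zsmul]
      rcases k with k | k
      · rw [Int.ofNat_eq_natCast, zpow_natCast, map_pow, hx, one_pow]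
      · have h1 := map_mul χ (Multiplicative.ofAdd x ^ (k + 1)) (Multiplicative.ofAdd x ^ (k + 1))⁻¹
        rw [mul_inv_cancel, map_one, map_pow, hx, one_pow, _root_.one_mul] at h1
        rw [zpow_negSucc, ← h1]
  have hε : ∀ x : D.M, (1 : WithConv (B →ₐ[K] K)).ofConv (χ (Multiplicative.ofAdd x)) = 1 := by
    have h1 : tMap f ((1 : WithConv (B →ₐ[K] K)).ofConv) ≫ y₀ = 1 := theta_counit f (eT.hom.hom.hom ≫ j)
    have h2 := congrArg (fun k => tMap f ((1 : WithConv (B →ₐ[K] K)).ofConv) ≫ k) hy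
    simp only [torG_map, reassoc_of% h1, MonObj.one_comp] at h2
    have h3 : torG (f := f) (B := K) D.toSplitRed 1 = 1 := by
      have h4 := torG_mul (f := f) (B := K) D.toSplitRed 1 1
      rw [_root_.one_mul] at h4
      exact left_eq_mul.mp h4
    intro x
    exact DFunLike.congr_fun (torG_injective D.toSplitRed (h2.trans h3.symm)) (Multiplicative.ofAdd x)
  have hkill : ∀ x ∈ N, χ (Multiplicative.ofAdd x) = 1 := by
    intro x hx
    obtain ⟨k, hk, hkx⟩ := (hN x).mp hx
    haveI : IsDomain B := inferInstance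
    have hk' : k.natAbs • x ∈ Submodule.span ℤ (D.P.root '' ΔP) := by
      rcases Int.natAbs_eq k with h | h
      · rw [← natCast_zsmul, ← h]; exact hkx
      · rw [← natCast_zsmul, show ((k.natAbs : ℕ) : ℤ) = -k by omega, neg_smul]; exact neg_mem hkx
    have h1 := hspan _ hk'
    rw [ofAdd_nsmul, map_pow] at h1
    set y := χ (Multiplicative.ofAdd x)
    have hpol : (Polynomial.X ^ k.natAbs - 1 : Polynomial K).Splits := IsAlgClosed.splits _
    have h2 : Polynomial.aeval y (Polynomial.X ^ k.natAbs - 1 : Polynomial K) = 0 := by simp [h1]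
    rw [hpol.eq_prod_roots_of_monic (Polynomial.monic_X_pow_sub_C (1 : K) (Int.natAbs_ne_zero.mpr hk)),
      map_multiset_prod, Multiset.map_map, Multiset.prod_eq_zero_iff, Multiset.mem_map] at h2
    obtain ⟨c, -, hc⟩ := h2
    simp only [Function.comp_apply, map_sub, Polynomial.aeval_X, Polynomial.aeval_C, sub_eq_zero] at hc
    have h3 := hε x
    rw [show χ (Multiplicative.ofAdd x) = y from rfl, hc, AlgHom.commutes, Algebra.algebraMap_self,
      RingHom.id_apply] at h3
    rw [hc, h3, map_one]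
  obtain ⟨σ, hσ⟩ := Module.projective_lifting_property N.mkQ LinearMap.id N.mkQ_surjective
  let χ' : Multiplicative (D.M ⧸ N) →* B := χ.comp σ.toAddMonoidHom.toMultiplicative
  have hχ' : χ'.comp q.toMultiplicative = χ := MonoidHom.ext fun x => by
    show χ (Multiplicative.ofAdd (σ (N.mkQ x.toAdd))) = χ x
    have h1 : σ (N.mkQ x.toAdd) - x.toAdd ∈ N := (Submodule.Quotient.eq N).mp
      (LinearMap.congr_fun hσ (N.mkQ x.toAdd))
    conv_lhs => rw [← sub_add_cancel (σ (N.mkQ x.toAdd)) x.toAdd, ofAdd_add, map_mul, hkill _ h1, _root_.one_mul]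
    rfl
  haveI : Mono (jz ≫ l ≫ p) := inferInstance
  have hpt : chPt f χ' ≫ r = y₀ := by
    rw [← cancel_mono (jz ≫ l ≫ p), Category.assoc, hrG, ← hy, torG]
    simp only [jj]
    rw [reassoc_of% (RedRk29.chPt_DSmap (f := f) q χ'), hχ']
  obtain ⟨a, ha⟩ := (DSPtsLib.theta_bijective (Y := sp K B) (H := Red.DS S (D.M ⧸ N)) f).surjective (chPt f χ')
  have haj : a ≫ (Over.pullback f).map r = eT.hom.hom.hom ≫ j :=
    (DSPtsLib.theta_bijective f).injective (by rw [BigCell29.theta_map, ha]; exact hpt)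
  haveI : Mono ((Over.pullback f).map r) := inferInstance
  refine ⟨inv eT.hom.hom.hom ≫ a, ?_, ?_⟩
  · rw [← cancel_mono ((Over.pullback f).map r)]
    simp only [Category.assoc, haj, IsIso.inv_hom_id_assoc, Category.id_comp]
    exact hφ
  · rw [← cancel_mono j]
    simp only [f] at haj
    simp only [Category.assoc, hφ, haj, IsIso.inv_hom_id_assoc, Category.id_comp]

end Groth.Agent.S12115
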