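import Groth.Statements.S12121
import Groth.Agent.Ega41H93.Sk
import Groth.Agent.Alg6.AssDepth
import Groth.Agent.Alg6.LocLoc

set_option autoImplicit false
universe u
open EGA4

namespace Groth.Agent.S12121

open RingTheory.Sequence

theorem mem_support_localized {R : Type u} [CommRing R] {N : Type u} [AddCommGroup N] [Module R N]
    (q : Ideal R) [q.IsPrime] (z : PrimeSpectrum (Localization.AtPrime q))
    (h : PrimeSpectrum.comap (algebraMap R (Localization.AtPrime q)) z ∈ Module.support R N) :
    z ∈ Module.support (Localization.AtPrime q) (LocalizedModule q.primeCompl N) := by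
  obtain ⟨m, hm⟩ := Module.mem_support_iff'.1 h
  refine Module.mem_support_iff'.2 ⟨LocalizedModule.mkLinearMap q.primeCompl N m, fun w hw h0 => ?_⟩
  obtain ⟨⟨a, s⟩, has⟩ := IsLocalization.surj q.primeCompl w
  have h1 : (a : R) • LocalizedModule.mkLinearMap q.primeCompl N m = 0 := by
    rw [← algebraMap_smul (Localization.AtPrime q) a, ← has, mul_comm, mul_smul, h0, smul_zero]
  rw [← map_smul, IsLocalizedModule.eq_zero_iff q.primeCompl] at h1
  obtain ⟨u, hu⟩ := h1
  rw [Submonoid.smul_def, smul_smul] at hu
  refine hm ((u : R) * a) (fun hmem => ?_) hu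
  change algebraMap R (Localization.AtPrime q) ((u : R) * a) ∈ z.asIdeal at hmem
  rw [map_mul, ← has] at hmem
  rcases z.isPrime.mem_or_mem hmem with h' | h'
  · exact z.isPrime.ne_top (Ideal.eq_top_of_isUnit_mem _ h' (IsLocalization.map_units _ u))
  · rcases z.isPrime.mem_or_mem h' with h'' | h''
    · exact hw h''
    · exact z.isPrime.ne_top (Ideal.eq_top_of_isUnit_mem _ h'' (IsLocalization.map_units _ s))

theorem supportDim_localized_le_zero {R : Type u} [CommRing R] (N : Type u) [AddCommGroup N] [Module R N]
    [Module.Finite R N] (q : Ideal R) [q.IsPrime]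
    (h : ∀ Q : PrimeSpectrum R, Q ∈ Module.support R N → Q.asIdeal ≤ q → Q.asIdeal = q) :
    Module.supportDim (Localization.AtPrime q) (LocalizedModule q.primeCompl N) ≤ 0 := by
  rw [Module.supportDim, Order.krullDim_nonpos_iff_forall_isMax]
  intro x y hxy
  have key : ∀ w : Module.support (Localization.AtPrime q) (LocalizedModule q.primeCompl N),
      PrimeSpectrum.comap (algebraMap R (Localization.AtPrime q)) w.1 = ⟨q, inferInstance⟩ := by
    intro w
    refine PrimeSpectrum.ext (h _ (Module.mem_support_iff_of_finite.2 fun a ha => ?_) ?_)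
    · refine Module.annihilator_le_of_mem_support w.2 (Module.mem_annihilator.2 fun m => ?_)
      induction m using LocalizedModule.induction_on with
      | h m s =>
        rw [algebraMap_smul, LocalizedModule.smul'_mk, Module.mem_annihilator.1 ha m, LocalizedModule.zero_mk]
    · show w.1.asIdeal.comap (algebraMap R (Localization.AtPrime q)) ≤ q
      conv_rhs => rw [← Localization.AtPrime.under_maximalIdeal (I := q)]
      exact Ideal.comap_mono (IsLocalRing.le_maximalIdeal w.1.isPrime.ne_top)
  exact (Subtype.ext (PrimeSpectrum.localization_comap_injective (Localization.AtPrime q) q.primeCompl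
    ((key y).trans (key x).symm))).le

theorem noEmb_of_hasSk {R : Type u} [CommRing R] [IsNoetherianRing R] {N : Type u} [AddCommGroup N] [Module R N]
    [Module.Finite R N] {k : ℕ} (hS : LocCoh.HasSk k R N) (rs : List R) (hlen : rs.length < k)
    (hrs : IsWeaklyRegular N rs) (p : Ideal R) (hp : p ∈ associatedPrimes R (N ⧸ (Ideal.ofList rs • (⊤ : Submodule R N))))
    (q : Ideal R) (hq : q ∈ associatedPrimes R (N ⧸ (Ideal.ofList rs • (⊤ : Submodule R N)))) (hpq : p ≤ q) : p = q := by
  haveI := hq.isPrime
  haveI := hp.isPrime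
  let N' := N ⧸ (Ideal.ofList rs • (⊤ : Submodule R N))
  by_contra hne
  have hsupp : ∀ r ∈ associatedPrimes R N', ∀ hr : r.IsPrime, (⟨r, hr⟩ : PrimeSpectrum R) ∈ Module.support R N' :=
    fun r hr _ => Module.mem_support_iff_of_finite.2
      (le_of_eq_of_le Submodule.annihilator_top.symm (IsAssociatedPrime.annihilator_le hr))
  have hmem : ∀ r ∈ rs, r ∈ q := by
    intro r hr
    have h1 := hsupp q hq inferInstance
    rw [Module.support_quotient] at h1
    exact h1.2 (Ideal.subset_span hr)
  haveI : Nontrivial (LocalizedModule q.primeCompl N) := by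
    have h1 := hsupp q hq inferInstance
    rw [Module.support_quotient] at h1
    exact Module.mem_support_iff.1 h1.1
  obtain ⟨h1, h2⟩ := Groth.Agent.Ega41H93.depth_supportDim_add_length q (M := N) rs hrs hmem
  have h0 : LocCoh.depth (Localization.AtPrime q) (LocalizedModule q.primeCompl N') = 0 := by
    by_contra hn
    exact (Groth.Agent.Alg6.one_le_depth_atPrime_iff (M := N') q).1 (Order.one_le_iff_ne_zero.2 hn) hq
  rw [h0, zero_add] at h1
  have hk := hS q
  rw [← h1, ← h2] at hk
  -- the chain `p < q`
  have h3 : (1 : WithBot ℕ∞) ≤ Module.supportDim (Localization.AtPrime q) (LocalizedModule q.primeCompl N') := by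
    obtain ⟨z, hz⟩ : (⟨p, inferInstance⟩ : PrimeSpectrum R) ∈
        Set.range (PrimeSpectrum.comap (algebraMap R (Localization.AtPrime q))) := by
      rw [PrimeSpectrum.localization_comap_range (Localization.AtPrime q) q.primeCompl]
      exact Set.disjoint_left.2 fun a ha ha' => ha (hpq ha')
    let m : PrimeSpectrum (Localization.AtPrime q) := IsLocalRing.closedPoint _
    have hm : PrimeSpectrum.comap (algebraMap R (Localization.AtPrime q)) m = ⟨q, inferInstance⟩ :=
      PrimeSpectrum.ext Localization.AtPrime.under_maximalIdeal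
    have hzm : z < m := lt_of_le_of_ne (IsLocalRing.le_maximalIdeal z.isPrime.ne_top) fun e => hne (by
      rw [e, hm] at hz
      exact (congrArg PrimeSpectrum.asIdeal hz).symm)
    rw [Module.supportDim, Order.one_le_krullDim_iff]
    exact ⟨⟨z, mem_support_localized q z (hz ▸ hsupp p hp inferInstance)⟩,
      ⟨m, mem_support_localized q m (hm ▸ hsupp q hq inferInstance)⟩, hzm⟩
  revert hk h3
  generalize Module.supportDim (Localization.AtPrime q) (LocalizedModule q.primeCompl N') = D
  intro hk h3
  rcases min_le_iff.1 hk with hk | hk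
  · have : k ≤ rs.length := by exact_mod_cast hk
    omega
  · induction D with
    | bot => exact absurd h3 (by simp)
    | coe D =>
      have h4 : D + rs.length ≤ 0 + (rs.length : ℕ∞) := by rw [zero_add]; exact_mod_cast hk
      have h5 := (ENat.add_le_add_iff_right (ENat.natCast_ne_top _)).1 h4
      have h6 : (1 : ℕ∞) ≤ D := by exact_mod_cast h3
      exact absurd (h6.trans h5) (by simp)

/-- A regular sequence at a prime spreads to a basic open neighbourhood. -/
theorem exists_regular_away {A : Type u} [CommRing A] [IsNoetherianRing A] (p : Ideal A) [p.IsPrime] (M : Type u)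
    [AddCommGroup M] [Module A M] [Module.Finite A M] [Nontrivial (LocalizedModule p.primeCompl M)] (d : ℕ)
    (hd : LocCoh.depth (Localization.AtPrime p) (LocalizedModule p.primeCompl M) = (d : ℕ∞)) :
    ∃ xs : List A, xs.length = d ∧ (∀ x ∈ xs, x ∈ p) ∧ ∃ g : A, g ∉ p ∧
      IsWeaklyRegular (LocalizedModule (Submonoid.powers g) M) (xs.map (algebraMap A (Localization.Away g))) := by
  classical
  let Ap := Localization.AtPrime p
  let Mp := LocalizedModule p.primeCompl M
  haveI : IsNoetherianRing Ap := IsLocalization.isNoetherianRing p.primeCompl _ inferInstance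
  haveI : Module.Finite Ap Mp := Module.Finite.of_isLocalizedModule p.primeCompl (LocalizedModule.mkLinearMap _ M)
  obtain ⟨rs, hrs, hrmem, hlen⟩ := Groth.Agent.LC.exists_idealDepth_eq_length (IsLocalRing.maximalIdeal Ap) (M := Mp)
    (Groth.Agent.LC.smul_top_ne_top_of_le_maximal le_rfl)
  have hlen' : rs.length = d := by
    have : ((rs.length : ℕ) : ℕ∞) = (d : ℕ∞) := hlen.symm.trans hd
    exact_mod_cast this
  let num : Ap → A := fun r => (IsLocalization.surj p.primeCompl r).choose.1
  have hnum : ∀ r, ∃ u : Apˣ, r * u = algebraMap A Ap (num r) := fun r =>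
    ⟨(IsLocalization.map_units Ap (IsLocalization.surj p.primeCompl r).choose.2).unit,
      (IsLocalization.surj p.primeCompl r).choose_spec⟩
  have hspan : ∀ l : List Ap, Ideal.ofList ((l.map num).map (algebraMap A Ap)) = Ideal.ofList l := by
    intro l
    induction l with
    | nil => rfl
    | cons r l ih =>
      obtain ⟨u, hu⟩ := hnum r
      rw [List.map_cons, List.map_cons, Ideal.ofList_cons, Ideal.ofList_cons, ih, ← hu,
        Ideal.span_singleton_mul_right_unit u.isUnit]
  let xs := rs.map num
  have hxmem : ∀ x ∈ xs, x ∈ p := by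
    intro x hx
    obtain ⟨r, hr, rfl⟩ := List.mem_map.1 hx
    obtain ⟨u, hu⟩ := hnum r
    rw [← IsLocalization.AtPrime.to_map_mem_maximal_iff Ap p (num r), ← hu]
    exact Ideal.mul_mem_right _ _ (hrmem r hr)
  -- one denominator for each index
  have key : ∀ i : Fin xs.length, ∃ g : A, g ∉ p ∧ ∀ m : M,
      xs[i] • m ∈ Ideal.ofList (xs.take i) • (⊤ : Submodule A M) → g • m ∈ Ideal.ofList (xs.take i) • (⊤ : Submodule A M) := by
    intro i
    let JM := Ideal.ofList (xs.take i) • (⊤ : Submodule A M)
    let K : Submodule A M := JM.comap (LinearMap.lsmul A M xs[i])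
    obtain ⟨G, hG⟩ := IsNoetherian.noetherian K
    have hi : (i : ℕ) < rs.length := by simpa [xs] using i.2
    have hloc : ∀ m ∈ K, ∃ u : A, u ∉ p ∧ u • m ∈ JM := by
      intro m hm
      have hJ : JM.localized' Ap p.primeCompl (LocalizedModule.mkLinearMap p.primeCompl M) =
          Ideal.ofList (rs.take i) • (⊤ : Submodule Ap Mp) := by
        rw [Groth.Agent.Ega41H93.localized'_smul_top p Ap _ _, Ideal.map_ofList, ← List.map_take, hspan]
      have hreg : IsSMulRegular (Mp ⧸ (Ideal.ofList (rs.take i) • (⊤ : Submodule Ap Mp))) rs[(i : ℕ)] :=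
        hrs.regular_mod_prev i hi
      have h1 : LocalizedModule.mkLinearMap p.primeCompl M (xs[i] • m) ∈ JM.localized' Ap p.primeCompl
          (LocalizedModule.mkLinearMap p.primeCompl M) := by
        rw [Submodule.mem_localized']
        exact ⟨_, hm, 1, IsLocalizedModule.mk'_one _ _ _⟩
      obtain ⟨u, hu⟩ := hnum rs[(i : ℕ)]
      have hxi : xs[i] = num rs[(i : ℕ)] := by simp [xs]
      rw [map_smul, hxi, ← algebraMap_smul Ap, ← hu, mul_comm, mul_smul, hJ,
        Submodule.smul_mem_iff_of_isUnit _ u.isUnit] at h1
      have h2 : LocalizedModule.mkLinearMap p.primeCompl M m ∈ Ideal.ofList (rs.take i) • (⊤ : Submodule Ap Mp) := by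
        rw [← Submodule.Quotient.mk_eq_zero] at h1 ⊢
        rw [Submodule.Quotient.mk_smul] at h1
        exact hreg.right_eq_zero_of_smul h1
      rw [← hJ, Submodule.mem_localized'] at h2
      obtain ⟨n, hn, s, hs⟩ := h2
      rw [IsLocalizedModule.mk'_eq_iff, Submonoid.smul_def, ← map_smul,
        IsLocalizedModule.eq_iff_exists p.primeCompl] at hs
      obtain ⟨c, hc⟩ := hs
      refine ⟨(c : A) * s, Submonoid.mul_mem _ c.2 s.2, ?_⟩
      rw [mul_smul, show (c : A) • ((s : A) • m) = (c : A) • n from hc.symm]
      exact JM.smul_mem _ hn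
    choose! u hu hu' using hloc
    refine ⟨∏ m ∈ G, u m, fun hmem => ?_, fun m hm => ?_⟩
    · obtain ⟨m, hm, hum⟩ := Ideal.IsPrime.prod_mem_iff.1 hmem
      exact hu m (hG ▸ Submodule.subset_span hm) hum
    · have hmK : m ∈ Submodule.span A (G : Set M) := hG ▸ (show m ∈ K from hm)
      clear hm
      induction hmK using Submodule.span_induction with
      | mem m hm =>
        rw [← Finset.mul_prod_erase G u hm, mul_comm, mul_smul]
        exact JM.smul_mem _ (hu' m (hG ▸ Submodule.subset_span hm))
      | zero => simp
      | add a b _ _ ha hb => rw [smul_add]; exact add_mem ha hb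
      | smul a b _ hb => rw [smul_comm]; exact JM.smul_mem a hb
  choose γ hγ hγ' using key
  let g := ∏ i, γ i
  refine ⟨xs, by simp [xs, hlen'], hxmem, g, fun hmem => ?_, ?_⟩
  · obtain ⟨i, -, hi⟩ := Ideal.IsPrime.prod_mem_iff.1 hmem
    exact hγ i hi
  refine (isWeaklyRegular_iff _ _).2 fun i hi => ?_
  have hi' : i < xs.length := by simpa using hi
  let Ag := Localization.Away g
  let Mg := LocalizedModule (Submonoid.powers g) M
  let f := LocalizedModule.mkLinearMap (Submonoid.powers g) M
  let JM := Ideal.ofList (xs.take i) • (⊤ : Submodule A M)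
  have hJ : JM.localized' Ag (Submonoid.powers g) f =
      Ideal.ofList ((xs.map (algebraMap A Ag)).take i) • (⊤ : Submodule Ag Mg) := by
    have e : (xs.map (algebraMap A Ag)).take i = (xs.take i).map (algebraMap A Ag) := by simp [List.map_take]
    rw [Submodule.localized'_smul, Submodule.localized'_top, Submodule.localized'_eq_span, e,
      ← Ideal.map_ofList (algebraMap A Ag) (xs.take i)]
    rfl
  rw [← hJ]
  refine IsSMulRegular.of_right_eq_zero_of_smul fun z hz => ?_
  obtain ⟨z, rfl⟩ := Submodule.Quotient.mk_surjective _ z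
  rw [← Submodule.Quotient.mk_smul, Submodule.Quotient.mk_eq_zero] at hz
  rw [Submodule.Quotient.mk_eq_zero]
  obtain ⟨⟨m, s⟩, rfl⟩ := IsLocalizedModule.mk'_surjective (Submonoid.powers g) f z
  rw [Function.uncurry_apply_pair] at hz ⊢
  rw [List.getElem_map, algebraMap_smul, ← IsLocalizedModule.mk'_smul, Submodule.mem_localized'] at hz
  obtain ⟨n, hn, t, ht⟩ := hz
  rw [IsLocalizedModule.mk'_eq_mk'_iff] at ht
  obtain ⟨c, hc⟩ := ht
  simp only [Submonoid.smul_def] at hc
  have h3 : xs[i] • ((c : A) • (t : A) • m) ∈ JM := by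
    rw [smul_comm xs[i], smul_comm xs[i]]
    first
      | (rw [hc]; exact JM.smul_mem _ (JM.smul_mem _ hn))
      | (rw [← hc]; exact JM.smul_mem _ (JM.smul_mem _ hn))
  have h4 := hγ' ⟨i, hi'⟩ _ h3
  obtain ⟨r, hr⟩ : γ ⟨i, hi'⟩ ∣ g := Finset.dvd_prod_of_mem γ (Finset.mem_univ _)
  rw [Submodule.mem_localized']
  refine ⟨g • (c : A) • (t : A) • m, ?_, ⟨g, Submonoid.mem_powers g⟩ * c * t * s, ?_⟩
  · have h5 := JM.smul_mem r h4
    rwa [smul_smul, mul_comm, ← hr] at h5
  · rw [show g • (c : A) • (t : A) • m = ((⟨g, Submonoid.mem_powers g⟩ * c * t : Submonoid.powers g)) • m by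
      rw [Submonoid.smul_def, smul_smul, smul_smul]
      rfl]
    rw [IsLocalizedModule.mk'_cancel_left]

/-- Let A be a Noetherian ring, M a finite A-module (a coherent sheaf on X = Spec A) and k ≥ 1. Then M
has property (S_k) — depth M_p ≥ min(k, dim M_p) at every prime p — if and only if, for every basic
open set D(g) of X, every integer r < k and every M_g-regular sequence f_1, …, f_r in A_g, the
module M_g/(f_1, …, f_r)M_g has no embedded associated primes, i.e. no associated prime of it
strictly contains another one. (The published statement quantifies over all open subsets of a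
locally Noetherian scheme; both sides being local, over an affine scheme the basic open sets
suffice.) -/
theorem result (k : ℕ) (hk : 1 ≤ k) (A : Type u) [CommRing A] [IsNoetherianRing A]
    (M : Type u) [AddCommGroup M] [Module A M] [Module.Finite A M] :
    LocCoh.HasSk k A M ↔
      ∀ (g : A) (rs : List (Localization.Away g)), rs.length < k →
        RingTheory.Sequence.IsWeaklyRegular (LocalizedModule (Submonoid.powers g) M) rs →
        ∀ p ∈ associatedPrimes (Localization.Away g)
            (LocalizedModule (Submonoid.powers g) M ⧸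
              (Ideal.ofList rs • (⊤ : Submodule (Localization.Away g) (LocalizedModule (Submonoid.powers g) M)))),
          ∀ q ∈ associatedPrimes (Localization.Away g)
            (LocalizedModule (Submonoid.powers g) M ⧸
              (Ideal.ofList rs • (⊤ : Submodule (Localization.Away g) (LocalizedModule (Submonoid.powers g) M)))),
            p ≤ q → p = q := by
  constructor
  · intro h g rs hlen hrs p hp q hq hpq
    have hS : LocCoh.HasSk k (Localization.Away g) (LocalizedModule (Submonoid.powers g) M) :=
      (Groth.Agent.Alg6.hasSk_localization_iff (Submonoid.powers g) M k).2 fun q' _ _ => h q'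
    haveI : IsNoetherianRing (Localization.Away g) := IsLocalization.isNoetherianRing (Submonoid.powers g) _ inferInstance
    haveI : Module.Finite (Localization.Away g) (LocalizedModule (Submonoid.powers g) M) :=
      Module.Finite.of_isLocalizedModule (Submonoid.powers g) (LocalizedModule.mkLinearMap _ M)
    exact noEmb_of_hasSk hS rs hlen hrs p hp q hq hpq
  · intro h p _
    by_contra hcon
    rw [not_le, lt_min_iff] at hcon
    obtain ⟨hdk, hdD⟩ := hcon
    let Ap := Localization.AtPrime p
    let Mp := LocalizedModule p.primeCompl M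
    haveI : IsNoetherianRing Ap := IsLocalization.isNoetherianRing p.primeCompl _ inferInstance
    haveI : Module.Finite Ap Mp := Module.Finite.of_isLocalizedModule p.primeCompl (LocalizedModule.mkLinearMap _ M)
    haveI hnt : Nontrivial Mp := by
      rw [← not_subsingleton_iff_nontrivial]
      intro hs
      rw [Module.supportDim_eq_bot_of_subsingleton] at hdD
      exact not_lt_bot hdD
    obtain ⟨d, hd⟩ := Groth.Agent.LC.exists_depth_eq_nat (R := Ap) Mp
    rw [hd] at hdk hdD
    have hdk' : d < k := by exact_mod_cast hdk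
    obtain ⟨xs, hlen, hmem, g, hg, hxs⟩ := exists_regular_away p M d hd
    let Ag := Localization.Away g
    let Mg := LocalizedModule (Submonoid.powers g) M
    haveI : IsNoetherianRing Ag := IsLocalization.isNoetherianRing (Submonoid.powers g) _ inferInstance
    haveI : Module.Finite Ag Mg := Module.Finite.of_isLocalizedModule (Submonoid.powers g) (LocalizedModule.mkLinearMap _ M)
    have hdisj : Disjoint (Submonoid.powers g : Set A) (p : Set A) := by
      rw [Set.disjoint_left]
      rintro _ ⟨n, rfl⟩ hn
      exact hg (Ideal.IsPrime.mem_of_pow_mem ‹_› n hn)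
    let P : Ideal Ag := p.map (algebraMap A Ag)
    haveI : P.IsPrime := IsLocalization.isPrime_of_isPrime_disjoint (Submonoid.powers g) Ag p ‹_› hdisj
    have hPc : P.comap (algebraMap A Ag) = p := IsLocalization.under_map_of_isPrime_disjoint (Submonoid.powers g) Ag ‹_› hdisj
    have hdep : ∀ (p' : Ideal A) [p'.IsPrime], p' = p →
        LocCoh.depth (Localization.AtPrime p') (LocalizedModule p'.primeCompl M) = (d : ℕ∞) ∧
          Module.supportDim (Localization.AtPrime p') (LocalizedModule p'.primeCompl M) =
            Module.supportDim Ap Mp := by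
      intro p' _ e
      subst e
      exact ⟨hd, rfl⟩
    obtain ⟨hd', hD'⟩ := hdep _ hPc
    have hdP := Groth.Agent.Alg6.depth_locLoc (Submonoid.powers g) M P
    have hDP := Groth.Agent.Alg6.supportDim_locLoc (Submonoid.powers g) M P
    rw [hd'] at hdP
    rw [hD'] at hDP
    haveI : Nontrivial (LocalizedModule P.primeCompl Mg) := by
      rw [← Module.supportDim_ne_bot_iff_nontrivial (Localization.AtPrime P), hDP]
      exact Module.supportDim_ne_bot_of_nontrivial Ap Mp
    let rs := xs.map (algebraMap A Ag)
    obtain ⟨h1, h2⟩ := Groth.Agent.Ega41H93.depth_supportDim_add_length P (M := Mg) rs hxs (fun r hr => by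
      obtain ⟨a, ha, rfl⟩ := List.mem_map.1 hr
      exact Ideal.mem_map_of_mem _ (hmem a ha))
    let N := Mg ⧸ (Ideal.ofList rs • (⊤ : Submodule Ag Mg))
    rw [hdP, List.length_map, hlen] at h1
    rw [hDP, List.length_map, hlen] at h2
    have h10 : LocCoh.depth (Localization.AtPrime P) (LocalizedModule P.primeCompl N) = 0 :=
      ENat.add_left_injective_of_ne_top (ENat.natCast_ne_top d) (h1.trans (zero_add _).symm)
    have hass : P ∈ associatedPrimes Ag N := by
      by_contra hn
      have := (Groth.Agent.Alg6.one_le_depth_atPrime_iff (M := N) P).2 hn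
      rw [h10] at this
      exact absurd this (by simp)
    obtain ⟨Q, hQ, hQP, hne⟩ : ∃ Q : PrimeSpectrum Ag, Q ∈ Module.support Ag N ∧ Q.asIdeal ≤ P ∧ Q.asIdeal ≠ P := by
      by_contra hno
      push Not at hno
      have h0 : Module.supportDim (Localization.AtPrime P) (LocalizedModule P.primeCompl N) ≤ 0 :=
        supportDim_localized_le_zero N P hno
      have h3 : Module.supportDim Ap Mp ≤ (d : WithBot ℕ∞) := by
        rw [← h2]
        exact le_trans (add_le_add h0 le_rfl) (zero_add _).le
      exact absurd hdD (not_lt.2 (le_trans h3 le_rfl))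
    obtain ⟨Q₀, hQ₀, hQ₀le⟩ := Ideal.exists_minimalPrimes_le (Module.mem_support_iff_of_finite.1 hQ)
    have hrl : rs.length < k := by rwa [List.length_map, hlen]
    have := h g rs hrl hxs Q₀
      (Module.associatedPrimes.minimalPrimes_annihilator_subset_associatedPrimes Ag N hQ₀) P hass (hQ₀le.trans hQP)
    subst this
    exact hne (le_antisymm hQP hQ₀le)

end Groth.Agent.S12121
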