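import Groth.Statements.S12134
import Groth.Agent.GradedStrat.Basic
import Mathlib.AlgebraicGeometry.Morphisms.ClosedImmersion

set_option autoImplicit false
universe u
open scoped TensorProduct
open AlgebraicGeometry CategoryTheory
open EGA43

namespace Groth.Agent.S12134

set_option maxHeartbeats 1000000
set_option synthInstance.maxHeartbeats 100000

open AlgebraicGeometry CategoryTheory in
theorem exists_strata {A : Type u} [CommRing A] (s : Finset (Ideal A × A)) (hfg : ∀ x ∈ s, x.1.FG)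
    (hcov : ∀ q : Ideal A, q.IsPrime → ∃ x ∈ s, x.1 ≤ q ∧ x.2 ∉ q) :
    ∃ (m : ℕ) (l : Fin m → A), (∀ q : Ideal A, q.IsPrime → ∃ i, l i ∉ q) ∧
      ∀ i, ∀ q q' : Ideal A, q.IsPrime → q'.IsPrime → (l i ∉ q ∧ ∀ j < i, l j ∈ q) → (l i ∉ q' ∧ ∀ j < i, l j ∈ q') →
        ∀ x ∈ s, x.1 ≤ q ∧ x.2 ∉ q → x.1 ≤ q' ∧ x.2 ∉ q' := by
  classical
  let gens : Ideal A → Finset A := fun I => if h : I.FG then h.choose else ∅
  have hgens : ∀ x ∈ s, Ideal.span (gens x.1 : Set A) = x.1 := fun x hx => by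
    simp only [gens, dif_pos (hfg x hx)]
    exact (hfg x hx).choose_spec
  let E : Finset A := s.biUnion fun x => insert x.2 (gens x.1)
  let T : List (Finset A) := E.powerset.toList.mergeSort fun a b => decide (b.card ≤ a.card)
  have hsorted : T.Pairwise fun a b => b.card ≤ a.card :=
    (List.pairwise_mergeSort (fun a b c h h' => by simp only [decide_eq_true_eq] at *; omega)
      (fun a b => by simp only [Bool.or_eq_true, decide_eq_true_eq]; omega) _).imp fun h => by simpa using h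
  have hmemT : ∀ S : Finset A, S ∈ T ↔ S ⊆ E := fun S => by simp [T, List.mem_mergeSort]
  refine ⟨T.length, fun i => ∏ x ∈ T[i.1], x, fun q hq => ?_, fun i => ?_⟩
  · obtain ⟨m, hm, hm'⟩ := List.getElem_of_mem ((hmemT ∅).2 (Finset.empty_subset _))
    refine ⟨⟨m, hm⟩, ?_⟩
    dsimp only
    rw [hm', Finset.prod_empty]
    exact (Ideal.ne_top_iff_one q).1 hq.ne_top
  have key : ∀ q : Ideal A, q.IsPrime → ((∏ x ∈ T[i.1], x) ∉ q ∧ ∀ j < i, (∏ x ∈ T[j.1], x) ∈ q) →
      T[i.1] = E.filter (· ∉ q) := by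
    rintro q hq ⟨hgi, hlt⟩
    let S := E.filter (· ∉ q)
    have hsub : T[i.1] ⊆ S := fun x hx => Finset.mem_filter.2
      ⟨(hmemT _).1 (List.getElem_mem i.2) hx, fun hxp => hgi (Ideal.mem_of_dvd _ (Finset.dvd_prod_of_mem _ hx) hxp)⟩
    obtain ⟨m, hm, hmS⟩ := List.getElem_of_mem ((hmemT S).2 (Finset.filter_subset _ _))
    have hS : ∏ x ∈ S, x ∉ q := fun h => by
      obtain ⟨x, hx, hxp⟩ := (hq.prod_mem_iff).1 h
      exact (Finset.mem_filter.1 hx).2 hxp
    have him : i.1 ≤ m := by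
      by_contra hn
      exact hS (hmS ▸ hlt ⟨m, hm⟩ (Fin.lt_def.2 (by simpa using hn)))
    refine Finset.eq_of_subset_of_card_le hsub ?_
    rcases eq_or_lt_of_le him with h | h
    · subst h; exact (congrArg Finset.card hmS).ge
    · have := List.pairwise_iff_getElem.1 hsorted i.1 m i.2 hm h
      rw [hmS] at this
      exact this
  intro q q' hq hq' h h' x hx hxq
  have hmem : ∀ e ∈ E, (e ∈ q ↔ e ∈ q') := fun e he => by
    have := Finset.ext_iff.1 ((key q hq h).symm.trans (key q' hq' h')) e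
    simp only [Finset.mem_filter, he, true_and] at this
    exact not_iff_not.1 this
  have hE : ∀ e ∈ insert x.2 (gens x.1), e ∈ E := fun e he => Finset.mem_biUnion.2 ⟨x, hx, he⟩
  refine ⟨?_, fun hn => hxq.2 ((hmem _ (hE _ (Finset.mem_insert_self _ _))).2 hn)⟩
  rw [← hgens x hx, Ideal.span_le]
  exact fun e he => (hmem e (hE e (Finset.mem_insert_of_mem he))).1 (hxq.1 ((hgens x hx).le (Ideal.subset_span he)))


/-- Suppose A₀ is a Noetherian ring and B₀ is a finitely generated A₀-algebra; fix an ideal J₀ ⊆ B₀ and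
a finite B₀-module M₀. Then Spec A₀ admits finitely many affine subschemes S_1, …, S_m — presented
as immersions Spec A_i → Spec A₀ — whose underlying sets are mutually disjoint with union all of
Spec A₀, such that each S_i is open in S_i ∪ S_{i+1} ∪ … ∪ S_m, and such that for each i, setting
N_i = A_i ⊗_{A₀} M₀, the graded module associated to the J₀-adic filtration on N_i is A_i-flat.
Concretely, for every n the A_i-module J₀ⁿN_i / J₀ⁿ⁺¹N_i is flat, where this quotient is encoded as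
the image of J₀ⁿN_i inside N_i / J₀ⁿ⁺¹N_i, and J₀ⁿN_i denotes the image in N_i of A_i ⊗_{A₀} J₀ⁿM₀. -/
theorem result {A₀ : Type u} [CommRing A₀] [IsNoetherianRing A₀]
    {B₀ : Type u} [CommRing B₀] [Algebra A₀ B₀] [Algebra.FiniteType A₀ B₀] (J₀ : Ideal B₀)
    (M₀ : Type u) [AddCommGroup M₀] [Module B₀ M₀] [Module A₀ M₀] [IsScalarTower A₀ B₀ M₀]
    [Module.Finite B₀ M₀] :
    ∃ (m : ℕ) (A : Fin m → Type u) (_ : ∀ i, CommRing (A i)) (_ : ∀ i, Algebra A₀ (A i)),
      (∀ i, IsImmersion (Spec.map (CommRingCat.ofHom (algebraMap A₀ (A i))))) ∧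
      (∀ i j, i ≠ j → Disjoint (Set.range (Spec.map (CommRingCat.ofHom (algebraMap A₀ (A i)))))
        (Set.range (Spec.map (CommRingCat.ofHom (algebraMap A₀ (A j)))))) ∧
      (⋃ i, Set.range (Spec.map (CommRingCat.ofHom (algebraMap A₀ (A i)))) = Set.univ) ∧
      (∀ i, ∃ U : Set (Spec (CommRingCat.of A₀)), IsOpen U ∧
        U ∩ (⋃ j, ⋃ (_ : i ≤ j), Set.range (Spec.map (CommRingCat.ofHom (algebraMap A₀ (A j))))) =
          Set.range (Spec.map (CommRingCat.ofHom (algebraMap A₀ (A i))))) ∧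
      ∀ i (n : ℕ), Module.Flat (A i)
        ↥(Submodule.map
            (LinearMap.range (LinearMap.baseChange (A i)
              ((J₀ ^ (n + 1) • (⊤ : Submodule B₀ M₀)).restrictScalars A₀).subtype)).mkQ
            (LinearMap.range (LinearMap.baseChange (A i)
              ((J₀ ^ n • (⊤ : Submodule B₀ M₀)).restrictScalars A₀).subtype))) := by
  obtain ⟨s, hs, hcov⟩ := GradedStrat.exists_pieces (M := M₀) J₀ (⊥ : Ideal A₀)
  obtain ⟨m, l, hl, hconst⟩ := exists_strata s (fun x _ => IsNoetherian.noetherian _)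
    (fun q hq => hcov q hq bot_le)
  let K : ∀ i : Fin m, Ideal (Localization.Away (l i)) := fun i =>
    ((Ideal.span (l '' {j | j < i})).map (algebraMap A₀ (Localization.Away (l i)))).radical
  let Q : Fin m → Type u := fun i => Localization.Away (l i) ⧸ K i
  -- points of the strata
  have hrange : ∀ i, Set.range (Spec.map (CommRingCat.ofHom (algebraMap A₀ (Q i)))) =
      {q : Spec (CommRingCat.of A₀) | l i ∉ q.asIdeal ∧ ∀ j < i, l j ∈ q.asIdeal} := by
    intro i
    change Set.range (PrimeSpectrum.comap (algebraMap A₀ (Q i))) = _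
    rw [IsScalarTower.algebraMap_eq A₀ (Localization.Away (l i)) (Q i), PrimeSpectrum.comap_comp]
    rw [Set.range_comp]
    change PrimeSpectrum.comap (algebraMap A₀ (Localization.Away (l i))) ''
      Set.range (PrimeSpectrum.comap (Ideal.Quotient.mk (K i))) = _
    rw [range_comap_of_surjective _ _ Ideal.Quotient.mk_surjective, Ideal.mk_ker,
      PrimeSpectrum.zeroLocus_radical, Ideal.map_span, PrimeSpectrum.zeroLocus_span,
      ← PrimeSpectrum.preimage_comap_zeroLocus, Set.image_preimage_eq_inter_range,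
      PrimeSpectrum.localization_away_comap_range (Localization.Away (l i)) (l i)]
    ext q
    simp only [Set.mem_inter_iff, PrimeSpectrum.mem_zeroLocus, Set.image_subset_iff, Set.mem_setOf_eq,
      SetLike.mem_coe, PrimeSpectrum.mem_basicOpen]
    exact ⟨fun h => ⟨h.2, fun j hj => h.1 hj⟩, fun h => ⟨fun j hj => h.2 j hj, h.1⟩⟩
  refine ⟨m, Q, fun i => inferInstance, fun i => inferInstance, fun i => ?_, fun i j hij => ?_, ?_, fun i => ?_,
    fun i n => ?_⟩
  · rw [IsScalarTower.algebraMap_eq A₀ (Localization.Away (l i)) (Q i), CommRingCat.ofHom_comp, Spec.map_comp]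
    have : IsClosedImmersion (Spec.map (CommRingCat.ofHom (algebraMap (Localization.Away (l i)) (Q i)))) :=
      IsClosedImmersion.spec_of_surjective _ Ideal.Quotient.mk_surjective
    have : IsOpenImmersion (Spec.map (CommRingCat.ofHom (algebraMap A₀ (Localization.Away (l i))))) :=
      IsOpenImmersion.of_isLocalization (S := Localization.Away (l i)) (l i)
    infer_instance
  · rw [hrange, hrange, Set.disjoint_left]
    rintro q ⟨hqi, hqi'⟩ ⟨hqj, hqj'⟩
    rcases lt_or_gt_of_ne hij with h | h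
    · exact hqi (hqj' i h)
    · exact hqj (hqi' j h)
  · refine Set.eq_univ_of_forall fun q => ?_
    obtain ⟨i₀, hi₀⟩ := hl q.asIdeal q.isPrime
    classical
    let F := Finset.univ.filter fun i => l i ∉ q.asIdeal
    have hF : F.Nonempty := ⟨i₀, Finset.mem_filter.2 ⟨Finset.mem_univ _, hi₀⟩⟩
    refine Set.mem_iUnion.2 ⟨F.min' hF, ?_⟩
    rw [hrange]
    refine ⟨(Finset.mem_filter.1 (F.min'_mem hF)).2, fun j hj => ?_⟩
    by_contra hn
    exact (F.min'_le j (Finset.mem_filter.2 ⟨Finset.mem_univ _, hn⟩)).not_gt hj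
  · refine ⟨(PrimeSpectrum.basicOpen (l i) : Set (PrimeSpectrum A₀)), (PrimeSpectrum.basicOpen (l i)).2, ?_⟩
    refine Set.Subset.antisymm (fun q hq' => ?_) (fun q hq' => ?_)
    · obtain ⟨hq, hq''⟩ := hq'
      obtain ⟨j, hq'''⟩ := Set.mem_iUnion.1 hq''
      obtain ⟨hij, hq4⟩ := Set.mem_iUnion.1 hq'''
      rw [hrange] at hq4 ⊢
      obtain ⟨hj, hj'⟩ := hq4
      rcases eq_or_lt_of_le hij with rfl | h
      · exact ⟨hj, hj'⟩
      · exact absurd (hj' i h) hq
    · refine ⟨?_, Set.mem_iUnion₂.2 ⟨i, le_rfl, hq'⟩⟩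
      rw [hrange] at hq'
      exact hq'.1
  · rcases subsingleton_or_nontrivial (Q i) with hQ | hQ
    · have := Module.subsingleton (Q i) (Q i ⊗[A₀] M₀)
      exact Module.Flat.of_projective
    have hstr : ∀ q : Ideal (Q i), q.IsPrime → l i ∉ q.comap (algebraMap A₀ (Q i)) ∧
        ∀ j < i, l j ∈ q.comap (algebraMap A₀ (Q i)) := fun q hq =>
      (hrange i).le ⟨⟨q, hq⟩, rfl⟩
    obtain ⟨q₀, hq₀⟩ := Ideal.exists_maximal (Q i)
    obtain ⟨x, hx, hxq⟩ := hcov (q₀.comap (algebraMap A₀ (Q i))) (hq₀.isPrime.comap _) bot_le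
    have hall : ∀ q : Ideal (Q i), q.IsPrime →
        x.1 ≤ q.comap (algebraMap A₀ (Q i)) ∧ x.2 ∉ q.comap (algebraMap A₀ (Q i)) := fun q hq =>
      hconst i _ _ (hq₀.isPrime.comap _) (hq.comap _) (hstr q₀ hq₀.isPrime) (hstr q hq) x hx hxq
    have hzero : ∀ z ∈ x.1, algebraMap A₀ (Q i) z = 0 := fun z hz => by
      have hred : IsReduced (Q i) :=
        (Ideal.isRadical_iff_quotient_reduced _).1 (Ideal.radical_isRadical _)
      refine IsNilpotent.eq_zero (mem_nilradical.1 ?_)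
      rw [nilradical_eq_sInf, Submodule.mem_sInf]
      exact fun q hq => (hall q hq).1 hz
    have hunit : IsUnit (algebraMap A₀ (Q i) x.2) := by
      by_contra hn
      obtain ⟨q, hq, hmem⟩ := exists_max_ideal_of_mem_nonunits hn
      exact (hall q hq.isPrime).2 hmem
    have h₁ := hs x hx (Q i) hzero hunit (n + 1)
    have h₀ := hs x hx (Q i) hzero hunit n
    have e₁ : (Q i ⊗[A₀] (M₀ ⧸ (J₀ ^ (n + 1) • (⊤ : Submodule B₀ M₀)))) ≃ₗ[Q i]
        Q i ⊗[A₀] (M₀ ⧸ ((J₀ ^ (n + 1) • (⊤ : Submodule B₀ M₀)).restrictScalars A₀)) :=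
      (Submodule.Quotient.restrictScalarsEquiv A₀ _).symm.baseChange A₀ (Q i) _ _
    have p₁ := Module.Projective.of_equiv e₁
    have e₀ : (Q i ⊗[A₀] (M₀ ⧸ (J₀ ^ n • (⊤ : Submodule B₀ M₀)))) ≃ₗ[Q i]
        Q i ⊗[A₀] (M₀ ⧸ ((J₀ ^ n • (⊤ : Submodule B₀ M₀)).restrictScalars A₀)) :=
      (Submodule.Quotient.restrictScalarsEquiv A₀ _).symm.baseChange A₀ (Q i) _ _
    have p₀ := Module.Projective.of_equiv e₀
    have hle : (J₀ ^ (n + 1) • (⊤ : Submodule B₀ M₀)).restrictScalars A₀ ≤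
        (J₀ ^ n • (⊤ : Submodule B₀ M₀)).restrictScalars A₀ :=
      (Submodule.smul_mono_left (Ideal.pow_le_pow_right n.le_succ) :
        J₀ ^ (n + 1) • (⊤ : Submodule B₀ M₀) ≤ J₀ ^ n • ⊤)
    have := @GradedStrat.flat_gr A₀ _ (Q i) _ _ M₀ _ _
      ((J₀ ^ (n + 1) • (⊤ : Submodule B₀ M₀)).restrictScalars A₀)
      ((J₀ ^ n • (⊤ : Submodule B₀ M₀)).restrictScalars A₀) hle p₁ p₀
    exact this

end Groth.Agent.S12134
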