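import Groth.Statements.S12152
import Groth.Agent.RLPsi35.Family

set_option autoImplicit false
universe u
open CategoryTheory CategoryTheory.Limits AlgebraicGeometry TopologicalSpace Opposite
open scoped HomogeneousIdeal
noncomputable section
open EGA2

namespace Groth.Agent.S12152

/-- Let q : X → Y be a morphism with Y affine, L an invertible O_X-module with 𝒮L = ⊕ L^{⊗n} (whose Proj
is X), 𝒮 a quasi-coherent positively graded O_Y-algebra with S = Γ(Y, 𝒮), ψ♭ = u : 𝒮 → q_*𝒮L a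
graded q-morphism and r = r_{L,ψ} : G(ψ) → P = Proj(𝒮). For a family s_a ∈ S_{n_a} (n_a > 0) put f_a
= ψ♭(s_a) ∈ Γ(X, L^{⊗n_a}) and let X_{f_a} be the open where f_a does not vanish; conditions: (i)
the X_{f_a} cover X; (ii) the X_{f_a} are affine; (iii) every function t on X_{f_a} is of the form
ψ♭(s') f_a^{-m} with m > 0 and s' ∈ S_{m n_a} (that is, t f_a^m = ψ♭(s') in 𝒮L(X_{f_a})); (v) the
opens D_+(s_a) cover Proj S. Then r is everywhere defined and a closed immersion if and only if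
there is a family (s_a) satisfying (i), (ii), (iii) and (v). -/
theorem result {Y X P PL : Scheme.{u}} (q : X ⟶ Y)
    (L : X.Modules) (hL : PicF.IsInvertible L) (hLq : Coh.IsQCoh L)
    (𝒮 : RelProj.QCGrAlg Y) (𝒮L : RelProj.QCGrAlg X) (j : L ⟶ 𝒮L.toModule) (hj : RelProj.IsGrSymAlg L 𝒮L j)
    (u : RelProj.QGrHom q 𝒮 𝒮L)
    (p : P ⟶ Y) (chart : ∀ (U : Y.Opens) (hU : IsAffineOpen U), (((p ⁻¹ᵁ U : P.Opens) : Scheme.{u}) ≅ Proj (𝒮.deg U hU)))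
    (hP : RelProj.IsRelProj 𝒮 p chart)
    (pL : PL ⟶ X) (chartL : ∀ (U : X.Opens) (hU : IsAffineOpen U), (((pL ⁻¹ᵁ U : PL.Opens) : Scheme.{u}) ≅ Proj (𝒮L.deg U hU)))
    (hPL : RelProj.IsRelProj 𝒮L pL chartL)
    (r : ((RelProj.domQ u pL chartL : PL.Opens) : Scheme.{u}) ⟶ P)
    (hr : RelProj.IsProjQMapOn u p chart pL chartL (RelProj.domQ u pL chartL) r)
    (hY : IsAffineOpen (⊤ : Y.Opens)) :
    (RelProj.domQ u pL chartL = ⊤ ∧ IsClosedImmersion r) ↔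
      ∃ (ι : Type u) (n : ι → ℕ) (s : ι → 𝒮.presheaf.obj (op ⊤)) (XT : ι → X.Opens),
        (∀ a, 0 < n a ∧ s a ∈ 𝒮.deg ⊤ hY (n a)) ∧
        (∀ a, XT a = (⨆ V : {V : X.affineOpens //
          ((𝒮L.deg V.1 V.2 (n a) : AddSubgroup (𝒮L.presheaf.obj (op (V.1 : X.Opens)))) : Set (𝒮L.presheaf.obj (op (V.1 : X.Opens)))) ⊆
            (Ideal.span {(u.appLE ⊤ (V.1 : X.Opens) (le_top.trans (Scheme.Hom.preimage_top q).ge)).hom (s a)} : Set (𝒮L.presheaf.obj (op (V.1 : X.Opens))))},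
          (V.1.1 : X.Opens))) ∧
        (⨆ a, XT a) = ⊤ ∧ (∀ a, IsAffineOpen (XT a)) ∧
        (∀ (a : ι) (t : X.presheaf.obj (op (XT a))), ∃ (m : ℕ) (_ : 0 < m) (s' : 𝒮.presheaf.obj (op ⊤)) (_ : s' ∈ 𝒮.deg ⊤ hY (m * n a)),
            (𝒮L.str.app (op (XT a))).hom t * ((u.appLE ⊤ (XT a) (le_top.trans (Scheme.Hom.preimage_top q).ge)).hom (s a)) ^ m =
              (u.appLE ⊤ (XT a) (le_top.trans (Scheme.Hom.preimage_top q).ge)).hom s') ∧
        (⨆ a, Proj.basicOpen (𝒮.deg ⊤ hY) (s a)) = ⊤ := by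
  have := RLPsi35.isIso_pL hLq hj hPL hL
  constructor
  · rintro ⟨htop, hcl⟩
    have hg := fun a : {nf : ℕ × 𝒮.presheaf.obj (op ⊤) // 0 < nf.1 ∧ nf.2 ∈ 𝒮.deg ⊤ hY nf.1} =>
      RLPsi35.good_of_closed hL hLq hj hPL hY hP hr a.2.1 a.2.2
        (MorphismProperty.of_isPullback (isPullback_morphismRestrict r _).flip hcl)
    have hcovP : ∀ y : P, ∃ a : {nf : ℕ × 𝒮.presheaf.obj (op ⊤) // 0 < nf.1 ∧ nf.2 ∈ 𝒮.deg ⊤ hY nf.1},
        y ∈ RelProj.emb p chart ⊤ hY ''ᵁ Proj.basicOpen (𝒮.deg ⊤ hY) a.1.2 := fun y => by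
      obtain ⟨d, f, hd, hf, hmem, -⟩ := RLPsi35.exists_open_le (chart := chart) hY
        (show p y ∈ (⊤ : Y.Opens) from trivial) (show y ∈ (⊤ : P.Opens) from trivial)
      exact ⟨⟨(d, f), hd, hf⟩, hmem⟩
    refine ⟨{nf : ℕ × 𝒮.presheaf.obj (op ⊤) // 0 < nf.1 ∧ nf.2 ∈ 𝒮.deg ⊤ hY nf.1}, fun a => a.1.1,
      fun a => a.1.2, fun a => RLPsi35.locus u a.1.1 a.1.2, fun a => ?_, fun a => ?_, ?_, fun a => ?_, ?_, ?_⟩
    · exact a.2
    · with_reducible_and_instances rfl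
    swap
    · exact (hg a).1
    · refine eq_top_iff.mpr fun y _ => ?_
      obtain ⟨z, rfl⟩ := pL.surjective y
      obtain ⟨a, ha⟩ := hcovP (r ⟨z, htop ▸ trivial⟩)
      exact Opens.mem_iSup.mpr ⟨a, (RLPsi35.hit_iff_mem_locus hL hLq hj hPL hY a.2.1 a.2.2 z).mp
        ((RLPsi35.hit_iff_apply_mem hP hPL hr hY a.2.1 a.2.2 ⟨z, htop ▸ trivial⟩).mpr ha)⟩
    · intro a t
      obtain ⟨m, hm, s', hs', e⟩ := (hg a).2 t
      exact ⟨m, hm, s', hs', e⟩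
    · refine eq_top_iff.mpr fun w _ => ?_
      obtain ⟨a, w', hw', e⟩ := hcovP (RelProj.emb p chart ⊤ hY w)
      exact Opens.mem_iSup.mpr ⟨a, (RelProj.emb p chart ⊤ hY).isOpenEmbedding.injective e ▸ hw'⟩
  · rintro ⟨ι', n, s, XT, hns, hXT, hcov, hV, hcond, htot⟩
    obtain rfl : XT = fun a => RLPsi35.locus u (n a) (s a) := funext hXT
    refine RLPsi35.Piece.isClosedImmersion_of_cover hP hPL hr
      (fun a => RLPsi35.mkPiece hL hLq hj hPL hY (hns a).1 (hns a).2 (hV a) rfl) (fun z => ?_)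
      (fun a t => ?_) ?_
    · exact Opens.mem_iSup.mp (show pL z ∈ ⨆ a, RLPsi35.locus u (n a) (s a) from hcov ▸ trivial)
    · obtain ⟨m, hm, s', hs', e⟩ := hcond a t
      exact ⟨m, hm, s', hs', e⟩
    · refine eq_top_iff.mpr fun y _ => ?_
      obtain ⟨w, rfl⟩ := ProjQMapX.exists_emb_eq (chart := chart) ⊤ hY (show p y ∈ (⊤ : Y.Opens) from trivial)
      obtain ⟨a, ha⟩ := Opens.mem_iSup.mp (show w ∈ ⨆ a, Proj.basicOpen (𝒮.deg ⊤ hY) (s a) from htot ▸ trivial)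
      exact Opens.mem_iSup.mpr ⟨a, w, ha, rfl⟩

end Groth.Agent.S12152
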