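import Groth.Statements.S12155
import Groth.Agent.ConeLib35.QTools

set_option autoImplicit false
universe u
open CategoryTheory CategoryTheory.Limits AlgebraicGeometry TopologicalSpace Opposite
open scoped HomogeneousIdeal
noncomputable section
open EGA2

namespace Groth.Agent.S12155

/-- Let q : Y' → Y be a morphism, φ : 𝒮 → q_*𝒮' a graded q-morphism of quasi-coherent positively graded
algebras with 𝒮_0 = O_Y, 𝒮'_0 = O_{Y'}, φ̂ : 𝒮[z] → q_*𝒮'[z] its extension with φ̂(z) = z, Ĉ =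
Proj(𝒮[z]), Ĉ' = Proj(𝒮'[z]) the projective cones with pointed cones Ê, Ê', and Φ̂ = Proj(φ̂) :
G(φ̂) → Ĉ. Then Φ̂⁻¹(Ê) ⊆ Ê'; moreover if Proj(φ) is everywhere defined on Proj(𝒮'), then Φ̂ is
everywhere defined on Ĉ' and Φ̂⁻¹(Ê) = Ê'. -/
theorem result {Y Y' PC PC' : Scheme.{u}} (q : Y' ⟶ Y)
    (𝒮 : RelProj.QCGrAlg Y) (𝒮' : RelProj.QCGrAlg Y') (h0 : RelCone.StrZeroBij 𝒮) (h0' : RelCone.StrZeroBij 𝒮')
    (u : RelProj.QGrHom q 𝒮 𝒮')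
    (𝒮h : RelProj.QCGrAlg Y) (ι : 𝒮.toQCAlg ⟶ 𝒮h.toQCAlg) (z : 𝒮h.presheaf.obj (op ⊤))
    (hz : RelCone.IsPolyOver 𝒮 𝒮h ι z)
    (pC : PC ⟶ Y) (chartC : ∀ (U : Y.Opens) (hU : IsAffineOpen U), (((pC ⁻¹ᵁ U : PC.Opens) : Scheme.{u}) ≅ Proj (𝒮h.deg U hU)))
    (hC : RelProj.IsRelProj 𝒮h pC chartC)
    (𝒮h' : RelProj.QCGrAlg Y') (ι' : 𝒮'.toQCAlg ⟶ 𝒮h'.toQCAlg) (z' : 𝒮h'.presheaf.obj (op ⊤))
    (hz' : RelCone.IsPolyOver 𝒮' 𝒮h' ι' z')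
    (pC' : PC' ⟶ Y') (chartC' : ∀ (U : Y'.Opens) (hU : IsAffineOpen U), (((pC' ⁻¹ᵁ U : PC'.Opens) : Scheme.{u}) ≅ Proj (𝒮h'.deg U hU)))
    (hC' : RelProj.IsRelProj 𝒮h' pC' chartC')
    (uh : RelProj.QGrHom q 𝒮h 𝒮h')
    (huh : ∀ U : Y.Opens, ι.hom.app (op U) ≫ uh.app U = u.app U ≫ ι'.hom.app (op (q ⁻¹ᵁ U)))
    (huhz : (uh.app ⊤).hom z = RelCone.restrictTop 𝒮h' z' (q ⁻¹ᵁ ⊤))
    (Φh : ((RelProj.domQ uh pC' chartC' : PC'.Opens) : Scheme.{u}) ⟶ PC)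
    (hΦh : RelProj.IsProjQMapOn uh pC chartC pC' chartC' (RelProj.domQ uh pC' chartC') Φh)
    {P' : Scheme.{u}} (p' : P' ⟶ Y') (chart' : ∀ (U : Y'.Opens) (hU : IsAffineOpen U), (((p' ⁻¹ᵁ U : P'.Opens) : Scheme.{u}) ≅ Proj (𝒮'.deg U hU)))
    (hP' : RelProj.IsRelProj 𝒮' p' chart') :
    (RelProj.domQ uh pC' chartC').ι ''ᵁ (Φh ⁻¹ᵁ RelCone.pointedProjCone 𝒮 hz pC chartC) ≤ RelCone.pointedProjCone 𝒮' hz' pC' chartC' ∧
      (RelProj.domQ u p' chart' = ⊤ →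
        RelProj.domQ uh pC' chartC' = ⊤ ∧
          (RelProj.domQ uh pC' chartC').ι ''ᵁ (Φh ⁻¹ᵁ RelCone.pointedProjCone 𝒮 hz pC chartC) = RelCone.pointedProjCone 𝒮' hz' pC' chartC') := by
  have hleft : (RelProj.domQ uh pC' chartC').ι ''ᵁ (Φh ⁻¹ᵁ RelCone.pointedProjCone 𝒮 hz pC chartC) ≤
      RelCone.pointedProjCone 𝒮' hz' pC' chartC' := by
    rintro _ ⟨x, hx, rfl⟩
    obtain ⟨U, hU, U', hU', hle, d, a, w, hd, ha, hw, hwa⟩ :=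
      ConeLib35.exists_pair_of_mem hz hC hC' hΦh x hx
    rw [ConeLib35.square_apply hz hz' huh] at hwa
    have h1 := (ConeLib35.emb_mem_pointedProjCone_iff hz' hC' U' hU' w).mpr
      ((ProjQMapX.mem_domOpen_iff _ w).mpr
        ⟨d, _, hd, (u.gradedAt U hU U' hU' hle).map_mem ha, hwa⟩)
    rw [hw] at h1
    exact h1
  refine ⟨hleft, fun htop => ?_⟩
  have hdom : ∀ (U : Y.Opens) (hU : IsAffineOpen U) (U' : Y'.Opens) (hU' : IsAffineOpen U') (hle : U' ≤ q ⁻¹ᵁ U),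
      RelCone.domOpen (u.gradedAt U hU U' hU' hle) = ⊤ := fun U hU U' hU' hle =>
    eq_top_iff.mpr fun w _ => (ProjQMapX.emb_mem_domQ_iff u hP' U hU U' hU' hle w).mp (htop ▸ trivial)
  have hpoint : ∀ x : PC', x ∈ RelCone.pointedProjCone 𝒮' hz' pC' chartC' →
      ∃ (U : Y.Opens) (hU : IsAffineOpen U) (U' : Y'.Opens) (hU' : IsAffineOpen U') (hle : U' ≤ q ⁻¹ᵁ U)
        (d : ℕ) (a : 𝒮.presheaf.obj (op U)) (w : Proj (𝒮h'.deg U' hU')), 0 < d ∧ a ∈ 𝒮.deg U hU d ∧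
        RelProj.emb pC' chartC' U' hU' w = x ∧
        w ∈ Proj.basicOpen (𝒮h'.deg U' hU') (uh.gradedAt U hU U' hU' hle (RelProj.gradedHomAt ι hz.graded U hU a)) := by
    intro x hx
    obtain ⟨U, hU, U', hU', hy, hle⟩ := RelSpecX.exists_pair q (pC' x)
    obtain ⟨w, rfl⟩ := ProjQMapX.exists_emb_eq (chart := chartC') U' hU' hy
    obtain ⟨b, hb, hwb⟩ := (RelCone.mem_domOpen _ w).mp
      ((ConeLib35.emb_mem_pointedProjCone_iff hz' hC' U' hU' w).mp hx)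
    by_contra hne
    push Not at hne
    let Q : PrimeSpectrum (𝒮'.presheaf.obj (op U')) :=
      ⟨w.asHomogeneousIdeal.toIdeal.comap (ι'.hom.app (op U')).hom, w.isPrime.comap _⟩
    refine hwb ((ConeX.domOpen_eq_top_iff _).mp (hdom U hU U' hU' hle) Q ?_ hb)
    rintro _ ⟨a, ha, rfl⟩
    by_contra hnm
    obtain ⟨d, f, hd, hf, hfne⟩ := ProjQMapX.exists_homogeneous_of_mem_irrelevant
      (u.gradedAt U hU U' hU' hle) (I := Q.asIdeal) ha hnm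
    refine hne U hU U' hU' hle d f w hd hf rfl ?_
    rw [ConeLib35.square_apply hz hz' huh]
    exact hfne
  have hall : RelProj.domQ uh pC' chartC' = ⊤ := by
    refine eq_top_iff.mpr fun x _ => ?_
    by_cases hx : x ∈ RelCone.pointedProjCone 𝒮' hz' pC' chartC'
    · obtain ⟨U, hU, U', hU', hle, d, a, w, hd, ha, rfl, hwa⟩ := hpoint x hx
      exact ProjQMapX.emb_mem_domQ uh U hU U' hU' hle
        ((ProjQMapX.mem_domOpen_iff _ w).mpr ⟨d, _, hd, hz.graded U hU d a ha, hwa⟩)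
    · obtain ⟨U, hU, U', hU', hy, hle⟩ := RelSpecX.exists_pair q (pC' x)
      obtain ⟨w, rfl⟩ := ProjQMapX.exists_emb_eq (chart := chartC') U' hU' hy
      refine ProjQMapX.emb_mem_domQ uh U hU U' hU' hle
        ((ProjQMapX.mem_domOpen_iff _ w).mpr ⟨1, _, one_pos, hz.deg_z U hU, ?_⟩)
      erw [ConeLib35.square_z huhz U hU U' hU' hle]
      intro hwz
      exact hx ((ConeLib35.emb_mem_pointedProjCone_iff hz' hC' U' hU' w).mpr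
        (ConeLib35.mem_domOpen_of_z_mem (RelProj.gradedHomAt ι' hz'.graded U' hU') (hz'.deg_z U' hU')
          (hz'.bij U' hU') w hwz))
  refine ⟨hall, le_antisymm hleft fun x hx => ?_⟩
  have hxd : x ∈ RelProj.domQ uh pC' chartC' := hall ▸ trivial
  refine ⟨⟨x, hxd⟩, ?_, rfl⟩
  obtain ⟨U, hU, U', hU', hle, d, a, w, hd, ha, hw, hwa⟩ := hpoint x hx
  obtain ⟨w₀, hw₀, he⟩ := (ProjQMapX.apply_mem_basicOpen_iff hC hC' hΦh hU hU' hle hd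
    (hz.graded U hU d a ha) ⟨x, hxd⟩ w hw).mpr hwa
  show Φh ⟨x, hxd⟩ ∈ RelCone.pointedProjCone 𝒮 hz pC chartC
  refine Eq.subst (motive := fun P => P ∈ RelCone.pointedProjCone 𝒮 hz pC chartC) he ?_
  exact (ConeLib35.emb_mem_pointedProjCone_iff hz hC U hU w₀).mpr
    ((ProjQMapX.mem_domOpen_iff _ w₀).mpr ⟨d, a, hd, ha, hw₀⟩)

end Groth.Agent.S12155
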