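import Groth.Statements.S12156
import Groth.Agent.ConeLib35.QTools

set_option autoImplicit false
universe u
open CategoryTheory CategoryTheory.Limits AlgebraicGeometry TopologicalSpace Opposite
open scoped HomogeneousIdeal
noncomputable section
open EGA2

namespace Groth.Agent.S12156

/-- Let q : Y' → Y be a morphism, φ : 𝒮 → q_*𝒮' a graded q-morphism of quasi-coherent positively graded
algebras with 𝒮_0 = O_Y, 𝒮'_0 = O_{Y'}, φ̂ : 𝒮[z] → q_*𝒮'[z] its extension with φ̂(z) = z, Ĉ =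
Proj(𝒮[z]), Ĉ' = Proj(𝒮'[z]) the projective cones with pointed cones Ê, Ê', and Φ̂ = Proj(φ̂) :
G(φ̂) → Ĉ; let X = Proj(𝒮), X' = Proj(𝒮'), Proj(φ) : G(φ) → X on its open of definition G(φ) ⊆ X',
and p̂ : Ê → X, p̂' : Ê' → X' the canonical retractions. Then p̂'(Φ̂⁻¹(Ê)) ⊆ G(φ) and on Φ̂⁻¹(Ê) the
composites p̂ ∘ Φ̂ and Proj(φ) ∘ p̂' agree (stated on T-valued points: a : T → Ê' and b : T → G(φ̂)
agreeing in Ĉ' with Φ̂ ∘ b = c : T → Ê). -/
theorem result {Y Y' PC PC' : Scheme.{u}} (q : Y' ⟶ Y)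
    (𝒮 : RelProj.QCGrAlg Y) (𝒮' : RelProj.QCGrAlg Y') (h0 : RelCone.StrZeroBij 𝒮) (h0' : RelCone.StrZeroBij 𝒮')
    (u : RelProj.QGrHom q 𝒮 𝒮')
    (𝒮h : RelProj.QCGrAlg Y) (ι : 𝒮.toQCAlg ⟶ 𝒮h.toQCAlg) (z : 𝒮h.presheaf.obj (op ⊤))
    (hz : RelCone.IsPolyOver 𝒮 𝒮h ι z)
    (pC : PC ⟶ Y) (chartC : ∀ (U : Y.Opens) (hU : IsAffineOpen U), (((pC ⁻¹ᵁ U : PC.Opens) : Scheme.{u}) ≅ Proj (𝒮h.deg U hU)))
    (hC : RelProj.IsRelProj 𝒮h pC chartC)
    (𝒮h' : RelProj.QCGrAlg Y') (ι' : 𝒮'.toQCAlg ⟶ 𝒮h'.toQCAlg) (z' : 𝒮h'.presheaf.obj (op ⊤))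
    (hz' : RelCone.IsPolyOver 𝒮' 𝒮h' ι' z')
    (pC' : PC' ⟶ Y') (chartC' : ∀ (U : Y'.Opens) (hU : IsAffineOpen U), (((pC' ⁻¹ᵁ U : PC'.Opens) : Scheme.{u}) ≅ Proj (𝒮h'.deg U hU)))
    (hC' : RelProj.IsRelProj 𝒮h' pC' chartC')
    (uh : RelProj.QGrHom q 𝒮h 𝒮h')
    (huh : ∀ U : Y.Opens, ι.hom.app (op U) ≫ uh.app U = u.app U ≫ ι'.hom.app (op (q ⁻¹ᵁ U)))
    (huhz : (uh.app ⊤).hom z = RelCone.restrictTop 𝒮h' z' (q ⁻¹ᵁ ⊤))
    (Φh : ((RelProj.domQ uh pC' chartC' : PC'.Opens) : Scheme.{u}) ⟶ PC)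
    (hΦh : RelProj.IsProjQMapOn uh pC chartC pC' chartC' (RelProj.domQ uh pC' chartC') Φh)
    {P P' : Scheme.{u}} (p : P ⟶ Y) (chart : ∀ (U : Y.Opens) (hU : IsAffineOpen U), (((p ⁻¹ᵁ U : P.Opens) : Scheme.{u}) ≅ Proj (𝒮.deg U hU)))
    (hP : RelProj.IsRelProj 𝒮 p chart)
    (p' : P' ⟶ Y') (chart' : ∀ (U : Y'.Opens) (hU : IsAffineOpen U), (((p' ⁻¹ᵁ U : P'.Opens) : Scheme.{u}) ≅ Proj (𝒮'.deg U hU)))
    (hP' : RelProj.IsRelProj 𝒮' p' chart')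
    (Φ : ((RelProj.domQ u p' chart' : P'.Opens) : Scheme.{u}) ⟶ P)
    (hΦ : RelProj.IsProjQMapOn u p chart p' chart' (RelProj.domQ u p' chart') Φ)
    (r : ((RelCone.pointedProjCone 𝒮 hz pC chartC : PC.Opens) : Scheme.{u}) ⟶ P)
    (hr : RelProj.IsProjQMapOn (RelProj.QGrHom.ofHom ι hz.graded) p chart pC chartC (RelCone.pointedProjCone 𝒮 hz pC chartC) r)
    (r' : ((RelCone.pointedProjCone 𝒮' hz' pC' chartC' : PC'.Opens) : Scheme.{u}) ⟶ P')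
    (hr' : RelProj.IsProjQMapOn (RelProj.QGrHom.ofHom ι' hz'.graded) p' chart' pC' chartC' (RelCone.pointedProjCone 𝒮' hz' pC' chartC') r')
    (T : Scheme.{u}) (a : T ⟶ ((RelCone.pointedProjCone 𝒮' hz' pC' chartC' : PC'.Opens) : Scheme.{u}))
    (b : T ⟶ ((RelProj.domQ uh pC' chartC' : PC'.Opens) : Scheme.{u}))
    (c : T ⟶ ((RelCone.pointedProjCone 𝒮 hz pC chartC : PC.Opens) : Scheme.{u}))
    (hab : a ≫ (RelCone.pointedProjCone 𝒮' hz' pC' chartC').ι = b ≫ (RelProj.domQ uh pC' chartC').ι) (hbc : b ≫ Φh = c ≫ (RelCone.pointedProjCone 𝒮 hz pC chartC).ι) :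
    Set.range (a ≫ r').base ⊆ ((RelProj.domQ u p' chart' : P'.Opens) : Set P') ∧
      ∀ d : T ⟶ ((RelProj.domQ u p' chart' : P'.Opens) : Scheme.{u}),
        a ≫ r' = d ≫ (RelProj.domQ u p' chart').ι → c ≫ r = d ≫ Φ := by
  have hWC := ConeLib35.pointedProjCone_eq_domQ hz hC
  have hWC' := ConeLib35.pointedProjCone_eq_domQ hz' hC'
  have key : ∀ t : T, ∃ (T₀ : Scheme.{u}) (j : T₀ ⟶ T) (k : T₀ ⟶ ((RelProj.domQ u p' chart' : P'.Opens) : Scheme.{u})),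
      IsOpenImmersion j ∧ t ∈ Set.range j ∧ (j ≫ a) ≫ r' = k ≫ (RelProj.domQ u p' chart').ι ∧ (j ≫ c) ≫ r = k ≫ Φ := by
    intro t
    have hx : Φh (b t) ∈ RelCone.pointedProjCone 𝒮 hz pC chartC := by
      rw [← Scheme.Hom.comp_apply, hbc, Scheme.Hom.comp_apply]
      exact (c t).2
    obtain ⟨U, hU, U', hU', hle, dd, α, w, hd, hα, hw, hwa⟩ :=
      ConeLib35.exists_pair_of_mem hz hC hC' hΦh (b t) hx
    have hια : RelProj.gradedHomAt ι hz.graded U hU α ∈ 𝒮h.deg U hU dd := hz.graded U hU dd α hα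
    obtain ⟨γh, hγho, hγhι, hγh⟩ := ConeLib35.exists_chartTo hΦh le_rfl hU hU' hle hd hια
      (rfl : uh.gradedAt U hU U' hU' hle (RelProj.gradedHomAt ι hz.graded U hU α) = _)
    have er : (RelProj.QGrHom.ofHom ι hz.graded).gradedAt U hU U hU le_rfl α =
        RelProj.gradedHomAt ι hz.graded U hU α := by rw [ProjQMapX.ofHom_gradedAt]
    obtain ⟨γr, -, hγrι, hγr⟩ := ConeLib35.exists_chartTo hr hWC.ge hU hU le_rfl hd hα er
    have hβ : u.gradedAt U hU U' hU' hle α ∈ 𝒮'.deg U' hU' dd := (u.gradedAt U hU U' hU' hle).map_mem hα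
    have er' : (RelProj.QGrHom.ofHom ι' hz'.graded).gradedAt U' hU' U' hU' le_rfl
        (u.gradedAt U hU U' hU' hle α) =
        uh.gradedAt U hU U' hU' hle (RelProj.gradedHomAt ι hz.graded U hU α) := by
      rw [ProjQMapX.ofHom_gradedAt, ConeLib35.square_apply hz hz' huh]
    obtain ⟨γr', -, hγr'ι, hγr'⟩ := ConeLib35.exists_chartTo hr' hWC'.ge hU' hU' le_rfl hd hβ er'
    obtain ⟨γu, -, hγuι, hγu⟩ := ConeLib35.exists_chartTo hΦ le_rfl hU hU' hle hd hα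
      (rfl : u.gradedAt U hU U' hU' hle α = _)
    obtain ⟨s, hs⟩ := (Proj.opensRange_awayι (𝒮h'.deg U' hU') _
      ((uh.gradedAt U hU U' hU' hle).map_mem hια) hd).ge hwa
    have hbt : b t ∈ Set.range γh := by
      refine ⟨s, (RelProj.domQ uh pC' chartC').ι.isOpenEmbedding.injective ?_⟩
      rw [← Scheme.Hom.comp_apply, hγhι, Scheme.Hom.comp_apply]
      exact (congrArg (RelProj.emb pC' chartC' U' hU') hs).trans hw
    obtain ⟨T₀, j, τ, hj, hjt, hjb⟩ := ConeLib35.exists_factor b γh t hbt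
    have hja : j ≫ a = τ ≫ γr' := by
      rw [← cancel_mono (RelCone.pointedProjCone 𝒮' hz' pC' chartC').ι, Category.assoc, hab,
        reassoc_of% hjb, hγhι, Category.assoc, hγr'ι]
    let ρh : Spec (CommRingCat.of (HomogeneousLocalization.Away (𝒮h'.deg U' hU') _)) ⟶
        Spec (CommRingCat.of (HomogeneousLocalization.Away (𝒮h.deg U hU) (RelProj.gradedHomAt ι hz.graded U hU α))) :=
      Spec.map (CommRingCat.ofHom (ProjQMapX.awayMapTo (uh.gradedAt U hU U' hU' hle) (rfl : _ = _)))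
    have hjc : j ≫ c = τ ≫ ρh ≫ γr := by
      rw [← cancel_mono (RelCone.pointedProjCone 𝒮 hz pC chartC).ι]
      simp only [Category.assoc, hγrι]
      rw [← hbc, reassoc_of% hjb, hγh]
    refine ⟨T₀, j, τ ≫ Spec.map (CommRingCat.ofHom (ProjQMapX.awayMapTo
      ((RelProj.QGrHom.ofHom ι' hz'.graded).gradedAt U' hU' U' hU' le_rfl) er')) ≫ γu, hj, hjt, ?_, ?_⟩
    · rw [hja]
      simp only [Category.assoc]
      rw [hγr', hγuι]
    · rw [hjc]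
      simp only [Category.assoc]
      rw [hγr, hγu]
      simp only [ρh, ← Spec.map_comp_assoc, ← CommRingCat.ofHom_comp]
      rw [ConeLib35.awayMapTo_comp_eq _ _ _ _ er rfl rfl er' ?_]
      rw [ProjQMapX.ofHom_gradedAt, ProjQMapX.ofHom_gradedAt]
      exact ConeLib35.square_comp hz hz' huh U hU U' hU' hle
  refine ⟨?_, fun d hd => ConeLib35.hom_ext_local fun t => ?_⟩
  · rintro _ ⟨t, rfl⟩
    obtain ⟨T₀, j, k, hj, ⟨s, rfl⟩, h1, -⟩ := key t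
    rw [← Scheme.Hom.comp_apply, ← Category.assoc, h1, Scheme.Hom.comp_apply]
    exact (k s).2
  · obtain ⟨T₀, j, k, hj, hjt, h1, h2⟩ := key t
    have hk : j ≫ d = k := by
      rw [← cancel_mono (RelProj.domQ u p' chart').ι, ← h1, Category.assoc, Category.assoc, hd]
    exact ⟨T₀, j, hj, hjt, by rw [← Category.assoc, h2, ← hk, Category.assoc]⟩

end Groth.Agent.S12156
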