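import Groth.Statements.S12157
import Groth.Agent.ConeLib35.QTools

set_option autoImplicit false
universe u
open CategoryTheory CategoryTheory.Limits AlgebraicGeometry TopologicalSpace Opposite
open scoped HomogeneousIdeal
noncomputable section
open EGA2

namespace Groth.Agent.S12157

/-- Let q : Y' → Y be a morphism, φ : 𝒮 → q_*𝒮' a graded q-morphism of quasi-coherent positively graded
algebras with 𝒮_0 = O_Y, 𝒮'_0 = O_{Y'}, φ̂ : 𝒮[z] → q_*𝒮'[z] its extension with φ̂(z) = z, Ĉ =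
Proj(𝒮[z]), Ĉ' = Proj(𝒮'[z]) the projective cones with pointed cones Ê, Ê', and Φ̂ = Proj(φ̂) :
G(φ̂) → Ĉ; let Φ = Spec(φ) : C' = Spec(𝒮') → C = Spec(𝒮) be the morphism of affine cones and i : C →
Ĉ, i' : C' → Ĉ' the canonical open immersions. Then i'(C') ⊆ G(φ̂) and the square formed by Φ, i', i
and Φ̂ commutes. -/
theorem result {Y Y' PC PC' : Scheme.{u}} (q : Y' ⟶ Y)
    (𝒮 : RelProj.QCGrAlg Y) (𝒮' : RelProj.QCGrAlg Y') (h0 : RelCone.StrZeroBij 𝒮) (h0' : RelCone.StrZeroBij 𝒮')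
    (u : RelProj.QGrHom q 𝒮 𝒮')
    (𝒮h : RelProj.QCGrAlg Y) (ι : 𝒮.toQCAlg ⟶ 𝒮h.toQCAlg) (z : 𝒮h.presheaf.obj (op ⊤))
    (hz : RelCone.IsPolyOver 𝒮 𝒮h ι z)
    (pC : PC ⟶ Y) (chartC : ∀ (U : Y.Opens) (hU : IsAffineOpen U), (((pC ⁻¹ᵁ U : PC.Opens) : Scheme.{u}) ≅ Proj (𝒮h.deg U hU)))
    (hC : RelProj.IsRelProj 𝒮h pC chartC)
    (𝒮h' : RelProj.QCGrAlg Y') (ι' : 𝒮'.toQCAlg ⟶ 𝒮h'.toQCAlg) (z' : 𝒮h'.presheaf.obj (op ⊤))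
    (hz' : RelCone.IsPolyOver 𝒮' 𝒮h' ι' z')
    (pC' : PC' ⟶ Y') (chartC' : ∀ (U : Y'.Opens) (hU : IsAffineOpen U), (((pC' ⁻¹ᵁ U : PC'.Opens) : Scheme.{u}) ≅ Proj (𝒮h'.deg U hU)))
    (hC' : RelProj.IsRelProj 𝒮h' pC' chartC')
    (uh : RelProj.QGrHom q 𝒮h 𝒮h')
    (huh : ∀ U : Y.Opens, ι.hom.app (op U) ≫ uh.app U = u.app U ≫ ι'.hom.app (op (q ⁻¹ᵁ U)))
    (huhz : (uh.app ⊤).hom z = RelCone.restrictTop 𝒮h' z' (q ⁻¹ᵁ ⊤))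
    (Φh : ((RelProj.domQ uh pC' chartC' : PC'.Opens) : Scheme.{u}) ⟶ PC)
    (hΦh : RelProj.IsProjQMapOn uh pC chartC pC' chartC' (RelProj.domQ uh pC' chartC') Φh)
    (Φc : 𝒮'.toQCAlg.spec ⟶ 𝒮.toQCAlg.spec) (hΦc : RelSpec.IsSpecQMap u.toQHom Φc)
    (i : 𝒮.toQCAlg.spec ⟶ PC) (hi : RelCone.IsConeImm 𝒮 hz pC chartC i)
    (i' : 𝒮'.toQCAlg.spec ⟶ PC') (hi' : RelCone.IsConeImm 𝒮' hz' pC' chartC' i') :
    Set.range i'.base ⊆ ((RelProj.domQ uh pC' chartC' : PC'.Opens) : Set PC') ∧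
      ∀ i'' : 𝒮'.toQCAlg.spec ⟶ ((RelProj.domQ uh pC' chartC' : PC'.Opens) : Scheme.{u}),
        i'' ≫ (RelProj.domQ uh pC' chartC').ι = i' → i'' ≫ Φh = Φc ≫ i := by
  have key : ∀ (U : Y.Opens) (hU : IsAffineOpen U) (U' : Y'.Opens) (hU' : IsAffineOpen U') (hle : U' ≤ q ⁻¹ᵁ U),
      ∃ k : Spec (𝒮'.presheaf.obj (op U')) ⟶ ((RelProj.domQ uh pC' chartC' : PC'.Opens) : Scheme.{u}),
        k ≫ (RelProj.domQ uh pC' chartC').ι = 𝒮'.toQCAlg.ι U' hU' ≫ i' ∧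
        k ≫ Φh = Spec.map (u.appLE U U' hle) ≫ 𝒮.toQCAlg.ι U hU ≫ i := by
    intro U hU U' hU' hle
    obtain ⟨γ, -, hγι, hγ⟩ := ConeLib35.exists_chartTo hΦh le_rfl hU hU' hle one_pos (hz.deg_z U hU)
      (ConeLib35.square_z huhz U hU U' hU' hle)
    refine ⟨Spec.map (CommRingCat.ofHom (ConeLib35.dehom ι' z' (ConeLib35.poly_bij hz') U' hU')) ≫ γ, ?_, ?_⟩
    · rw [Category.assoc, hγι, ConeLib35.coneImm_eq hz' hi' U' hU']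
      rfl
    · rw [Category.assoc, hγ, ConeLib35.coneImm_eq hz hi U hU, ConeLib35.coneChart, ← Spec.map_comp_assoc,
        ← Spec.map_comp_assoc]
      congr 2
      exact CommRingCat.hom_ext (ConeLib35.dehom_comm hz hz' huh huhz U hU U' hU' hle).symm
  refine ⟨?_, fun i'' hi'' => RelSpecX.spec_hom_ext fun y => ?_⟩
  · rintro _ ⟨x, rfl⟩
    obtain ⟨U, hU, U', hU', hy, hle⟩ := RelSpecX.exists_pair q (𝒮'.toQCAlg.π x)
    obtain ⟨w, rfl⟩ : x ∈ (𝒮'.toQCAlg.ι U' hU').opensRange := (𝒮'.toQCAlg.π_preimage U' hU').le hy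
    obtain ⟨k, hk, -⟩ := key U hU U' hU' hle
    rw [← Scheme.Hom.comp_apply, ← hk, Scheme.Hom.comp_apply]
    exact (k w).2
  · obtain ⟨U, hU, U', hU', hy, hle⟩ := RelSpecX.exists_pair q y
    refine ⟨U', hU', hy, ?_⟩
    obtain ⟨k, hk, hk'⟩ := key U hU U' hU' hle
    have hkk : 𝒮'.toQCAlg.ι U' hU' ≫ i'' = k := by
      rw [← cancel_mono (RelProj.domQ uh pC' chartC').ι, hk, Category.assoc, hi'']
    rw [← Category.assoc, hkk, hk', reassoc_of% (hΦc U hU U' hU' hle)]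

end Groth.Agent.S12157
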