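import Groth.Statements.S12158
import Groth.Agent.ConeLib35.QTools

set_option autoImplicit false
universe u
open CategoryTheory CategoryTheory.Limits AlgebraicGeometry TopologicalSpace Opposite
open scoped HomogeneousIdeal
noncomputable section
open EGA2

namespace Groth.Agent.S12158

/-- Let q : Y' → Y be a morphism, φ : 𝒮 → q_*𝒮' a graded q-morphism of quasi-coherent positively graded
algebras with 𝒮_0 = O_Y, 𝒮'_0 = O_{Y'}, φ̂ : 𝒮[z] → q_*𝒮'[z] its extension with φ̂(z) = z, Ĉ =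
Proj(𝒮[z]), Ĉ' = Proj(𝒮'[z]) the projective cones with pointed cones Ê, Ê', and Φ̂ = Proj(φ̂) :
G(φ̂) → Ĉ; let Proj(φ) : G(φ) → X = Proj(𝒮) be the morphism induced by φ on G(φ) ⊆ X' = Proj(𝒮'),
and j : X → Ĉ, j' : X' → Ĉ' the canonical closed immersions at infinity (Proj of the graded
retractions 𝒮[z] → 𝒮, 𝒮'[z] → 𝒮' killing z). Then j'(G(φ)) ⊆ G(φ̂) and the square formed by Proj(φ),
j', j and Φ̂ commutes. -/
theorem result {Y Y' PC PC' : Scheme.{u}} (q : Y' ⟶ Y)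
    (𝒮 : RelProj.QCGrAlg Y) (𝒮' : RelProj.QCGrAlg Y') (h0 : RelCone.StrZeroBij 𝒮) (h0' : RelCone.StrZeroBij 𝒮')
    (u : RelProj.QGrHom q 𝒮 𝒮')
    (𝒮h : RelProj.QCGrAlg Y) (ι : 𝒮.toQCAlg ⟶ 𝒮h.toQCAlg) (z : 𝒮h.presheaf.obj (op ⊤))
    (hz : RelCone.IsPolyOver 𝒮 𝒮h ι z)
    (pC : PC ⟶ Y) (chartC : ∀ (U : Y.Opens) (hU : IsAffineOpen U), (((pC ⁻¹ᵁ U : PC.Opens) : Scheme.{u}) ≅ Proj (𝒮h.deg U hU)))
    (hC : RelProj.IsRelProj 𝒮h pC chartC)
    (𝒮h' : RelProj.QCGrAlg Y') (ι' : 𝒮'.toQCAlg ⟶ 𝒮h'.toQCAlg) (z' : 𝒮h'.presheaf.obj (op ⊤))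
    (hz' : RelCone.IsPolyOver 𝒮' 𝒮h' ι' z')
    (pC' : PC' ⟶ Y') (chartC' : ∀ (U : Y'.Opens) (hU : IsAffineOpen U), (((pC' ⁻¹ᵁ U : PC'.Opens) : Scheme.{u}) ≅ Proj (𝒮h'.deg U hU)))
    (hC' : RelProj.IsRelProj 𝒮h' pC' chartC')
    (uh : RelProj.QGrHom q 𝒮h 𝒮h')
    (huh : ∀ U : Y.Opens, ι.hom.app (op U) ≫ uh.app U = u.app U ≫ ι'.hom.app (op (q ⁻¹ᵁ U)))
    (huhz : (uh.app ⊤).hom z = RelCone.restrictTop 𝒮h' z' (q ⁻¹ᵁ ⊤))
    (Φh : ((RelProj.domQ uh pC' chartC' : PC'.Opens) : Scheme.{u}) ⟶ PC)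
    (hΦh : RelProj.IsProjQMapOn uh pC chartC pC' chartC' (RelProj.domQ uh pC' chartC') Φh)
    {P P' : Scheme.{u}} (p : P ⟶ Y) (chart : ∀ (U : Y.Opens) (hU : IsAffineOpen U), (((p ⁻¹ᵁ U : P.Opens) : Scheme.{u}) ≅ Proj (𝒮.deg U hU)))
    (hP : RelProj.IsRelProj 𝒮 p chart)
    (p' : P' ⟶ Y') (chart' : ∀ (U : Y'.Opens) (hU : IsAffineOpen U), (((p' ⁻¹ᵁ U : P'.Opens) : Scheme.{u}) ≅ Proj (𝒮'.deg U hU)))
    (hP' : RelProj.IsRelProj 𝒮' p' chart')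
    (Φ : ((RelProj.domQ u p' chart' : P'.Opens) : Scheme.{u}) ⟶ P)
    (hΦ : RelProj.IsProjQMapOn u p chart p' chart' (RelProj.domQ u p' chart') Φ)
    (θ : 𝒮h.toQCAlg ⟶ 𝒮.toQCAlg) (hθ : RelProj.IsGradedHom θ) (hθι : ι ≫ θ = 𝟙 _)
    (hθz : (θ.hom.app (op ⊤)).hom z = 0)
    (jX : P ⟶ PC) (hjX : RelProj.IsProjQMap (RelProj.QGrHom.ofHom θ hθ) pC chartC p chart jX)
    (θ' : 𝒮h'.toQCAlg ⟶ 𝒮'.toQCAlg) (hθ' : RelProj.IsGradedHom θ') (hθι' : ι' ≫ θ' = 𝟙 _)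
    (hθz' : (θ'.hom.app (op ⊤)).hom z' = 0)
    (jX' : P' ⟶ PC') (hjX' : RelProj.IsProjQMap (RelProj.QGrHom.ofHom θ' hθ') pC' chartC' p' chart' jX')
    (T : Scheme.{u}) (d : T ⟶ ((RelProj.domQ u p' chart' : P'.Opens) : Scheme.{u}))
    (e : T ⟶ ((RelProj.domQ uh pC' chartC' : PC'.Opens) : Scheme.{u}))
    (hde : d ≫ (RelProj.domQ u p' chart').ι ≫ jX' = e ≫ (RelProj.domQ uh pC' chartC').ι) :
    jX'.base '' ((RelProj.domQ u p' chart' : P'.Opens) : Set P') ⊆ ((RelProj.domQ uh pC' chartC' : PC'.Opens) : Set PC') ∧ e ≫ Φh = d ≫ Φ ≫ jX := by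
  have hθι'' : ∀ (U' : Y'.Opens) (b : 𝒮'.presheaf.obj (op U')),
      (θ'.hom.app (op U')).hom ((ι'.hom.app (op U')).hom b) = b := fun U' b =>
    congrArg (fun m : 𝒮'.toQCAlg ⟶ 𝒮'.toQCAlg => (m.hom.app (op U')).hom b) hθι'
  have hθι₀ : ∀ (U : Y.Opens) (b : 𝒮.presheaf.obj (op U)),
      (θ.hom.app (op U)).hom ((ι.hom.app (op U)).hom b) = b := fun U b =>
    congrArg (fun m : 𝒮.toQCAlg ⟶ 𝒮.toQCAlg => (m.hom.app (op U)).hom b) hθι
  have hθz₀ : ∀ U : Y.Opens, (θ.hom.app (op U)).hom (ConeLib35.zres z U) = 0 := fun U =>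
    (ConcreteCategory.congr_hom (θ.hom.naturality (homOfLE le_top).op) z).trans
      ((congrArg (𝒮.presheaf.map (homOfLE le_top).op).hom hθz).trans (map_zero _))
  have hθz₀' : ∀ U : Y'.Opens, (θ'.hom.app (op U)).hom (ConeLib35.zres z' U) = 0 := fun U =>
    (ConcreteCategory.congr_hom (θ'.hom.naturality (homOfLE le_top).op) z').trans
      ((congrArg (𝒮'.presheaf.map (homOfLE le_top).op).hom hθz').trans (map_zero _))
  have hcomp : ∀ (U : Y.Opens) (hU : IsAffineOpen U) (U' : Y'.Opens) (hU' : IsAffineOpen U') (hle : U' ≤ q ⁻¹ᵁ U),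
      (RelProj.gradedHomAt θ' hθ' U' hU').comp (uh.gradedAt U hU U' hU' hle) =
        (u.gradedAt U hU U' hU' hle).comp (RelProj.gradedHomAt θ hθ U hU) := by
    intro U hU U' hU' hle
    refine GradedRingHom.ext fun b => ?_
    obtain ⟨Q, rfl⟩ := (hz.bij U hU).2 b
    rw [GradedRingHom.comp_apply, GradedRingHom.comp_apply]
    induction Q using Polynomial.induction_on' with
    | add Q R hQ hR => simp only [map_add, hQ, hR]
    | monomial n a =>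
      simp only [Polynomial.coe_eval₂RingHom, Polynomial.eval₂_monomial, map_mul, map_pow]
      congr 1
      · refine (congrArg (RelProj.gradedHomAt θ' hθ' U' hU') (ConeLib35.square_apply hz hz' huh U hU U' hU' hle a)).trans ?_
        exact (hθι'' U' _).trans (congrArg (u.gradedAt U hU U' hU' hle) (hθι₀ U a).symm)
      · congr 1
        refine (congrArg (RelProj.gradedHomAt θ' hθ' U' hU') (ConeLib35.square_z huhz U hU U' hU' hle)).trans ?_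
        exact (hθz₀' U').trans ((map_zero (u.gradedAt U hU U' hU' hle)).symm.trans
          (congrArg (u.gradedAt U hU U' hU' hle) (hθz₀ U).symm))
  have key : ∀ x : ((RelProj.domQ u p' chart' : P'.Opens) : Scheme.{u}), ∃ (X₀ : Scheme.{u})
      (g : X₀ ⟶ ((RelProj.domQ u p' chart' : P'.Opens) : Scheme.{u}))
      (k : X₀ ⟶ ((RelProj.domQ uh pC' chartC' : PC'.Opens) : Scheme.{u})),
      IsOpenImmersion g ∧ x ∈ Set.range g ∧
      k ≫ (RelProj.domQ uh pC' chartC').ι = g ≫ (RelProj.domQ u p' chart').ι ≫ jX' ∧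
      k ≫ Φh = g ≫ Φ ≫ jX := by
    intro x
    obtain ⟨⟨U, hU, U', hU', hle, dd, hd, α, hα⟩, hc⟩ := ProjQMapX.exists_chart_lift u x
    obtain ⟨γu, hγo, hγuι, hγu⟩ := ConeLib35.exists_chartTo hΦ le_rfl hU hU' hle hd hα
      (rfl : u.gradedAt U hU U' hU' hle α = _)
    have hια : RelProj.gradedHomAt ι hz.graded U hU α ∈ 𝒮h.deg U hU dd := hz.graded U hU dd α hα
    obtain ⟨γh, -, hγhι, hγh⟩ := ConeLib35.exists_chartTo hΦh le_rfl hU hU' hle hd hια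
      (rfl : uh.gradedAt U hU U' hU' hle (RelProj.gradedHomAt ι hz.graded U hU α) = _)
    have hy : uh.gradedAt U hU U' hU' hle (RelProj.gradedHomAt ι hz.graded U hU α) ∈ 𝒮h'.deg U' hU' dd :=
      (uh.gradedAt U hU U' hU' hle).map_mem hια
    have e' : (RelProj.QGrHom.ofHom θ' hθ').gradedAt U' hU' U' hU' le_rfl
        (uh.gradedAt U hU U' hU' hle (RelProj.gradedHomAt ι hz.graded U hU α)) =
        u.gradedAt U hU U' hU' hle α := by
      rw [ProjQMapX.ofHom_gradedAt, ConeLib35.square_apply hz hz' huh]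
      exact hθι'' U' _
    have e : (RelProj.QGrHom.ofHom θ hθ).gradedAt U hU U hU le_rfl
        (RelProj.gradedHomAt ι hz.graded U hU α) = α := by
      rw [ProjQMapX.ofHom_gradedAt]
      exact hθι₀ U α
    have h1 := ConeLib35.chartTo_comp hjX' hU' hU' le_rfl hd hy e'
    have h2 := ConeLib35.chartTo_comp hjX hU hU le_rfl hd hια e
    refine ⟨_, γu, Spec.map (CommRingCat.ofHom (ProjQMapX.awayMapTo _ e')) ≫ γh, hγo, ?_, ?_, ?_⟩
    · obtain ⟨s, hs⟩ := hc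
      refine ⟨s, (RelProj.domQ u p' chart').ι.isOpenEmbedding.injective ?_⟩
      rw [← hs, ← Scheme.Hom.comp_apply, ← Scheme.Hom.comp_apply, hγuι, ProjQMapX.Chart.lift_ι]
      rfl
    · rw [Category.assoc, hγhι, reassoc_of% hγuι]
      exact h1.symm.trans (Category.assoc _ _ _)
    · rw [Category.assoc, hγh, reassoc_of% hγu]
      rw [Category.assoc] at h2
      rw [h2, ← Spec.map_comp_assoc, ← Spec.map_comp_assoc, ← CommRingCat.ofHom_comp, ← CommRingCat.ofHom_comp]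
      rw [ConeLib35.awayMapTo_comp_eq _ _ _ _ rfl e' e rfl ?_]
      rw [ProjQMapX.ofHom_gradedAt, ProjQMapX.ofHom_gradedAt]
      exact hcomp U hU U' hU' hle
  refine ⟨?_, ConeLib35.hom_ext_local fun t => ?_⟩
  · rintro _ ⟨x, hx, rfl⟩
    obtain ⟨X₀, g, k, -, ⟨s, hs⟩, hk, -⟩ := key ⟨x, hx⟩
    have h3 : jX'.base x = (k ≫ (RelProj.domQ uh pC' chartC').ι) s := by
      rw [hk, Scheme.Hom.comp_apply, hs, Scheme.Hom.comp_apply]
      rfl
    rw [h3, Scheme.Hom.comp_apply]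
    exact (k s).2
  · obtain ⟨X₀, g, k, hg, hx, hk, hk'⟩ := key (d t)
    obtain ⟨T₀, j, τ, hj, hjt, hjd⟩ := ConeLib35.exists_factor d g t hx
    have hje : j ≫ e = τ ≫ k := by
      rw [← cancel_mono (RelProj.domQ uh pC' chartC').ι, Category.assoc, ← hde, reassoc_of% hjd,
        Category.assoc, hk]
    exact ⟨T₀, j, hj, hjt, by rw [reassoc_of% hje, hk', reassoc_of% hjd]⟩

end Groth.Agent.S12158
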