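import Groth.Statements.S12162
import Groth.Agent.RLPsi35.GrAlgSub
import Groth.Agent.RLPsi35.FTImm
import Groth.Agent.RLPsi35.CompHom
import Groth.Agent.Proj16.RelExist

set_option autoImplicit false
universe u
open CategoryTheory CategoryTheory.Limits AlgebraicGeometry TopologicalSpace Opposite
open scoped HomogeneousIdeal
noncomputable section
open EGA2

namespace Groth.Agent.S12162

/-- Let Y be a quasi-compact separated scheme or a scheme with Noetherian underlying space, q : X → Y a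
morphism of finite type, L an invertible O_X-module with 𝒮L = ⊕ L^{⊗n} (whose Proj is X), 𝒮 a
quasi-coherent positively graded O_Y-algebra, ψ♭ = u : 𝒮 → q_*𝒮L a graded q-morphism and r = r_{L,ψ}
: G(ψ) → Proj(𝒮). Then r is everywhere defined and an immersion if and only if there are n > 0 and a
quasi-coherent sub-O_Y-module E ⊆ 𝒮_n of finite type such that (a) q^*(E) → L^{⊗n} (induced by ψ_n)
is surjective and (b) for the graded sub-algebra 𝒮' of 𝒮 generated by E and ψ' = ψ ∘ q^*(𝒮' ⊆ 𝒮),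
r_{L,ψ'} is everywhere defined and an immersion. (Here E is written as the degree-n part of 𝒮',
which it equals; 𝒮' is given abstractly with an injective graded homomorphism into 𝒮 and degree-zero
part the image of O_Y; surjectivity in (a) is stated stalkwise: every point of X has an affine
neighbourhood V over which some section of E generates L^{⊗n}.) -/
theorem result {Y X P PL : Scheme.{u}} (q : X ⟶ Y)
    (L : X.Modules) (hL : PicF.IsInvertible L) (hLq : Coh.IsQCoh L)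
    (𝒮 : RelProj.QCGrAlg Y) (𝒮L : RelProj.QCGrAlg X) (j : L ⟶ 𝒮L.toModule) (hj : RelProj.IsGrSymAlg L 𝒮L j)
    (u : RelProj.QGrHom q 𝒮 𝒮L)
    (p : P ⟶ Y) (chart : ∀ (U : Y.Opens) (hU : IsAffineOpen U), (((p ⁻¹ᵁ U : P.Opens) : Scheme.{u}) ≅ Proj (𝒮.deg U hU)))
    (hP : RelProj.IsRelProj 𝒮 p chart)
    (pL : PL ⟶ X) (chartL : ∀ (U : X.Opens) (hU : IsAffineOpen U), (((pL ⁻¹ᵁ U : PL.Opens) : Scheme.{u}) ≅ Proj (𝒮L.deg U hU)))
    (hPL : RelProj.IsRelProj 𝒮L pL chartL)
    (r : ((RelProj.domQ u pL chartL : PL.Opens) : Scheme.{u}) ⟶ P)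
    (hr : RelProj.IsProjQMapOn u p chart pL chartL (RelProj.domQ u pL chartL) r)
    (hYs : (CompactSpace Y ∧ Y.IsSeparated) ∨ NoetherianSpace Y) [QuasiCompact q] [LocallyOfFiniteType q] :
    (RelProj.domQ u pL chartL = ⊤ ∧ IsImmersion r) ↔
      ∃ (n : ℕ) (_ : 0 < n) (𝒮' : RelProj.QCGrAlg Y) (j' : 𝒮'.toQCAlg ⟶ 𝒮.toQCAlg) (_ : RelProj.IsGradedHom j')
        (_ : ∀ (U : Y.Opens), IsAffineOpen U → Function.Injective (j'.hom.app (op U)).hom)
        (_ : ∀ (U : Y.Opens) (hU : IsAffineOpen U),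
          ((𝒮'.deg U hU 0 : AddSubgroup (𝒮'.presheaf.obj (op U))) : Set (𝒮'.presheaf.obj (op U))) =
            Set.range (𝒮'.str.app (op U)).hom)
        (_ : ∀ (U : Y.Opens) (hU : IsAffineOpen U),
          Subring.closure (((𝒮'.deg U hU 0 : AddSubgroup (𝒮'.presheaf.obj (op U))) : Set (𝒮'.presheaf.obj (op U))) ∪
            ((𝒮'.deg U hU n : AddSubgroup (𝒮'.presheaf.obj (op U))) : Set (𝒮'.presheaf.obj (op U)))) = ⊤)
        (_ : 𝒮'.IsFTDeg n)
        (u' : RelProj.QGrHom q 𝒮' 𝒮L) (_ : ∀ U : Y.Opens, u'.app U = j'.hom.app (op U) ≫ u.app U),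
        (∀ x : X, ∃ (U : Y.Opens) (hU : IsAffineOpen U) (e : 𝒮'.presheaf.obj (op U)) (_ : e ∈ 𝒮'.deg U hU n)
            (V : X.Opens) (hV : IsAffineOpen V) (hVU : V ≤ q ⁻¹ᵁ U), x ∈ V ∧
              ((𝒮L.deg V hV n : AddSubgroup (𝒮L.presheaf.obj (op V))) : Set (𝒮L.presheaf.obj (op V))) ⊆
                (Ideal.span {(u'.appLE U V hVU).hom e} : Set (𝒮L.presheaf.obj (op V)))) ∧
        (∀ (P' : Scheme.{u}) (p' : P' ⟶ Y)
            (chart' : ∀ (U : Y.Opens) (hU : IsAffineOpen U), (((p' ⁻¹ᵁ U : P'.Opens) : Scheme.{u}) ≅ Proj (𝒮'.deg U hU)))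
            (_ : RelProj.IsRelProj 𝒮' p' chart')
            (r' : ((RelProj.domQ u' pL chartL : PL.Opens) : Scheme.{u}) ⟶ P')
            (_ : RelProj.IsProjQMapOn u' p' chart' pL chartL (RelProj.domQ u' pL chartL) r'),
          RelProj.domQ u' pL chartL = ⊤ ∧ IsImmersion r') := by
  have := RLPsi35.isIso_pL hLq hj hPL hL
  constructor
  · rintro ⟨htop, himm⟩
    have hYc : CompactSpace Y := hYs.elim (fun h => h.1) fun h => NoetherianSpace.compactSpace (h := h)
    have : CompactSpace X := QuasiCompact.compactSpace_of_compactSpace q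
    have hext : ∀ U : Y.Opens, IsAffineOpen U → QCoh.ExtStep U := fun U hU => by
      rcases hYs with ⟨h1, h2⟩ | h
      · exact QCoh.extStep_qcqs hU.isCompact
      · exact QCoh.extStep_noetherian (fun x => ⟨⊤, trivial, (h.set (⊤ : Y.Opens))⟩) U
    obtain ⟨n, hn, K, hK, c, T, hcov, hTfin, hTdeg, hc⟩ :=
      RLPsi35.exists_degree_and_elements hP hPL hr htop himm
    obtain ⟨N, hN, hNdeg, hNT⟩ := RLPsi35.exists_ftOn_deg 𝒮 n (fun k => (c k).U) (fun k => (c k).hU)
      (fun k => hext _ (c k).hU) T hTfin hTdeg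
    let E : RLPsi35.DegFT 𝒮 n := ⟨N, hN, hNdeg⟩
    let j' := E.incl hn
    let u' := RLPsi35.compHom u j' (E.isGradedHom_incl hn)
    refine ⟨n, hn, E.grAlg hn, j', E.isGradedHom_incl hn, fun U _ => E.injective_incl hn U, E.deg_zero hn,
      E.closure_deg hn, E.isFTDeg hn, u', fun U => rfl, fun x => ?_, fun P' p' chart' hP' r' hr' => ?_⟩
    · obtain ⟨z, rfl⟩ := pL.surjective x
      obtain ⟨k, hk⟩ := hcov z
      obtain ⟨hd, hfT, -⟩ := hc k
      obtain ⟨e, he, hef⟩ := E.exists_deg_of_secs hn (c k).hU (hNT k _ hfT)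
      have hh : RLPsi35.Hit u' pL chartL (c k).U (c k).hU e z :=
        (RLPsi35.hit_comp_iff j' u' fun U => rfl).mpr (by rw [hef]; exact ((c k).mem_iff z).mpr hk)
      obtain ⟨V, hV, hVU, hzV, hgen⟩ := (RLPsi35.hit_iff_gen hLq hj hPL hL hn he).mp hh
      exact ⟨(c k).U, (c k).hU, e, he, V, hV, hVU, hzV, hgen⟩
    · have hlift : ∀ k, ∃ e : (E.grAlg hn).presheaf.obj (op (c k).U),
          e ∈ (E.grAlg hn).deg (c k).U (c k).hU n ∧ (j'.hom.app (op (c k).U)).hom e = (c k).f :=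
        fun k => E.exists_deg_of_secs hn (c k).hU (hNT k _ (hc k).2.1)
      choose e he hef using hlift
      let c' : K → RLPsi35.Piece u' pL chartL := fun k =>
        ⟨(c k).U, (c k).hU, n, hn, e k, he k, (c k).V, (c k).hV, (c k).hle, fun z => by
          rw [RLPsi35.hit_comp_iff (hu' := fun U => rfl) j' u', hef k]; exact (c k).mem_iff z⟩
      refine RLPsi35.Piece.isImmersion_of_cover hP' hPL hr' c' hcov fun k => ?_
      obtain ⟨-, -, G, hG, hGs⟩ := hc k
      refine RLPsi35.Piece.cond_of_generators hP' hPL (c' k) G hG fun g hg => ?_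
      obtain ⟨s, hsT, hs⟩ := hGs g hg
      obtain ⟨s', hs', hss'⟩ := E.exists_deg_of_secs hn (c k).hU (hNT k _ hsT)
      refine ⟨1, s', (one_mul n).symm ▸ hs', ?_⟩
      have e1 : ∀ a, (u'.appLE (c k).U (c k).V (c k).hle).hom a =
          (u.appLE (c k).U (c k).V (c k).hle).hom ((j'.hom.app (op (c k).U)).hom a) := fun a =>
        RLPsi35.gradedAt_comp j' u' (fun U => rfl) (c k).U (c k).hU (c k).V (c k).hV (c k).hle a
      show _ * (u'.appLE (c k).U (c k).V (c k).hle).hom (e k) ^ 1 = (u'.appLE (c k).U (c k).V (c k).hle).hom s'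
      rw [pow_one, e1, e1, hef k, hss']
      exact hs
  · rintro ⟨n, hn, 𝒮', j', hj', -, -, -, -, u', hu', -, himm'⟩
    obtain ⟨P', p', chart', hP'⟩ := Proj16.exists_isRelProj 𝒮'
    obtain ⟨r', hr', -⟩ := ProjQMapX.existsUnique_isProjQMapOn u' hP' hPL
    obtain ⟨h1, h2⟩ := himm' P' p' chart' hP' r' hr'
    exact RLPsi35.isImmersion_of_comp hj' hu' hPL hP hr hP' hr' h1 h2

end Groth.Agent.S12162
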