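import Groth.Statements.S12193
import Groth.Agent.AlgSpDec.RedImage
import Groth.Agent.AlgSpDec.LimReduced
import Groth.Agent.AlgSpLib.OpenMor
import Groth.Agent.AlgSpLib.EtaleSmoothLocal
import Groth.Agent.AlgSpLib.LocalSourceInst
-- import your own Groth.Agent.* helpers here

set_option autoImplicit false
universe u
open CategoryTheory CategoryTheory.Limits AlgebraicGeometry
open AlgSp

namespace Groth.Agent.S12193

/-- Let X be a reduced algebraic space over S, f : X → Y a morphism of algebraic spaces over S, and Z →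
Y the scheme theoretic image of f. Then forming the scheme theoretic image commutes with etale base
change: for every etale morphism V → Y of algebraic spaces and cartesian squares X ×_Y V, Z ×_Y V,
the closed subspace Z ×_Y V → V is the scheme theoretic image of X ×_Y V → V. -/
theorem result {S : Scheme.{u}} {X Y Z V XV ZV : AlgSp.Space S} (f : X ⟶ Y)
    (i : Z ⟶ Y) (hX : AlgSp.IsReducedSp X.obj) (hZ : AlgSp.IsSchImage f.hom i.hom) (b : V ⟶ Y)
    (hb : AlgSp.IsEtaleMor b.hom) (f₁ : XV ⟶ X) (fV : XV ⟶ V) (i₁ : ZV ⟶ Z) (iV : ZV ⟶ V)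
    (sqX : IsPullback f₁.hom fV.hom f.hom b.hom) (sqZ : IsPullback i₁.hom iV.hom i.hom b.hom) :
    AlgSp.IsSchImage fV.hom iV.hom := by
  have hopen : IsOpenMap (AlgSp.Points.map b.hom) := by
    have h := Groth.Agent.AlgSpLib.locP_etale_of_isEtaleMor hb
    exact Groth.Agent.AlgSpLib.isOpenMap_map_of_fppf V.property Y.property b.hom
      (fun U W a c k ha hc w => by
        have : Etale k.left := h a c k ha hc w
        exact inferInstanceAs (Flat k.left))
      (fun U W a c k ha hc w => by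
        have : Etale k.left := h a c k ha hc w
        exact inferInstanceAs (LocallyOfFinitePresentation k.left))
  -- spaces etale over reduced ones are reduced
  have hred : ∀ {A B : AlgSp.Sp S} (g : A ⟶ B), AlgSp.IsAlgSpace A → AlgSp.IsEtaleMor g →
      AlgSp.IsReducedSp B → AlgSp.IsReducedSp A := fun g hA hg hB => by
    obtain ⟨U, a, ha, has⟩ := hA.atlas
    exact ⟨U, a, ha, has, Groth.Agent.AlgSpDec.isReduced_of_etale_reducedSp hB (hg a ha)⟩
  obtain ⟨hic, hir, hZr⟩ := Groth.Agent.AlgSpDec.isRedInduced_of_schImage Y.property hX hZ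
  have hiV : AlgSp.RepWith @IsClosedImmersion iV.hom := Groth.Agent.AlgSpLib.repWith_of_isPullback sqZ hic
  have hZVr : AlgSp.IsReducedSp ZV.obj := hred i₁.hom ZV.property
    (Groth.Agent.AlgSpLib.isEtaleMor_of_isPullback sqZ.flip V.property Y.property Z.property hb) hZr
  have key : ∀ {A P : AlgSp.Sp S} {g : A ⟶ Y.obj} {p₁ : P ⟶ A} {p₂ : P ⟶ V.obj},
      IsPullback p₁ p₂ g b.hom → Set.range (AlgSp.Points.map p₂) =
        AlgSp.Points.map b.hom ⁻¹' Set.range (AlgSp.Points.map g) := by
    intro A P g p₁ p₂ sq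
    refine Set.Subset.antisymm ?_ ?_
    · rintro _ ⟨z, rfl⟩
      exact ⟨_, (AlgSp.Points.map_comp _ _ z).symm.trans
        ((congrArg (fun φ => AlgSp.Points.map φ z) sq.w).trans (AlgSp.Points.map_comp _ _ z))⟩
    · rintro v ⟨a, ha⟩
      obtain ⟨z, -, hz⟩ := Groth.Agent.AlgSpLib.exists_point_of_isPullback sq ha
      exact ⟨z, hz⟩
  have hrange : Set.range (AlgSp.Points.map iV.hom) = closure (Set.range (AlgSp.Points.map fV.hom)) := by
    rw [key sqZ, key sqX, hir, hopen.preimage_closure_eq_closure_preimage (AlgSp.Points.continuous_map _)]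
  obtain ⟨f', hf'⟩ := hZ.2.1
  refine ⟨hiV, ⟨sqZ.lift (f₁.hom ≫ f') fV.hom (by rw [Category.assoc, hf', sqX.w]), sqZ.lift_snd _ _ _⟩,
    fun Z' i' _ hi' hf'' => ?_⟩
  obtain ⟨f'', hf''⟩ := hf''
  refine Groth.Agent.AlgSpDec.exists_factor_reduced hZVr iV.hom hi' ?_
  rw [hrange]
  refine closure_minimal ?_ ?_
  · rintro _ ⟨x, rfl⟩
    exact ⟨AlgSp.Points.map f'' x, by rw [← AlgSp.Points.map_comp, hf'']⟩
  · exact (Groth.Agent.AlgSpPts.isClosedMap_map (Groth.Agent.AlgSpLib.repWith_mono
      (fun _ _ e (_ : IsClosedImmersion e) => inferInstanceAs (UniversallyClosed e)) _ hi')).isClosed_range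

end Groth.Agent.S12193
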