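import Groth.Statements.S12194
import Groth.Agent.AlgSpQC10.StalkFin

set_option backward.isDefEq.respectTransparency false
set_option linter.style.haveILetI false
-- import your own Groth.Agent.* helpers here

set_option autoImplicit false
universe u
open CategoryTheory CategoryTheory.Limits AlgebraicGeometry Opposite
open AlgSp

namespace Groth.Agent.S12194

/-- Let X be a locally Noetherian algebraic space over S, φ : G ⟶ F a morphism of coherent O_X-modules
on the small etale site of X (of finite presentation, X being locally Noetherian) and x̄ a geometric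
point of X. If the map φ_x̄ on stalks at x̄ (of the underlying abelian sheaves) is surjective, then
there is an open subspace X' ⊂ X containing the image of x̄ such that φ|_{X'} is surjective: the
stalk map φ_ȳ is surjective for every geometric point ȳ of X lying over a point of |X'|. -/
theorem result {S : Scheme.{u}} (X : AlgSp.Space S)
    (hX : AlgSp.IsLocNoethSp X.obj) {G F : AlgSp.ModEt X.obj} [G.IsFinitePresentation] [F.IsFinitePresentation]
    (φ : G ⟶ F) (xbar : AlgSp.FieldPt X.obj) (hx : xbar.IsGeometric)
    (hsurj : Epi ((AlgSp.stalkEtFunctor AddCommGrpCat.{u + 1} xbar).map ((AlgSp.toAbEt X.obj).map φ))) :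
    ∃ (X' : AlgSp.Space S) (j : X' ⟶ X), AlgSp.RepWith @IsOpenImmersion j.hom ∧
      AlgSp.Points.mk xbar ∈ Set.range (AlgSp.Points.map j.hom) ∧
        ∀ ybar : AlgSp.FieldPt X.obj, ybar.IsGeometric →
          AlgSp.Points.mk ybar ∈ Set.range (AlgSp.Points.map j.hom) →
            Epi ((AlgSp.stalkEtFunctor AddCommGrpCat.{u + 1} ybar).map ((AlgSp.toAbEt X.obj).map φ)) := by
  obtain ⟨N, hN, hs⟩ := Groth.Agent.AlgSpQC10.exists_surjective X.property hx φ ((AddCommGrpCat.epi_iff_surjective _).1 hsurj)
  haveI := hN
  obtain ⟨X', j, hj, hr⟩ := Groth.Agent.AlgSpQC10.exists_open_sub X.property X.property N.1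
  refine ⟨X', j, hj, ?_, fun ybar hy hmem => ?_⟩
  · rw [hr]
    exact ⟨_, Groth.Agent.AlgSpDec.EtStalkElts.ofPt_base xbar N⟩
  · rw [hr] at hmem
    obtain ⟨l, -⟩ := Groth.Agent.AlgSpQC10.exists_nbhd_over X.property hy hmem
    haveI : IsAffine (⟨N.1, l⟩ : AlgSp.EtNbhd ybar).1.obj.left.left := hN
    exact (AddCommGrpCat.epi_iff_surjective _).2
      (Groth.Agent.AlgSpQC10.stalkHom_surjective_of_nbhd X.property hy φ ⟨N.1, l⟩ hs)

end Groth.Agent.S12194
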