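import Groth.Statements.S12199
import Groth.Agent.AlgSpDM.Finite
import Groth.Agent.AlgSpDec.PointLocusInst
-- import your own Groth.Agent.* helpers here

set_option autoImplicit false
universe u
open CategoryTheory CategoryTheory.Limits AlgebraicGeometry MonoidalCategory MonObj
open AlgSp

namespace Groth.Agent.S12199

/-- Let B be an algebraic space over S and G a group algebraic space over B with unit section e : B → G,
and suppose G is locally of finite type over B. Under this assumption, G → B is unramified exactly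
when it is unramified at e(b) for every point b of |B|, and G → B is locally quasi-finite exactly
when it is quasi-finite at e(b) for every point b of |B|. Here 'unramified (resp. quasi-finite) at a
point' is the some-chart-diagram form: there are etale charts of G and B and a compatible morphism
of schemes which is unramified (resp. locally quasi-finite of finite type) on an open neighbourhood
of a point over e(b). -/
theorem result (S : Scheme.{u}) (B : AlgSp.Sp S) (hB : AlgSp.IsAlgSpace B)
    (G : Over B) [GrpObj G] (hG : AlgSp.IsAlgSpace G.left) (hlft : AlgSp.LocP @LocallyOfFiniteType G.hom) :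
    (AlgSp.LocP (@LocallyOfFiniteType ⊓ @FormallyUnramified) G.hom ↔
        ∀ b : AlgSp.Points B, AlgSp.HasAtMor
          (fun U _ h u => ∃ W : U.Opens, u ∈ W ∧ LocallyOfFiniteType (W.ι ≫ h) ∧ FormallyUnramified (W.ι ≫ h))
          G.hom (AlgSp.Points.map (η[G]).left b)) ∧
    (AlgSp.LocP (@LocallyQuasiFinite ⊓ @LocallyOfFiniteType) G.hom ↔
        ∀ b : AlgSp.Points B, AlgSp.HasAtMor
          (fun U _ h u => ∃ W : U.Opens, u ∈ W ∧ LocallyQuasiFinite (W.ι ≫ h) ∧ LocallyOfFiniteType (W.ι ≫ h))
          G.hom (AlgSp.Points.map (η[G]).left b)) := by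
  let Γ := Groth.Agent.AlgSpDec.GrpGroupoid.groupoid G
  have key : ∀ {Q : ∀ {X Y : Scheme.{u}}, (X ⟶ Y) → X → Prop} {P : MorphismProperty Scheme.{u}},
      Groth.Agent.AlgSpDec.PointLocus.PtProp @Q →
      (∀ {X Y : Scheme.{u}} (h : X ⟶ Y) [LocallyOfFiniteType h], P h ↔ ∀ x, Q h x) →
      (AlgSp.LocP P G.hom ↔ ∀ b : AlgSp.Points B,
        Groth.Agent.AlgSpDec.PointLocus.At @Q G.hom (AlgSp.Points.map (η[G]).left b)) := by
    intro Q P hQ hP
    rw [Groth.Agent.AlgSpDec.PointLocus.locP_iff hQ hP hG hB hlft]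
    refine ⟨fun h b => h _, fun h x => ?_⟩
    refine (Groth.Agent.AlgSpDec.PointLocus.at_translate hQ Γ hG hB hlft x).2 ?_
    rw [AlgSp.Points.map_comp]
    exact h _
  refine ⟨?_, ?_⟩
  · rw [key Groth.Agent.AlgSpDec.PointLocus.ptProp_unram (fun h _ => Groth.Agent.AlgSpDec.PointLocus.unram_iff_forall h)]
    refine forall_congr' fun b => ⟨?_, ?_⟩
    · rintro ⟨U, V, a, c, h, u, ha, hc, w, hx, W, hu, hW⟩
      have : LocallyOfFiniteType h.left := hlft a c h ha hc w
      exact ⟨U, V, a, c, h, u, ha, hc, w, hx, W, hu, inferInstance, hW⟩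
    · rintro ⟨U, V, a, c, h, u, ha, hc, w, hx, W, hu, -, hW⟩
      exact ⟨U, V, a, c, h, u, ha, hc, w, hx, W, hu, hW⟩
  · rw [key Groth.Agent.AlgSpDec.PointLocus.ptProp_lqf (fun h _ => Groth.Agent.AlgSpDec.PointLocus.lqf_iff_forall h)]
    exact forall_congr' fun b => (Groth.Agent.AlgSpDM.qfAt_iff hlft _).symm

end Groth.Agent.S12199
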