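import Groth.Statements.S12214
import Groth.Agent.FlatFibres.FlatWeakAssRel
import Mathlib.RingTheory.LocalProperties.FinitePresentation

set_option linter.style.haveILetI false

set_option autoImplicit false
universe u
open FlatMor
open scoped TensorProduct
set_option backward.isDefEq.respectTransparency false

namespace Groth.Agent.S12214

theorem fp_congr {B : Type*} [CommRing B] {X Y : Type*} [AddCommGroup X] [Module B X] [AddCommGroup Y]
    [Module B Y] (e : X ≃ₗ[B] Y) (h : Module.FinitePresentation B X) : Module.FinitePresentation B Y :=
  Module.FinitePresentation.of_equiv e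

/-- Let R → S be a ring map of finite presentation, M a finite S-module, and assume R has finitely many
weakly associated primes. Then for every g ∈ S whose basic open D(g) is contained in the flat locus
U = {q : M_q is flat over R}, the localization M_g is a finitely presented S_g-module which is flat
over R. (Openness of U is the companion statement.) -/
theorem result {R S : Type u} [CommRing R] [CommRing S] [Algebra R S]
    [Algebra.FinitePresentation R S] (hR : (FlatCA.weakAss R R).Finite)
    (M : Type u) [AddCommGroup M] [Module S M] [Module R M] [IsScalarTower R S M] [Module.Finite S M]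
    (g : S) (hg : ∀ (q : Ideal S) [q.IsPrime], g ∉ q → FlatCA.FlatAt R q M) :
    Module.FinitePresentation (Localization.Away g) (LocalizedModule (Submonoid.powers g) M) ∧
      Module.Flat R (LocalizedModule (Submonoid.powers g) M) := by
  classical
  refine ⟨?_, (RG11.flat_away_iff_forall (N := M) g).mpr fun Q _ hQ => hg Q hQ⟩
  let A := Localization.Away g
  let N := LocalizedModule (Submonoid.powers g) M
  let t : Set A := {a | ∃ G : S, algebraMap S A G = a ∧
    Module.FinitePresentation (Localization.Away G) (LocalizedModule (Submonoid.powers G) M)}
  have ht : Ideal.span t = ⊤ := by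
    by_contra h
    obtain ⟨Q, hQ, hle⟩ := Ideal.exists_le_maximal _ h
    haveI := hQ.isPrime
    let q := Q.comap (algebraMap S A)
    have hgq : g ∉ q := fun hmem =>
      hQ.ne_top (Ideal.eq_top_of_isUnit_mem _ hmem (IsLocalization.Away.algebraMap_isUnit g))
    obtain ⟨G, hG, -, hfp⟩ := FlatFibres.FlatWeakAss.exists_fp_flat_nhd (M := M) hR q (hg q hgq)
    exact hG (hle (Ideal.subset_span ⟨G, rfl, hfp⟩))
  refine Module.FinitePresentation.of_localizationSpan' t ht
    (Rₚ := fun a : t => Localization.Away a.1) (fun a => LocalizedModule.mkLinearMap (Submonoid.powers a.1) N) ?_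
  rintro ⟨_, G, rfl, hfp⟩
  let B := Localization.Away (algebraMap S A G)
  have hu : IsUnit (algebraMap S B G) := by
    rw [IsScalarTower.algebraMap_apply S A B]
    exact IsLocalization.Away.algebraMap_isUnit (algebraMap S A G)
  letI : Algebra (Localization.Away G) B := (IsLocalization.Away.lift G hu).toAlgebra
  haveI : IsScalarTower S (Localization.Away G) B := IsScalarTower.of_algebraMap_eq fun x =>
    (IsLocalization.Away.lift_eq G hu x).symm
  let NB := LocalizedModule (Submonoid.powers (algebraMap S A G)) N
  have h1 : IsBaseChange A (LocalizedModule.mkLinearMap (Submonoid.powers g) M) :=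
    IsLocalizedModule.isBaseChange (Submonoid.powers g) A _
  have h2 : IsBaseChange B (LocalizedModule.mkLinearMap (Submonoid.powers (algebraMap S A G)) N) :=
    IsLocalizedModule.isBaseChange (Submonoid.powers (algebraMap S A G)) B _
  have h3 : IsBaseChange (Localization.Away G) (LocalizedModule.mkLinearMap (Submonoid.powers G) M) :=
    IsLocalizedModule.isBaseChange (Submonoid.powers G) (Localization.Away G) _
  haveI : IsScalarTower S B NB := IsScalarTower.of_algebraMap_smul fun (s : S) (x : NB) => by
    show (algebraMap S B s) • x = s • x
    rw [IsScalarTower.algebraMap_apply S A B, IsScalarTower.algebraMap_smul B (algebraMap S A s) x,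
      IsScalarTower.algebraMap_smul A s x]
  have hc := h1.comp h2
  haveI := hfp
  let MG := LocalizedModule (Submonoid.powers G) M
  let e : B ⊗[Localization.Away G] MG ≃ₗ[B] NB :=
    ((h3.equiv.baseChange (Localization.Away G) B _ _).symm.trans
      (TensorProduct.AlgebraTensorModule.cancelBaseChange S (Localization.Away G) B B M)).trans hc.equiv
  exact fp_congr (B := B) (X := B ⊗[Localization.Away G] MG) (Y := NB) e inferInstance

end Groth.Agent.S12214
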