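import Groth.Statements.S12226
import Groth.Agent.ZClosLib.ClosedDepth
-- import your own Groth.Agent.* helpers here

set_option autoImplicit false
universe u
open CategoryTheory CategoryTheory.Limits AlgebraicGeometry TopologicalSpace
open LocCoh

namespace Groth.Agent.S12226

/-- Let j : U → X be the inclusion of an open subscheme of a Noetherian scheme X and F a coherent
O_X-module such that F' = j_*(F|_U) is coherent. Then (a) for every point x of X outside U the stalk
F'_x has depth at least 2 over O_{X,x}, and (b) F → F' is the unique map with these properties: for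
every coherent O_X-module G and every map φ : F → G whose restriction to U is an isomorphism and
such that depth(G_x) ≥ 2 for all x outside U, there is exactly one map ψ : G → F' whose composite
with φ is the canonical map F → j_*(F|_U), and this ψ is an isomorphism. (The compatibility of this
construction with flat base change is not part of this statement.) -/
theorem result (X : Scheme.{u}) [IsNoetherian X] (U : X.Opens)
    (F : X.Modules) (hF : Coh.IsCoh F) (hF' : Coh.IsCoh ((Coh.push U.ι).obj (F.restrict U.ι))) :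
    (∀ x : ↥X, x ∉ U → (2 : ℕ∞) ≤ LocCoh.depth (X.presheaf.stalk x)
        (((Coh.push U.ι).obj (F.restrict U.ι)).presheaf.stalk x)) ∧
    ∀ (G : X.Modules) (hG : Coh.IsCoh G) (φ : F ⟶ G),
      IsIso ((Scheme.Modules.restrictFunctor U.ι).map φ) →
      (∀ x : ↥X, x ∉ U → (2 : ℕ∞) ≤ LocCoh.depth (X.presheaf.stalk x) (G.presheaf.stalk x)) →
        (∃! ψ : G ⟶ (Coh.push U.ι).obj (F.restrict U.ι),
            φ ≫ ψ = (Scheme.Modules.restrictAdjunction U.ι).unit.app F) ∧
          ∀ ψ : G ⟶ (Coh.push U.ι).obj (F.restrict U.ι),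
            φ ≫ ψ = (Scheme.Modules.restrictAdjunction U.ι).unit.app F → IsIso ψ := by
  classical
  let Z : Set ↥X := (U : Set ↥X)ᶜ
  have hZ : StableUnderSpecialization Z := U.isOpen.isClosed_compl.stableUnderSpecialization
  have hle : ∀ T : ZClos.Cl Z, U ≤ T.U := fun T x hx hT => T.2 hT hx
  -- closed modules are determined by their restriction to `U`
  have hunit : ∀ (G : X.Modules), Coh.IsCoh G →
      (∀ x : ↥X, x ∉ U → (2 : ℕ∞) ≤ LocCoh.depth (X.presheaf.stalk x) (G.presheaf.stalk x)) →
        IsIso ((Scheme.Modules.restrictAdjunction U.ι).unit.app G) := by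
    intro G hG hd
    have hc : ZClos.IsZClosed Z G := ZClosLib.isIso_of_stalkMap_bijective _ fun x =>
      ZClosLib.isZClosedAt_of_two_le_depth hG hZ (fun x' _ hx' => hd x' hx')
    let T : ZClos.Cl Z := ⟨⟨Z, U.isOpen.isClosed_compl⟩, subset_rfl⟩
    have hTU : T.U = U := TopologicalSpace.Opens.ext (compl_compl _)
    have h := ZClosLib.isZClosed_iff_forall_isIso.1 hc T
    have key : ∀ V : X.Opens, V = U → IsIso ((ZClos.resPushUnit V).app G) →
        IsIso ((ZClos.resPushUnit U).app G) := by
      rintro V rfl h'; exact h'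
    exact key T.U hTU h
  refine ⟨fun x hx => ?_, fun G hG φ hφ hd => ?_⟩
  · have hc : ZClos.IsZClosed Z ((Coh.push U.ι).obj (F.restrict U.ι)) :=
      ZClosLib.isZClosed_iff_forall_isIso.2 fun T => ZClos.isIso_unit_resPush (hle T) F
    refine ZClosLib.two_le_depth_of_isZClosedAt hF' hZ (specializes_rfl : x ⤳ x) hx ?_
    haveI : IsIso (ZClos.rhoApp Z ((Coh.push U.ι).obj (F.restrict U.ι))) := hc
    haveI : IsIso (ZClos.rhoApp Z ((Coh.push U.ι).obj (F.restrict U.ι))).mapPresheaf :=
      inferInstanceAs (IsIso ((Scheme.Modules.toPresheaf X).map (ZClos.rhoApp Z ((Coh.push U.ι).obj (F.restrict U.ι)))))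
    exact (ConcreteCategory.isIso_iff_bijective _).1
      (Functor.map_isIso (TopCat.Presheaf.stalkFunctor (C := Ab.{u}) x) (ZClos.rhoApp Z ((Coh.push U.ι).obj (F.restrict U.ι))).mapPresheaf)
  · let adj := Scheme.Modules.restrictAdjunction U.ι
    haveI := hunit G hG hd
    haveI := hφ
    let ψ₀ : G ⟶ (Coh.push U.ι).obj (F.restrict U.ι) :=
      adj.unit.app G ≫ (Scheme.Modules.pushforward U.ι).map (inv ((Scheme.Modules.restrictFunctor U.ι).map φ))
    haveI : IsIso ψ₀ := IsIso.comp_isIso
    have h₀ : φ ≫ ψ₀ = adj.unit.app F := by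
      have hn := adj.unit.naturality φ
      simp only [Functor.id_map, Functor.comp_map] at hn
      show φ ≫ adj.unit.app G ≫ _ = _
      rw [← Category.assoc, hn, Category.assoc, ← Functor.map_comp, IsIso.hom_inv_id, CategoryTheory.Functor.map_id]
      exact Category.comp_id _
    have huniq : ∀ ψ : G ⟶ (Coh.push U.ι).obj (F.restrict U.ι), φ ≫ ψ = adj.unit.app F → ψ = ψ₀ := fun ψ hψ =>
      (adj.homEquiv _ _).symm.injective ((cancel_epi ((Scheme.Modules.restrictFunctor U.ι).map φ)).1 (by
        rw [← adj.homEquiv_naturality_left_symm, ← adj.homEquiv_naturality_left_symm]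
        exact congrArg _ (hψ.trans h₀.symm)))
    exact ⟨⟨ψ₀, h₀, huniq⟩, fun ψ hψ => by rw [huniq ψ hψ]; infer_instance⟩

end Groth.Agent.S12226
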