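import Groth.Statements.S12245
import Groth.Agent.DevissBCHx.EtaleLocBase
import Groth.Agent.DevissBCHx.EtaleLocOpen
import Groth.Agent.DevissBCHx.EtaleLocDim
import Groth.Agent.DevissBCHx.EtaleLocClosed

set_option linter.style.haveILetI false
set_option backward.isDefEq.respectTransparency false
set_option linter.unusedVariables false
set_option maxHeartbeats 4000000

set_option autoImplicit false
universe u
open FlatMor

namespace Groth.Agent.S12245

open TensorProduct AlgebraicGeometry in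
/-- All schemes are affine. Let R → S be of finite type, N a finite S-module, p ⊆ R and q ⊆ S primes
with q over p, and (C, D, G, n; z, y) a one-step dévissage of N/S/R at q (one-step dévissage over p;
z a prime of C over q and over the prime y of D, unique over y; κ(y)/κ(p) purely transcendental;
local dimension of the fibre support at q equal to n). Let (R, p) → (R', p') and (D, y) → (D', y')
be elementary étale ring maps at those primes (étale, prime over prime, trivial residue field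
extension) with D' an R'-algebra compatibly with D and R, and y' over p'. Then there are: an
elementary étale ring map (R', p') → (R'', p''); an R''-algebra D'' which is an affine open of the
base change of D' to R'' (an open immersion on spectra out of a pushout T of D' along R' → R''),
compatibly with D' and R'', with a prime y'' over y' and over p''; the base change C'' of C along D
→ D'' with a prime z'' over z and y'' and the base change G'' of G to C''; an elementary étale ring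
map (S, q) → (S'', q'') with S'' an R''-algebra compatibly with R → S and a surjection S'' → C''
compatible with S → C and with D'' → C'' over R'', z'' lying over q''; and the base change N'' of N
to S'' — such that (C'', D'', G'', n; z'', y'') is a one-step dévissage of N''/S''/R'' at q''
(including the four pointed conditions). -/
theorem result
    (R S : Type u) [CommRing R] [CommRing S] [Algebra R S] [Algebra.FiniteType R S]
    (N : Type u) [AddCommGroup N] [Module S N] [Module R N] [IsScalarTower R S N] [Module.Finite S N]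
    (p : Ideal R) [p.IsPrime] (q : Ideal S) [q.IsPrime] [q.LiesOver p]
    (C D G : Type u) [CommRing C] [CommRing D] [Algebra S C] [Algebra R C] [IsScalarTower R S C]
    [Algebra R D] [Algebra D C] [IsScalarTower R D C] [AddCommGroup G] [Module C G] [Module S G]
    [IsScalarTower S C G] (n : ℕ)
    (h : FlatCA.IsOneStepDevissage R S N p C D G n)
    (z : Ideal C) [z.IsPrime] (y : Ideal D) [y.IsPrime] [z.LiesOver q] [z.LiesOver y] [y.LiesOver p]
    (h1 : ∃ (ξ : PrimeSpectrum (p.Fiber S)) (hξ : ξ ∈ Module.support (p.Fiber S) (FlatCA.fiberMod p S N)),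
      ξ.asIdeal = FlatCA.fiberIdeal p q ∧
      FlatMor.localDim (Module.support (p.Fiber S) (FlatCA.fiberMod p S N)) ⟨ξ, hξ⟩ = n)
    (h3 : ∀ (z₁ : Ideal C) [z₁.IsPrime], z₁.LiesOver y → z₁ = z)
    (h4 : FlatCA.PurelyTranscendental p y)
    (R' : Type u) [CommRing R'] [Algebra R R'] (p' : Ideal R') [p'.IsPrime] (hR' : FlatCA.IsEtaleNhd R R' p p')
    (D' : Type u) [CommRing D'] [Algebra D D'] [Algebra R' D'] [Algebra R D'] [IsScalarTower R R' D']
    [IsScalarTower R D D'] (y' : Ideal D') [y'.IsPrime] (hD' : FlatCA.IsEtaleNhd D D' y y') [y'.LiesOver p'] :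
    ∃ (R'' : Type u) (_ : CommRing R'') (_ : Algebra R' R'') (_ : Algebra R R'') (_ : IsScalarTower R R' R'')
      (p'' : Ideal R'') (_ : p''.IsPrime),
      FlatCA.IsEtaleNhd R' R'' p' p'' ∧
    ∃ (T : Type u) (_ : CommRing T) (_ : Algebra R' T) (_ : Algebra R'' T) (_ : Algebra D' T)
      (_ : IsScalarTower R' R'' T) (_ : IsScalarTower R' D' T),
      Algebra.IsPushout R' R'' D' T ∧
    ∃ (D'' : Type u) (_ : CommRing D'') (_ : Algebra T D'') (_ : Algebra D' D'') (_ : Algebra R'' D'')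
      (_ : Algebra D D'') (_ : Algebra R D'') (_ : IsScalarTower D' T D'') (_ : IsScalarTower R'' T D'')
      (_ : IsScalarTower D D' D'') (_ : IsScalarTower R R'' D'') (_ : IsScalarTower R D D'')
      (y'' : Ideal D'') (_ : y''.IsPrime) (_ : y''.LiesOver y') (_ : y''.LiesOver p''),
      IsOpenImmersion (Spec.map (CommRingCat.ofHom (algebraMap T D''))) ∧
    ∃ (C'' : Type u) (_ : CommRing C'') (_ : Algebra C C'') (_ : Algebra D'' C'') (_ : Algebra D C'')
      (_ : Algebra R'' C'') (_ : IsScalarTower D D'' C'') (_ : IsScalarTower D C C'') (_ : IsScalarTower R'' D'' C'')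
      (z'' : Ideal C'') (_ : z''.IsPrime) (_ : z''.LiesOver z) (_ : z''.LiesOver y''),
      Algebra.IsPushout D D'' C C'' ∧
    ∃ (G'' : Type u) (_ : AddCommGroup G'') (_ : Module C'' G'') (_ : Module C G'') (_ : IsScalarTower C C'' G'')
      (gG : G →ₗ[C] G''), IsBaseChange C'' gG ∧
    ∃ (S'' : Type u) (_ : CommRing S'') (_ : Algebra S S'') (_ : Algebra R'' S'') (_ : Algebra R S'')
      (_ : IsScalarTower R S S'') (_ : IsScalarTower R R'' S'') (q'' : Ideal S'') (_ : q''.IsPrime)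
      (_ : Algebra S'' C'') (_ : Algebra S C'') (_ : IsScalarTower S S'' C'') (_ : IsScalarTower S C C'')
      (_ : IsScalarTower R'' S'' C'') (_ : Module S'' G'') (_ : IsScalarTower S'' C'' G''),
      FlatCA.IsEtaleNhd S S'' q q'' ∧ z''.LiesOver q'' ∧
    ∃ (N'' : Type u) (_ : AddCommGroup N'') (_ : Module S'' N'') (_ : Module S N'') (_ : IsScalarTower S S'' N'')
      (_ : Module R'' N'') (_ : IsScalarTower R'' S'' N'') (gN : N →ₗ[S] N''), IsBaseChange S'' gN ∧
      FlatCA.IsOneStepDevissage R'' S'' N'' p'' C'' D'' G'' n ∧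
      (∃ (ξ : PrimeSpectrum (p''.Fiber S'')) (hξ : ξ ∈ Module.support (p''.Fiber S'') (FlatCA.fiberMod p'' S'' N'')),
        ξ.asIdeal = FlatCA.fiberIdeal p'' q'' ∧
        FlatMor.localDim (Module.support (p''.Fiber S'') (FlatCA.fiberMod p'' S'' N'')) ⟨ξ, hξ⟩ = n) ∧
      (∀ (z₂ : Ideal C'') [z₂.IsPrime], z₂.LiesOver y'' → z₂ = z'') ∧
      FlatCA.PurelyTranscendental p'' y'' := by
  obtain ⟨hetR', hover', hbij'⟩ := id hR'
  obtain ⟨hetD', hoverD', hbijD'⟩ := id hD'
  haveI := hetR'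
  haveI := hetD'
  have tp : RG11.TrivExt p p' := RG11.TrivExt.of_isEtaleNhd hR'
  have ty : RG11.TrivExt y y' := RG11.TrivExt.of_isEtaleNhd hD'
  have hyp0 : y.comap (algebraMap R D) = p := (Ideal.over_def y p).symm
  have hzy0 : z.comap (algebraMap D C) = y := (Ideal.over_def z y).symm
  have hzq0 : z.comap (algebraMap S C) = q := (Ideal.over_def z q).symm
  have huniq0 : ∀ Q : Ideal C, Q.IsPrime → Q.comap (algebraMap D C) = y → Q = z := fun Q hQ hQy =>
    @h3 Q hQ ⟨hQy.symm⟩
  have hsurj : Function.Surjective (algebraMap S C) := h.2.1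
  haveI : Module.Finite D C := h.2.2.2.1
  -- `D'` over `R'`
  have hsm' : FlatCA.SmoothRelDim n R' D' := by
    let κ : R' ⊗[R] D →ₐ[R'] D' :=
      Algebra.TensorProduct.lift (Algebra.ofId R' D') (IsScalarTower.toAlgHom R D D') fun _ _ => .all _ _
    letI : Algebra (R' ⊗[R] D) D' := κ.toRingHom.toAlgebra
    haveI : IsScalarTower R' (R' ⊗[R] D) D' := IsScalarTower.of_algebraMap_eq fun r => (κ.commutes r).symm
    letI : Algebra D (R' ⊗[R] D) := Algebra.TensorProduct.rightAlgebra
    haveI : Algebra.Etale D (R' ⊗[R] D) := Algebra.Etale.of_equiv (Algebra.TensorProduct.commRight R D R')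
    haveI : IsScalarTower D (R' ⊗[R] D) D' := IsScalarTower.of_algebraMap_eq fun d =>
      ((Algebra.TensorProduct.lift_tmul _ _ _ _ _).trans (by rw [map_one, one_mul]; rfl) :
        κ ((1 : R') ⊗ₜ[R] d) = algebraMap D D' d).symm
    haveI : Algebra.Etale (R' ⊗[R] D) D' := Algebra.Etale.of_restrictScalars D _ _
    exact RG11.smoothRelDim_of_etale h.2.2.2.2.2.1
  haveI := RG11.smooth_of_smoothRelDim hsm'
  have hpure' : FlatCA.PurelyTranscendental p' y' := RG11.pureTrans_congr tp ty h4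
  -- the shrinking of the base
  obtain ⟨R₂, _, _, D₂₀, _, _, _, _, _, _, p₂, _, y₀, _, hetR₂, hetD₂₀, tp₂, ty₀, hy₀p, hgi₀, himm⟩ :=
    DevissBCHx.exists_shrink_base p' y' hpure'
  haveI := hetR₂
  haveI := hetD₂₀
  letI : Algebra R R₂ := ((algebraMap R' R₂).comp (algebraMap R R')).toAlgebra
  haveI : IsScalarTower R R' R₂ := IsScalarTower.of_algebraMap_eq fun _ => rfl
  haveI : Algebra.Etale R R₂ := Algebra.Etale.comp R R' R₂
  letI : Algebra D D₂₀ := ((algebraMap D' D₂₀).comp (algebraMap D D')).toAlgebra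
  haveI : IsScalarTower D D' D₂₀ := IsScalarTower.of_algebraMap_eq fun _ => rfl
  haveI : Algebra.Etale D D₂₀ := Algebra.Etale.comp D D' D₂₀
  letI : Algebra R D₂₀ := ((algebraMap D D₂₀).comp (algebraMap R D)).toAlgebra
  haveI : IsScalarTower R D D₂₀ := IsScalarTower.of_algebraMap_eq fun _ => rfl
  haveI : IsScalarTower R R₂ D₂₀ := IsScalarTower.of_algebraMap_eq fun r => by
    show algebraMap D' D₂₀ (algebraMap D D' (algebraMap R D r)) =
      algebraMap R₂ D₂₀ (algebraMap R' R₂ (algebraMap R R' r))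
    rw [← IsScalarTower.algebraMap_apply R D D', IsScalarTower.algebraMap_apply R R' D',
      ← IsScalarTower.algebraMap_apply R' D' D₂₀, ← IsScalarTower.algebraMap_apply R' R₂ D₂₀]
  -- lifting to `S`
  obtain ⟨d, hd, S₂, _, _, _, hetS₂, hRS₂, π, hπ, hπS, hπR, hπker⟩ :=
    RG11.exists_lift_etale (R' := R) (R₂ := R₂) (S' := S) (C := C) (D := D) (D₂ := D₂₀) hsurj (ty.trans ty₀)
      hzy0 huniq0
  haveI := hetS₂
  letI : Algebra R S₂ := ((algebraMap S S₂).comp (algebraMap R S)).toAlgebra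
  haveI : IsScalarTower R S S₂ := IsScalarTower.of_algebraMap_eq fun _ => rfl
  haveI : IsScalarTower R R₂ S₂ := IsScalarTower.of_algebraMap_eq fun r => (hRS₂ r).symm
  -- shrinking the base
  haveI : Algebra.Smooth R₂ D₂₀ := by
    letI : Algebra (R₂ ⊗[R'] D') D₂₀ := (Algebra.TensorProduct.lift (Algebra.ofId R₂ D₂₀)
      (IsScalarTower.toAlgHom R' D' D₂₀) fun _ _ => .all _ _).toRingHom.toAlgebra
    haveI : IsScalarTower R₂ (R₂ ⊗[R'] D') D₂₀ := IsScalarTower.of_algebraMap_eq fun r =>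
      ((Algebra.TensorProduct.lift_tmul _ _ _ _ _).trans (by rw [map_one, mul_one]; rfl) :
        Algebra.TensorProduct.lift (Algebra.ofId R₂ D₂₀) (IsScalarTower.toAlgHom R' D' D₂₀)
          (fun _ _ => .all _ _) (r ⊗ₜ[R'] (1 : D')) = algebraMap R₂ D₂₀ r).symm
    letI : Algebra D' (R₂ ⊗[R'] D') := Algebra.TensorProduct.rightAlgebra
    haveI : Algebra.Etale D' (R₂ ⊗[R'] D') := Algebra.Etale.of_equiv (Algebra.TensorProduct.commRight R' D' R₂)
    haveI : IsScalarTower D' (R₂ ⊗[R'] D') D₂₀ := IsScalarTower.of_algebraMap_eq fun x =>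
      ((Algebra.TensorProduct.lift_tmul _ _ _ _ _).trans (by rw [map_one, one_mul]; rfl) :
        Algebra.TensorProduct.lift (Algebra.ofId R₂ D₂₀) (IsScalarTower.toAlgHom R' D' D₂₀)
          (fun _ _ => .all _ _) ((1 : R₂) ⊗ₜ[R'] x) = algebraMap D' D₂₀ x).symm
    haveI : Algebra.Etale (R₂ ⊗[R'] D') D₂₀ := Algebra.Etale.of_restrictScalars D' _ _
    exact RG11.smooth_of_smoothRelDim (RG11.smoothRelDim_of_etale hsm')
  obtain ⟨f, hf, hgeo⟩ := DevissBCHx.exists_shrink_image (RG11.geomIrred_of_geomIntegral hgi₀) p₂ y₀ hy₀p d hd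
  let D₂ := Localization.Away d
  obtain ⟨R₃, _, _, _⟩ : ∃ (R₃ : Type u) (_ : CommRing R₃) (_ : Algebra R₂ R₃), IsLocalization.Away f R₃ :=
    ⟨Localization.Away f, inferInstance, inferInstance, inferInstance⟩
  obtain ⟨D₃, _, _, _⟩ : ∃ (D₃ : Type u) (_ : CommRing D₃) (_ : Algebra D₂ D₃),
      IsLocalization.Away (algebraMap R₂ D₂ f) D₃ :=
    ⟨Localization.Away (algebraMap R₂ D₂ f), inferInstance, inferInstance, inferInstance⟩
  obtain ⟨S₃, _, _, _⟩ : ∃ (S₃ : Type u) (_ : CommRing S₃) (_ : Algebra S₂ S₃),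
      IsLocalization.Away (algebraMap R₂ S₂ f) S₃ :=
    ⟨Localization.Away (algebraMap R₂ S₂ f), inferInstance, inferInstance, inferInstance⟩
  letI : Algebra R' R₃ := ((algebraMap R₂ R₃).comp (algebraMap R' R₂)).toAlgebra
  haveI : IsScalarTower R' R₂ R₃ := IsScalarTower.of_algebraMap_eq fun _ => rfl
  letI : Algebra R R₃ := ((algebraMap R₂ R₃).comp (algebraMap R R₂)).toAlgebra
  haveI : IsScalarTower R R₂ R₃ := IsScalarTower.of_algebraMap_eq fun _ => rfl
  haveI : IsScalarTower R R' R₃ := IsScalarTower.of_algebraMap_eq fun _ => rfl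
  letI : Algebra D₂₀ D₃ := ((algebraMap D₂ D₃).comp (algebraMap D₂₀ D₂)).toAlgebra
  haveI : IsScalarTower D₂₀ D₂ D₃ := IsScalarTower.of_algebraMap_eq fun _ => rfl
  letI : Algebra R₂ D₃ := ((algebraMap D₂₀ D₃).comp (algebraMap R₂ D₂₀)).toAlgebra
  haveI : IsScalarTower R₂ D₂₀ D₃ := IsScalarTower.of_algebraMap_eq fun _ => rfl
  haveI : IsScalarTower R₂ D₂ D₃ := IsScalarTower.of_algebraMap_eq fun r => by
    rw [IsScalarTower.algebraMap_apply R₂ D₂₀ D₂]; rfl
  letI : Algebra D' D₃ := ((algebraMap D₂₀ D₃).comp (algebraMap D' D₂₀)).toAlgebra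
  haveI : IsScalarTower D' D₂₀ D₃ := IsScalarTower.of_algebraMap_eq fun _ => rfl
  letI : Algebra R' D₃ := ((algebraMap D₂₀ D₃).comp (algebraMap R' D₂₀)).toAlgebra
  haveI : IsScalarTower R' D₂₀ D₃ := IsScalarTower.of_algebraMap_eq fun _ => rfl
  haveI : IsScalarTower R' D' D₃ := IsScalarTower.of_algebraMap_eq fun r => by
    rw [IsScalarTower.algebraMap_apply R' D₂₀ D₃, IsScalarTower.algebraMap_apply R' D' D₂₀]; rfl
  haveI : IsScalarTower R' R₂ D₃ := IsScalarTower.of_algebraMap_eq fun r => by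
    rw [IsScalarTower.algebraMap_apply R' D₂₀ D₃, IsScalarTower.algebraMap_apply R' R₂ D₂₀]; rfl
  letI : Algebra D D₃ := ((algebraMap D₂₀ D₃).comp (algebraMap D D₂₀)).toAlgebra
  haveI : IsScalarTower D D₂₀ D₃ := IsScalarTower.of_algebraMap_eq fun _ => rfl
  haveI : IsScalarTower D D' D₃ := IsScalarTower.of_algebraMap_eq fun _ => rfl
  haveI : IsScalarTower D' D₂ D₃ := IsScalarTower.of_algebraMap_eq fun r => by
    rw [IsScalarTower.algebraMap_apply D' D₂₀ D₂]; rfl
  haveI : IsScalarTower D D₂ D₃ := IsScalarTower.of_algebraMap_eq fun r => by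
    rw [IsScalarTower.algebraMap_apply D D₂₀ D₂]; rfl
  letI : Algebra R D₃ := ((algebraMap D₂₀ D₃).comp (algebraMap R D₂₀)).toAlgebra
  haveI : IsScalarTower R D₂₀ D₃ := IsScalarTower.of_algebraMap_eq fun _ => rfl
  haveI : IsScalarTower R D D₃ := IsScalarTower.of_algebraMap_eq fun _ => rfl
  haveI : IsScalarTower R R₂ D₃ := IsScalarTower.of_algebraMap_eq fun r => by
    rw [IsScalarTower.algebraMap_apply R D₂₀ D₃, IsScalarTower.algebraMap_apply R R₂ D₂₀]; rfl
  letI : Algebra S S₃ := ((algebraMap S₂ S₃).comp (algebraMap S S₂)).toAlgebra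
  haveI : IsScalarTower S S₂ S₃ := IsScalarTower.of_algebraMap_eq fun _ => rfl
  letI : Algebra R₂ S₃ := ((algebraMap S₂ S₃).comp (algebraMap R₂ S₂)).toAlgebra
  haveI : IsScalarTower R₂ S₂ S₃ := IsScalarTower.of_algebraMap_eq fun _ => rfl
  letI : Algebra R S₃ := ((algebraMap S₂ S₃).comp (algebraMap R S₂)).toAlgebra
  haveI : IsScalarTower R S₂ S₃ := IsScalarTower.of_algebraMap_eq fun _ => rfl
  haveI : IsScalarTower R S S₃ := IsScalarTower.of_algebraMap_eq fun _ => rfl
  haveI : IsScalarTower R R₂ S₃ := IsScalarTower.of_algebraMap_eq fun r => by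
    rw [IsScalarTower.algebraMap_apply R S₂ S₃, IsScalarTower.algebraMap_apply R R₂ S₂]; rfl
  have hp' := DevissBCHx.isPrime_map_away (A' := R₃) f p₂ hf
  haveI := hp'.1
  let p₃ : Ideal R₃ := p₂.map (algebraMap R₂ R₃)
  have tpR₃ : RG11.TrivExt p₂ p₃ := RG11.TrivExt.of_localization f hf
  have hy₂ := DevissBCHx.isPrime_map_away (A' := D₂) d y₀ hd
  haveI := hy₂.1
  let y₂ : Ideal D₂ := y₀.map (algebraMap D₂₀ D₂)
  have hy₂p : y₂.comap (algebraMap R₂ D₂) = p₂ := by
    rw [IsScalarTower.algebraMap_eq R₂ D₂₀ D₂, ← Ideal.comap_comap, hy₂.2, hy₀p]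
  have hfy : algebraMap R₂ D₂ f ∉ y₂ := fun hm => hf (hy₂p.le hm)
  have hy₃ := DevissBCHx.isPrime_map_away (A' := D₃) (algebraMap R₂ D₂ f) y₂ hfy
  haveI := hy₃.1
  let y₃ : Ideal D₃ := y₂.map (algebraMap D₂ D₃)
  haveI : IsLocalization.Away (d * algebraMap R₂ D₂₀ f) D₃ := by
    haveI : IsLocalization.Away (algebraMap D₂₀ D₂ (algebraMap R₂ D₂₀ f)) D₃ := by
      rw [← IsScalarTower.algebraMap_apply]
      infer_instance
    exact .mul' D₂ _ d (algebraMap R₂ D₂₀ f)
  have ty₂ : RG11.TrivExt y₀ y₂ := RG11.TrivExt.of_localization d hd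
  have ty₂₃ : RG11.TrivExt y₂ y₃ := RG11.TrivExt.of_localization _ hfy
  have tyD : RG11.TrivExt y y₃ := ((ty.trans ty₀).trans ty₂).trans ty₂₃
  have tyD' : RG11.TrivExt y' y₃ := (ty₀.trans ty₂).trans ty₂₃
  have tpp : RG11.TrivExt p' p₃ := tp₂.trans tpR₃
  -- algebra structures over `R₃`
  have uD : IsUnit (algebraMap R₂ D₃ f) := by
    rw [IsScalarTower.algebraMap_apply R₂ D₂ D₃]; exact IsLocalization.Away.algebraMap_isUnit _
  have uS : IsUnit (algebraMap R₂ S₃ f) := by
    rw [IsScalarTower.algebraMap_apply R₂ S₂ S₃]; exact IsLocalization.Away.algebraMap_isUnit _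
  letI : Algebra R₃ D₃ := (IsLocalization.Away.lift f uD).toAlgebra
  haveI : IsScalarTower R₂ R₃ D₃ := IsScalarTower.of_algebraMap_eq fun r => (IsLocalization.Away.lift_eq f uD r).symm
  letI : Algebra R₃ S₃ := (IsLocalization.Away.lift f uS).toAlgebra
  haveI : IsScalarTower R₂ R₃ S₃ := IsScalarTower.of_algebraMap_eq fun r => (IsLocalization.Away.lift_eq f uS r).symm
  haveI : IsScalarTower R R₃ S₃ := IsScalarTower.of_algebraMap_eq fun r => by
    rw [IsScalarTower.algebraMap_apply R R₂ R₃, ← IsScalarTower.algebraMap_apply R₂ R₃ S₃,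
      ← IsScalarTower.algebraMap_apply R R₂ S₃]
  haveI : IsScalarTower R' R₃ D₃ := IsScalarTower.of_algebraMap_eq fun r => by
    rw [IsScalarTower.algebraMap_apply R' R₂ R₃, ← IsScalarTower.algebraMap_apply R₂ R₃ D₃,
      ← IsScalarTower.algebraMap_apply R' R₂ D₃]
  haveI : IsScalarTower R R₃ D₃ := IsScalarTower.of_algebraMap_eq fun r => by
    rw [IsScalarTower.algebraMap_apply R R₂ R₃, ← IsScalarTower.algebraMap_apply R₂ R₃ D₃,
      ← IsScalarTower.algebraMap_apply R R₂ D₃]
  have hy₃p : y₃.comap (algebraMap R₃ D₃) = p₃ := by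
    rw [← IsLocalization.map_under (Submonoid.powers f) R₃ (y₃.comap (algebraMap R₃ D₃)), Ideal.under_def,
      Ideal.comap_comap, ← IsScalarTower.algebraMap_eq, IsScalarTower.algebraMap_eq R₂ D₂ D₃, ← Ideal.comap_comap,
      hy₃.2, hy₂p]
  haveI hy₃L : y₃.LiesOver p₃ := ⟨hy₃p.symm⟩
  have hgi₃ : FlatCA.GeomIrredFibres R₃ D₃ := hgeo R₃ D₃
  -- the base change of `D'`
  let T := R₃ ⊗[R'] D'
  letI : Algebra D' T := Algebra.TensorProduct.rightAlgebra
  letI : Algebra T D₃ := (Algebra.TensorProduct.lift (Algebra.ofId R₃ D₃) (IsScalarTower.toAlgHom R' D' D₃)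
    fun _ _ => .all _ _).toRingHom.toAlgebra
  haveI : IsScalarTower R₃ T D₃ := IsScalarTower.of_algebraMap_eq fun r =>
    ((Algebra.TensorProduct.lift_tmul _ _ _ _ _).trans (by rw [map_one, mul_one]; rfl) :
      Algebra.TensorProduct.lift (Algebra.ofId R₃ D₃) (IsScalarTower.toAlgHom R' D' D₃)
        (fun _ _ => .all _ _) (r ⊗ₜ[R'] (1 : D')) = algebraMap R₃ D₃ r).symm
  haveI : IsScalarTower D' T D₃ := IsScalarTower.of_algebraMap_eq fun x =>
    ((Algebra.TensorProduct.lift_tmul _ _ _ _ _).trans (by rw [map_one, one_mul]; rfl) :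
      Algebra.TensorProduct.lift (Algebra.ofId R₃ D₃) (IsScalarTower.toAlgHom R' D' D₃)
        (fun _ _ => .all _ _) ((1 : R₃) ⊗ₜ[R'] x) = algebraMap D' D₃ x).symm
  have himm₃ := DevissBCHx.isOpenImmersion_shrink (R₂ := R₂) (D₂₀ := D₂₀) (R₃ := R₃) (D₃ := D₃) f
    (d * algebraMap R₂ D₂₀ f) himm
  haveI : Algebra.Etale R₂ R₃ := Algebra.Etale.of_isLocalizationAway f
  haveI : Algebra.Etale R' R₃ := Algebra.Etale.comp R' R₂ R₃
  haveI : Algebra.Etale R R₃ := Algebra.Etale.comp R R' R₃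
  haveI : Algebra.Etale D₂₀ D₃ := Algebra.Etale.of_isLocalizationAway (d * algebraMap R₂ D₂₀ f)
  haveI : Algebra.Etale D' D₃ := Algebra.Etale.comp D' D₂₀ D₃
  haveI : Algebra.Etale D D₃ := Algebra.Etale.comp D D' D₃
  haveI : Algebra.Etale S₂ S₃ := Algebra.Etale.of_isLocalizationAway (algebraMap R₂ S₂ f)
  haveI : Algebra.Etale S S₃ := Algebra.Etale.comp S S₂ S₃
  have hsm₃ : FlatCA.SmoothRelDim n R₃ D₃ := by
    haveI : Algebra.Etale D' T := Algebra.Etale.of_equiv (Algebra.TensorProduct.commRight R' D' R₃)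
    haveI : Algebra.Etale T D₃ := Algebra.Etale.of_restrictScalars D' _ _
    exact RG11.smoothRelDim_of_etale hsm'
  -- the closed subscheme
  let C₃ := D₃ ⊗[D] C
  letI : Algebra C C₃ := Algebra.TensorProduct.rightAlgebra
  haveI : IsScalarTower D C C₃ := IsScalarTower.of_algebraMap_eq fun c => (RG11.one_tmul_algebraMap c).symm
  obtain ⟨iSC, tSC, iS₃, tS₃, tR₃, hpoS⟩ := DevissBCHx.exists_shrink_closed (S := S) (C := C) (D := D) (R₂ := R₂)
    (S₂ := S₂) (D₂ := D₂) (R₃ := R₃) (S₃ := S₃) (D₃ := D₃) hsurj π hπ hπS hπR hπker f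
  letI := iSC
  letI := iS₃
  haveI := tSC
  haveI := tS₃
  haveI := tR₃
  haveI := hpoS
  -- the points
  obtain ⟨z₃, hz₃pr, hz₃y, hz₃z⟩ := RG11.exists_prime_over (T := C) tyD z hzy0
  haveI := hz₃pr
  haveI hz₃L : z₃.LiesOver z := ⟨hz₃z.symm⟩
  haveI hz₃Ly : z₃.LiesOver y₃ := ⟨hz₃y.symm⟩
  have huniq₃ : ∀ Q : Ideal C₃, Q.IsPrime → Q.comap (algebraMap D₃ C₃) = y₃ → Q = z₃ := fun Q hQ hQy => by
    haveI := hQ
    refine RG11.eq_of_comap_eq tyD Q z₃ hQy hz₃y ?_
    rw [hz₃z]
    refine huniq0 _ (Ideal.IsPrime.comap _) ?_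
    rw [← tyD.comap_eq, ← hQy, Ideal.comap_comap, Ideal.comap_comap]
    congr 1
    exact RingHom.ext fun w => RG11.one_tmul_algebraMap w
  let q₃ : Ideal S₃ := z₃.comap (algebraMap S₃ C₃)
  have tq : RG11.TrivExt q q₃ := by
    have t1 : RG11.TrivExt q z := RG11.TrivExt.of_surjective hsurj hzq0
    have t2 : RG11.TrivExt z z₃ := RG11.trivExt_incR tyD z hzy0 z₃ hz₃y hz₃z
    exact RG11.TrivExt.descend (t1.trans t2)
  haveI : y₃.LiesOver y' := tyD'.liesOver
  haveI : y'.LiesOver p' := inferInstance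
  -- the modules
  let N₃ := S₃ ⊗[S] N
  let G₃ := C₃ ⊗[C] G
  letI : Module R₃ N₃ := Module.compHom N₃ (algebraMap R₃ S₃)
  haveI : IsScalarTower R₃ S₃ N₃ := IsScalarTower.of_algebraMap_smul fun _ _ => rfl
  haveI : IsScalarTower S₃ C₃ G₃ := inferInstance
  have hgN : IsBaseChange S₃ (TensorProduct.mk S S₃ N 1) := TensorProduct.isBaseChange S N S₃
  have hgG : IsBaseChange C₃ (TensorProduct.mk C C₃ G 1) := TensorProduct.isBaseChange C G C₃
  obtain ⟨hdev, hloc⟩ := DevissBCHx.oneStep_etale h y hyp0 p₃ (tp.trans tpp).comap_eq q₃ z₃ y₃ rfl hz₃y hy₃p huniq₃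
    hsm₃ hgi₃ hgN hgG
  refine ⟨R₃, inferInstance, inferInstance, inferInstance, inferInstance, p₃, inferInstance, tpp.isEtaleNhd,
    T, inferInstance, inferInstance, inferInstance, inferInstance, inferInstance, inferInstance, inferInstance,
    D₃, inferInstance, inferInstance, inferInstance, inferInstance, inferInstance, inferInstance, inferInstance,
    inferInstance, inferInstance, inferInstance, inferInstance, y₃, inferInstance, inferInstance, hy₃L, himm₃,
    C₃, inferInstance, inferInstance, inferInstance, inferInstance, inferInstance, inferInstance, inferInstance,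
    inferInstance, z₃, hz₃pr, hz₃L, hz₃Ly, inferInstance,
    G₃, inferInstance, inferInstance, inferInstance, inferInstance, _, hgG,
    S₃, inferInstance, inferInstance, inferInstance, inferInstance, inferInstance, inferInstance, q₃, inferInstance,
    inferInstance, inferInstance, inferInstance, inferInstance, inferInstance, inferInstance, inferInstance,
    tq.isEtaleNhd, ⟨rfl⟩,
    N₃, inferInstance, inferInstance, inferInstance, inferInstance, inferInstance, inferInstance, _, hgN,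
    hdev, hloc, ?_, RG11.pureTrans_congr tpp tyD' hpure'⟩
  intro z₂ _ hz₂
  exact huniq₃ z₂ inferInstance hz₂.over.symm

end Groth.Agent.S12245
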