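import Groth.Statements.S12261
import Groth.Agent.HilbFin76.Tangent
import Groth.Agent.ArtFunLib.Hull.Criteria
import Groth.Agent.PnCoh.Chow.Proper

set_option autoImplicit false
universe u
open CategoryTheory CategoryTheory.Limits AlgebraicGeometry
open Deform

namespace Groth.Agent.S12261

/-- Let k be an algebraically closed field, Y a separated k-scheme of finite type and X ⊆ Y the closed
subscheme of a quasi-coherent ideal sheaf I₀; assume X is projective over k, i.e. X admits a closed
immersion over k into some projective space P^n_k. Then the local Hilbert functor of X in Y (closed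
subschemes of Y ×_k Spec A flat over Spec A restricting to X on the closed fibre, for A local
Artinian with residue field k) is prorepresentable by a complete local Noetherian k-algebra with
residue field k. (The published statement assumes only that the space of global sections of the
normal sheaf of X in Y is finite-dimensional, X projective being the named instance; this row states
the projective case.) -/
theorem result
    {k : Type u} [Field k] [IsAlgClosed k] (Y : Scheme.{u}) (y : Y ⟶ Spec (CommRingCat.of k))
    [LocallyOfFiniteType y] [IsSeparated y] [QuasiCompact y] (I₀ : Y.IdealSheafData)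
    (hproj : ∃ (n : ℕ) (c : I₀.subscheme ⟶ CohB1.ProjSpaceOver n (Spec (CommRingCat.of k))),
      IsClosedImmersion c ∧ c ≫ CohB1.ProjSpaceOver.toBase n (Spec (CommRingCat.of k)) = I₀.subschemeι ≫ y) :
    ArtFun.IsProrepresentable (ArtFun.localHilb Y y I₀) := by
  obtain ⟨n, c, hc, hcw⟩ := hproj
  haveI := hc
  letI : Y.Over (Spec (CommRingCat.of k)) := ⟨y⟩
  haveI : IsProper (CohB1.ProjSpaceOver.toBase n (Spec (CommRingCat.of k))) :=
    haveI := Groth.Agent.PnCoh.Chow.isProper_toSpec n (ULift.{u} ℤ)
    (inferInstance : IsProper (pullback.snd (CohB1.ProjSpace.toSpec n (ULift.{u} ℤ))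
      (specULiftZIsTerminal.from (Spec (CommRingCat.of k)))))
  have hY : IsProper (I₀.subschemeι ≫ y) := hcw ▸ (inferInstance : IsProper (c ≫ _))
  have h0 := Groth.Agent.ArtFunLib.HilbFib.h0 Y y I₀
  have hcmp := fun {B A A' A'' : ArtFun.Art k k} {p' : B ⟶ A'} {p'' : B ⟶ A''} {f' : A' ⟶ A} {f'' : A'' ⟶ A}
    (h : ArtFun.Art.IsFibreProd p' p'' f' f'') (hf : Function.Surjective f'') =>
    Groth.Agent.ArtFunLib.HilbFib.cmp_bijective Y y I₀ h hf
  obtain ⟨T⟩ := Groth.Agent.ArtFunLib.nonempty_tangentStr h0
    (fun B A' p' p'' h => hcmp h (ArtFun.Art.dual k k).res_surjective)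
  refine (Groth.Agent.ArtFunLib.Hull.isProrepresentable_iff_general (F := ArtFun.localHilb Y y I₀)).2
    ⟨⟨h0, fun B A A' A'' p' p'' f' f'' h hf => hcmp h hf⟩,
      Groth.Agent.HilbFin76.hfin y I₀ rfl hY, fun x₀ σ₁ σ₂ _ => ?_⟩
  exact Groth.Agent.ArtFunLib.hom_apply_ext fun a =>
    (σ₁.toAlgHom.commutes a).trans (σ₂.toAlgHom.commutes a).symm

end Groth.Agent.S12261
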