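import Groth.Statements.S12271
import Groth.Agent.HilbObs76.Image
import Groth.Agent.HilbObs76.Dim
import Groth.Agent.HilbPt76.Regular
import Groth.Agent.HilbPt76.HomConormal
import Groth.Agent.PnCoh.Chow.Proper

set_option autoImplicit false
universe u
open CategoryTheory CategoryTheory.Limits AlgebraicGeometry
attribute [local instance] HasDerivedCategory.standard
open Deform

set_option linter.style.haveILetI false
set_option backward.isDefEq.respectTransparency false

namespace Groth.Agent.S12271

/-- Let k be an algebraically closed field, Y a separated k-scheme of finite type and i : X → Y a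
regular closed immersion over k (its ideal is locally generated by a regular sequence) with X
projective over k; let N = Hom_{O_X}(I/I², O_X) be the normal sheaf (sheaf Hom of the conormal sheaf
of i, as a right adjoint, assumed to exist). Let R̄ be a complete local Noetherian k-algebra with
residue field k prorepresenting the local Hilbert functor of X in Y (closed subschemes of Y ×_k Spec
A flat over A restricting to X, X ⊆ Y given by the kernel ideal of i), i.e. carrying a universal
family — the formal universal deformation of X in Y. Then dim R̄ ≤ h⁰(X, N); h⁰(X, N) ≤ dim R̄ +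
h¹(X, N); and dim R̄ = h⁰(X, N) if and only if X is unobstructed in Y, i.e. the local Hilbert
functor takes every surjection B → A of local Artinian k-algebras with residue field k to a
surjective map. (The published statement writes the second bound as h⁰(N) − h¹(N) ≤ dim R̄.) -/
theorem result
    {k : Type u} [Field k] [IsAlgClosed k] (Y : Scheme.{u}) (y : Y ⟶ Spec (CommRingCat.of k))
    [LocallyOfFiniteType y] [IsSeparated y] [QuasiCompact y]
    (X : Scheme.{u}) [X.Over (Spec (CommRingCat.of k))] (i : X ⟶ Y) [IsClosedImmersion i] (hi : i ≫ y = X ↘ (Spec (CommRingCat.of k)))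
    (hreg : Mor2.IsRegularClosedImmersion i)
    (hproj : ∃ (n : ℕ) (c : X ⟶ CohB1.ProjSpaceOver n (Spec (CommRingCat.of k))),
      IsClosedImmersion c ∧ c ≫ CohB1.ProjSpaceOver.toBase n (Spec (CommRingCat.of k)) = X ↘ (Spec (CommRingCat.of k)))
    [DCoh.HasSheafHom (Omega.conormal i)]
    (R : ArtFun.ProRep (ArtFun.localHilb Y y i.ker)) :
    ringKrullDim R.ring.carrier ≤ ((Module.finrank k (Coh.HH X ((DCoh.sheafHom (Omega.conormal i)).obj (Coh.structureModule X)) 0) : ℕ∞) : WithBot ℕ∞) ∧
      ((Module.finrank k (Coh.HH X ((DCoh.sheafHom (Omega.conormal i)).obj (Coh.structureModule X)) 0) : ℕ∞) : WithBot ℕ∞) ≤ ringKrullDim R.ring.carrier + ((Module.finrank k (Coh.HH X ((DCoh.sheafHom (Omega.conormal i)).obj (Coh.structureModule X)) 1) : ℕ∞) : WithBot ℕ∞) ∧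
      (ringKrullDim R.ring.carrier = ((Module.finrank k (Coh.HH X ((DCoh.sheafHom (Omega.conormal i)).obj (Coh.structureModule X)) 0) : ℕ∞) : WithBot ℕ∞) ↔ ArtFun.IsSmoothFunctor (ArtFun.localHilb Y y i.ker)) := by
  obtain ⟨n, c, hc, hcw⟩ := hproj
  haveI := hc
  letI : Y.Over (Spec (CommRingCat.of k)) := ⟨y⟩
  haveI : LocallyOfFiniteType (Y ↘ Spec (CommRingCat.of k)) := ‹LocallyOfFiniteType y›
  haveI : IsProper (CohB1.ProjSpaceOver.toBase n (Spec (CommRingCat.of k))) :=
    haveI := Groth.Agent.PnCoh.Chow.isProper_toSpec n (ULift.{u} ℤ)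
    (inferInstance : IsProper (pullback.snd (CohB1.ProjSpace.toSpec n (ULift.{u} ℤ))
      (specULiftZIsTerminal.from (Spec (CommRingCat.of k)))))
  have hX : IsProper (X ↘ Spec (CommRingCat.of k)) := hcw ▸ (inferInstance : IsProper (c ≫ _))
  haveI := hX
  have hiY : i ≫ (Y ↘ Spec (CommRingCat.of k)) = X ↘ Spec (CommRingCat.of k) := hi
  obtain ⟨V, _, _, _, hT, hV⟩ := Groth.Agent.HilbObs76.exists_obsSpace i hiY hreg
  let η : ∀ A, ArtFun.HomSet R.ring.carrier R.ring.res A ≃ (ArtFun.localHilb Y y i.ker).obj A := fun A =>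
    Equiv.ofBijective _ (R.universal A)
  have hη : ∀ (A B : ArtFun.Art k k) (φ : A ⟶ B) (v : ArtFun.HomSet R.ring.carrier R.ring.res A),
      η B (ArtFun.HomSet.map φ v) = (ArtFun.localHilb Y y i.ker).map φ (η A v) := fun A B φ v =>
    R.family.natural φ v
  obtain ⟨hle, hge, hiff, -⟩ := Groth.Agent.HilbObs76.bounds_of_natural hT R.ring η hη
  rw [Groth.Agent.HilbPt76.finrank_cotangent_of_natural R.ring.res i.ker η hη,
    Groth.Agent.HilbPt76.finrank_hom_eq (k := k) i hiY] at hle hge hiff
  exact ⟨hle, hge.trans (add_le_add le_rfl (by exact_mod_cast hV)), hiff⟩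

end Groth.Agent.S12271
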