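import Groth.Statements.S1228
import Groth.Agent.RG11.PureProj
-- import your own Groth.Agent.* helpers here

set_option autoImplicit false
universe u
open FlatMor

namespace Groth.Agent.S1228

open TensorProduct in
/-- Ring form, S = Spec A and X = Spec B affine, test schemes affine: let B be a finitely presented
A-algebra, N a finitely presented B-module which is flat over A and pure relative to Spec A, and u a
surjective B-linear map from N to a B-module N'. Then the functor 'u becomes an isomorphism after
base change' is represented by a closed subscheme of Spec A: there is an ideal I of A such that for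
every A-algebra A' the base change A' ⊗_A N → A' ⊗_A N' is bijective if and only if IA' = 0. If N'
is finitely presented then I is finitely generated. -/
theorem result {A B : Type u} [CommRing A] [CommRing B] [Algebra A B] [Algebra.FinitePresentation A B]
    (N : Type u) [AddCommGroup N] [Module B N] [Module A N] [IsScalarTower A B N] [Module.FinitePresentation B N] [Module.Flat A N]
    (hpure : FlatCA.IsPure A B N)
    (N' : Type u) [AddCommGroup N'] [Module B N'] [Module A N'] [IsScalarTower A B N'] (u : N →ₗ[B] N') (hu : Function.Surjective u) :
    ∃ I : Ideal A, (∀ (A' : Type u) [CommRing A'] [Algebra A A'],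
        Function.Bijective ((u.restrictScalars A).baseChange A') ↔ I.map (algebraMap A A') = ⊥) ∧
      (Module.FinitePresentation B N' → I.FG) := by
  classical
  haveI : Module.Projective A N := RG11.projective_of_isPure N hpure
  obtain ⟨s, hs⟩ := Module.projective_def.1 (inferInstance : Module.Projective A N)
  let K := LinearMap.ker u
  let I : Ideal A := Ideal.span (⋃ k ∈ K, Set.range (s k))
  have hcoord : ∀ (k : N) (ψ : N →ₗ[A] A), ψ k ∈ Ideal.span (Set.range (s k)) := by
    intro k ψ
    have h : ψ k = (s k).sum fun m a => a * ψ m := by
      conv_lhs => rw [← hs k, Finsupp.linearCombination_apply, map_finsuppSum]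
      simp
    rw [h]
    exact Ideal.sum_mem _ fun m _ => Ideal.mul_mem_right _ _ (Ideal.subset_span ⟨m, rfl⟩)
  refine ⟨I, fun A' _ _ => ?_, fun hfp => ?_⟩
  · have hsurj : Function.Surjective ((u.restrictScalars A).baseChange A') :=
      LinearMap.lTensor_surjective A' hu
    have hzero : ∀ n : N, (1 : A') ⊗ₜ[A] n = 0 ↔ ∀ m, algebraMap A A' (s n m) = 0 := by
      intro n
      refine ⟨fun h m => ?_, fun h => ?_⟩
      · let ψ : N →ₗ[A] A := (Finsupp.lapply m) ∘ₗ s
        have h1 := congrArg (fun v => TensorProduct.rid A A' (ψ.lTensor A' v)) h
        simpa [ψ, Algebra.algebraMap_eq_smul_one] using h1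
      · conv_lhs => rw [← hs n, Finsupp.linearCombination_apply, Finsupp.sum, TensorProduct.tmul_sum]
        refine Finset.sum_eq_zero fun m _ => ?_
        rw [← TensorProduct.smul_tmul, ← Algebra.algebraMap_eq_smul_one]
        show algebraMap A A' (s n m) ⊗ₜ[A] _ = 0
        rw [h m, TensorProduct.zero_tmul]
    constructor
    · intro hb
      rw [Ideal.map_span, Ideal.span_eq_bot]
      rintro _ ⟨a, ha, rfl⟩
      simp only [Set.mem_iUnion, Set.mem_range] at ha
      obtain ⟨k, hk, m, rfl⟩ := ha
      refine (hzero k).1 (hb.1 ?_) m
      rw [map_zero, LinearMap.baseChange_tmul]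
      show (1 : A') ⊗ₜ[A] u k = 0
      rw [LinearMap.mem_ker.1 hk, TensorProduct.tmul_zero]
    · intro hI
      refine ⟨?_, hsurj⟩
      have hex := lTensor_exact A' (f := (LinearMap.ker (u.restrictScalars A)).subtype)
        (LinearMap.exact_subtype_ker_map _) (show Function.Surjective (u.restrictScalars A) from hu)
      have hz : ∀ w, ((LinearMap.ker (u.restrictScalars A)).subtype).lTensor A' w = 0 := by
        intro w
        induction w using TensorProduct.induction_on with
        | zero => exact map_zero _
        | add a b ha hb => rw [map_add, ha, hb, add_zero]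
        | tmul c k =>
          rw [LinearMap.lTensor_tmul, Submodule.subtype_apply]
          have h1 : (1 : A') ⊗ₜ[A] (k : N) = 0 := (hzero _).2 fun m => by
            rw [← Ideal.mem_bot, ← hI]
            refine Ideal.mem_map_of_mem _ (Ideal.subset_span ?_)
            simp only [Set.mem_iUnion, Set.mem_range]
            exact ⟨k, k.2, m, rfl⟩
          have h2 := congrArg (fun v => c • v) h1
          simpa [TensorProduct.smul_tmul'] using h2
      rw [injective_iff_map_eq_zero]
      intro z hzz
      obtain ⟨w, rfl⟩ := (hex z).1 hzz
      exact hz w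
  · haveI := hfp
    have hK : K.FG := Module.FinitePresentation.fg_ker u hu
    obtain ⟨S, hS⟩ := hK
    refine ⟨S.biUnion (fun k => (s k).support.image (s k)), le_antisymm ?_ ?_⟩
    · rw [Submodule.span_le]
      intro a ha
      simp only [Finset.coe_biUnion, Set.mem_iUnion, Finset.coe_image, Set.mem_image] at ha
      obtain ⟨k, hk, m, -, rfl⟩ := ha
      refine Ideal.subset_span ?_
      simp only [Set.mem_iUnion, Set.mem_range]
      exact ⟨k, hS.le (Submodule.subset_span hk), m, rfl⟩
    · rw [Submodule.span_le]
      intro a ha
      simp only [Set.mem_iUnion, Set.mem_range] at ha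
      obtain ⟨k, hk, m, rfl⟩ := ha
      have hgen : ∀ x ∈ Submodule.span B (↑S : Set N), ∀ ψ : N →ₗ[A] A,
          ψ x ∈ Ideal.span (↑(S.biUnion fun k => (s k).support.image (s k)) : Set A) := by
        intro x hx
        induction hx using Submodule.span_induction with
        | mem x hx =>
          intro ψ
          refine (Ideal.span_le.2 ?_) (hcoord x ψ)
          rintro _ ⟨m', rfl⟩
          by_cases hm : m' ∈ (s x).support
          · exact Ideal.subset_span (by
              simp only [Finset.coe_biUnion, Set.mem_iUnion, Finset.coe_image, Set.mem_image]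
              exact ⟨x, hx, m', hm, rfl⟩)
          · rw [SetLike.mem_coe, Finsupp.notMem_support_iff.1 hm]; exact zero_mem _
        | zero => intro ψ; rw [map_zero]; exact zero_mem _
        | add x y _ _ hx hy => intro ψ; rw [map_add]; exact add_mem (hx ψ) (hy ψ)
        | smul b x _ hx => intro ψ; exact hx (ψ ∘ₗ (Algebra.lsmul A A N b))
      exact hgen k (hS.ge hk) (Finsupp.lapply m ∘ₗ s)

end Groth.Agent.S1228
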