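import Groth.Statements.S12280
import Groth.Agent.HilbPt76.Regular
import Groth.Agent.HilbPt76.ExtImage
import Groth.Agent.HilbPt76.HomConormal
import Groth.Agent.HilbLci76.Main
import Groth.Agent.HilbLci76.Local
import Groth.Agent.HilbLci76.Conormal
import Groth.Agent.PnCoh.Chow.Proper

set_option autoImplicit false
universe u
open CategoryTheory CategoryTheory.Limits AlgebraicGeometry
open scoped TensorProduct
attribute [local instance] HasDerivedCategory.standard
open DefT

set_option linter.style.haveILetI false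
set_option backward.isDefEq.respectTransparency false

namespace Groth.Agent.S12280

/-- Let k be an algebraically closed field, X = P^n_k, and (H, Z) a Hilbert scheme of X over k: H is a
locally Noetherian k-scheme and Z ⊆ X ×_k H a closed subscheme, proper and flat over H, such that
every closed subscheme of X ×_k T proper and flat over a locally Noetherian k-scheme T is the
pull-back of Z along a unique k-morphism T → H. Let Y ⊆ X be a closed subscheme, regarded as a
k-scheme through X, with ideal sheaf I and normal sheaf N = Hom_{O_Y}(I/I², O_Y) (the sheaf Hom,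
assumed to exist as the right adjoint of tensoring with I/I²), and let y ∈ H be the k-point
classifying Y (the pull-back of Z along Spec k → H is Y). If Y → X is a regular closed immersion (Y
is a local complete intersection in X) and H^1(Y, N) = 0, then H is nonsingular at y: the local ring
O_{H,y} is regular, and its dimension equals dim_k H^0(Y, N). -/
theorem result
    {k : Type u} [Field k] [IsAlgClosed k] (n : ℕ)
    (H : Over (Spec (CommRingCat.of k))) (Z : FGA.HilbSet (CohB1.ProjSpaceOver.toBase n (Spec (CommRingCat.of k))) H) (hH : FGA.HilbRepresentedBy (CohB1.ProjSpaceOver.toBase n (Spec (CommRingCat.of k))) H Z)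
    (Y : Scheme.{u}) [Y.Over (Spec (CommRingCat.of k))] (i : Y ⟶ CohB1.ProjSpaceOver n (Spec (CommRingCat.of k))) [IsClosedImmersion i]
    (hi : i ≫ CohB1.ProjSpaceOver.toBase n (Spec (CommRingCat.of k)) = Y ↘ Spec (CommRingCat.of k))
    (hreg : Mor2.IsRegularClosedImmersion i)
    [DCoh.HasSheafHom (Omega.conormal i)]
    (y : Over.mk (𝟙 (Spec (CommRingCat.of k))) ⟶ H)
    (hy : FGA.hilbPull (CohB1.ProjSpaceOver.toBase n (Spec (CommRingCat.of k))) y Z.1 = i.ker.comap (pullback.fst (CohB1.ProjSpaceOver.toBase n (Spec (CommRingCat.of k))) (Over.mk (𝟙 (Spec (CommRingCat.of k)))).hom))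
    (h1 : Subsingleton (Coh.HH Y ((DCoh.sheafHom (Omega.conormal i)).obj (Coh.structureModule Y)) 1)) :
    IsRegularLocalRing (H.left.presheaf.stalk (y.left.base (IsLocalRing.closedPoint k))) ∧
      ringKrullDim (H.left.presheaf.stalk (y.left.base (IsLocalRing.closedPoint k))) = (Module.finrank k (Coh.HH Y ((DCoh.sheafHom (Omega.conormal i)).obj (Coh.structureModule Y)) 0) : WithBot ℕ∞) := by
  let X := CohB1.ProjSpaceOver n (Spec (CommRingCat.of k))
  letI : X.Over (Spec (CommRingCat.of k)) := ⟨CohB1.ProjSpaceOver.toBase n (Spec (CommRingCat.of k))⟩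
  haveI : IsProper (X ↘ Spec (CommRingCat.of k)) :=
    haveI := Groth.Agent.PnCoh.Chow.isProper_toSpec n (ULift.{u} ℤ)
    (inferInstance : IsProper (pullback.snd (CohB1.ProjSpace.toSpec n (ULift.{u} ℤ))
      (specULiftZIsTerminal.from (Spec (CommRingCat.of k)))))
  haveI : IsLocallyNoetherian X := LocallyOfFiniteType.isLocallyNoetherian (X ↘ Spec (CommRingCat.of k))
  let I₀ : X.IdealSheafData := i.ker
  letI : HasExt.{u} Y.Modules := IsGrothendieckAbelian.hasExt (SheafOfModules.{u} Y.ringCatSheaf)
  letI : HasExt.{u} I₀.subscheme.Modules := IsGrothendieckAbelian.hasExt (SheafOfModules.{u} I₀.subscheme.ringCatSheaf)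
  have hlf := Groth.Agent.HilbLci76.isFinLocFree_conormal i hreg
  have hExt : Subsingleton (Abelian.Ext.{u} (Omega.conormal i) (Coh.structureModule Y) 1) := by
    obtain ⟨e⟩ := Groth.Agent.PnDual.nonempty_ext_linearEquiv_HH (A := k) hlf (Coh.structureModule Y) 1
    haveI := Groth.Agent.AmpleVan.subsingleton_of_iso
      ((Groth.Agent.AmpleVan.sheafHomIso (Omega.conormal i)).app (Coh.structureModule Y)) 1 h1
    exact e.toEquiv.subsingleton
  have hs : ArtFun.IsSmoothFunctor (ArtFun.localHilb X (X ↘ Spec (CommRingCat.of k)) I₀) := by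
    refine Groth.Agent.HilbLci76.isSmooth X _ I₀ ?_ fun B A q hq IA z => ?_
    · exact Groth.Agent.HilbPt76.subsingleton_ext_image i hExt
    · obtain ⟨U, hU, hz, rs, hrs, hI⟩ := hreg.2 (Groth.Agent.SurfInt.kerIso i |>.inv z)
      refine ⟨⟨U, hU⟩, ?_, Groth.Agent.HilbLci76.exists_local_lift I₀ rs hrs.toIsWeaklyRegular hI q hq IA⟩
      show i.ker.subschemeι z ∈ U
      have e : (Groth.Agent.SurfInt.kerIso i).inv ≫ i = i.ker.subschemeι :=
        (Iso.inv_comp_eq _).2 (Groth.Agent.SurfInt.kerIso_hom i).symm
      rw [← e]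
      exact hz
  obtain ⟨hreg', hdim⟩ := Groth.Agent.HilbPt76.regular_of_smooth H Z hH I₀ y hy
    (IsLocalRing.closedPoint k) hs
  refine ⟨hreg', hdim.trans ?_⟩
  rw [Groth.Agent.HilbPt76.finrank_hom_eq (k := k) i hi]

end Groth.Agent.S12280
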