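import Groth.Statements.S12296
import Groth.Agent.HilbLci76.Main
import Groth.Agent.HilbLci76.Local
import Groth.Agent.HilbLci76.Conormal
import Groth.Agent.AmpleVan.LiftFibre
import Groth.Agent.Lib.PnDualSheafHom
-- import your own Groth.Agent.* helpers here

set_option autoImplicit false
universe u
open CategoryTheory CategoryTheory.Limits AlgebraicGeometry
open scoped TensorProduct
attribute [local instance] HasDerivedCategory.standard
open DefT

namespace Groth.Agent.S12296

/-- Let k be an algebraically closed field, X₀ a k-scheme of finite type and Y₀ ⊆ X₀ the closed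
subscheme cut out by a quasi-coherent ideal sheaf I, such that Y₀ → X₀ is a regular closed immersion
(I is locally generated by a regular sequence: Y₀ is a local complete intersection in X₀) and the
local rings of X₀ at the points of Y₀ are Cohen–Macaulay; let N₀ = Hom_{O_{Y₀}}(I/I², O_{Y₀}) be the
normal sheaf (the sheaf Hom, assumed to exist as the right adjoint of tensoring with I/I²), and
suppose H^1(Y₀, N₀) = 0. Then for every surjection C' → C of local Artinian k-algebras with residue
field k whose kernel is killed by multiplication by the maximal ideal of C', every closed subscheme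
of X₀ ×_k Spec C that is flat over Spec C and pulls back to Y₀ on the closed fibre is the pull-back
of a closed subscheme of X₀ ×_k Spec C' flat over Spec C': the local Hilbert functor of Y₀ in X₀ is
surjective along C' → C. (The published statements give local existence of extensions for complete
intersections in a Cohen–Macaulay local ring and then an obstruction in H^1(Y₀, N₀ ⊗ J) for an
arbitrary deformation of the ambient scheme over local Artin rings; this row states the consequence
when that group vanishes, inside the trivial ambient deformation over local Artinian k-algebras.) -/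
theorem result
    {k : Type u} [Field k] [IsAlgClosed k] (X₀ : Scheme.{u}) [X₀.Over (Spec (CommRingCat.of k))]
    [LocallyOfFiniteType (X₀ ↘ Spec (CommRingCat.of k))] [QuasiCompact (X₀ ↘ Spec (CommRingCat.of k))]
    (I₀ : X₀.IdealSheafData) (hreg : Mor2.IsRegularClosedImmersion I₀.subschemeι)
    (hCM : ∀ y : I₀.subscheme, LocCoh.IsCohenMacaulayLocalRing (X₀.presheaf.stalk (I₀.subschemeι.base y)))
    [DCoh.HasSheafHom (Omega.conormal I₀.subschemeι)]
    (h1 : Subsingleton (Coh.HH I₀.subscheme ((DCoh.sheafHom (Omega.conormal I₀.subschemeι)).obj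
      (Coh.structureModule I₀.subscheme)) 1))
    {C' C : ArtFun.Art k k} (p : C' ⟶ C) (hp : ArtFun.Art.IsSemismallExt p) :
    Function.Surjective ((ArtFun.localHilb X₀ (X₀ ↘ Spec (CommRingCat.of k)) I₀).map p) := by
  haveI : IsLocallyNoetherian X₀ := LocallyOfFiniteType.isLocallyNoetherian (X₀ ↘ Spec (CommRingCat.of k))
  letI : HasExt.{u} I₀.subscheme.Modules := IsGrothendieckAbelian.hasExt (SheafOfModules.{u} I₀.subscheme.ringCatSheaf)
  letI : I₀.subscheme.Over (Spec (CommRingCat.of k)) := ⟨I₀.subschemeι ≫ (X₀ ↘ Spec (CommRingCat.of k))⟩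
  have hM : Omega.conormal I₀.subschemeι =
      (Scheme.Modules.pullback I₀.subschemeι).obj (ClSub.idealMod I₀) := by
    show (Scheme.Modules.pullback I₀.subschemeι).obj (ClSub.idealMod I₀.subschemeι.ker) = _
    rw [Scheme.IdealSheafData.ker_subschemeι]
  have hlf := Groth.Agent.HilbLci76.isFinLocFree_conormal I₀.subschemeι hreg
  have h : Subsingleton (Abelian.Ext.{u} (Omega.conormal I₀.subschemeι) (Coh.structureModule I₀.subscheme) 1) := by
    obtain ⟨e⟩ := Groth.Agent.PnDual.nonempty_ext_linearEquiv_HH (A := k) hlf (Coh.structureModule I₀.subscheme) 1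
    haveI := Groth.Agent.AmpleVan.subsingleton_of_iso
      ((Groth.Agent.AmpleVan.sheafHomIso (Omega.conormal I₀.subschemeι)).app (Coh.structureModule I₀.subscheme)) 1 h1
    exact e.toEquiv.subsingleton
  rw [hM] at h
  refine Groth.Agent.HilbLci76.isSmooth X₀ _ I₀ h (fun B A q hq IA y => ?_) p hp.1
  obtain ⟨U, hU, hy, rs, hrs, hI⟩ := hreg.2 y
  rw [Scheme.IdealSheafData.ker_subschemeι] at hI
  exact ⟨⟨U, hU⟩, hy, Groth.Agent.HilbLci76.exists_local_lift I₀ rs hrs.toIsWeaklyRegular hI q hq IA⟩

end Groth.Agent.S12296
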