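import Groth.Statements.S1230
import Groth.Agent.RG11.GlobalUI
-- import your own Groth.Agent.* helpers here

set_option autoImplicit false
universe u
open FlatMor

namespace Groth.Agent.S1230

open TensorProduct in
/-- Ring form, X = Spec B, X' = Spec B' affine: let B be a finite type A-algebra, N a finite B-module
flat over A, and B' a flat B-algebra such that every prime q of B, over p in A, whose extension to
the fibre ring over p is an associated prime of the fibre module of N is the contraction of a prime
of B'. Then the canonical map N → B' ⊗_B N is injective and remains injective after tensoring over A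
with any A-algebra. -/
theorem result {A B B' : Type u} [CommRing A] [CommRing B] [CommRing B'] [Algebra A B] [Algebra B B'] [Algebra A B'] [IsScalarTower A B B']
    [Algebra.FiniteType A B] [Module.Flat B B']
    (N : Type u) [AddCommGroup N] [Module B N] [Module A N] [IsScalarTower A B N] [Module.Finite B N] [Module.Flat A N]
    (h : ∀ (p : Ideal A) (q : Ideal B) [p.IsPrime] [q.IsPrime] [q.LiesOver p],
      FlatCA.fiberIdeal p q ∈ associatedPrimes (p.Fiber B) (FlatCA.fiberMod p B N) →
      ∃ q' : Ideal B', q'.IsPrime ∧ q'.comap (algebraMap B B') = q) :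
    ∀ (A' : Type u) [CommRing A'] [Algebra A A'],
      Function.Injective (((TensorProduct.mk B B' N 1).restrictScalars A).baseChange A') := by
  intro A' _ _
  haveI : Module.Flat A (B' ⊗[B] N) :=
    Groth.Agent.FlatFibres.flat_of_isBaseChange (R := A) (TensorProduct.mk B B' N 1) (TensorProduct.isBaseChange B N B')
  suffices H : FlatCA.UnivInj A ((TensorProduct.mk B B' N 1).restrictScalars A) from H A'
  refine (Groth.Agent.RG11.univInj_iff _).2 fun Q _ _ => (injective_iff_map_eq_zero _).2 fun z hz => ?_
  by_contra hne
  let J : Ideal B := (Submodule.span B {z}).annihilator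
  have hJ : J ≠ ⊤ := fun h0 => hne (by
    have h1 : (1 : B) ∈ J := by rw [h0]; exact Submodule.mem_top
    simpa using (Submodule.mem_annihilator_span_singleton z (1 : B)).1 h1)
  obtain ⟨q, hq, hJq⟩ := Ideal.exists_le_maximal J hJ
  haveI := hq.isPrime
  haveI : q.LiesOver (q.under A) := ⟨rfl⟩
  obtain ⟨s, hs, hsz⟩ := Groth.Agent.RG11.exists_smul_eq_zero_of_linear_map (R := A) N (q.under A) q
    (TensorProduct.mk B B' N 1)
    (fun n hn => Groth.Agent.RG11.exists_smul_mem_of_one_tmul_mem N (q.under A) q (fun t _ _ ht => h _ t ht) n hn) Q z hz
  exact hs (hJq ((Submodule.mem_annihilator_span_singleton z s).2 hsz))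

end Groth.Agent.S1230
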