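import Groth.Statements.S12314
-- import your own Groth.Agent.* helpers here

set_option autoImplicit false
universe u
open CategoryTheory CategoryTheory.Limits AlgebraicGeometry MonObj
open SGA7

namespace Groth.Agent.S12314

/-- Let R be a henselian discrete valuation ring with fraction field K and residue field k, Ω a
separable closure of K, W a valuation subring of Ω lying over R, A and C abelian varieties over K
(proper, geometrically integral commutative group schemes), and u : C → A an isogeny, in the form:
there are a homomorphism v : A → C and an integer n > 0 with v ∘ u = n and u ∘ v = n. Let ℓ be a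
prime invertible in k and consider the ℓ-adic Tate modules of the Ω-points of C and A; call an
element fixed when all its components are fixed by the inertia group at W (for such ℓ the fixed part
is the inertia invariants). Then T_ℓ(u) maps the fixed part of T_ℓ(C) into the fixed part of T_ℓ(A)
and induces an isogeny between them: T_ℓ(u) is injective, and n times every fixed element of T_ℓ(A)
is the image of a fixed element of T_ℓ(C). (The case of a prime equal to the residue characteristic,
where the fixed part is defined through the Néron model, is not stated.) -/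
theorem result (R K Ω : Type u) [CommRing R] [IsDomain R] [IsDiscreteValuationRing R] [HenselianLocalRing R]
    [Field K] [Algebra R K] [IsFractionRing R K] [Field Ω] [Algebra K Ω] [IsSepClosure K Ω]
    (W : ValuationSubring Ω) (hW : SGA7.LiesOver K R W)
    (A C : Over (Spec (CommRingCat.of K))) [GrpObj A] [IsCommMonObj A] [IsProper A.hom] [GeometricallyIntegral A.hom]
    [GrpObj C] [IsCommMonObj C] [IsProper C.hom] [GeometricallyIntegral C.hom]
    (u : C ⟶ A) [IsMonHom u] (v : A ⟶ C) [IsMonHom v] (n : ℕ) (hn : 0 < n)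
    (huv : u ≫ v = (𝟙 C) ^ n) (hvu : v ≫ u = (𝟙 A) ^ n)
    (l : ℕ) (hl : l.Prime) (hlp : (l : IsLocalRing.ResidueField R) ≠ 0) :
    (∀ z : AbDual.TateMod C l (SGA7.pt Ω),
      (∀ (τ : Ω ≃ₐ[K] Ω) (m : ℕ), SGA7.IsInertia W τ →
        SGA7.galAct τ (AbDual.TateMod.component C l (SGA7.pt Ω) m z).toMul =
          (AbDual.TateMod.component C l (SGA7.pt Ω) m z).toMul) →
      (∀ (τ : Ω ≃ₐ[K] Ω) (m : ℕ), SGA7.IsInertia W τ →
        SGA7.galAct τ (AbDual.TateMod.component A l (SGA7.pt Ω) m (AbDual.tateMap u z)).toMul =
          (AbDual.TateMod.component A l (SGA7.pt Ω) m (AbDual.tateMap u z)).toMul)) ∧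
    (∀ z : AbDual.TateMod C l (SGA7.pt Ω), AbDual.tateMap (l := l) (T := SGA7.pt Ω) u z = 0 → z = 0) ∧
    (∀ y : AbDual.TateMod A l (SGA7.pt Ω),
      (∀ (τ : Ω ≃ₐ[K] Ω) (m : ℕ), SGA7.IsInertia W τ →
        SGA7.galAct τ (AbDual.TateMod.component A l (SGA7.pt Ω) m y).toMul =
          (AbDual.TateMod.component A l (SGA7.pt Ω) m y).toMul) →
      ∃ z : AbDual.TateMod C l (SGA7.pt Ω),
        (∀ (τ : Ω ≃ₐ[K] Ω) (m : ℕ), SGA7.IsInertia W τ →
        SGA7.galAct τ (AbDual.TateMod.component C l (SGA7.pt Ω) m z).toMul =
          (AbDual.TateMod.component C l (SGA7.pt Ω) m z).toMul) ∧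
        AbDual.tateMap (l := l) (T := SGA7.pt Ω) u z = n • y) := by
  have comp_id : ∀ {D : Over (Spec (CommRingCat.of K))} [GrpObj D] (w : pt Ω ⟶ D) (k : ℕ), w ≫ (𝟙 D) ^ k = w ^ k := by
    intro D _ w k
    rw [MonObj.comp_pow, Category.comp_id]
  refine ⟨fun z hz τ m hτ => ?_, fun z hz => ?_, fun y hy => ⟨AbDual.tateMap v y, fun τ m hτ => ?_, ?_⟩⟩
  · rw [AbDual.tateMap_component]
    simp only [SGA7.galAct]
    rw [← Category.assoc]
    exact congrArg (· ≫ u) (hz τ m hτ)
  · have h1 : ∀ m, n • (AbDual.TateMod.component C l (pt Ω) m z) = 0 := by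
      intro m
      have h2 := congrArg (fun w => (AbDual.TateMod.component A l (pt Ω) m w).toMul ≫ v) hz
      simp only [map_zero, AbDual.tateMap_component, Category.assoc, huv, comp_id] at h2
      exact congrArg Additive.ofMul (h2.trans (MonObj.one_comp v))
    obtain ⟨a, n', hn', rfl⟩ := Nat.exists_eq_pow_mul_and_not_dvd hn.ne' l hl.ne_one
    refine AbDual.TateMod.ext fun m => ?_
    show AbDual.TateMod.component C l (pt Ω) m z = 0
    have hrec : ∀ (b k : ℕ), (l ^ b) • AbDual.TateMod.component C l (pt Ω) (k + b) z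
        = AbDual.TateMod.component C l (pt Ω) k z := by
      intro b
      induction b with
      | zero => intro k; simp
      | succ b ih =>
        intro k
        rw [pow_succ, mul_nsmul', show k + (b + 1) = (k + b) + 1 by omega]
        show (l ^ b) • (l • (z : ℕ → Additive (pt Ω ⟶ C)) (k + b + 1)) = _
        rw [AbDual.TateMod.compat]
        exact ih k
    have hn'z : n' • AbDual.TateMod.component C l (pt Ω) m z = 0 := by
      rw [← hrec a m, ← mul_nsmul', mul_comm]
      exact h1 (m + a)
    have hlz : (l ^ m) • AbDual.TateMod.component C l (pt Ω) m z = 0 := AbDual.TateMod.torsion z m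
    have hcop : Nat.Coprime n' (l ^ m) := Nat.Coprime.pow_right _ ((hl.coprime_iff_not_dvd.2 hn').symm)
    have h3 := addOrderOf_dvd_of_nsmul_eq_zero hn'z
    have h4 := addOrderOf_dvd_of_nsmul_eq_zero hlz
    exact AddMonoid.addOrderOf_eq_one_iff.1 (Nat.dvd_one.1 (hcop ▸ Nat.dvd_gcd h3 h4))
  · rw [AbDual.tateMap_component]
    simp only [SGA7.galAct]
    rw [← Category.assoc]
    exact congrArg (· ≫ v) (hy τ m hτ)
  · refine AbDual.TateMod.ext fun m => ?_
    show Additive.ofMul (((AbDual.TateMod.component A l (pt Ω) m y).toMul ≫ v) ≫ u) =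
      AbDual.TateMod.component A l (pt Ω) m (n • y)
    rw [map_nsmul, Category.assoc, hvu, comp_id]
    rfl

end Groth.Agent.S12314
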