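import Groth.Statements.S1238
import Groth.Agent.FlatFibres.FlatWeakAssRel

set_option autoImplicit false
universe u
open FlatMor

namespace Groth.Agent.S1238

/-- Ring form, X = Spec S, S = Spec R affine: let R be a ring with finitely many weakly associated
primes and S a finite type R-algebra. Then the set of primes q of S with S_q flat over R is open in
Spec S, and every such q has a basic open neighbourhood D(g) with S_g flat and of finite
presentation over R. -/
theorem result {R S : Type u} [CommRing R] [CommRing S] [Algebra R S] [Algebra.FiniteType R S]
    (hR : (FlatCA.weakAss R R).Finite) :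
    IsOpen {q : PrimeSpectrum S | Module.Flat R (Localization.AtPrime q.asIdeal)} ∧
    ∀ (q : Ideal S) [q.IsPrime], Module.Flat R (Localization.AtPrime q) → ∃ g : S, g ∉ q ∧
      Algebra.FinitePresentation R (Localization.Away g) ∧ Module.Flat R (Localization.Away g) := by
  obtain ⟨hop, hfp⟩ := Groth.Agent.FlatFibres.FlatWeakAss.flatLocus_and_relFP (S := S) hR S
  have key : ∀ (T : Submonoid S), Module.Flat R (LocalizedModule T S) ↔ Module.Flat R (Localization T) := fun T =>
    Module.Flat.equiv_iff ((IsLocalizedModule.iso T (Algebra.linearMap S (Localization T))).restrictScalars R)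
  refine ⟨?_, fun q _ hq => ?_⟩
  · convert hop using 1
    ext q
    exact (key q.asIdeal.primeCompl).symm
  obtain ⟨g, hg, hfl, n, φ, hφ, hM⟩ := hfp q ((key q.primeCompl).mpr hq)
  refine ⟨g, hg, ?_, (key _).mp hfl⟩
  letI : Module (MvPolynomial (Fin n) R) (LocalizedModule (Submonoid.powers g) S) := Module.compHom _ φ.toRingHom
  let e := IsLocalizedModule.iso (Submonoid.powers g) (Algebra.linearMap S (Localization.Away g))
  let e' := LinearEquiv.extendScalarsOfIsLocalization (Submonoid.powers g) (Localization.Away g) e
  letI : Algebra (MvPolynomial (Fin n) R) (Localization.Away g) := φ.toRingHom.toAlgebra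
  haveI := hM
  let e'' : LocalizedModule (Submonoid.powers g) S ≃ₗ[MvPolynomial (Fin n) R] Localization.Away g :=
    { e'.toAddEquiv with map_smul' := fun a x => e'.map_smul (φ a) x }
  haveI : Module.FinitePresentation (MvPolynomial (Fin n) R) (Localization.Away g) :=
    Module.FinitePresentation.of_equiv e''
  exact Algebra.FinitePresentation.of_surjective (f := φ) hφ
    (Module.FinitePresentation.fg_ker (Algebra.linearMap (MvPolynomial (Fin n) R) (Localization.Away g)) hφ)

end Groth.Agent.S1238
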