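import Groth.Statements.S12422
import Groth.Agent.CIntLib.SmoothOmega
import Groth.Agent.CIntLib.LocalDimIrred
import Groth.Agent.SmoothReg.Scheme

set_option autoImplicit false
universe u
open CategoryTheory CategoryTheory.Limits AlgebraicGeometry
open NonsingVar

namespace Groth.Agent.S12422

/-- Let k be an algebraically closed field, X an irreducible scheme which is separated and of finite
type over k, n = dim X, and (Ω, d) a sheaf of relative differentials of X over k, i.e. d : O_X → Ω a
universal k-derivation. Then Ω is locally free of rank n if and only if every local ring of X is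
regular (X is a nonsingular variety over k). -/
theorem result (k : Type u) [Field k] [IsAlgClosed k] (n : ℕ)
    (X : Scheme.{u}) [X.Over (Spec (CommRingCat.of k))] [IrreducibleSpace ↥X]
    [IsSeparated (X ↘ (Spec (CommRingCat.of k)))] [LocallyOfFiniteType (X ↘ (Spec (CommRingCat.of k)))]
    [QuasiCompact (X ↘ (Spec (CommRingCat.of k)))]
    (hn : topologicalKrullDim ↥X = (n : WithBot ℕ∞))
    (Ω : X.Modules) (d : OmegaSh.Der (X ↘ (Spec (CommRingCat.of k))) Ω) (hd : OmegaSh.IsUniversal d) :
    FlatMod.IsFinLocFreeOfRank n Ω ↔ ∀ x : ↥X, IsRegularLocalRing ↑(X.presheaf.stalk x) := by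
  haveI : LocallyOfFinitePresentation (X ↘ (Spec (CommRingCat.of k))) :=
    LocallyOfFinitePresentation.iff_locallyOfFiniteType.2 inferInstance
  have hdim : ∀ x : X, FlatMor.fibreDimAt (X ↘ (Spec (CommRingCat.of k))) x = (n : WithBot ℕ∞) := fun x =>
    (Groth.Agent.CIntLib.fibreDimAt_eq_localDim k _ x).trans
      (Groth.Agent.CIntLib.localDim_eq_of_irreducible k X n hn x)
  constructor
  · intro h x
    obtain ⟨U, hx, i⟩ := h x
    refine Groth.Agent.SmoothReg.isRegularLocalRing_stalk_of_mem_smoothLocus (X ↘ (Spec (CommRingCat.of k)))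
      ((Groth.Agent.CIntLib.mem_smoothLocus_iff_free_omega _ Ω d hd x).2 ⟨?_, U, n, hx, i, hdim x⟩)
    haveI : Flat (X ↘ (Spec (CommRingCat.of k))) := inferInstance
    exact Flat.stalkMap _ x
  · intro h x
    obtain ⟨-, U, m, hx, i, hm⟩ := (Groth.Agent.CIntLib.mem_smoothLocus_iff_free_omega _ Ω d hd x).1
      ((Groth.Agent.SmoothReg.mem_smoothLocus_iff_isRegularLocalRing _ x).2 (h x))
    rw [hdim x] at hm
    obtain rfl : n = m := by exact_mod_cast hm
    exact ⟨U, hx, i⟩

end Groth.Agent.S12422
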