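import Groth.Statements.S12428
import Groth.Agent.Obs28.Comp

set_option autoImplicit false
set_option linter.style.haveILetI false
universe u
open CategoryTheory MonoidalCategory CartesianMonoidalCategory MonObj GrpObj AlgebraicGeometry
open scoped TensorProduct
open AGF

namespace Groth.Agent.S12428

/-- Let k be an algebraically closed field, G a linear algebraic group over k (an affine smooth group
scheme over k), i : H → G a closed subgroup (smooth closed subgroup scheme), j : G° → G the identity
component (a connected open subgroup scheme), and K = H ∩ G° the intersection subgroup scheme, with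
homomorphisms a : K → H and b : K → G° whose underlying square of schemes is a pullback of i and j.
Then H is observable in G if and only if K is observable in G°. -/
theorem result (k : Type u) [Field k] [IsAlgClosed k]
    (G : Over (Spec (CommRingCat.of k))) [GrpObj G] [IsAffine G.left] [Smooth G.hom]
    (H : Over (Spec (CommRingCat.of k))) [GrpObj H] [Smooth H.hom] (i : H ⟶ G) [IsMonHom i]
    [IsClosedImmersion i.left]
    (G₀ : Over (Spec (CommRingCat.of k))) [GrpObj G₀] [ConnectedSpace G₀.left] (j : G₀ ⟶ G) [IsMonHom j]
    [IsOpenImmersion j.left]
    (K : Over (Spec (CommRingCat.of k))) [GrpObj K] (a : K ⟶ H) [IsMonHom a] (b : K ⟶ G₀) [IsMonHom b]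
    (hK : IsPullback a.left b.left i.left j.left) :
    AGF.IsObservableIn k i ↔ AGF.IsObservableIn k b := by
  haveI := Obs28.isAffine_of_closed i
  haveI : IsOpenImmersion a.left := MorphismProperty.of_isPullback hK.flip inferInstance
  haveI : IsClosedImmersion b.left := MorphismProperty.of_isPullback hK inferInstance
  haveI : Smooth G₀.hom := by rw [← Over.w j]; infer_instance
  haveI : Smooth K.hom := by rw [← Over.w a]; infer_instance
  haveI := Obs28.isClosedImmersion_of_open j
  haveI := Obs28.isAffine_of_closed j
  haveI := Obs28.isAffine_of_closed b
  rw [← Obs28.observable_open_sub_iff a i, ← Obs28.observable_in_open_iff b j]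
  simp only [show a ≫ i = b ≫ j from Over.OverMorphism.ext hK.w]

end Groth.Agent.S12428
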