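import Groth.Statements.S12436
import Groth.Agent.SurfInt.Positivity
import Groth.Agent.SurfInt.AffineBoundary
import Groth.Agent.SurfInt.Curve
import Groth.Agent.SurfInt.InterCM
import Groth.Agent.LC.GorRows
import Groth.Agent.LC.GorHull
import Groth.Agent.Lib.CurvePoint
import Groth.Agent.CurveCohLib.RegularCurve
-- import your own Groth.Agent.* helpers here

set_option autoImplicit false
set_option backward.isDefEq.respectTransparency false
set_option backward.isDefEq.respectTransparency.types false
set_option linter.style.haveILetI false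
attribute [-instance] CategoryTheory.catToReflQuiver
universe u
open CategoryTheory CategoryTheory.Limits AlgebraicGeometry
open Surf

namespace Groth.Agent.S12436

/-- Let π : X → C be a ruled surface over an algebraically closed field k — X a surface (integral, of
dimension two, all local rings regular, with a closed immersion into some P^n_k over k), C a curve
(integral, proper over k, of dimension one, all local rings regular), π a surjective k-morphism with
every closed fibre isomorphic to P^1_k, σ a section — let C₀ = σ(C) with ideal sheaf ker σ, and let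
f = π⁻¹(y) be the fibre over a closed point y, with ideal m_y·O_X. Then C₀.f = 1 and f² = 0; in
terms of the intersection number (L·M) = χ(O) − χ(L) − χ(M) + χ(L ⊗ M) of the ideal sheaves,
(I_{C₀}·I_f) = 1 and (I_f·I_f) = 0. -/
theorem result (k : Type u) [Field k] [IsAlgClosed k] (X : Scheme.{u}) [X.Over (Spec (CommRingCat.of k))]
    [IsIntegral X] (hdim : topologicalKrullDim X = 2) (hreg : ∀ x : X, IsRegularLocalRing (X.presheaf.stalk x))
    (hproj : ∃ (n : ℕ) (ι : X ⟶ CohB1.ProjSpace n k), IsClosedImmersion ι ∧ ι ≫ CohB1.ProjSpace.toSpec n k = (X ↘ (Spec (CommRingCat.of k))))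
    (C : Scheme.{u}) [C.Over (Spec (CommRingCat.of k))]
    [IsIntegral C] [IsProper (C ↘ (Spec (CommRingCat.of k)))] (hdimC : topologicalKrullDim C = 1)
    (hregC : ∀ x : C, IsRegularLocalRing (C.presheaf.stalk x))
    (π : X ⟶ C) (hπ : π ≫ (C ↘ (Spec (CommRingCat.of k))) = (X ↘ (Spec (CommRingCat.of k)))) (hsurj : Function.Surjective π)
    (hfib : ∀ y : C, IsClosed ({y} : Set C) → Nonempty (pullback π (C.fromSpecResidueField y) ≅ CohB1.ProjSpace 1 k))
    (σ : C ⟶ X) (hσ : σ ≫ π = 𝟙 C)
    [HasInjectiveResolutions X.Modules] (y : C) (hy : IsClosed ({y} : Set C)) :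
    FGA.intNum k X 2 ![ClSub.idealMod σ.ker, (ClSub.idealMod ((Scheme.IdealSheafData.vanishingIdeal ⟨{y}, hy⟩).comap π))] (Coh.structureModule X) = 1 ∧
      FGA.intNum k X 2 ![(ClSub.idealMod ((Scheme.IdealSheafData.vanishingIdeal ⟨{y}, hy⟩).comap π)), (ClSub.idealMod ((Scheme.IdealSheafData.vanishingIdeal ⟨{y}, hy⟩).comap π))] (Coh.structureModule X) = 0 := by
  haveI : IsProper (X ↘ Spec (CommRingCat.of k)) :=
    SurfInt.isProper_of_projective k hproj.choose_spec.choose_spec.1 hproj.choose_spec.choose_spec.2
  haveI := CurveCohLib.isNoetherian_of_proper (k := k) (X := X)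
  haveI := CurveCohLib.isNoetherian_of_proper (k := k) (X := C)
  haveI := CurveCohLib.RegularCurve.smooth_of_regular k (X := C) fun x _ => hregC x
  haveI : C.IsSeparated := SurfInt.isSeparated_of_proper k
  haveI := CurveCohLib.RegularCurve.smooth_of_regular k (X := X) fun x _ => hreg x
  haveI : IsProper π := by
    haveI : IsProper (π ≫ (C ↘ (Spec (CommRingCat.of k)))) := by rw [hπ]; infer_instance
    exact IsProper.of_comp π (C ↘ (Spec (CommRingCat.of k)))
  haveI : IsClosedImmersion σ := by
    haveI : IsClosedImmersion (σ ≫ π) := by rw [hσ]; infer_instance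
    exact IsClosedImmersion.of_comp σ π
  have hd : topologicalKrullDim X ≤ (2 : ℕ) := hdim.le
  set Iy : C.IdealSheafData := Scheme.IdealSheafData.vanishingIdeal ⟨{y}, hy⟩
  set IF := Iy.comap π
  have hIy : BlowUp.IsEffCartierIdeal Iy := (S8914.result Iy).1 (CurvePoint.isInvertible_ptMod y hy k hdimC)
  have hygen : y ≠ genericPoint C := fun h => by
    have h1 : topologicalKrullDim ↥(closure ({genericPoint C} : Set C)) = 1 := by
      rw [genericPoint_closure]
      exact ((Homeomorph.Set.univ C).isHomeomorph.topologicalKrullDim_eq).trans hdimC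
    rw [← h, hy.closure_eq] at h1
    exact absurd (h1.ge.trans (SurfInt.dim_singleton_le_zero y)) (by decide)
  have hπgen : π (genericPoint X) = genericPoint C := by
    refine ((genericPoint_spec (C : Type u)).specializes (Set.mem_univ _)).antisymm ?_ |>.eq.symm
    obtain ⟨x, hx⟩ := hsurj (genericPoint C)
    rw [← hx]
    exact ((genericPoint_spec (X : Type u)).specializes (Set.mem_univ x)).map π.continuous
  have hIF : BlowUp.IsEffCartierIdeal IF := by
    refine SurfInt.isEffCartier_of_locPrincipal ((ModPairLib.isLocPrincipal_of_isEffCartier hIy).comap π) fun h => hygen ?_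
    rw [Scheme.IdealSheafData.support_comap] at h
    have h' : π (genericPoint X) ∈ (Iy.support : Set C) := h
    rw [Scheme.IdealSheafData.coe_support_vanishingIdeal, hπgen] at h'
    exact (Set.mem_singleton_iff.1 h').symm
  haveI := SurfInt.isIntegral_ker σ
  have hC0 : BlowUp.IsEffCartierIdeal σ.ker :=
    SurfInt.isEffCartier_curve k hdim hreg σ.ker (by rw [SurfInt.dim_support_ker, hdimC])
  have hIFi := SurfInt.isInvertible_idealMod hIF
  rw [SurfInt.intNum_eq_pair k hd (SurfInt.isInvertible_idealMod hC0) hIFi,
    SurfInt.intNum_eq_pair k hd hIFi hIFi]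
  refine ⟨?_, ?_⟩
  · have hp : IsClosed ({σ y} : Set X) := by
      rw [← Set.image_singleton]
      exact σ.isClosedEmbedding.isClosedMap _ hy
    have hmap : Iy.map σ = CurvePoint.ptIdeal (σ y) hp := by
      rw [Scheme.IdealSheafData.map_vanishingIdeal]
      congr 1
      ext1
      show closure (σ '' {y}) = {σ y}
      rw [Set.image_singleton, hp.closure_eq]
    have hsup : σ.ker ⊔ IF = CurvePoint.ptIdeal (σ y) hp := by
      rw [← hmap]
      refine le_antisymm (sup_le ?_ ?_) ?_
      · rw [← Scheme.IdealSheafData.map_bot σ]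
        exact (Scheme.IdealSheafData.map_gc (f := σ)).monotone_u bot_le
      · rw [Scheme.IdealSheafData.le_map_iff_comap_le, ← Scheme.IdealSheafData.comap_comp, hσ,
          Scheme.IdealSheafData.comap_id]
      · set Z := σ.ker ⊔ IF
        let ι := Z.subschemeι
        have hker : ι.ker = Z := Scheme.IdealSheafData.ker_subschemeι Z
        obtain ⟨j, hj⟩ : ∃ j, j ≫ σ = ι :=
          ⟨IsClosedImmersion.lift σ ι (hker.symm ▸ le_sup_left), IsClosedImmersion.lift_fac _ _ _⟩
        have hj' : j = ι ≫ π := by rw [← hj, Category.assoc, hσ, Category.comp_id]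
        have hle : Iy ≤ j.ker := by
          rw [hj', Scheme.Hom.ker_comp, Scheme.IdealSheafData.le_map_iff_comap_le, hker]
          exact le_sup_right
        calc Iy.map σ ≤ j.ker.map σ := (Scheme.IdealSheafData.map_gc (f := σ)).monotone_u hle
          _ = ι.ker := by rw [← Scheme.Hom.ker_comp, hj]
          _ = Z := hker
    have h := SurfInt.pair_eq_h0_of_cohenMacaulay k (fun Z hZ => ?_) (fun x => ?_) hC0 hIF ?_
    · rw [h, hsup, ← CurveCohLib.euler_eq_finrank_zero (CurvePoint.isCoh_quot (σ y) hp k)
        (CurvePoint.closed_support (σ y) hp), CurvePoint.euler_quot (σ y) hp k]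
    · rw [irreducibleComponents_eq_singleton, Set.mem_singleton_iff] at hZ
      subst hZ
      exact ((Homeomorph.Set.univ X).isHomeomorph.topologicalKrullDim_eq).trans hdim
    · haveI := hreg x
      haveI := LC.gorenstein_of_isRegularLocalRing (R := X.presheaf.stalk x)
      exact LC.isCohenMacaulayLocalRing_of_gorenstein
    · rw [hsup]
      exact Set.finite_singleton _
  · rw [SurfInt.pair_ideal_left k _ hIFi, neg_eq_zero]
    obtain ⟨U, hyU, t, -, ht⟩ := hIy y
    refine SurfInt.curveDeg_idealMod_eq_zero_of_principal_near k IF hIF (V := π ⁻¹ᵁ U.1) (π.app U.1 t)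
      (fun x hx => ?_) fun W hW => ?_
    · rw [SetLike.mem_coe, Scheme.IdealSheafData.support_comap] at hx
      have hx' : π x ∈ (Iy.support : Set C) := hx
      rw [Scheme.IdealSheafData.coe_support_vanishingIdeal] at hx'
      show π x ∈ U.1
      rw [Set.mem_singleton_iff.1 hx']
      exact hyU
    · rw [ModPairLib.ideal_comap _ π U W hW, ht, Ideal.map_span, Set.image_singleton]
      rfl

end Groth.Agent.S12436
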