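import Groth.Statements.S12469
import Groth.Agent.RLPsi35.VATensor
import Groth.Agent.H23.PicMul

set_option autoImplicit false
universe u
open CategoryTheory CategoryTheory.Limits AlgebraicGeometry TopologicalSpace Opposite
open scoped HomogeneousIdeal
open EGA2

namespace Groth.Agent.S12469

/-- Let q : X → Y be a morphism of schemes, L an invertible O_X-module and K an invertible O_Y-module.
Then L is very ample relative to q (isomorphic to the inverse image of O(1) along a Y-immersion of X
into the projective bundle P(E) of a quasi-coherent O_Y-module E) if and only if L ⊗ q^*K is. -/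
theorem result {X Y : Scheme.{u}} (q : X ⟶ Y) (L : X.Modules)
    (hL : PicF.IsInvertible L) (K : Y.Modules) (hK : PicF.IsInvertible K) :
    RelProj.IsRelVeryAmple q L ↔
      RelProj.IsRelVeryAmple q (CohB1.tensorMod L ((Scheme.Modules.pullback q).obj K)) := by
  have key : ∀ (M : X.Modules) (N : Y.Modules), PicF.IsInvertible M → PicF.IsInvertible N →
      RelProj.IsRelVeryAmple q M →
      RelProj.IsRelVeryAmple q (CohB1.tensorMod M ((Scheme.Modules.pullback q).obj N)) := fun M N hM hN h =>
    Groth.Agent.RLPsi35.isRelVeryAmple_tensor_of_epi hM h (Groth.Agent.PicClLib.isInvertible_pullback q hN)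
      (Groth.Agent.ProjUPX.isQCoh_of_isInvertible hN) (𝟙 _)
  refine ⟨key L K hL hK, fun h => ?_⟩
  obtain ⟨D, hD, ⟨e⟩⟩ := Groth.Agent.H23.PicInv.exists_inverse hK
  have h' := key _ D (Groth.Agent.H23.PicMul.isInvertible_tensor hL
    (Groth.Agent.PicClLib.isInvertible_pullback q hK)) hD h
  refine Groth.Agent.RLPsi35.isRelVeryAmple_of_iso ?_ h'
  exact (Groth.Agent.H23.PicMul.assoc _ _ _).some ≪≫
    PicGrp.tensorModIso (Iso.refl L) ((Groth.Agent.H23.PicMul.pull q K D).some.symm ≪≫
      (Scheme.Modules.pullback q).mapIso e ≪≫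
      (Groth.Agent.PicClLib.nonempty_pullback_structureModule q).some) ≪≫
    (Groth.Agent.H23.PicMul.unit L).some

end Groth.Agent.S12469
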