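import Groth.Statements.S12472
import Groth.Agent.RLPsi35.VAProj
import Groth.Agent.ProjUPX.Affine

set_option autoImplicit false
universe u
open CategoryTheory CategoryTheory.Limits AlgebraicGeometry TopologicalSpace Opposite
open scoped HomogeneousIdeal
open EGA2

namespace Groth.Agent.S12472

/-- Let Y be a scheme and L an invertible O_Y-module. Then L is very ample relative to the identity
morphism of Y: there are a quasi-coherent O_Y-module E and a Y-immersion i of Y into the projective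
bundle P(E) with L isomorphic to i^*O_{P(E)}(1). -/
theorem result (Y : Scheme.{u}) (L : Y.Modules) (hL : PicF.IsInvertible L) :
    RelProj.IsRelVeryAmple (𝟙 Y) L := by
  have hLq := ProjUPX.isQCoh_of_isInvertible hL
  obtain ⟨𝒮L, jL, hjL⟩ := SymAlgX.exists_isGrSymAlg L hLq
  obtain ⟨PL, pL, chartL, hPL⟩ := Proj16.exists_isRelProj 𝒮L
  let u : RelProj.QGrHom (𝟙 Y) 𝒮L 𝒮L := RelProj.QGrHom.ofHom (𝟙 𝒮L.toQCAlg) fun U hU d x hx => hx
  have happ : ∀ (U : Y.Opens) (hU : IsAffineOpen U) (f : 𝒮L.presheaf.obj (op U)),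
      u.gradedAt U hU U hU le_rfl f = f := fun U hU f => by
    show (𝒮L.presheaf.map (homOfLE (le_refl U)).op).hom f = f
    rw [show homOfLE (le_refl U) = 𝟙 U from Subsingleton.elim _ _, op_id, CategoryTheory.Functor.map_id]
    rfl
  have htop : RelProj.domQ u pL chartL = ⊤ := by
    refine eq_top_iff.mpr fun z _ => ?_
    obtain ⟨_, ⟨U, hU, rfl⟩, hzU, -⟩ := Y.isBasis_affineOpens.exists_subset_of_mem_open
      (Set.mem_univ (pL z)) isOpen_univ
    obtain ⟨w, rfl⟩ := ProjQMapX.exists_emb_eq (chart := chartL) U hU hzU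
    obtain ⟨d, f, hd, hf, hwf, -⟩ := Proj16.exists_basicOpen_subset (𝒜 := 𝒮L.deg U hU) isOpen_univ (Set.mem_univ w)
    refine RLPsi35.Hit.mem_domQ (U := U) (hU := hU) hd hf ⟨U, hU, le_rfl, w, rfl, ?_⟩
    rw [happ U hU f]
    exact hwf
  obtain ⟨r, hr, -⟩ := ProjQMapX.existsUnique_isProjQMapOn u hPL hPL
  have := RLPsi35.isIso_pL hLq hjL hPL hL
  have hri : r = (RelProj.domQ u pL chartL).ι := by
    rw [← cancel_mono pL, ProjQMapX.isProjQMapOn_comp hPL hPL hr, Category.comp_id]
  have himm : IsImmersion r := by rw [hri]; infer_instance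
  obtain ⟨O1, lam, i, hO1, hi, hiq, hθ⟩ :=
    RLPsi35.exists_immersion_of_isImmersion hL hLq hjL hPL hLq hjL u hPL hr htop himm
  exact ⟨L, hLq, 𝒮L, jL, hjL, PL, pL, chartL, hPL, O1, lam, hO1, i, hi, hiq, hθ⟩

end Groth.Agent.S12472
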