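import Groth.Statements.S12480
import Groth.Agent.RLPsi35.VATensor
import Groth.Agent.S12472
import Groth.Agent.H23.PicMul
import Groth.Agent.AmpleX.QuasiAffine
import Groth.Agent.QCoh.Qcqs

set_option autoImplicit false
universe u
open CategoryTheory CategoryTheory.Limits AlgebraicGeometry TopologicalSpace Opposite
open scoped HomogeneousIdeal
open EGA2

namespace Groth.Agent.S12480

/-- Let X be a quasi-affine scheme and L an invertible O_X-module. Then L is very ample relative to the
canonical morphism u : X → Spec Γ(X, O_X): there are a quasi-coherent module E on that spectrum and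
an immersion i of X into the projective bundle P(E), compatible with u, with L isomorphic to
i^*O_{P(E)}(1). (The published statement adds that L is then ample; that assertion is stated
separately.) -/
theorem result (X : Scheme.{u}) [X.IsQuasiAffine] (L : X.Modules)
    (hL : PicF.IsInvertible L) : RelProj.IsRelVeryAmple X.toSpecΓ L := by
  have hO : RelProj.IsRelVeryAmple X.toSpecΓ (Coh.structureModule X) := by
    obtain ⟨E, hE, 𝒮, j, hj, P, p, chart, hP, O1, lam, hO1, i, hi, hip, ⟨θ⟩⟩ :=
      Groth.Agent.S12472.result (Spec Γ(X, ⊤)) (Coh.structureModule _)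
        (Groth.Agent.InvX.isInvertible_structureModule)
    exact ⟨E, hE, 𝒮, j, hj, P, p, chart, hP, O1, lam, hO1, X.toSpecΓ ≫ i, inferInstance,
      by rw [Category.assoc, hip]; exact Category.comp_id _,
      ⟨(Groth.Agent.PicClLib.nonempty_pullback_structureModule X.toSpecΓ).some.symm ≪≫
        (Scheme.Modules.pullback X.toSpecΓ).mapIso θ ≪≫
        (Scheme.Modules.pullbackComp X.toSpecΓ i).app O1⟩⟩
  have hM := Groth.Agent.InvX.isInvertible_structureModule (X := X)
  have h := Groth.Agent.RLPsi35.isRelVeryAmple_tensor_of_locus hM hO hL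
    (Groth.Agent.QCoh.isQCoh_pushforward X.toSpecΓ (Groth.Agent.ProjUPX.isQCoh_of_isInvertible hL)) (𝟙 _)
    fun x => by
      obtain ⟨V, hxV, e, he⟩ := Groth.Agent.InvX.exists_frame hL x
      obtain ⟨_, ⟨_, ⟨r, hr, rfl⟩, rfl⟩, hxr, hle⟩ :=
        (Scheme.IsQuasiAffine.isBasis_basicOpen X).exists_subset_of_mem_open (show x ∈ V from hxV) V.2
      obtain ⟨s, hs⟩ := Groth.Agent.AmpleX.exists_genLocus_eq_basicOpen hL r
        (he.res (show X.basicOpen r ≤ V from hle))
      refine ⟨⊤, isAffineOpen_top _, show Γ(L, X.toSpecΓ ⁻¹ᵁ ⊤) from Groth.Agent.InvX.one (X := X) s, trivial, ?_⟩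
      exact ((Groth.Agent.AmpleX.genLocus_eq_locus s).symm.trans hs).ge hxr
  exact Groth.Agent.RLPsi35.isRelVeryAmple_of_iso
    ((Groth.Agent.H23.PicMul.comm _ _).some ≪≫ (Groth.Agent.H23.PicMul.unit L).some) h

end Groth.Agent.S12480
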