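import Groth.Statements.S12482
import Groth.Agent.S5802

set_option autoImplicit false
universe u
open Dual

namespace Groth.Agent.S12482

/-- Let `A` be a commutative ring, `x_1, …, x_p` a sequence of elements of `A` such that each `x_i` is a
non-zero-divisor on `A/(x_1, …, x_{i-1})`, and `J` the ideal generated by the `x_i`. Then `J/J²` is
a free `(A/J)`-module with basis the classes of the `x_i`: there is a basis of `J/J²` over `A/J`,
indexed by `1, …, p`, whose `i`-th vector is the class of `x_i`. (The other assertions of the
published statement, on the Koszul complex and on Ext and Tor against `A/J`, are stated separately.) -/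
theorem result (A : Type u) [CommRing A] (p : ℕ) (x : Fin p → A)
    (hreg : RingTheory.Sequence.IsWeaklyRegular A (List.ofFn x)) :
    ∃ b : Module.Basis (Fin p) (A ⧸ Ideal.span (Set.range x)) (Ideal.span (Set.range x)).Cotangent,
      ∀ i, b i = (Ideal.span (Set.range x)).toCotangent ⟨x i, Ideal.subset_span (Set.mem_range_self i)⟩ := by
  classical
  have hkill : ∀ (a : A) (z : (Ideal.span (Set.range x)).Cotangent),
      Ideal.Quotient.mk (Ideal.span (Set.range x)) a • z = a • z := fun _ _ => rfl
  let v : Fin p → (Ideal.span (Set.range x)).Cotangent := fun i =>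
    (Ideal.span (Set.range x)).toCotangent ⟨x i, Ideal.subset_span (Set.mem_range_self i)⟩
  have hli : LinearIndependent (A ⧸ Ideal.span (Set.range x)) v := by
    rw [Fintype.linearIndependent_iff]
    intro g hg i
    choose a ha using fun j => Ideal.Quotient.mk_surjective (g j)
    have h0 : (Ideal.span (Set.range x)).toCotangent
        (∑ j, a j • (⟨x j, Ideal.subset_span (Set.mem_range_self j)⟩ : Ideal.span (Set.range x))) = 0 := by
      rw [map_sum]
      simpa only [← ha, hkill, map_smul] using hg
    have h1 := ((Ideal.span (Set.range x)).toCotangent_eq_zero _).1 h0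
    let P : MvPolynomial (Fin p) A := ∑ j, MvPolynomial.C (a j) * MvPolynomial.X j
    have hP : P.IsHomogeneous 1 :=
      MvPolynomial.IsHomogeneous.sum _ _ _ fun j _ => by
        simpa using (MvPolynomial.isHomogeneous_C _ (a j)).mul (MvPolynomial.isHomogeneous_X A j)
    have hev : MvPolynomial.eval x P ∈ Ideal.span (Set.range x) ^ (1 + 1) := by
      simpa [P, AddSubmonoidClass.coe_finsetSum] using h1
    have := S5802.result A p x hreg 1 P hP hev (Finsupp.single i 1)
    rw [← ha i, Ideal.Quotient.eq_zero_iff_mem]
    simpa [P, MvPolynomial.coeff_sum, MvPolynomial.coeff_C_mul, MvPolynomial.coeff_X, Finset.sum_ite_eq',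
      Finsupp.single_eq_single_iff, eq_comm] using this
  refine ⟨Module.Basis.mk hli ?_, fun i => Module.Basis.mk_apply hli _ i⟩
  rintro z -
  obtain ⟨⟨y, hy⟩, rfl⟩ := (Ideal.span (Set.range x)).toCotangent_surjective z
  obtain ⟨c, hc⟩ := (Ideal.mem_span_range_iff_exists_fun).1 hy
  have hyeq : (⟨y, hy⟩ : Ideal.span (Set.range x)) =
      ∑ j, c j • (⟨x j, Ideal.subset_span (Set.mem_range_self j)⟩ : Ideal.span (Set.range x)) :=
    Subtype.ext (by simpa [AddSubmonoidClass.coe_finsetSum] using hc.symm)
  rw [hyeq, map_sum]
  refine Submodule.sum_mem _ fun j _ => ?_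
  rw [map_smul, ← hkill]
  exact Submodule.smul_mem _ _ (Submodule.subset_span ⟨j, rfl⟩)

end Groth.Agent.S12482
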