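import Groth.Statements.S12483
import Groth.Agent.Lib.PnDualSheafHom

set_option autoImplicit false
universe u
open CategoryTheory CategoryTheory.Limits AlgebraicGeometry
open Coherent

namespace Groth.Agent.S12483

/-- Let `X` be a scheme, `A` an `O_X`-module which is finite locally free (every point has an open
neighbourhood over which `A` is isomorphic to some `O^n`) and for which the internal Hom functor
`Hom_{O_X}(A, -)` exists (right adjoint of `A ⊗ -`), `B` any `O_X`-module and `p ≥ 0`. Then
`Ext^p_{O_X}(X; A, B)`, the Ext group computed in the category of `O_X`-modules, is isomorphic to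
`H^p(X, Hom_{O_X}(A, B))`. (Existence of an isomorphism of abelian groups only; the published
isomorphisms are canonical, the edge maps of the local-to-global spectral sequence for Ext. The
published statement is for an arbitrary ringed space; this row is the case of a scheme.) -/
theorem result (X : Scheme.{u}) [HasExt.{u} X.Modules]
    (A B : X.Modules) (hA : FlatMod.IsFinLocFree A) [DCoh.HasSheafHom A] (p : ℕ) :
    Nonempty (Abelian.Ext A B p ≃+ Coh.HH X ((DCoh.sheafHom A).obj B) p) := by
  haveI : EnoughInjectives X.Modules := inferInstanceAs (EnoughInjectives (SheafOfModules _))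
  let e : SheafHomX.hom A ≅ DCoh.sheafHom A :=
    ((SheafHomX.adj A).ofNatIsoLeft ((KFlatLib.tensorBiFlipIso X).app A)).rightAdjointUniq (DCoh.sheafHomAdj A)
  obtain ⟨ε, -⟩ := ExtNat.exists_natural_equiv (PnDual.homAb A) A
    ((constantSheaf (Opens.grothendieckTopology X) AddCommGrpCat.{u}).obj (AddCommGrpCat.of (ULift.{u} ℤ)))
    (fun E hE => QCoh.toAb_shortExact (PnDual.shortExact_hom hA hE))
    (fun I hI q => haveI := hI; PnDual.subsingleton_homAb_injective hA I q)
    (PnDual.homAbEquiv A) (fun N N' φ g => PnDual.homAbEquiv_naturality A φ g) p B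
  exact ⟨AddEquiv.trans ε ((Sheaf.cohomologyFunctor _ p).mapIso
    ((SheafOfModules.toSheaf X.ringCatSheaf).mapIso (e.app B))).addCommGroupIsoToAddEquiv⟩

end Groth.Agent.S12483
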