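import Groth.Statements.S12485
import Groth.Agent.RelTwMap.Iso
import Groth.Agent.S8292
import Groth.Agent.RLPsi35.SymLift
import Groth.Agent.RLPsi35.DegSub
import Groth.Agent.Proj16.RelMap

set_option autoImplicit false
universe u
open CategoryTheory CategoryTheory.Limits AlgebraicGeometry TopologicalSpace Opposite
open scoped HomogeneousIdeal
open EGA2

namespace Groth.Agent.S12485

/-- Let q : X → Y be a morphism of schemes and L an invertible O_X-module. Suppose there are a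
quasi-coherent graded O_Y-algebra 𝒮 generated by its degree-one part, its relative homogeneous
spectrum p : P = Proj(𝒮) → Y (given with its charts over affine opens) with twisting sheaf O_P(1)
(given with its chart identifications), and an immersion i : X → P with i ≫ p = q such that L is
isomorphic to i^*O_P(1). Then L is very ample relative to q: there are a quasi-coherent O_Y-module E
and a Y-immersion of X into the projective bundle P(E) along which O_{P(E)}(1) pulls back to a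
module isomorphic to L. -/
theorem result {X Y P : Scheme.{u}} (q : X ⟶ Y) (L : X.Modules)
    (hL : PicF.IsInvertible L) (𝒮 : RelProj.QCGrAlg Y) (h𝒮 : 𝒮.IsGenDegOne) (p : P ⟶ Y)
    (chart : ∀ (U : Y.Opens) (hU : IsAffineOpen U), ((p ⁻¹ᵁ U : P.Opens) : Scheme.{u}) ≅ Proj (𝒮.deg U hU))
    (hP : RelProj.IsRelProj 𝒮 p chart) (O1 : P.Modules)
    (lam : ∀ (U : Y.Opens) (hU : IsAffineOpen U),
      O1 ⟶ (Scheme.Modules.pushforward (RelProj.emb p chart U hU)).obj (GrTwist.twist (𝒮.deg U hU) 1))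
    (hO1 : RelProj.IsRelTwist 𝒮 p chart 1 O1 lam) (i : X ⟶ P) [IsImmersion i] (hi : i ≫ p = q)
    (e : L ≅ (Scheme.Modules.pullback i).obj O1) : RelProj.IsRelVeryAmple q L := by
  let M := (RLPsi35.degSub 𝒮 1).toModules
  let u : M ⟶ 𝒮.toModule := (RLPsi35.degSub 𝒮 1).ι
  have hM : Coh.IsQCoh M := RLPsi35.isQCoh_degSub 𝒮 1
  have hu1 : ∀ (U : Y.Opens) (hU : IsAffineOpen U) (x : Γ(M, U)), (u.app U) x ∈ 𝒮.deg U hU 1 :=
    fun U hU x => (RLPsi35.mem_degSub_iff 𝒮 hU _).mp x.2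
  have husurj : ∀ (U : Y.Opens) (hU : IsAffineOpen U) (s : 𝒮.presheaf.obj (op U)), s ∈ 𝒮.deg U hU 1 →
      ∃ x : Γ(M, U), (u.app U) x = s :=
    fun U hU s hs => ⟨⟨s, (RLPsi35.mem_degSub_iff 𝒮 hU s).mpr hs⟩, rfl⟩
  obtain ⟨𝒯, j, hT⟩ := SymAlgX.exists_isGrSymAlg M hM
  obtain ⟨v, hv, hvj⟩ := RLPsi35.exists_symLift hM hT u hu1
  have hirr : ∀ (U : Y.Opens) (hU : IsAffineOpen U),
      (𝒮.deg U hU)₊ ≤ ((𝒯.deg U hU)₊).map (RelProj.gradedHomAt v hv U hU) := fun U hU => by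
    show ((𝒮.deg U hU)₊).toIdeal ≤ _
    rw [RelTildeX.irrelevant_eq_span_deg_one h𝒮 U hU, Ideal.span_le]
    intro s hs
    obtain ⟨x, rfl⟩ := husurj U hU s hs
    exact Ideal.subset_span ⟨(j.app U) x, HomogeneousIdeal.mem_irrelevant_of_mem _ one_pos (hT.2 U hU x), hvj U x⟩
  obtain ⟨PT, pT, chartT, hPT⟩ := Proj16.exists_isRelProj 𝒯
  obtain ⟨h, hh, -⟩ := Proj16.existsUnique_isRelProjMap hPT hP (φ := v) (hφ := hv) (hirr := hirr)
  have hci : IsClosedImmersion h := S8292.result 𝒮 𝒯 h𝒮 M hM u hu1 husurj j hT v hv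
    (Scheme.Modules.hom_ext _ _ fun U => by ext x; exact hvj U x) hirr pT p chartT chart hPT hP h hh
  obtain ⟨OT, lamT, hOT⟩ := RelTildeX.exists_isRelTwist 𝒯 hPT 1
  obtain ⟨θ, hθ, -⟩ := RelTwMap.existsUnique_map hPT hP (RelTwMap.ofHom hh) hOT hO1
  haveI := RelTwMap.isIso_adjunct (RelTwMap.ofHom hh) hOT hO1 hθ
    fun k => RelTildeX.irrelevant_eq_span_deg_one (SymAlgX.isGenDegOne hM hT) k.1 k.2
  refine ⟨M, hM, 𝒯, j, hT, PT, pT, chartT, hPT, OT, lamT, hOT, i ≫ h, inferInstance, ?_,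
    ⟨e ≪≫ (Scheme.Modules.pullback i).mapIso
      (asIso (((Scheme.Modules.pullbackPushforwardAdjunction h).homEquiv _ _).symm θ)).symm ≪≫
      (Scheme.Modules.pullbackComp i h).app _⟩⟩
  rw [Category.assoc, Proj16.relProjMap_comp hPT hP hh, hi]

end Groth.Agent.S12485
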