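import Groth.Statements.S1250
import Groth.Agent.RG11.DevissageIff
-- import your own Groth.Agent.* helpers here

set_option autoImplicit false
set_option linter.style.haveILetI false
universe u
open FlatMor

namespace Groth.Agent.S1250

/-- Given an elementary dévissage E of N at q over p in dimension n, the following are equivalent: N_q
is flat over R; G_z is flat over R'; G_y (G viewed as a D-module) is flat over R'. Also equivalent
to each other: N becomes flat over R on some basic open D(g) ∋ q of Spec S; G becomes flat over R'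
on some basic open of Spec C containing z; G as a D-module becomes flat over R' on some basic open
of Spec D containing y. -/
theorem result {R S : Type u} [CommRing R] [CommRing S] [Algebra R S] [Algebra.FiniteType R S]
    (N : Type u) [AddCommGroup N] [Module S N] [Module R N] [IsScalarTower R S N] [Module.Finite S N]
    (p : Ideal R) [p.IsPrime] (q : Ideal S) [q.IsPrime] [q.LiesOver p] (n : ℕ) (E : FlatCA.ElemDevissage R S N p q n) :
    [FlatCA.FlatAt R q N, FlatCA.FlatAt E.R' E.z E.G, FlatCA.FlatAt E.R' E.y E.G].TFAE ∧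
    [∃ g : S, g ∉ q ∧ Module.Flat R (LocalizedModule (Submonoid.powers g) N),
     ∃ g : E.C, g ∉ E.z ∧ Module.Flat E.R' (LocalizedModule (Submonoid.powers g) E.G),
     ∃ g : E.D, g ∉ E.y ∧ Module.Flat E.R' (LocalizedModule (Submonoid.powers g) E.G)].TFAE := by
  letI : Module E.R' E.N' := Module.compHom E.N' (algebraMap E.R' E.S')
  haveI : IsScalarTower E.R' E.S' E.N' := IsScalarTower.of_algebraMap_smul fun _ _ => rfl
  letI : Module R E.N' := Module.compHom E.N' (algebraMap R E.S')
  haveI : IsScalarTower R E.S' E.N' := IsScalarTower.of_algebraMap_smul fun _ _ => rfl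
  haveI : IsScalarTower R E.R' E.N' := IsScalarTower.of_algebraMap_smul fun r m => by
    show algebraMap E.R' E.S' (algebraMap R E.R' r) • m = algebraMap R E.S' r • m
    rw [← IsScalarTower.algebraMap_apply]
  haveI : IsScalarTower E.R' E.S' E.G := IsScalarTower.of_algebraMap_smul fun r m => by
    rw [← IsScalarTower.algebraMap_smul E.C (algebraMap E.R' E.S' r) m, ← IsScalarTower.algebraMap_apply,
      IsScalarTower.algebraMap_smul]
  haveI : Algebra.Etale S E.S' := E.etaleS.1
  haveI : Algebra.Etale R E.R' := E.etaleR.1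
  haveI : E.q'.LiesOver q := E.etaleS.2.choose
  haveI := E.finiteDC
  haveI : Module.Finite E.S' E.C := Module.Finite.of_surjective (Algebra.linearMap E.S' E.C) E.surjC
  have hzq : E.z.comap (algebraMap E.S' E.C) = E.q' := (E.z.over_def E.q').symm
  have huq : ∀ r : Ideal E.C, r.IsPrime → r.comap (algebraMap E.S' E.C) = E.q' → r = E.z := fun r _ hr =>
    Ideal.comap_injective_of_surjective _ E.surjC (hr.trans hzq.symm)
  have hzy : E.z.comap (algebraMap E.D E.C) = E.y := (E.z.over_def E.y).symm
  have huy : ∀ r : Ideal E.C, r.IsPrime → r.comap (algebraMap E.D E.C) = E.y → r = E.z := fun r hr hr' =>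
    @FlatCA.ElemDevissage.uniq _ _ _ _ _ _ _ _ _ _ _ _ _ E r hr ⟨hr'.symm⟩
  have a1 : FlatCA.FlatAt R q N ↔ FlatCA.FlatAt E.R' E.z E.G := by
    rw [Groth.Agent.FlatFibres.flatAt_iff_of_isBaseChange E.f E.isBaseChange q E.q',
      (Groth.Agent.S1231.result (R := R) (T := E.R') E.N' E.q').1, Groth.Agent.RG11.flatAt_congr E.N' E.iso E.q',
      Groth.Agent.RG11.flatAt_iff_of_unique E.q' E.z hzq huq E.G]
  have a2 : FlatCA.FlatAt E.R' E.y E.G ↔ FlatCA.FlatAt E.R' E.z E.G :=
    Groth.Agent.RG11.flatAt_iff_of_unique E.y E.z hzy huy E.G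
  have b1 : (∃ g : S, g ∉ q ∧ Module.Flat R (LocalizedModule (Submonoid.powers g) N)) ↔
      ∃ g : E.C, g ∉ E.z ∧ Module.Flat E.R' (LocalizedModule (Submonoid.powers g) E.G) := by
    rw [Groth.Agent.RG11.flatNear_iff_of_isBaseChange E.f E.isBaseChange q E.q',
      ← Groth.Agent.RG11.flatNear_iff_of_unique E.q' E.z hzq huq E.G]
    refine exists_congr fun g => and_congr_right fun _ => ?_
    rw [Groth.Agent.RG11.flat_away_iff_forall, Groth.Agent.RG11.flat_away_iff_forall]
    refine forall_congr' fun Q => forall_congr' fun _ => forall_congr' fun _ => ?_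
    rw [(Groth.Agent.S1231.result (R := R) (T := E.R') E.N' Q).1, Groth.Agent.RG11.flatAt_congr E.N' E.iso Q]
  have b2 : (∃ g : E.D, g ∉ E.y ∧ Module.Flat E.R' (LocalizedModule (Submonoid.powers g) E.G)) ↔
      ∃ g : E.C, g ∉ E.z ∧ Module.Flat E.R' (LocalizedModule (Submonoid.powers g) E.G) :=
    Groth.Agent.RG11.flatNear_iff_of_unique E.y E.z hzy huy E.G
  constructor
  · tfae_have 1 ↔ 2 := a1
    tfae_have 3 ↔ 2 := a2
    tfae_finish
  · tfae_have 1 ↔ 2 := b1
    tfae_have 3 ↔ 2 := b2
    tfae_finish

end Groth.Agent.S1250
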