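import Groth.Statements.S1251
import Groth.Agent.RG11.DevissageIff
-- import your own Groth.Agent.* helpers here

set_option autoImplicit false
set_option linter.style.haveILetI false
universe u
open FlatMor

namespace Groth.Agent.S1251

/-- Given an elementary dévissage E of N at q over p in dimension n, with S of finite presentation over
R: the finite map D → C is of finite presentation; the following are equivalent: N_q is a finitely
presented S_q-module; G_z is a finitely presented C_z-module; G_y is a finitely presented
D_y-module. Also equivalent to each other: N is finitely presented on some basic open of Spec S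
containing q; G is finitely presented on some basic open of Spec C containing z; G as a D-module is
finitely presented on some basic open of Spec D containing y. -/
theorem result {R S : Type u} [CommRing R] [CommRing S] [Algebra R S] [Algebra.FinitePresentation R S]
    (N : Type u) [AddCommGroup N] [Module S N] [Module R N] [IsScalarTower R S N] [Module.Finite S N]
    (p : Ideal R) [p.IsPrime] (q : Ideal S) [q.IsPrime] [q.LiesOver p] (n : ℕ) (E : FlatCA.ElemDevissage R S N p q n) :
    Algebra.FinitePresentation E.D E.C ∧
    [Module.FinitePresentation (Localization.AtPrime q) (LocalizedModule q.primeCompl N),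
     Module.FinitePresentation (Localization.AtPrime E.z) (LocalizedModule E.z.primeCompl E.G),
     Module.FinitePresentation (Localization.AtPrime E.y) (LocalizedModule E.y.primeCompl E.G)].TFAE ∧
    [∃ g : S, g ∉ q ∧ Module.FinitePresentation (Localization.Away g) (LocalizedModule (Submonoid.powers g) N),
     ∃ g : E.C, g ∉ E.z ∧ Module.FinitePresentation (Localization.Away g) (LocalizedModule (Submonoid.powers g) E.G),
     ∃ g : E.D, g ∉ E.y ∧ Module.FinitePresentation (Localization.Away g) (LocalizedModule (Submonoid.powers g) E.G)].TFAE := by
  haveI : Algebra.Etale S E.S' := E.etaleS.1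
  haveI : Algebra.Etale R E.R' := E.etaleR.1
  haveI : E.q'.LiesOver q := E.etaleS.2.choose
  haveI := E.finiteDC
  haveI := E.fpC
  haveI : Algebra.FinitePresentation R E.S' := Algebra.FinitePresentation.trans R S E.S'
  haveI : Algebra.FinitePresentation E.R' E.S' :=
    Algebra.FinitePresentation.of_restrict_scalars_finitePresentation R E.R' E.S'
  haveI : Algebra.FinitePresentation E.R' E.C := Algebra.FinitePresentation.trans E.R' E.S' E.C
  haveI : Algebra.FiniteType E.R' E.D := by
    haveI := E.smooth
    haveI : AlgebraicGeometry.Smooth (AlgebraicGeometry.Spec.map (CommRingCat.ofHom (algebraMap E.R' E.D))) :=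
      AlgebraicGeometry.SmoothOfRelativeDimension.smooth n _
    exact RingHom.finiteType_algebraMap.1
      ((AlgebraicGeometry.HasRingHomProperty.Spec_iff (P := @AlgebraicGeometry.LocallyOfFiniteType) (φ := CommRingCat.ofHom (algebraMap E.R' E.D))).1 inferInstance)
  haveI hDC : Algebra.FinitePresentation E.D E.C :=
    Algebra.FinitePresentation.of_restrict_scalars_finitePresentation E.R' E.D E.C
  haveI : Module.FinitePresentation E.D E.C := Module.FinitePresentation.of_finite_of_finitePresentation _ _
  haveI : Module.Finite E.S' E.C := Module.Finite.of_surjective (Algebra.linearMap E.S' E.C) E.surjC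
  haveI : Module.FinitePresentation E.S' E.C := Module.FinitePresentation.of_finite_of_finitePresentation _ _
  have hzq : E.z.comap (algebraMap E.S' E.C) = E.q' := (E.z.over_def E.q').symm
  have huq : ∀ r : Ideal E.C, r.IsPrime → r.comap (algebraMap E.S' E.C) = E.q' → r = E.z := fun r _ hr =>
    Ideal.comap_injective_of_surjective _ E.surjC (hr.trans hzq.symm)
  have hzy : E.z.comap (algebraMap E.D E.C) = E.y := (E.z.over_def E.y).symm
  have huy : ∀ r : Ideal E.C, r.IsPrime → r.comap (algebraMap E.D E.C) = E.y → r = E.z := fun r hr hr' =>
    @FlatCA.ElemDevissage.uniq _ _ _ _ _ _ _ _ _ _ _ _ _ E r hr ⟨hr'.symm⟩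
  refine ⟨hDC, ?_, ?_⟩
  · tfae_have 1 ↔ 2 :=
      (Groth.Agent.RG11.fp_point_iff_of_isBaseChange E.f E.isBaseChange q E.q').trans (Iff.trans
        (by
          rw [Groth.Agent.RG11.fp_localizedModule_iff E.N' E.q'.primeCompl (Localization.AtPrime E.q'),
            Groth.Agent.RG11.fp_localizedModule_iff E.G E.q'.primeCompl (Localization.AtPrime E.q')]
          exact LinearEquiv.finitePresentation_iff (TensorProduct.AlgebraTensorModule.congr (LinearEquiv.refl _ _) E.iso))
        (Groth.Agent.RG11.fp_point_iff_of_unique E.G E.q' E.z hzq huq))
    tfae_have 3 ↔ 2 := Groth.Agent.RG11.fp_point_iff_of_unique E.G E.y E.z hzy huy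
    tfae_finish
  · tfae_have 1 ↔ 2 :=
      (Groth.Agent.RG11.fp_near_iff_of_isBaseChange E.f E.isBaseChange q E.q').trans (Iff.trans
        (exists_congr fun g => and_congr_right fun _ => by
          rw [Groth.Agent.RG11.fp_localizedModule_iff E.N' (Submonoid.powers g) (Localization.Away g),
            Groth.Agent.RG11.fp_localizedModule_iff E.G (Submonoid.powers g) (Localization.Away g)]
          exact LinearEquiv.finitePresentation_iff (TensorProduct.AlgebraTensorModule.congr (LinearEquiv.refl _ _) E.iso))
        (Groth.Agent.RG11.fp_near_iff_of_unique E.G E.q' E.z hzq huq))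
    tfae_have 3 ↔ 2 := Groth.Agent.RG11.fp_near_iff_of_unique E.G E.y E.z hzy huy
    tfae_finish

end Groth.Agent.S1251
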