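import Groth.Statements.S1252
import Groth.Agent.RG11.CDExist
-- import your own Groth.Agent.* helpers here

set_option autoImplicit false
set_option linter.style.haveILetI false
universe u
open FlatMor
open Groth.Agent.RG11 TensorProduct

namespace Groth.Agent.S1252

/-- Existence of a complete dévissage after étale localization, in affine algebraic form. Let S be a
finite type R-algebra, N a finite S-module, p a prime of R and q a prime of S over p such that the
point of the fibre ring S ⊗_R κ(p) given by q lies in the support of the fibre module N ⊗_R κ(p) (a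
condition the published statement leaves implicit). Then there are an étale R-algebra R' with a
prime p' over p and an étale S-algebra S' with a prime q' over q, both with trivial residue field
extensions, and a compatible R'-algebra structure on S' with q' lying over p', such that for the
base change N' of N to S' (any module N' with an S-linear map N → N' exhibiting it as the base
change), N'/S'/R' admits a complete dévissage at q' (FlatCA.HasCompleteDevissageAt). -/
theorem result {R S : Type u} [CommRing R] [CommRing S] [Algebra R S] [Algebra.FiniteType R S]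
    (N : Type u) [AddCommGroup N] [Module S N] [Module R N] [IsScalarTower R S N] [Module.Finite S N]
    (p : Ideal R) [p.IsPrime] (q : Ideal S) [q.IsPrime] [q.LiesOver p]
    (hsupp : ∃ x ∈ Module.support (p.Fiber S) (FlatCA.fiberMod p S N), x.asIdeal = FlatCA.fiberIdeal p q) :
    ∃ (R' S' : Type u) (_ : CommRing R') (_ : CommRing S') (_ : Algebra R R') (_ : Algebra S S') (_ : Algebra R' S')
      (_ : Algebra R S') (_ : IsScalarTower R R' S') (_ : IsScalarTower R S S')
      (p' : Ideal R') (q' : Ideal S') (_ : p'.IsPrime) (_ : q'.IsPrime),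
      FlatCA.IsEtaleNhd R R' p p' ∧ FlatCA.IsEtaleNhd S S' q q' ∧ q'.LiesOver p' ∧
      ∀ (N' : Type u) [AddCommGroup N'] [Module S' N'] [Module S N'] [IsScalarTower S S' N']
        (f : N →ₗ[S] N'), IsBaseChange S' f → FlatCA.HasCompleteDevissageAt R' S' N' p' q' := by
  classical
  obtain ⟨x, hx, hxq⟩ := hsupp
  haveI : Module.Finite S S := inferInstance
  have hqS : (⟨q, inferInstance⟩ : PrimeSpectrum S) ∈ Groth.Agent.FlatFibres.fibSupp p S S :=
    ⟨by rw [Module.support_of_algebra]; intro a ha; rw [show a = 0 from ha]; exact zero_mem _,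
      (‹q.LiesOver p›).over.symm⟩
  letI : Algebra S (p.Fiber S) := Algebra.TensorProduct.rightAlgebra
  obtain ⟨e₀, he₀⟩ := exists_fibre_orderIso (S := S) p S
  have hxc : x.asIdeal.comap (algebraMap S (p.Fiber S)) = q := by
    rw [hxq, ← (he₀ ⟨_, hqS⟩).2]
    exact (he₀ ⟨_, hqS⟩).1
  have hq : (⟨q, inferInstance⟩ : PrimeSpectrum S) ∈ Groth.Agent.FlatFibres.fibSupp p S N := by
    refine ⟨?_, hqS.2⟩
    have h1 := (MorLib.UnrLocus.support_baseChange_iff (A := S) (B := p.Fiber S) N x).1 hx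
    rwa [show PrimeSpectrum.comap (algebraMap S (p.Fiber S)) x = ⟨q, inferInstance⟩ from PrimeSpectrum.ext hxc] at h1
  letI : Algebra p.ResidueField q.ResidueField :=
    (Ideal.ResidueField.mapₐ p q (Algebra.ofId R S) (‹q.LiesOver p›).over).toRingHom.toAlgebra
  haveI : IsScalarTower R p.ResidueField q.ResidueField := IsScalarTower.of_algebraMap_eq fun r =>
    ((Ideal.ResidueField.mapₐ p q (Algebra.ofId R S) (‹q.LiesOver p›).over).commutes r).symm
  obtain ⟨h, c, hh, -, -⟩ := exists_dims N p q.ResidueField (IsScalarTower.toAlgHom R S q.ResidueField)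
    (isAlgebraic_residueField q) ⟨_, hq⟩ (Ideal.ker_algebraMap_residueField q)
  obtain ⟨R₁, S₁, N₁, _, _, _, _, _, _, _, _, _, p₁, q₁, _, _, φ, hetR₁, hetS₁, hp₁, hq₁, hq₁p, hRS, hφ, hgood⟩ :=
    exists_hasGood h N p q hq hh.le
  haveI := hetR₁
  haveI := hetS₁
  have h11 : TrivExt p₁ p₁ := TrivExt.of_surjective Function.surjective_id (Ideal.comap_id _)
  obtain ⟨q₃, hq₃pr, hq₃p, hq₃q⟩ := exists_prime_over (T := S₁) h11 q₁ hq₁p
  haveI := hq₃pr
  obtain ⟨f, hf, s, -, hs, H⟩ := hgood R₁ p₁ h11 q₃ hq₃p hq₃q 1 ((Ideal.ne_top_iff_one q₃).1 hq₃pr.ne_top)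
  let R₄ := Localization.Away f
  let e : R₁ →ₐ[R₁] R₄ := Algebra.ofId R₁ R₄
  haveI hp₄pr : (p₁.map (algebraMap R₁ R₄)).IsPrime :=
    IsLocalization.isPrime_of_isPrime_disjoint (Submonoid.powers f) _ _ inferInstance
      ((Ideal.disjoint_powers_iff_notMem_of_isPrime _).2 hf)
  let p₄ : Ideal R₄ := p₁.map (algebraMap R₁ R₄)
  have h₄ : TrivExt p₁ p₄ := TrivExt.of_localization f hf
  let s₄ := Algebra.TensorProduct.map e (AlgHom.id R₁ S₁) s
  obtain ⟨S₄, _, _, _, _, _⟩ : ∃ (S₄ : Type u) (_ : CommRing S₄) (_ : Algebra (R₄ ⊗[R₁] S₁) S₄) (_ : Algebra R₄ S₄)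
      (_ : IsScalarTower R₄ (R₄ ⊗[R₁] S₁) S₄), IsLocalization.Away s₄ S₄ :=
    ⟨Localization.Away s₄, inferInstance, inferInstance, inferInstance, inferInstance, inferInstance⟩
  letI : Algebra S₁ S₄ := ((algebraMap (R₄ ⊗[R₁] S₁) S₄).comp (incR R₄)).toAlgebra
  obtain ⟨q₄, hq₄pr, hq₄p, hq₄q, hq₄t, -⟩ := exists_point_away h₄ s₄ (B := S₄) rfl q₁ hq₁p (fun W hW hWp hWq hsW => by
    haveI := hW
    exact hs ((comap_map_eq e h11 h₄.comap_eq q₃ W hq₃p hWp (hq₃q.trans hWq.symm)).le hsW))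
  haveI := hq₄pr
  haveI : IsScalarTower R R₁ R₄ := inferInstance
  letI : Algebra S S₄ := ((algebraMap S₁ S₄).comp (algebraMap S S₁)).toAlgebra
  haveI : IsScalarTower S S₁ S₄ := IsScalarTower.of_algebraMap_eq fun _ => rfl
  letI : Algebra R S₄ := ((algebraMap S S₄).comp (algebraMap R S)).toAlgebra
  haveI : IsScalarTower R S S₄ := IsScalarTower.of_algebraMap_eq fun _ => rfl
  haveI : IsScalarTower R R₄ S₄ := IsScalarTower.of_algebraMap_eq fun r => by
    show algebraMap (R₄ ⊗[R₁] S₁) S₄ ((1 : R₄) ⊗ₜ[R₁] algebraMap S S₁ (algebraMap R S r)) =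
      algebraMap R₄ S₄ (algebraMap R₁ R₄ (algebraMap R R₁ r))
    rw [← hRS, one_tmul_algebraMap, IsScalarTower.algebraMap_apply R₄ (R₄ ⊗[R₁] S₁) S₄,
      ← IsScalarTower.algebraMap_apply R R₁ R₄]
    rfl
  haveI : Algebra.Etale R₁ R₄ := Algebra.Etale.of_isLocalizationAway f
  haveI : Algebra.Etale S₁ S₄ := by
    letI : Algebra S₁ (R₄ ⊗[R₁] S₁) := Algebra.TensorProduct.rightAlgebra
    haveI : Algebra.Etale S₁ (R₄ ⊗[R₁] S₁) := Algebra.Etale.of_equiv (Algebra.TensorProduct.commRight R₁ S₁ R₄)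
    haveI : IsScalarTower S₁ (R₄ ⊗[R₁] S₁) S₄ := IsScalarTower.of_algebraMap_eq fun _ => rfl
    haveI : Algebra.Etale (R₄ ⊗[R₁] S₁) S₄ := Algebra.Etale.of_isLocalizationAway s₄
    exact Algebra.Etale.comp S₁ (R₄ ⊗[R₁] S₁) S₄
  haveI := Algebra.Etale.comp R R₁ R₄
  haveI := Algebra.Etale.comp S S₁ S₄
  refine ⟨R₄, S₄, inferInstance, inferInstance, inferInstance, inferInstance, inferInstance, inferInstance,
    inferInstance, inferInstance, p₄, q₄, inferInstance, inferInstance, (hp₁.trans h₄).isEtaleNhd,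
    (hq₁.trans hq₄t).isEtaleNhd, ⟨hq₄p.symm⟩, ?_⟩
  intro N' _ _ _ _ g hg
  letI : Module S₁ N' := Module.compHom N' (algebraMap S₁ S₄)
  haveI : IsScalarTower S₁ S₄ N' := IsScalarTower.of_algebraMap_smul fun _ _ => rfl
  haveI : IsScalarTower S S₁ N' := IsScalarTower.of_algebraMap_smul fun a m => by
    rw [← algebraMap_smul S₄ a m]
    rfl
  let φ₄ : N₁ →ₗ[S₁] N' := hφ.lift g
  have hc : (φ₄.restrictScalars S).comp φ = g := LinearMap.ext fun m => hφ.lift_eq g m
  have hφ₄ : IsBaseChange S₄ φ₄ := IsBaseChange.of_comp hφ (by rw [hc]; exact hg)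
  exact H R₄ e p₄ h₄ h₄.comap_eq (IsLocalization.Away.algebraMap_isUnit f) S₄ rfl q₄ hq₄p hq₄q N' φ₄ hφ₄

end Groth.Agent.S1252
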