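import Groth.Statements.S1254
import Groth.Agent.RG11.DevProj
import Groth.Agent.RG11.LayerBC
-- import your own Groth.Agent.* helpers here

set_option autoImplicit false
universe u
open FlatMor
open TensorProduct

namespace Groth.Agent.S1254

/-- Let S be a finitely presented R-algebra, N a finitely presented S-module which is flat over R, and 𝔯
a prime of R such that N/S/R admits a complete dévissage over 𝔯. Then for some f ∈ R outside 𝔯 the
localization N_f is projective over R_f, and is R_f-isomorphic to a finite product of free modules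
B_i^{r_i} over smooth R_f-algebras B_i whose fibres are geometrically irreducible. -/
theorem result {R S : Type u} [CommRing R] [CommRing S] [Algebra R S] [Algebra.FinitePresentation R S]
    (N : Type u) [AddCommGroup N] [Module S N] [Module R N] [IsScalarTower R S N] [Module.FinitePresentation S N] [Module.Flat R N]
    (rr : Ideal R) [rr.IsPrime] (D : FlatCA.CompleteDevissage R S N rr) :
    ∃ f : R, f ∉ rr ∧
      Module.Projective (Localization.Away f) (LocalizedModule (Submonoid.powers f) N) ∧
      ∃ (k : ℕ) (B : Fin k → Type u) (_ : ∀ i, CommRing (B i)) (_ : ∀ i, Algebra (Localization.Away f) (B i)) (r : Fin k → ℕ),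
        (∀ i, Algebra.Smooth (Localization.Away f) (B i) ∧ FlatCA.GeomIrredFibres (Localization.Away f) (B i)) ∧
        Nonempty (LocalizedModule (Submonoid.powers f) N ≃ₗ[Localization.Away f] (∀ i, Fin (r i) → B i)) := by
  obtain ⟨f, hf, ⟨e⟩, hproj⟩ := RG11.exists_spread_devissage N rr D
  let Rf := Localization.Away f
  let B : Fin D.n → Type u := fun i => Rf ⊗[R] D.B i
  have hp : ∀ i : Fin D.n, Module.Projective Rf (B i) := fun i => by
    have := hproj i i.isLt
    infer_instance
  let e' : LocalizedModule (Submonoid.powers f) N ≃ₗ[Rf] (∀ i : Fin D.n, Fin (D.r i) → B i) :=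
    (LinearEquiv.extendScalarsOfIsLocalization (Submonoid.powers f) Rf e) ≪≫ₗ
      LinearEquiv.piCongrRight fun i => LocalizedModule.equivTensorProduct (Submonoid.powers f) (Fin (D.r i) → D.B i) ≪≫ₗ
        TensorProduct.piRight R Rf Rf fun _ => D.B i
  have hp' : ∀ i : Fin D.n, Module.Projective Rf (Fin (D.r i) → B i) := fun i =>
    Module.Projective.of_equiv (DFinsupp.linearEquivFunOnFintype (R := Rf) (M := fun _ : Fin (D.r i) => B i))
  have : Module.Projective Rf (∀ i : Fin D.n, Fin (D.r i) → B i) :=
    Module.Projective.of_equiv (DFinsupp.linearEquivFunOnFintype (R := Rf) (M := fun i : Fin D.n => Fin (D.r i) → B i))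
  refine ⟨f, hf, Module.Projective.of_equiv e'.symm, D.n, B, fun i => inferInstance, fun i => inferInstance,
    fun i => D.r i, fun i => ?_, ⟨e'⟩⟩
  have := D.smooth i i.isLt
  exact ⟨inferInstance, RG11.geomIrred_of_geomIntegral (RG11.geomIntegralFibres_baseChange
    (RG11.geomIntegralFibres_of_smooth R (D.B i) (D.geomIrred i i.isLt)) Rf)⟩

end Groth.Agent.S1254
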