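import Groth.Statements.S12540
import Groth.Agent.AGStr.Descend
import Groth.Agent.AGStr.Basic
import Groth.Agent.ChevAffine.Main
import Groth.Agent.GrpSchLib.Coincidence

set_option autoImplicit false
universe u
open CategoryTheory MonoidalCategory CartesianMonoidalCategory MonObj GrpObj AlgebraicGeometry
open AlgGrp

namespace Groth.Agent.S12540

/-- Over an algebraically closed field k, let G be an algebraic group (a smooth k-group scheme of finite
type), h : H → G a closed subgroup scheme, and h' : H' → H a closed subgroup scheme of H which is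
reduced with the same underlying space as H (the reduced subgroup scheme H_red; it is a subgroup of
G through h' ≫ h). Let X, with its G-action and base point, be the quotient G/H, and X' the quotient
G/H' (each locally of finite type over k, with flat surjective orbit map identifying G × H with G
×_X G, respectively G × H' with G ×_{X'} G). Then X is affine if and only if X' is affine. (The
published statement adds the same equivalence with the identity component of H_red; that clause is
not stated here.) -/
theorem result (k : Type u) [Field k] [IsAlgClosed k]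
    (G : Over (Spec (CommRingCat.of k))) [GrpObj G] [Smooth G.hom] [QuasiCompact G.hom]
    (H : Over (Spec (CommRingCat.of k))) [GrpObj H] (h : H ⟶ G) [IsMonHom h] [IsClosedImmersion h.left]
    (H' : Over (Spec (CommRingCat.of k))) [GrpObj H'] (h' : H' ⟶ H) [IsMonHom h'] [IsClosedImmersion h'.left]
    [Surjective h'.left] [IsReduced H'.left]
    (X : Over (Spec (CommRingCat.of k))) (a : AlgGrp.Action G X) (o : 𝟙_ (Over (Spec (CommRingCat.of k))) ⟶ X)
    (hX : AGF.IsQuotient h X a o)
    (X' : Over (Spec (CommRingCat.of k))) (a' : AlgGrp.Action G X') (o' : 𝟙_ (Over (Spec (CommRingCat.of k))) ⟶ X')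
    (hX' : AGF.IsQuotient (h' ≫ h) X' a' o') :
    IsAffine X.left ↔ IsAffine X'.left := by
  obtain ⟨hl, hfl, hsu, hpb⟩ := hX
  obtain ⟨hl', hfl', hsu', hpb'⟩ := hX'
  haveI := hl; haveI := hl'; haveI := hfl; haveI := hfl'; haveI := hsu; haveI := hsu'
  haveI : LocallyOfFiniteType G.hom := inferInstance
  let π := a.orbitMap o
  let π' := a'.orbitMap o'
  haveI : Flat π'.left := hfl'
  haveI : Surjective π'.left := hsu'
  haveI : QuasiCompact π'.left := AGStr.quasiCompact_left π'
  obtain ⟨u, hu⟩ := AGStr.exists_desc π' π (fun T g₁ g₂ e => by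
    have h1 := congrArg (fun m => hpb'.lift g₁ g₂ e ≫ (G ◁ h') ≫ m) hpb.w
    have e1 : (G ◁ h') ≫ (G ◁ h) = G ◁ (h' ≫ h) := (MonoidalCategory.whiskerLeft_comp _ _ _).symm
    simp only [← Category.assoc] at h1
    simp only [Category.assoc, whiskerLeft_fst_assoc, reassoc_of% e1] at h1
    rwa [IsPullback.lift_fst_assoc, ← Category.assoc (G ◁ (h' ≫ h)) μ[G], IsPullback.lift_snd_assoc] at h1)
  have hw : π'.left ≫ u.left = π.left := by rw [← Over.comp_left, hu]
  haveI : Surjective π.left := hsu
  haveI : Flat π.left := hfl
  haveI : LocallyOfFiniteType π.left := AGStr.locallyOfFiniteType_left π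
  haveI : IsLocallyNoetherian X.left := LocallyOfFiniteType.isLocallyNoetherian X.hom
  haveI : Surjective u.left := ⟨fun x => by
    obtain ⟨g, hg⟩ := π.left.surjective x
    exact ⟨π'.left g, by rw [← Scheme.Hom.comp_apply, hw, hg]⟩⟩
  haveI : LocallyOfFiniteType u.left := AGStr.locallyOfFiniteType_left u
  haveI : UniversallyOpen π.left := inferInstance
  haveI : UniversallyOpen (π'.left ≫ u.left) := by rw [hw]; infer_instance
  haveI : UniversallyOpen u.left := AGStr.universallyOpen_of_comp_surjective π'.left u.left
  haveI : UniversallyInjective u.left := by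
    rw [UniversallyInjective.iff_diagonal]
    let c : Limits.pullback π.left π.left ⟶ Limits.pullback u.left u.left :=
      Limits.pullback.map π.left π.left u.left u.left π'.left π'.left (𝟙 _)
        (by rw [Category.comp_id, hw]) (by rw [Category.comp_id, hw])
    have hc : Function.Surjective c := fun z => by
      have hz : z ∈ Set.range c := by
        rw [show Set.range c = _ from Scheme.Pullback.range_map _ _ _ _ _ _ _ _ _]
        exact ⟨π'.left.surjective _, π'.left.surjective _⟩
      exact hz
    have hp : IsPullback (fst G H).left ((G ◁ h) ≫ μ[G]).left π.left π.left := hpb.map (Over.forget _)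
    let e := hp.isoPullback
    haveI : Surjective (G ◁ h').left := MorphismProperty.of_isPullback
      (P := @Surjective) (GrpSchLib.isPullback_whiskerLeft (W := G) h').flip inferInstance
    have hfac : (G ◁ h').left ≫ e.hom ≫ c =
        ((fst G H' ≫ π').left) ≫ Limits.pullback.diagonal u.left := by
      apply Limits.pullback.hom_ext
      · simp only [c, e, Category.assoc, Limits.pullback.lift_fst, Limits.pullback.lift_fst_assoc, Limits.pullback.diagonal_fst, Category.comp_id]
        rw [IsPullback.isoPullback_hom_fst_assoc]
        exact congrArg CommaMorphism.left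
          (show (G ◁ h') ≫ fst G H ≫ π' = fst G H' ≫ π' by rw [whiskerLeft_fst_assoc])
      · simp only [c, e, Category.assoc, Limits.pullback.lift_snd, Limits.pullback.lift_snd_assoc, Limits.pullback.diagonal_snd, Category.comp_id]
        rw [IsPullback.isoPullback_hom_snd_assoc]
        exact congrArg CommaMorphism.left
          (show (G ◁ h') ≫ ((G ◁ h) ≫ μ[G]) ≫ π' = fst G H' ≫ π' by
            rw [hpb'.w]; simp [π', MonoidalCategory.whiskerLeft_comp_assoc])
    refine ⟨fun z => ?_⟩
    obtain ⟨z₁, rfl⟩ := hc z
    obtain ⟨z₂, rfl⟩ : ∃ z₂, e.hom z₂ = z₁ := ⟨e.inv z₁, by simp⟩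
    obtain ⟨z₃, rfl⟩ := (G ◁ h').left.surjective z₂
    refine ⟨(fst G H' ≫ π').left z₃, ?_⟩
    have := congrArg (fun m => m z₃) hfac.symm
    simpa [Scheme.Hom.comp_apply] using this
  haveI : IsFinite u.left := AGStr.isFinite_of_universal_homeomorph u.left
  haveI : CompactSpace ↥G.left := (quasiCompact_iff_compactSpace G.hom).mp inferInstance
  haveI : CompactSpace ↥X.left := π.left.surjective.compactSpace π.left.continuous
  haveI : IsNoetherian X.left := {}
  exact ⟨fun _ => isAffine_of_isAffineHom u.left, fun _ => ChevAffine.isAffine_of_finite_surjective u.left⟩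

end Groth.Agent.S12540
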