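import Groth.Statements.S1255
import Groth.Agent.RG11.PureCoverIff
import Groth.Agent.RG11.PureOpen
-- import your own Groth.Agent.* helpers here

set_option autoImplicit false
set_option linter.style.haveILetI false
universe u
open FlatMor

namespace Groth.Agent.S1255

/-- Ring form, all schemes affine: let B be an A-algebra of finite type, N a finite B-module and p a
prime of A such that N is flat over A at every prime of B over p. Let (A, p) → (A', p') be an
elementary étale ring map and B' an étale B-algebra which is compatibly an A'-algebra of finite
type, with base change N' of N to B', such that N' is pure along the fibre over p' and every prime q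
of B over p whose extension to the fibre ring over p is an associated prime of the fibre module of N
is the contraction of a prime of B' lying over p'. Let B_{A'} and N_{A'} be the base changes of B
and N to A' (any models), with the induced map B_{A'} → B'. Then N is pure along the fibre over p if
and only if: for every prime t' ⊆ p' of A' and every prime Q of B_{A'} over t' whose extension to
the fibre ring over t' is an associated prime of the fibre module of N_{A'}, Q is the contraction of
a prime of B'. (The published statement asks in its covering hypothesis only that the image of Spec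
B' in Spec B contain the associated primes of the fibre module of N over p, without requiring the
covering primes of B' to lie over p'. That is not enough when Spec A' has a second point over p —
with Spec A' = Spec A ⊔ Spec A and Spec B' over the other copy the "only if" fails — so the
hypothesis is stated here in the stronger form: the covering primes of B' lie over p'.) -/
theorem result {A B : Type u} [CommRing A] [CommRing B] [Algebra A B] [Algebra.FiniteType A B]
    (N : Type u) [AddCommGroup N] [Module B N] [Module A N] [IsScalarTower A B N] [Module.Finite B N] (p : Ideal A) [p.IsPrime]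
    (hflat : ∀ (q : Ideal B) [q.IsPrime], q.LiesOver p → FlatCA.FlatAt A q N)
    (A' : Type u) [CommRing A'] [Algebra A A'] (p' : Ideal A') [p'.IsPrime] (het : FlatCA.IsEtaleNhd A A' p p')
    (B' : Type u) [CommRing B'] [Algebra B B'] [Algebra A' B'] [Algebra A B'] [IsScalarTower A B B'] [IsScalarTower A A' B']
    [Algebra.Etale B B'] [Algebra.FiniteType A' B']
    (N' : Type u) [AddCommGroup N'] [Module B' N'] [Module B N'] [IsScalarTower B B' N'] [Module A' N'] [IsScalarTower A' B' N']
    (f : N →ₗ[B] N') (hf : IsBaseChange B' f)
    (hpure : FlatCA.IsPureAlong A' B' N' p')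
    (hcov : ∀ (q : Ideal B) [q.IsPrime], q.LiesOver p →
      FlatCA.fiberIdeal p q ∈ associatedPrimes (p.Fiber B) (FlatCA.fiberMod p B N) →
      ∃ q' : Ideal B', q'.IsPrime ∧ q'.comap (algebraMap B B') = q ∧ q'.comap (algebraMap A' B') = p')
    (BA NA : Type u) [CommRing BA] [Algebra B BA] [Algebra A' BA] [Algebra A BA] [IsScalarTower A B BA] [IsScalarTower A A' BA]
    [Algebra.IsPushout A B A' BA] [Algebra BA B'] [IsScalarTower B BA B'] [IsScalarTower A' BA B']
    [AddCommGroup NA] [Module BA NA] [Module B NA] [IsScalarTower B BA NA] [Module A' NA] [IsScalarTower A' BA NA]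
    (fA : N →ₗ[B] NA) (hfA : IsBaseChange BA fA) :
    FlatCA.IsPureAlong A B N p ↔
      ∀ (t' : Ideal A') [t'.IsPrime], t' ≤ p' → ∀ (Q : Ideal BA) [Q.IsPrime], Q.LiesOver t' →
        FlatCA.fiberIdeal t' Q ∈ associatedPrimes (t'.Fiber BA) (FlatCA.fiberMod t' BA NA) →
        ∃ Q' : Ideal B', Q'.IsPrime ∧ Q'.comap (algebraMap BA B') = Q := by
  haveI : Algebra.Etale A A' := het.1
  haveI : p'.LiesOver p := het.2.choose
  haveI : SMulCommClass B A' BA := ⟨fun a b c => by simp only [Algebra.smul_def]; ring⟩
  haveI : Algebra.Etale B BA := Algebra.Etale.of_equiv (Algebra.IsPushout.equiv A B A' BA)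
  haveI : Algebra.Etale BA B' := Algebra.Etale.of_restrictScalars B BA B'
  refine ⟨fun h t' _ hle Q _ hQ hass => ?_, fun hR => ?_⟩
  · haveI := hQ
    exact RG11.exists_over_of_pure_cover N p A' p' BA NA fA hfA B' hflat het hcov h t' hle Q hass
  · letI : Module A N' := Module.compHom N' (algebraMap A A')
    haveI : IsScalarTower A A' N' := IsScalarTower.of_algebraMap_smul fun _ _ => rfl
    haveI : IsScalarTower A B' N' := IsScalarTower.of_algebraMap_smul fun a m => by
      rw [IsScalarTower.algebraMap_apply A A' B', algebraMap_smul]
      rfl
    haveI : IsScalarTower A B N' := IsScalarTower.of_algebraMap_smul fun a m => by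
      rw [← algebraMap_smul B' (algebraMap A B a) m, ← IsScalarTower.algebraMap_apply, algebraMap_smul]
    haveI : Module.Finite B' N' := Module.Finite.equiv hf.equiv
    have hflat' : ∀ (q' : Ideal B') [q'.IsPrime], q'.LiesOver p' → FlatCA.FlatAt A' q' N' := by
      intro q' _ hq'
      haveI : q'.LiesOver (q'.comap (algebraMap B B')) := ⟨rfl⟩
      have hp : (q'.comap (algebraMap B B')).LiesOver p := ⟨by
        rw [Ideal.under, Ideal.comap_comap, ← IsScalarTower.algebraMap_eq, IsScalarTower.algebraMap_eq A A' B',
          ← Ideal.comap_comap, show q'.comap (algebraMap A' B') = p' from hq'.over.symm]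
        exact p'.over_def p⟩
      have h1 : FlatCA.FlatAt A q' N' :=
        (FlatFibres.flatAt_iff_of_isBaseChange (R := A) f hf (q'.comap (algebraMap B B')) q').1 (hflat _ hp)
      haveI : Module.Flat A (LocalizedModule q'.primeCompl N') := h1
      exact Algebra.FormallyUnramified.flat_of_restrictScalars A A' (LocalizedModule q'.primeCompl N')
    obtain ⟨A'', _, _, p'', _, hn, C, hdata⟩ := RG11.exists_free_cover_of_pure N' p' hflat' hpure
    obtain ⟨_, _, _, _, hetC, hfree, hcov₂⟩ := hdata
    haveI := hetC
    haveI := hfree
    haveI : Algebra.Etale A' A'' := hn.1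
    letI : Algebra A A'' := ((algebraMap A' A'').comp (algebraMap A A')).toAlgebra
    haveI : IsScalarTower A A' A'' := IsScalarTower.of_algebraMap_eq fun _ => rfl
    haveI : Module.Flat A A'' := Module.Flat.trans A A' A''
    haveI : Module.Flat A (Localization.AtPrime p'') := Module.Flat.trans A A'' (Localization.AtPrime p'')
    haveI : p''.LiesOver p' := hn.2.choose
    have hmax : (IsLocalRing.maximalIdeal (Localization.AtPrime p'')).comap
        (algebraMap A' (Localization.AtPrime p'')) = p' := by
      rw [IsScalarTower.algebraMap_eq A' A'' (Localization.AtPrime p''), ← Ideal.comap_comap,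
        show (IsLocalRing.maximalIdeal (Localization.AtPrime p'')).comap (algebraMap A'' (Localization.AtPrime p'')) = p''
          from Localization.AtPrime.under_maximalIdeal]
      exact (p''.over_def p').symm
    have hp : (IsLocalRing.maximalIdeal (Localization.AtPrime p'')).comap
        (algebraMap A (Localization.AtPrime p'')) = p := by
      rw [IsScalarTower.algebraMap_eq A A' (Localization.AtPrime p''), ← Ideal.comap_comap, hmax]
      exact (p'.over_def p).symm
    exact RG11.isPureAlong_of_univ N p (RG11.isUnivPureAlong_of_cover_assoc N p A' p' BA NA fA hfA B' N' f hf hR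
      (Localization.AtPrime p'') hmax.le hp C hcov₂)

end Groth.Agent.S1255
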