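import Groth.Statements.S1262
import Groth.Agent.FibFlat14.Ring
-- import your own Groth.Agent.* helpers here

set_option autoImplicit false
universe u
open FlatMor

namespace Groth.Agent.S1262

/-- Ring form, X = Spec S affine: let S be a finite type R-algebra, N a finite S-module and p a prime of
R. Then the set of points x of the fibre Spec(κ(p) ⊗ S) such that N is flat over R at the prime of S
under x is open in the fibre. -/
theorem result {R S : Type u} [CommRing R] [CommRing S] [Algebra R S] [Algebra.FiniteType R S]
    (N : Type u) [AddCommGroup N] [Module S N] [Module R N] [IsScalarTower R S N] [Module.Finite S N]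
    (p : Ideal R) [p.IsPrime] :
    IsOpen {x : PrimeSpectrum (p.Fiber S) |
      FlatCA.FlatAt R (x.asIdeal.comap (Algebra.TensorProduct.includeRight (R := R) (A := p.ResidueField) (B := S)).toRingHom) N} := by
  rw [isOpen_iff_mem_nhds]
  intro x hx
  let ι := (Algebra.TensorProduct.includeRight (R := R) (A := p.ResidueField) (B := S)).toRingHom
  have hover : ∀ y : PrimeSpectrum (p.Fiber S), (y.asIdeal.comap ι).comap (algebraMap R S) = p := fun y => by
    rw [Ideal.comap_comap]
    have h : ι.comp (algebraMap R S) = (algebraMap p.ResidueField (p.Fiber S)).comp (algebraMap R p.ResidueField) :=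
      RingHom.ext fun r => ((Algebra.TensorProduct.includeRight (R := R) (A := p.ResidueField) (B := S)).commutes r).trans
        (IsScalarTower.algebraMap_apply R p.ResidueField (p.Fiber S) r)
    rw [h, ← Ideal.comap_comap, (y.asIdeal.comap (algebraMap p.ResidueField (p.Fiber S))).eq_bot_of_prime,
      ← RingHom.ker_eq_comap_bot, Ideal.ker_algebraMap_residueField]
  haveI : (x.asIdeal.comap ι).LiesOver p := ⟨(hover x).symm⟩
  obtain ⟨t, ht, H⟩ := Groth.Agent.FibFlat14.exists_fibre_flat_nhd N p (x.asIdeal.comap ι) hx
  exact Filter.mem_of_superset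
    ((PrimeSpectrum.basicOpen (ι t)).isOpen.mem_nhds ht) fun y hy => H _ (hover y) hy

end Groth.Agent.S1262
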