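import Groth.Statements.S12627
import Groth.Agent.AVFac.Tangent
import Groth.Agent.AVFac.Tate
import Groth.Agent.H23.EquidimFibres
import Groth.Agent.H23.Isogeny
import Groth.Agent.GrpSchLib.HomFlat
import Groth.Agent.S12442
import Groth.Agent.S19572


set_option autoImplicit false
universe u
open CategoryTheory CategoryTheory.Limits MonoidalCategory CartesianMonoidalCategory MonObj GrpObj AlgebraicGeometry
open AbVar

set_option backward.isDefEq.respectTransparency false
set_option backward.isDefEq.respectTransparency.types false
set_option linter.style.haveILetI false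

namespace Groth.Agent.S12627

open Groth.Agent.GrpSchLib

/-- An unramified homomorphism of one-dimensional abelian varieties is an etale isogeny. -/
theorem isogeny_of_unramified {k : Type u} [Field k] [IsAlgClosed k] {E₁ E₂ : Over (Spec (CommRingCat.of k))}
    [GrpObj E₁] [IsProper E₁.hom] [GeometricallyIntegral E₁.hom] [GrpObj E₂] [IsProper E₂.hom]
    [GeometricallyIntegral E₂.hom] (hd : topologicalKrullDim E₁.left = topologicalKrullDim E₂.left)
    (f : E₁ ⟶ E₂) [IsMonHom f] [FormallyUnramified f.left] :
    IsFinite f.left ∧ Surjective f.left ∧ Etale f.left := by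
  haveI : IsProper (f.left ≫ E₂.hom) := by rw [Over.w]; infer_instance
  haveI : IsProper f.left := IsProper.of_comp f.left E₂.hom
  haveI : LocallyQuasiFinite f.left := by
    rw [HasRingHomProperty.iff_appLE (P := @LocallyQuasiFinite)]
    intro U V e
    let φ := f.left.appLE U.1 V.1 e
    letI := φ.hom.toAlgebra
    haveI : Algebra.FormallyUnramified Γ(E₂.left, U.1) Γ(E₁.left, V.1) :=
      Scheme.Hom.formallyUnramified_appLE f.left U.2 V.2 e
    haveI : Algebra.FiniteType Γ(E₂.left, U.1) Γ(E₁.left, V.1) :=
      HasRingHomProperty.appLE (P := @LocallyOfFiniteType) f.left inferInstance U V e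
    show φ.hom.QuasiFinite
    rw [← RingHom.algebraMap_toAlgebra φ.hom, RingHom.quasiFinite_algebraMap]
    infer_instance
  haveI hfin : IsFinite f.left := IsFinite.of_isProper_of_locallyQuasiFinite _
  haveI := GeometricallyIntegral.isIntegral_of_subsingleton E₁.hom
  haveI := GeometricallyIntegral.isIntegral_of_subsingleton E₂.hom
  haveI hs : Surjective f.left := H23.Isogeny.surjective_of_isFinite E₁.hom E₂.hom f.left (Over.w f) hd
  haveI : Flat f.left := GrpSchLib.flat_of_surjective_hom f
  haveI : LocallyOfFinitePresentation f.left := by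
    haveI : IsLocallyNoetherian E₂.left := LocallyOfFiniteType.isLocallyNoetherian E₂.hom
    infer_instance
  exact ⟨hfin, hs, Etale.of_formallyUnramified_of_flat f.left⟩


/-- Let `k` be an algebraically closed field and `E₁`, `E₂` elliptic curves over `k`, i.e. group schemes
over `Spec k` whose underlying schemes are proper, smooth, integral and one-dimensional. If `φ, φ' :
E₁ → E₂` are homomorphisms with `φ` finite, surjective and étale (a separable isogeny) and `φ'` not
étale (the zero homomorphism or an inseparable isogeny), then their sum under the group law of `E₂`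
— the composite of `(φ, φ')` with the multiplication of `E₂` — is finite, surjective and étale, i.e.
again a separable isogeny. (The published statement is for arbitrary morphisms `φ, φ'` and takes
`φ'` inseparable; this row takes homomorphisms, the case its proof treats — a morphism of elliptic
curves is a homomorphism followed by a translation, which changes neither the hypotheses nor the
conclusion — and allows `φ'` to be the zero map, that case being immediate.) -/
theorem result (k : Type u) [Field k] [IsAlgClosed k]
    (E₁ E₂ : Over (Spec (CommRingCat.of k)))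
    [GrpObj E₁] [IsProper E₁.hom] [Smooth E₁.hom] [IsIntegral E₁.left] (hE₁ : topologicalKrullDim E₁.left = 1)
    [GrpObj E₂] [IsProper E₂.hom] [Smooth E₂.hom] [IsIntegral E₂.left] (hE₂ : topologicalKrullDim E₂.left = 1)
    (φ φ' : E₁ ⟶ E₂) [IsMonHom φ] [IsMonHom φ'] [IsFinite φ.left] [Surjective φ.left] [Etale φ.left]
    (hφ' : ¬ Etale φ'.left) :
    IsFinite (φ * φ').left ∧ Surjective (φ * φ').left ∧ Etale (φ * φ').left := by
  haveI : GeometricallyIntegral E₁.hom := H23.EquidimFibres.geometricallyIntegral_of_isAlgClosed
  haveI : GeometricallyIntegral E₂.hom := H23.EquidimFibres.geometricallyIntegral_of_isAlgClosed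
  haveI : IsCommMonObj E₂ := isCommMonObj_of_isProper_of_geometricallyIntegral E₂
  haveI : IsMonHom (φ * φ') :=
    { one_hom := by
        rw [MonObj.comp_mul, IsMonHom.one_hom, IsMonHom.one_hom, MonObj.one_eq_one, _root_.one_mul]
      mul_hom := by
        have h1 := IsMonHom.mul_hom φ
        have h2 := IsMonHom.mul_hom φ'
        rw [MonObj.comp_mul, h1, h2, show μ[E₂] = fst E₂ E₂ * snd E₂ E₂ by
          rw [Hom.mul_def, lift_fst_snd, Category.id_comp]]
        simp only [MonObj.comp_mul, tensorHom_fst, tensorHom_snd]
        rw [_root_.mul_mul_mul_comm] }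
  haveI : LocallyOfFiniteType E₁.hom := inferInstance
  obtain ⟨t₀, ht₀, hk₀, hne₀⟩ : ∃ t₀ : specOver k (TrivSqZeroExt k k) ⟶ E₁,
      AVFac.IsTangent t₀ ∧ t₀ ≫ φ' = 1 ∧ t₀ ≠ 1 := by
    by_contra hc
    refine hφ' ?_
    haveI : FormallyUnramified φ'.left := AVFac.formallyUnramified_of_tangent φ' fun t ht htf => by
      by_contra hne
      exact hc ⟨t, ht, htf, hne⟩
    exact (isogeny_of_unramified (hE₁.trans hE₂.symm) φ').2.2
  haveI : FormallyUnramified (φ * φ').left := AVFac.formallyUnramified_of_tangent (φ * φ') fun t ht htf => by
    obtain ⟨c, hc⟩ := AVFac.tangent_line hE₁ ht₀ hne₀ ht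
    have h' : t ≫ φ' = 1 := by rw [hc, Category.assoc, hk₀, MonObj.comp_one]
    rw [MonObj.comp_mul, h', _root_.mul_one] at htf
    exact AVFac.eq_one_of_formallyUnramified φ t ht htf
  exact isogeny_of_unramified (hE₁.trans hE₂.symm) (φ * φ')


end Groth.Agent.S12627
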