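import Groth.Statements.S1272
import Groth.Agent.Flattening12.Sheaf

set_option autoImplicit false
universe u
open FlatMor Groth.Agent.Flattening12

namespace Groth.Agent.S1272

open AlgebraicGeometry CategoryTheory Limits in
/-- Let S be a quasi-compact quasi-separated scheme, U ⊆ S a quasi-compact open, f : X → S locally of
finite presentation with X quasi-compact, and F a quasi-coherent O_X-module of finite type whose
restriction to f⁻¹U is of finite presentation and flat over S at every point over U. Then there are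
a finite type quasi-coherent ideal sheaf on S with support disjoint from U and a blow-up b : S' → S
of S in it (a U-admissible blow-up) such that, for the base change X' = X ×_S S' with projections
p₁, p₂ and any strict transform G of F along p₁ (the quotient of p₁^*F by the sections locally
killed by a power of the pulled-back exceptional ideal), G is an O_{X'}-module of finite
presentation and flat over S'. -/
theorem result {X S : Scheme.{u}} [CompactSpace S] [QuasiSeparatedSpace S] [CompactSpace X]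
    (f : X ⟶ S) [LocallyOfFinitePresentation f] (U : S.Opens) (hU : IsCompact (U : Set S))
    (F : X.Modules) (hqc : Coh.IsQCoh F) (hft : CohB1.IsFT F)
    (hfpU : CohB1.IsFP ((Scheme.Modules.pullback (f ⁻¹ᵁ U).ι).obj F))
    (hflU : ∀ x : X, f.base x ∈ U → FlatMod.IsFlatOverAt f F x) :
    ∃ (𝓘 : S.IdealSheafData) (S' : Scheme.{u}) (b : S' ⟶ S), BlowUp.IsBlowUp b 𝓘 ∧ BlowUp.IsAdmissibleFor U 𝓘 ∧
      ∀ (X' : Scheme.{u}) (p₁ : X' ⟶ X) (p₂ : X' ⟶ S'), IsPullback p₁ p₂ f b →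
      ∀ (G : X'.Modules) (π : (Scheme.Modules.pullback p₁).obj F ⟶ G),
        BlowUp.IsStrictTransform p₁ (𝓘.comap f) F G π → CohB1.IsFP G ∧ FlatMod.IsFlatOver p₂ G := by
  classical
  have hloc : ∀ x : X, ∃ (Vs : S.affineOpens) (P : X.affineOpens), x ∈ P.1 ∧ P.1 ≤ f ⁻¹ᵁ Vs.1 := fun x => by
    obtain ⟨_, ⟨V, hV, rfl⟩, hxV, -⟩ :=
      S.isBasis_affineOpens.exists_subset_of_mem_open (Set.mem_univ (f x)) isOpen_univ
    obtain ⟨_, ⟨P, hP, rfl⟩, hxP, hPV⟩ :=
      X.isBasis_affineOpens.exists_subset_of_mem_open (show x ∈ f ⁻¹ᵁ V from hxV) (f ⁻¹ᵁ V).2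
    exact ⟨⟨V, hV⟩, ⟨P, hP⟩, hxP, hPV⟩
  choose Vs P hxP hPV using hloc
  obtain ⟨t, ht⟩ := isCompact_univ.elim_finite_subcover (fun x => ((P x).1 : Set X)) (fun x => (P x).1.2)
    fun x _ => Set.mem_iUnion.2 ⟨x, hxP x⟩
  have hmodel : ∀ x : X, ∃ C : Model U, ∀ D : Model U, C ≤ D → ∀ s : D.sch, D.str s ∈ (Vs x).1 →
      letI : Algebra Γ(S, (Vs x).1) Γ(X, (P x).1) := (f.appLE (Vs x).1 (P x).1 (hPV x)).hom.toAlgebra
      D.Good (Vs x) Γ(X, (P x).1) Γ(F, (P x).1) s := fun x => by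
    letI : Algebra Γ(S, (Vs x).1) Γ(X, (P x).1) := (f.appLE (Vs x).1 (P x).1 (hPV x)).hom.toAlgebra
    letI : Module Γ(S, (Vs x).1) Γ(F, (P x).1) := Module.compHom _ (f.appLE (Vs x).1 (P x).1 (hPV x)).hom
    haveI : IsScalarTower Γ(S, (Vs x).1) Γ(X, (P x).1) Γ(F, (P x).1) := .of_algebraMap_smul fun _ _ => rfl
    haveI : Algebra.FinitePresentation Γ(S, (Vs x).1) Γ(X, (P x).1) :=
      f.finitePresentation_appLE (Vs x).2 (P x).2 (hPV x)
    haveI := QCoh.finite_of_isFT hqc hft (P x).2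
    exact exists_model_forall_good hU fun r hr =>
      localized_good_of_isFP f hqc hfpU hflU (Vs x) (P x).2 (hPV x) hr
  choose C hC using hmodel
  haveI : Nonempty (Model U) := Model.exists_model hU
  obtain ⟨D, hD⟩ := Finset.exists_le (t.image C)
  refine ⟨D.centre, D.sch, D.str, D.isBlowUp, D.isAdmissible, fun X' p₁ p₂ sq G π ⟨hπ, hker⟩ => ?_⟩
  haveI := hπ
  have hG : Coh.IsQCoh G := isQCoh_of_killed (QCoh.isQCoh_pullback p₁ hqc) _
    (MorLib.IdealFG.isFG_comap (MorLib.IdealFG.isFG_comap D.fg f) p₁) π hker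
  have hcov : ∀ x' : X', ∃ (W : X'.affineOpens), x' ∈ W.1 ∧ Module.FinitePresentation Γ(X', W.1) Γ(G, W.1) ∧
      ∀ y ∈ W.1, FlatMod.IsFlatOverAt p₂ G y := fun x' => by
    obtain ⟨x, hxt, hx⟩ := Set.mem_iUnion₂.1 (ht (Set.mem_univ (p₁ x')))
    have hs : D.str (p₂ x') ∈ (Vs x).1 := by
      rw [← Scheme.Hom.comp_apply, ← sq.w]
      exact hPV x hx
    obtain ⟨Wc, eW, c, hxW, hc, hst⟩ := hC x D (hD _ (Finset.mem_image_of_mem C hxt)) (p₂ x') hs
    obtain ⟨hW, hfp, hfl⟩ := strictTransform_good f hqc (P x).2 (hPV x) eW hc hst sq hG π hker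
    exact ⟨⟨_, hW⟩, ⟨hx, hxW⟩, hfp, hfl⟩
  choose W hxW hfp hfl using hcov
  exact ⟨QCoh.isFP_of_finitePresentation hG (fun x' => (W x').1)
    (top_le_iff.1 fun x' _ => TopologicalSpace.Opens.mem_iSup.2 ⟨x', hxW x'⟩) (fun x' => (W x').2) hfp,
    fun x' => hfl x' x' (hxW x')⟩

end Groth.Agent.S1272
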