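import Groth.Statements.S1277
import Groth.Agent.FlatFibres.FlatAtBaseChange
import Groth.Agent.SchFinLib.Pairs

set_option autoImplicit false
universe u
open FlatMor

namespace Groth.Agent.S1277

open IsLocalRing in
/-- Let A be a local ring, A → B a local homomorphism of local rings, B → C a flat local homomorphism of
local rings, M a B-module and N = M ⊗_B C. For every local homomorphism of local rings A → A', with
base changes B' = B ⊗_A A', M', C' = C ⊗_A A', N' (any models): M' is flat over A' at every prime of
B' containing 𝔪_{A'}B' + 𝔪_B B' if and only if N' is flat over A' at every prime of C' containing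
𝔪_{A'}C' + 𝔪_C C'. -/
theorem result {A B C : Type u} [CommRing A] [IsLocalRing A] [CommRing B] [IsLocalRing B] [CommRing C] [IsLocalRing C]
    [Algebra A B] [IsLocalHom (algebraMap A B)] [Algebra B C] [IsLocalHom (algebraMap B C)] [Algebra A C] [IsScalarTower A B C] [Module.Flat B C]
    (M : Type u) [AddCommGroup M] [Module B M] (N : Type u) [AddCommGroup N] [Module C N] [Module B N] [IsScalarTower B C N]
    (g : M →ₗ[B] N) (hg : IsBaseChange C g)
    (A' : Type u) [CommRing A'] [IsLocalRing A'] [Algebra A A'] [IsLocalHom (algebraMap A A')]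
    (B' M' : Type u) [CommRing B'] [Algebra B B'] [Algebra A' B'] [Algebra A B'] [IsScalarTower A B B'] [IsScalarTower A A' B']
        [Algebra.IsPushout A B A' B']
        [AddCommGroup M'] [Module B' M'] [Module B M'] [IsScalarTower B B' M'] [Module A' M'] [IsScalarTower A' B' M']
        (fB : M →ₗ[B] M') (hfB : IsBaseChange B' fB)
    (C' N' : Type u) [CommRing C'] [Algebra C C'] [Algebra A' C'] [Algebra A C'] [IsScalarTower A C C'] [IsScalarTower A A' C']
        [Algebra.IsPushout A C A' C']
        [AddCommGroup N'] [Module C' N'] [Module C N'] [IsScalarTower C C' N'] [Module A' N'] [IsScalarTower A' C' N']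
        (fC : N →ₗ[C] N') (hfC : IsBaseChange C' fC) :
    FlatCA.FlatAboveClosedPoints B A' B' M' ↔ FlatCA.FlatAboveClosedPoints C A' C' N' := by
  -- algebra structures
  letI : Algebra B C' := ((algebraMap C C').comp (algebraMap B C)).toAlgebra
  haveI : IsScalarTower B C C' := .of_algebraMap_eq' rfl
  haveI : IsScalarTower A B C' := .of_algebraMap_eq fun a => by
    rw [IsScalarTower.algebraMap_apply B C C', ← IsScalarTower.algebraMap_apply A B C,
      ← IsScalarTower.algebraMap_apply A C C']
  have hfg : ∀ (x : B) (y : A'), IsScalarTower.toAlgHom A B C' x * IsScalarTower.toAlgHom A A' C' y =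
      IsScalarTower.toAlgHom A A' C' y * IsScalarTower.toAlgHom A B C' x := fun _ _ => mul_comm _ _
  let d : B' →ₐ[A] C' := Algebra.pushoutDesc B' (IsScalarTower.toAlgHom A B C') (IsScalarTower.toAlgHom A A' C') hfg
  letI : Algebra B' C' := d.toRingHom.toAlgebra
  haveI : IsScalarTower A' B' C' := .of_algebraMap_eq fun a =>
    show _ = d (algebraMap A' B' a) from (Algebra.pushoutDesc_right B' _ _ hfg a).symm
  haveI : IsScalarTower B B' C' := .of_algebraMap_eq fun a =>
    show _ = d (algebraMap B B' a) from (Algebra.pushoutDesc_left B' _ _ hfg a).symm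
  haveI : IsScalarTower A B' C' := .of_algebraMap_eq fun a => (d.commutes a).symm
  haveI : Algebra.IsPushout B C B' C' := by
    haveI : Algebra.IsPushout A B A' B' := inferInstance
    exact (Algebra.IsPushout.comp_iff A B A' B').mp (inferInstance : Algebra.IsPushout A C A' C')
  haveI : Algebra.IsPushout B B' C C' := Algebra.IsPushout.symm inferInstance
  haveI : Module.Flat B' C' := Module.Flat.of_linearEquiv (Algebra.IsPushout.equiv B B' C C').toLinearEquiv.symm
  -- module structures
  letI : Module B' N' := Module.compHom N' (algebraMap B' C')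
  haveI : IsScalarTower B' C' N' := .of_algebraMap_smul fun _ _ => rfl
  letI : Module B N' := Module.compHom N' (algebraMap B C')
  haveI : IsScalarTower B C' N' := .of_algebraMap_smul fun _ _ => rfl
  haveI : IsScalarTower B C N' := .of_algebraMap_smul fun b x => by
    rw [← IsScalarTower.algebraMap_smul C' (algebraMap B C b) x, ← IsScalarTower.algebraMap_apply,
      IsScalarTower.algebraMap_smul]
  haveI : IsScalarTower B B' N' := .of_algebraMap_smul fun b x => by
    rw [← IsScalarTower.algebraMap_smul C' (algebraMap B B' b) x, ← IsScalarTower.algebraMap_apply,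
      IsScalarTower.algebraMap_smul]
  let ψ : M →ₗ[B] N' := fC.restrictScalars B ∘ₗ g
  have hψ : IsBaseChange C' ψ := IsBaseChange.comp hg hfC
  let h : M' →ₗ[B'] N' := hfB.lift ψ
  have hh : IsBaseChange C' h := by
    refine IsBaseChange.of_comp hfB ?_
    rwa [show h.restrictScalars B ∘ₗ fB = ψ from LinearMap.ext fun m => hfB.lift_eq ψ m]
  have key : ∀ (q : Ideal B') (r : Ideal C') [q.IsPrime] [r.IsPrime], r.comap (algebraMap B' C') = q →
      (FlatCA.FlatAt A' q M' ↔ FlatCA.FlatAt A' r N') := fun q r _ _ hrq => by
    haveI : r.LiesOver q := ⟨hrq.symm⟩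
    exact FlatFibres.flatAt_iff_of_isBaseChange h hh q r
  constructor
  · intro hM r _ hr
    refine (key _ r rfl).mp (hM _ ?_)
    rw [sup_le_iff, Ideal.map_le_iff_le_comap, Ideal.map_le_iff_le_comap, Ideal.comap_comap, Ideal.comap_comap,
      ← IsScalarTower.algebraMap_eq, ← IsScalarTower.algebraMap_eq]
    rw [sup_le_iff, Ideal.map_le_iff_le_comap, Ideal.map_le_iff_le_comap] at hr
    refine ⟨hr.1, ?_⟩
    rw [IsScalarTower.algebraMap_eq B C C', ← Ideal.comap_comap]
    exact le_trans (fun b hb => Ideal.mem_comap.mpr ((mem_maximalIdeal _).mpr (map_nonunit _ b hb))) (Ideal.comap_mono hr.2)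
  · intro hN q _ hq
    rw [sup_le_iff, Ideal.map_le_iff_le_comap, Ideal.map_le_iff_le_comap] at hq
    let Q : PrimeSpectrum B' := ⟨q, inferInstance⟩
    let P : PrimeSpectrum C := IsLocalRing.closedPoint C
    have hPQ : PrimeSpectrum.comap (algebraMap B B') Q = PrimeSpectrum.comap (algebraMap B C) P := by
      refine PrimeSpectrum.ext ?_
      change q.comap (algebraMap B B') = (maximalIdeal C).comap (algebraMap B C)
      rw [((IsLocalRing.local_hom_TFAE (algebraMap B C)).out 0 4 :
          IsLocalHom (algebraMap B C) ↔ (maximalIdeal C).comap (algebraMap B C) = maximalIdeal B).mp inferInstance]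
      exact ((maximalIdeal.isMaximal B).eq_of_le (Ideal.IsPrime.ne_top inferInstance) hq.2).symm
    obtain ⟨t, htQ, htP⟩ := SchFinLib.exists_prime_tensor Q P hPQ
    let e := Algebra.IsPushout.equiv B B' C C'
    let r : Ideal C' := t.asIdeal.comap e.symm.toRingEquiv.toRingHom
    haveI : r.IsPrime := inferInstance
    have hrB : r.comap (algebraMap B' C') = q := by
      have hx : ∀ x, e.symm (algebraMap B' C' x) = x ⊗ₜ 1 := fun x => e.symm.commutes x
      refine (Ideal.ext fun x => ?_).trans (congrArg PrimeSpectrum.asIdeal htQ)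
      show e.symm (algebraMap B' C' x) ∈ t.asIdeal ↔ _
      rw [hx]; rfl
    have hrC : r.comap (algebraMap C C') = maximalIdeal C := by
      refine (Ideal.ext fun x => ?_).trans (congrArg PrimeSpectrum.asIdeal htP)
      show e.symm (algebraMap C C' x) ∈ t.asIdeal ↔ _
      rw [Algebra.IsPushout.equiv_symm_algebraMap_right]; rfl
    refine (key q r hrB).mpr (hN r ?_)
    rw [sup_le_iff, Ideal.map_le_iff_le_comap, Ideal.map_le_iff_le_comap, hrC]
    refine ⟨?_, le_rfl⟩
    rw [IsScalarTower.algebraMap_eq A' B' C', ← Ideal.comap_comap, hrB]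
    exact hq.1

end Groth.Agent.S1277
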