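import Groth.Statements.S1278
import Groth.Agent.FlatFibres.FlatAtBaseChange

set_option autoImplicit false
universe u
open FlatMor

namespace Groth.Agent.S1278

open IsLocalRing in
/-- Let A be a local ring and B → C a finite local homomorphism of local A-algebras (A → B local), and N
a C-module, viewed also as a B-module. For every local homomorphism of local rings A → A', with base
changes B', C' of B, C and base changes M' (of N over B') and N' (of N over C'): M' is flat over A'
at every prime of B' containing 𝔪_{A'}B' + 𝔪_B B' if and only if N' is flat over A' at every prime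
of C' containing 𝔪_{A'}C' + 𝔪_C C'. -/
theorem result {A B C : Type u} [CommRing A] [IsLocalRing A] [CommRing B] [IsLocalRing B] [CommRing C] [IsLocalRing C]
    [Algebra A B] [IsLocalHom (algebraMap A B)] [Algebra B C] [IsLocalHom (algebraMap B C)] [Algebra A C] [IsScalarTower A B C] [Module.Finite B C]
    (N : Type u) [AddCommGroup N] [Module C N] [Module B N] [IsScalarTower B C N]
    (A' : Type u) [CommRing A'] [IsLocalRing A'] [Algebra A A'] [IsLocalHom (algebraMap A A')]
    (B' M' : Type u) [CommRing B'] [Algebra B B'] [Algebra A' B'] [Algebra A B'] [IsScalarTower A B B'] [IsScalarTower A A' B']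
        [Algebra.IsPushout A B A' B']
        [AddCommGroup M'] [Module B' M'] [Module B M'] [IsScalarTower B B' M'] [Module A' M'] [IsScalarTower A' B' M']
        (fB : N →ₗ[B] M') (hfB : IsBaseChange B' fB)
    (C' N' : Type u) [CommRing C'] [Algebra C C'] [Algebra A' C'] [Algebra A C'] [IsScalarTower A C C'] [IsScalarTower A A' C']
        [Algebra.IsPushout A C A' C']
        [AddCommGroup N'] [Module C' N'] [Module C N'] [IsScalarTower C C' N'] [Module A' N'] [IsScalarTower A' C' N']
        (fC : N →ₗ[C] N') (hfC : IsBaseChange C' fC) :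
    FlatCA.FlatAboveClosedPoints B A' B' M' ↔ FlatCA.FlatAboveClosedPoints C A' C' N' := by
  letI : Algebra B C' := ((algebraMap C C').comp (algebraMap B C)).toAlgebra
  haveI : IsScalarTower B C C' := .of_algebraMap_eq' rfl
  haveI : IsScalarTower A B C' := .of_algebraMap_eq fun a => by
    rw [IsScalarTower.algebraMap_apply B C C', ← IsScalarTower.algebraMap_apply A B C,
      ← IsScalarTower.algebraMap_apply A C C']
  have hfg : ∀ (x : B) (y : A'), IsScalarTower.toAlgHom A B C' x * IsScalarTower.toAlgHom A A' C' y =
      IsScalarTower.toAlgHom A A' C' y * IsScalarTower.toAlgHom A B C' x := fun _ _ => mul_comm _ _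
  let d : B' →ₐ[A] C' := Algebra.pushoutDesc B' (IsScalarTower.toAlgHom A B C') (IsScalarTower.toAlgHom A A' C') hfg
  letI : Algebra B' C' := d.toRingHom.toAlgebra
  haveI : IsScalarTower A' B' C' := .of_algebraMap_eq fun a =>
    show _ = d (algebraMap A' B' a) from (Algebra.pushoutDesc_right B' _ _ hfg a).symm
  haveI : IsScalarTower B B' C' := .of_algebraMap_eq fun a =>
    show _ = d (algebraMap B B' a) from (Algebra.pushoutDesc_left B' _ _ hfg a).symm
  haveI : IsScalarTower A B' C' := .of_algebraMap_eq fun a => (d.commutes a).symm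
  haveI : Algebra.IsPushout B C B' C' :=
    (Algebra.IsPushout.comp_iff A B A' B').mp (inferInstance : Algebra.IsPushout A C A' C')
  haveI : Algebra.IsPushout B B' C C' := Algebra.IsPushout.symm inferInstance
  haveI : Module.Finite B' C' := Module.Finite.equiv (Algebra.IsPushout.equiv B B' C C').toLinearEquiv
  haveI : Algebra.IsIntegral B' C' := Algebra.IsIntegral.of_finite B' C'
  letI : Module B' N' := Module.compHom N' (algebraMap B' C')
  haveI : IsScalarTower B' C' N' := .of_algebraMap_smul fun _ _ => rfl
  letI : Module B N' := Module.compHom N' (algebraMap B C')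
  haveI : IsScalarTower B C' N' := .of_algebraMap_smul fun _ _ => rfl
  haveI : IsScalarTower B C N' := .of_algebraMap_smul fun b x => by
    rw [← IsScalarTower.algebraMap_smul C' (algebraMap B C b) x, ← IsScalarTower.algebraMap_apply,
      IsScalarTower.algebraMap_smul]
  haveI : IsScalarTower B B' N' := .of_algebraMap_smul fun b x => by
    rw [← IsScalarTower.algebraMap_smul C' (algebraMap B B' b) x, ← IsScalarTower.algebraMap_apply,
      IsScalarTower.algebraMap_smul]
  haveI : IsScalarTower A' B' N' := .of_algebraMap_smul fun a x => by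
    rw [← IsScalarTower.algebraMap_smul C' (algebraMap A' B' a) x, ← IsScalarTower.algebraMap_apply,
      IsScalarTower.algebraMap_smul]
  let ψ : N →ₗ[B] N' := fC.restrictScalars B
  have hψ : IsBaseChange B' ψ := by
    refine IsBaseChange.of_equiv ((Algebra.IsPushout.cancelBaseChange B B' C C' N).symm ≪≫ₗ
      hfC.equiv.restrictScalars B') fun x => ?_
    rw [LinearEquiv.trans_apply, ← Algebra.IsPushout.cancelBaseChange_tmul B B' C C' N x,
      LinearEquiv.symm_apply_apply]
    simp [ψ, hfC.equiv_tmul]
  let e : M' ≃ₗ[B'] N' := hfB.equiv.symm ≪≫ₗ hψ.equiv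
  have key : ∀ (q : Ideal B') [q.IsPrime], FlatCA.FlatAt A' q M' ↔
      ∀ (r : Ideal C') [r.IsPrime], r.comap (algebraMap B' C') = q → FlatCA.FlatAt A' r N' := by
    intro q _
    haveI : q.LiesOver q := ⟨Ideal.comap_id q |>.symm⟩
    rw [FlatFibres.flatAt_iff_of_isBaseChange e.toLinearMap (IsBaseChange.ofEquiv e) q q,
      FlatFibres.flatAt_iff_forall_over (T := C') q N']
  constructor
  · intro hM r _ hr
    rw [sup_le_iff, Ideal.map_le_iff_le_comap, Ideal.map_le_iff_le_comap] at hr
    refine (key _).mp (hM (r.comap (algebraMap B' C')) ?_) r rfl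
    rw [sup_le_iff, Ideal.map_le_iff_le_comap, Ideal.map_le_iff_le_comap, Ideal.comap_comap, Ideal.comap_comap,
      ← IsScalarTower.algebraMap_eq, ← IsScalarTower.algebraMap_eq]
    refine ⟨hr.1, ?_⟩
    rw [IsScalarTower.algebraMap_eq B C C', ← Ideal.comap_comap]
    exact le_trans (fun b hb => Ideal.mem_comap.mpr ((mem_maximalIdeal _).mpr (map_nonunit _ b hb))) (Ideal.comap_mono hr.2)
  · intro hN q _ hq
    rw [sup_le_iff, Ideal.map_le_iff_le_comap, Ideal.map_le_iff_le_comap] at hq
    refine (key q).mpr fun r _ hrq => hN r ?_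
    rw [sup_le_iff, Ideal.map_le_iff_le_comap, Ideal.map_le_iff_le_comap]
    refine ⟨?_, ?_⟩
    · rw [IsScalarTower.algebraMap_eq A' B' C', ← Ideal.comap_comap, hrq]; exact hq.1
    · let rC : Ideal C := r.comap (algebraMap C C')
      have h1 : maximalIdeal B ≤ rC.comap (algebraMap B C) := by
        rw [Ideal.comap_comap, ← IsScalarTower.algebraMap_eq B C C', IsScalarTower.algebraMap_eq B B' C',
          ← Ideal.comap_comap, hrq]
        exact hq.2
      haveI : rC.IsPrime := inferInstanceAs ((r.comap (algebraMap C C')).IsPrime)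
      have hmax : (rC.comap (algebraMap B C)).IsMaximal :=
        (maximalIdeal.isMaximal B).eq_of_le (Ideal.IsPrime.ne_top inferInstance) h1 ▸ maximalIdeal.isMaximal B
      haveI : Algebra.IsIntegral B C := Algebra.IsIntegral.of_finite B C
      haveI : rC.IsMaximal := Ideal.isMaximal_of_isIntegral_of_isMaximal_comap rC hmax
      exact (IsLocalRing.eq_maximalIdeal (I := rC) inferInstance).ge

end Groth.Agent.S1278
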