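import Groth.Statements.S1279
import Groth.Agent.ZBBlow.Separate
import Groth.Agent.BlowUpLib.Glue
import Groth.Agent.IsoNatLib.TrivLocus

set_option autoImplicit false
universe u
open FlatMor

namespace Groth.Agent.S1279

open AlgebraicGeometry CategoryTheory Limits Topology in
/-- Let X be a quasi-compact and quasi-separated scheme, U ⊆ X a quasi-compact open, and T₁, T₂ ⊆ U
disjoint subsets which are closed and constructible in U. Then there is a U-admissible blow-up b :
X' → X such that the closures in X' of the preimages of T₁ and T₂ are disjoint. (Part (1), about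
strict transforms of closed subschemes, is not stated.) -/
theorem result {X : Scheme.{u}} [CompactSpace X] [QuasiSeparatedSpace X]
    (U : X.Opens) (hU : IsCompact (U : Set X)) (T₁ T₂ : Set U)
    (h₁ : IsClosed T₁) (h₂ : IsClosed T₂) (c₁ : IsConstructible T₁) (c₂ : IsConstructible T₂) (hd : Disjoint T₁ T₂) :
    ∃ (𝓘 : X.IdealSheafData) (X' : Scheme.{u}) (b : X' ⟶ X), BlowUp.IsBlowUp b 𝓘 ∧ BlowUp.IsAdmissibleFor U 𝓘 ∧
      Disjoint (closure (b.base ⁻¹' (Subtype.val '' T₁))) (closure (b.base ⁻¹' (Subtype.val '' T₂))) := by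
  haveI : CompactSpace (U : Scheme.{u}) := isCompact_iff_compactSpace.mp hU
  haveI : QuasiSeparatedSpace (U : Scheme.{u}) := QuasiSeparatedSpace.of_isOpenEmbedding U.ι.isOpenEmbedding
  have key : ∀ (T : Set U), IsClosed T → IsConstructible T → ∃ A : X.IdealSheafData,
      BlowUp.IsFiniteTypeIdeal A ∧ (A.support : Set X) ∩ (U : Set X) = Subtype.val '' T := by
    intro T hT cT
    have hTc : IsCompact (Tᶜ : Set (U : Scheme.{u})) :=
      IsoNatLib.isCompact_of_isConstructible (X := (U : Scheme.{u})) cT.compl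
    have hC : IsCompact (Subtype.val '' (Tᶜ : Set U) : Set X) := hTc.image continuous_subtype_val
    have hcl : closure (Subtype.val '' T) ∩ (U : Set X) = Subtype.val '' T := by
      refine Set.Subset.antisymm ?_ (Set.subset_inter subset_closure fun _ ⟨y, _, e⟩ => e ▸ y.2)
      rintro x ⟨hx, hxU⟩
      refine ⟨⟨x, hxU⟩, hT.closure_subset ?_, rfl⟩
      exact closure_subtype.mpr hx
    have hsup := Scheme.IdealSheafData.coe_support_vanishingIdeal
      (X := X) ⟨closure (Subtype.val '' T : Set X), isClosed_closure⟩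
    obtain ⟨A, hAle, hAfg, hAd⟩ := ZBBlow.exists_fg_disjoint
      (Scheme.IdealSheafData.vanishingIdeal ⟨closure (Subtype.val '' T : Set X), isClosed_closure⟩) hC (by
        rw [hsup, Set.disjoint_left]
        rintro _ ⟨y, hy, rfl⟩ h
        obtain ⟨y', hy', e⟩ := hcl.le ⟨h, y.2⟩
        exact hy (Subtype.val_injective e ▸ hy'))
    refine ⟨A, hAfg, Set.Subset.antisymm ?_ ?_⟩
    · rintro x ⟨hxA, hxU⟩
      by_contra hn
      exact Set.disjoint_left.mp hAd ⟨⟨x, hxU⟩, fun h => hn ⟨_, h, rfl⟩, rfl⟩ hxA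
    · rintro _ ⟨y, hy, rfl⟩
      refine ⟨Scheme.IdealSheafData.support_antitone hAle ?_, y.2⟩
      show (y : X) ∈ ((Scheme.IdealSheafData.vanishingIdeal
        ⟨closure (Subtype.val '' T : Set X), isClosed_closure⟩).support : Set X)
      rw [hsup]
      exact subset_closure ⟨y, hy, rfl⟩
  obtain ⟨A, hAfg, hA⟩ := key T₁ h₁ c₁
  obtain ⟨B, hBfg, hB⟩ := key T₂ h₂ c₂
  have hs : ((A ⊔ B).support : Set X) = (A.support : Set X) ∩ (B.support : Set X) := by
    rw [Scheme.IdealSheafData.support_sup]; rfl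
  have hdis : ∀ x ∈ (U : Set X), x ∉ ((A ⊔ B).support : Set X) := by
    intro x hxU hx
    rw [hs] at hx
    obtain ⟨y, hy, rfl⟩ := hA.le ⟨hx.1, hxU⟩
    obtain ⟨y', hy', e⟩ := hB.le ⟨hx.2, hxU⟩
    exact Set.disjoint_left.mp hd hy (Subtype.val_injective e ▸ hy')
  obtain ⟨X', b, hb⟩ := BlowUpLib.exists_blowUp (A ⊔ B)
  refine ⟨A ⊔ B, X', b, hb, ⟨fun W => ?_, Set.disjoint_left.mpr fun x hx hxU => hdis x hxU hx⟩, ?_⟩
  · rw [Scheme.IdealSheafData.ideal_sup, Pi.sup_apply]
    exact Submodule.FG.sup (hAfg W) (hBfg W)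
  have h := ZBBlow.disjoint_closure (𝟙 X) (A := A) (B := B) hb.1 B
    (by rw [Scheme.IdealSheafData.comap_id, Scheme.IdealSheafData.comap_id]; exact le_sup_right)
    (b.base ⁻¹' (Subtype.val '' T₁))
    (fun x hx => ⟨(hA.ge hx).1, hdis _ (hA.ge hx).2⟩)
    (pullback.snd (𝟙 X) b ⁻¹' (b.base ⁻¹' (Subtype.val '' T₂)))
    (fun z hz => by
      have e : pullback.fst (𝟙 X) b z = b (pullback.snd (𝟙 X) b z) := by
        rw [← Scheme.Hom.comp_apply, ← pullback.condition, Category.comp_id]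
      exact ⟨e ▸ (hB.ge hz).1, hdis _ (hB.ge hz).2⟩)
  rw [← (pullback.snd (𝟙 X) b).isOpenEmbedding.isOpenMap.preimage_closure_eq_closure_preimage
    (pullback.snd (𝟙 X) b).continuous] at h
  rw [Set.disjoint_left]
  intro x hx1 hx2
  obtain ⟨z, rfl⟩ := (pullback.snd (𝟙 X) b).surjective x
  exact Set.disjoint_left.mp h hx2 hx1

end Groth.Agent.S1279
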