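import Groth.Statements.S1283
import Groth.Agent.Flattening12.Dense

set_option autoImplicit false
universe u
set_option linter.style.haveILetI false
open FlatMor Groth.Agent.Flattening12

namespace Groth.Agent.S1283

open AlgebraicGeometry CategoryTheory Limits in
/-- Let φ : X → S be separated and of finite type with S quasi-compact and quasi-separated, and U ⊆ S a
quasi-compact open over which φ is an isomorphism. Then there is a U-admissible blow-up b : S' → S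
such that the strict transform X'' of X (the closed subscheme of X ×_S S' cut out by the functions
locally killed by a power of the pulled-back exceptional ideal) maps to S' by an open immersion. -/
theorem result {X S : Scheme.{u}} [CompactSpace S] [QuasiSeparatedSpace S]
    (φ : X ⟶ S) [IsSeparated φ] [LocallyOfFiniteType φ] [QuasiCompact φ] (U : S.Opens) (hU : IsCompact (U : Set S)) [IsIso (φ ∣_ U)] :
    ∃ (𝓘 : S.IdealSheafData) (S' : Scheme.{u}) (b : S' ⟶ S), BlowUp.IsBlowUp b 𝓘 ∧ BlowUp.IsAdmissibleFor U 𝓘 ∧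
      ∀ (X' : Scheme.{u}) (p₁ : X' ⟶ X) (p₂ : X' ⟶ S'), IsPullback p₁ p₂ φ b →
      ∀ (𝒥 : X'.IdealSheafData),
        (∀ (W : X'.affineOpens) (a : Γ(X', W.1)), a ∈ 𝒥.ideal W ↔
          BlowUp.KilledByPowerNear ((𝓘.comap φ).comap p₁) (Coh.structureModule X') W a) →
        IsOpenImmersion (𝒥.subschemeι ≫ p₂) := by
  obtain ⟨D, hD⟩ := exists_model_strictTransform_flat φ U hU
  refine ⟨D.centre, D.sch, D.str, D.isBlowUp, D.isAdmissible, fun X' p₁ p₂ sq 𝒥 h𝒥 => ?_⟩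
  obtain ⟨hfl, hfp, -, -⟩ := hD D le_rfl X' p₁ p₂ sq 𝒥 h𝒥
  haveI : IsSeparated p₂ := MorphismProperty.of_isPullback sq ‹IsSeparated φ›
  haveI : IsIso (p₂ ∣_ (D.str ⁻¹ᵁ U)) :=
    restrict_of_isPullback (MorphismProperty.isomorphisms Scheme.{u}) sq U ‹IsIso (φ ∣_ U)›
  haveI : IsClosedImmersion (𝒥.subschemeι ∣_ (p₂ ⁻¹ᵁ (D.str ⁻¹ᵁ U))) :=
    IsZariskiLocalAtTarget.restrict (P := @IsClosedImmersion) inferInstance _
  haveI : IsPreimmersion (𝒥.subschemeι ∣_ (p₂ ⁻¹ᵁ (D.str ⁻¹ᵁ U))) := inferInstance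
  have hm : Mono ((𝒥.subschemeι ∣_ (p₂ ⁻¹ᵁ (D.str ⁻¹ᵁ U))) ≫ (p₂ ∣_ (D.str ⁻¹ᵁ U))) := mono_comp _ _
  haveI : Mono ((𝒥.subschemeι ≫ p₂) ∣_ (D.str ⁻¹ᵁ U)) := by
    rw [morphismRestrict_comp]
    exact hm
  haveI := D.mono_of_flat (𝒥.subschemeι ≫ p₂)
  exact IsOpenImmersion.of_flat_of_mono _

end Groth.Agent.S1283
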