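import Groth.Statements.S1284
import Groth.Agent.Flattening12.Dense

set_option autoImplicit false
universe u
set_option linter.style.haveILetI false
open FlatMor Groth.Agent.Flattening12

namespace Groth.Agent.S1284

open AlgebraicGeometry CategoryTheory Limits in
/-- Let φ : X → S be proper with S quasi-compact and quasi-separated, and U ⊆ S a quasi-compact open
over which φ is finite locally free. Then there is a U-admissible blow-up b : S' → S such that the
strict transform X'' of X (the closed subscheme of X ×_S S' cut out by the functions locally killed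
by a power of the pulled-back exceptional ideal) is finite locally free over S'. -/
theorem result {X S : Scheme.{u}} [CompactSpace S] [QuasiSeparatedSpace S]
    (φ : X ⟶ S) [IsProper φ] (U : S.Opens) (hU : IsCompact (U : Set S)) (hfl : Mor2.IsFinLocFree (φ ∣_ U)) :
    ∃ (𝓘 : S.IdealSheafData) (S' : Scheme.{u}) (b : S' ⟶ S), BlowUp.IsBlowUp b 𝓘 ∧ BlowUp.IsAdmissibleFor U 𝓘 ∧
      ∀ (X' : Scheme.{u}) (p₁ : X' ⟶ X) (p₂ : X' ⟶ S'), IsPullback p₁ p₂ φ b →
      ∀ (𝒥 : X'.IdealSheafData),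
        (∀ (W : X'.affineOpens) (a : Γ(X', W.1)), a ∈ 𝒥.ideal W ↔
          BlowUp.KilledByPowerNear ((𝓘.comap φ).comap p₁) (Coh.structureModule X') W a) →
        Mor2.IsFinLocFree (𝒥.subschemeι ≫ p₂) := by
  obtain ⟨hfin, hflU, hfpU⟩ := hfl
  haveI := hflU
  haveI := hfpU
  obtain ⟨D, hD⟩ := exists_model_strictTransform_flat φ U hU
  refine ⟨D.centre, D.sch, D.str, D.isBlowUp, D.isAdmissible, fun X' p₁ p₂ sq 𝒥 h𝒥 => ?_⟩
  obtain ⟨hfl, hfp, -, -⟩ := hD D le_rfl X' p₁ p₂ sq 𝒥 h𝒥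
  haveI : IsProper p₂ := MorphismProperty.of_isPullback sq ‹IsProper φ›
  haveI : IsFinite (p₂ ∣_ (D.str ⁻¹ᵁ U)) := restrict_of_isPullback @IsFinite sq U hfin
  haveI : IsClosedImmersion (𝒥.subschemeι ∣_ (p₂ ⁻¹ᵁ (D.str ⁻¹ᵁ U))) :=
    IsZariskiLocalAtTarget.restrict (P := @IsClosedImmersion) inferInstance _
  haveI : LocallyQuasiFinite ((𝒥.subschemeι ≫ p₂) ∣_ (D.str ⁻¹ᵁ U)) := by
    rw [morphismRestrict_comp]
    haveI : IsFinite (𝒥.subschemeι ∣_ (p₂ ⁻¹ᵁ (D.str ⁻¹ᵁ U))) := inferInstance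
    exact MorphismProperty.comp_mem _ _ _ (inferInstance : LocallyQuasiFinite (𝒥.subschemeι ∣_ (p₂ ⁻¹ᵁ (D.str ⁻¹ᵁ U))))
      (inferInstance : LocallyQuasiFinite (p₂ ∣_ (D.str ⁻¹ᵁ U)))
  exact ⟨D.isFinite_of_flat (𝒥.subschemeι ≫ p₂), hfl, hfp⟩

end Groth.Agent.S1284
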