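import Groth.Statements.S1285
import Groth.Agent.FlatFibres.FiberSupp

set_option autoImplicit false
universe u
open FlatMor
open scoped TensorProduct

namespace Groth.Agent.S1285

/-- Let (C, D, G) be a one-step dévissage of N/S/R over the prime p (see FlatCA.IsOneStepDevissage), and
suppose pD is prime (the generic point of the fibre of Spec D). Then there are r > 0 and a D-linear
map α from D^r to G which becomes bijective after base change to the residue field of pD; moreover
for every such α the support of the fibre module over p of the cokernel of α has dimension strictly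
less than that of the fibre module of N. -/
theorem result {R S : Type u} [CommRing R] [CommRing S] [Algebra R S] [Algebra.FiniteType R S]
    (N : Type u) [AddCommGroup N] [Module S N] [Module R N] [IsScalarTower R S N] [Module.Finite S N] (p : Ideal R) [p.IsPrime]
    (C D G : Type u) [CommRing C] [CommRing D] [Algebra S C] [Algebra R C] [IsScalarTower R S C]
    [Algebra R D] [Algebra D C] [IsScalarTower R D C] [AddCommGroup G] [Module C G] [Module S G] [IsScalarTower S C G]
    [Module D G] [IsScalarTower D C G] [Module R G] [IsScalarTower R D G]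
    (n : ℕ) (h : FlatCA.IsOneStepDevissage R S N p C D G n) [(p.map (algebraMap R D)).IsPrime] :
    (∃ (r : ℕ) (α : (Fin r → D) →ₗ[D] G), 0 < r ∧ Function.Bijective (α.baseChange (p.map (algebraMap R D)).ResidueField)) ∧
    ∀ (r : ℕ) (α : (Fin r → D) →ₗ[D] G), Function.Bijective (α.baseChange (p.map (algebraMap R D)).ResidueField) →
      Module.supportDim (p.Fiber D) (FlatCA.fiberMod p D (G ⧸ LinearMap.range α)) < (n : WithBot ℕ∞) := by
  obtain ⟨⟨eNG⟩, hsurj, -, hDC, hCG, hsmooth, -, hdim⟩ := h
  haveI := hDC; haveI := hCG
  haveI : Module.Finite D G := Module.Finite.trans C G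
  haveI : Algebra.IsIntegral D C := Algebra.IsIntegral.of_finite D C
  set η : PrimeSpectrum D := ⟨p.map (algebraMap R D), inferInstance⟩ with hη
  rw [FlatFibres.supportDim_fiberMod] at hdim
  -- every point of the fibre support of `N` gives one of `G` over `D`
  have hker : ∀ P ∈ FlatFibres.fibSupp p S N, RingHom.ker (algebraMap S C) ≤ P.asIdeal := by
    intro P hP s hs
    by_contra hsP
    have hG : P ∈ Module.support S G := eNG.support_eq ▸ hP.1
    obtain ⟨m, hm⟩ := Module.mem_support_iff'.mp hG
    exact hm s hsP (by rw [← IsScalarTower.algebraMap_smul C s m, RingHom.mem_ker.mp hs, zero_smul])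
  have hcomap : ∀ P ∈ FlatFibres.fibSupp p S N,
      (P.asIdeal.map (algebraMap S C)).comap (algebraMap S C) = P.asIdeal := by
    intro P hP
    rw [Ideal.comap_map_of_surjective _ hsurj, sup_eq_left]
    exact hker P hP
  have hprime : ∀ P ∈ FlatFibres.fibSupp p S N, (P.asIdeal.map (algebraMap S C)).IsPrime := fun P hP =>
    Ideal.map_isPrime_of_surjective hsurj (hker P hP)
  let F : FlatFibres.fibSupp p S N → FlatFibres.fibSupp p D G := fun P =>
    ⟨⟨(P.1.asIdeal.map (algebraMap S C)).comap (algebraMap D C), (hprime P.1 P.2).comap (algebraMap D C)⟩, by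
      constructor
      · have hG : P.1 ∈ Module.support S G := eNG.support_eq ▸ P.2.1
        obtain ⟨m, hm⟩ := Module.mem_support_iff'.mp hG
        refine Module.mem_support_iff'.mpr ⟨m, fun d hd => ?_⟩
        obtain ⟨s, hs⟩ := hsurj (algebraMap D C d)
        have hsP : s ∉ P.1.asIdeal := fun h' => hd (by
          show algebraMap D C d ∈ P.1.asIdeal.map (algebraMap S C)
          rw [← hs]; exact Ideal.mem_map_of_mem _ h')
        rw [← IsScalarTower.algebraMap_smul C d m, ← hs, IsScalarTower.algebraMap_smul]
        exact hm s hsP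
      · show Ideal.comap (algebraMap R D) (Ideal.comap (algebraMap D C) _) = p
        rw [Ideal.comap_comap, ← IsScalarTower.algebraMap_eq, IsScalarTower.algebraMap_eq R S C,
          ← Ideal.comap_comap, hcomap P.1 P.2]
        exact P.2.2⟩
  have hF : StrictMono F := by
    intro P Q hPQ
    have h1 : P.1.asIdeal.map (algebraMap S C) < Q.1.asIdeal.map (algebraMap S C) := by
      refine lt_of_le_of_ne (Ideal.map_mono hPQ.le) fun he => hPQ.ne (Subtype.ext (PrimeSpectrum.ext ?_))
      rw [← hcomap P.1 P.2, ← hcomap Q.1 Q.2, he]
    haveI := hprime P.1 P.2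
    exact Ideal.IsIntegral.comap_lt_comap (R := D) h1
  have hnD : (n : WithBot ℕ∞) ≤ Order.krullDim (FlatFibres.fibSupp p D G) :=
    hdim.ge.trans (Order.krullDim_le_of_strictMono F hF)
  have hle : ∀ P : PrimeSpectrum D, P.asIdeal.comap (algebraMap R D) = p → η ≤ P := fun P hP =>
    Ideal.map_le_iff_le_comap.mpr hP.ge
  -- modules vanishing at the generic point of the fibre have smaller dimension
  have hlt : ∀ (Q : Type u) [AddCommGroup Q] [Module D Q], η ∉ Module.support D Q →
      Order.krullDim (FlatFibres.fibSupp p D Q) < (n : WithBot ℕ∞) := by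
    intro Q _ _ hQ
    have hlen : ∀ l : LTSeries (FlatFibres.fibSupp p D Q), l.length + 1 ≤ n := by
      intro l
      have hη0 : η.asIdeal.comap (algebraMap R D) = p := le_antisymm
        ((Ideal.comap_mono (hle l.head.1 l.head.2.2)).trans l.head.2.2.le) (Ideal.le_comap_map)
      let incl : FlatFibres.fibSupp p D Q → {P : PrimeSpectrum D | P.asIdeal.comap (algebraMap R D) = p} :=
        fun P => ⟨P.1, P.2.2⟩
      have hl := FlatFibres.length_le_of_smoothRelDim p D hsmooth ((l.map incl fun _ _ h => h).cons ⟨η, hη0⟩
        (show η < l.head.1 from lt_of_le_of_ne (hle _ l.head.2.2) fun he => hQ (he ▸ l.head.2.1)))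
      change 0 + l.length + 1 ≤ n at hl
      omega
    rcases isEmpty_or_nonempty (FlatFibres.fibSupp p D Q) with hE | ⟨⟨P, hP⟩⟩
    · rw [Order.krullDim_eq_bot]; exact WithBot.bot_lt_coe _
    · obtain ⟨n', rfl⟩ : ∃ n', n = n' + 1 := ⟨n - 1, by have := hlen (RelSeries.singleton _ ⟨P, hP⟩); simp at this; omega⟩
      have hk : Order.krullDim (FlatFibres.fibSupp p D Q) ≤ (n' : WithBot ℕ∞) := iSup_le fun l => by
        have := hlen l
        exact_mod_cast (show l.length ≤ n' by omega)
      exact hk.trans_lt (by exact_mod_cast Nat.lt_succ_self n')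
  refine ⟨?_, fun r α hα => ?_⟩
  · have hηG : η ∈ Module.support D G := by
      by_contra hc
      exact absurd (hlt G hc) (not_lt.mpr hnD)
    haveI : Nontrivial (η.asIdeal.ResidueField ⊗[D] G) :=
      Module.mem_support_iff_nontrivial_residueField_tensorProduct η |>.mp hηG
    haveI : Module.Finite η.asIdeal.ResidueField (η.asIdeal.ResidueField ⊗[D] G) := inferInstance
    let v : G → η.asIdeal.ResidueField ⊗[D] G := fun g => 1 ⊗ₜ g
    have hspan : Submodule.span η.asIdeal.ResidueField (Set.range v) = ⊤ := by
      rw [eq_top_iff]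
      rintro z -
      induction z with
      | zero => exact zero_mem _
      | tmul a g =>
        rw [show a ⊗ₜ[D] g = a • v g by rw [TensorProduct.smul_tmul', smul_eq_mul, mul_one]]
        exact Submodule.smul_mem _ a (Submodule.subset_span ⟨g, rfl⟩)
      | add a b ha hb => exact add_mem ha hb
    obtain ⟨b, hb, hbspan, hbind⟩ := exists_linearIndependent η.asIdeal.ResidueField (Set.range v)
    haveI : Fintype b := @Fintype.ofFinite _ hbind.finite
    let eb := (Fintype.equivFin b).symm
    choose g hg using fun i : Fin (Fintype.card b) => hb (eb i).2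
    refine ⟨Fintype.card b, Fintype.linearCombination D g, ?_, ?_⟩
    · rw [Fintype.card_pos_iff]
      by_contra hc
      rw [not_nonempty_iff, Set.isEmpty_coe_sort] at hc
      rw [hc, Submodule.span_empty, hspan] at hbspan
      exact bot_ne_top hbspan
    · have hs : Function.Surjective ((Fintype.linearCombination D g).baseChange η.asIdeal.ResidueField) := by
        rw [← LinearMap.range_eq_top, eq_top_iff, ← hspan, ← hbspan, Submodule.span_le]
        intro x hx
        refine ⟨1 ⊗ₜ Pi.single (eb.symm ⟨x, hx⟩) 1, ?_⟩
        have := hg (eb.symm ⟨x, hx⟩)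
        rw [Equiv.apply_symm_apply] at this
        simpa [v, Fintype.linearCombination_apply_single] using this
      refine ⟨(LinearMap.injective_iff_surjective_of_finrank_eq_finrank ?_).mpr hs, hs⟩
      haveI : Nontrivial D := (algebraMap D η.asIdeal.ResidueField).domain_nontrivial
      have hcard : Module.finrank η.asIdeal.ResidueField (η.asIdeal.ResidueField ⊗[D] G) = Fintype.card b := by
        rw [← finrank_top, ← hspan, ← hbspan, finrank_span_set_eq_card hbind, Set.toFinset_card]
      rw [Module.finrank_baseChange, Module.finrank_fintype_fun_eq_card, Fintype.card_fin]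
      exact hcard.symm
  · rw [FlatFibres.supportDim_fiberMod]
    refine hlt _ fun hc => ?_
    rw [Module.mem_support_iff_nontrivial_residueField_tensorProduct, ← not_subsingleton_iff_nontrivial] at hc
    refine hc (subsingleton_of_forall_eq 0 fun z => ?_)
    obtain ⟨w, rfl⟩ := LinearMap.lTensor_surjective η.asIdeal.ResidueField (LinearMap.range α).mkQ_surjective z
    obtain ⟨x, rfl⟩ := hα.2 w
    rw [show α.baseChange η.asIdeal.ResidueField x = α.lTensor η.asIdeal.ResidueField x from rfl,
      ← LinearMap.comp_apply, ← LinearMap.lTensor_comp,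
      show (LinearMap.range α).mkQ ∘ₗ α = 0 from LinearMap.range_le_ker_iff.mp (by rw [Submodule.ker_mkQ]),
      LinearMap.lTensor_zero, LinearMap.zero_apply]

end Groth.Agent.S1285
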