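import Groth.Statements.S12913
import Groth.Agent.CurvFam16.NegFilt.Main
import Groth.Agent.CurveCohLib.RegularCurve
import Groth.Agent.Lib.CurvePoint

set_option autoImplicit false
set_option linter.style.haveILetI false
set_option backward.isDefEq.respectTransparency false
set_option backward.isDefEq.respectTransparency.types false
universe u
open CategoryTheory CategoryTheory.Limits AlgebraicGeometry
open Curves Groth.Agent

namespace Groth.Agent.S12913

/-- Let k be an algebraically closed field, C a curve over k (integral, proper over k, of dimension one,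
all local rings regular), and N a locally free O_C-module of rank r which admits a monomorphism into
O_C^m for some m and has no nonzero global section. Then there is a filtration N = N_0 ⊃ N_1 ⊃ ⋯ ⊃
N_r = 0 whose successive quotients are invertible sheaves of strictly negative degree; it is given
here as modules M_0, …, M_r with M_0 ≅ N, M_r = 0 and monomorphisms M_{j+1} → M_j whose cokernels
are invertible of negative degree. -/
theorem result (k : Type u) [Field k] [IsAlgClosed k]
    (C : Scheme.{u}) [C.Over (Spec (CommRingCat.of k))] [IsIntegral C] [IsProper (C ↘ (Spec (CommRingCat.of k)))]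
    (hdim : topologicalKrullDim C = 1) (hreg : ∀ x : C, IsRegularLocalRing (C.presheaf.stalk x))
    (N : C.Modules) (r : ℕ) (hN : FlatMod.IsFinLocFreeOfRank r N) (m : ℕ) (ι : N ⟶ FlatMod.freeMod C m) [Mono ι]
    (h0 : ∀ s : LinSer.Sect C N, s = 0) :
    ∃ (M : Fin (r + 1) → C.Modules) (f : (j : Fin r) → (M j.succ ⟶ M j.castSucc)),
      Nonempty (M 0 ≅ N) ∧ IsZero (M (Fin.last r)) ∧
        ∀ j : Fin r, Mono (f j) ∧ PicF.IsInvertible (cokernel (f j)) ∧ Curv2.deg k C (cokernel (f j)) 1 < 0 := by
  classical
  haveI : Smooth (C ↘ Spec (CommRingCat.of k)) :=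
    CurveCohLib.RegularCurve.smooth_of_regular k fun x _ => hreg x
  have hhom : ∀ h : Coh.structureModule C ⟶ N, h = 0 := fun h => by
    ext U s
    have h1 : h.app ⊤ (1 : Γ(C, ⊤)) = 0 := h0 _
    have h2 : s = (show Γ(C, U) from s) • AModX.res (Coh.structureModule C) (le_top : U ≤ ⊤) (1 : Γ(C, ⊤)) := by
      rw [show AModX.res (Coh.structureModule C) (le_top : U ≤ ⊤) (1 : Γ(C, ⊤)) = (1 : Γ(C, U)) from
        map_one (C.presheaf.map (homOfLE (le_top : U ≤ ⊤)).op).hom]
      exact (mul_one (show Γ(C, U) from s)).symm
    rw [h2, Scheme.Modules.Hom.app_smul, AModX.app_res, h1, map_zero, smul_zero]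
    rfl
  let π : Fin m → (FlatMod.freeMod C m ⟶ Coh.structureModule C) := fun i =>
    (biproduct.isoCoproduct _).inv ≫ biproduct.π _ i
  refine CurvFam16.NegFilt.exists_filtration k hdim.le r N hN hhom m (fun i => ι ≫ π i) fun Z h hh => ?_
  refine (cancel_mono ι).1 ((cancel_mono (biproduct.isoCoproduct fun _ : Fin m => Coh.structureModule C).inv).1 ?_)
  rw [zero_comp, zero_comp]
  refine biproduct.hom_ext _ _ fun i => ?_
  simp only [Category.assoc, zero_comp]
  exact hh i

end Groth.Agent.S12913
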