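import Groth.Statements.S13047
import Mathlib.Algebra.QuadraticAlgebra.Basic
import Mathlib.Tactic.LinearCombination
import Mathlib.Tactic.Ring
import Mathlib.RingTheory.Polynomial.Quotient
-- import your own Groth.Agent.* helpers here

set_option autoImplicit false
universe u
open FrobAlg

namespace Groth.Agent.S13047

open Polynomial W4c1imperftorsors TensorProduct

section Helpers

variable (p : ℕ) [Fact p.Prime] (R : Type u) [CommRing R] [CharP R p] (u v : R)

local notation "B" => (R[X] ⧸ Ideal.span {(C u * X : R[X]), X ^ 2 - C (v ^ 2)})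

variable (i : ℕ)

/-- The class of `α` in the twist. -/
noncomputable def al : W4c1imperftorsors.Twist p R B i :=
  (1 : R) ⊗ₜ[Src p R i] (aEquiv p R B i).symm (Ideal.Quotient.mk _ X)

omit [Fact p.Prime] [CharP R p] in
theorem mk_C (r : R) : (Ideal.Quotient.mk (Ideal.span {(C u * X : R[X]), X ^ 2 - C (v ^ 2)})) (C r) =
    algebraMap R B r := rfl

theorem smul_one_tmul (s : R) (b : B) :
    (s ^ p ^ i) • ((1 : R) ⊗ₜ[Src p R i] (aEquiv p R B i).symm b : W4c1imperftorsors.Twist p R B i) =
      (1 : R) ⊗ₜ[Src p R i] (aEquiv p R B i).symm (algebraMap R B s * b) := by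
  rw [TensorProduct.smul_tmul', smul_eq_mul, mul_one, map_mul,
    show (aEquiv p R B i).symm (algebraMap R B s) =
      algebraMap (Src p R i) (ASrc p R B i) ((srcEquiv p R i).symm s) from rfl, ← Algebra.smul_def,
    ← TensorProduct.smul_tmul, Algebra.smul_def, mul_one, algebraMap_src, RingEquiv.apply_symm_apply]

theorem smul_al_eq_zero : (u ^ p ^ i) • al p R u v i = 0 := by
  have h : algebraMap R B u * Ideal.Quotient.mk _ X = 0 := by
    rw [← mk_C, ← map_mul, Ideal.Quotient.eq_zero_iff_mem]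
    exact Ideal.subset_span (Set.mem_insert _ _)
  rw [al, smul_one_tmul, h, map_zero, TensorProduct.tmul_zero]

/-- Every element of the twist is `a + b α`. -/
theorem exists_eq (x : W4c1imperftorsors.Twist p R B i) :
    ∃ a b : R, x = algebraMap R _ a + b • al p R u v i := by
  induction x using TensorProduct.induction_on with
  | zero => exact ⟨0, 0, by simp⟩
  | tmul r b =>
    obtain ⟨f, hf⟩ := Ideal.Quotient.mk_surjective (aEquiv p R B i b)
    have hm : (X ^ 2 - C (v ^ 2) : R[X]).Monic := monic_X_pow_sub_C _ two_ne_zero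
    obtain ⟨c, d, hcd⟩ : ∃ c d, f %ₘ (X ^ 2 - C (v ^ 2)) = C d * X + C c := by
      refine ⟨_, _, eq_X_add_C_of_natDegree_le_one ?_⟩
      rcases subsingleton_or_nontrivial R with h | h
      · exact le_of_eq_of_le (natDegree_of_subsingleton) zero_le_one
      · have h2 := natDegree_modByMonic_lt f hm (by
          intro h'
          have h3 := congrArg natDegree h'
          rw [natDegree_X_pow_sub_C, natDegree_one] at h3
          omega)
        rw [natDegree_X_pow_sub_C] at h2
        omega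
    have hb : b = (aEquiv p R B i).symm (algebraMap R B c * 1 + algebraMap R B d * Ideal.Quotient.mk _ X) := by
      rw [← (aEquiv p R B i).symm_apply_apply b, ← hf, mul_one, ← mk_C, ← mk_C, ← map_mul, ← map_add]
      congr 1
      rw [Ideal.Quotient.mk_eq_mk_iff_sub_mem, add_comm, ← hcd]
      have h2 : f - f %ₘ (X ^ 2 - C (v ^ 2)) = (X ^ 2 - C (v ^ 2)) * (f /ₘ (X ^ 2 - C (v ^ 2))) :=
        sub_eq_of_eq_add (by rw [add_comm, modByMonic_add_div f (X ^ 2 - C (v ^ 2))])
      rw [h2]
      exact Ideal.mul_mem_right _ _ (Ideal.subset_span (Set.mem_insert_of_mem _ rfl))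
    refine ⟨r * c ^ p ^ i, r * d ^ p ^ i, ?_⟩
    rw [hb, map_add, TensorProduct.tmul_add, mul_smul, al, smul_one_tmul,
      Algebra.algebraMap_eq_smul_one (A := W4c1imperftorsors.Twist p R B i), mul_smul, Algebra.TensorProduct.one_def,
      show (1 : ASrc p R B i) = (aEquiv p R B i).symm 1 from rfl, smul_one_tmul,
      TensorProduct.smul_tmul', TensorProduct.smul_tmul', smul_eq_mul]
    simp only [mul_one]
  | add x y hx hy =>
    obtain ⟨a, b, rfl⟩ := hx
    obtain ⟨c, d, rfl⟩ := hy
    exact ⟨a + c, b + d, by rw [map_add, add_smul]; abel⟩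

/-- Evaluation of the twist. -/
theorem exists_hom {T : Type u} [CommRing T] [Algebra R T] (a : T)
    (h1 : algebraMap R T (u ^ p ^ i) * a = 0) (h2 : a ^ 2 = algebraMap R T ((v ^ p ^ i) ^ 2)) :
    ∃ φ : W4c1imperftorsors.Twist p R B i →+* T, ∀ r s : R,
      φ (algebraMap R _ r + s • al p R u v i) = algebraMap R T r + algebraMap R T s * a := by
  letI : Algebra (Src p R i) T := ((algebraMap R T).comp (algebraMap (Src p R i) R)).toAlgebra
  haveI : IsScalarTower (Src p R i) R T := .of_algebraMap_eq fun _ => rfl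
  let g0 : R[X] →+* T := eval₂RingHom ((algebraMap R T).comp (iterateFrobenius R p i)) a
  let g : B →+* T := Ideal.Quotient.lift _ g0 fun f hf => by
    induction hf using Submodule.span_induction with
    | mem f hf =>
      rcases hf with rfl | rfl
      · change eval₂ _ a (C u * X) = 0
        rw [eval₂_mul, eval₂_C, eval₂_X]
        exact h1
      · change eval₂ _ a (X ^ 2 - C (v ^ 2)) = 0
        rw [eval₂_sub, eval₂_X_pow, eval₂_C, h2, RingHom.comp_apply, iterateFrobenius_def, sub_eq_zero,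
          ← pow_mul, ← pow_mul, mul_comm]
    | zero => exact map_zero g0
    | add x y _ _ hx hy => rw [map_add, hx, hy, add_zero]
    | smul r x _ hx => rw [smul_eq_mul, map_mul, hx, mul_zero]
  let g' : ASrc p R B i →ₐ[Src p R i] T :=
    { toRingHom := g.comp (aEquiv p R B i).toRingHom
      commutes' := fun s => by
        change g (algebraMap R B (srcEquiv p R i s)) = _
        change eval₂ _ a (C (srcEquiv p R i s)) = _
        rw [eval₂_C]
        rfl }
  refine ⟨(Algebra.TensorProduct.lift (Algebra.ofId R T) g' fun _ _ => Commute.all _ _).toRingHom, fun r s => ?_⟩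
  rw [AlgHom.toRingHom_eq_coe, RingHom.coe_coe, map_add, AlgHom.commutes, map_smul, al,
    Algebra.TensorProduct.lift_tmul, map_one, one_mul, Algebra.smul_def]
  congr 2
  change eval₂ _ a X = a
  rw [eval₂_X]

theorem coeff_eq (huv : u * v = 0) {a b a' b' : R}
    (h : algebraMap R (W4c1imperftorsors.Twist p R B i) a + b • al p R u v i =
      algebraMap R _ a' + b' • al p R u v i) :
    a = a' ∧ b - b' ∈ Ideal.span {u ^ p ^ i} := by
  let U : Ideal R := Ideal.span {u ^ p ^ i}
  have hUV : u ^ p ^ i * v ^ p ^ i = 0 := by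
    rw [← mul_pow, huv, zero_pow (pow_ne_zero _ (Fact.out : p.Prime).ne_zero)]
  obtain ⟨φ, hφ⟩ := exists_hom p R u v i (T := R) (v ^ p ^ i) (by simpa using hUV) (by simp)
  have e1 := congrArg φ h
  rw [hφ, hφ] at e1
  simp only [Algebra.algebraMap_self, RingHom.id_apply] at e1
  have hU0 : Ideal.Quotient.mk U (u ^ p ^ i) = 0 :=
    Ideal.Quotient.eq_zero_iff_mem.2 (Ideal.mem_span_singleton_self _)
  obtain ⟨ψ, hψ⟩ := exists_hom p R u v i
    (T := QuadraticAlgebra (R ⧸ U) (Ideal.Quotient.mk U ((v ^ p ^ i) ^ 2)) 0) QuadraticAlgebra.omega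
    (by
      rw [IsScalarTower.algebraMap_apply R (R ⧸ U) (QuadraticAlgebra _ _ _), Ideal.Quotient.algebraMap_eq, hU0,
        map_zero, zero_mul])
    (by
      rw [pow_two (QuadraticAlgebra.omega), QuadraticAlgebra.omega_mul_omega_eq_algebraMap,
        IsScalarTower.algebraMap_apply R (R ⧸ U) (QuadraticAlgebra _ _ _), Ideal.Quotient.algebraMap_eq, map_zero,
        zero_mul, add_zero])
  have e2 := congrArg (fun z => (ψ z).im) h
  simp only [hψ] at e2
  simp only [IsScalarTower.algebraMap_apply R (R ⧸ U) (QuadraticAlgebra _ _ _), QuadraticAlgebra.algebraMap_eq,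
    QuadraticAlgebra.im_add, QuadraticAlgebra.im_mul, QuadraticAlgebra.omega_im, QuadraticAlgebra.omega_re,
    mul_one, mul_zero, zero_mul, add_zero, zero_add, Ideal.Quotient.algebraMap_eq] at e2
  have hb : b - b' ∈ U := Ideal.Quotient.eq.1 e2
  refine ⟨?_, hb⟩
  obtain ⟨c, hc⟩ := Ideal.mem_span_singleton'.1 hb
  linear_combination e1 + (v ^ p ^ i) * hc + (-c) * hUV

end Helpers

section Main


theorem relFrob_al (p : ℕ) [Fact p.Prime] (R : Type u) [CommRing R] [CharP R p] (u v : R)
    [CharP (R[X] ⧸ Ideal.span {(C u * X : R[X]), X ^ 2 - C (v ^ 2)}) p] (i : ℕ) (hp : p ≠ 2) :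
    W4c1imperftorsors.relFrob p R (R[X] ⧸ Ideal.span {(C u * X : R[X]), X ^ 2 - C (v ^ 2)}) i (al p R u v (i + 1)) = (v ^ (p ^ i * (p - 1))) • al p R u v i := by
  obtain ⟨k, hk⟩ : ∃ k, p = 2 * k + 1 := ((Fact.out : p.Prime).odd_of_ne_two hp)
  have hsq : (Ideal.Quotient.mk _ X : (R[X] ⧸ Ideal.span {(C u * X : R[X]), X ^ 2 - C (v ^ 2)})) ^ 2 = algebraMap R (R[X] ⧸ Ideal.span {(C u * X : R[X]), X ^ 2 - C (v ^ 2)}) v ^ 2 := by
    rw [← map_pow, ← map_pow, ← mk_C, Ideal.Quotient.mk_eq_mk_iff_sub_mem]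
    exact Ideal.subset_span (Set.mem_insert_of_mem _ rfl)
  have hpow : (Ideal.Quotient.mk _ X : (R[X] ⧸ Ideal.span {(C u * X : R[X]), X ^ 2 - C (v ^ 2)})) ^ p = algebraMap R (R[X] ⧸ Ideal.span {(C u * X : R[X]), X ^ 2 - C (v ^ 2)}) (v ^ (p - 1)) * Ideal.Quotient.mk _ X := by
    conv_lhs => rw [hk, pow_succ, pow_mul, hsq, ← pow_mul, ← map_pow]
    rw [show p - 1 = 2 * k by omega]
  change Algebra.TensorProduct.lift (inclLeft p R (R[X] ⧸ Ideal.span {(C u * X : R[X]), X ^ 2 - C (v ^ 2)}) i) (frobRight p R (R[X] ⧸ Ideal.span {(C u * X : R[X]), X ^ 2 - C (v ^ 2)}) i) (fun _ _ => Commute.all _ _)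
    ((1 : R) ⊗ₜ[Src p R (i + 1)] (aEquiv p R (R[X] ⧸ Ideal.span {(C u * X : R[X]), X ^ 2 - C (v ^ 2)}) (i + 1)).symm (Ideal.Quotient.mk _ X)) = _
  rw [Algebra.TensorProduct.lift_tmul, map_one, one_mul, al, mul_comm (p ^ i), pow_mul, smul_one_tmul, ← hpow]
  rfl

theorem bijective (p : ℕ) [Fact p.Prime] (R : Type u) [CommRing R] [CharP R p] (u v : R)
    [CharP (R[X] ⧸ Ideal.span {(C u * X : R[X]), X ^ 2 - C (v ^ 2)}) p] (hp : p ≠ 2) (huv : u * v = 0)
    (hsep : ∀ N : ℕ, 1 ≤ N → ∀ g : R,
      (∀ n : ℕ, g ∈ Ideal.span {v ^ n} ⊔ Ideal.span {u ^ N}) → g ∈ Ideal.span {u ^ N}) :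
    Function.Bijective (algebraMap R ↥(prePerf p R (R[X] ⧸ Ideal.span {(C u * X : R[X]), X ^ 2 - C (v ^ 2)}))) := by
  constructor
  · intro r s h
    have h0 : algebraMap R (W4c1imperftorsors.Twist p R (R[X] ⧸ Ideal.span {(C u * X : R[X]), X ^ 2 - C (v ^ 2)}) 0) r = algebraMap R _ s :=
      congrFun (congrArg Subtype.val h) 0
    exact (coeff_eq p R u v 0 huv (b := 0) (b' := 0) (by simpa using h0)).1
  · intro x
    choose a b hab using fun i => exists_eq p R u v i (x.1 i)
    have hx : ∀ i, W4c1imperftorsors.relFrob p R (R[X] ⧸ Ideal.span {(C u * X : R[X]), X ^ 2 - C (v ^ 2)}) i (x.1 (i + 1)) = x.1 i := by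
      intro i
      have := x.2
      simp only [prePerf, Algebra.mem_iInf, AlgHom.mem_equalizer] at this
      exact this i
    have hstep : ∀ i, a (i + 1) = a i ∧
        b (i + 1) * v ^ (p ^ i * (p - 1)) - b i ∈ Ideal.span {u ^ p ^ i} := by
      intro i
      have h := hx i
      rw [hab (i + 1), hab i, map_add, AlgHom.commutes, map_smul, relFrob_al p R u v i hp, smul_smul] at h
      exact coeff_eq p R u v i huv h
    have hb : ∀ n i, b i ∈ Ideal.span {v ^ n} ⊔ Ideal.span {u ^ p ^ i} := by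
      intro n
      induction n with
      | zero => intro i; simp
      | succ n ih =>
        intro i
        obtain ⟨c, hc⟩ := Ideal.mem_span_singleton'.1 (hstep i).2
        obtain ⟨y, hy, z, hz, hyz⟩ := Submodule.mem_sup.1 (ih (i + 1))
        obtain ⟨d, rfl⟩ := Ideal.mem_span_singleton'.1 hy
        obtain ⟨e, rfl⟩ := Ideal.mem_span_singleton'.1 hz
        obtain ⟨m, hm⟩ : ∃ m, p ^ i * (p - 1) = m + 1 := by
          have := (Fact.out : p.Prime).two_le
          have : 0 < p ^ i * (p - 1) := Nat.mul_pos (pow_pos (by omega) i) (by omega)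
          exact ⟨p ^ i * (p - 1) - 1, by omega⟩
        have hexp : b i = (d * v ^ m) * v ^ (n + 1) +
            (e * v ^ (m + 1) * (u ^ p ^ i) ^ (p - 1) - c) * u ^ p ^ i := by
          rw [← hyz, hm] at hc
          have hpp : u ^ p ^ (i + 1) = (u ^ p ^ i) ^ (p - 1) * u ^ p ^ i := by
            rw [← pow_succ, show p - 1 + 1 = p by have := (Fact.out : p.Prime).pos; omega, ← pow_mul, ← pow_succ]
          rw [hpp] at hc
          linear_combination hc
        rw [hexp]
        exact Submodule.mem_sup.2 ⟨_, Ideal.mem_span_singleton'.2 ⟨_, rfl⟩, _, Ideal.mem_span_singleton'.2 ⟨_, rfl⟩, rfl⟩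
    refine ⟨a 0, Subtype.ext (funext fun i => ?_)⟩
    have ha : ∀ i, a i = a 0 := fun i => by
      induction i with
      | zero => rfl
      | succ i ih => rw [(hstep i).1, ih]
    obtain ⟨c, hc⟩ := Ideal.mem_span_singleton'.1
      (hsep (p ^ i) (Nat.one_le_pow _ _ (Fact.out : p.Prime).pos) (b i) fun n => hb n i)
    rw [hab i, ha i, ← hc, mul_smul, smul_al_eq_zero, smul_zero, add_zero]
    rfl

end Main


open Polynomial in
/-- Let p be an odd prime, R a commutative ring of characteristic p and u, v ∈ R with uv = 0, such that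
for every N ≥ 1 an element of R lying in (v^n) + (u^N) for all n lies in (u^N) (v-adic separatedness
of R/(u^N)). Let B = R[α]/(uα, α² − v²), an R-algebra of characteristic p, with Frobenius twists
B^{p^i/R} = R ⊗_{F^i,R} B and preperfection B^{p^∞/R} = lim_i B^{p^i/R} along the relative Frobenius
maps. Then the structure map R → B^{p^∞/R} is bijective: the preperfection of B is R. (The published
statement is for R = F_p[[u, v]]/(uv), where B arises as the preperfection of R[x, y, 1/(x − y)]/(xy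
− u), so that the second preperfection of that algebra is R although the first is not perfect; the
printed computation uses only the hypotheses listed here, which that R satisfies.) -/
theorem result
    (p : ℕ) [Fact p.Prime] (hp : p ≠ 2) (R : Type u) [CommRing R] [CharP R p]
    (u v : R) (huv : u * v = 0)
    (hsep : ∀ N : ℕ, 1 ≤ N → ∀ g : R,
      (∀ n : ℕ, g ∈ Ideal.span {v ^ n} ⊔ Ideal.span {u ^ N}) → g ∈ Ideal.span {u ^ N})
    [CharP (R[X] ⧸ Ideal.span {(C u * X : R[X]), X ^ 2 - C (v ^ 2)}) p] :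
    Function.Bijective
      (algebraMap R ↥(W4c1imperftorsors.prePerf p R
        (R[X] ⧸ Ideal.span {(C u * X : R[X]), X ^ 2 - C (v ^ 2)}))) := by
  exact bijective p R u v hp huv hsep

end Groth.Agent.S13047
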