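import Groth.Statements.S13063
import Groth.Agent.ZH85.LangWeil.Components

set_option autoImplicit false
set_option linter.style.haveILetI false
universe u
open CategoryTheory AlgebraicGeometry Limits
open Zeta

namespace Groth.Agent.S13063

/-- Let X be a scheme of finite type over a finite field k with q elements, of dimension r. For each
irreducible component Z of X of dimension r let m_Z be the number of irreducible components of its
preimage in X ×_k k̄, k̄ an algebraic closure of k, and put a_e = ∑_{Z : m_Z ∣ e} m_Z. Then there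
are constants α, α' > 0 such that for every e ≥ 1: if a_e > 0 then |N_e − a_e q^{er}| ≤ α q^{e(r −
1/2)}, and if a_e = 0 then N_e ≤ α' q^{e(r − 1)}, where N_e = ∑_{d ∣ e} d · #{closed points of
residue degree d} is the number of points of X in the degree-e extension of k. (Stated for schemes
of finite type; reducedness plays no role.) -/
theorem result {k : Type u} [Field k] [Finite k] {X : Scheme.{u}}
    (f : X ⟶ Spec (CommRingCat.of k)) [LocallyOfFiniteType f] [QuasiCompact f] (r : ℕ)
    (hr : topologicalKrullDim X = r) :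
    ∃ α α' : ℝ, 0 < α ∧ 0 < α' ∧ ∀ e : ℕ, 1 ≤ e →
      (0 < (∑ᶠ (Z : Set X) (_ : Z ∈ irreducibleComponents X ∧ topologicalKrullDim Z = r ∧
            Nat.card (irreducibleComponents ((pullback.fst f (Spec.map (CommRingCat.ofHom
              (algebraMap k (AlgebraicClosure k))))).base ⁻¹' Z)) ∣ e),
          Nat.card (irreducibleComponents ((pullback.fst f (Spec.map (CommRingCat.ofHom
              (algebraMap k (AlgebraicClosure k))))).base ⁻¹' Z))) →
        |(Zeta.nPts f e : ℝ) -
            (∑ᶠ (Z : Set X) (_ : Z ∈ irreducibleComponents X ∧ topologicalKrullDim Z = r ∧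
              Nat.card (irreducibleComponents ((pullback.fst f (Spec.map (CommRingCat.ofHom
                (algebraMap k (AlgebraicClosure k))))).base ⁻¹' Z)) ∣ e),
            Nat.card (irreducibleComponents ((pullback.fst f (Spec.map (CommRingCat.ofHom
                (algebraMap k (AlgebraicClosure k))))).base ⁻¹' Z)) : ℕ) *
              (Nat.card k : ℝ) ^ (e * r)| ≤
          α * (Nat.card k : ℝ) ^ ((e : ℝ) * ((r : ℝ) - 1 / 2))) ∧
      ((∑ᶠ (Z : Set X) (_ : Z ∈ irreducibleComponents X ∧ topologicalKrullDim Z = r ∧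
            Nat.card (irreducibleComponents ((pullback.fst f (Spec.map (CommRingCat.ofHom
              (algebraMap k (AlgebraicClosure k))))).base ⁻¹' Z)) ∣ e),
          Nat.card (irreducibleComponents ((pullback.fst f (Spec.map (CommRingCat.ofHom
              (algebraMap k (AlgebraicClosure k))))).base ⁻¹' Z))) = 0 →
        (Zeta.nPts f e : ℝ) ≤ α' * (Nat.card k : ℝ) ^ ((e : ℝ) * ((r : ℝ) - 1))) := by
  classical
  obtain ⟨T, hT, hpos, c, hc⟩ := Groth.Agent.ZH85.LangWeil.scheme_card f r hr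
  let m : Set X → ℕ := Groth.Agent.ZH85.LangWeil.numGeom f
  refine ⟨(c : ℝ) + 1, (c : ℝ) + 1, by positivity, by positivity, fun e he => ?_⟩
  have hsum : (∑ᶠ (Z : Set X) (_ : Z ∈ irreducibleComponents X ∧ topologicalKrullDim Z = r ∧ m Z ∣ e), m Z) =
      ∑ Z ∈ T with m Z ∣ e, m Z :=
    finsum_cond_eq_sum_of_cond_iff _ fun {Z} _ => by
      rw [Finset.mem_filter, hT, and_assoc]
  obtain ⟨F, iF, iA, iFin, hF⟩ := Groth.Agent.ZH85.PtLow.exists_extension k e (by omega)
  have hN : Zeta.nPts f e = Nat.card (Groth.Agent.ZH85.LangWeil.Pts f F) := by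
    rw [← hF, ← Groth.Agent.ZetaLib.pointCount_eq_nPts f F]
    rfl
  have hQ : (Nat.card F : ℝ) = (Nat.card k : ℝ) ^ e := by
    rw [Module.natCard_eq_pow_finrank (K := k) (V := F), hF, Nat.cast_pow]
  obtain ⟨h1, h2⟩ := hc F
  rw [hF] at h1 h2
  have hq : (0 : ℝ) < (Nat.card k : ℝ) := by exact_mod_cast Nat.card_pos
  refine ⟨fun _ => ?_, fun h0 => ?_⟩
  · show |(Zeta.nPts f e : ℝ) -
      ((∑ᶠ (Z : Set X) (_ : Z ∈ irreducibleComponents X ∧ topologicalKrullDim Z = r ∧ m Z ∣ e), m Z : ℕ) : ℝ) *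
        (Nat.card k : ℝ) ^ (e * r)| ≤ _
    rw [hsum, hN]
    have hpow : (Nat.card F : ℝ) ^ r / Real.sqrt (Nat.card F) =
        (Nat.card k : ℝ) ^ ((e : ℝ) * ((r : ℝ) - 1 / 2)) := by
      rw [hQ, Real.sqrt_eq_rpow, ← Real.rpow_natCast_mul hq.le, ← pow_mul, ← Real.rpow_natCast, ← Real.rpow_sub hq]
      push_cast
      ring_nf
    rw [hQ, ← pow_mul] at h1
    rw [← hpow, hQ, ← pow_mul]
    refine h1.trans (mul_le_mul_of_nonneg_right (le_add_of_nonneg_right zero_le_one) (by positivity))
  · have hnone : ∀ Z ∈ T, ¬ m Z ∣ e := fun Z hZ hd => by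
      have h3 : (∑ Z ∈ T with m Z ∣ e, m Z) = 0 := hsum.symm.trans h0
      exact (hpos Z hZ).ne' (Finset.sum_eq_zero_iff.1 h3 Z (Finset.mem_filter.2 ⟨hZ, hd⟩))
    have hpow : (Nat.card F : ℝ) ^ r / (Nat.card F : ℝ) =
        (Nat.card k : ℝ) ^ ((e : ℝ) * ((r : ℝ) - 1)) := by
      rw [hQ, ← pow_mul, ← Real.rpow_natCast, ← Real.rpow_natCast (Nat.card k : ℝ) e, ← Real.rpow_sub hq]
      push_cast
      ring_nf
    rw [hN, ← hpow]
    refine (h2 hnone).trans (mul_le_mul_of_nonneg_right (le_add_of_nonneg_right zero_le_one) (by positivity))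

end Groth.Agent.S13063
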