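import Groth.Statements.S13064
import Groth.Agent.S0458
import Groth.Agent.ZH85.Trace.Valuation

set_option autoImplicit false
set_option backward.isDefEq.respectTransparency false
set_option backward.isDefEq.respectTransparency.types false
set_option linter.style.haveILetI false
universe u
open CategoryTheory AlgebraicGeometry
open Zeta

namespace Groth.Agent.S13064

/-- Let X be a projective scheme over a finite field k = F_q and F the q-Frobenius endomorphism of X,
acting k-linearly on the cohomology groups H^i(X, O_X) through the map s ↦ s^q on the structure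
sheaf. Then #X(F_q) mod p = ∑_{i = 0}^{dim X} (−1)^i tr(F | H^i(X, O_X)), an identity in k. The
sheaf map φ is pinned as the endomorphism of the abelian sheaf O_X given by s ↦ s^q on sections, and
T_i as the k-linear endomorphism of H^i(X, O_X) that agrees with the map φ induces; d is any bound
for dim X. -/
theorem result (k : Type u) [Field k] [Finite k]
    (X : Scheme.{u}) [X.Over (Spec (CommRingCat.of k))] (n : ℕ) (ι : X ⟶ CohB1.ProjSpace n k)
    [IsClosedImmersion ι] (hι : ι ≫ CohB1.ProjSpace.toSpec n k = X ↘ Spec (CommRingCat.of k))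
    (d : ℕ) (hd : topologicalKrullDim X ≤ d)
    (φ : Coh.toAb (Coh.structureModule X) ⟶ Coh.toAb (Coh.structureModule X))
    (hφ : ∀ (U : X.Opens) (s : Γ(X, U)), (φ.hom.app (Opposite.op U)).hom s = s ^ Nat.card k)
    (T : (i : ℕ) → Coh.HH X (Coh.structureModule X) i →ₗ[k] Coh.HH X (Coh.structureModule X) i)
    (hT : ∀ (i : ℕ) (x : Coh.HH X (Coh.structureModule X) i), T i x = Sheaf.H.map φ i x) :
    (SgaExt.pointCount (X ↘ Spec (CommRingCat.of k)) k : k) =
      ∑ i ∈ Finset.range (d + 1), (-1 : k) ^ i * LinearMap.trace k _ (T i) := by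
  haveI : IsProper (X ↘ Spec (CommRingCat.of k)) := by
    rw [← hι]
    haveI : IsProper (CohB1.ProjSpace.toSpec n k) := PnCoh.Chow.isProper_toSpec n k
    infer_instance
  haveI := CurveCohLib.isNoetherian_of_proper (k := k) (X := X)
  obtain rfl := ZH85.Trace.eq_powO (k := k) φ hφ
  have hvan : ∀ i, d + 1 ≤ i → Subsingleton (Coh.HH X (Coh.structureModule X) i) := fun i hi =>
    S0458.result (X := X.toPresheafedSpace.carrier) d hd _ i hi
  have hterm : ∀ i, LinearMap.trace k _ (T i) =
      ZH85.Trace.trH k (Coh.structureModule X) (ZH85.Trace.powO k X) i := fun i => by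
    rw [ZH85.Trace.trH_eq ZH85.Trace.isScal_powO]
    exact congrArg _ (LinearMap.ext fun x => hT i x)
  have hN : n + 1 ≤ max (d + 1) (n + 1) := le_max_right _ _
  rw [← hι, ZH85.Trace.pointCount_closed ι]
  refine Eq.trans ?_ (Finset.sum_congr rfl fun i _ => congrArg _ (hterm i)).symm
  refine Eq.trans ?_ (ZH85.Trace.lef_eq_of_le (Coh.structureModule X) (ZH85.Trace.powO k X)
    (le_max_left (d + 1) (n + 1)) hvan)
  exact (ZH85.Trace.lef_closed hN ι hι).symm

end Groth.Agent.S13064
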