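import Groth.Statements.S13069
import Groth.Agent.ZH85.FCurve.Pic

set_option autoImplicit false
set_option linter.style.haveILetI false
universe u
open CategoryTheory AlgebraicGeometry
open Zeta

namespace Groth.Agent.S13069

/-- If X is a smooth, geometrically connected, projective curve over F_q (here: smooth proper
geometrically irreducible of dimension one over a finite field k), then all the sets Pic^m(X) of
isomorphism classes of line bundles of degree m, m ∈ ℤ, have the same finite nonzero number of
elements. -/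
theorem result (k : Type u) [Field k] [Finite k]
    (X : Scheme.{u}) [X.Over (Spec (CommRingCat.of k))]
    (hX : Curve.IsSmoothProperCurve k X (X ↘ Spec (CommRingCat.of k)))
    [GeometricallyIrreducible (X ↘ Spec (CommRingCat.of k))] (m : ℤ) :
    Finite {c : PicF.Cl X // ∃ L : X.Modules, PicF.cl L = c ∧ PicF.IsInvertible L ∧
        Curv2.deg k X L 1 = m} ∧
      Nonempty {c : PicF.Cl X // ∃ L : X.Modules, PicF.cl L = c ∧ PicF.IsInvertible L ∧
        Curv2.deg k X L 1 = m} ∧
      Nat.card {c : PicF.Cl X // ∃ L : X.Modules, PicF.cl L = c ∧ PicF.IsInvertible L ∧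
          Curv2.deg k X L 1 = m} =
        Nat.card {c : PicF.Cl X // ∃ L : X.Modules, PicF.cl L = c ∧ PicF.IsInvertible L ∧
          Curv2.deg k X L 1 = 0} := by
  obtain ⟨hp, hs, hi, hd⟩ := hX
  haveI := hi
  haveI := hp
  haveI := hs
  obtain ⟨e⟩ := ZH85.FCurve.nonempty_equiv k hd (X := X) m
  obtain ⟨e₀⟩ := ZH85.FCurve.nonempty_equiv k hd (X := X) 0
  letI := CurveFF.ffAlg (k := k) (X := X)
  haveI : Finite (FFLib.Pic0 k X.functionField) := FFLib.finite_pic0 (ZH85.FCurve.isFF k X hd)
  exact ⟨Finite.of_equiv _ e.symm, ⟨e.symm 0⟩, Nat.card_congr (e.trans e₀.symm)⟩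

end Groth.Agent.S13069
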