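import Groth.Statements.S13072
import Groth.Agent.ZH85.Galois.Frob
import Groth.Agent.GeomField.Orbit

set_option autoImplicit false
set_option backward.isDefEq.respectTransparency false
set_option linter.style.haveILetI false
universe u
open CategoryTheory AlgebraicGeometry Limits
open Zeta

namespace Groth.Agent.S13072

/-- Case r = 1, to which the general case reduces by passing to X ×_k F_{q^r}. Let X be a variety over k
= F_q, k̄ an algebraic closure and F = Frob_{X,q} × id the induced endomorphism of X_{k̄}. A closed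
subset W ⊆ X_{k̄} is of the form Y_{k̄} for a closed Y ⊆ X (i.e. W = π⁻¹(Y), π the projection) if
and only if F(W) ⊆ W. Stated for schemes of finite type over k; F_X is pinned as the endomorphism
that is the identity on points and the q-th power on sections, F by F ≫ pr_1 = pr_1 ≫ F_X and F ≫
pr_2 = pr_2. -/
theorem result {k : Type u} [Field k] [Finite k]
    {X : Scheme.{u}} (f : X ⟶ Spec (CommRingCat.of k)) [LocallyOfFiniteType f] [QuasiCompact f]
    (FX : X ⟶ X) (hFb : FX.base = 𝟙 _) (hle : ∀ U : X.Opens, U ≤ FX ⁻¹ᵁ U)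
    (hFapp : ∀ (U : X.Opens) (s : Γ(X, U)), (FX.appLE U U (hle U)).hom s = s ^ Nat.card k)
    (F : FinFr.ext (AlgebraicClosure k) f ⟶ FinFr.ext (AlgebraicClosure k) f)
    (hF1 : F ≫ FinFr.extπ (AlgebraicClosure k) f = FinFr.extπ (AlgebraicClosure k) f ≫ FX)
    (hF2 : F ≫ FinFr.extStr (AlgebraicClosure k) f = FinFr.extStr (AlgebraicClosure k) f)
    (W : Set ↑(FinFr.ext (AlgebraicClosure k) f)) (hW : IsClosed W) :
    (∃ Y : Set X, IsClosed Y ∧ (FinFr.extπ (AlgebraicClosure k) f).base ⁻¹' Y = W) ↔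
      F.base '' W ⊆ W := by
  classical
  letI : X.Over (Spec (CommRingCat.of k)) := ⟨f⟩
  let := Fintype.ofFinite k
  let K := AlgebraicClosure k
  let φ : K ≃ₐ[k] K := Groth.Agent.ZH85.Galois.frob
  let π : Curv2.bc k X K ⟶ X := FinFr.extπ (AlgebraicClosure k) f
  let g : Curv2.bc k X K ⟶ Spec (CommRingCat.of K) := FinFr.extStr (AlgebraicClosure k) f
  let T : Curv2.bc k X K ⟶ Curv2.bc k X K := Curv2.galAct k X K φ
  let F' : Curv2.bc k X K ⟶ Curv2.bc k X K := F
  have hF1' : F' ≫ π = π ≫ FX := hF1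
  have hF2' : F' ≫ g = g := hF2
  let G : Curv2.bc k X K ⟶ Curv2.bc k X K := T ≫ F'
  have hTπ : T ≫ π = π := (pullback.lift_fst _ _ _).trans (Category.comp_id _)
  have hTg : T ≫ g = g ≫ Spec.map (CommRingCat.ofHom (φ : K →+* K)) := pullback.lift_snd _ _ _
  have hGπ : G ≫ π = π ≫ FX := by
    show (T ≫ F') ≫ π = _
    rw [Category.assoc, hF1', ← Category.assoc, hTπ]
  have hGg : G ≫ g = g ≫ Spec.map (CommRingCat.ofHom (φ : K →+* K)) := by
    show (T ≫ F') ≫ g = _
    rw [Category.assoc, hF2']; exact hTg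
  have hPow := Groth.Agent.WeilLib.isPowLift_of_comm (Groth.Agent.WeilLib.isPowMap_of_hyp FX _ hFb hle hFapp) π hGπ
  have hconst : ∀ (V : (Curv2.bc k X K).Opens) (h : V ≤ G ⁻¹ᵁ V) (c : K),
      (G.appLE V V h).hom (Groth.Agent.WeilLib.kConst g V c) = Groth.Agent.WeilLib.kConst g V c ^ Nat.card k := by
    intro V h c
    rw [← map_pow, ← Groth.Agent.ZH85.Galois.frob_apply (k := k) c]
    have h1 := Scheme.Hom.appLE_comp_appLE G g ⊤ V V le_top h
    have h2 := Scheme.Hom.appLE_comp_appLE g (Spec.map (CommRingCat.ofHom (φ : K →+* K))) ⊤ ⊤ V le_top le_top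
    rw [Groth.Agent.WeilLib.appLE_congr_hom hGg ⊤ V _ le_top, ← h2] at h1
    have h3 : CommRingCat.ofHom (φ : K →+* K) ≫ (Scheme.ΓSpecIso (CommRingCat.of K)).inv =
        (Scheme.ΓSpecIso (CommRingCat.of K)).inv ≫ (Spec.map (CommRingCat.ofHom (φ : K →+* K))).appLE ⊤ ⊤ le_top := by
      rw [Scheme.ΓSpecIso_inv_naturality]
      congr 1
    have h4 : ((Scheme.ΓSpecIso (CommRingCat.of K)).inv ≫ g.appLE ⊤ V le_top) ≫ G.appLE V V h =
        CommRingCat.ofHom (φ : K →+* K) ≫ ((Scheme.ΓSpecIso (CommRingCat.of K)).inv ≫ g.appLE ⊤ V le_top) := by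
      rw [Category.assoc, h1, ← Category.assoc, ← h3, Category.assoc]
    exact congrArg (fun m => CommRingCat.Hom.hom m c) h4
  have hfix : ∀ y, F (T y) = y := Groth.Agent.ZH85.Galois.apply_eq_self
    (IsPullback.of_hasPullback f (Spec.map (CommRingCat.ofHom (algebraMap k K)))) Nat.card_pos hPow
    (fun {R} _ _ a b => by
      letI : Algebra k R := ((algebraMap K R).comp (algebraMap k K)).toAlgebra
      have h := map_add (FiniteField.frobeniusAlgHom k R) a b
      simp only [FiniteField.coe_frobeniusAlgHom] at h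
      rw [Nat.card_eq_fintype_card]
      exact h) hconst
  have hinvT : ∀ y, T (Curv2.galAct k X K φ.symm y) = y := fun y =>
    congr($(Groth.Agent.GeomField.galAct_symm (X := X) φ).base y)
  have hF : ∀ y, F y = Curv2.galAct k X K φ.symm y := fun y => by
    conv_lhs => rw [← hinvT y]
    exact hfix _
  constructor
  · rintro ⟨Y, -, rfl⟩ _ ⟨y, hy, rfl⟩
    show π (F y) ∈ Y
    rw [hF]
    exact (Groth.Agent.GeomField.bcFst_galAct φ.symm y).symm ▸ hy
  intro hFW
  refine ⟨π '' W, Groth.Agent.GeomField.isClosedMap_bcFst K W hW, Set.Subset.antisymm ?_ (Set.subset_preimage_image _ _)⟩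
  rintro y' ⟨y, hy, hyy⟩
  by_contra hy'
  obtain ⟨σ, rfl⟩ := Groth.Agent.GeomField.exists_galAct_eq y y' hyy
  obtain ⟨L, hL, hV⟩ := Groth.Agent.GeomField.exists_open_descend hW.isOpen_compl hy'
  obtain ⟨V', -, hmem, hsub⟩ := hV L le_rfl
  haveI := hL
  obtain ⟨n, hn⟩ := Groth.Agent.ZH85.Galois.exists_pow_eq L σ
  have hpow : ∀ m : ℕ, Curv2.galAct k X K (φ.symm ^ m : K ≃ₐ[k] K) y ∈ W := by
    intro m
    induction m with
    | zero => rwa [pow_zero, Groth.Agent.ZH85.Galois.galAct_one_apply]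
    | succ m ih =>
      rw [pow_succ, Groth.Agent.ZH85.Galois.galAct_mul_apply]
      refine hFW ⟨_, ih, ?_⟩
      exact hF _
  refine hsub ?_ (hpow n)
  show _ ∈ V'
  rw [← Groth.Agent.ZH85.Galois.bcMap_galAct_congr L σ _ hn y]
  exact hmem

end Groth.Agent.S13072
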