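import Groth.Statements.S13079
import Groth.Agent.ZH85.Quot.Basic

set_option autoImplicit false
set_option linter.style.haveILetI false
universe u
open CategoryTheory AlgebraicGeometry Limits
open Zeta

namespace Groth.Agent.S13079

/-- Suppose the finite groups G and H act by algebraic k-automorphisms on schemes X and Y of finite type
over k, both admitting quotients X → X/G and Y → Y/H (equivalently, covered by invariant affine
opens). Then X × Y has the same property for the product action of G × H and (X × Y)/(G × H) ≅ X/G ×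
Y/H: the morphism X ×_k Y → X/G ×_k Y/H with components the two quotient maps is a quotient for the
product action. The product action θ and that morphism π are pinned by their composites with the
projections. -/
theorem result {k : Type u} [Field k] {G H : Type u} [Group G] [Finite G] [Group H]
    [Finite H] {X Y XG YH : Scheme.{u}} (fX : X ⟶ Spec (CommRingCat.of k))
    (fY : Y ⟶ Spec (CommRingCat.of k)) [LocallyOfFiniteType fX] [QuasiCompact fX]
    [LocallyOfFiniteType fY] [QuasiCompact fY] (gX : XG ⟶ Spec (CommRingCat.of k))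
    (gY : YH ⟶ Spec (CommRingCat.of k)) (ρ : G →* Aut X) (σ : H →* Aut Y)
    (hρ : ∀ g, (ρ g).hom ≫ fX = fX) (hσ : ∀ h, (σ h).hom ≫ fY = fY)
    (p : X ⟶ XG) (hp : p ≫ gX = fX) (q : Y ⟶ YH) (hq : q ≫ gY = fY)
    (hP : SGA1.IsQuot ρ p) (hQ : SGA1.IsQuot σ q)
    (θ : G × H →* Aut (pullback fX fY))
    (hθ1 : ∀ gh : G × H, (θ gh).hom ≫ pullback.fst fX fY = pullback.fst fX fY ≫ (ρ gh.1).hom)
    (hθ2 : ∀ gh : G × H, (θ gh).hom ≫ pullback.snd fX fY = pullback.snd fX fY ≫ (σ gh.2).hom)
    (π : pullback fX fY ⟶ pullback gX gY) (hπ1 : π ≫ pullback.fst gX gY = pullback.fst fX fY ≫ p)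
    (hπ2 : π ≫ pullback.snd gX gY = pullback.snd fX fY ≫ q) :
    SGA1.IsQuot θ π := by
  let M := pullback gX fY
  let q₁ : pullback fX fY ⟶ M := pullback.lift (pullback.fst fX fY ≫ p) (pullback.snd fX fY)
    (by rw [Category.assoc, hp, pullback.condition])
  let r : M ⟶ pullback gX gY := pullback.lift (pullback.fst gX fY) (pullback.snd gX fY ≫ q)
    (by rw [Category.assoc, hq, pullback.condition])
  have hq₁f : q₁ ≫ pullback.fst gX fY = pullback.fst fX fY ≫ p := pullback.lift_fst _ _ _
  have hq₁s : q₁ ≫ pullback.snd gX fY = pullback.snd fX fY := pullback.lift_snd _ _ _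
  have hrf : r ≫ pullback.fst gX gY = pullback.fst gX fY := pullback.lift_fst _ _ _
  have hrs : r ≫ pullback.snd gX gY = pullback.snd gX fY ≫ q := pullback.lift_snd _ _ _
  have hπ : π = q₁ ≫ r := by
    apply pullback.hom_ext
    · rw [hπ1, Category.assoc, hrf, hq₁f]
    · rw [hπ2, Category.assoc, hrs, ← Category.assoc, hq₁s]
  have hpb1 : IsPullback (pullback.fst fX fY) q₁ p (pullback.fst gX fY) := by
    refine IsPullback.of_bot (v₂₁ := pullback.snd gX fY) (v₂₂ := gX) (h₃₁ := fY) ?_ hq₁f.symm
      (IsPullback.of_hasPullback gX fY)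
    rw [hq₁s, hp]
    exact IsPullback.of_hasPullback fX fY
  have hpb2 : IsPullback (pullback.snd gX fY) r q (pullback.snd gX gY) := by
    refine IsPullback.of_bot (v₂₁ := pullback.fst gX gY) (v₂₂ := gY) (h₃₁ := gX) ?_ hrs.symm
      (IsPullback.of_hasPullback gX gY).flip
    rw [hrf, hq]
    exact (IsPullback.of_hasPullback gX fY).flip
  let μ : H → (M ⟶ M) := fun h => pullback.map gX fY gX fY (𝟙 _) (σ h).hom (𝟙 _)
    (by simp) (by rw [Category.comp_id, hσ])
  have hμf : ∀ h, μ h ≫ pullback.fst gX fY = pullback.fst gX fY := fun h => by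
    rw [pullback.lift_fst, Category.comp_id]
  have hμs : ∀ h, μ h ≫ pullback.snd gX fY = pullback.snd gX fY ≫ (σ h).hom := fun h => pullback.lift_snd _ _ _
  have hμ1 : μ 1 = 𝟙 M := by
    apply pullback.hom_ext
    · rw [hμf, Category.id_comp]
    · rw [hμs, map_one, Category.id_comp]; exact Category.comp_id _
  have hμm : ∀ h h', μ (h * h') = μ h' ≫ μ h := fun h h' => by
    apply pullback.hom_ext
    · rw [hμf, Category.assoc, hμf, hμf]
    · rw [hμs, Category.assoc, hμs, ← Category.assoc, hμs, Category.assoc, map_mul]; rfl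
  let ρM : H →* Aut M :=
    { toFun := fun h => ⟨μ h, μ h⁻¹, by rw [← hμm, inv_mul_cancel, hμ1], by rw [← hμm, mul_inv_cancel, hμ1]⟩
      map_one' := Iso.ext hμ1
      map_mul' := fun h h' => Iso.ext (hμm h h') }
  have hG1 : ∀ g, (θ.comp (MonoidHom.inl G H) g).hom ≫ pullback.fst fX fY = pullback.fst fX fY ≫ (ρ g).hom :=
    fun g => hθ1 (g, 1)
  have hG2 : ∀ g, (θ.comp (MonoidHom.inl G H) g).hom ≫ q₁ = q₁ := fun g => by
    apply pullback.hom_ext
    · rw [Category.assoc, hq₁f, ← Category.assoc, hG1, Category.assoc, hP.inv]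
    · rw [Category.assoc, hq₁s]
      refine (hθ2 (g, 1)).trans ?_
      rw [map_one]
      exact Category.comp_id _
  have hquot1 := SGA1Q.isQuot_baseChange hP (pullback.fst gX fY) (pullback.fst fX fY) q₁ hpb1
    (θ.comp (MonoidHom.inl G H)) hG1 hG2
  have hquot2 := SGA1Q.isQuot_baseChange hQ (pullback.snd gX gY) (pullback.snd gX fY) r hpb2 ρM hμs
    (fun h => by
      apply pullback.hom_ext
      · rw [Category.assoc, hrf]; exact hμf h
      · rw [Category.assoc, hrs]
        show μ h ≫ _ = _
        rw [← Category.assoc, hμs, Category.assoc, hQ.inv])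
  subst hπ
  refine Groth.Agent.ZH85.Quot.isQuot_comp hquot1 hquot2 (MonoidHom.snd G H) (fun h => ⟨(1, h), rfl⟩)
    (fun g => ⟨(g, 1), rfl⟩) fun t => ?_
  apply pullback.hom_ext
  · rw [Category.assoc, hq₁f, ← Category.assoc, hθ1, Category.assoc, hP.inv, Category.assoc]
    show _ = q₁ ≫ μ t.2 ≫ _
    rw [hμf, hq₁f]
  · rw [Category.assoc, hq₁s, hθ2, Category.assoc]
    show _ = q₁ ≫ μ t.2 ≫ _
    rw [hμs, ← Category.assoc, hq₁s]

end Groth.Agent.S13079
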