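import Groth.Statements.S13080
import Groth.Agent.ZH85.Quot.Basic

set_option autoImplicit false
set_option linter.style.haveILetI false
universe u
open CategoryTheory AlgebraicGeometry Limits TopologicalSpace
open Zeta

namespace Groth.Agent.S13080

/-- Let G be a finite group acting by algebraic automorphisms over k on a scheme X of finite type over k
admitting a quotient p : X → X/G, H ⊆ G a subgroup and Y ⊆ X an open subset preserved by H such that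
X is the disjoint union of the translates Y g over the cosets of G mod H. Then the natural morphism
Y/H → X/G is an isomorphism: Y → X/G is a quotient of Y by H. The action of H on Y is pinned by
compatibility with the inclusion Y → X; the coset condition is stated as: the translates of Y cover
X, and g(Y) is disjoint from Y for g ∉ H. -/
theorem result {k : Type u} [Field k] {G : Type u} [Group G]
    [Finite G] {X XG : Scheme.{u}} (fX : X ⟶ Spec (CommRingCat.of k)) [LocallyOfFiniteType fX]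
    [QuasiCompact fX] (ρ : G →* Aut X) (hρ : ∀ g, (ρ g).hom ≫ fX = fX) (p : X ⟶ XG)
    (hP : SGA1.IsQuot ρ p) (H : Subgroup G) (Y : X.Opens)
    (hcov : ∀ x : X, ∃ g : G, x ∈ (ρ g).hom.base '' (Y : Set X))
    (hdisj : ∀ g : G, g ∉ H → Disjoint ((ρ g).hom.base '' (Y : Set X)) (Y : Set X))
    (ρY : H →* Aut (Y : Scheme.{u})) (hρY : ∀ h : H, (ρY h).hom ≫ Y.ι = Y.ι ≫ (ρ (h : G)).hom) :
    SGA1.IsQuot ρY (Y.ι ≫ p) := by
  classical
  have hinv : ∀ h : H, (ρY h).hom ≫ Y.ι ≫ p = Y.ι ≫ p := fun h => by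
    rw [← Category.assoc, hρY, Category.assoc, hP.inv]
  have hstab : ∀ (h : H) (x : X), x ∈ Y → (ρ (h : G)).hom x ∈ Y := fun h x hx => by
    have e := congr($(hρY h).base (⟨x, hx⟩ : (Y : Scheme)))
    show (ρ (h : G)).hom.base x ∈ Y
    have e' : (ρ (h : G)).hom.base x = Y.ι.base ((ρY h).hom.base (⟨x, hx⟩ : (Y : Scheme))) := e.symm
    rw [e']
    exact ((ρY h).hom.base (⟨x, hx⟩ : (Y : Scheme))).2
  have hcomp : ∀ a b : G, ∀ x : X, (ρ (a * b)).hom x = (ρ a).hom ((ρ b).hom x) := fun a b x => by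
    rw [SGA1Q.hom_mul]; rfl
  have hback : ∀ (g : G) (x : X), (ρ g⁻¹).hom ((ρ g).hom x) = x := fun g x => by
    rw [← hcomp, inv_mul_cancel, SGA1Q.hom_one]; rfl
  have hmemH : ∀ (g : G) (x : X), x ∈ Y → (ρ g).hom x ∈ Y → g ∈ H := fun g x hx hgx => by
    by_contra hg
    exact Set.disjoint_left.mp (hdisj g hg) ⟨x, hx, rfl⟩ hgx
  have hclosed : IsClosed (Y : Set X) := by
    have : (Y : Set X)ᶜ = ⋃ g : {g : G // g ∉ H}, (((ρ g.1⁻¹).hom ⁻¹ᵁ Y : X.Opens) : Set X) := by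
      ext x
      simp only [Set.mem_compl_iff, SetLike.mem_coe, Set.mem_iUnion]
      constructor
      · intro hx
        obtain ⟨g, y, hy, rfl⟩ := hcov x
        refine ⟨⟨g, fun hg => hx (hstab ⟨g, hg⟩ y hy)⟩, ?_⟩
        show (ρ g⁻¹).hom ((ρ g).hom y) ∈ Y
        rw [hback]; exact hy
      · rintro ⟨⟨g, hg⟩, hgx⟩ hx
        exact hg (inv_mem_iff.mp (hmemH _ x hx hgx))
    rw [← isOpen_compl_iff, this]
    exact isOpen_iUnion fun g => ((ρ g.1⁻¹).hom ⁻¹ᵁ Y).2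
  haveI : IsClosedImmersion Y.ι := IsClosedImmersion.of_isPreimmersion _ (by rw [Scheme.Opens.range_ι]; exact hclosed)
  haveI := hP.affine
  have hg : ∀ x : X, ∃ g : G, (ρ g).hom x ∈ Y := fun x => by
    obtain ⟨g, y, hy, rfl⟩ := hcov x
    exact ⟨g⁻¹, (hback g y).symm ▸ hy⟩
  have hres : ∀ (U : XG.Opens) (t : Γ(XG, U)),
      ((Y.ι ≫ p).app U).hom t = (Y.ι.app (p ⁻¹ᵁ U)).hom ((p.app U).hom t) := fun U t => rfl
  refine ⟨inferInstance, hinv, fun U a b hab => ?_, fun U s => ⟨?_, fun hs => ?_⟩⟩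
  · -- injectivity
    refine hP.injective U (X.sheaf.eq_of_locally_eq' (fun g : G => (ρ g).hom ⁻¹ᵁ Y ⊓ p ⁻¹ᵁ U) (p ⁻¹ᵁ U)
      (fun g => homOfLE inf_le_right) (fun x hx => ?_) _ _ fun g => ?_)
    · obtain ⟨g, hgx⟩ := hg x
      exact Opens.mem_iSup.mpr ⟨g, hgx, hx⟩
    have hab' : (X.presheaf.map (homOfLE (Y.ι.image_preimage_eq_opensRange_inf (p ⁻¹ᵁ U) ▸ inf_le_right :
        Y.ι ''ᵁ (Y.ι ⁻¹ᵁ (p ⁻¹ᵁ U)) ≤ p ⁻¹ᵁ U)).op).hom ((p.app U).hom a) =
        (X.presheaf.map (homOfLE (Y.ι.image_preimage_eq_opensRange_inf (p ⁻¹ᵁ U) ▸ inf_le_right :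
        Y.ι ''ᵁ (Y.ι ⁻¹ᵁ (p ⁻¹ᵁ U)) ≤ p ⁻¹ᵁ U)).op).hom ((p.app U).hom b) := by
      rw [hres, hres, Scheme.Opens.ι_app] at hab
      exact hab
    have hle : (ρ g).hom ⁻¹ᵁ Y ⊓ p ⁻¹ᵁ U ≤ (ρ g).hom ⁻¹ᵁ (Y.ι ''ᵁ (Y.ι ⁻¹ᵁ (p ⁻¹ᵁ U))) := by
      rw [Y.ι.image_preimage_eq_opensRange_inf, Scheme.Opens.opensRange_ι]
      intro x hx
      refine ⟨hx.1, ?_⟩
      show p ((ρ g).hom x) ∈ U
      rw [show p ((ρ g).hom x) = p x from congr($(hP.inv g).base x)]
      exact hx.2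
    have e := congrArg ((ρ g).hom.appLE _ _ hle).hom hab'
    have key : ∀ t : Γ(XG, U), ((ρ g).hom.appLE _ _ hle).hom ((X.presheaf.map (homOfLE
        (Y.ι.image_preimage_eq_opensRange_inf (p ⁻¹ᵁ U) ▸ inf_le_right :
        Y.ι ''ᵁ (Y.ι ⁻¹ᵁ (p ⁻¹ᵁ U)) ≤ p ⁻¹ᵁ U)).op).hom ((p.app U).hom t)) =
        (X.presheaf.map (homOfLE (inf_le_right : (ρ g).hom ⁻¹ᵁ Y ⊓ p ⁻¹ᵁ U ≤ p ⁻¹ᵁ U)).op).hom ((p.app U).hom t) := by
      intro t
      rw [← RingHom.comp_apply, ← CommRingCat.hom_comp, Scheme.Hom.map_appLE, Scheme.Hom.app_eq_appLE,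
        ← RingHom.comp_apply, ← CommRingCat.hom_comp, Scheme.Hom.appLE_comp_appLE,
        ← RingHom.comp_apply, ← CommRingCat.hom_comp, Scheme.Hom.appLE_map,
        Groth.Agent.ZH85.Quot.appLE_congr_hom (hP.inv g)]
    rw [key, key] at e
    exact e
  · rintro ⟨t, rfl⟩ h
    exact SGA1Q.appLE_app_of_inv hinv U h t
  · -- gluing the translates of an invariant section
    let V : (Y : Scheme).Opens := (Y.ι ≫ p) ⁻¹ᵁ U
    let W : X.Opens := Y.ι ''ᵁ V
    have hW : ∀ x, x ∈ W ↔ x ∈ Y ∧ p x ∈ U := fun x => by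
      show x ∈ Y.ι ''ᵁ (Y.ι ⁻¹ᵁ (p ⁻¹ᵁ U)) ↔ _
      rw [Y.ι.image_preimage_eq_opensRange_inf, Scheme.Opens.opensRange_ι]
      rfl
    have hWp : ∀ g : G, (ρ g).hom ⁻¹ᵁ W ≤ p ⁻¹ᵁ U := fun g x hx => by
      show p x ∈ U
      rw [← show p ((ρ g).hom x) = p x from congr($(hP.inv g).base x)]
      exact ((hW _).mp hx).2
    let s' : Γ(X, W) := s
    have hWh : ∀ h : H, W ≤ (ρ (h : G)).hom ⁻¹ᵁ W := fun h x hx => by
      obtain ⟨h1, h2⟩ := (hW x).mp hx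
      refine (hW _).mpr ⟨hstab h x h1, ?_⟩
      rw [show p ((ρ (h : G)).hom x) = p x from congr($(hP.inv (h : G)).base x)]
      exact h2
    have hid : ∀ e, Y.ι.appLE W V e = 𝟙 Γ(X, W) := fun e => by
      rw [Scheme.Opens.ι_appLE]
      exact X.presheaf.map_id _
    have hs' : ∀ h : H, ((ρ (h : G)).hom.appLE W W (hWh h)).hom s' = s' := by
      intro h
      have e1 := SGA1.preimage_le_of_inv ρY _ hinv h U
      have e0 : V ≤ ((ρY h).hom ≫ Y.ι) ⁻¹ᵁ W := by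
        rw [Scheme.Hom.comp_preimage, Y.ι.preimage_image_eq]; exact e1
      have e := Groth.Agent.ZH85.Quot.appLE_congr_hom (hρY h) W V e0 (hρY h ▸ e0)
      rw [← Scheme.Hom.appLE_comp_appLE (ρY h).hom Y.ι _ V V (Y.ι.preimage_image_eq V).ge e1,
        ← Scheme.Hom.appLE_comp_appLE Y.ι (ρ (h : G)).hom _ W V (hWh h) (Y.ι.preimage_image_eq V).ge, hid] at e
      exact (congr($(e).hom s')).symm.trans (hs h)
    let sg : ∀ g : G, Γ(X, (ρ g).hom ⁻¹ᵁ W) := fun g => ((ρ g).hom.app W).hom s'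
    have htr : ∀ (a g : G) (O : X.Opens) (e1 : O ≤ (ρ a).hom ⁻¹ᵁ ((ρ g).hom ⁻¹ᵁ W)) (e2 : O ≤ (ρ (g * a)).hom ⁻¹ᵁ W),
        ((ρ a).hom.appLE _ O e1).hom (sg g) = ((ρ (g * a)).hom.appLE W O e2).hom s' := fun a g O e1 e2 => by
      show ((ρ a).hom.appLE _ O e1).hom (((ρ g).hom.app W).hom s') = _
      rw [Scheme.Hom.app_eq_appLE, ← RingHom.comp_apply, ← CommRingCat.hom_comp, Scheme.Hom.appLE_comp_appLE,
        Groth.Agent.ZH85.Quot.appLE_congr_hom (SGA1Q.hom_mul ρ g a).symm]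
    have hcompat : X.presheaf.IsCompatible (fun g : G => (ρ g).hom ⁻¹ᵁ W) sg := by
      intro g g'
      show (X.presheaf.map _).hom (sg g) = (X.presheaf.map _).hom (sg g')
      by_cases hH : g' * g⁻¹ ∈ H
      · show (X.presheaf.map _).hom (((ρ g).hom.app W).hom s') = (X.presheaf.map _).hom (((ρ g').hom.app W).hom s')
        rw [Scheme.Hom.app_eq_appLE, Scheme.Hom.app_eq_appLE, ← RingHom.comp_apply, ← CommRingCat.hom_comp,
          Scheme.Hom.appLE_map, ← RingHom.comp_apply, ← CommRingCat.hom_comp, Scheme.Hom.appLE_map]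
        conv_lhs => rw [← hs' ⟨_, hH⟩]
        rw [← RingHom.comp_apply, ← CommRingCat.hom_comp, Scheme.Hom.appLE_comp_appLE,
          Groth.Agent.ZH85.Quot.appLE_congr_hom (show (ρ g).hom ≫ (ρ (g' * g⁻¹)).hom = (ρ g').hom by
            rw [← SGA1Q.hom_mul, inv_mul_cancel_right])]
      · haveI : Subsingleton Γ(X, (ρ g).hom ⁻¹ᵁ W ⊓ (ρ g').hom ⁻¹ᵁ W) := by
          have hbot : (ρ g).hom ⁻¹ᵁ W ⊓ (ρ g').hom ⁻¹ᵁ W = ⊥ := by
            rw [eq_bot_iff]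
            rintro x ⟨h1, h2⟩
            refine (hH (hmemH (g' * g⁻¹) _ ((hW _).mp h1).1 ?_)).elim
            rw [hcomp, hback]
            exact ((hW _).mp h2).1
          rw [hbot]; infer_instance
        exact Subsingleton.elim _ _
    obtain ⟨t, ht, -⟩ := X.sheaf.existsUnique_gluing' (fun g : G => (ρ g).hom ⁻¹ᵁ W) (p ⁻¹ᵁ U)
      (fun g => homOfLE (hWp g)) (fun x hx => by
        obtain ⟨g, hgx⟩ := hg x
        refine Opens.mem_iSup.mpr ⟨g, (hW _).mpr ⟨hgx, ?_⟩⟩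
        rw [show p ((ρ g).hom x) = p x from congr($(hP.inv g).base x)]
        exact hx) sg hcompat
    have htinv : ∀ a : G, ((ρ a).hom.appLE (p ⁻¹ᵁ U) (p ⁻¹ᵁ U) (SGA1.preimage_le_of_inv ρ p hP.inv a U)).hom t = t := by
      intro a
      refine X.sheaf.eq_of_locally_eq' (fun g : G => (ρ g).hom ⁻¹ᵁ W) (p ⁻¹ᵁ U) (fun g => homOfLE (hWp g))
        (fun x hx => by
          obtain ⟨g, hgx⟩ := hg x
          refine Opens.mem_iSup.mpr ⟨g, (hW _).mpr ⟨hgx, ?_⟩⟩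
          rw [show p ((ρ g).hom x) = p x from congr($(hP.inv g).base x)]
          exact hx) _ _ fun g => ?_
      refine Eq.trans ?_ (ht g).symm
      have e1 : (ρ g).hom ⁻¹ᵁ W ≤ (ρ a).hom ⁻¹ᵁ ((ρ (g * a⁻¹)).hom ⁻¹ᵁ W) := by
        rw [← Scheme.Hom.comp_preimage, ← SGA1Q.hom_mul, inv_mul_cancel_right]
      show (X.presheaf.map _).hom (((ρ a).hom.appLE _ _ _).hom t) = sg g
      have e2 := ht (g * a⁻¹)
      have e3 := htr a (g * a⁻¹) ((ρ g).hom ⁻¹ᵁ W) e1 (by rw [inv_mul_cancel_right])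
      rw [← e2] at e3
      refine Eq.trans ?_ (e3.trans ?_)
      · show _ = ((ρ a).hom.appLE _ _ e1).hom ((X.presheaf.map _).hom t)
        rw [← RingHom.comp_apply, ← CommRingCat.hom_comp, Scheme.Hom.appLE_map,
          ← RingHom.comp_apply, ← CommRingCat.hom_comp, Scheme.Hom.map_appLE]
      · show _ = ((ρ g).hom.app W).hom s'
        rw [Scheme.Hom.app_eq_appLE, Groth.Agent.ZH85.Quot.appLE_congr_hom
          (congrArg (fun x => (ρ x).hom) (inv_mul_cancel_right g a))]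
    obtain ⟨u, hu⟩ := (hP.range_iff U t).2 htinv
    refine ⟨u, ?_⟩
    rw [hres, hu, Scheme.Opens.ι_app]
    show (X.presheaf.map _).hom t = s'
    have h1 := ht 1
    have hW1 : W ≤ (ρ (1 : G)).hom ⁻¹ᵁ W := by rw [SGA1Q.hom_one]; exact le_rfl
    have h2 := congrArg (X.presheaf.map (homOfLE hW1).op).hom h1
    refine Eq.trans ?_ (h2.trans ?_)
    · show _ = (X.presheaf.map _).hom ((X.presheaf.map _).hom t)
      rw [← RingHom.comp_apply, ← CommRingCat.hom_comp, ← Functor.map_comp]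
      rfl
    · show (X.presheaf.map _).hom (((ρ 1).hom.app W).hom s') = s'
      rw [Scheme.Hom.app_eq_appLE, ← RingHom.comp_apply, ← CommRingCat.hom_comp, Scheme.Hom.appLE_map,
        Groth.Agent.ZH85.Quot.appLE_congr_hom (SGA1Q.hom_one ρ) W W _ le_rfl]
      simp [Scheme.Hom.appLE]
      exact congr(($(X.presheaf.map_id _)).hom s')

end Groth.Agent.S13080
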