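import Groth.Statements.S13083
import Groth.Agent.ZH85.Galois.Cycles
import Groth.Agent.GeomField.Connected

set_option autoImplicit false
set_option linter.style.haveILetI false
universe u
open CategoryTheory AlgebraicGeometry Limits
open Zeta

namespace Groth.Agent.S13083

/-- Let X be a variety over a perfect field k, k̄ an algebraic closure and π : X_{k̄} → X the
projection. Sending a closed point x to the sum of the points of π⁻¹(x) induces a bijection between
effective 0-cycles of degree n on X and effective 0-cycles of degree n on X_{k̄} fixed by G(k̄/k).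
Stated for schemes of finite type over k, with 0-cycles as finitely supported ℕ-valued functions on
closed points, the degree on X weighted by the residue degrees [κ(x) : k], the map being c ↦ c ∘ π,
and the Galois automorphisms τ_σ = id × Spec σ pinned by their projections. -/
theorem result {k : Type u} [Field k]
    [PerfectField k] {X : Scheme.{u}} (f : X ⟶ Spec (CommRingCat.of k)) [LocallyOfFiniteType f]
    [QuasiCompact f]
    (τ : (AlgebraicClosure k ≃ₐ[k] AlgebraicClosure k) →
      (pullback f (Spec.map (CommRingCat.ofHom (algebraMap k (AlgebraicClosure k)))) ⟶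
        pullback f (Spec.map (CommRingCat.ofHom (algebraMap k (AlgebraicClosure k))))))
    (hτ1 : ∀ σ, τ σ ≫ pullback.fst f _ = pullback.fst f _)
    (hτ2 : ∀ σ, τ σ ≫ pullback.snd f (Spec.map (CommRingCat.ofHom (algebraMap k (AlgebraicClosure k)))) =
        pullback.snd f _ ≫ Spec.map (CommRingCat.ofHom (σ : AlgebraicClosure k →+* AlgebraicClosure k)))
    (n : ℕ) :
    Set.BijOn
      (fun c : X → ℕ => c ∘ (pullback.fst f (Spec.map (CommRingCat.ofHom
        (algebraMap k (AlgebraicClosure k))))).base)
      {c : X → ℕ | (Function.support c).Finite ∧ (∀ x, c x ≠ 0 → IsClosed ({x} : Set X)) ∧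
        ∑ᶠ x, c x * EGA4loc.residueDegree f x = n}
      {d : ↑(pullback f (Spec.map (CommRingCat.ofHom (algebraMap k (AlgebraicClosure k))))) → ℕ |
        (Function.support d).Finite ∧ (∀ y, d y ≠ 0 → IsClosed ({y} : Set _)) ∧
        ∑ᶠ y, d y = n ∧ ∀ σ y, d ((τ σ).base y) = d y} := by
  classical
  letI : X.Over (Spec (CommRingCat.of k)) := ⟨f⟩
  let K := AlgebraicClosure k
  set π := pullback.fst f (Spec.map (CommRingCat.ofHom (algebraMap k K))) with hπ
  have hsurj : Function.Surjective π.base := Groth.Agent.GeomField.surjective_bcFst (k := k) (X := X) (K := K)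
  have hinv : ∀ σ y, π.base ((τ σ).base y) = π.base y := fun σ y => congr($(hτ1 σ).base y)
  have hτ : ∀ σ, τ σ = Curv2.galAct k X K σ := fun σ => by
    apply pullback.hom_ext
    · rw [hτ1]
      exact ((pullback.lift_fst _ _ _).trans (Category.comp_id _)).symm
    · rw [hτ2]
      exact (pullback.lift_snd _ _ _).symm
  have hclosedMap : IsClosedMap π.base := Groth.Agent.GeomField.isClosedMap_bcFst (k := k) (X := X) K
  -- the degree of a pulled back cycle
  have hdeg : ∀ c : X → ℕ, (Function.support c).Finite → (∀ x, c x ≠ 0 → IsClosed ({x} : Set X)) →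
      (Function.support (c ∘ π.base)).Finite ∧ ∑ᶠ y, (c ∘ π.base) y = ∑ᶠ x, c x * EGA4loc.residueDegree f x := by
    intro c hfin hcl
    have hfib : ∀ x ∈ hfin.toFinset, {y | π.base y = x}.Finite := fun x hx =>
      (Groth.Agent.ZH85.Galois.fibre_card (K := K) f (hcl x (hfin.mem_toFinset.mp hx))).2.1
    have hfin' : (Function.support (c ∘ π.base)).Finite := by
      refine (hfin.toFinset.finite_toSet.biUnion fun x hx => hfib x hx).subset fun y hy => ?_
      exact Set.mem_iUnion₂.mpr ⟨π.base y, hfin.mem_toFinset.mpr hy, rfl⟩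
    refine ⟨hfin', ?_⟩
    rw [finsum_eq_sum_of_support_subset _ (s := hfin'.toFinset) (by simp),
      finsum_eq_sum_of_support_subset _ (s := hfin.toFinset) (fun x hx => by
        simp only [Set.Finite.coe_toFinset, Function.mem_support] at *
        exact left_ne_zero_of_mul hx),
      ← Finset.sum_fiberwise_of_maps_to (g := π.base) (t := hfin.toFinset)
        (fun y hy => hfin.mem_toFinset.mpr (hfin'.mem_toFinset.mp hy))]
    refine Finset.sum_congr rfl fun x hx => ?_
    have hc := Groth.Agent.ZH85.Galois.fibre_card (K := K) f (hcl x (hfin.mem_toFinset.mp hx))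
    have hset : hfin'.toFinset.filter (fun y => π.base y = x) = hc.2.1.toFinset := by
      ext y
      simp only [Finset.mem_filter, Set.Finite.mem_toFinset, Set.mem_setOf_eq, Function.mem_support, Function.comp_apply]
      exact ⟨fun h => h.2, fun h => ⟨by rw [show π.base y = x from h]; exact hfin.mem_toFinset.mp hx, h⟩⟩
    rw [hset]
    refine Eq.trans (Finset.sum_congr rfl (g := fun _ => c x) (fun y hy => congrArg c (hc.2.1.mem_toFinset.mp hy))) ?_
    rw [
      Finset.sum_const, smul_eq_mul, ← Nat.card_eq_card_finite_toFinset, mul_comm]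
    congr 1
    exact hc.2.2
  refine ⟨fun c ⟨hfin, hcl, hn⟩ => ?_, fun c _ c' _ h => hsurj.injective_comp_right h, fun d ⟨hfin, hcl, hn, hd⟩ => ?_⟩
  · obtain ⟨h1, h2⟩ := hdeg c hfin hcl
    refine ⟨h1, fun y hy => ?_, h2.trans hn, fun σ y => congrArg c (hinv σ y)⟩
    exact (Groth.Agent.ZH85.Galois.fibre_card (K := K) f (hcl _ hy)).1 y rfl
  · have hconst : ∀ y y', π.base y = π.base y' → d y = d y' := fun y y' h => by
      obtain ⟨σ, hσ⟩ := Groth.Agent.GeomField.exists_galAct_eq (k := k) (X := X) (K := K) y y' h
      have h1 := hd σ y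
      rw [hτ σ] at h1
      exact h1.symm.trans (congrArg d hσ)
    let c : X → ℕ := fun x => d (Function.surjInv hsurj x)
    have hcd : c ∘ π.base = d := funext fun y => hconst _ _ (Function.surjInv_eq hsurj _)
    have hcfin : (Function.support c).Finite :=
      (hfin.image π.base).subset fun x hx => ⟨_, hx, Function.surjInv_eq hsurj x⟩
    have hccl : ∀ x, c x ≠ 0 → IsClosed ({x} : Set X) := fun x hx => by
      have h := hclosedMap _ (hcl _ hx)
      rwa [Set.image_singleton, Function.surjInv_eq hsurj x] at h
    refine ⟨c, ⟨hcfin, hccl, ?_⟩, hcd⟩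
    rw [← (hdeg c hcfin hccl).2, hcd, hn]

end Groth.Agent.S13083
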