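import Groth.Statements.S13170
import Groth.Agent.PnCoh.Finite.TwistTensor
import Groth.Agent.TwistX.Triv

set_option autoImplicit false
universe u
open CategoryTheory CategoryTheory.Limits AlgebraicGeometry TopologicalSpace Opposite MonoidalCategory
open Groth.Agent.KFlatLib

namespace Groth.Agent.S13170

open Groth.Agent.PnCoh.Finite
open Groth.Agent.TwistX (UnitFrac fracSect isUnit_frac)

variable {R A : Type u} [CommRing R] [CommRing A] [Algebra R A]
  {𝒜 : ℕ → Submodule R A} [GradedAlgebra 𝒜]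

/-- The inverse fraction. -/
def invFrac {m : ℤ} {U : Opens (ProjectiveSpectrum.top 𝒜)} (φ : UnitFrac (𝒜 := 𝒜) m U) :
    UnitFrac (𝒜 := 𝒜) (-m) U where
  i := φ.j
  j := φ.i
  num := φ.den
  den := φ.num
  num_mem := φ.den_mem
  den_mem := φ.num_mem
  deg := by have := φ.deg; omega
  num_ne := φ.den_ne
  den_ne := φ.num_ne

theorem exists_mul {c b e : ℤ} (h : c + b = e) {U : (Opens (ProjectiveSpectrum.top 𝒜))ᵒᵖ}
    (s : Twist.sectN (𝒜 := 𝒜) c U) (t : Twist.sectN (𝒜 := 𝒜) b U) :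
    ∃ r : Twist.sectN (𝒜 := 𝒜) e U, ∀ y, (r.1 y).1 = (s.1 y).1 * (t.1 y).1 := by
  subst h
  exact ⟨mulSect c b s t, fun _ => rfl⟩

variable {a : ℤ} {V : (Proj 𝒜).Opens} (φ : UnitFrac (𝒜 := 𝒜) a V) {x : Proj 𝒜} (hx : x ∈ V)

/-- The germ of a unit fraction. -/
noncomputable def gen : stalkMod x (DCoh.toP.obj (Twist.twist 𝒜 a)) :=
  germP (DCoh.toP.obj (Twist.twist 𝒜 a)) V hx (fracSect φ)

theorem gen_eq (W : (Proj 𝒜).Opens) (hW : W ≤ V) (hxW : x ∈ W) :
    gen φ hx = germP (DCoh.toP.obj (Twist.twist 𝒜 a)) W hxW (fracSect (φ.res hW)) :=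
  (germP_res (P := DCoh.toP.obj (Twist.twist 𝒜 a)) (homOfLE hW) hxW _).symm

theorem gen_bijective :
    Function.Bijective (LinearMap.toSpanSingleton ((Proj 𝒜).presheaf.stalk x) _ (gen φ hx)) := by
  refine ⟨(injective_iff_map_eq_zero _).2 fun r hr => ?_, fun m => ?_⟩
  · obtain ⟨W₀, hxW₀, c₀, rfl⟩ := (Proj 𝒜).presheaf.exists_germ_eq r
    rw [LinearMap.toSpanSingleton_apply] at hr
    let W := W₀ ⊓ V
    have hW : W ≤ V := inf_le_right
    have hxW : x ∈ W := ⟨hxW₀, hx⟩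
    let i : W ⟶ W₀ := homOfLE inf_le_left
    rw [← (Proj 𝒜).presheaf.germ_res_apply i x hxW, gen_eq φ hx W hW hxW, ← germP_smul] at hr
    obtain ⟨W', hxW', j, j', hjj⟩ := TopCat.Presheaf.germ_eq (C := AddCommGrpCat.{u})
      (DCoh.toP.obj (Twist.twist 𝒜 a)).presheaf x hxW hxW _ 0
      (hr.trans (map_zero (germP (DCoh.toP.obj (Twist.twist 𝒜 a)) W hxW)).symm)
    have key : TwistX.trivMap (φ.res (j.le.trans hW))
        ((Proj 𝒜).presheaf.map j.op ((Proj 𝒜).presheaf.map i.op c₀)) = 0 :=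
      hjj.trans (map_zero _)
    rw [← (Proj 𝒜).presheaf.germ_res_apply i x hxW,
      ← (Proj 𝒜).presheaf.germ_res_apply j x hxW']
    have := (TwistX.trivMap_bijective (φ.res (j.le.trans hW))).1 (key.trans (map_zero _).symm)
    exact (congrArg _ this).trans (map_zero _)
  · obtain ⟨W₀, hxW₀, s₀, rfl⟩ := exists_germP m
    let W := W₀ ⊓ V
    have hW : W ≤ V := inf_le_right
    have hxW : x ∈ W := ⟨hxW₀, hx⟩
    let i : W ⟶ W₀ := homOfLE inf_le_left
    obtain ⟨c, hc⟩ := (TwistX.trivMap_bijective (φ.res hW)).2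
      (res (DCoh.toP.obj (Twist.twist 𝒜 a)) i s₀)
    refine ⟨(Proj 𝒜).presheaf.germ W x hxW c, ?_⟩
    rw [LinearMap.toSpanSingleton_apply, gen_eq φ hx W hW hxW, ← germP_smul,
      ← germP_res i hxW s₀, ← hc]
    rfl

include φ hx in
theorem isIso_stalk_mulPre (b : ℤ) : IsIso ((stalkP x).map (mulPre (𝒜 := 𝒜) a b)) := by
  rw [ConcreteCategory.isIso_iff_bijective]
  let ea := LinearEquiv.ofBijective _ (gen_bijective φ hx)
  let B := stalkMod x (DCoh.toP.obj (Twist.twist 𝒜 b))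
  let E := (TensorProduct.congr ea (LinearEquiv.refl ((Proj 𝒜).presheaf.stalk x) (B : Type u))).symm.trans
    (TensorProduct.lid _ _)
  let L : (stalkMod x (DCoh.toP.obj (Twist.twist 𝒜 a) ⊗ DCoh.toP.obj (Twist.twist 𝒜 b)) : Type u)
      →ₗ[(Proj 𝒜).presheaf.stalk x] (stalkMod x (DCoh.toP.obj (Twist.twist 𝒜 (a + b))) : Type u) :=
    ((stalkP x).map (mulPre a b)).hom
  let Φ : (B : Type u) →ₗ[(Proj 𝒜).presheaf.stalk x]
      (stalkMod x (DCoh.toP.obj (Twist.twist 𝒜 (a + b))) : Type u) :=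
    L ∘ₗ (tensorStalkEquiv _ _).toLinearMap ∘ₗ TensorProduct.mk _ _ _ (gen φ hx)
  have key : ∀ z, L (tensorStalkEquiv _ _ z) = Φ (E z) := by
    intro z
    induction z using TensorProduct.induction_on with
    | zero => rw [map_zero, map_zero, map_zero, map_zero]
    | add z z' hz hz' => rw [map_add, map_add, map_add, map_add, hz, hz']
    | tmul m n =>
      obtain ⟨r, rfl⟩ := ea.surjective m
      have hE : E (ea r ⊗ₜ n) = r • n := by
        show TensorProduct.lid _ _ ((TensorProduct.congr ea (LinearEquiv.refl _ _)).symm (ea r ⊗ₜ n)) = _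
        rw [TensorProduct.congr_symm_tmul, LinearEquiv.symm_apply_apply, TensorProduct.lid_tmul]
        rfl
      rw [hE]
      show L (tensorStalkEquiv _ _ ((r • gen φ hx) ⊗ₜ[(Proj 𝒜).presheaf.stalk x] n)) =
        L (tensorStalkEquiv _ _ (gen φ hx ⊗ₜ[(Proj 𝒜).presheaf.stalk x] (r • n)))
      rw [TensorProduct.smul_tmul]
  have hΦ : ∀ (W : (Proj 𝒜).Opens) (hW : W ≤ V) (hxW : x ∈ W)
      (s : (DCoh.toP.obj (Twist.twist 𝒜 b)).obj (op W)),
      Φ (germP _ W hxW s) =
        germP (DCoh.toP.obj (Twist.twist 𝒜 (a + b))) W hxW (mulSect a b (fracSect (φ.res hW)) s) := by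
    intro W hW hxW s
    show L (tensorStalkEquiv _ _ (gen φ hx ⊗ₜ[(Proj 𝒜).presheaf.stalk x] germP _ W hxW s)) = _
    rw [gen_eq φ hx W hW hxW]
    refine Eq.trans (congrArg _ (ofTensor_germ W hxW _ _)) ?_
    refine (stalkModMap_germ (mulPre a b) W hxW _).trans ?_
    exact congrArg (germP (DCoh.toP.obj (Twist.twist 𝒜 (a + b))) W hxW) (mulPre_tm a b _ _)
  have hbij : Function.Bijective Φ := by
    refine ⟨(injective_iff_map_eq_zero _).2 fun m hm => ?_, fun m => ?_⟩
    · obtain ⟨W₀, hxW₀, s₀, rfl⟩ := exists_germP m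
      let W := W₀ ⊓ V
      have hW : W ≤ V := inf_le_right
      have hxW : x ∈ W := ⟨hxW₀, hx⟩
      let i : W ⟶ W₀ := homOfLE inf_le_left
      rw [← germP_res i hxW s₀, hΦ W hW hxW] at hm
      obtain ⟨W', hxW', j, j', hjj⟩ := TopCat.Presheaf.germ_eq (C := AddCommGrpCat.{u})
        (DCoh.toP.obj (Twist.twist 𝒜 (a + b))).presheaf x hxW hxW _ 0
        (hm.trans (map_zero (germP (DCoh.toP.obj (Twist.twist 𝒜 (a + b))) W hxW)).symm)
      rw [← germP_res i hxW s₀, ← germP_res j hxW']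
      refine Eq.trans (congrArg (germP (DCoh.toP.obj (Twist.twist 𝒜 b)) W' hxW') ?_) (map_zero _)
      refine Subtype.ext (funext fun y => Subtype.ext ?_)
      have h := congrArg (fun r : Twist.sectN (𝒜 := 𝒜) (a + b) (op W') => (r.1 y).1)
        (hjj.trans (map_zero _))
      exact (isUnit_frac (φ.res (j.le.trans hW)) y).mul_right_eq_zero.1 h
    · obtain ⟨W₀, hxW₀, s₀, rfl⟩ := exists_germP m
      let W := W₀ ⊓ V
      have hW : W ≤ V := inf_le_right
      have hxW : x ∈ W := ⟨hxW₀, hx⟩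
      let i : W ⟶ W₀ := homOfLE inf_le_left
      obtain ⟨r, hr⟩ := exists_mul (neg_add_cancel_left a b) (fracSect (invFrac (φ.res hW)))
        (res (DCoh.toP.obj (Twist.twist 𝒜 (a + b))) i s₀)
      refine ⟨germP (DCoh.toP.obj (Twist.twist 𝒜 b)) W hxW r, ?_⟩
      rw [hΦ W hW hxW r, ← germP_res i hxW s₀]
      refine congrArg (germP _ W hxW) (Subtype.ext (funext fun y => Subtype.ext ?_))
      show Localization.mk φ.num ⟨φ.den, φ.den_ne ⟨y.1, hW y.2⟩⟩ * (r.1 y).1 = _
      rw [hr y, ← mul_assoc]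
      show Localization.mk φ.num ⟨φ.den, φ.den_ne ⟨y.1, hW y.2⟩⟩ *
        Localization.mk φ.den ⟨φ.num, φ.num_ne ⟨y.1, hW y.2⟩⟩ * _ = _
      rw [Localization.mk_mul, show Localization.mk (φ.num * φ.den)
        ((⟨φ.den, φ.den_ne ⟨y.1, hW y.2⟩⟩ : y.1.asHomogeneousIdeal.toIdeal.primeCompl) *
          ⟨φ.num, φ.num_ne ⟨y.1, hW y.2⟩⟩) = 1 from ?_, one_mul]
      rw [← Localization.mk_one, Localization.mk_eq_mk_iff, Localization.r_iff_exists]
      exact ⟨1, by simp [mul_comm]⟩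
  have e : ⇑L = Φ ∘ E ∘ (tensorStalkEquiv _ _).symm := by
    funext z
    rw [Function.comp_apply, Function.comp_apply, ← key, LinearEquiv.apply_symm_apply]
  show Function.Bijective ⇑L
  rw [e]
  exact hbij.comp (E.bijective.comp (tensorStalkEquiv _ _).symm.bijective)

/-- `O(a) ⊗ O(b) ≅ O(a + b)` when fractions of degree `a` are locally invertible. -/
theorem isIso_mulHom (a b : ℤ)
    (h : ∀ x : Proj 𝒜, ∃ V : (Proj 𝒜).Opens, x ∈ V ∧ Nonempty (UnitFrac (𝒜 := 𝒜) a V)) :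
    IsIso (mulHom (𝒜 := 𝒜) a b) := by
  apply isIso_of_stalk
  intro x
  obtain ⟨V, hxV, ⟨φ⟩⟩ := h x
  have h : unitShP (DCoh.toP.obj (Twist.twist 𝒜 a) ⊗ DCoh.toP.obj (Twist.twist 𝒜 b)) ≫
      DCoh.toP.map (mulHom (𝒜 := 𝒜) a b) = mulPre a b :=
    ((PresheafOfModules.sheafificationAdjunction (𝟙 (Proj 𝒜).ringCatSheaf.obj)).homEquiv_unit
      (f := mulHom a b)).symm.trans (Equiv.apply_symm_apply _ _)
  haveI : IsIso ((stalkP x).map (DCoh.toP.map (mulHom (𝒜 := 𝒜) a b))) :=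
    @IsIso.of_isIso_fac_left _ _ _ _ _
      ((stalkP x).map (unitShP (DCoh.toP.obj (Twist.twist 𝒜 a) ⊗ DCoh.toP.obj (Twist.twist 𝒜 b))))
      _ ((stalkP x).map (mulPre a b)) (isIso_stalk_unitShP _) (isIso_stalk_mulPre φ hxV b)
      (((stalkP x).map_comp _ _).symm.trans (congrArg (fun φ => (stalkP x).map φ) h))
  exact (NatIso.isIso_map_iff (stalkToPIso x) (mulHom (𝒜 := 𝒜) a b)).2 this

/-- Some generator does not vanish at a given point. -/
theorem exists_notMem {ι : Type*} (f : ι → A) (deg : ι → ℕ) (hdeg : ∀ i, 0 < deg i)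
    (hf : ∀ i, f i ∈ 𝒜 (deg i)) (hgen : Algebra.adjoin R (Set.range f) = ⊤) (x : ProjectiveSpectrum 𝒜) :
    ∃ i, f i ∉ x.asHomogeneousIdeal := by
  by_contra hcon
  push Not at hcon
  refine x.not_irrelevant_le fun z hz => ?_
  have key : ∀ c : A, c - GradedRing.projZeroRingHom 𝒜 c ∈ x.asHomogeneousIdeal.toIdeal := by
    intro c
    have hc : c ∈ Algebra.adjoin R (Set.range f) := hgen ▸ Algebra.mem_top
    induction hc using Algebra.adjoin_induction with
    | mem c hc =>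
      obtain ⟨i, rfl⟩ := hc
      rw [GradedRing.projZeroRingHom_apply, DirectSum.decompose_of_mem_ne 𝒜 (hf i) (hdeg i).ne',
        sub_zero]
      exact hcon i
    | algebraMap r =>
      rw [GradedRing.projZeroRingHom_apply,
        DirectSum.decompose_of_mem_same 𝒜 (SetLike.algebraMap_mem_graded 𝒜 r), sub_self]
      exact zero_mem _
    | add c d _ _ hc hd => rw [map_add, add_sub_add_comm]; exact add_mem hc hd
    | mul c d _ _ hc hd =>
      rw [map_mul, show c * d - GradedRing.projZeroRingHom 𝒜 c * GradedRing.projZeroRingHom 𝒜 d =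
        c * (d - GradedRing.projZeroRingHom 𝒜 d) +
          (c - GradedRing.projZeroRingHom 𝒜 c) * GradedRing.projZeroRingHom 𝒜 d by ring]
      exact add_mem (Ideal.mul_mem_left _ _ hd) (Ideal.mul_mem_right _ _ hc)
  have h0 : GradedRing.projZeroRingHom 𝒜 z = 0 := by
    rw [GradedRing.projZeroRingHom_apply]
    exact (HomogeneousIdeal.mem_irrelevant_iff 𝒜 z).1 hz
  have := key z
  rwa [h0, sub_zero] at this

/-- Let B be a graded R-algebra generated by homogeneous elements f_1, …, f_s of positive degrees d_1,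
…, d_s, let l be the least common multiple of the d_i and X = Proj B. For all integers a and n,
O_X(al) ⊗ O_X(n) ≅ O_X(al + n). (The published statement asserts that the canonical multiplication
map is an isomorphism; this row asserts only that an isomorphism exists.) -/
theorem result {R A : Type u} [CommRing R] [CommRing A] [Algebra R A] (𝒜 : ℕ → Submodule R A) [GradedAlgebra 𝒜]
    {s : ℕ} (f : Fin s → A) (deg : Fin s → ℕ) (hdeg : ∀ i, 0 < deg i) (hf : ∀ i, f i ∈ 𝒜 (deg i))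
    (hgen : Algebra.adjoin R (Set.range f) = ⊤) (a n : ℤ) :
    Nonempty (CohB1.tensorMod (Twist.twist 𝒜 (a * (Finset.univ.lcm deg : ℕ))) (Twist.twist 𝒜 n) ≅
      Twist.twist 𝒜 (a * (Finset.univ.lcm deg : ℕ) + n)) := by
  let l : ℕ := Finset.univ.lcm deg
  refine ⟨@asIso _ _ _ _ (mulHom (a * (l : ℤ)) n) (isIso_mulHom _ _ fun x => ?_)⟩
  obtain ⟨i, hi⟩ := exists_notMem f deg hdeg hf hgen x
  refine ⟨D 𝒜 (f i), hi, ⟨?_⟩⟩
  exact
    { i := (l / deg i * a.toNat) * deg i
      j := (l / deg i * (-a).toNat) * deg i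
      num := f i ^ (l / deg i * a.toNat)
      den := f i ^ (l / deg i * (-a).toNat)
      num_mem := by simpa [smul_eq_mul] using SetLike.pow_mem_graded (l / deg i * a.toNat) (hf i)
      den_mem := by simpa [smul_eq_mul] using SetLike.pow_mem_graded (l / deg i * (-a).toNat) (hf i)
      deg := by
        have h : l / deg i * deg i = l := Nat.div_mul_cancel (Finset.dvd_lcm (Finset.mem_univ i))
        have ha : (a.toNat : ℤ) = (-a).toNat + a := by omega
        rw [mul_right_comm, h, mul_right_comm, h]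
        push_cast
        rw [ha]; ring
      num_ne := fun y => PnCoh.pow_notMem (y.2) _
      den_ne := fun y => PnCoh.pow_notMem (y.2) _ }

end Groth.Agent.S13170
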