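import Groth.Statements.S13169
import Groth.Agent.S13170
import Groth.Agent.H23.TwistAmple

set_option autoImplicit false
universe u
open CategoryTheory CategoryTheory.Limits AlgebraicGeometry TopologicalSpace Opposite
open ZeroCyc

set_option backward.isDefEq.respectTransparency false
set_option backward.isDefEq.respectTransparency.types false

namespace Groth.Agent.S13169

open Groth.Agent

variable {R A : Type u} [CommRing R] [CommRing A] [Algebra R A]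
  {𝒜 : ℕ → Submodule R A} [GradedAlgebra 𝒜]

/-- The locus where `G / 1` generates `O(N)`, for a family of degree `N` elements without common zero. -/
theorem genLocus_globalOf {κ : Type*} {N : ℕ} (G : κ → A) (hG : ∀ k, G k ∈ 𝒜 N)
    (hcov : ∀ x : Proj 𝒜, ∃ k, x ∈ Proj.basicOpen 𝒜 (G k)) (k : κ) :
    CohB1.genLocus (Twist.twist 𝒜 (N : ℤ)) (InvX.ofSect (Twist.globalOf 𝒜 ⟨G k, hG k⟩ : Γ(Twist.twist 𝒜 (N : ℤ), ⊤))) =
      Proj.basicOpen 𝒜 (G k) := by
  refine le_antisymm (fun x hx => ?_)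
    (InvX.le_genLocus _ (by rw [InvX.one_ofSect]; exact TwistX.isFrame_res_globalOf (hG k) fun y => y.2))
  obtain ⟨U, hxU, hU⟩ := InvX.mem_genLocus hx
  rw [InvX.one_ofSect] at hU
  obtain ⟨k', hk'⟩ := hcov x
  obtain ⟨r, hr⟩ := hU.exists_coord (inf_le_left : U ⊓ Proj.basicOpen 𝒜 (G k') ≤ U)
    (AModX.res (Twist.twist 𝒜 (N : ℤ)) le_top (Twist.globalOf 𝒜 ⟨G k', hG k'⟩ : Γ(Twist.twist 𝒜 (N : ℤ), ⊤)))
  rw [AModX.res_res] at hr
  have h := congrArg (fun q => ((show Twist.sectN (𝒜 := 𝒜) (N : ℤ) (op (U ⊓ Proj.basicOpen 𝒜 (G k'))) from q).1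
    ⟨x, hxU, hk'⟩).1) hr
  have h' : (Localization.mk (G k') 1 : Twist.Loc 𝒜 x) =
      ((show Twist.O (𝒜 := 𝒜) (op (U ⊓ Proj.basicOpen 𝒜 (G k'))) from r).1 ⟨x, hxU, hk'⟩).val *
        Localization.mk (G k) 1 :=
    h.trans (Twist.coe_smul_val (N : ℤ) x _ _)
  have hu : IsUnit (Localization.mk (G k') 1 : Twist.Loc 𝒜 x) := by
    rw [Localization.mk_one_eq_algebraMap]
    exact (IsLocalization.AtPrime.isUnit_to_map_iff _ x.asHomogeneousIdeal.toIdeal _).2 hk'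
  rw [h'] at hu
  have hu' := isUnit_of_mul_isUnit_right hu
  rw [Localization.mk_one_eq_algebraMap] at hu'
  exact (IsLocalization.AtPrime.isUnit_to_map_iff _ x.asHomogeneousIdeal.toIdeal _).1 hu'

/-- Let B be a graded R-algebra generated by homogeneous elements f_1, …, f_s of positive degrees d_1,
…, d_s, let l be the least common multiple of the d_i and X = Proj B. For n = a l with a ≥ 1, the
twisting sheaf O_X(n) is ample and is generated by its global sections b/1, b ∈ B_n. -/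
theorem result {R A : Type u} [CommRing R] [CommRing A] [Algebra R A] (𝒜 : ℕ → Submodule R A) [GradedAlgebra 𝒜]
    {s : ℕ} (f : Fin s → A) (deg : Fin s → ℕ) (hdeg : ∀ i, 0 < deg i) (hf : ∀ i, f i ∈ 𝒜 (deg i))
    (hgen : Algebra.adjoin R (Set.range f) = ⊤) (a : ℕ) (ha : 0 < a) :
    CohB1.IsAmple (Twist.twist 𝒜 ((a * Finset.univ.lcm deg : ℕ) : ℤ)) ∧
      ProjUP.GeneratedBy (Twist.twist 𝒜 ((a * Finset.univ.lcm deg : ℕ) : ℤ))
        (fun b : 𝒜 (a * Finset.univ.lcm deg) =>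
          (Twist.globalOf 𝒜 b : ProjUP.Γm (Twist.twist 𝒜 ((a * Finset.univ.lcm deg : ℕ) : ℤ)))) := by
  let l : ℕ := Finset.univ.lcm deg
  let N := a * l
  let G : Fin s → A := fun i => f i ^ (a * (l / deg i))
  have hl : 0 < l := Nat.pos_of_ne_zero fun h => by
    obtain ⟨i, -, hi⟩ := Finset.lcm_eq_zero_iff.1 h
    exact (hdeg i).ne' hi
  have hG : ∀ i, G i ∈ 𝒜 N := fun i => by
    have := SetLike.pow_mem_graded (a * (l / deg i)) (hf i)
    rwa [smul_eq_mul, mul_assoc, Nat.div_mul_cancel (Finset.dvd_lcm (Finset.mem_univ i))] at this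
  have hcov : ∀ x : Proj 𝒜, ∃ i, x ∈ Proj.basicOpen 𝒜 (G i) := fun x => by
    obtain ⟨i, hi⟩ := S13170.exists_notMem f deg hdeg hf hgen x
    exact ⟨i, PnCoh.pow_notMem hi _⟩
  have hN : 0 < N := Nat.mul_pos ha hl
  haveI : CompactSpace (Proj 𝒜) := ⟨by
    have h : (Set.univ : Set (Proj 𝒜)) = ⋃ i, (Proj.basicOpen 𝒜 (G i) : Set (Proj 𝒜)) :=
      (Set.eq_univ_of_forall fun x => Set.mem_iUnion.2 (hcov x)).symm
    rw [h]
    exact isCompact_iUnion fun i => (Proj.isAffineOpen_basicOpen 𝒜 (G i) (hG i) hN).isCompact⟩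
  have hfr := fun i => TwistX.isFrame_res_globalOf (hG i) (U := Proj.basicOpen 𝒜 (G i)) fun y => y.2
  refine ⟨?_, ProjUPX.generatedBy_of_frames _ fun x => ?_⟩
  · have hL : PicF.IsInvertible (Twist.twist 𝒜 (N : ℤ)) := InvX.isInvertible_of_frames fun x => by
      obtain ⟨i, hi⟩ := hcov x
      exact ⟨_, hi, _, hfr i⟩
    refine ⟨hL, inferInstance, fun x => ?_⟩
    obtain ⟨i, hi⟩ := hcov x
    let σ : Γ(Twist.twist 𝒜 (N : ℤ), ⊤) := Twist.globalOf 𝒜 ⟨G i, hG i⟩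
    refine ⟨0, InvX.powHom (InvX.ofSect (M := Twist.twist 𝒜 (N : ℤ)) σ) 1, ?_⟩
    rw [InvX.genLocus_powHom hL _ 0, show CohB1.genLocus (Twist.twist 𝒜 (N : ℤ)) (InvX.ofSect (M := Twist.twist 𝒜 (N : ℤ)) σ) = Proj.basicOpen 𝒜 (G i) from genLocus_globalOf G hG hcov i]
    exact ⟨hi, Proj.isAffineOpen_basicOpen 𝒜 (G i) (hG i) hN⟩
  · obtain ⟨i, hi⟩ := hcov x
    exact ⟨⟨G i, hG i⟩, Proj.basicOpen 𝒜 (G i), hi, hfr i⟩

end Groth.Agent.S13169
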