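import Groth.Statements.S13171
import Groth.Agent.S13170
import Groth.Agent.ProjUPX.Affine
import Groth.Agent.TwistX.Global

set_option autoImplicit false
universe u
open CategoryTheory CategoryTheory.Limits AlgebraicGeometry TopologicalSpace Opposite
open ZeroCyc

set_option backward.isDefEq.respectTransparency false
set_option backward.isDefEq.respectTransparency.types false

namespace Groth.Agent.S13171

variable {R A : Type u} [CommRing R] [CommRing A] [Algebra R A]
  {𝒜 : ℕ → Submodule R A} [GradedAlgebra 𝒜] {s : ℕ} {f : Fin s → A} {deg : Fin s → ℕ}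

theorem hom_mem_span (hf : ∀ i, f i ∈ 𝒜 (deg i)) (hgen : Algebra.adjoin R (Set.range f) = ⊤) {M : ℕ} {b : A}
    (hb : b ∈ 𝒜 M) :
    b ∈ Submodule.span R {z : A | ∃ e : Fin s → ℕ, ∑ i, e i * deg i = M ∧ z = ∏ i, f i ^ e i} := by
  classical
  have h1 : b ∈ Submodule.span R (Submonoid.closure (Set.range f) : Set A) := by
    rw [← Algebra.adjoin_eq_span, hgen]; exact trivial
  have h2 : GradedAlgebra.proj 𝒜 M b = b := by
    rw [GradedAlgebra.proj_apply, DirectSum.decompose_of_mem_same 𝒜 hb]
  rw [← h2]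
  refine (Submodule.span_le (p := (Submodule.span R _).comap (GradedAlgebra.proj 𝒜 M))).2 (fun z hz => ?_) h1
  have key : ∃ e : Fin s → ℕ, z = ∏ i, f i ^ e i ∧ z ∈ 𝒜 (∑ i, e i * deg i) := by
    induction hz using Submonoid.closure_induction with
    | mem z hz =>
      obtain ⟨i, rfl⟩ := hz
      refine ⟨Pi.single i 1, ?_, ?_⟩
      · rw [Finset.prod_eq_single i (fun j _ hj => by simp [hj]) (by simp)]; simp
      · rw [Finset.sum_eq_single i (fun j _ hj => by simp [hj]) (by simp)]; simpa using hf i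
    | one => exact ⟨0, by simp, by simpa using SetLike.GradedOne.one_mem (A := 𝒜)⟩
    | mul a b _ _ ha hb =>
      obtain ⟨e, he, he'⟩ := ha
      obtain ⟨e', he₁, he₂⟩ := hb
      refine ⟨e + e', ?_, ?_⟩
      · simp only [Pi.add_apply, pow_add, Finset.prod_mul_distrib, ← he, ← he₁]
      · simpa only [Pi.add_apply, add_mul, Finset.sum_add_distrib] using SetLike.mul_mem_graded he' he₂
  obtain ⟨e, he, hz'⟩ := key
  show GradedAlgebra.proj 𝒜 M z ∈ Submodule.span R _
  rw [GradedAlgebra.proj_apply]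
  by_cases h : ∑ i, e i * deg i = M
  · rw [DirectSum.decompose_of_mem_same 𝒜 (h ▸ hz')]
    exact Submodule.subset_span ⟨e, h, he⟩
  · rw [DirectSum.decompose_of_mem_ne 𝒜 hz' h]
    exact zero_mem _

theorem mul_le_graded (i j : ℕ) : 𝒜 i * 𝒜 j ≤ 𝒜 (i + j) :=
  Submodule.mul_le.2 fun _ ha _ hb => SetLike.mul_mem_graded ha hb

/-- In large degree every element is a combination of multiples of degree `n`. -/
theorem le_mul (hdeg : ∀ i, 0 < deg i) (hf : ∀ i, f i ∈ 𝒜 (deg i))
    (hgen : Algebra.adjoin R (Set.range f) = ⊤) {n : ℕ} (hn : (s - 1) * (Finset.univ.lcm deg - 1) ≤ n) :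
    ∀ m : ℕ, 𝒜 (n + m * Finset.univ.lcm deg) ≤ 𝒜 (m * Finset.univ.lcm deg) * 𝒜 n
  | 0 => fun b hb => by
    rw [zero_mul, add_zero] at hb
    rw [zero_mul]
    exact one_mul b ▸ Submodule.mul_mem_mul (SetLike.GradedOne.one_mem (A := 𝒜)) hb
  | m + 1 => fun b hb => by
    classical
    set l := Finset.univ.lcm deg with hldef
    refine Submodule.span_le.2 ?_ (hom_mem_span hf hgen hb)
    rintro z ⟨e, he, rfl⟩
    have hl : 0 < l := Nat.pos_of_ne_zero fun h => by
      obtain ⟨i, -, hi⟩ := Finset.lcm_eq_zero_iff.1 h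
      exact (hdeg i).ne' hi
    obtain ⟨i, hi⟩ : ∃ i, l / deg i ≤ e i := by
      by_contra hcon
      push Not at hcon
      have hsum : ∑ i, e i * deg i ≤ s * (l - 1) := by
        refine (Finset.sum_le_sum (g := fun _ => l - 1) fun i _ => ?_).trans (by simp)
        have h1 : (e i + 1) * deg i ≤ l :=
          (Nat.mul_le_mul_right _ (hcon i)).trans_eq (Nat.div_mul_cancel (Finset.dvd_lcm (Finset.mem_univ i)))
        have := hdeg i
        rw [add_mul, one_mul] at h1
        omega
      rw [he] at hsum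
      rcases Nat.eq_zero_or_pos s with hs | hs
      · subst hs; simp at hsum; omega
      · have : s * (l - 1) = (s - 1) * (l - 1) + (l - 1) := by
          rw [← Nat.succ_mul]; congr 1; omega
        rw [Nat.succ_mul] at hsum
        omega
    let e' : Fin s → ℕ := Function.update e i (e i - l / deg i)
    have hz : ∏ j, f j ^ e j = f i ^ (l / deg i) * ∏ j, f j ^ e' j := by
      rw [← Finset.mul_prod_erase _ _ (Finset.mem_univ i), ← Finset.mul_prod_erase _ _ (Finset.mem_univ i),
        ← mul_assoc]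
      congr 1
      · simp only [e', Function.update_self, ← pow_add]
        congr 1; omega
      · exact Finset.prod_congr rfl fun j hj => by simp [e', Function.update_of_ne (Finset.ne_of_mem_erase hj)]
    have hd : l / deg i * deg i = l := Nat.div_mul_cancel (Finset.dvd_lcm (Finset.mem_univ i))
    have he' : ∑ j, e' j * deg j = n + m * l := by
      have h1 : ∑ j, e j * deg j = l + ∑ j, e' j * deg j := by
        rw [← Finset.add_sum_erase _ _ (Finset.mem_univ i), ← Finset.add_sum_erase _ _ (Finset.mem_univ i),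
          ← add_assoc]
        congr 1
        · simp only [e', Function.update_self]
          rw [Nat.sub_mul, hd]
          have := Nat.mul_le_mul_right (deg i) hi
          rw [hd] at this
          omega
        · exact Finset.sum_congr rfl fun j hj => by simp [e', Function.update_of_ne (Finset.ne_of_mem_erase hj)]
      rw [he, Nat.succ_mul] at h1
      omega
    have hF : f i ^ (l / deg i) ∈ 𝒜 l := by
      have := SetLike.pow_mem_graded (l / deg i) (hf i)
      rwa [smul_eq_mul, hd] at this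
    have hrest : ∏ j, f j ^ e' j ∈ 𝒜 (n + m * l) := by
      rw [← he']
      have := SetLike.prod_pow_mem_graded (A := 𝒜) deg e' (g := f) (F := Finset.univ) fun j _ => hf j
      simpa [smul_eq_mul] using this
    rw [SetLike.mem_coe, hz]
    have h := Submodule.mul_mem_mul hF (le_mul hdeg hf hgen hn m hrest)
    rw [← mul_assoc] at h
    exact Submodule.mul_le.2 (fun u hu v hv => Submodule.mul_mem_mul (((mul_le_graded l (m * l)).trans (le_of_eq (by rw [Nat.succ_mul, add_comm]))) hu) hv) h

/-- Let B be a graded R-algebra generated by homogeneous elements f_1, …, f_s of positive degrees d_1,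
…, d_s, let l be the least common multiple of the d_i and X = Proj B. For n ≥ (s − 1)(l − 1), O_X(n)
is generated by its global sections b/1, b ∈ B_n. -/
theorem result {R A : Type u} [CommRing R] [CommRing A] [Algebra R A] (𝒜 : ℕ → Submodule R A) [GradedAlgebra 𝒜]
    {s : ℕ} (f : Fin s → A) (deg : Fin s → ℕ) (hdeg : ∀ i, 0 < deg i) (hf : ∀ i, f i ∈ 𝒜 (deg i))
    (hgen : Algebra.adjoin R (Set.range f) = ⊤) (n : ℕ) (hn : (s - 1) * (Finset.univ.lcm deg - 1) ≤ n) :
    ProjUP.GeneratedBy (Twist.twist 𝒜 (n : ℤ))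
      (fun b : 𝒜 n => (Twist.globalOf 𝒜 b : ProjUP.Γm (Twist.twist 𝒜 (n : ℤ)))) := by
  intro x
  let L := Twist.twist 𝒜 (n : ℤ)
  let Sp : Submodule ((Proj 𝒜).presheaf.stalk x) (L.presheaf.stalk x) :=
    Submodule.span _ (Set.range fun b : 𝒜 n =>
      (L.presheaf.germ ⊤ x trivial).hom (Twist.globalOf 𝒜 b : ProjUP.Γm L))
  refine eq_top_iff.2 fun y _ => (?_ : y ∈ Sp)
  obtain ⟨W, hxW, m, rfl⟩ := TopCat.Presheaf.exists_germ_eq L.presheaf y
  obtain ⟨V, hxV, iV, i, j, p, q, nq, hij, w⟩ := (show Twist.sectN (𝒜 := 𝒜) (n : ℤ) (op W) from m).2 ⟨x, hxW⟩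
  rw [← L.presheaf.germ_res_apply iV x hxV m]
  rcases hij with hij | hp0
  swap
  · have h0 : L.presheaf.map iV.op m = 0 := by
      refine Subtype.ext (funext fun y => Subtype.ext ?_)
      refine (w y).trans ?_
      rw [hp0, Localization.mk_zero]
      rfl
    rw [h0, map_zero]
    exact zero_mem _
  have hl : 0 < Finset.univ.lcm deg := Nat.pos_of_ne_zero fun h => by
    obtain ⟨i, -, hi⟩ := Finset.lcm_eq_zero_iff.1 h
    exact (hdeg i).ne' hi
  obtain ⟨l, hl'⟩ : ∃ l, Finset.univ.lcm deg = l + 1 := ⟨_, (Nat.succ_pred_eq_of_pos hl).symm⟩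
  let J := j * (l + 1)
  let den : A := q.1 ^ (l + 1)
  have hden : den ∈ 𝒜 J := by
    have := SetLike.pow_mem_graded (l + 1) q.2
    rwa [smul_eq_mul, mul_comm] at this
  have hdne : ∀ y : V, den ∉ y.1.asHomogeneousIdeal := fun y => PnCoh.pow_notMem (nq y) _
  let frac : (c : A) → c ∈ 𝒜 (J + n) → Twist.sectN (𝒜 := 𝒜) (n : ℤ) (op V) := fun c hc =>
    ⟨fun y => ⟨Localization.mk c ⟨den, hdne y⟩,
      Submodule.subset_span ⟨J + n, J, ⟨c, hc⟩, ⟨den, hden⟩, hdne y, by push_cast; rfl, rfl⟩⟩,
     fun y => ⟨V, y.2, 𝟙 _, J + n, J, ⟨c, hc⟩, ⟨den, hden⟩, hdne, Or.inl (by push_cast; rfl), fun _ => rfl⟩⟩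
  have hnum : p.1 * q.1 ^ l ∈ 𝒜 (n + j * Finset.univ.lcm deg) := by
    have hi : i = j + n := by exact_mod_cast hij
    have := SetLike.mul_mem_graded p.2 (SetLike.pow_mem_graded l q.2)
    rw [smul_eq_mul] at this
    rwa [hl', show n + j * (l + 1) = i + l * j by rw [hi]; ring]
  have hmem : p.1 * q.1 ^ l ∈ 𝒜 J * 𝒜 n := by
    have := le_mul hdeg hf hgen hn j hnum
    rwa [hl'] at this
  have hall : ∀ c (hc : c ∈ 𝒜 J * 𝒜 n),
      (L.presheaf.germ V x hxV).hom (frac c (mul_le_graded J n hc)) ∈ Sp := by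
    intro c hc
    induction hc using Submodule.mul_induction_on' with
    | mem_mul_mem C hC b hb =>
      let r : Γ(Proj 𝒜, V) :=
        ⟨fun y => HomogeneousLocalization.mk ⟨J, ⟨C, hC⟩, ⟨den, hden⟩, hdne y⟩,
          fun y => ⟨V, y.2, 𝟙 _, J, ⟨C, hC⟩, ⟨den, hden⟩, fun z => hdne z, fun _ => rfl⟩⟩
      have e : (frac (C * b) (mul_le_graded J n (Submodule.mul_mem_mul hC hb)) : Γ(L, V)) =
          r • L.presheaf.map (homOfLE le_top).op (Twist.globalOf 𝒜 ⟨b, hb⟩ : ProjUP.Γm L) := by
        refine Subtype.ext (funext fun y => Subtype.ext ?_)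
        refine Eq.trans ?_ (Twist.coe_smul_val (n : ℤ) y.1 (r.1 y) _).symm
        show Localization.mk (C * b) _ = Localization.mk C ⟨den, hdne y⟩ * Localization.mk b _
        rw [Localization.mk_mul]
        congr 1
        exact Subtype.ext (mul_one _).symm
      refine (congrArg (· ∈ Sp) (congrArg (L.presheaf.germ V x hxV).hom e)).mpr ?_
      rw [QCoh.germ_smul']
      refine Sp.smul_mem _ (Submodule.subset_span ⟨⟨b, hb⟩, ?_⟩)
      exact (L.presheaf.germ_res_apply (homOfLE le_top) x hxV _).symm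
    | add c hc d hd ihc ihd =>
      have e : (frac (c + d) (mul_le_graded J n (add_mem hc hd)) : Γ(L, V)) =
          (frac c (mul_le_graded J n hc) : Γ(L, V)) + frac d (mul_le_graded J n hd) := by
        refine Subtype.ext (funext fun y => Subtype.ext ?_)
        exact (Localization.add_mk_self c _ d).symm
      refine (congrArg (· ∈ Sp) ((congrArg (L.presheaf.germ V x hxV).hom e).trans (map_add _ _ _))).mpr ?_
      exact add_mem ihc ihd
  have hs : L.presheaf.map iV.op m = (frac (p.1 * q.1 ^ l) (mul_le_graded J n hmem) : Γ(L, V)) := by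
    refine Subtype.ext (funext fun y => Subtype.ext ?_)
    refine (w y).trans ?_
    show Localization.mk p.1 _ = Localization.mk (p.1 * q.1 ^ l) _
    rw [Localization.mk_eq_mk_iff, Localization.r_iff_exists]
    exact ⟨1, by simp [den, pow_succ]; ring⟩
  rw [hs]
  exact hall _ hmem

end Groth.Agent.S13171
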