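import Groth.Statements.S13182
import Groth.Agent.S13169
import Groth.Agent.S13171
import Groth.Agent.Ega2Va.Crit

set_option autoImplicit false
universe u
open CategoryTheory CategoryTheory.Limits AlgebraicGeometry TopologicalSpace Opposite
open ZeroCyc

set_option backward.isDefEq.respectTransparency false
set_option backward.isDefEq.respectTransparency.types false
set_option linter.style.haveILetI false

namespace Groth.Agent.S13182

open Groth.Agent Groth.Agent.H23
open HomogeneousLocalization (Away fromZeroRingHom)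

variable {R A : Type u} [CommRing R] [CommRing A] [Algebra R A]
  {𝒜 : ℕ → Submodule R A} [GradedAlgebra 𝒜] {s : ℕ} {f : Fin s → A} {deg : Fin s → ℕ}

theorem algebraMap_zero_surjective (hdeg : ∀ i, 0 < deg i) (hf : ∀ i, f i ∈ 𝒜 (deg i))
    (hgen : Algebra.adjoin R (Set.range f) = ⊤) : Function.Surjective (algebraMap R (𝒜 0)) := by
  rintro ⟨z, hz⟩
  have h : z ∈ Submodule.span R ({1} : Set A) := by
    refine Submodule.span_mono ?_ (S13171.hom_mem_span hf hgen hz)
    rintro w ⟨e, he, rfl⟩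
    refine Set.mem_singleton_iff.2 (Finset.prod_eq_one fun i _ => ?_)
    have h0 := (Finset.sum_eq_zero_iff.1 he) i (Finset.mem_univ i)
    have := hdeg i
    rw [show e i = 0 by rcases Nat.mul_eq_zero.1 h0 with h | h <;> omega, pow_zero]
  obtain ⟨r, hr⟩ := Submodule.mem_span_singleton.1 h
  refine ⟨r, Subtype.ext ?_⟩
  show algebraMap R A r = z
  rw [← hr, Algebra.smul_def, mul_one]

/-- The structure morphism of `Proj`. -/
noncomputable abbrev str (𝒜 : ℕ → Submodule R A) [GradedAlgebra 𝒜] : Proj 𝒜 ⟶ Spec (CommRingCat.of R) :=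
  Proj.toSpecZero 𝒜 ≫ Spec.map (CommRingCat.ofHom (algebraMap R (𝒜 0)))

theorem str_appLE {N : ℕ} (hN : 0 < N) {b : A} (hb : b ∈ 𝒜 N) (r : R) :
    ((str 𝒜).appLE ⊤ (Proj.basicOpen 𝒜 b) le_top).hom ((Scheme.ΓSpecIso (CommRingCat.of R)).inv r) =
      (Proj.awayToSection 𝒜 b).hom (fromZeroRingHom 𝒜 (Submonoid.powers b) (algebraMap R (𝒜 0) r)) := by
  have hU : (Proj.basicOpen 𝒜 b).ι ≫ str 𝒜 = Proj.basicOpenToSpec 𝒜 b ≫
      Spec.map (CommRingCat.ofHom ((fromZeroRingHom 𝒜 (Submonoid.powers b)).comp (algebraMap R (𝒜 0)))) := by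
    have e : (Proj.basicOpen 𝒜 b).ι = Proj.basicOpenToSpec 𝒜 b ≫ Proj.awayι 𝒜 b hb hN := by
      rw [← Proj.basicOpenIsoSpec_inv_ι, ← Proj.basicOpenIsoSpec_hom 𝒜 b hb hN, Iso.hom_inv_id_assoc]
    rw [e, str, Category.assoc, Proj.awayι_toSpecZero_assoc, ← Spec.map_comp]
    rfl
  have h : (str 𝒜).appLE ⊤ (Proj.basicOpen 𝒜 b) le_top =
      ((Proj.basicOpen 𝒜 b).ι ≫ str 𝒜).appTop ≫ (Proj.basicOpen 𝒜 b).topIso.hom := by
    simp [Scheme.Hom.appLE, Scheme.Opens.topIso, ← Functor.map_comp]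
  rw [h, hU, Scheme.Hom.comp_appTop]
  rw [show (Proj.basicOpenToSpec 𝒜 b).appTop = _ from Proj.basicOpenToSpec_app_top 𝒜 b]
  simp only [Category.assoc, Iso.inv_hom_id, Category.comp_id]
  rw [Scheme.ΓSpecIso_naturality_assoc, ← CommRingCat.comp_apply, Iso.inv_hom_id_assoc]
  rfl

/-- A subring with the constants and the ratios of degree `N` elements to `b` is everything. -/
theorem eq_top_of_ratios {N a : ℕ} (hN : 0 < N) (hNa : N = a * Finset.univ.lcm deg)
    (hdeg : ∀ i, 0 < deg i) (hf : ∀ i, f i ∈ 𝒜 (deg i)) (hgen : Algebra.adjoin R (Set.range f) = ⊤)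
    (hn : (s - 1) * (Finset.univ.lcm deg - 1) ≤ N) {b : A} (hb : b ∈ 𝒜 N) {U : (Proj 𝒜).Opens}
    (hU : U = Proj.basicOpen 𝒜 b) (B : Subring Γ(Proj 𝒜, U))
    (hconst : Set.range ((str 𝒜).appLE ⊤ U le_top).hom ⊆ B)
    {κ : Type*} (c : κ → A) (hc : ∀ k, c k ∈ 𝒜 N) (hspan : 𝒜 N ≤ Submodule.span R (Set.range c))
    (hrat : ∀ (k : κ) (β : Γ(Proj 𝒜, U)),
      AModX.res (Twist.twist 𝒜 (N : ℤ)) (le_top : U ≤ ⊤) (Twist.globalOf 𝒜 ⟨c k, hc k⟩) =
        β • AModX.res (Twist.twist 𝒜 (N : ℤ)) (le_top : U ≤ ⊤) (Twist.globalOf 𝒜 ⟨b, hb⟩) → β ∈ B) :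
    B = ⊤ := by
  subst hU
  let B₀ : Subring (Away 𝒜 b) := B.comap (Proj.awayToSection 𝒜 b).hom
  have key0 : ∀ (x : A) (hx : x ∈ 𝒜 (0 • N)), Away.mk 𝒜 hb 0 x hx ∈ B₀ := by
    intro x hx
    obtain ⟨r, hr⟩ := algebraMap_zero_surjective hdeg hf hgen ⟨x, by rwa [zero_smul] at hx⟩
    have e : Away.mk 𝒜 hb 0 x hx = fromZeroRingHom 𝒜 (Submonoid.powers b) (algebraMap R (𝒜 0) r) := by
      refine HomogeneousLocalization.val_injective _ ?_
      rw [hr]
      refine (Away.val_mk 𝒜 0 hb x hx).trans ?_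
      show _ = Localization.mk x _
      congr 1
      exact Subtype.ext (pow_zero b)
    rw [Subring.mem_comap, e, ← str_appLE hN hb r]
    exact hconst ⟨_, rfl⟩
  have key1 : ∀ (x : A) (hx : x ∈ 𝒜 (1 • N)), Away.mk 𝒜 hb 1 x hx ∈ B₀ := by
    intro x hx
    suffices h : ∀ y, y ∈ Submodule.span R (Set.range c) → ∀ hy : y ∈ 𝒜 (1 • N), Away.mk 𝒜 hb 1 y hy ∈ B₀ from
      h x (hspan (by rwa [one_smul] at hx)) hx
    intro y hy
    induction hy using Submodule.span_induction with
    | mem y hy =>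
      intro hy'
      obtain ⟨k, rfl⟩ := hy
      refine hrat k _ ?_
      refine Subtype.ext (funext fun z => Subtype.ext ?_)
      refine Eq.trans ?_ (Twist.coe_smul_val (N : ℤ) z.1 _ _).symm
      show Localization.mk (c k) _ = Localization.mk (c k) _ * Localization.mk b _
      rw [Localization.mk_mul, Localization.mk_eq_mk_iff, Localization.r_iff_exists]
      exact ⟨1, by simp; ring⟩
    | zero =>
      intro hy'
      rw [show Away.mk 𝒜 hb 1 (0 : A) hy' = 0 from HomogeneousLocalization.val_injective _ (by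
        rw [Away.val_mk, HomogeneousLocalization.val_zero, Localization.mk_zero])]
      exact zero_mem _
    | add y z hy hz ihy ihz =>
      intro hyz
      have hy' : y ∈ 𝒜 (1 • N) := by
        rw [one_smul]; exact (Submodule.span_le.2 (Set.range_subset_iff.2 hc)) hy
      have hz' : z ∈ 𝒜 (1 • N) := by
        rw [one_smul]; exact (Submodule.span_le.2 (Set.range_subset_iff.2 hc)) hz
      rw [show Away.mk 𝒜 hb 1 (y + z) hyz = Away.mk 𝒜 hb 1 y hy' + Away.mk 𝒜 hb 1 z hz' from
        HomogeneousLocalization.val_injective _ (by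
          rw [HomogeneousLocalization.val_add, Away.val_mk, Away.val_mk, Away.val_mk, Localization.add_mk_self])]
      exact add_mem (ihy hy') (ihz hz')
    | smul r y hy ihy =>
      intro hry
      have hy' : y ∈ 𝒜 (1 • N) := by
        rw [one_smul]; exact (Submodule.span_le.2 (Set.range_subset_iff.2 hc)) hy
      have hr0 : algebraMap R A r ∈ 𝒜 (0 • N) := by rw [zero_smul]; exact SetLike.algebraMap_mem_graded 𝒜 r
      rw [show Away.mk 𝒜 hb 1 (r • y) hry = Away.mk 𝒜 hb 0 (algebraMap R A r) hr0 * Away.mk 𝒜 hb 1 y hy' from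
        HomogeneousLocalization.val_injective _ (by
          rw [HomogeneousLocalization.val_mul, Away.val_mk, Away.val_mk, Away.val_mk, Localization.mk_mul,
            Algebra.smul_def]
          congr 1
          exact Subtype.ext (by simp))]
      exact mul_mem (key0 _ hr0) (ihy hy')
  have key : ∀ (m : ℕ) (x : A) (hx : x ∈ 𝒜 (m • N)), Away.mk 𝒜 hb m x hx ∈ B₀ := by
    intro m
    induction m with
    | zero => exact key0
    | succ m ih =>
      intro x hx
      have hx2 : x ∈ 𝒜 (m • N) * 𝒜 N := by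
        have h := S13171.le_mul hdeg hf hgen hn (m * a)
        rw [mul_assoc, ← hNa] at h
        rw [smul_eq_mul]
        exact h (by rwa [smul_eq_mul, Nat.succ_mul, add_comm] at hx)
      have hle : 𝒜 (m • N) * 𝒜 N ≤ 𝒜 ((m + 1) • N) := by
        refine (S13171.mul_le_graded _ _).trans (le_of_eq ?_)
        rw [succ_nsmul]
      suffices h : ∀ y (hy : y ∈ 𝒜 (m • N) * 𝒜 N), Away.mk 𝒜 hb (m + 1) y (hle hy) ∈ B₀ from h x hx2
      intro y hy
      induction hy using Submodule.mul_induction_on' with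
      | mem_mul_mem C hC d hd =>
        rw [show Away.mk 𝒜 hb (m + 1) (C * d) (hle (Submodule.mul_mem_mul hC hd)) =
            Away.mk 𝒜 hb m C hC * Away.mk 𝒜 hb 1 d (by rwa [one_smul]) from
          HomogeneousLocalization.val_injective _ (by
            rw [HomogeneousLocalization.val_mul, Away.val_mk, Away.val_mk, Away.val_mk, Localization.mk_mul]
            congr 1
            exact Subtype.ext (by simp [pow_succ]))]
        exact mul_mem (ih _ hC) (key1 _ _)
      | add y hy z hz ihy ihz =>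
        rw [show Away.mk 𝒜 hb (m + 1) (y + z) (hle (add_mem hy hz)) =
            Away.mk 𝒜 hb (m + 1) y (hle hy) + Away.mk 𝒜 hb (m + 1) z (hle hz) from
          HomogeneousLocalization.val_injective _ (by
            rw [HomogeneousLocalization.val_add, Away.val_mk, Away.val_mk, Away.val_mk, Localization.add_mk_self])]
        exact add_mem ihy ihz
  refine eq_top_iff.2 fun z _ => ?_
  obtain ⟨w, rfl⟩ := (ConcreteCategory.bijective_of_isIso (Proj.basicOpenIsoAway 𝒜 b hb hN).hom).2 z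
  obtain ⟨m, x, hx, rfl⟩ := Away.mk_surjective 𝒜 hb w
  exact key m x hx

/-- Let B be a graded R-algebra generated by homogeneous elements f_1, …, f_s of positive degrees d_1,
…, d_s, let l be the least common multiple of the d_i and X = Proj B. For n = a l with a ≥ max(1, s
− 1) there is a closed immersion i of X into a projective space over R, over Spec R, with O_X(n) ≅
i^*O(1); in particular O_X(n) is very ample relative to Spec R. (The published statement takes for i
the canonical morphism into P(B_n) given by the sections B_n; this row asserts only a closed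
immersion into some projective space P^N over R with an isomorphism O_X(n) ≅ i^*O(1).) -/
theorem result {R A : Type u} [CommRing R] [CommRing A] [Algebra R A] (𝒜 : ℕ → Submodule R A) [GradedAlgebra 𝒜]
    {s : ℕ} (f : Fin s → A) (deg : Fin s → ℕ) (hdeg : ∀ i, 0 < deg i) (hf : ∀ i, f i ∈ 𝒜 (deg i))
    (hgen : Algebra.adjoin R (Set.range f) = ⊤) (a : ℕ) (ha : 0 < a) (has : s - 1 ≤ a) :
    ∃ (N : ℕ) (i : Proj 𝒜 ⟶ CohB1.ProjSpaceOver N (Spec (CommRingCat.of R))), IsClosedImmersion i ∧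
      i ≫ pullback.snd (CohB1.ProjSpace.toSpec N (ULift.{u} ℤ)) (specULiftZIsTerminal.from (Spec (CommRingCat.of R))) =
        Proj.toSpecZero 𝒜 ≫ Spec.map (CommRingCat.ofHom (algebraMap R (𝒜 0))) ∧
      Nonempty (Twist.twist 𝒜 ((a * Finset.univ.lcm deg : ℕ) : ℤ) ≅
        (Scheme.Modules.pullback i).obj (Twist.twistOver N (Spec (CommRingCat.of R)) 1)) := by
  classical
  let l : ℕ := Finset.univ.lcm deg
  let N := a * l
  have hl : 0 < l := Nat.pos_of_ne_zero fun h => by
    obtain ⟨i, -, hi⟩ := Finset.lcm_eq_zero_iff.1 h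
    exact (hdeg i).ne' hi
  have hN : 0 < N := Nat.mul_pos ha hl
  have hn : (s - 1) * (l - 1) ≤ N := (Nat.mul_le_mul has (Nat.sub_le l 1))
  -- the monomials of degree `N`
  let ι := {e : Fin s → Fin (N + 1) // ∑ i, (e i : ℕ) * deg i = N}
  let eq : ι ≃ Fin (Fintype.card ι) := Fintype.equivFin ι
  let mon : ι → A := fun e => ∏ i, f i ^ (e.1 i : ℕ)
  have hmon : ∀ e : ι, mon e ∈ 𝒜 N := fun e => by
    have := SetLike.prod_pow_mem_graded (A := 𝒜) deg (fun i => (e.1 i : ℕ)) (g := f) (F := Finset.univ)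
      fun j _ => hf j
    simp only [smul_eq_mul] at this
    rwa [e.2] at this
  let c : Fin (Fintype.card ι + 1) → A := Fin.cons 0 (mon ∘ eq.symm)
  have hc : ∀ k, c k ∈ 𝒜 N := Fin.cases (zero_mem _) fun k => hmon _
  have hspan : 𝒜 N ≤ Submodule.span R (Set.range c) := fun x hx => by
    refine Submodule.span_mono ?_ (S13171.hom_mem_span hf hgen hx)
    rintro z ⟨e, he, rfl⟩
    have hle : ∀ i, e i < N + 1 := fun i => Nat.lt_succ_of_le
      ((Nat.le_mul_of_pos_right _ (hdeg i)).trans (he ▸ Finset.single_le_sum (f := fun i => e i * deg i)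
        (fun _ _ => Nat.zero_le _) (Finset.mem_univ i)))
    exact ⟨(eq ⟨fun i => ⟨e i, hle i⟩, he⟩).succ, by simp [c, mon]⟩
  have hcov : ∀ x : Proj 𝒜, ∃ k, x ∈ Proj.basicOpen 𝒜 (c k) := fun x => by
    obtain ⟨i, hi⟩ := S13170.exists_notMem f deg hdeg hf hgen x
    let p := a * (l / deg i)
    have hp : p * deg i = N := by
      rw [mul_assoc, Nat.div_mul_cancel (Finset.dvd_lcm (Finset.mem_univ i))]
    have hpN : p < N + 1 := Nat.lt_succ_of_le ((Nat.le_mul_of_pos_right _ (hdeg i)).trans hp.le)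
    let e : Fin s → Fin (N + 1) := Pi.single i ⟨p, hpN⟩
    have he : ∑ j, (e j : ℕ) * deg j = N := by
      rw [Finset.sum_eq_single i (fun j _ hj => by simp [e, hj]) (by simp)]
      simpa [e] using hp
    refine ⟨(eq ⟨e, he⟩).succ, ?_⟩
    have : c (eq ⟨e, he⟩).succ = f i ^ p := by
      simp only [c, Fin.cons_succ, Function.comp_apply, Equiv.symm_apply_apply, mon]
      rw [Finset.prod_eq_single i (fun j _ hj => by simp [e, hj]) (by simp)]
      simp [e]
    rw [this]
    exact PnCoh.pow_notMem hi _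
  have hL : PicF.IsInvertible (Twist.twist 𝒜 (N : ℤ)) := InvX.isInvertible_of_frames fun x => by
    obtain ⟨k, hk⟩ := hcov x
    exact ⟨_, hk, _, TwistX.isFrame_res_globalOf (hc k) fun y => y.2⟩
  let sec : Fin (Fintype.card ι + 1) → Γ(Twist.twist 𝒜 (N : ℤ), ⊤) := fun k => Twist.globalOf 𝒜 ⟨c k, hc k⟩
  have hlocus : ∀ k, TrivBasic.locus (sec k) = Proj.basicOpen 𝒜 (c k) := fun k =>
    S13169.genLocus_globalOf c hc hcov k
  obtain ⟨n, i, himm, hq, hiso⟩ := Ega2Va.isRelVeryAmplePn_of_sections (str 𝒜) hL sec Set.univ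
    (fun x => by obtain ⟨k, hk⟩ := hcov x; exact ⟨k, trivial, (hlocus k).ge hk⟩)
    (fun k _ => (hlocus k).symm ▸ Proj.isAffineOpen_basicOpen 𝒜 (c k) (hc k) hN)
    (fun k _ B h1 h2 => eq_top_of_ratios hN rfl hdeg hf hgen hn (hc k) (hlocus k) B h1 c hc hspan
      fun k' β hβ => h2 k' β hβ)
  haveI : Algebra.FiniteType R A := ⟨⟨Finset.univ.image f, by simpa using hgen⟩⟩
  haveI : IsScalarTower R (𝒜 0) A := ⟨fun r x y => smul_mul_assoc r (x : A) y⟩
  haveI : Algebra.FiniteType (𝒜 0) A := Algebra.FiniteType.of_restrictScalars_finiteType R (𝒜 0) A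
  haveI : IsClosedImmersion (Spec.map (CommRingCat.ofHom (algebraMap R (𝒜 0)))) :=
    IsClosedImmersion.spec_of_surjective _ (algebraMap_zero_surjective hdeg hf hgen)
  haveI : IsProper (str 𝒜) := inferInstanceAs (IsProper (Proj.toSpecZero 𝒜 ≫ _))
  haveI : IsProper (i ≫ pullback.snd (CohB1.ProjSpace.toSpec n (ULift.{u} ℤ))
      (specULiftZIsTerminal.from (Spec (CommRingCat.of R)))) := hq.symm ▸ ‹IsProper (str 𝒜)›
  haveI := PnCoh.Chow.isProper_toSpec n (ULift.{u} ℤ)
  haveI : IsProper i := IsProper.of_comp i (pullback.snd (CohB1.ProjSpace.toSpec n (ULift.{u} ℤ))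
    (specULiftZIsTerminal.from (Spec (CommRingCat.of R))))
  haveI := himm
  exact ⟨n, i, IsClosedImmersion.of_isPreimmersion i i.isClosedMap.isClosed_range, hq, hiso⟩

end Groth.Agent.S13182
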