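import Groth.Statements.S13183
import Groth.Agent.S13182

set_option autoImplicit false
universe u
open CategoryTheory CategoryTheory.Limits AlgebraicGeometry TopologicalSpace Opposite
open ZeroCyc

set_option backward.isDefEq.respectTransparency false
set_option backward.isDefEq.respectTransparency.types false
set_option linter.style.haveILetI false

namespace Groth.Agent.S13183

open Groth.Agent Groth.Agent.H23
open HomogeneousLocalization (Away fromZeroRingHom)

variable {R A : Type u} [CommRing R] [CommRing A] [Algebra R A]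
  {𝒜 : ℕ → Submodule R A} [GradedAlgebra 𝒜] {s : ℕ} {f : Fin s → A} {deg : Fin s → ℕ}

theorem exists_generators {d : ℕ} (hgen : Algebra.adjoin R (⋃ i ∈ Finset.Icc 1 d, (𝒜 i : Set A)) = ⊤)
    [Algebra.FiniteType R A] :
    ∃ (s : ℕ) (f : Fin s → A) (deg : Fin s → ℕ), (∀ i, 0 < deg i ∧ deg i ≤ d) ∧ (∀ i, f i ∈ 𝒜 (deg i)) ∧
      Algebra.adjoin R (Set.range f) = ⊤ := by
  classical
  set U : Set A := ⋃ i ∈ Finset.Icc 1 d, (𝒜 i : Set A)
  have hfin : ∀ t : A, ∃ F : Finset A, (F : Set A) ⊆ U ∧ t ∈ Algebra.adjoin R (F : Set A) := fun t => by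
    have ht : t ∈ Algebra.adjoin R U := hgen ▸ Algebra.mem_top
    induction ht using Algebra.adjoin_induction with
    | mem x hx => exact ⟨{x}, by simpa using hx, Algebra.subset_adjoin (by simp)⟩
    | algebraMap r => exact ⟨∅, by simp, Subalgebra.algebraMap_mem _ r⟩
    | add x y _ _ hx hy =>
      obtain ⟨F, hF, hxF⟩ := hx
      obtain ⟨G, hG, hyG⟩ := hy
      exact ⟨F ∪ G, by simp [hF, hG], add_mem (Algebra.adjoin_mono (by simp) hxF) (Algebra.adjoin_mono (by simp) hyG)⟩
    | mul x y _ _ hx hy =>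
      obtain ⟨F, hF, hxF⟩ := hx
      obtain ⟨G, hG, hyG⟩ := hy
      exact ⟨F ∪ G, by simp [hF, hG], mul_mem (Algebra.adjoin_mono (by simp) hxF) (Algebra.adjoin_mono (by simp) hyG)⟩
  choose F hFU hF using hfin
  obtain ⟨T, hT⟩ := (‹Algebra.FiniteType R A›).out
  let E := T.biUnion F
  let f : Fin E.card → A := fun i => (E.equivFin.symm i).1
  have hfU : ∀ i, f i ∈ U := fun i => by
    obtain ⟨t, -, ht⟩ := Finset.mem_biUnion.1 (E.equivFin.symm i).2
    exact hFU t ht
  choose deg hdeg using fun i => Set.mem_iUnion₂.1 (hfU i)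
  refine ⟨E.card, f, deg, fun i => ?_, fun i => (hdeg i).2, ?_⟩
  · have := Finset.mem_Icc.1 (hdeg i).1
    omega
  · refine eq_top_iff.2 (hT.ge.trans (Algebra.adjoin_le fun t ht => ?_))
    refine Algebra.adjoin_mono (fun x hx => ?_) (hF t)
    exact ⟨E.equivFin ⟨x, Finset.mem_biUnion.2 ⟨t, ht, hx⟩⟩, by simp [f]⟩

/-- A subring with the constants and the ratios to `g ^ n` is everything. -/
theorem eq_top_of_ratios {n : ℕ} (hn1 : 0 < n) (hdeg : ∀ i, 0 < deg i ∧ deg i ≤ n) (hf : ∀ i, f i ∈ 𝒜 (deg i))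
    (hgen : Algebra.adjoin R (Set.range f) = ⊤) {g : A} (hg : g ∈ 𝒜 1) {b : A} (hbg : b = g ^ n) (hb : b ∈ 𝒜 n)
    {U : (Proj 𝒜).Opens} (hU : U = Proj.basicOpen 𝒜 b) (B : Subring Γ(Proj 𝒜, U))
    (hconst : Set.range ((S13182.str 𝒜).appLE ⊤ U le_top).hom ⊆ B)
    {κ : Type*} (c : κ → A) (hc : ∀ k, c k ∈ 𝒜 n) (hspan : 𝒜 n ≤ Submodule.span R (Set.range c))
    (hrat : ∀ (k : κ) (β : Γ(Proj 𝒜, U)),
      AModX.res (Twist.twist 𝒜 (n : ℤ)) (le_top : U ≤ ⊤) (Twist.globalOf 𝒜 ⟨c k, hc k⟩) =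
        β • AModX.res (Twist.twist 𝒜 (n : ℤ)) (le_top : U ≤ ⊤) (Twist.globalOf 𝒜 ⟨b, hb⟩) → β ∈ B) :
    B = ⊤ := by
  subst hU
  let B₀ : Subring (Away 𝒜 b) := B.comap (Proj.awayToSection 𝒜 b).hom
  let V : Subring (Localization (Submonoid.powers b)) :=
    B₀.map (algebraMap (Away 𝒜 b) (Localization (Submonoid.powers b)))
  have mem_V : ∀ {a : Away 𝒜 b}, a ∈ B₀ → a.val ∈ V := fun {a} ha => ⟨a, ha, rfl⟩
  have hr : ∀ r : R, Localization.mk (algebraMap R A r) (1 : Submonoid.powers b) ∈ V := fun r => by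
    have h : fromZeroRingHom 𝒜 (Submonoid.powers b) (algebraMap R (𝒜 0) r) ∈ B₀ := by
      rw [Subring.mem_comap, ← S13182.str_appLE hn1 hb r]
      exact hconst ⟨_, rfl⟩
    exact mem_V h
  have h1 : ∀ y ∈ Submodule.span R (Set.range c),
      Localization.mk y (⟨b ^ 1, 1, rfl⟩ : Submonoid.powers b) ∈ V := by
    intro y hy
    induction hy using Submodule.span_induction with
    | mem y hy =>
      obtain ⟨k, rfl⟩ := hy
      have h : Away.mk 𝒜 hb 1 (c k) (by rw [one_smul]; exact hc k) ∈ B₀ := by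
        refine hrat k _ ?_
        refine Subtype.ext (funext fun z => Subtype.ext ?_)
        refine Eq.trans ?_ (Twist.coe_smul_val (n : ℤ) z.1 _ _).symm
        show Localization.mk (c k) _ = Localization.mk (c k) _ * Localization.mk b _
        rw [Localization.mk_mul, Localization.mk_eq_mk_iff, Localization.r_iff_exists]
        exact ⟨1, by simp; ring⟩
      exact mem_V h
    | zero => rw [Localization.mk_zero]; exact zero_mem _
    | add y z _ _ hy hz => rw [← Localization.add_mk_self]; exact add_mem hy hz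
    | smul r y _ hy =>
      rw [Algebra.smul_def, ← one_mul (⟨b ^ 1, 1, rfl⟩ : Submonoid.powers b), ← Localization.mk_mul]
      exact mul_mem (hr r) hy
  let ig : Localization (Submonoid.powers b) := Localization.mk (g ^ (n - 1)) ⟨b ^ 1, 1, rfl⟩
  have hu : ∀ i, Localization.mk (f i) (1 : Submonoid.powers b) * ig ^ deg i ∈ V := fun i => by
    have e : Localization.mk (f i) (1 : Submonoid.powers b) * ig ^ deg i =
        Localization.mk (f i * g ^ (n - deg i)) (⟨b ^ 1, 1, rfl⟩ : Submonoid.powers b) := by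
      rw [Localization.mk_pow, Localization.mk_mul, Localization.mk_eq_mk_iff, Localization.r_iff_exists]
      refine ⟨1, ?_⟩
      simp only [OneMemClass.coe_one, one_mul, Submonoid.coe_mul, SubmonoidClass.coe_pow, pow_one, hbg, ← pow_mul]
      have hd := (hdeg i).2
      rw [mul_left_comm, mul_left_comm (g ^ (n * deg i)), ← pow_add, ← pow_add]
      congr 2
      rw [Nat.sub_mul, one_mul]
      have : deg i ≤ n * deg i := Nat.le_mul_of_pos_left _ hn1
      omega
    rw [e]
    refine h1 _ (hspan ?_)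
    have := SetLike.mul_mem_graded (hf i) (SetLike.pow_mem_graded (n - deg i) hg)
    rwa [smul_eq_mul, mul_one, Nat.add_sub_cancel' (hdeg i).2] at this
  refine eq_top_iff.2 fun z _ => ?_
  obtain ⟨w, rfl⟩ := (ConcreteCategory.bijective_of_isIso (Proj.basicOpenIsoAway 𝒜 b hb hn1).hom).2 z
  obtain ⟨m, x, hx, rfl⟩ := Away.mk_surjective 𝒜 hb w
  show Away.mk 𝒜 hb m x hx ∈ B₀
  have hx' : x ∈ 𝒜 (m * n) := by rwa [smul_eq_mul] at hx
  suffices h : ∀ y ∈ Submodule.span R {z : A | ∃ e : Fin s → ℕ, ∑ i, e i * deg i = m * n ∧ z = ∏ i, f i ^ e i},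
      Localization.mk y (1 : Submonoid.powers b) * ig ^ (m * n) ∈ V by
    have e : (Away.mk 𝒜 hb m x hx).val = Localization.mk x (1 : Submonoid.powers b) * ig ^ (m * n) := by
      rw [Away.val_mk, Localization.mk_pow, Localization.mk_mul, Localization.mk_eq_mk_iff, Localization.r_iff_exists]
      refine ⟨1, ?_⟩
      simp only [OneMemClass.coe_one, one_mul, Submonoid.coe_mul, SubmonoidClass.coe_pow, pow_one, hbg, ← pow_mul]
      obtain ⟨k, rfl⟩ : ∃ k, n = k + 1 := ⟨n - 1, by omega⟩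
      simp only [Nat.add_sub_cancel]
      ring
    obtain ⟨a, ha, hav⟩ := h x (S13171.hom_mem_span hf hgen hx')
    have : a = Away.mk 𝒜 hb m x hx := HomogeneousLocalization.val_injective _ (hav.trans e.symm)
    exact this ▸ ha
  intro y hy
  induction hy using Submodule.span_induction with
  | mem y hy =>
    obtain ⟨e, he, rfl⟩ := hy
    have h : Localization.mk (∏ i, f i ^ e i) (1 : Submonoid.powers b) * ig ^ (m * n) =
        ∏ i, (Localization.mk (f i) (1 : Submonoid.powers b) * ig ^ deg i) ^ e i := by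
      simp only [mul_pow, Finset.prod_mul_distrib, ← pow_mul, Finset.prod_pow_eq_pow_sum]
      congr 1
      · simp only [Localization.mk_one_eq_algebraMap, map_prod, map_pow]
      · rw [← he]
        exact congrArg (ig ^ ·) (Finset.sum_congr rfl fun i _ => mul_comm _ _)
    rw [h]
    exact prod_mem fun i _ => pow_mem (hu i) _
  | zero => rw [Localization.mk_zero, zero_mul]; exact zero_mem _
  | add y z _ _ hy hz => rw [← Localization.add_mk_self, add_mul]; exact add_mem hy hz
  | smul r y _ hy =>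
    rw [Algebra.smul_def, ← one_mul (1 : Submonoid.powers b), ← Localization.mk_mul, mul_assoc]
    exact mul_mem (hr r) hy

/-- Let B be a graded R-algebra of finite type, generated by elements of degrees between 1 and d, such
that X = Proj B is covered by the opens D_+(g), g ∈ B_1. For n ≥ d, n ≥ 1, there is a closed
immersion i of X into a projective space over R, over Spec R, with O_X(n) ≅ i^*O(1); in particular
O_X(n) is very ample relative to Spec R. (The published statement assumes neither finite generation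
nor that the generators have positive degree, and its target is P(B_n) with i the canonical morphism
given by B_n; a closed immersion into a projective space of finite type over R needs X proper over
R, so B is taken of finite type with generators of positive degree; existence of the isomorphism
only.) -/
theorem result {R A : Type u} [CommRing R] [CommRing A] [Algebra R A] (𝒜 : ℕ → Submodule R A) [GradedAlgebra 𝒜]
    (d : ℕ) (hgen : Algebra.adjoin R (⋃ i ∈ Finset.Icc 1 d, (𝒜 i : Set A)) = ⊤)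
    (hcov : (⨆ g : 𝒜 1, Proj.basicOpen 𝒜 (g : A)) = ⊤) [Algebra.FiniteType R A] (n : ℕ) (hn : d ≤ n) (hn1 : 0 < n) :
    ∃ (N : ℕ) (i : Proj 𝒜 ⟶ CohB1.ProjSpaceOver N (Spec (CommRingCat.of R))), IsClosedImmersion i ∧
      i ≫ pullback.snd (CohB1.ProjSpace.toSpec N (ULift.{u} ℤ)) (specULiftZIsTerminal.from (Spec (CommRingCat.of R))) =
        Proj.toSpecZero 𝒜 ≫ Spec.map (CommRingCat.ofHom (algebraMap R (𝒜 0))) ∧
      Nonempty (Twist.twist 𝒜 (n : ℤ) ≅
        (Scheme.Modules.pullback i).obj (Twist.twistOver N (Spec (CommRingCat.of R)) 1)) := by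
  classical
  obtain ⟨s, f, deg, hdeg, hf, hgenf⟩ := exists_generators hgen
  have hdeg0 : ∀ i, 0 < deg i := fun i => (hdeg i).1
  let ι := {e : Fin s → Fin (n + 1) // ∑ i, (e i : ℕ) * deg i = n}
  let eq : ι ≃ Fin (Fintype.card ι) := Fintype.equivFin ι
  let mon : ι → A := fun e => ∏ i, f i ^ (e.1 i : ℕ)
  have hmon : ∀ e : ι, mon e ∈ 𝒜 n := fun e => by
    have := SetLike.prod_pow_mem_graded (A := 𝒜) deg (fun i => (e.1 i : ℕ)) (g := f) (F := Finset.univ)
      fun j _ => hf j
    simp only [smul_eq_mul] at this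
    rwa [e.2] at this
  let c : Fin (Fintype.card ι + 1) → A := Fin.cons 0 (mon ∘ eq.symm)
  have hc : ∀ k, c k ∈ 𝒜 n := Fin.cases (zero_mem _) fun k => hmon _
  have hspan : 𝒜 n ≤ Submodule.span R (Set.range c) := fun x hx => by
    refine Submodule.span_mono ?_ (S13171.hom_mem_span hf hgenf hx)
    rintro z ⟨e, he, rfl⟩
    have hle : ∀ i, e i < n + 1 := fun i => Nat.lt_succ_of_le
      ((Nat.le_mul_of_pos_right _ (hdeg0 i)).trans (he ▸ Finset.single_le_sum (f := fun i => e i * deg i)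
        (fun _ _ => Nat.zero_le _) (Finset.mem_univ i)))
    exact ⟨(eq ⟨fun i => ⟨e i, hle i⟩, he⟩).succ, by simp [c, mon]⟩
  have hc1 : ∀ x : Proj 𝒜, ∃ k i, deg i = 1 ∧ c k = f i ^ n ∧ x ∈ Proj.basicOpen 𝒜 (c k) := fun x => by
    obtain ⟨g, hg⟩ := Opens.mem_iSup.1 (hcov.ge (trivial : x ∈ (⊤ : (Proj 𝒜).Opens)))
    obtain ⟨i, hi1, hi⟩ : ∃ i, deg i = 1 ∧ f i ∉ x.asHomogeneousIdeal := by
      by_contra hcon
      push Not at hcon
      refine hg ((Submodule.span_le (p := x.asHomogeneousIdeal.toIdeal.restrictScalars R)).2 ?_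
        (S13171.hom_mem_span hf hgenf g.2))
      rintro z ⟨e, he, rfl⟩
      obtain ⟨j, -, hj⟩ : ∃ j ∈ Finset.univ, e j * deg j ≠ 0 :=
        Finset.exists_ne_zero_of_sum_ne_zero (by rw [he]; exact one_ne_zero)
      have hle : e j * deg j ≤ 1 := he ▸ Finset.single_le_sum (f := fun j => e j * deg j)
        (fun _ _ => Nat.zero_le _) (Finset.mem_univ j)
      have h1 : e j * deg j = 1 := by omega
      refine Ideal.prod_mem _ (Finset.mem_univ j) ?_
      rw [Nat.eq_one_of_mul_eq_one_right h1, pow_one]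
      exact hcon j (Nat.eq_one_of_mul_eq_one_left h1)
    let e : Fin s → Fin (n + 1) := Pi.single i ⟨n, Nat.lt_succ_self n⟩
    have he : ∑ j, (e j : ℕ) * deg j = n := by
      rw [Finset.sum_eq_single i (fun j _ hj => by simp [e, hj]) (by simp)]
      simp [e, hi1]
    have hce : c (eq ⟨e, he⟩).succ = f i ^ n := by
      simp only [c, Fin.cons_succ, Function.comp_apply, Equiv.symm_apply_apply, mon]
      rw [Finset.prod_eq_single i (fun j _ hj => by simp [e, hj]) (by simp)]
      simp [e]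
    exact ⟨_, i, hi1, hce, hce ▸ PnCoh.pow_notMem hi _⟩
  have hcov' : ∀ x : Proj 𝒜, ∃ k, x ∈ Proj.basicOpen 𝒜 (c k) := fun x =>
    let ⟨k, _, _, _, hk⟩ := hc1 x; ⟨k, hk⟩
  have hL : PicF.IsInvertible (Twist.twist 𝒜 (n : ℤ)) := InvX.isInvertible_of_frames fun x => by
    obtain ⟨k, hk⟩ := hcov' x
    exact ⟨_, hk, _, TwistX.isFrame_res_globalOf (hc k) fun y => y.2⟩
  let sec : Fin (Fintype.card ι + 1) → Γ(Twist.twist 𝒜 (n : ℤ), ⊤) := fun k => Twist.globalOf 𝒜 ⟨c k, hc k⟩
  have hlocus : ∀ k, TrivBasic.locus (sec k) = Proj.basicOpen 𝒜 (c k) := fun k =>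
    S13169.genLocus_globalOf c hc hcov' k
  obtain ⟨N, i, himm, hq, hiso⟩ := Ega2Va.isRelVeryAmplePn_of_sections (S13182.str 𝒜) hL sec
    {k | ∃ i, deg i = 1 ∧ c k = f i ^ n}
    (fun x => by obtain ⟨k, i, h1, h2, hk⟩ := hc1 x; exact ⟨k, ⟨i, h1, h2⟩, (hlocus k).ge hk⟩)
    (fun k _ => (hlocus k).symm ▸ Proj.isAffineOpen_basicOpen 𝒜 (c k) (hc k) hn1)
    (by
      rintro k ⟨j, hj1, hj⟩ B h1 h2
      exact eq_top_of_ratios hn1 (fun i => ⟨hdeg0 i, (hdeg i).2.trans hn⟩) hf hgenf (hj1 ▸ hf j) hj (hc k)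
        (hlocus k) B h1 c hc hspan fun k' β hβ => h2 k' β hβ)
  haveI : IsScalarTower R (𝒜 0) A := ⟨fun r x y => smul_mul_assoc r (x : A) y⟩
  haveI : Algebra.FiniteType (𝒜 0) A := Algebra.FiniteType.of_restrictScalars_finiteType R (𝒜 0) A
  haveI : IsClosedImmersion (Spec.map (CommRingCat.ofHom (algebraMap R (𝒜 0)))) :=
    IsClosedImmersion.spec_of_surjective _ (S13182.algebraMap_zero_surjective hdeg0 hf hgenf)
  haveI : IsProper (S13182.str 𝒜) := inferInstanceAs (IsProper (Proj.toSpecZero 𝒜 ≫ _))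
  haveI : IsProper (i ≫ pullback.snd (CohB1.ProjSpace.toSpec N (ULift.{u} ℤ))
      (specULiftZIsTerminal.from (Spec (CommRingCat.of R)))) := hq.symm ▸ ‹IsProper (S13182.str 𝒜)›
  haveI := PnCoh.Chow.isProper_toSpec N (ULift.{u} ℤ)
  haveI : IsProper i := IsProper.of_comp i (pullback.snd (CohB1.ProjSpace.toSpec N (ULift.{u} ℤ))
    (specULiftZIsTerminal.from (Spec (CommRingCat.of R))))
  haveI := himm
  exact ⟨N, i, IsClosedImmersion.of_isPreimmersion i i.isClosedMap.isClosed_range, hq, hiso⟩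

end Groth.Agent.S13183
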