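import Groth.Statements.S13200
import Groth.Agent.S2811
import Groth.Agent.AnLocal.Henselian
import Groth.Agent.CplFib6.Excellent
import Groth.Agent.PopescuLib.LocalCompletion
import Groth.Agent.FlatLoc6.GeomComp
import Groth.Agent.FormalFib6.Quot

set_option autoImplicit false
set_option linter.style.haveILetI false
universe u
open Hensel

namespace Groth.Agent.S13200

open TensorProduct

/-- Let R be an excellent local ring which is strictly henselian (henselian with separably closed
residue field), and let R^ denote its completion at the maximal ideal. An element Δ of R is a prime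
element of R exactly when its image in R^ is a prime element of R^. -/
theorem result
    (R : Type u) [CommRing R] [HenselianLocalRing R] [IsSepClosed (IsLocalRing.ResidueField R)]
    (hR : EGA4.IsExcellent R) (Δ : R) :
    Prime Δ ↔ Prime (algebraMap R (AdicCompletion (IsLocalRing.maximalIdeal R) R) Δ) := by
  haveI : IsNoetherianRing R := hR.1
  haveI : Module.FaithfullyFlat R (EGA4.Cpl R) := FlatLoc6.faithfullyFlat_cpl R
  have hinj : Function.Injective (algebraMap R (EGA4.Cpl R)) := FaithfulSMul.algebraMap_injective _ _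
  by_cases h0 : Δ = 0
  · subst h0
    simp [not_prime_zero]
  have h0' : algebraMap R (EGA4.Cpl R) Δ ≠ 0 := (map_ne_zero_iff _ hinj).mpr h0
  show Prime Δ ↔ Prime (algebraMap R (EGA4.Cpl R) Δ)
  rw [← Ideal.span_singleton_prime h0, ← Ideal.span_singleton_prime h0']
  rw [show Ideal.span {algebraMap R (EGA4.Cpl R) Δ} = (Ideal.span {Δ}).map (algebraMap R (EGA4.Cpl R)) by
    rw [Ideal.map_span, Set.image_singleton]]
  constructor
  · intro hP
    haveI := hP
    haveI : HenselianLocalRing (R ⧸ Ideal.span {Δ}) :=
      AnLocal.henselianLocalRing_of_surjective' _ Ideal.Quotient.mk_surjective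
    have hB : EGA4.IsExcellent (R ⧸ Ideal.span {Δ}) := CplFib6.isExcellent_of_finiteType hR _
    haveI : IsNoetherianRing (R ⧸ Ideal.span {Δ}) := hB.1
    have hfib : EGA4.HasGeomNormalFormalFibres (R ⧸ Ideal.span {Δ}) :=
      (FlatLoc6.isNormalHom_of_isRegularHom _ _ (PopescuLib.isRegularHom_completion_of_isGRing hB.2.2.1)).2
    haveI : IsDomain (EGA4.Cpl (R ⧸ Ideal.span {Δ})) := S2811.result _ hfib
    obtain ⟨e⟩ := FormalFib6.exists_cplQuotEquiv R (R ⧸ Ideal.span {Δ}) Ideal.Quotient.mk_surjective
    haveI : IsDomain ((R ⧸ Ideal.span {Δ}) ⊗[R] EGA4.Cpl R) := e.toMulEquiv.isDomain _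
    haveI : IsDomain ((EGA4.Cpl R) ⧸ (Ideal.span {Δ}).map (algebraMap R (EGA4.Cpl R))) :=
      (((Algebra.TensorProduct.quotIdealMapEquivTensorQuot (EGA4.Cpl R) (Ideal.span {Δ})).restrictScalars R).trans
        (Algebra.TensorProduct.comm R _ _)).toMulEquiv.isDomain _
    exact (Ideal.Quotient.isDomain_iff_prime _).mp inferInstance
  · intro hP
    haveI := hP
    rw [← Ideal.comap_map_eq_self_of_faithfullyFlat (B := EGA4.Cpl R) (Ideal.span {Δ})]
    exact Ideal.comap_isPrime _ _

end Groth.Agent.S13200
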