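import Groth.Statements.S17730
import Groth.Agent.HensEt88.StrictQuotient
import Groth.Agent.HensEt88.SmoothUnibranch

set_option autoImplicit false
set_option linter.style.haveILetI false
universe u
open Hensel TensorProduct

namespace Groth.Agent.S17730

open IsLocalRing in
/-- Let R be a Noetherian local ring which is strictly henselian (henselian with separably closed
residue field), Δ a prime element of R, R' a smooth R-algebra, q a prime ideal of R' containing the
image of the maximal ideal of R, and T a strict henselization of the localization R'_q. Then the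
image of Δ in T is a prime element of T. (This is the published statement, that a prime element of
the étale local ring of the base at a geometric point remains prime in the étale local ring of a
smooth scheme over it at a geometric point above, written for the base the spectrum of R; the
published hypothesis that the base be smooth-factorial, meaning that all its smooth schemes are
locally factorial, is not used by the argument and is omitted; R is taken Noetherian, which the
published statement does not state and the argument requires.) -/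
theorem result
    (R R' T : Type u) [CommRing R] [IsNoetherianRing R] [HenselianLocalRing R]
    [IsSepClosed (ResidueField R)]
    [CommRing R'] [Algebra R R'] [Algebra.Smooth R R']
    (q : Ideal R') [q.IsPrime] (hq : (maximalIdeal R).map (algebraMap R R') ≤ q)
    [CommRing T] [IsLocalRing T] [Algebra (Localization.AtPrime q) T]
    [IsLocalHom (algebraMap (Localization.AtPrime q) T)]
    [Hensel.IsStrictHenselization (Localization.AtPrime q) T]
    (Δ : R) (hΔ : Prime Δ) :
    Prime (algebraMap (Localization.AtPrime q) T
      (algebraMap R' (Localization.AtPrime q) (algebraMap R R' Δ))) := by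
  classical
  haveI := Hensel.IsStrictHenselization.henselian (R := Localization.AtPrime q) (S := T)
  let J : Ideal R := Ideal.span {Δ}
  haveI hJp : J.IsPrime := (Ideal.span_singleton_prime hΔ.ne_zero).mpr hΔ
  haveI : IsDomain (R ⧸ J) := inferInstance
  haveI : HenselianLocalRing (R ⧸ J) := AnLocal.henselianLocalRing_of_surjective' _ Ideal.Quotient.mk_surjective
  haveI hlocJ : IsLocalHom (Ideal.Quotient.mk J) := Ideal.Quotient.mk_surjective.isLocalHom _
  haveI : IsSepClosed (ResidueField (R ⧸ J)) := Hensel.isSepClosed_of_ringEquiv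
    (RingEquiv.ofBijective (ResidueField.map (Ideal.Quotient.mk J)) ⟨RingHom.injective _, fun y => by
      obtain ⟨b, rfl⟩ := residue_surjective y
      obtain ⟨a, rfl⟩ := Ideal.Quotient.mk_surjective b
      exact ⟨residue R a, rfl⟩⟩)
  let R'' := (R ⧸ J) ⊗[R] R'
  let π : R' →+* R'' := (Algebra.TensorProduct.includeRight : R' →ₐ[R] R'').toRingHom
  have hπs : Function.Surjective π := Algebra.TensorProduct.includeRight_surjective _ Ideal.Quotient.mk_surjective
  have hπk : RingHom.ker π = Ideal.span {algebraMap R R' Δ} := by
    have h : RingHom.ker (Algebra.TensorProduct.includeRight : R' →ₐ[R] R'') = J.map (algebraMap R R') := by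
      ext b
      rw [RingHom.mem_ker, Algebra.TensorProduct.includeRight_apply, ← Ideal.Quotient.eq_zero_iff_mem,
        ← EmbeddingLike.map_eq_zero_iff (f := Algebra.TensorProduct.comm R (R ⧸ J) R'),
        Algebra.TensorProduct.comm_tmul, ← Algebra.TensorProduct.quotIdealMapEquivTensorQuot_mk R' J b,
        EmbeddingLike.map_eq_zero_iff]
    rw [show RingHom.ker π = RingHom.ker (Algebra.TensorProduct.includeRight : R' →ₐ[R] R'') from rfl, h,
      Ideal.map_span, Set.image_singleton]
  have hΔq : algebraMap R R' Δ ∈ q := hq (Ideal.mem_map_of_mem _ hΔ.not_isUnit)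
  have hkq : RingHom.ker π ≤ q := by rw [hπk, Ideal.span_le, Set.singleton_subset_iff]; exact hΔq
  let q' : Ideal R'' := q.map π
  haveI : q'.IsPrime := Ideal.map_isPrime_of_surjective hπs hkq
  have hq' : q'.comap π = q := by
    rw [Ideal.comap_map_of_surjective _ hπs, ← RingHom.ker_eq_comap_bot, sup_eq_left.mpr hkq]
  have hq'' : (maximalIdeal (R ⧸ J)).map (algebraMap (R ⧸ J) R'') ≤ q' := by
    rw [Ideal.map_le_iff_le_comap]
    intro b hb
    obtain ⟨a, rfl⟩ := Ideal.Quotient.mk_surjective b
    show algebraMap R R'' a ∈ q'
    rw [show algebraMap R R'' a = π (algebraMap R R' a) from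
      ((Algebra.TensorProduct.includeRight : R' →ₐ[R] R'').commutes a).symm]
    exact Ideal.mem_map_of_mem _ (hq (Ideal.mem_map_of_mem _ fun hu => hb (hu.map _)))
  obtain ⟨hdom, huni⟩ := HensEt88.domain_geomUnibranch_smooth (R ⧸ J) R'' q' hq''
  let A := Localization.AtPrime q
  let B := Localization.AtPrime q'
  let πA : A →+* B := Localization.localRingHom q q' π hq'.symm
  have hπA : ∀ r, πA (algebraMap R' A r) = algebraMap R'' B (π r) := fun r =>
    Localization.localRingHom_to_map q q' π hq'.symm r
  have hA : Function.Surjective πA := fun y => by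
    obtain ⟨r', s', rfl⟩ := IsLocalization.exists_mk'_eq q'.primeCompl y
    obtain ⟨r, rfl⟩ := hπs r'
    obtain ⟨s, hs⟩ := hπs s'
    have hsq : s ∉ q := fun h => s'.2 (hs ▸ Ideal.mem_map_of_mem _ h)
    refine ⟨IsLocalization.mk' A r (⟨s, hsq⟩ : q.primeCompl), ?_⟩
    rw [Localization.localRingHom_mk']
    congr 1
    exact Subtype.ext hs
  let Δ₁ : A := algebraMap R' A (algebraMap R R' Δ)
  have hAk : RingHom.ker πA = Ideal.span {Δ₁} := by
    refine le_antisymm (fun z hz => ?_) ?_
    · obtain ⟨r, s, rfl⟩ := IsLocalization.exists_mk'_eq q.primeCompl z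
      rw [RingHom.mem_ker, Localization.localRingHom_mk', IsLocalization.mk'_eq_zero_iff] at hz
      obtain ⟨⟨u', hu'⟩, hz⟩ := hz
      obtain ⟨u, rfl⟩ := hπs u'
      have huq : u ∉ q := fun h => hu' (Ideal.mem_map_of_mem _ h)
      have hur : u * r ∈ Ideal.span {algebraMap R R' Δ} := hπk ▸ (RingHom.mem_ker.mpr (by rw [map_mul]; exact hz))
      obtain ⟨c, hc⟩ := Ideal.mem_span_singleton'.mp hur
      rw [Ideal.mem_span_singleton']
      refine ⟨IsLocalization.mk' A c (⟨u, huq⟩ * s : q.primeCompl), ?_⟩
      show IsLocalization.mk' A c _ * algebraMap R' A (algebraMap R R' Δ) = _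
      rw [mul_comm, IsLocalization.mul_mk'_eq_mk'_of_mul, IsLocalization.mk'_eq_iff_eq]
      congr 1
      show (s : R') * (algebraMap R R' Δ * c) = (u * (s : R')) * r
      linear_combination (s : R') * hc
    · rw [Ideal.span_le, Set.singleton_subset_iff]
      show πA (algebraMap R' A (algebraMap R R' Δ)) = 0
      rw [hπA, show π (algebraMap R R' Δ) = 0 from
        RingHom.mem_ker.mp (hπk ▸ Ideal.mem_span_singleton_self _), map_zero]
  let I : Ideal T := Ideal.span {algebraMap A T Δ₁}
  have hΔm : algebraMap A T Δ₁ ∈ maximalIdeal T :=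
    map_nonunit (algebraMap A T) Δ₁ ((IsLocalization.AtPrime.to_map_mem_maximal_iff A q _).mpr hΔq)
  have hI : I ≠ ⊤ := fun h => (maximalIdeal.isMaximal T).ne_top
    (top_le_iff.mp (h.symm.le.trans (Ideal.span_le.mpr (Set.singleton_subset_iff.mpr hΔm))))
  haveI : Nontrivial (T ⧸ I) := Ideal.Quotient.nontrivial_iff.mpr hI
  haveI : IsLocalRing (T ⧸ I) := .of_surjective' _ Ideal.Quotient.mk_surjective
  haveI : IsLocalHom (Ideal.Quotient.mk I) := Ideal.Quotient.mk_surjective.isLocalHom _
  have hle : RingHom.ker πA ≤ RingHom.ker ((Ideal.Quotient.mk I).comp (algebraMap A T)) := by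
    rw [hAk, Ideal.span_le, Set.singleton_subset_iff]
    exact Ideal.Quotient.eq_zero_iff_mem.mpr (Ideal.mem_span_singleton_self _)
  let φ : B →+* T ⧸ I :=
    (Ideal.Quotient.lift (RingHom.ker πA) ((Ideal.Quotient.mk I).comp (algebraMap A T)) fun x hx => hle hx).comp
      (RingHom.quotientKerEquivOfSurjective hA).symm.toRingHom
  letI : Algebra B (T ⧸ I) := φ.toAlgebra
  have hcomm : (Ideal.Quotient.mk I).comp (algebraMap A T) = (algebraMap B (T ⧸ I)).comp πA :=
    RingHom.ext fun a => by
      have h : (RingHom.quotientKerEquivOfSurjective hA).symm (πA a) = Ideal.Quotient.mk (RingHom.ker πA) a :=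
        (RingEquiv.symm_apply_eq _).mpr rfl
      show _ = Ideal.Quotient.lift (RingHom.ker πA) ((Ideal.Quotient.mk I).comp (algebraMap A T)) (fun x hx => hle hx)
        ((RingHom.quotientKerEquivOfSurjective hA).symm (πA a))
      rw [h]
      rfl
  haveI : IsLocalHom (algebraMap B (T ⧸ I)) := ⟨fun b hb => by
    obtain ⟨a, rfl⟩ := hA b
    rw [show algebraMap B (T ⧸ I) (πA a) = Ideal.Quotient.mk I (algebraMap A T a) from congr($hcomm.symm a)] at hb
    exact ((IsUnit.of_map (algebraMap A T) a (IsUnit.of_map (Ideal.Quotient.mk I) (algebraMap A T a) hb))).map πA⟩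
  haveI := HensEt88.isStrictHenselization_of_surjective A T B (T ⧸ I) πA (Ideal.Quotient.mk I) hA
    Ideal.Quotient.mk_surjective hcomm (by rw [Ideal.mk_ker, hAk, Ideal.map_span, Set.image_singleton])
  haveI : IsDomain B := hdom
  haveI : IsDomain (T ⧸ I) := (S2750.result B (T ⧸ I)).mp ⟨inferInstance, huni⟩
  have hIp : I.IsPrime := (Ideal.Quotient.isDomain_iff_prime I).mp inferInstance
  -- the element is not zero
  letI : Algebra R T := ((algebraMap A T).comp (algebraMap R A)).toAlgebra
  haveI : IsScalarTower R A T := .of_algebraMap_eq' rfl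
  haveI := Hensel.faithfullyFlat_of_isStrictHenselization A T
  haveI : Module.Flat R' A := IsLocalization.flat A q.primeCompl
  haveI : Module.Flat R A := Module.Flat.trans R R' A
  haveI : Module.Flat R T := Module.Flat.trans R A T
  haveI : IsLocalHom (algebraMap R T) := ⟨fun a ha => by
    by_contra hu
    have h1 : algebraMap R A a ∈ maximalIdeal A := by
      rw [IsScalarTower.algebraMap_apply R R' A, IsLocalization.AtPrime.to_map_mem_maximal_iff A q]
      exact hq (Ideal.mem_map_of_mem _ hu)
    exact h1 (IsUnit.of_map (algebraMap A T) _ ha)⟩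
  haveI : Module.FaithfullyFlat R T := Module.FaithfullyFlat.of_flat_of_isLocalHom
  have hne : algebraMap A T Δ₁ ≠ 0 := by
    rw [show algebraMap A T Δ₁ = algebraMap R T Δ from
      congrArg (algebraMap A T) (IsScalarTower.algebraMap_apply R R' A Δ).symm]
    exact (map_ne_zero_iff _ (FaithfulSMul.algebraMap_injective R T)).mpr hΔ.ne_zero
  exact (Ideal.span_singleton_prime hne).mp hIp

end Groth.Agent.S17730
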