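import Groth.Statements.S13202
import Groth.Agent.S17730
import Groth.Agent.S0540
import Groth.Agent.S0537
import Groth.Agent.Hensel.TensorHenz

set_option autoImplicit false
set_option linter.style.haveILetI false
universe u
open Hensel

namespace Groth.Agent.S13202

open IsLocalRing TensorProduct

/-- Let R be a Noetherian regular ring (every localization at a prime ideal is a regular local ring) and
Δ ∈ R. The element Δ is étale-universally prime — meaning that for every prime ideal p of R
containing Δ and every strict henselization T of R_p, the image of Δ in T is a prime element —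
exactly when for every smooth R-algebra R', every prime ideal q of R' and every strict henselization
T of R'_q, the image of Δ in T is either invertible or a prime element. (Smooth R-algebras and their
strict henselizations are taken in the universe of R.) -/
theorem result
    (R : Type u) [CommRing R] [IsNoetherianRing R]
    (hreg : ∀ (p : Ideal R) [p.IsPrime], IsRegularLocalRing (Localization.AtPrime p)) (Δ : R) :
    (∀ (p : Ideal R) [p.IsPrime], Δ ∈ p →
        ∀ (T : Type u) [CommRing T] [IsLocalRing T] [Algebra (Localization.AtPrime p) T]
          [IsLocalHom (algebraMap (Localization.AtPrime p) T)]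
          [Hensel.IsStrictHenselization (Localization.AtPrime p) T],
          Prime (algebraMap (Localization.AtPrime p) T (algebraMap R (Localization.AtPrime p) Δ))) ↔
    (∀ (R' : Type u) [CommRing R'] [Algebra R R'] [Algebra.Smooth R R'] (q : Ideal R') [q.IsPrime]
        (T : Type u) [CommRing T] [IsLocalRing T] [Algebra (Localization.AtPrime q) T]
          [IsLocalHom (algebraMap (Localization.AtPrime q) T)]
          [Hensel.IsStrictHenselization (Localization.AtPrime q) T],
        IsUnit (algebraMap (Localization.AtPrime q) T (algebraMap R' (Localization.AtPrime q) (algebraMap R R' Δ))) ∨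
          Prime (algebraMap (Localization.AtPrime q) T (algebraMap R' (Localization.AtPrime q) (algebraMap R R' Δ)))) := by
  constructor
  · intro H R' _ _ _ q _ T _ _ _ _ _
    by_cases hΔ : algebraMap R R' Δ ∈ q
    swap
    · exact .inl (((IsLocalization.AtPrime.isUnit_to_map_iff _ q _).mpr hΔ).map _)
    right
    let p : Ideal R := q.comap (algebraMap R R')
    have : q.LiesOver p := ⟨rfl⟩
    letI : Algebra R' T := ((algebraMap (Localization.AtPrime q) T).comp (algebraMap R' _)).toAlgebra
    haveI : IsScalarTower R' (Localization.AtPrime q) T := .of_algebraMap_eq' rfl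
    letI : Algebra R T := ((algebraMap R' T).comp (algebraMap R R')).toAlgebra
    haveI : IsScalarTower R R' T := .of_algebraMap_eq' rfl
    obtain ⟨Rh, i₁, i₂, i₃, i₄, i₅⟩ := S0537.result (Localization.AtPrime p)
    letI : Algebra R Rh := ((algebraMap (Localization.AtPrime p) Rh).comp (algebraMap R _)).toAlgebra
    haveI : IsScalarTower R (Localization.AtPrime p) Rh := .of_algebraMap_eq' rfl
    haveI : HenselianLocalRing T := Hensel.IsStrictHenselization.henselian (R := Localization.AtPrime q)
    haveI : HenselianLocalRing Rh := Hensel.IsStrictHenselization.henselian (R := Localization.AtPrime p)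
    have hS : IsSepClosure (ResidueField (Localization.AtPrime p)) (ResidueField Rh) :=
      Hensel.IsStrictHenselization.isSepClosure
    have hT : IsSepClosure (ResidueField (Localization.AtPrime q)) (ResidueField T) :=
      Hensel.IsStrictHenselization.isSepClosure
    haveI := hS.separable
    haveI := hS.sep_closed
    haveI := hT.sep_closed
    haveI : IsNoetherianRing Rh := (S0540.result (Localization.AtPrime p) Rh).mp inferInstance
    have hp : (maximalIdeal T).comap (algebraMap R T) = p := by
      rw [IsScalarTower.algebraMap_eq R R' T, ← Ideal.comap_comap, Hensel.comap_algebraMap_atPrime R' q T]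
    obtain ⟨F, hF, hFl⟩ := Hensel.exists_localization_lift (p := p) (algebraMap R T) hp
    letI : Algebra (ResidueField (Localization.AtPrime p)) (ResidueField T) := (ResidueField.map F).toAlgebra
    let τ := IsSepClosed.lift (K := ResidueField (Localization.AtPrime p)) (L := ResidueField Rh) (M := ResidueField T)
    obtain ⟨g, hg, hgl, -⟩ := Hensel.strict_lift (p := p) (Rh := Rh) (algebraMap R T) hp τ.toRingHom fun r => by
      refine Eq.trans ?_ ((τ.commutes (residue _ (algebraMap R _ r))).trans
        (congrArg (residue T) (RingHom.congr_fun hF r)))
      show τ _ = τ _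
      congr 1
    letI : Algebra Rh T := g.toAlgebra
    haveI : IsScalarTower R Rh T := .of_algebraMap_eq' hg.symm
    let P := Hensel.tensorPrime R R' Rh T
    obtain ⟨E, j₁, j₂, j₃, j₄, j₅⟩ := S0537.result (Localization.AtPrime P)
    obtain ⟨e, he⟩ := Hensel.strict_tensor R R' p q Rh T E
    have hΔp : Δ ∈ p := hΔ
    have h1 := S17730.result Rh (Rh ⊗[R] R') E P (Ideal.map_le_iff_le_comap.mpr fun x hx => by
        show Hensel.tensorPt R R' Rh T (x ⊗ₜ[R] (1 : R')) ∈ maximalIdeal T
        rw [Algebra.TensorProduct.lift_tmul, map_one, mul_one]
        exact map_nonunit g x hx)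
      (algebraMap R Rh Δ) (H p hΔp Rh)
    have h2 : e (Hensel.toE R R' Rh T E (algebraMap Rh (Rh ⊗[R] R') (algebraMap R Rh Δ))) =
        algebraMap (Localization.AtPrime q) T (algebraMap R' (Localization.AtPrime q) (algebraMap R R' Δ)) := by
      rw [he, ← IsScalarTower.algebraMap_apply R Rh (Rh ⊗[R] R'), AlgHom.commutes]
      rfl
    rw [← h2]
    exact (MulEquiv.prime_iff e).mpr h1
  · intro H p _ hΔp T _ _ _ _ _
    refine (H R p T).resolve_left fun hu => ?_
    exact (IsLocalization.AtPrime.isUnit_to_map_iff (Localization.AtPrime p) p _).mp
      (IsUnit.of_map (algebraMap (Localization.AtPrime p) T) _ hu) hΔp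

end Groth.Agent.S13202
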