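import Groth.Statements.S13207
import Groth.Agent.NeronA.Open
import Groth.Agent.NeronBasic.BaseChange
import Groth.Agent.DescLib.SigmaLocal

set_option autoImplicit false
universe u
open CategoryTheory CategoryTheory.Limits AlgebraicGeometry
open Neron

namespace Groth.Agent.S13207

/-- Let (S_i)_{i ∈ I} be a family of schemes, (N_i → S_i)_{i ∈ I} morphisms of schemes, S = ∐ S_i and N
= ∐ N_i with the induced morphism N → S, and U ⊆ S a schematically dense open subscheme with
preimages U_i ⊆ S_i. Then N → S is smooth with the Néron mapping property with respect to U — for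
every smooth S-scheme Y, restriction to U is a bijection from S-morphisms Y → N onto U-morphisms Y
×_S U → N ×_S U — if and only if every N_i → S_i is smooth with the Néron mapping property with
respect to U_i. (The published statement is for algebraic spaces N_i tested against smooth algebraic
spaces, and has the same form for separated models; this row is the not-necessarily-separated case
for schemes tested against smooth schemes.) -/
theorem result
    {I : Type u} (B N : I → Scheme.{u}) (f : ∀ i, N i ⟶ B i)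
    (U : (∐ B).Opens) (hU : CInt.IsSchematicallyDense U) :
    (Smooth (Limits.Sigma.map f) ∧ ∀ Y : Over (∐ B), Smooth Y.hom →
        Function.Bijective (fun g : Y ⟶ Over.mk (Limits.Sigma.map f) => (Over.pullback U.ι).map g)) ↔
    ∀ i, Smooth (f i) ∧ ∀ Y : Over (B i), Smooth Y.hom →
        Function.Bijective (fun g : Y ⟶ Over.mk (f i) => (Over.pullback ((Limits.Sigma.ι B i) ⁻¹ᵁ U).ι).map g) := by
  let F := Limits.Sigma.map f
  have hw : ∀ i, Limits.Sigma.ι N i ≫ F = f i ≫ Limits.Sigma.ι B i := fun i => Limits.Sigma.ι_map f i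
  have hpb : ∀ i, IsPullback (Limits.Sigma.ι N i) (f i) F (Limits.Sigma.ι B i) :=
    fun i => DescLib.isPullback_sigmaMap f i
  constructor
  · rintro ⟨hsm, h⟩ i
    haveI := hsm
    have hsmi : Smooth (f i) := MorphismProperty.of_isPullback (P := @Smooth.{u}) (hpb i) hsm
    refine ⟨hsmi, fun Y hY => ?_⟩
    haveI := hY
    let g := Limits.Sigma.ι B i
    have hb := h (Over.mk (Y.hom ≫ g)) (show Smooth (Y.hom ≫ g) from inferInstance)
    have h' : Function.Bijective (fun a : Y ⟶ (Over.pullback g).obj (Over.mk F) =>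
        (Over.pullback (g ⁻¹ᵁ U).ι).map a) :=
      ⟨NeronBasic.baseChange_injective g U.ι (g ⁻¹ᵁ U).ι (g ∣_ U) (isPullback_morphismRestrict g U) _ Y hb.1,
        NeronBasic.baseChange_surjective g U.ι (g ⁻¹ᵁ U).ι (g ∣_ U) (isPullback_morphismRestrict g U) _ Y hb.2⟩
    let e : Over.mk (f i) ≅ (Over.pullback g).obj (Over.mk F) :=
      Over.isoMk (hpb i).isoPullback ((hpb i).isoPullback_hom_snd)
    have he : (fun a : Y ⟶ Over.mk (f i) => (Over.pullback (g ⁻¹ᵁ U).ι).map a) =
        (fun a => a ≫ (Over.pullback (g ⁻¹ᵁ U).ι).map e.inv) ∘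
          (fun a : Y ⟶ (Over.pullback g).obj (Over.mk F) => (Over.pullback (g ⁻¹ᵁ U).ι).map a) ∘
            (fun a => a ≫ e.hom) := by
      funext a
      simp only [Function.comp, ← Functor.map_comp, Category.assoc, Iso.hom_inv_id, Category.comp_id]
    rw [he]
    refine Function.Bijective.comp ?_ (h'.comp ⟨fun a b h => (cancel_mono e.hom).1 h, fun b => ⟨b ≫ e.inv, by simp⟩⟩)
    exact ⟨fun a b h => (cancel_mono ((Over.pullback (g ⁻¹ᵁ U).ι).map e.inv)).1 h,
      fun b => ⟨b ≫ (Over.pullback (g ⁻¹ᵁ U).ι).map e.hom, by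
        simp only [Category.assoc, ← Functor.map_comp, Iso.hom_inv_id, CategoryTheory.Functor.map_id]
        exact Category.comp_id b⟩⟩
  · intro h
    have hsm : Smooth F := by
      have : F = Limits.Sigma.desc fun i => f i ≫ Limits.Sigma.ι B i :=
        Limits.Sigma.hom_ext _ _ fun i => by rw [hw, Limits.Sigma.ι_desc]
      rw [this]
      haveI : IsZariskiLocalAtSource (@Smooth.{u}) := HasRingHomProperty.instIsZariskiLocalAtSource
      exact IsZariskiLocalAtSource.sigmaDesc (P := @Smooth.{u}) fun i => by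
        haveI := (h i).1
        infer_instance
    refine ⟨hsm, fun Y hY => ?_⟩
    haveI := hY
    let V : I → Y.left.Opens := fun i => Y.hom ⁻¹ᵁ (Limits.Sigma.ι B i).opensRange
    have hV : ∀ y : Y.left, ∃ i, y ∈ V i := fun y => by
      obtain ⟨⟨i, b⟩, hb⟩ := (sigmaMk B).surjective (Y.hom y)
      exact ⟨i, b, (sigmaMk_mk B i b).symm.trans hb⟩
    have key : ∀ (W : Y.left.Opens) (i : I), W ≤ V i →
        NeronA.OInj U (Over.mk F) (NeronA.sub Y W) ∧ NeronA.OSurj U (Over.mk F) (NeronA.sub Y W) := by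
      intro W i hWi
      let g := Limits.Sigma.ι B i
      let l : W.toScheme ⟶ B i := IsOpenImmersion.lift g (W.ι ≫ Y.hom) (by
        rintro _ ⟨w, rfl⟩
        exact hWi w.2)
      have hl : l ≫ g = W.ι ≫ Y.hom := IsOpenImmersion.lift_fac _ _ _
      haveI : Smooth l := by
        haveI : Smooth (l ≫ g) := by rw [hl]; infer_instance
        have hsq : IsPullback (𝟙 W.toScheme) l (l ≫ g) g := IsPullback.of_horiz_isIso_mono ⟨by simp⟩ |>.flip.flip
        exact MorphismProperty.of_isPullback (P := @Smooth.{u}) hsq inferInstance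
      let e : Over.mk (l ≫ g) ≅ NeronA.sub Y W := Over.isoMk (Iso.refl _) (by simp [hl])
      obtain ⟨hi1, hi2⟩ := (NeronA.bijective_iff _ _ _).1 ((h i).2 (Over.mk l) ‹Smooth l›)
      let dn : (Over.mk (l ≫ g) ⟶ Over.mk F) → (Over.mk l ⟶ Over.mk (f i)) := fun a =>
        Over.homMk ((hpb i).lift a.left l (Over.w a)) ((hpb i).lift_snd _ _ _)
      have hdn : ∀ a, (dn a).left ≫ Limits.Sigma.ι N i = a.left := fun a => (hpb i).lift_fst _ _ _
      refine ⟨NeronA.OInj.of_iso e ?_, NeronA.OSurj.of_iso e ?_⟩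
      · intro g₁ g₂ hg
        have := hi1 (dn g₁) (dn g₂) (by
          rw [← cancel_mono (Limits.Sigma.ι N i), Category.assoc, Category.assoc, hdn, hdn]
          exact hg)
        apply Over.OverMorphism.ext
        rw [← hdn g₁, ← hdn g₂, this]
      · intro k hk
        obtain ⟨a, ha⟩ := hi2 ((hpb i).lift k ((l ⁻¹ᵁ (g ⁻¹ᵁ U)).ι ≫ l) (hk.trans (Category.assoc _ _ _).symm))
          ((hpb i).lift_snd _ _ _)
        refine ⟨Over.homMk (a.left ≫ Limits.Sigma.ι N i) ?_, ?_⟩
        · show (a.left ≫ _) ≫ F = l ≫ g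
          rw [Category.assoc, hw, ← Category.assoc]
          exact congrArg (· ≫ g) (Over.w a)
        · show (l ⁻¹ᵁ (g ⁻¹ᵁ U)).ι ≫ a.left ≫ _ = k
          exact (Category.assoc _ _ _).symm.trans ((congrArg (· ≫ Limits.Sigma.ι N i) ha).trans
            ((hpb i).lift_fst _ _ _))
    exact (NeronA.bijective_iff _ _ _).2 ⟨NeronA.OInj.of_forall V hV fun i => (key _ i le_rfl).1,
      NeronA.OSurj.of_forall V hV (fun W ⟨i, hWi⟩ => (key W i hWi).1) fun i => (key _ i le_rfl).2⟩

end Groth.Agent.S13207
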