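import Groth.Statements.S13393
import Groth.Agent.ZBSym.Pulled
import Groth.Agent.ZBQuotCmp.Points

set_option autoImplicit false
universe u
open CategoryTheory CategoryTheory.Limits AlgebraicGeometry
open ZeroCyc

namespace Groth.Agent.S13393

open ZBSym

theorem isPullback_comparison {X Y S S' : Scheme.{u}} (b : X ⟶ S) (g : Y ⟶ S) (gS : S' ⟶ S)
    (q : X ⟶ Y) (hq : q ≫ g = b) :
    IsPullback (pullback.fst b gS)
      (pullback.map b gS g gS q (𝟙 S') (𝟙 S)
        ((Category.comp_id _).trans hq.symm) ((Category.comp_id gS).trans (Category.id_comp gS).symm))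
      q (pullback.fst g gS) := by
  refine IsPullback.of_bot ?_ ?_ (IsPullback.of_hasPullback g gS)
  · rw [pullback.lift_snd, hq, Category.comp_id]
    exact IsPullback.of_hasPullback b gS
  · exact (pullback.lift_fst _ _ _).symm

/-- The action on a base change. -/
theorem exists_action {X S S'' : Scheme.{u}} (f : X ⟶ S) (d : ℕ) (gS : S'' ⟶ S) :
    ∃ ρ : ULift.{u} (Equiv.Perm (Fin d)) →* Aut (pullback (WidePullback.base fun _ : Fin d => f) gS),
      ∀ σ, (ρ σ).hom ≫ pullback.fst (WidePullback.base fun _ : Fin d => f) gS =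
        pullback.fst (WidePullback.base fun _ : Fin d => f) gS ≫ SymProd.permHom f d σ.down ∧
      (ρ σ).hom ≫ pullback.snd (WidePullback.base fun _ : Fin d => f) gS =
        pullback.snd (WidePullback.base fun _ : Fin d => f) gS := by
  let bX := WidePullback.base (fun _ : Fin d => f)
  let mo (σ : ULift.{u} (Equiv.Perm (Fin d))) : pullback bX gS ⟶ pullback bX gS :=
    pullback.map bX gS bX gS (SymProd.permHom f d σ.down) (𝟙 _) (𝟙 S) (by simp [bX]) (by simp)
  have hfst : ∀ σ, mo σ ≫ pullback.fst bX gS = pullback.fst bX gS ≫ SymProd.permHom f d σ.down :=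
    fun σ => pullback.lift_fst _ _ _
  have hsnd : ∀ σ, mo σ ≫ pullback.snd bX gS = pullback.snd bX gS := fun σ =>
    (pullback.lift_snd _ _ _).trans (Category.comp_id _)
  have hmul : ∀ σ τ, mo (σ * τ) = mo τ ≫ mo σ := fun σ τ => by
    refine pullback.hom_ext ?_ ?_
    · rw [hfst, Category.assoc, hfst, ← Category.assoc, hfst, Category.assoc]
      exact congrArg (pullback.fst _ _ ≫ ·) (SymProd.permHom_mul f d σ.down τ.down)
    · rw [hsnd, Category.assoc, hsnd, hsnd]
  have hone : mo 1 = 𝟙 _ := by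
    refine pullback.hom_ext ?_ ?_
    · rw [hfst, Category.id_comp]
      exact (congrArg (pullback.fst _ _ ≫ ·) (SymProd.permHom_one f d)).trans (Category.comp_id _)
    · rw [hsnd, Category.id_comp]
  exact ⟨{ toFun := fun σ => ⟨mo σ, mo σ⁻¹, by rw [← hmul, inv_mul_cancel, hone],
            by rw [← hmul, mul_inv_cancel, hone]⟩
           map_one' := Iso.ext hone
           map_mul' := fun σ τ => Iso.ext (hmul σ τ) }, fun σ => ⟨hfst σ, hsnd σ⟩⟩

/-- The opposite projection of a restricted base change is flat. -/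
theorem flat_snd_comp {X S S' W : Scheme.{u}} (f : X ⟶ S) (gS : S' ⟶ S) (u : W ⟶ S')
    (h : Flat (pullback.snd f gS)) : Flat (pullback.snd f (u ≫ gS)) := by
  have : IsPullback (pullback.map f (u ≫ gS) f gS (𝟙 _) u (𝟙 S) (by simp) (by simp))
      (pullback.snd f (u ≫ gS)) (pullback.snd f gS) u := by
    refine IsPullback.of_right ?_ (pullback.lift_snd _ _ _) (IsPullback.of_hasPullback f gS)
    rw [pullback.lift_fst, Category.comp_id]
    exact IsPullback.of_hasPullback f (u ≫ gS)
  exact MorphismProperty.of_isPullback this h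

set_option maxHeartbeats 1000000 in
theorem closed_immersion_of_flat {X S S' Y Y' : Scheme.{u}} (f : X ⟶ S) (d : ℕ)
    (q : SymProd.fibPow f d ⟶ Y) (g : Y ⟶ S) (hq : SymProd.IsSymProd f d q g) (gS : S' ⟶ S)
    (ρ' : ULift.{u} (Equiv.Perm (Fin d)) →* Aut (pullback (WidePullback.base fun _ : Fin d => f) gS))
    (hρ' : ∀ σ, (ρ' σ).hom ≫ pullback.fst (WidePullback.base fun _ : Fin d => f) gS =
        pullback.fst (WidePullback.base fun _ : Fin d => f) gS ≫ SymProd.permHom f d σ.down ∧
      (ρ' σ).hom ≫ pullback.snd (WidePullback.base fun _ : Fin d => f) gS =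
        pullback.snd (WidePullback.base fun _ : Fin d => f) gS)
    (r : pullback (WidePullback.base fun _ : Fin d => f) gS ⟶ Y') (hr : SGA1.IsQuot ρ' r)
    (m : Y' ⟶ pullback g gS)
    (hm : r ≫ m = pullback.map (WidePullback.base fun _ : Fin d => f) gS g gS q (𝟙 S') (𝟙 S)
      ((Category.comp_id _).trans hq.over.symm) ((Category.comp_id gS).trans (Category.id_comp gS).symm))
    (hflat : Flat (pullback.snd f gS)) : IsClosedImmersion m := by
  obtain ⟨hint, -, hsurj⟩ := (Groth.Agent.S0415.result m).1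
    (ZBQuotCmp.isUnivHomeo_baseChange_cmp (SymProd.permActU f d) (WidePullback.base fun _ : Fin d => f)
      q g hq.over hq.isQuot gS ρ' (fun σ => by simpa using hρ' σ) r hr m hm)
  haveI : Surjective r := ⟨SGA1Q.surjective hr⟩
  let bX := WidePullback.base (fun _ : Fin d => f)
  have hfst : (r ≫ m) ≫ pullback.fst g gS = pullback.fst bX gS ≫ q := by rw [hm, pullback.lift_fst]
  have hsnd : (r ≫ m) ≫ pullback.snd g gS = pullback.snd bX gS := by
    rw [hm]; exact (pullback.lift_snd _ _ _).trans (Category.comp_id _)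
  refine isClosedImmersion_of_app_surjective m fun v => ?_
  obtain ⟨V, hV, hsV, -⟩ := exists_isAffineOpen_mem_and_subset
    (x := (pullback.fst g gS ≫ g) v) (U := ⊤) trivial
  obtain ⟨VY, hVY, hvY, hle⟩ := exists_isAffineOpen_mem_and_subset
    (x := pullback.fst g gS v) (U := g ⁻¹ᵁ V) hsV
  obtain ⟨V', hV', hvV', hle'⟩ := exists_isAffineOpen_mem_and_subset
    (x := pullback.snd g gS v) (U := gS ⁻¹ᵁ V) (by
      show (pullback.snd g gS ≫ gS) v ∈ V
      rw [← pullback.condition]
      exact hsV)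
  let U : (pullback g gS).Opens := pullback.fst g gS ⁻¹ᵁ VY ⊓ pullback.snd g gS ⁻¹ᵁ V'
  have hU : IsAffineOpen U :=
    isAffineOpen_inter_preimage (IsPullback.of_hasPullback g gS) hV hVY hle hV' hle'
  refine ⟨U, hU, ⟨hvY, hvV'⟩, app_surjective_of_local r m hU (hr.injective _) fun t' ht' t => ?_⟩
  haveI : IsAffine V'.toScheme := hV'
  let gS' := V'.ι ≫ gS
  obtain ⟨ρ'', hρ''⟩ := exists_action f d gS'
  let j : pullback bX gS' ⟶ pullback bX gS :=
    pullback.map bX gS' bX gS (𝟙 _) V'.ι (𝟙 S) (by simp) (by simp [gS'])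
  have hj_fst : j ≫ pullback.fst bX gS = pullback.fst bX gS' :=
    (pullback.lift_fst _ _ _).trans (Category.comp_id _)
  have hj_snd : j ≫ pullback.snd bX gS = pullback.snd bX gS' ≫ V'.ι := pullback.lift_snd _ _ _
  have hj : ∀ σ, (ρ'' σ).hom ≫ j = j ≫ (ρ' σ).hom := fun σ => by
    refine pullback.hom_ext ?_ ?_
    · rw [Category.assoc, hj_fst, (hρ'' σ).1, Category.assoc, (hρ' σ).1, ← Category.assoc, hj_fst]
    · rw [Category.assoc, hj_snd, ← Category.assoc, (hρ'' σ).2, Category.assoc, (hρ' σ).2, hj_snd]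
  have hj_range : ∀ p, p ∈ Set.range j ↔ pullback.snd bX gS p ∈ V' := fun p => by
    rw [Scheme.Pullback.range_map]
    simp
  have hgS' : (⊤ : V'.toScheme.Opens) ≤ gS' ⁻¹ᵁ V := fun p _ => hle' p.2
  let O' := (r ≫ m) ⁻¹ᵁ U
  let O'' := pullback.fst bX gS' ⁻¹ᵁ q ⁻¹ᵁ VY
  have hO : j ⁻¹ᵁ O' = O'' := by
    ext p
    constructor
    · rintro ⟨h1, -⟩
      show ((pullback.fst bX gS' ≫ q) p) ∈ VY
      rw [← hj_fst, Category.assoc, ← hfst]
      exact h1
    · intro h1
      refine ⟨?_, ?_⟩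
      · show (j ≫ (r ≫ m) ≫ pullback.fst g gS) p ∈ VY
        rw [hfst, ← Category.assoc, hj_fst]
        exact h1
      · show (j ≫ (r ≫ m) ≫ pullback.snd g gS) p ∈ V'
        rw [hsnd, hj_snd]
        exact (pullback.snd bX gS' p).2
  obtain ⟨z, hz⟩ : t' ∈ Set.range j := (hj_range t').2 (by
    rw [← hsnd]
    exact ht'.2)
  subst hz
  let ψ := j ≫ r ≫ m
  have hψ : O'' ≤ ψ ⁻¹ᵁ U := hO.ge
  have hz' : pullback.fst bX gS' z ∈ q ⁻¹ᵁ VY := hO.le ht'
  obtain ⟨σ, α, ⟨a, rfl⟩, ⟨b, rfl⟩, hzσ, hrel⟩ := exists_fraction_pulled hq hV hVY hle (𝟙 X) f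
    (Category.id_comp f) gS' hgS' (flat_chart f gS' (flat_snd_comp f gS V'.ι hflat)) ρ'' hρ''
    (pullback.fst bX gS') (by rw [fibPowMap_id, Category.comp_id]) (j ≫ r)
    (fun σ => by rw [← Category.assoc, hj, Category.assoc, hr.inv]) (m ⁻¹ᵁ U) t hψ
    (ψ.appLE U O'' hψ).hom.range
    (fun c => by
      have e : V'.ι.appLE V' ⊤ (fun p _ => p.2) = V'.topIso.inv := by
        simp [Scheme.Hom.appLE, Scheme.Opens.ι_app]
        erw [← Functor.map_comp]
        rfl
      obtain ⟨c₀, rfl⟩ := (ConcreteCategory.bijective_of_isIso V'.topIso.inv).2 c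
      refine ⟨((pullback.snd g gS).appLE V' U inf_le_right).hom c₀, ?_⟩
      rw [← e]
      have hm' : ψ ≫ pullback.snd g gS = pullback.snd bX gS' ≫ V'.ι := by
        rw [show ψ ≫ pullback.snd g gS = j ≫ (r ≫ m) ≫ pullback.snd g gS from Category.assoc _ _ _,
          hsnd, hj_snd]
      exact (Chart.appLE_comp_apply ψ _ inf_le_right hψ c₀ hm'
        (fun p _ => (pullback.snd bX gS' p).2)).trans
        (Chart.appLE_comp_apply (pullback.snd bX gS') V'.ι (fun p _ => p.2) le_top c₀ rfl _).symm)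
    (fun b => by
      refine ⟨((pullback.fst g gS).appLE VY U inf_le_left).hom b, ?_⟩
      have hm' : ψ ≫ pullback.fst g gS = pullback.fst bX gS' ≫ q := by
        rw [show ψ ≫ pullback.fst g gS = j ≫ (r ≫ m) ≫ pullback.fst g gS from Category.assoc _ _ _,
          hfst, ← Category.assoc, hj_fst]
      rw [Scheme.Hom.app_eq_appLE, Scheme.Hom.app_eq_appLE]
      exact (Chart.appLE_comp_apply ψ _ inf_le_left hψ b hm' le_rfl).trans
        (Chart.appLE_comp_apply (pullback.fst bX gS') q le_rfl le_rfl b rfl le_rfl).symm)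
    z hz'
  -- restriction along the open immersion is injective
  have hjinj : Function.Injective (j.appLE O' O'' hO.ge).hom := by
    have hle'' : O' ≤ j.opensRange := fun p hp => (hj_range p).2 (by rw [← hsnd]; exact hp.2)
    haveI := j.isIso_app O' hle''
    have e : j.appLE O' O'' hO.ge = j.app O' ≫
        (pullback bX gS').presheaf.map (eqToHom hO.symm).op := rfl
    rw [e]
    exact (ConcreteCategory.bijective_of_isIso
      (j.app O' ≫ (pullback bX gS').presheaf.map (eqToHom hO.symm).op)).1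
  have hpull : ∀ c : Γ(pullback g gS, U), (j.appLE O' O'' hO.ge).hom (((r ≫ m).app U).hom c) =
      (ψ.appLE U O'' hψ).hom c := fun c => by
    rw [Scheme.Hom.app_eq_appLE]
    exact Chart.appLE_comp_apply j (r ≫ m) le_rfl hO.ge c rfl hψ
  refine ⟨a, b, ?_, hjinj ?_⟩
  · rw [← hpull, Scheme.basicOpen_appLE] at hzσ
    exact hzσ.2
  · refine ((j.appLE O' O'' hO.ge).hom.map_mul _ _).trans ?_
    refine Eq.trans ?_ ((hrel).trans (hpull b).symm)
    refine congrArg₂ (· * ·) ?_ (hpull a)
    rw [Scheme.Hom.app_eq_appLE]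
    exact Chart.appLE_comp_apply j r le_rfl hO.ge t rfl _

theorem residue_iso {X S S' Y Y' : Scheme.{u}} (f : X ⟶ S) (d : ℕ)
    (q : SymProd.fibPow f d ⟶ Y) (g : Y ⟶ S) (hq : SymProd.IsSymProd f d q g) (gS : S' ⟶ S)
    (ρ' : ULift.{u} (Equiv.Perm (Fin d)) →* Aut (pullback (WidePullback.base fun _ : Fin d => f) gS))
    (hρ' : ∀ σ, (ρ' σ).hom ≫ pullback.fst (WidePullback.base fun _ : Fin d => f) gS =
        pullback.fst (WidePullback.base fun _ : Fin d => f) gS ≫ SymProd.permHom f d σ.down ∧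
      (ρ' σ).hom ≫ pullback.snd (WidePullback.base fun _ : Fin d => f) gS =
        pullback.snd (WidePullback.base fun _ : Fin d => f) gS)
    (r : pullback (WidePullback.base fun _ : Fin d => f) gS ⟶ Y') (hr : SGA1.IsQuot ρ' r)
    (m : Y' ⟶ pullback g gS)
    (hm : r ≫ m = pullback.map (WidePullback.base fun _ : Fin d => f) gS g gS q (𝟙 S') (𝟙 S)
      ((Category.comp_id _).trans hq.over.symm) ((Category.comp_id gS).trans (Category.id_comp gS).symm))
    (y : Y') : IsIso (m.residueFieldMap y) := by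
  haveI : IsIntegralHom m := ((Groth.Agent.S0415.result m).1
    (ZBQuotCmp.isUnivHomeo_baseChange_cmp (SymProd.permActU f d) (WidePullback.base fun _ : Fin d => f)
      q g hq.over hq.isQuot gS ρ' (fun σ => by simpa using hρ' σ) r hr m hm)).1
  obtain ⟨t', rfl⟩ := SGA1Q.surjective hr y
  let bX := WidePullback.base (fun _ : Fin d => f)
  let Y2 := pullback g gS
  let v : Y2 := (r ≫ m) t'
  let κv := Y2.fromSpecResidueField v
  obtain ⟨V, hV, hsV, -⟩ := exists_isAffineOpen_mem_and_subset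
    (x := (pullback.fst g gS ≫ g) v) (U := ⊤) trivial
  obtain ⟨VY, hVY, hvY, hle⟩ := exists_isAffineOpen_mem_and_subset
    (x := pullback.fst g gS v) (U := g ⁻¹ᵁ V) hsV
  obtain ⟨V', hV', hvV', hle'⟩ := exists_isAffineOpen_mem_and_subset
    (x := pullback.snd g gS v) (U := gS ⁻¹ᵁ V) (by
      show (pullback.snd g gS ≫ gS) v ∈ V
      rw [← pullback.condition]
      exact hsV)
  let U : Y2.Opens := pullback.fst g gS ⁻¹ᵁ VY ⊓ pullback.snd g gS ⁻¹ᵁ V'
  have hU : IsAffineOpen U :=
    isAffineOpen_inter_preimage (IsPullback.of_hasPullback g gS) hV hVY hle hV' hle'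
  have hvU : r t' ∈ m ⁻¹ᵁ U := ⟨hvY, hvV'⟩
  refine isIso_residueFieldMap_of_values r m t' (hU.preimage m) hvU fun t => ?_
  let gK : Spec (Y2.residueField v) ⟶ S := κv ≫ pullback.snd g gS ≫ gS
  have hgK : (⊤ : (Spec (Y2.residueField v)).Opens) ≤ gK ⁻¹ᵁ V := fun p _ => by
    show (pullback.snd g gS ≫ gS) (κv p) ∈ V
    rw [← pullback.condition]
    show (pullback.fst g gS ≫ g) (κv p) ∈ V
    rw [Scheme.fromSpecResidueField_apply]
    exact hsV
  let TK := pullback bX gK
  let mo (σ : ULift.{u} (Equiv.Perm (Fin d))) : TK ⟶ TK :=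
    pullback.map bX gK bX gK (SymProd.permHom f d σ.down) (𝟙 _) (𝟙 S) (by simp [bX]) (by simp)
  have hmo_fst : ∀ σ, mo σ ≫ pullback.fst bX gK = pullback.fst bX gK ≫ SymProd.permHom f d σ.down :=
    fun σ => pullback.lift_fst _ _ _
  have hmo_snd : ∀ σ, mo σ ≫ pullback.snd bX gK = pullback.snd bX gK := fun σ =>
    (pullback.lift_snd _ _ _).trans (Category.comp_id _)
  have hmo_mul : ∀ σ τ, mo (σ * τ) = mo τ ≫ mo σ := fun σ τ => by
    refine pullback.hom_ext ?_ ?_
    · rw [hmo_fst, Category.assoc, hmo_fst, ← Category.assoc, hmo_fst, Category.assoc]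
      exact congrArg (pullback.fst _ _ ≫ ·) (SymProd.permHom_mul f d σ.down τ.down)
    · rw [hmo_snd, Category.assoc, hmo_snd, hmo_snd]
  have hmo_one : mo 1 = 𝟙 _ := by
    refine pullback.hom_ext ?_ ?_
    · rw [hmo_fst, Category.id_comp]
      exact (congrArg (pullback.fst _ _ ≫ ·) (SymProd.permHom_one f d)).trans (Category.comp_id _)
    · rw [hmo_snd, Category.id_comp]
  let ρK : ULift.{u} (Equiv.Perm (Fin d)) →* Aut TK :=
    { toFun := fun σ => ⟨mo σ, mo σ⁻¹, by rw [← hmo_mul, inv_mul_cancel, hmo_one],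
        by rw [← hmo_mul, mul_inv_cancel, hmo_one]⟩
      map_one' := Iso.ext hmo_one
      map_mul' := fun σ τ => Iso.ext (hmo_mul σ τ) }
  have hρK : ∀ σ, (ρK σ).hom ≫ pullback.fst bX gK =
      pullback.fst bX gK ≫ SymProd.permHom f d σ.down ∧
      (ρK σ).hom ≫ pullback.snd bX gK = pullback.snd bX gK := fun σ => ⟨hmo_fst σ, hmo_snd σ⟩
  let j : TK ⟶ pullback bX gS := pullback.map bX gK bX gS (𝟙 _) (κv ≫ pullback.snd g gS) (𝟙 S)
    (by simp) (by simp [gK])
  have hj_fst : j ≫ pullback.fst bX gS = pullback.fst bX gK :=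
    (pullback.lift_fst _ _ _).trans (Category.comp_id _)
  have hj_snd : j ≫ pullback.snd bX gS = pullback.snd bX gK ≫ κv ≫ pullback.snd g gS :=
    pullback.lift_snd _ _ _
  have hj : ∀ σ, (ρK σ).hom ≫ j = j ≫ (ρ' σ).hom := fun σ => by
    refine pullback.hom_ext ?_ ?_
    · rw [Category.assoc, hj_fst, (hρK σ).1, Category.assoc, (hρ' σ).1, ← Category.assoc, hj_fst]
    · rw [Category.assoc, hj_snd, ← Category.assoc, (hρK σ).2, Category.assoc, (hρ' σ).2, hj_snd]
  let Ω₀ := (pullback bX gS).residueField t'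
  let ξ := (pullback bX gS).fromSpecResidueField t'
  have hξ : Spec.map ((r ≫ m).residueFieldMap t') ≫ κv = ξ ≫ r ≫ m :=
    Scheme.Hom.SpecMap_residueFieldMap_fromSpecResidueField _ _
  let ω : Spec Ω₀ ⟶ TK := pullback.lift (ξ ≫ pullback.fst bX gS)
    (Spec.map ((r ≫ m).residueFieldMap t')) (by
      simp only [gK, ← Category.assoc]
      rw [hξ, hm]
      simp only [Category.assoc, pullback.lift_snd_assoc, Category.id_comp, pullback.condition]
      rfl)
  have hωj : ω ≫ j = ξ := by
    refine pullback.hom_ext ?_ ?_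
    · rw [Category.assoc, hj_fst]
      exact pullback.lift_fst _ _ _
    · rw [Category.assoc, hj_snd]
      refine (pullback.lift_snd_assoc _ _ _ _).trans ?_
      rw [← Category.assoc, hξ, hm, Category.assoc]
      exact congrArg (ξ ≫ ·) ((pullback.lift_snd _ _ _).trans (Category.comp_id _))
  let z : TK := ω (IsLocalRing.closedPoint Ω₀)
  have hrm_fst : (r ≫ m) ≫ pullback.fst g gS = pullback.fst bX gS ≫ q := by
    rw [hm, pullback.lift_fst]
  have hz : pullback.fst bX gK z ∈ q ⁻¹ᵁ VY := by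
    show ((ω ≫ pullback.fst bX gK) ≫ q) (IsLocalRing.closedPoint Ω₀) ∈ VY
    rw [show ω ≫ pullback.fst bX gK = ξ ≫ pullback.fst bX gS from pullback.lift_fst _ _ _,
      Category.assoc, ← hrm_fst]
    show pullback.fst g gS ((r ≫ m) (ξ (IsLocalRing.closedPoint Ω₀))) ∈ VY
    rw [Scheme.fromSpecResidueField_apply]
    exact hvY
  have hφ : ∀ σ, (ρK σ).hom ≫ j ≫ r = j ≫ r := fun σ => by
    rw [← Category.assoc, hj, Category.assoc, hr.inv]
  let O'' : TK.Opens := pullback.fst bX gK ⁻¹ᵁ q ⁻¹ᵁ VY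
  -- the point of the base change
  have hω : (⊤ : (Spec Ω₀).Opens) ≤ ω ⁻¹ᵁ O'' := fun p _ => by
    rw [show p = IsLocalRing.closedPoint Ω₀ from Subsingleton.elim _ _]
    exact hz
  have he : O'' ≤ (j ≫ r) ⁻¹ᵁ (m ⁻¹ᵁ U) := fun p hp => by
    refine ⟨?_, ?_⟩
    · show (j ≫ (r ≫ m) ≫ pullback.fst g gS) p ∈ VY
      rw [hrm_fst, ← Category.assoc, hj_fst]
      exact hp
    · show (j ≫ (r ≫ m) ≫ pullback.snd g gS) p ∈ V'
      rw [hm, pullback.lift_snd, Category.comp_id, hj_snd]
      show pullback.snd g gS (κv (pullback.snd bX gK p)) ∈ V'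
      rw [Scheme.fromSpecResidueField_apply]
      exact hvV'
  let Φ := Scheme.ΓSpecIso Ω₀
  let ev : Γ(TK, O'') →+* Ω₀ := (ω.appLE O'' ⊤ hω ≫ Φ.hom).hom
  have hev : ∀ a, ev a = Φ.hom.hom ((ω.appLE O'' ⊤ hω).hom a) := fun a => rfl
  have hnat : ∀ c, Φ.hom.hom ((Spec.map ((r ≫ m).residueFieldMap t')).appTop.hom c) ∈
      ((r ≫ m).residueFieldMap t').hom.range := fun c =>
    ⟨_, (congr(($(Scheme.ΓSpecIso_naturality ((r ≫ m).residueFieldMap t'))).hom c)).symm⟩
  obtain ⟨σ, α, hσ, hα, hzσ, hrel⟩ := exists_fraction_pulled hq hV hVY hle (𝟙 X) f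
    (Category.id_comp f) gK hgK (flat_chart_field f (Y2.residueField v) gK) ρK hρK
    (pullback.fst bX gK) (by rw [fibPowMap_id, Category.comp_id]) (j ≫ r) hφ (m ⁻¹ᵁ U) t he
    (((r ≫ m).residueFieldMap t').hom.range.comap ev)
    (fun c => by
      rw [Subring.mem_comap, hev]
      have e : (ω.appLE O'' ⊤ hω).hom (((pullback.snd bX gK).appLE ⊤ O'' le_top).hom c) =
          (Spec.map ((r ≫ m).residueFieldMap t')).appTop.hom c :=
        (Chart.appLE_comp_apply ω (pullback.snd bX gK) le_top hω c (pullback.lift_snd _ _ _)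
          le_top).trans (congr(($(Scheme.Hom.appLE_eq_app (Spec.map ((r ≫ m).residueFieldMap t')))).hom c))
      rw [e]
      exact hnat c)
    (fun b => by
      rw [Subring.mem_comap, hev]
      have hb0 : (⊤ : (Spec (Y2.residueField v)).Opens) ≤ (κv ≫ pullback.fst g gS) ⁻¹ᵁ VY := fun p _ => by
        show pullback.fst g gS (κv p) ∈ VY
        rw [Scheme.fromSpecResidueField_apply]
        exact hvY
      have hcomp : ω ≫ pullback.fst bX gK ≫ q =
          Spec.map ((r ≫ m).residueFieldMap t') ≫ κv ≫ pullback.fst g gS := by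
        rw [← Category.assoc, show ω ≫ pullback.fst bX gK = ξ ≫ pullback.fst bX gS from
          pullback.lift_fst _ _ _, Category.assoc, ← hrm_fst, ← Category.assoc (Spec.map _), hξ]
        simp only [Category.assoc]
      have e : (ω.appLE O'' ⊤ hω).hom (((pullback.fst bX gK).app (q ⁻¹ᵁ VY)).hom ((q.app VY).hom b)) =
          (Spec.map ((r ≫ m).residueFieldMap t')).appTop.hom
            (((κv ≫ pullback.fst g gS).appLE VY ⊤ hb0).hom b) := by
        have e1 : ((pullback.fst bX gK).app (q ⁻¹ᵁ VY)).hom ((q.app VY).hom b) =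
            ((pullback.fst bX gK ≫ q).appLE VY O'' le_rfl).hom b := by
          rw [Scheme.Hom.app_eq_appLE, Scheme.Hom.app_eq_appLE]
          exact Chart.appLE_comp_apply _ q le_rfl le_rfl b rfl _
        rw [e1]
        have hb2 : (⊤ : (Spec Ω₀).Opens) ≤
            (Spec.map ((r ≫ m).residueFieldMap t') ≫ κv ≫ pullback.fst g gS) ⁻¹ᵁ VY := fun p _ =>
          hb0 (x := Spec.map ((r ≫ m).residueFieldMap t') p) trivial
        refine (Chart.appLE_comp_apply ω (pullback.fst bX gK ≫ q) (U := VY) (V := O'') le_rfl hω b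
          hcomp hb2).trans ?_
        have e2 : (Spec.map ((r ≫ m).residueFieldMap t')).appTop =
            (Spec.map ((r ≫ m).residueFieldMap t')).appLE ⊤ ⊤ le_top :=
          (Scheme.Hom.appLE_eq_app _).symm
        rw [e2]
        exact (Chart.appLE_comp_apply (Spec.map ((r ≫ m).residueFieldMap t'))
          (κv ≫ pullback.fst g gS) hb0 le_top b rfl _).symm
      rw [e]
      exact hnat _)
    z hz
  have hσ0 : ev σ ≠ 0 := by
    intro h0
    have h1 : (ω.appLE O'' ⊤ hω).hom σ = 0 :=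
      (ConcreteCategory.bijective_of_isIso Φ.hom).1 (h0.trans (map_zero Φ.hom.hom).symm)
    have h2 : IsLocalRing.closedPoint Ω₀ ∈ (Spec Ω₀).basicOpen ((ω.appLE O'' ⊤ hω).hom σ) := by
      rw [Scheme.basicOpen_appLE]
      exact ⟨trivial, hzσ⟩
    rw [h1, Scheme.basicOpen_zero] at h2
    exact h2
  have hval : ev (((j ≫ r).appLE (m ⁻¹ᵁ U) O'' he).hom t) =
      (pullback bX gS).evaluation (r ⁻¹ᵁ m ⁻¹ᵁ U) t' hvU ((r.app (m ⁻¹ᵁ U)).hom t) := by
    have he1 : (⊤ : (Spec Ω₀).Opens) ≤ ξ ⁻¹ᵁ (r ⁻¹ᵁ m ⁻¹ᵁ U) := fun p _ => by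
      show m (r (ξ p)) ∈ U
      rw [Scheme.fromSpecResidueField_apply]
      exact hvU
    rw [hev, ← appLE_fromSpecResidueField _ t' _ hvU he1]
    refine congrArg Φ.hom.hom ((Chart.appLE_comp_apply ω (j ≫ r) he hω t
      (show ω ≫ j ≫ r = ξ ≫ r by rw [← Category.assoc, hωj]) he1).trans ?_)
    rw [Scheme.Hom.app_eq_appLE]
    exact (Chart.appLE_comp_apply ξ r le_rfl he1 t rfl he1).symm
  have hprod := congrArg ev hrel
  rw [map_mul, hval] at hprod
  obtain ⟨cσ, hcσ⟩ := Subring.mem_comap.1 hσ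
  obtain ⟨cα, hcα⟩ := Subring.mem_comap.1 hα
  refine ⟨cα / cσ, ?_⟩
  rw [map_div₀, hcσ, hcα, ← hprod, mul_div_assoc, div_self hσ0, mul_one]


/-- Scheme case. Let f : X → S be separated and let (Y, q, g) be a d-th symmetric product of X over S: q
: (X/S)^d → Y is a quotient of the d-fold fibre product by the symmetric group permuting the factors
and g : Y → S its structure map. Let S' → S be a morphism, let the symmetric group act on (X/S)^d
×_S S' through the first factor (this is the d-fold fibre product of X' = X ×_S S' over S' with its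
permutation action), let r : (X/S)^d ×_S S' → Y' be a quotient by that action, i.e. a symmetric
product Sym^d(X'/S'), and let m : Y' → Y ×_S S' be the morphism with r ≫ m = q × id. Then m induces
an isomorphism on residue fields at every point of Y' (trivial residue field extensions); if every
positive integer is invertible in Γ(S', O_{S'}) then m is an isomorphism; and if X' → S' is flat
then m is a closed immersion. (The published statement is for X a separated algebraic space over S,
where the symmetric products always exist as algebraic spaces; this row is the case of schemes in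
which both quotients exist as schemes, taken as hypotheses, and leaves the universal-homeomorphism
clause to the general finite-group statement.) -/
theorem result {X S S' Y Y' : Scheme.{u}} (f : X ⟶ S) [IsSeparated f] (d : ℕ)
    (q : SymProd.fibPow f d ⟶ Y) (g : Y ⟶ S) (hq : SymProd.IsSymProd f d q g)
    (gS : S' ⟶ S)
    (ρ' : ULift.{u} (Equiv.Perm (Fin d)) →* Aut (pullback (WidePullback.base fun _ : Fin d => f) gS))
    (hρ' : ∀ σ, (ρ' σ).hom ≫ pullback.fst (WidePullback.base fun _ : Fin d => f) gS =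
        pullback.fst (WidePullback.base fun _ : Fin d => f) gS ≫ SymProd.permHom f d σ.down ∧
      (ρ' σ).hom ≫ pullback.snd (WidePullback.base fun _ : Fin d => f) gS =
        pullback.snd (WidePullback.base fun _ : Fin d => f) gS)
    (r : pullback (WidePullback.base fun _ : Fin d => f) gS ⟶ Y') (hr : SGA1.IsQuot ρ' r)
    (m : Y' ⟶ pullback g gS)
    (hm : r ≫ m = pullback.map (WidePullback.base fun _ : Fin d => f) gS g gS q (𝟙 S') (𝟙 S)
      ((Category.comp_id _).trans hq.over.symm) ((Category.comp_id gS).trans (Category.id_comp gS).symm)) :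
    (∀ y : Y', IsIso (m.residueFieldMap y)) ∧
    ((∀ n : ℕ, 0 < n → IsUnit ((n : ℕ) : Γ(S', ⊤))) → IsIso m) ∧
    (Flat (pullback.snd f gS) → IsClosedImmersion m) := by
  refine ⟨residue_iso f d q g hq gS ρ' hρ' r hr m hm, fun hn => ?_,
    closed_immersion_of_flat f d q g hq gS ρ' hρ' r hr m hm⟩
  refine isIso_of_isQuot_comp hr m ?_
  rw [hm]
  refine isQuot_baseChange_of_isUnit hq.isQuot (pullback.fst g gS) ?_ _ _
    (isPullback_comparison _ g gS q hq.over) ρ' (fun σ => by simpa using (hρ' σ).1) fun σ => ?_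
  · have h := hn (Nat.card (ULift.{u} (Equiv.Perm (Fin d)))) Nat.card_pos
    simpa using h.map (pullback.snd g gS).appTop.hom
  · refine pullback.hom_ext ?_ ?_
    · rw [Category.assoc, pullback.lift_fst, ← Category.assoc, (hρ' σ).1, Category.assoc]
      exact congrArg (pullback.fst _ _ ≫ ·) (by simpa using hq.isQuot.inv σ)
    · rw [Category.assoc, pullback.lift_snd, ← Category.assoc, (hρ' σ).2]

end Groth.Agent.S13393
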