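import Groth.Statements.S13394
import Groth.Agent.S13393

set_option autoImplicit false
universe u
open CategoryTheory CategoryTheory.Limits AlgebraicGeometry
open ZeroCyc

namespace Groth.Agent.S13394

open ZBSym

variable {X Z S Y W : Scheme.{u}} (f : X ⟶ S) (d : ℕ)
    (q : SymProd.fibPow f d ⟶ Y) (g : Y ⟶ S) (hq : SymProd.IsSymProd f d q g)
    (i : Z ⟶ X) [IsClosedImmersion i]
    (r : SymProd.fibPow (i ≫ f) d ⟶ W) (gW : W ⟶ S) (hr : SymProd.IsSymProd (i ≫ f) d r gW)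
    (m : W ⟶ (SymProd.fibPowMap (i ≫ f) d f i rfl ≫ q).ker.subscheme)
    (hm : r ≫ m ≫ (SymProd.fibPowMap (i ≫ f) d f i rfl ≫ q).ker.subschemeι =
      SymProd.fibPowMap (i ≫ f) d f i rfl ≫ q)

include hq hr hm in
theorem comparison : FlatMor.IsUnivHomeo m ∧ IsSchemeTheoreticallyDominant m := by
  haveI := isClosedImmersion_fibPowMap (f := f) (d := d) i (i ≫ f) rfl
  exact ZBQuotCmp.isUnivHomeo_closed_cmp (SymProd.permActU f d) q hq.isQuot
    (SymProd.fibPowMap (i ≫ f) d f i rfl) (SymProd.permActU (i ≫ f) d)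
    (fun σ => by simpa using permHom_fibPowMap (f := f) i (i ≫ f) rfl σ.down) r hr.isQuot m hm

include hq hm in
theorem over_base : (r ≫ m ≫ (SymProd.fibPowMap (i ≫ f) d f i rfl ≫ q).ker.subschemeι) ≫ g =
    WidePullback.base fun _ : Fin d => i ≫ f := by
  rw [hm, Category.assoc, hq.over, SymProd.fibPowMap_base]

include hq hr hm in
theorem residue_iso (w : W) : IsIso (m.residueFieldMap w) := by
  haveI : IsIntegralHom m :=
    ((Groth.Agent.S0415.result m).1 (comparison f d q g hq i r gW hr m hm).1).1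
  obtain ⟨t', rfl⟩ := SGA1Q.surjective hr.isQuot w
  let ιd := SymProd.fibPowMap (i ≫ f) d f i rfl
  let ι2 := (ιd ≫ q).ker.subschemeι
  let bZ := WidePullback.base (fun _ : Fin d => i ≫ f)
  let v := (r ≫ m) t'
  let κv := (ιd ≫ q).ker.subscheme.fromSpecResidueField v
  obtain ⟨V, hV, hsV, -⟩ := exists_isAffineOpen_mem_and_subset
    (x := (ι2 ≫ g) v) (U := ⊤) trivial
  obtain ⟨VY, hVY, hvY, hle⟩ := exists_isAffineOpen_mem_and_subset
    (x := ι2 v) (U := g ⁻¹ᵁ V) hsV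
  let U := ι2 ⁻¹ᵁ VY
  have hU : IsAffineOpen U := hVY.preimage ι2
  have hvU : r t' ∈ m ⁻¹ᵁ U := hvY
  refine isIso_residueFieldMap_of_values r m t' (hU.preimage m) hvU fun t => ?_
  let gK : Spec ((ιd ≫ q).ker.subscheme.residueField v) ⟶ S := κv ≫ ι2 ≫ g
  have hgK : (⊤ : (Spec ((ιd ≫ q).ker.subscheme.residueField v)).Opens) ≤ gK ⁻¹ᵁ V := fun p _ => by
    show (ι2 ≫ g) (κv p) ∈ V
    rw [Scheme.fromSpecResidueField_apply]
    exact hsV
  obtain ⟨ρK, hρK⟩ := S13393.exists_action (i ≫ f) d gK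
  let j := pullback.fst bZ gK
  let k := j ≫ ιd
  have hφ : ∀ σ, (ρK σ).hom ≫ j ≫ r = j ≫ r := fun σ => by
    rw [← Category.assoc, (hρK σ).1, Category.assoc]
    exact congrArg (j ≫ ·) (by simpa using hr.isQuot.inv σ)
  let Ω₀ := (SymProd.fibPow (i ≫ f) d).residueField t'
  let ξ := (SymProd.fibPow (i ≫ f) d).fromSpecResidueField t'
  have hξ : Spec.map ((r ≫ m).residueFieldMap t') ≫ κv = ξ ≫ r ≫ m :=
    Scheme.Hom.SpecMap_residueFieldMap_fromSpecResidueField _ _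
  let ω : Spec Ω₀ ⟶ pullback bZ gK := pullback.lift ξ (Spec.map ((r ≫ m).residueFieldMap t')) (by
      simp only [gK]
      rw [← Category.assoc (Spec.map _) κv, hξ]
      show ξ ≫ bZ = _
      rw [show bZ = _ from (over_base f d q g hq i r m hm).symm]
      simp only [Category.assoc]
      rfl)
  have hωj : ω ≫ j = ξ := pullback.lift_fst _ _ _
  let z := ω (IsLocalRing.closedPoint Ω₀)
  have hkq : k ≫ q = j ≫ r ≫ m ≫ ι2 := by
    rw [hm]
    exact Category.assoc _ _ _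
  let O'' := k ⁻¹ᵁ q ⁻¹ᵁ VY
  have hO : ∀ p, p ∈ O'' ↔ (ι2 ((j ≫ r ≫ m) p)) ∈ VY := fun p => by
    show (k ≫ q) p ∈ VY ↔ _
    rw [hkq]
    exact Iff.rfl
  have hz : k z ∈ q ⁻¹ᵁ VY := (hO z).2 (by
    show ι2 ((r ≫ m) ((ω ≫ j) (IsLocalRing.closedPoint Ω₀))) ∈ VY
    rw [hωj, Scheme.fromSpecResidueField_apply]
    exact hvY)
  have hω : (⊤ : (Spec Ω₀).Opens) ≤ ω ⁻¹ᵁ O'' := fun p _ => by
    rw [show p = IsLocalRing.closedPoint Ω₀ from Subsingleton.elim _ _]
    exact hz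
  have he : O'' ≤ (j ≫ r) ⁻¹ᵁ (m ⁻¹ᵁ U) := fun p hp => (hO p).1 hp
  let Φ := Scheme.ΓSpecIso Ω₀
  let ev : Γ(pullback bZ gK, O'') →+* Ω₀ := (ω.appLE O'' ⊤ hω ≫ Φ.hom).hom
  have hev : ∀ a, ev a = Φ.hom.hom ((ω.appLE O'' ⊤ hω).hom a) := fun a => rfl
  have hnat : ∀ c, Φ.hom.hom ((Spec.map ((r ≫ m).residueFieldMap t')).appTop.hom c) ∈
      ((r ≫ m).residueFieldMap t').hom.range := fun c =>
    ⟨_, (congr(($(Scheme.ΓSpecIso_naturality ((r ≫ m).residueFieldMap t'))).hom c)).symm⟩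
  obtain ⟨σ, α, hσ, hα, hzσ, hrel⟩ := exists_fraction_pulled hq hV hVY hle i (i ≫ f) rfl gK hgK
    (flat_chart_field (i ≫ f) ((ιd ≫ q).ker.subscheme.residueField v) gK) ρK hρK k rfl (j ≫ r) hφ
    (m ⁻¹ᵁ U) t he (((r ≫ m).residueFieldMap t').hom.range.comap ev)
    (fun c => by
      rw [Subring.mem_comap, hev]
      have e : (ω.appLE O'' ⊤ hω).hom (((pullback.snd bZ gK).appLE ⊤ O'' le_top).hom c) =
          (Spec.map ((r ≫ m).residueFieldMap t')).appTop.hom c :=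
        (Chart.appLE_comp_apply ω (pullback.snd bZ gK) le_top hω c (pullback.lift_snd _ _ _)
          le_top).trans (congr(($(Scheme.Hom.appLE_eq_app (Spec.map ((r ≫ m).residueFieldMap t')))).hom c))
      rw [e]
      exact hnat c)
    (fun b => by
      rw [Subring.mem_comap, hev]
      have hb0 : (⊤ : (Spec ((ιd ≫ q).ker.subscheme.residueField v)).Opens) ≤
          (κv ≫ ι2) ⁻¹ᵁ VY := fun p _ => by
        show ι2 (κv p) ∈ VY
        rw [Scheme.fromSpecResidueField_apply]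
        exact hvY
      have hcomp : ω ≫ k ≫ q = Spec.map ((r ≫ m).residueFieldMap t') ≫ κv ≫ ι2 := by
        rw [hkq, ← Category.assoc, hωj, ← Category.assoc (Spec.map _), hξ]
        simp only [Category.assoc]
      have e : (ω.appLE O'' ⊤ hω).hom ((k.app (q ⁻¹ᵁ VY)).hom ((q.app VY).hom b)) =
          (Spec.map ((r ≫ m).residueFieldMap t')).appTop.hom
            (((κv ≫ ι2).appLE VY ⊤ hb0).hom b) := by
        have e1 : (k.app (q ⁻¹ᵁ VY)).hom ((q.app VY).hom b) =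
            ((k ≫ q).appLE VY O'' le_rfl).hom b := by
          rw [Scheme.Hom.app_eq_appLE, Scheme.Hom.app_eq_appLE]
          exact Chart.appLE_comp_apply _ q le_rfl le_rfl b rfl _
        rw [e1]
        have hb2 : (⊤ : (Spec Ω₀).Opens) ≤
            (Spec.map ((r ≫ m).residueFieldMap t') ≫ κv ≫ ι2) ⁻¹ᵁ VY := fun p _ =>
          hb0 (x := Spec.map ((r ≫ m).residueFieldMap t') p) trivial
        refine (Chart.appLE_comp_apply ω (k ≫ q) (U := VY) (V := O'') le_rfl hω b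
          hcomp hb2).trans ?_
        have e2 : (Spec.map ((r ≫ m).residueFieldMap t')).appTop =
            (Spec.map ((r ≫ m).residueFieldMap t')).appLE ⊤ ⊤ le_top :=
          (Scheme.Hom.appLE_eq_app _).symm
        rw [e2]
        exact (Chart.appLE_comp_apply (Spec.map ((r ≫ m).residueFieldMap t'))
          (κv ≫ ι2) hb0 le_top b rfl _).symm
      rw [e]
      exact hnat _)
    z hz
  have hσ0 : ev σ ≠ 0 := by
    intro h0
    have h1 : (ω.appLE O'' ⊤ hω).hom σ = 0 :=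
      (ConcreteCategory.bijective_of_isIso Φ.hom).1 (h0.trans (map_zero Φ.hom.hom).symm)
    have h2 : IsLocalRing.closedPoint Ω₀ ∈ (Spec Ω₀).basicOpen ((ω.appLE O'' ⊤ hω).hom σ) := by
      rw [Scheme.basicOpen_appLE]
      exact ⟨trivial, hzσ⟩
    rw [h1, Scheme.basicOpen_zero] at h2
    exact h2
  have hval : ev (((j ≫ r).appLE (m ⁻¹ᵁ U) O'' he).hom t) =
      (SymProd.fibPow (i ≫ f) d).evaluation (r ⁻¹ᵁ m ⁻¹ᵁ U) t' hvU ((r.app (m ⁻¹ᵁ U)).hom t) := by
    have he1 : (⊤ : (Spec Ω₀).Opens) ≤ ξ ⁻¹ᵁ (r ⁻¹ᵁ m ⁻¹ᵁ U) := fun p _ => by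
      show ι2 (m (r (ξ p))) ∈ VY
      rw [Scheme.fromSpecResidueField_apply]
      exact hvY
    rw [hev, ← appLE_fromSpecResidueField _ t' _ hvU he1]
    refine congrArg Φ.hom.hom ((Chart.appLE_comp_apply ω (j ≫ r) he hω t
      (show ω ≫ j ≫ r = ξ ≫ r by rw [← Category.assoc, hωj]) he1).trans ?_)
    rw [Scheme.Hom.app_eq_appLE]
    exact (Chart.appLE_comp_apply ξ r le_rfl he1 t rfl he1).symm
  have hprod := congrArg ev hrel
  rw [map_mul, hval] at hprod
  obtain ⟨cσ, hcσ⟩ := Subring.mem_comap.1 hσ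
  obtain ⟨cα, hcα⟩ := Subring.mem_comap.1 hα
  refine ⟨cα / cσ, ?_⟩
  rw [map_div₀, hcσ, hcα, ← hprod, mul_div_assoc, div_self hσ0, mul_one]

include hq hr hm in
set_option maxHeartbeats 1000000 in
theorem closed_immersion_of_flat (hflat : Flat (i ≫ f)) : IsClosedImmersion m := by
  obtain ⟨hint, -, hsurj⟩ :=
    (Groth.Agent.S0415.result m).1 (comparison f d q g hq i r gW hr m hm).1
  haveI : Surjective r := ⟨SGA1Q.surjective hr.isQuot⟩
  let ιd := SymProd.fibPowMap (i ≫ f) d f i rfl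
  let ι2 := (ιd ≫ q).ker.subschemeι
  let bZ := WidePullback.base (fun _ : Fin d => i ≫ f)
  have hbase : bZ = (r ≫ m ≫ ι2) ≫ g := (over_base f d q g hq i r m hm).symm
  refine isClosedImmersion_of_app_surjective m fun v => ?_
  obtain ⟨V, hV, hsV, -⟩ := exists_isAffineOpen_mem_and_subset
    (x := (ι2 ≫ g) v) (U := ⊤) trivial
  obtain ⟨VY, hVY, hvY, hle⟩ := exists_isAffineOpen_mem_and_subset
    (x := ι2 v) (U := g ⁻¹ᵁ V) hsV
  let U := ι2 ⁻¹ᵁ VY
  have hU : IsAffineOpen U := hVY.preimage ι2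
  refine ⟨U, hU, hvY, app_surjective_of_local r m hU (hr.isQuot.injective _) fun t' ht' t => ?_⟩
  haveI : IsAffine V.toScheme := hV
  obtain ⟨ρ'', hρ''⟩ := S13393.exists_action (i ≫ f) d V.ι
  let j := pullback.fst bZ V.ι
  let k := j ≫ ιd
  have hbV : ∀ p, ι2 ((r ≫ m) p) ∈ VY → bZ p ∈ V := fun p hp => by
    rw [hbase]
    exact hle hp
  have hj_range : ∀ p, p ∈ Set.range j ↔ bZ p ∈ V := fun p => by
    rw [IsOpenImmersion.range_pullbackFst, Scheme.Opens.opensRange_ι]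
    exact Iff.rfl
  let O' := (r ≫ m) ⁻¹ᵁ U
  let O'' := k ⁻¹ᵁ q ⁻¹ᵁ VY
  have hkq : k ≫ q = j ≫ r ≫ m ≫ ι2 := by
    rw [hm]
    exact Category.assoc _ _ _
  have hO : j ⁻¹ᵁ O' = O'' := by
    ext p
    show ι2 ((r ≫ m) (j p)) ∈ VY ↔ (k ≫ q) p ∈ VY
    rw [hkq]
    exact Iff.rfl
  obtain ⟨z, hz⟩ : t' ∈ Set.range j := (hj_range t').2 (hbV t' ht')
  subst hz
  let ψ := j ≫ r ≫ m
  have hψ : O'' ≤ ψ ⁻¹ᵁ U := hO.ge
  have hz' : k z ∈ q ⁻¹ᵁ VY := hO.le ht'
  obtain ⟨σ, α, ⟨a, rfl⟩, ⟨b, rfl⟩, hzσ, hrel⟩ := exists_fraction_pulled hq hV hVY hle i (i ≫ f) rfl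
    V.ι (fun p _ => p.2)
    (flat_chart (i ≫ f) V.ι (MorphismProperty.pullback_snd _ _ hflat)) ρ'' hρ'' k rfl (j ≫ r)
    (fun σ => by
      rw [← Category.assoc, (hρ'' σ).1, Category.assoc]
      exact congrArg (j ≫ ·) (by simpa using hr.isQuot.inv σ))
    (m ⁻¹ᵁ U) t hψ (ψ.appLE U O'' hψ).hom.range
    (fun c => by
      have e : V.ι.appLE V ⊤ (fun p _ => p.2) = V.topIso.inv := by
        simp [Scheme.Hom.appLE, Scheme.Opens.ι_app]
        erw [← Functor.map_comp]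
        rfl
      obtain ⟨c₀, rfl⟩ := (ConcreteCategory.bijective_of_isIso V.topIso.inv).2 c
      have h2 : U ≤ (ι2 ≫ g) ⁻¹ᵁ V := fun p hp => hle hp
      refine ⟨((ι2 ≫ g).appLE V U h2).hom c₀, ?_⟩
      rw [← e]
      have hm' : ψ ≫ ι2 ≫ g = pullback.snd bZ V.ι ≫ V.ι := by
        rw [← pullback.condition]
        refine Eq.trans ?_ (congrArg (j ≫ ·) hbase.symm)
        simp only [ψ, Category.assoc]
      exact (Chart.appLE_comp_apply ψ _ h2 hψ c₀ hm'
        (fun p _ => (pullback.snd bZ V.ι p).2)).trans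
        (Chart.appLE_comp_apply (pullback.snd bZ V.ι) V.ι (fun p _ => p.2) le_top c₀ rfl _).symm)
    (fun b => by
      refine ⟨(ι2.appLE VY U le_rfl).hom b, ?_⟩
      have hm' : ψ ≫ ι2 = k ≫ q := by
        rw [hkq]
        simp only [ψ, Category.assoc]
      rw [Scheme.Hom.app_eq_appLE, Scheme.Hom.app_eq_appLE]
      exact (Chart.appLE_comp_apply ψ ι2 le_rfl hψ b hm' le_rfl).trans
        (Chart.appLE_comp_apply k q le_rfl le_rfl b rfl le_rfl).symm)
    z hz'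
  have hjinj : Function.Injective (j.appLE O' O'' hO.ge).hom := by
    have hle'' : O' ≤ j.opensRange := fun p hp => (hj_range p).2 (hbV p hp)
    haveI := j.isIso_app O' hle''
    have e : j.appLE O' O'' hO.ge = j.app O' ≫
        (pullback bZ V.ι).presheaf.map (eqToHom hO.symm).op := rfl
    rw [e]
    exact (ConcreteCategory.bijective_of_isIso
      (j.app O' ≫ (pullback bZ V.ι).presheaf.map (eqToHom hO.symm).op)).1
  have hpull : ∀ c, (j.appLE O' O'' hO.ge).hom (((r ≫ m).app U).hom c) =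
      (ψ.appLE U O'' hψ).hom c := fun c => by
    rw [Scheme.Hom.app_eq_appLE]
    exact Chart.appLE_comp_apply j (r ≫ m) le_rfl hO.ge c rfl hψ
  refine ⟨a, b, ?_, hjinj ?_⟩
  · rw [← hpull, Scheme.basicOpen_appLE] at hzσ
    exact hzσ.2
  · refine ((j.appLE O' O'' hO.ge).hom.map_mul _ _).trans ?_
    refine Eq.trans ?_ ((hrel).trans (hpull b).symm)
    refine congrArg₂ (· * ·) ?_ (hpull a)
    rw [Scheme.Hom.app_eq_appLE]
    exact Chart.appLE_comp_apply j r le_rfl hO.ge t rfl _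

include hq hr hm in
theorem isIso_of_isUnit (hn : ∀ n : ℕ, 0 < n → IsUnit ((n : ℕ) : Γ(S, ⊤))) : IsIso m := by
  obtain ⟨hhom, hdom⟩ := comparison f d q g hq i r gW hr m hm
  obtain ⟨hint, -, -⟩ := (Groth.Agent.S0415.result m).1 hhom
  let ιd := SymProd.fibPowMap (i ≫ f) d f i rfl
  haveI : IsClosedImmersion ιd := isClosedImmersion_fibPowMap (f := f) (d := d) i (i ≫ f) rfl
  let ι2 := (ιd ≫ q).ker.subschemeι
  suffices IsClosedImmersion m from IsClosedImmersion.isIso_iff_ker_eq_bot.2 hdom.ker_eq_bot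
  refine isClosedImmersion_of_app_surjective m fun v => ?_
  obtain ⟨V, hV, hsV, -⟩ := exists_isAffineOpen_mem_and_subset
    (x := (ι2 ≫ g) v) (U := ⊤) trivial
  obtain ⟨VY, hVY, hvY, hle⟩ := exists_isAffineOpen_mem_and_subset
    (x := ι2 v) (U := g ⁻¹ᵁ V) hsV
  let U := ι2 ⁻¹ᵁ VY
  refine ⟨U, hVY.preimage ι2, hvY, fun t => ?_⟩
  let Ω := stableOpen hq hV hVY hle
  let O'' := ιd ⁻¹ᵁ Ω.O
  have hO : r ⁻¹ᵁ m ⁻¹ᵁ U = O'' := by
    show (r ≫ m ≫ ι2) ⁻¹ᵁ VY = (ιd ≫ q) ⁻¹ᵁ VY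
    rw [hm]
  let s := (r.appLE (m ⁻¹ᵁ U) O'' hO.ge).hom t
  obtain ⟨a, ha⟩ := ιd.app_surjective Ω.O Ω.hO s
  cases nonempty_fintype (Sd.{u} d)
  let n : ℕ := Fintype.card (Sd.{u} d)
  let A := ∑ σ : Sd.{u} d, σ • a
  obtain ⟨b, hb⟩ : A ∈ Set.range (q.app VY).hom := (hq.isQuot.range_iff VY A).2 fun σ => by
    have e : σ⁻¹ • A = A := by
      simp only [A, Finset.smul_sum, smul_smul]
      exact Fintype.sum_equiv (Equiv.mulLeft σ⁻¹) _ _ fun τ => rfl
    rw [Ω.smul_def] at e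
    simp only [inv_inv] at e
    exact e
  have hsmul : ∀ σ : Sd.{u} d, (ιd.app Ω.O).hom (σ • a) = s := by
    intro σ
    rw [Ω.smul_def]
    have hst : O'' ≤ (SymProd.permActU (i ≫ f) d σ⁻¹).hom ⁻¹ᵁ O'' := by
      rw [← hO]
      exact SGA1.preimage_le_of_inv _ r hr.isQuot.inv σ⁻¹ _
    have e : (SymProd.permActU f d σ⁻¹).hom.appLE Ω.O Ω.O (Ω.hst _) ≫ ιd.app Ω.O =
        ιd.app Ω.O ≫ (SymProd.permActU (i ≫ f) d σ⁻¹).hom.appLE O'' O'' hst := by
      rw [Scheme.Hom.app_eq_appLE, Scheme.Hom.appLE_comp_appLE, Scheme.Hom.appLE_comp_appLE]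
      exact SGA1Q.appLE_congr_hom
        (permHom_fibPowMap (f := f) i (i ≫ f) rfl (σ⁻¹).down).symm _ _
    refine (congr(($e).hom a)).trans ?_
    show ((SymProd.permActU (i ≫ f) d σ⁻¹).hom.appLE O'' O'' hst).hom ((ιd.app Ω.O).hom a) = s
    rw [show (ιd.app Ω.O).hom a = s from ha]
    exact Chart.appLE_comp_apply _ r hO.ge hst t (hr.isQuot.inv _) _
  have hA : (ιd.app Ω.O).hom A = (n : Γ(SymProd.fibPow (i ≫ f) d, O'')) * s := by
    simp only [A, map_sum, hsmul, Finset.sum_const, Finset.card_univ, nsmul_eq_mul, n]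
  have hrinj : Function.Injective (r.appLE (m ⁻¹ᵁ U) O'' hO.ge).hom := by
    have e : r.appLE (m ⁻¹ᵁ U) O'' hO.ge = r.app (m ⁻¹ᵁ U) ≫
        (SymProd.fibPow (i ≫ f) d).presheaf.map (eqToHom hO.symm).op := rfl
    rw [e]
    exact (ConcreteCategory.bijective_of_isIso
      ((SymProd.fibPow (i ≫ f) d).presheaf.map (eqToHom hO.symm).op)).1.comp (hr.isQuot.injective _)
  have hkey : (n : Γ(W, m ⁻¹ᵁ U)) * t = (m.app U).hom ((ι2.appLE VY U le_rfl).hom b) := by
    refine hrinj ?_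
    rw [map_mul, map_natCast]
    refine hA.symm.trans ?_
    rw [← hb, Scheme.Hom.app_eq_appLE ιd, Scheme.Hom.app_eq_appLE q, Scheme.Hom.app_eq_appLE m]
    refine (Chart.appLE_comp_apply ιd q le_rfl le_rfl b hm.symm hO.ge).trans ?_
    exact (congrArg _ (Chart.appLE_comp_apply m ι2 le_rfl le_rfl b rfl le_rfl)).trans
      (Chart.appLE_comp_apply r (m ≫ ι2) le_rfl hO.ge b rfl hO.ge) |>.symm
  obtain ⟨u, hu⟩ : IsUnit (n : Γ((ιd ≫ q).ker.subscheme, U)) := by
    simpa using (hn n Fintype.card_pos).map (((ι2 ≫ g).appLE ⊤ U le_top).hom)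
  refine ⟨(↑u⁻¹ : Γ((ιd ≫ q).ker.subscheme, U)) * (ι2.appLE VY U le_rfl).hom b, ?_⟩
  rw [map_mul, ← hkey, ← map_natCast (m.app U).hom, ← hu, ← mul_assoc, ← map_mul, Units.inv_mul,
    map_one, one_mul]


/-- Scheme case. Let f : X → S be separated, let (Y, q, g) be a d-th symmetric product of X over S (q :
(X/S)^d → Y a quotient of the d-fold fibre product by the symmetric group, g : Y → S), let i : Z → X
be a closed immersion and (W, r, g_W) a d-th symmetric product of Z over S, let q((Z/S)^d) ⊆ Y be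
the scheme-theoretic image of the composite (Z/S)^d → (X/S)^d → Y, and let m : W → q((Z/S)^d) be the
morphism through which that composite factors via r. Then m induces an isomorphism on residue fields
at every point of W (trivial residue field extensions); if every positive integer is invertible in
Γ(S, O_S) then m is an isomorphism; and if Z → S is flat then m is a closed immersion. (The
published statement is for X a separated algebraic space over S; this row is the case of schemes in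
which both symmetric products exist as schemes, taken as hypotheses, and leaves the
universal-homeomorphism clause to the general finite-group statement.) -/
theorem result {X Z S Y W : Scheme.{u}} (f : X ⟶ S) [IsSeparated f] (d : ℕ)
    (q : SymProd.fibPow f d ⟶ Y) (g : Y ⟶ S) (hq : SymProd.IsSymProd f d q g)
    (i : Z ⟶ X) [IsClosedImmersion i]
    (r : SymProd.fibPow (i ≫ f) d ⟶ W) (gW : W ⟶ S) (hr : SymProd.IsSymProd (i ≫ f) d r gW)
    (m : W ⟶ (SymProd.fibPowMap (i ≫ f) d f i rfl ≫ q).ker.subscheme)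
    (hm : r ≫ m ≫ (SymProd.fibPowMap (i ≫ f) d f i rfl ≫ q).ker.subschemeι =
      SymProd.fibPowMap (i ≫ f) d f i rfl ≫ q) :
    (∀ w : W, IsIso (m.residueFieldMap w)) ∧
    ((∀ n : ℕ, 0 < n → IsUnit ((n : ℕ) : Γ(S, ⊤))) → IsIso m) ∧
    (Flat (i ≫ f) → IsClosedImmersion m) := by
  exact ⟨fun w => residue_iso f d q g hq i r gW hr m hm w, isIso_of_isUnit f d q g hq i r gW hr m hm,
    closed_immersion_of_flat f d q g hq i r gW hr m hm⟩

end Groth.Agent.S13394
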