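import Groth.Statements.S13395
import Groth.Agent.S13393
import Groth.Agent.ZBSym.Pure
import Groth.Agent.SGA1Q.Exists

set_option autoImplicit false
universe u
open CategoryTheory CategoryTheory.Limits AlgebraicGeometry
open ZeroCyc

namespace Groth.Agent.S13395

open ZBSym
open scoped TensorProduct

/-- Quotient by a group as a succession of two quotients. -/
theorem isQuot_comp {T T₁ T₂ : Scheme.{u}} {G H₁ H₂ : Type u} [Group G] [Group H₁] [Group H₂]
    (ρ : G →* Aut T) (ρ₁ : H₁ →* Aut T) (ρ₂ : H₂ →* Aut T₁) (i₁ : H₁ → G) (i₂ : H₂ → G)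
    (hi₁ : ∀ h, (ρ (i₁ h)).hom = (ρ₁ h).hom) {r₁ : T ⟶ T₁} {r₂ : T₁ ⟶ T₂}
    (hr₁ : SGA1.IsQuot ρ₁ r₁) (hr₂ : SGA1.IsQuot ρ₂ r₂)
    (hi₂ : ∀ h, (ρ (i₂ h)).hom ≫ r₁ = r₁ ≫ (ρ₂ h).hom)
    (hinv : ∀ g, (ρ g).hom ≫ r₁ ≫ r₂ = r₁ ≫ r₂) : SGA1.IsQuot ρ (r₁ ≫ r₂) := by
  haveI := hr₁.affine
  haveI := hr₂.affine
  refine ⟨inferInstance, hinv, fun U => (hr₁.injective _).comp (hr₂.injective U), fun U s => ⟨?_, ?_⟩⟩
  · rintro ⟨t, rfl⟩ g
    exact SGA1Q.appLE_app_of_inv hinv U g t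
  · intro hs
    obtain ⟨s₁, rfl⟩ := (hr₁.range_iff (r₂ ⁻¹ᵁ U) s).2 fun h => by
      refine Eq.trans ?_ (hs (i₁ h))
      exact congr(($(SGA1Q.appLE_congr_hom (hi₁ h).symm _ _)).hom s)
    obtain ⟨t, rfl⟩ := (hr₂.range_iff U s₁).2 fun h => by
      refine hr₁.injective _ ?_
      have h1 : r₁ ⁻¹ᵁ r₂ ⁻¹ᵁ U ≤ (r₁ ≫ (ρ₂ h).hom) ⁻¹ᵁ (r₂ ⁻¹ᵁ U) :=
        r₁.preimage_mono (SGA1.preimage_le_of_inv ρ₂ r₂ hr₂.inv h U)
      rw [Scheme.Hom.app_eq_appLE]
      refine (Chart.appLE_comp_apply r₁ (ρ₂ h).hom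
        (SGA1.preimage_le_of_inv ρ₂ r₂ hr₂.inv h U) le_rfl s₁ rfl h1).trans ?_
      refine (Chart.appLE_comp_apply (ρ (i₂ h)).hom r₁ le_rfl
        (SGA1.preimage_le_of_inv ρ (r₁ ≫ r₂) hinv (i₂ h) U) s₁ (hi₂ h) h1).symm.trans ?_
      have e := hs (i₂ h)
      rw [Scheme.Hom.app_eq_appLE] at e
      exact e
    exact ⟨t, rfl⟩

/-- A symmetric product times a scheme is a quotient, for flat families. -/
theorem isQuot_prod_of_flat {X S P Q : Scheme.{u}} (f : X ⟶ S) (d : ℕ) (hf : Flat f)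
    (qX : SymProd.fibPow f d ⟶ P) (pP : P ⟶ S) (hqX : SymProd.IsSymProd f d qX pP) (pQ : Q ⟶ S)
    (ρ' : ULift.{u} (Equiv.Perm (Fin d)) →* Aut (pullback (WidePullback.base fun _ : Fin d => f) pQ))
    (hρ' : ∀ σ, (ρ' σ).hom ≫ pullback.fst (WidePullback.base fun _ : Fin d => f) pQ =
        pullback.fst (WidePullback.base fun _ : Fin d => f) pQ ≫ SymProd.permHom f d σ.down ∧
      (ρ' σ).hom ≫ pullback.snd (WidePullback.base fun _ : Fin d => f) pQ =
        pullback.snd (WidePullback.base fun _ : Fin d => f) pQ) :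
    SGA1.IsQuot ρ' (pullback.map (WidePullback.base fun _ : Fin d => f) pQ pP pQ qX (𝟙 Q) (𝟙 S)
      ((Category.comp_id _).trans hqX.over.symm)
      ((Category.comp_id pQ).trans (Category.id_comp pQ).symm)) := by
  let a := WidePullback.base (fun _ : Fin d => f)
  let R2 : pullback a pQ ⟶ pullback pP pQ := pullback.map a pQ pP pQ qX (𝟙 Q) (𝟙 S)
    ((Category.comp_id _).trans hqX.over.symm) ((Category.comp_id pQ).trans (Category.id_comp pQ).symm)
  have hR_fst : R2 ≫ pullback.fst pP pQ = pullback.fst a pQ ≫ qX := pullback.lift_fst _ _ _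
  have hR_snd : R2 ≫ pullback.snd pP pQ = pullback.snd a pQ :=
    (pullback.lift_snd _ _ _).trans (Category.comp_id _)
  have hRinv : ∀ σ, (ρ' σ).hom ≫ R2 = R2 := fun σ => by
    refine pullback.hom_ext ?_ ?_
    · rw [Category.assoc, hR_fst, ← Category.assoc, (hρ' σ).1, Category.assoc]
      exact congrArg (pullback.fst _ _ ≫ ·) (by simpa using hqX.isQuot.inv σ)
    · rw [Category.assoc, hR_snd, (hρ' σ).2]
  haveI : IsAffineHom R2 := by
    haveI := hqX.isQuot.affine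
    exact MorphismProperty.of_isPullback (S13393.isPullback_comparison a pP pQ qX hqX.over)
      hqX.isQuot.affine
  obtain ⟨Y', r', hr'⟩ := SGA1Q.exists_quotient ρ' fun x => by
    obtain ⟨U, hU, hxU, -⟩ := exists_isAffineOpen_mem_and_subset (x := R2 x) (U := ⊤) trivial
    refine ⟨R2 ⁻¹ᵁ U, hU.preimage R2, fun σ => ?_⟩
    show ((ρ' σ).hom ≫ R2) x ∈ U
    rw [hRinv]
    exact hxU
  obtain ⟨m, hm, -⟩ := SGA1Q.desc_existsUnique_isQuot hr' R2 hRinv
  have hci : IsClosedImmersion m := S13393.closed_immersion_of_flat f d qX pP hqX pQ ρ' hρ' r' hr' m hm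
    (MorphismProperty.pullback_snd _ _ hf)
  suffices hiso : IsIso m by
    show SGA1.IsQuot ρ' R2
    rw [← hm]
    haveI := hr'.affine
    refine ⟨inferInstance, fun σ => by rw [← Category.assoc, hr'.inv], fun U =>
      (hr'.injective _).comp (ConcreteCategory.bijective_of_isIso (m.app U)).1, fun U s => ⟨?_, ?_⟩⟩
    · rintro ⟨t, rfl⟩ σ
      exact SGA1Q.appLE_app_of_inv (fun σ => by rw [← Category.assoc, hr'.inv]) U σ t
    · intro hs
      obtain ⟨t, rfl⟩ := (hr'.range_iff (m ⁻¹ᵁ U) s).2 hs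
      obtain ⟨u, rfl⟩ := (ConcreteCategory.bijective_of_isIso (m.app U)).2 t
      exact ⟨u, rfl⟩
  refine IsClosedImmersion.isIso_iff_ker_eq_bot.2 ?_
  let idx := { p : S.affineOpens × P.affineOpens × Q.affineOpens //
    p.2.1.1 ≤ pP ⁻¹ᵁ p.1.1 ∧ p.2.2.1 ≤ pQ ⁻¹ᵁ p.1.1 }
  refine Scheme.IdealSheafData.ext_of_iSup_eq_top
    (fun p : idx => ⟨pullback.fst pP pQ ⁻¹ᵁ p.1.2.1.1 ⊓ pullback.snd pP pQ ⁻¹ᵁ p.1.2.2.1,
      isAffineOpen_inter_preimage (IsPullback.of_hasPullback pP pQ) p.1.1.2 p.1.2.1.2 p.2.1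
        p.1.2.2.2 p.2.2⟩) ?_ fun p => ?_
  · refine top_unique fun v _ => TopologicalSpace.Opens.mem_iSup.2 ?_
    obtain ⟨V, hV, hsV, -⟩ := exists_isAffineOpen_mem_and_subset
      (x := (pullback.fst pP pQ ≫ pP) v) (U := ⊤) trivial
    obtain ⟨VP, hVP, hvP, hle⟩ := exists_isAffineOpen_mem_and_subset
      (x := pullback.fst pP pQ v) (U := pP ⁻¹ᵁ V) hsV
    obtain ⟨VQ, hVQ, hvQ, hle'⟩ := exists_isAffineOpen_mem_and_subset
      (x := pullback.snd pP pQ v) (U := pQ ⁻¹ᵁ V) (by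
        show (pullback.snd pP pQ ≫ pQ) v ∈ V
        rw [← pullback.condition]
        exact hsV)
    exact ⟨⟨(⟨V, hV⟩, ⟨VP, hVP⟩, ⟨VQ, hVQ⟩), hle, hle'⟩, hvP, hvQ⟩
  obtain ⟨⟨⟨V, hV⟩, ⟨VP, hVP⟩, ⟨VQ, hVQ⟩⟩, hle, hle'⟩ := p
  let U : (pullback pP pQ).Opens := pullback.fst pP pQ ⁻¹ᵁ VP ⊓ pullback.snd pP pQ ⁻¹ᵁ VQ
  rw [Scheme.Hom.ker_apply, Scheme.IdealSheafData.ideal_bot, Pi.bot_apply,
    RingHom.ker_eq_bot_iff_eq_zero]
  intro s hs
  -- it is enough that functions on the target inject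
  let Ω := stableOpen hqX hV hVP hle
  let O₁ : (pullback a pQ).Opens := pullback.fst a pQ ⁻¹ᵁ Ω.O ⊓ pullback.snd a pQ ⁻¹ᵁ VQ
  have hO : O₁ = R2 ⁻¹ᵁ U := by
    show pullback.fst a pQ ⁻¹ᵁ (qX ⁻¹ᵁ VP) ⊓ pullback.snd a pQ ⁻¹ᵁ VQ =
      R2 ⁻¹ᵁ (pullback.fst pP pQ ⁻¹ᵁ VP ⊓ pullback.snd pP pQ ⁻¹ᵁ VQ)
    rw [Scheme.Hom.preimage_inf, ← Scheme.Hom.comp_preimage, ← Scheme.Hom.comp_preimage R2,
      ← Scheme.Hom.comp_preimage R2, hR_fst, hR_snd]
  have hVQV : VQ ≤ pQ ⁻¹ᵁ V := hle'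
  let R := Γ(S, V)
  letI algP : Algebra R Γ(P, VP) := (pP.appLE V VP hle).hom.toAlgebra
  letI algQ : Algebra R Γ(Q, VQ) := (pQ.appLE V VQ hle').hom.toAlgebra
  have hpb₂ : IsPullback (pullback.fst pP pQ) (pullback.snd pP pQ) pP pQ := .of_hasPullback _ _
  have hpb₁ : IsPullback (pullback.fst a pQ) (pullback.snd a pQ) a pQ := .of_hasPullback _ _
  have hpo₂ := (isIso_pushoutSection_iff hpb₂ (US := V) (UT := VQ) (UX := VP) hle' hle rfl).1
    (isIso_pushoutSection_of_isAffineOpen hpb₂ hle' hle rfl hV hVQ hVP)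
  have hpo₁ := (isIso_pushoutSection_iff hpb₁ (US := V) (UT := VQ) (UX := Ω.O) hle' Ω.hbO rfl).1
    (isIso_pushoutSection_of_isAffineOpen hpb₁ hle' Ω.hbO rfl hV hVQ Ω.hO)
  letI : Algebra Γ(Q, VQ) Γ(pullback pP pQ, U) :=
    ((pullback.snd pP pQ).appLE VQ U inf_le_right).hom.toAlgebra
  letI : Algebra Γ(P, VP) Γ(pullback pP pQ, U) :=
    ((pullback.fst pP pQ).appLE VP U inf_le_left).hom.toAlgebra
  letI : Algebra R Γ(pullback pP pQ, U) :=
    (((pullback.fst pP pQ).appLE VP U inf_le_left).hom.comp (pP.appLE V VP hle).hom).toAlgebra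
  haveI : IsScalarTower R Γ(P, VP) Γ(pullback pP pQ, U) := IsScalarTower.of_algebraMap_eq' rfl
  haveI : IsScalarTower R Γ(Q, VQ) Γ(pullback pP pQ, U) :=
    IsScalarTower.of_algebraMap_eq' (congrArg CommRingCat.Hom.hom hpo₂.w)
  haveI : Algebra.IsPushout R Γ(Q, VQ) Γ(P, VP) Γ(pullback pP pQ, U) :=
    CommRingCat.isPushout_iff_isPushout.1 hpo₂.flip
  letI : Algebra Γ(Q, VQ) Γ(pullback a pQ, O₁) :=
    ((pullback.snd a pQ).appLE VQ O₁ inf_le_right).hom.toAlgebra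
  letI : Algebra Γ(SymProd.fibPow f d, Ω.O) Γ(pullback a pQ, O₁) :=
    ((pullback.fst a pQ).appLE Ω.O O₁ inf_le_left).hom.toAlgebra
  letI : Algebra R Γ(pullback a pQ, O₁) :=
    (((pullback.fst a pQ).appLE Ω.O O₁ inf_le_left).hom.comp (a.appLE V Ω.O Ω.hbO).hom).toAlgebra
  haveI : IsScalarTower R Γ(SymProd.fibPow f d, Ω.O) Γ(pullback a pQ, O₁) :=
    IsScalarTower.of_algebraMap_eq' rfl
  haveI : IsScalarTower R Γ(Q, VQ) Γ(pullback a pQ, O₁) :=
    IsScalarTower.of_algebraMap_eq' (congrArg CommRingCat.Hom.hom hpo₁.w)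
  haveI : Algebra.IsPushout R Γ(Q, VQ) Γ(SymProd.fibPow f d, Ω.O) Γ(pullback a pQ, O₁) :=
    CommRingCat.isPushout_iff_isPushout.1 hpo₁.flip
  let φ : Γ(P, VP) →ₗ[R] Γ(SymProd.fibPow f d, Ω.O) :=
    { toFun := fun y => (qX.app VP).hom y
      map_add' := fun y y' => map_add (qX.app VP).hom y y'
      map_smul' := fun c y => by
        rw [RingHom.id_apply, Algebra.smul_def, Algebra.smul_def, map_mul]
        refine congrArg (· * _) ?_
        rw [Scheme.Hom.app_eq_appLE]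
        exact Chart.appLE_comp_apply qX pP hle le_rfl c hqX.over _ }
  let e₂ := Algebra.IsPushout.equiv R Γ(Q, VQ) Γ(P, VP) Γ(pullback pP pQ, U)
  let e₁ := Algebra.IsPushout.equiv R Γ(Q, VQ) Γ(SymProd.fibPow f d, Ω.O) Γ(pullback a pQ, O₁)
  have hR2U : O₁ ≤ R2 ⁻¹ᵁ U := hO.le
  have hcomm : ∀ w, (R2.appLE U O₁ hR2U).hom (e₂ w) = e₁ (φ.lTensor Γ(Q, VQ) w) := by
    intro w
    induction w using TensorProduct.induction_on with
    | zero => simp only [map_zero]
    | add u v hu hv => simp only [map_add, hu, hv]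
    | tmul c y =>
      rw [Algebra.IsPushout.equiv_tmul, LinearMap.lTensor_tmul, Algebra.IsPushout.equiv_tmul,
        map_mul]
      refine congrArg₂ (· * ·) ?_ ?_
      · exact Chart.appLE_comp_apply R2 (pullback.snd pP pQ) inf_le_right hR2U c hR_snd inf_le_right
      · have h' : O₁ ≤ (pullback.fst a pQ ≫ qX) ⁻¹ᵁ VP := inf_le_left
        refine (Chart.appLE_comp_apply R2 (pullback.fst pP pQ) inf_le_left hR2U y hR_fst h').trans ?_
        show _ = ((pullback.fst a pQ).appLE Ω.O O₁ inf_le_left).hom ((qX.app VP).hom y)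
        rw [Scheme.Hom.app_eq_appLE]
        exact (Chart.appLE_comp_apply (pullback.fst a pQ) qX le_rfl inf_le_left y rfl h').symm
  obtain ⟨w, rfl⟩ := e₂.surjective s
  have h0 : (R2.appLE U O₁ hR2U).hom (e₂ w) = 0 := by
    have h1 : O₁ ≤ r' ⁻¹ᵁ (m ⁻¹ᵁ U) := by
      rw [← Scheme.Hom.comp_preimage, hm]
      exact hR2U
    rw [← Chart.appLE_comp_apply r' m le_rfl h1 (e₂ w) hm hR2U, ← Scheme.Hom.app_eq_appLE]
    exact (congrArg _ hs).trans (map_zero _)
  rw [hcomm] at h0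
  have hw : φ.lTensor Γ(Q, VQ) w = 0 := e₁.injective (h0.trans (map_zero e₁).symm)
  rw [lTensor_app_injective hf hqX hV hVP hle Γ(Q, VQ) φ (fun _ => rfl) (hw.trans (map_zero _).symm),
    map_zero]


/-- Scheme case. Let f : X → S and g : Z → S be separated morphisms and suppose that either both are
flat or every positive integer is invertible in Γ(S, O_S) (S is a scheme over the rationals). Let
(P, q_X) be a d-th symmetric product of X over S and (Q, q_Z) an e-th symmetric product of Z over S,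
i.e. quotients of the fibre powers (X/S)^d and (Z/S)^e by the symmetric groups permuting the
factors, and let S_d × S_e act on (X/S)^d ×_S (Z/S)^e factorwise. Then q_X × q_Z : (X/S)^d ×_S
(Z/S)^e → P ×_S Q is a quotient by S_d × S_e (affine, invariant, with sections of P ×_S Q the
invariant sections): the mixed symmetric product Sym^{d,e}(X, Z) is Sym^d(X/S) ×_S Sym^e(Z/S). (The
published statement is for separated algebraic spaces, where these quotients always exist, and adds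
the identification with Γ^d(X/S) ×_S Γ^e(Z/S); this row is the scheme case with the two symmetric
products taken as hypotheses.) -/
theorem result {X Z S P Q : Scheme.{u}} (f : X ⟶ S) (g : Z ⟶ S)
    [IsSeparated f] [IsSeparated g] (d e : ℕ)
    (h : (Flat f ∧ Flat g) ∨ ∀ n : ℕ, 0 < n → IsUnit ((n : ℕ) : Γ(S, ⊤)))
    (qX : SymProd.fibPow f d ⟶ P) (pP : P ⟶ S) (hqX : SymProd.IsSymProd f d qX pP)
    (qZ : SymProd.fibPow g e ⟶ Q) (pQ : Q ⟶ S) (hqZ : SymProd.IsSymProd g e qZ pQ)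
    (ρ : ULift.{u} (Equiv.Perm (Fin d) × Equiv.Perm (Fin e)) →*
      Aut (pullback (WidePullback.base fun _ : Fin d => f) (WidePullback.base fun _ : Fin e => g)))
    (hρ : ∀ σ, (ρ σ).hom ≫ pullback.fst (WidePullback.base fun _ : Fin d => f) (WidePullback.base fun _ : Fin e => g) =
        pullback.fst (WidePullback.base fun _ : Fin d => f) (WidePullback.base fun _ : Fin e => g) ≫
          SymProd.permHom f d σ.down.1 ∧
      (ρ σ).hom ≫ pullback.snd (WidePullback.base fun _ : Fin d => f) (WidePullback.base fun _ : Fin e => g) =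
        pullback.snd (WidePullback.base fun _ : Fin d => f) (WidePullback.base fun _ : Fin e => g) ≫
          SymProd.permHom g e σ.down.2) :
    SGA1.IsQuot ρ (pullback.map (WidePullback.base fun _ : Fin d => f) (WidePullback.base fun _ : Fin e => g) pP pQ
      qX qZ (𝟙 S) ((Category.comp_id _).trans hqX.over.symm) ((Category.comp_id _).trans hqZ.over.symm)) := by
  let a := WidePullback.base (fun _ : Fin d => f)
  let b := WidePullback.base (fun _ : Fin e => g)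
  let T₁ := pullback a pQ
  let r₁ : pullback a b ⟶ T₁ := pullback.map a b a pQ (𝟙 _) qZ (𝟙 S)
    ((Category.comp_id _).trans (Category.id_comp _).symm) ((Category.comp_id _).trans hqZ.over.symm)
  let r₂ : T₁ ⟶ pullback pP pQ := pullback.map a pQ pP pQ qX (𝟙 Q) (𝟙 S)
    ((Category.comp_id _).trans hqX.over.symm) ((Category.comp_id pQ).trans (Category.id_comp pQ).symm)
  have hr₁f : r₁ ≫ pullback.fst a pQ = pullback.fst a b :=
    (pullback.lift_fst _ _ _).trans (Category.comp_id _)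
  have hr₁s : r₁ ≫ pullback.snd a pQ = pullback.snd a b ≫ qZ := pullback.lift_snd _ _ _
  have hr₂f : r₂ ≫ pullback.fst pP pQ = pullback.fst a pQ ≫ qX := pullback.lift_fst _ _ _
  have hr₂s : r₂ ≫ pullback.snd pP pQ = pullback.snd a pQ :=
    (pullback.lift_snd _ _ _).trans (Category.comp_id _)
  have hfac : pullback.map a b pP pQ qX qZ (𝟙 S) ((Category.comp_id _).trans hqX.over.symm)
      ((Category.comp_id _).trans hqZ.over.symm) = r₁ ≫ r₂ := by
    refine pullback.hom_ext ?_ ?_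
    · rw [Category.assoc, hr₂f, ← Category.assoc, hr₁f]
      exact pullback.lift_fst _ _ _
    · rw [Category.assoc, hr₂s, hr₁s]
      exact pullback.lift_snd _ _ _
  show SGA1.IsQuot ρ (pullback.map a b pP pQ qX qZ (𝟙 S) _ _)
  rw [hfac]
  have hpb : IsPullback (pullback.snd a b) r₁ qZ (pullback.snd a pQ) := by
    refine IsPullback.flip (IsPullback.of_right ?_ hr₁s (IsPullback.of_hasPullback a pQ))
    rw [hr₁f, hqZ.over]
    exact IsPullback.of_hasPullback a b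
  let i₁ : ULift.{u} (Equiv.Perm (Fin e)) →* ULift.{u} (Equiv.Perm (Fin d) × Equiv.Perm (Fin e)) :=
    { toFun := fun τ => ⟨(1, τ.down)⟩
      map_one' := rfl
      map_mul' := fun τ τ' => ULift.ext _ _ (Prod.ext (one_mul _).symm rfl) }
  let ρ₁ := ρ.comp i₁
  obtain ⟨ρ₂, hρ₂⟩ := S13393.exists_action f d pQ
  have hρ₁₁ : ∀ τ, (ρ₁ τ).hom ≫ r₁ = r₁ := fun τ => by
    refine pullback.hom_ext ?_ ?_
    · rw [Category.assoc, hr₁f]
      refine ((hρ (i₁ τ)).1).trans ?_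
      show pullback.fst a b ≫ SymProd.permHom f d 1 = _
      rw [SymProd.permHom_one, Category.comp_id]
    · rw [Category.assoc, hr₁s, ← Category.assoc]
      refine (congrArg (· ≫ qZ) (hρ (i₁ τ)).2).trans ?_
      rw [Category.assoc]
      exact congrArg (pullback.snd a b ≫ ·) (hqZ.isQuot.inv τ)
  have hq₁ : SGA1.IsQuot ρ₁ r₁ := by
    rcases h with ⟨hf, -⟩ | hn
    · haveI : Flat (pullback.snd a pQ) := MorphismProperty.pullback_snd _ _ (flat_base f hf d)
      exact SGA1Q.isQuot_baseChange hqZ.isQuot (pullback.snd a pQ) (pullback.snd a b) r₁ hpb ρ₁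
        (fun τ => by simpa [ρ₁, i₁] using (hρ (i₁ τ)).2) hρ₁₁
    · refine isQuot_baseChange_of_isUnit hqZ.isQuot (pullback.snd a pQ) ?_ (pullback.snd a b) r₁ hpb
        ρ₁ (fun τ => by simpa [ρ₁, i₁] using (hρ (i₁ τ)).2) hρ₁₁
      simpa using (hn _ (Nat.card_pos (α := ULift.{u} (Equiv.Perm (Fin e))))).map
        (pullback.snd a pQ ≫ pQ).appTop.hom
  have hq₂ : SGA1.IsQuot ρ₂ r₂ := by
    rcases h with ⟨hf, -⟩ | hn
    · exact isQuot_prod_of_flat f d hf qX pP hqX pQ ρ₂ hρ₂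
    · refine isQuot_baseChange_of_isUnit hqX.isQuot (pullback.fst pP pQ) ?_ (pullback.fst a pQ) r₂
        (S13393.isPullback_comparison a pP pQ qX hqX.over) ρ₂
        (fun σ => by simpa using (hρ₂ σ).1) fun σ => ?_
      · simpa using (hn _ (Nat.card_pos (α := ULift.{u} (Equiv.Perm (Fin d))))).map
          (pullback.snd pP pQ ≫ pQ).appTop.hom
      · refine pullback.hom_ext ?_ ?_
        · rw [Category.assoc, hr₂f, ← Category.assoc, (hρ₂ σ).1, Category.assoc]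
          exact congrArg (pullback.fst _ _ ≫ ·) (by simpa using hqX.isQuot.inv σ)
        · rw [Category.assoc, hr₂s, (hρ₂ σ).2]
  refine isQuot_comp ρ ρ₁ ρ₂ i₁ (fun σ => ⟨(σ.down, 1)⟩) (fun _ => rfl) hq₁ hq₂ (fun σ => ?_) fun σ => ?_
  · refine pullback.hom_ext ?_ ?_
    · rw [Category.assoc, hr₁f, Category.assoc, (hρ₂ σ).1, ← Category.assoc r₁, hr₁f]
      exact (hρ ⟨(σ.down, 1)⟩).1
    · rw [Category.assoc, hr₁s, Category.assoc, (hρ₂ σ).2, hr₁s, ← Category.assoc]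
      refine congrArg (· ≫ qZ) (((hρ ⟨(σ.down, 1)⟩).2).trans ?_)
      show pullback.snd a b ≫ SymProd.permHom g e 1 = _
      rw [SymProd.permHom_one, Category.comp_id]
  · rw [← hfac]
    refine pullback.hom_ext ?_ ?_
    · rw [Category.assoc, pullback.lift_fst]
      refine (Category.assoc _ _ _).symm.trans ?_
      refine (congrArg (· ≫ qX) (hρ σ).1).trans ?_
      rw [Category.assoc]
      exact congrArg (pullback.fst a b ≫ ·) (by simpa using hqX.isQuot.inv ⟨σ.down.1⟩)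
    · rw [Category.assoc, pullback.lift_snd]
      refine (Category.assoc _ _ _).symm.trans ?_
      refine (congrArg (· ≫ qZ) (hρ σ).2).trans ?_
      rw [Category.assoc]
      exact congrArg (pullback.snd a b ≫ ·) (by simpa using hqZ.isQuot.inv ⟨σ.down.2⟩)

end Groth.Agent.S13395
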