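import Groth.Statements.S1341
import Groth.Agent.CMOpen5.Open
import Groth.Agent.Triage.CMMor
import Groth.Agent.DimFormula.Codim

set_option autoImplicit false
universe u
open FlatMor

namespace Groth.Agent.S1341

open AlgebraicGeometry CategoryTheory Limits in
/-- Let f : X ⟶ S be flat and locally of finite presentation. Then the set of points of X at which f is
Cohen–Macaulay is open in X, and its intersection with every fibre of f is dense in that fibre. -/
theorem result {X S : Scheme.{u}} (f : X ⟶ S) [Flat f] [LocallyOfFinitePresentation f] :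
    IsOpen {x : ↑X | MoreMor.IsCMAt f x} ∧ ∀ s : S, Dense ((f.fiberι s) ⁻¹' {x : ↑X | MoreMor.IsCMAt f x}) := by
  refine ⟨CMOpen5.isOpen_isCMAt f, fun s => dense_iff_inter_open.2 fun O hO hne => ?_⟩
  haveI : IsLocallyNoetherian (f.fiber s) :=
    LocallyOfFiniteType.isLocallyNoetherian (f.fiberToSpecResidueField s)
  obtain ⟨w₀, hw₀⟩ := hne
  obtain ⟨w, hw, hmax, -⟩ := DimFormula.exists_maximal_cd_eq_codim w₀
  refine ⟨w, hw.mem_open hO hw₀, ?_⟩
  have hfw : f (f.fiberι s w) = s := FlatDvr.fiberι_apply_eq f w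
  show MoreMor.IsCMAt f (f.fiberι s w)
  rw [Triage.CMMor.isCMAt_iff_sm f (f.fiberι s w) s hfw]
  refine ⟨(FibFlat.sm_flat_iff f _ s hfw).2 (Flat.stalkMap f _),
    Triage.CMMor.isCM_of_equiv
      (Triage.CMMor.exists_equiv_fibre_stalk_aux f (f.fiberι s w) s hfw w rfl).some.symm ?_⟩
  refine LC.Canon.isCMLocal_of_dim_zero ?_
  rw [DimFormula.ringKrullDim_stalk, (DimFormula.codim_eq_zero_iff).2 hmax]

end Groth.Agent.S1341
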