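import Groth.Statements.S13422
import Groth.Agent.NeronA.EtalePoint

set_option autoImplicit false
universe u
open CategoryTheory AlgebraicGeometry
open NeronHD

namespace Groth.Agent.S13422

/-- Let S be a locally Noetherian scheme over a field of characteristic 0, S₀ ⊆ S a scheme-theoretically
dense open, and N a smooth S-scheme with the weak Néron mapping property for S₀ ⊆ S: for every étale
S-scheme U, restriction to S₀ is a bijection from S-morphisms U → N onto S₀-morphisms U|S₀ → N|S₀.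
Then N has the uniqueness half of the Néron mapping property: for every smooth S-scheme Z,
restriction of S-morphisms Z → N to S₀ is injective. (Case of schemes of a statement about algebraic
spaces.) -/
theorem result {k : Type u} [Field k] [CharZero k] {S : Scheme.{u}} (σ : S ⟶ Spec (CommRingCat.of k)) [IsLocallyNoetherian S] (S₀ : S.Opens) (hS₀ : CInt.IsSchematicallyDense S₀)
    (N : Over S) [Smooth N.hom]
    (hN : ∀ U : Over S, Etale U.hom → Function.Bijective (fun g : U ⟶ N => (Over.pullback S₀.ι).map g))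
    (Z : Over S) [Smooth Z.hom] :
    Function.Injective (fun g : Z ⟶ N => (Over.pullback S₀.ι).map g) := by
  intro f g hfg
  haveI : QuasiCompact S₀.ι := inferInstance
  have hZ₀ : CInt.IsSchematicallyDense (Z.hom ⁻¹ᵁ S₀) :=
    AlgSpDec.SchDenseFacts.preimage_of_flat_qc Z.hom S₀ hS₀
      (AlgSpDec.SchDenseFacts.isCompact_inf_of_quasiCompact S₀)
  have h0 : (Z.hom ⁻¹ᵁ S₀).ι ≫ f.left = (Z.hom ⁻¹ᵁ S₀).ι ≫ g.left := by
    have h := (Neron6.pullback_map_eq_iff S₀.ι f g).1 hfg
    let l : (Z.hom ⁻¹ᵁ S₀).toScheme ⟶ Limits.pullback Z.hom S₀.ι :=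
      Limits.pullback.lift (Z.hom ⁻¹ᵁ S₀).ι (Z.hom ∣_ S₀) (morphismRestrict_ι _ _).symm
    have hl : l ≫ Limits.pullback.fst Z.hom S₀.ι = (Z.hom ⁻¹ᵁ S₀).ι := Limits.pullback.lift_fst _ _ _
    rw [← hl, Category.assoc, Category.assoc, h]
  ext1
  refine Scheme.hom_ext_of_forall _ _ fun z => ?_
  by_contra hz
  let O : Z.left.Opens := ⨆ W : {W : Z.left.Opens // W.ι ≫ f.left = W.ι ≫ g.left}, W.1
  have hzO : z ∈ (O : Set Z.left)ᶜ := fun hO => by
    obtain ⟨W, hW⟩ := TopologicalSpace.Opens.mem_iSup.1 hO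
    exact hz ⟨W.1, hW, W.2⟩
  obtain ⟨S', e, s', h, he, hh, hD⟩ :=
    NeronA.EtalePoint.exists_etale_section_closed σ Z.hom O.isOpen.isClosed_compl hzO
  let a : Over.mk e ⟶ Z := Over.homMk h hh
  have ha : a ≫ f = a ≫ g := (hN (Over.mk e) he).1 (by
    show (Over.pullback S₀.ι).map _ = (Over.pullback S₀.ι).map _
    rw [Functor.map_comp, Functor.map_comp]
    exact congrArg _ hfg)
  have heq : f.left (h s') = g.left (h s') := by
    show (h ≫ f.left) s' = (h ≫ g.left) s'
    exact congrArg (fun m => m s') (congrArg CommaMorphism.left ha)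
  obtain ⟨W, hW, hWeq⟩ := NeronA.EtalePoint.exists_eq_nhd hZ₀ f.left g.left h0 (h s') heq
  exact hD (TopologicalSpace.Opens.mem_iSup.2 ⟨⟨W, hWeq⟩, hW⟩)

end Groth.Agent.S13422
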