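import Groth.Statements.S13423
import Groth.Agent.S1450
import Groth.Agent.WeilExt.Extend
import Groth.Agent.GrpSchLib.UnramifiedFibre
import Groth.Agent.UnramMisc.QFSmooth
import Groth.Agent.ProConsLib.Image
import Groth.Agent.FlatMisc.NowhereDense
import Mathlib

set_option autoImplicit false
universe u
open CategoryTheory AlgebraicGeometry
open NeronHD

namespace Groth.Agent.S13423

/-- Let S be a reduced, locally Noetherian scheme over a field of characteristic 0 whose local rings are
all geometrically unibranch, and let f : X → S be quasi-finite (locally of finite type,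
quasi-compact, with finite discrete fibres), separated and dominant, with X connected and nonempty,
such that every fibre X_s over the residue field k(s) is smooth. Then f is étale. (Case of schemes
of a statement about algebraic spaces.) -/
theorem result {k : Type u} [Field k] [CharZero k] {S : Scheme.{u}} (σ : S ⟶ Spec (CommRingCat.of k)) [IsLocallyNoetherian S] [IsReduced S]
    (hS : ∀ s : S, CAlg2.IsGeomUnibranch (S.presheaf.stalk s))
    {X : Scheme.{u}} (f : X ⟶ S) [LocallyOfFiniteType f] [QuasiCompact f] [LocallyQuasiFinite f] [IsSeparated f] [IsDominant f]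
    [ConnectedSpace X]
    (hfib : ∀ s : S, Smooth (Limits.pullback.snd f (S.fromSpecResidueField s))) :
    Etale f := by
  haveI : ∀ s : S, IsDomain (S.presheaf.stalk s) := fun s => by
    haveI : _root_.IsReduced (S.presheaf.stalk s) := inferInstance
    haveI : IsDomain (CAlg2.red (S.presheaf.stalk s)) := (hS s).1.1
    have hbot : nilradical (S.presheaf.stalk s) = ⊥ := nilradical_eq_zero _
    exact MulEquiv.isDomain _ ((RingEquiv.quotientBot (S.presheaf.stalk s)).symm.trans
      (Ideal.quotEquivOfEq hbot.symm)).toMulEquiv
  obtain ⟨x₀⟩ : Nonempty X := inferInstance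
  obtain ⟨W, hxW, hW, hst⟩ := WeilExt.exists_integral_component (fun s => (inferInstance : IsDomain (S.presheaf.stalk s))) (f x₀)
  have hclosed : IsClosed (W : Set S) := by
    refine ⟨isOpen_iff_forall_mem_open.2 fun p hp => ?_⟩
    obtain ⟨W', hpW', hW', -⟩ := WeilExt.exists_integral_component (fun s => (inferInstance : IsDomain (S.presheaf.stalk s))) p
    refine ⟨W', fun q hq hqW => hp ?_, W'.2, hpW'⟩
    haveI := hW'
    have h1 : W'.ι (genericPoint W'.toScheme) ⤳ q :=
      (genericPoint_specializes (α := W'.toScheme) ⟨q, hq⟩).map W'.ι.continuous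
    have h2 : W'.ι (genericPoint W'.toScheme) ⤳ p :=
      (genericPoint_specializes (α := W'.toScheme) ⟨p, hpW'⟩).map W'.ι.continuous
    exact hst _ _ (h1.mem_open W.2 hqW) h2
  have hpre : f ⁻¹' (W : Set S) = Set.univ :=
    IsClopen.eq_univ ⟨hclosed.preimage f.continuous, W.2.preimage f.continuous⟩ ⟨x₀, hxW⟩
  have hWu : (W : Set S) = Set.univ := by
    refine Set.eq_univ_of_univ_subset ?_
    rw [← f.denseRange.closure_eq]
    refine closure_minimal ?_ hclosed
    rintro _ ⟨x, rfl⟩
    exact (Set.eq_univ_iff_forall.1 hpre x)
  haveI := hW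
  haveI : IsIntegral S := by
    have e : W = ⊤ := TopologicalSpace.Opens.ext hWu
    subst e
    haveI : Nonempty S := ⟨f x₀⟩
    exact isIntegral_of_isOpenImmersion S.topIso.inv
  haveI : FormallyUnramified f := by
    refine GrpSchLib.formallyUnramified_of_fibres f fun s => ?_
    haveI : Smooth (f.fiberToSpecResidueField s) := hfib s
    haveI : LocallyQuasiFinite (f.fiberToSpecResidueField s) :=
      MorphismProperty.pullback_snd f (S.fromSpecResidueField s) ‹_›
    haveI := UnramMisc.etale_of_smooth_of_locallyQuasiFinite (f.fiberToSpecResidueField s)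
    infer_instance
  have hgen : genericPoint S ∈ Set.range f := by
    obtain ⟨x, -, hx⟩ := ProConsLib.exists_specializes_of_mem_closure_image_scheme
      (FlatMisc.NowhereDense.isProConstructible_of_isClosed (E := (Set.univ : Set X)) isClosed_univ) f
      (y := genericPoint S) (by rw [Set.image_univ, f.denseRange.closure_eq]; trivial)
    exact ⟨x, (hx.antisymm (genericPoint_specializes _)).eq⟩
  exact (Groth.Agent.S1450.result f hS hgen).1

end Groth.Agent.S13423
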