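import Groth.Statements.S13425
import Groth.Agent.UnramMisc.QFSmooth
import Groth.Agent.S4809
import Mathlib

set_option autoImplicit false
universe u
open CategoryTheory AlgebraicGeometry
open NeronHD

namespace Groth.Agent.S13425

/-- Let k be a characteristic-zero algebraically closed field and X, Y integral schemes, separated and
of finite type over k, with Y normal, and let f : X → Y be a dominant k-morphism which is injective
on k-rational points. Then f is an open immersion. (Case of schemes of a statement about algebraic
spaces.) -/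
theorem result {k : Type u} [Field k] [IsAlgClosed k] [CharZero k]
    {X Y : Scheme.{u}} (sX : X ⟶ Spec (CommRingCat.of k)) (sY : Y ⟶ Spec (CommRingCat.of k))
    [IsIntegral X] [IsIntegral Y] [IsSeparated sX] [IsSeparated sY]
    [LocallyOfFiniteType sX] [QuasiCompact sX] [LocallyOfFiniteType sY] [QuasiCompact sY]
    (hY : Pi1.IsNormalScheme Y)
    (f : X ⟶ Y) (hf : f ≫ sY = sX) [IsDominant f]
    (hinj : ∀ a b : Spec (CommRingCat.of k) ⟶ X, a ≫ sX = 𝟙 _ → b ≫ sX = 𝟙 _ → a ≫ f = b ≫ f → a = b) :
    IsOpenImmersion f := by
  haveI : LocallyOfFiniteType f := by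
    haveI : LocallyOfFiniteType (f ≫ sY) := by rw [hf]; infer_instance
    exact locallyOfFiniteType_of_comp f sY
  haveI : IsSeparated f := by
    haveI : IsSeparated (f ≫ sY) := by rw [hf]; infer_instance
    exact IsSeparated.of_comp f sY
  haveI : QuasiCompact f := by
    haveI : QuasiCompact (f ≫ sY) := by rw [hf]; infer_instance
    exact QuasiCompact.of_comp f sY
  haveI : JacobsonSpace X := LocallyOfFiniteType.jacobsonSpace sX
  haveI : IsLocallyNoetherian Y := LocallyOfFiniteType.isLocallyNoetherian sY
  haveI : LocallyOfFinitePresentation f := inferInstance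
  have hpt : ∀ a b : X, IsClosed {a} → IsClosed {b} → f a = f b → a = b := by
    intro a b ha hb hab
    have h := hinj (pointOfClosedPoint sX a ha) (pointOfClosedPoint sX b hb) (pointOfClosedPoint_comp _ _ _)
      (pointOfClosedPoint_comp _ _ _) (ext_of_apply_closedPoint_eq sY
        (by rw [Category.assoc, hf, pointOfClosedPoint_comp]) (by rw [Category.assoc, hf, pointOfClosedPoint_comp])
        (by rw [Scheme.Hom.comp_apply, Scheme.Hom.comp_apply, pointOfClosedPoint_apply,
          pointOfClosedPoint_apply, hab]))
    rw [← pointOfClosedPoint_apply sX a ha (IsLocalRing.closedPoint k), h, pointOfClosedPoint_apply]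
  haveI : LocallyQuasiFinite f := by
    rw [← Scheme.Hom.quasiFiniteLocus_eq_top_iff]
    by_contra hne
    have hne' : ((f.quasiFiniteLocus : Set X)ᶜ).Nonempty := by
      rw [Set.nonempty_compl]
      exact fun h => hne (TopologicalSpace.Opens.ext h)
    obtain ⟨x, hxn, hx⟩ := nonempty_inter_closedPoints hne' f.quasiFiniteLocus.isOpen.isClosed_compl.isLocallyClosed
    refine hxn (Scheme.Hom.mem_quasiFiniteLocus.2 ?_)
    rw [Scheme.Hom.quasiFiniteAt_iff_isOpen_singleton_asFiber]
    have hy : IsClosed ({f x} : Set Y) := by
      let p := pointOfClosedPoint sX x hx ≫ f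
      have hp : p ≫ sY = 𝟙 _ := by rw [Category.assoc, hf, pointOfClosedPoint_comp]
      have h2 := ((pointEquivClosedPoint sY) ⟨p, hp⟩).2
      have h3 : p (IsLocalRing.closedPoint k) = f x := by
        rw [Scheme.Hom.comp_apply, pointOfClosedPoint_apply]
      rw [← h3]
      exact h2
    have hC : f ⁻¹' {f x} ⊆ {x} := by
      intro z hz
      have hcl := hy.preimage f.continuous
      have h1 : f ⁻¹' {f x} ∩ closedPoints X ⊆ {x} := fun w hw => hpt w x hw.2 hx hw.1
      have h2 := closure_mono h1
      rw [JacobsonSpace.closure_inter_closedPoints_eq_closure hcl.isLocallyClosed, hcl.closure_eq,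
        hx.closure_eq] at h2
      exact h2 hz
    haveI : Subsingleton (f.fiber (f x)) := by
      haveI : Subsingleton ↥(f ⁻¹' {f x}) := ⟨fun a b => Subtype.ext ((hC a.2).trans (hC b.2).symm)⟩
      exact (f.fiberHomeo (f x)).toEquiv.subsingleton
    exact isOpen_discrete _
  have hgen : f (genericPoint X) = genericPoint Y :=
    by
    have h := (genericPoint_spec X).image f.continuous
    rw [Set.image_univ, f.denseRange.closure_eq] at h
    exact h.eq (genericPoint_spec Y)
  let W := f.smoothLocus
  have hξ : genericPoint X ∈ W := by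
    rw [Scheme.Hom.mem_smoothLocus]
    have := LocallyOfFiniteType.stalkMap f (genericPoint X)
    algebraize [(f.stalkMap (genericPoint X)).hom]
    have hfield : ∀ y : Y, y = genericPoint Y → IsField (Y.presheaf.stalk y) := by
      rintro _ rfl; exact Field.toIsField Y.functionField
    letI : Field (Y.presheaf.stalk (f (genericPoint X))) := (hfield _ hgen).toField
    letI : Field (X.presheaf.stalk (genericPoint X)) := inferInstanceAs (Field X.functionField)
    haveI : CharZero (Y.presheaf.stalk (f (genericPoint X))) := charZero_of_injective_ringHom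
      (Spec.preimage (Y.fromSpecStalk (f (genericPoint X)) ≫ sY)).hom.injective
    exact Algebra.FormallySmooth.of_perfectField
  haveI : Etale (W.ι ≫ f) := by
    haveI : Smooth (W.ι ≫ f) := by
      rw [← Scheme.Hom.smoothLocus_eq_top_iff, ← Scheme.Hom.preimage_smoothLocus_eq]
      exact Scheme.Opens.ι_preimage_self _
    exact UnramMisc.etale_of_smooth_of_locallyQuasiFinite _
  let g := W.ι ≫ f
  haveI : IsSeparated g := inferInstanceAs (IsSeparated (W.ι ≫ f))
  haveI : IsOpenImmersion g := by
    haveI : IsOpenImmersion (Limits.pullback.diagonal g) := inferInstance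
    haveI : IsIso (Limits.pullback.diagonal g) := by
      refine (isIso_iff_isOpenImmersion_and_surjective _).2 ⟨inferInstance, ⟨fun w => ?_⟩⟩
      by_contra hw
      let D : Set ↥(Limits.pullback g g) := (Set.range (Limits.pullback.diagonal g))ᶜ
      have hD : IsClosed D := (Limits.pullback.diagonal g).isOpenEmbedding.isOpen_range.isClosed_compl
      let sQ : Limits.pullback g g ⟶ Spec (CommRingCat.of k) := Limits.pullback.fst g g ≫ W.ι ≫ sX
      haveI : LocallyOfFiniteType sQ := inferInstanceAs (LocallyOfFiniteType (Limits.pullback.fst g g ≫ W.ι ≫ sX))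
      haveI : JacobsonSpace ↥(Limits.pullback g g) := LocallyOfFiniteType.jacobsonSpace sQ
      obtain ⟨q, hqD, hq⟩ := nonempty_inter_closedPoints (Z := D) ⟨w, fun ⟨v, hv⟩ => hw ⟨v, hv⟩⟩ hD.isLocallyClosed
      let P := pointOfClosedPoint sQ q hq
      have hP : P ≫ sQ = 𝟙 _ := pointOfClosedPoint_comp _ _ _
      have hg2 : Limits.pullback.snd g g ≫ W.ι ≫ sX = sQ := by
        show _ = Limits.pullback.fst g g ≫ W.ι ≫ sX
        rw [← hf, ← Category.assoc W.ι, show W.ι ≫ f = g from rfl,
          Limits.pullback.condition_assoc]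
      have h := hinj (P ≫ Limits.pullback.fst g g ≫ W.ι) (P ≫ Limits.pullback.snd g g ≫ W.ι)
        (by simpa only [Category.assoc] using hP) (by simp only [Category.assoc]; rw [hg2]; exact hP)
        (by simp only [Category.assoc]; rw [show W.ι ≫ f = g from rfl, Limits.pullback.condition])
      rw [← Category.assoc, ← Category.assoc P (Limits.pullback.snd g g), cancel_mono] at h
      have hd : P = (P ≫ Limits.pullback.fst g g) ≫ Limits.pullback.diagonal g := by
        apply Limits.pullback.hom_ext
        · simp
        · simp [h]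
      refine hqD ⟨(P ≫ Limits.pullback.fst g g) (IsLocalRing.closedPoint k), ?_⟩
      rw [← Scheme.Hom.comp_apply, ← hd, pointOfClosedPoint_apply]
    haveI : Mono g := Limits.pullback.isIso_diagonal_iff g |>.1 inferInstance
    exact IsOpenImmersion.of_flat_of_mono g
  have hbir : IsIso (f.stalkMap (genericPoint X)) := by
    let ξ : W.toScheme := ⟨genericPoint X, hξ⟩
    have h : IsIso ((W.ι ≫ f).stalkMap ξ) := inferInstanceAs (IsIso (g.stalkMap ξ))
    rw [Scheme.Hom.stalkMap_comp] at h
    haveI : IsIso (W.ι.stalkMap ξ) := inferInstance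
    exact @IsIso.of_isIso_comp_right _ _ _ _ _ (f.stalkMap (W.ι ξ)) (W.ι.stalkMap ξ) ‹_› h
  exact (Groth.Agent.S4809.result (fun y => (hY y).2) f hgen hbir).2 inferInstance

end Groth.Agent.S13425
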