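import Groth.Statements.S13428
import Groth.Agent.NeronA.EtaleDense
import Groth.Agent.NeronA.BiratTfae
import Groth.Agent.S5435

set_option autoImplicit false
universe u
open CategoryTheory AlgebraicGeometry
open NeronHD

namespace Groth.Agent.S13428

/-- Let S be a normal Noetherian scheme over a field of characteristic 0 and S₀ ⊆ S a
scheme-theoretically dense open. Let N be a smooth, separated and quasi-compact S-scheme with the
Néron mapping property for S₀ ⊆ S (restriction to S₀ of S-morphisms from smooth S-schemes is
bijective) such that N|S₀ → S₀ is étale, so that N is a quasi-projective Néron model of the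
quasi-projective étale S₀-scheme N|S₀. If M is a separated, quasi-compact, étale S-scheme and φ : M
→ N is an S-morphism restricting to an isomorphism over S₀ (so M is another quasi-projective étale
extension of N|S₀, and φ is its canonical map to the Néron model), then φ is an open immersion.
(Case of schemes of the published statement.) -/
theorem result {k : Type u} [Field k] [CharZero k] {S : Scheme.{u}} (σ : S ⟶ Spec (CommRingCat.of k)) [IsNoetherian S] (hS : Pi1.IsNormalScheme S) (S₀ : S.Opens) (hS₀ : CInt.IsSchematicallyDense S₀)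
    (N : Over S) [Smooth N.hom] [IsSeparated N.hom] [QuasiCompact N.hom]
    (hN : ∀ Z : Over S, Smooth Z.hom → Function.Bijective (fun g : Z ⟶ N => (Over.pullback S₀.ι).map g))
    [Etale ((Over.pullback S₀.ι).obj N).hom]
    (M : Over S) [Etale M.hom] [IsSeparated M.hom] [QuasiCompact M.hom]
    (φ : M ⟶ N) [IsIso ((Over.pullback S₀.ι).map φ)] :
    IsOpenImmersion φ.left := by
  haveI := σ
  haveI : IsLocallyNoetherian N.left := LocallyOfFiniteType.isLocallyNoetherian N.hom
  let i := S₀.ι
  let O : N.left.Opens := N.hom ⁻¹ᵁ S₀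
  have hO : CInt.IsSchematicallyDense O := SchDenseLib.preimage_of_isLocallyNoetherian N.hom S₀ hS₀
  have hOd : Dense (O : Set N.left) := dense_iff_inter_open.2 fun V hV hne =>
    S5435.dense_of_isSchematicallyDense hO ⟨V, hV⟩ hne
  let e : Limits.pullback N.hom i ≅ O.toScheme :=
    IsOpenImmersion.isoOfRangeEq (Limits.pullback.fst N.hom i) O.ι (by
      rw [IsOpenImmersion.range_pullbackFst, Scheme.Opens.range_ι, Scheme.Opens.opensRange_ι])
  have he : e.hom ≫ O.ι = Limits.pullback.fst N.hom i := IsOpenImmersion.isoOfRangeEq_hom_fac _ _ _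
  haveI : Etale N.hom := by
    haveI : Etale (O.ι ≫ N.hom) := by
      have h1 : e.hom ≫ O.ι ≫ N.hom = Limits.pullback.snd N.hom i ≫ i := by
        rw [reassoc_of% he, Limits.pullback.condition]
      haveI : Etale (Limits.pullback.snd N.hom i) := ‹Etale ((Over.pullback S₀.ι).obj N).hom›
      rw [← e.inv_hom_id_assoc (O.ι ≫ N.hom), h1]
      infer_instance
    exact NeronA.EtaleDense.etale_of_smooth_of_dense N.hom O hOd
  haveI : Etale φ.left := by
    haveI : Etale (φ.left ≫ N.hom) := by rw [Over.w φ]; infer_instance
    exact Etale.of_comp φ.left N.hom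
  haveI : IsIso (φ.left ∣_ O) := by
    let m := ((Over.pullback i).map φ).left
    haveI : IsIso m := inferInstanceAs (IsIso ((Over.forget _).map ((Over.pullback i).map φ)))
    have sq1 : IsPullback (Limits.pullback.fst M.hom i) (Limits.pullback.snd M.hom i) (φ.left ≫ N.hom) i := by
      rw [Over.w φ]
      exact IsPullback.of_hasPullback _ _
    have hm : m ≫ Limits.pullback.snd N.hom i = Limits.pullback.snd M.hom i := Limits.pullback.lift_snd _ _ _
    rw [← hm] at sq1
    have sq2 : IsPullback (Limits.pullback.fst M.hom i) m φ.left (Limits.pullback.fst N.hom i) :=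
      IsPullback.of_bot sq1 (Limits.pullback.lift_fst _ _ _).symm (IsPullback.of_hasPullback _ _)
    have sq3 : IsPullback (Limits.pullback.fst M.hom i) (m ≫ e.hom) φ.left O.ι :=
      sq2.of_iso (Iso.refl _) (Iso.refl _) e (Iso.refl _) (by simp) (by simp) (by simp) (by simp [he])
    have sq4 : IsPullback (φ.left ⁻¹ᵁ O).ι (φ.left ∣_ O) φ.left O.ι := (isPullback_morphismRestrict φ.left O).flip
    have : φ.left ∣_ O = (sq4.isoIsPullback _ _ sq3).hom ≫ m ≫ e.hom :=
      (IsPullback.isoIsPullback_hom_snd _ _ sq4 sq3).symm
    rw [this]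
    infer_instance
  haveI : IsLocallyNoetherian M.left := LocallyOfFiniteType.isLocallyNoetherian M.hom
  haveI : IsSeparated φ.left := by
    haveI : IsSeparated (φ.left ≫ N.hom) := by rw [Over.w φ]; infer_instance
    exact IsSeparated.of_comp φ.left N.hom
  have hd : CInt.IsSchematicallyDense (Limits.pullback.fst φ.left φ.left ⁻¹ᵁ (φ.left ⁻¹ᵁ O)) :=
    SchDenseLib.preimage_of_isLocallyNoetherian _ _ (SchDenseLib.preimage_of_isLocallyNoetherian φ.left O hO)
  have hfs : Limits.pullback.fst φ.left φ.left = Limits.pullback.snd φ.left φ.left := by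
    refine SchDenseLib.hom_ext hd φ.left _ _ Limits.pullback.condition ?_
    refine NeronA.BiratTfae.eq_of_comp_eq φ.left O ‹_› _ _ ?_ fun t => t.2
    simp only [Category.assoc]
    exact congrArg (_ ≫ ·) Limits.pullback.condition
  haveI : Mono φ.left := ⟨fun a b hab => by
    rw [← Limits.pullback.lift_fst a b hab, hfs, Limits.pullback.lift_snd]⟩
  exact IsOpenImmersion.of_flat_of_mono φ.left

end Groth.Agent.S13428
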