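import Groth.Statements.S13432
import Groth.Agent.NeronA.NormalSmooth
import Groth.Agent.S5435
import Groth.Agent.Neron6.Over
import Groth.Agent.SchDenseLib.Hom
import Groth.Agent.SchDenseLib.FlatNoeth

set_option autoImplicit false
universe u
open CategoryTheory AlgebraicGeometry
open NeronHD

namespace Groth.Agent.S13432

/-- Let S be a normal Noetherian scheme over a field of characteristic 0 and S₀ ⊆ S a
scheme-theoretically dense open. Let π : T → S be finite with T normal, and let N ⊆ T be the open
subscheme where π is smooth (equivalently étale, π being finite). Then N → S has the Néron mapping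
property for S₀ ⊆ S: for every smooth S-scheme Z, restriction to S₀ is a bijection from S-morphisms
Z → N onto S₀-morphisms Z|S₀ → N|S₀. (In the published statement T is the normal finite S-scheme
compactifying a given quasi-projective étale S-scheme and N is the maximal quasi-projective étale
scheme containing it; that origin of T plays no role in this part of the proof, so any finite T → S
with T normal is allowed here. Case of schemes, with smooth test schemes, of a statement about
algebraic spaces.) -/
theorem result {k : Type u} [Field k] [CharZero k] {S : Scheme.{u}} (σ : S ⟶ Spec (CommRingCat.of k)) [IsNoetherian S] (hS : Pi1.IsNormalScheme S) (S₀ : S.Opens) (hS₀ : CInt.IsSchematicallyDense S₀)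
    {T : Scheme.{u}} (π : T ⟶ S) [IsFinite π] [LocallyOfFinitePresentation π] (hT : Pi1.IsNormalScheme T) :
    ∀ Z : Over S, Smooth Z.hom → Function.Bijective (fun g : Z ⟶ Over.mk (π.smoothLocus.ι ≫ π) => (Over.pullback S₀.ι).map g) := by
  haveI := σ
  intro Z hZ
  let i := S₀.ι
  let N : Over S := Over.mk (π.smoothLocus.ι ≫ π)
  haveI : IsLocallyNoetherian Z.left := LocallyOfFiniteType.isLocallyNoetherian Z.hom
  let Z₀ : Z.left.Opens := Z.hom ⁻¹ᵁ S₀
  have hZ₀ : CInt.IsSchematicallyDense Z₀ := SchDenseLib.preimage_of_isLocallyNoetherian Z.hom S₀ hS₀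
  let l : Z₀.toScheme ⟶ Limits.pullback Z.hom i :=
    Limits.pullback.lift Z₀.ι (Z.hom ∣_ S₀) (morphismRestrict_ι _ _).symm
  have hl : l ≫ Limits.pullback.fst Z.hom i = Z₀.ι := Limits.pullback.lift_fst _ _ _
  constructor
  · intro f g hfg
    have h := (Neron6.pullback_map_eq_iff i f g).1 hfg
    haveI : IsSeparated N.hom := inferInstanceAs (IsSeparated (π.smoothLocus.ι ≫ π))
    apply Over.OverMorphism.ext
    refine SchDenseLib.hom_ext hZ₀ N.hom _ _ ((Over.w f).trans (Over.w g).symm) ?_
    rw [← hl, Category.assoc, Category.assoc, h]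
  · intro h
    let f : Z₀.toScheme ⟶ T := l ≫ h.left ≫ Limits.pullback.fst N.hom i ≫ π.smoothLocus.ι
    have hf : f ≫ π = Z₀.ι ≫ Z.hom := by
      have hw : h.left ≫ Limits.pullback.snd N.hom i = Limits.pullback.snd Z.hom i := Over.w h
      simp only [f, Category.assoc]
      show l ≫ h.left ≫ Limits.pullback.fst N.hom i ≫ N.hom = _
      rw [Limits.pullback.condition, reassoc_of% hw,
        ← Limits.pullback.condition, reassoc_of% hl]
    have hd : Dense (Z₀ : Set Z.left) := dense_iff_inter_open.2 fun V hV hne =>
      S5435.dense_of_isSchematicallyDense hZ₀ ⟨V, hV⟩ hne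
    obtain ⟨g, hg, hgf⟩ := NeronA.NormalSmooth.exists_extension
      (NeronA.NormalSmooth.isNormalScheme_of_smooth hS Z.hom) Z.hom π Z₀ hd f hf
    have hr : Set.range g ⊆ Set.range π.smoothLocus.ι := by
      rintro _ ⟨z, rfl⟩
      rw [Scheme.Opens.range_ι]
      exact NeronA.NormalSmooth.mem_smoothLocus hS Z.hom π hT g hg z
    let a : Z ⟶ N := Over.homMk (IsOpenImmersion.lift π.smoothLocus.ι g hr) (by
      show _ ≫ π.smoothLocus.ι ≫ π = _
      rw [IsOpenImmersion.lift_fac_assoc, hg])
    refine ⟨a, Neron6.pullback_hom_ext i _ _ ?_⟩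
    rw [Neron6.pullback_map_fst]
    haveI : IsIso l := by
      rw [show l = (IsOpenImmersion.isoOfRangeEq Z₀.ι (Limits.pullback.fst Z.hom i) (by
        rw [IsOpenImmersion.range_pullbackFst, Scheme.Opens.range_ι, Scheme.Opens.opensRange_ι])).hom from by
        rw [← cancel_mono (Limits.pullback.fst Z.hom i), hl, IsOpenImmersion.isoOfRangeEq_hom_fac]]
      infer_instance
    rw [← cancel_epi l, ← cancel_mono π.smoothLocus.ι, reassoc_of% hl]
    simp only [Category.assoc]
    rw [show a.left ≫ π.smoothLocus.ι = g from IsOpenImmersion.lift_fac _ _ _, hgf]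

end Groth.Agent.S13432
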