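import Groth.Statements.S13429
import Groth.Agent.NeronA.EtaleNormalization
import Groth.Agent.S13432
import Groth.Agent.UnramMisc.QFSmooth
import Groth.Agent.AlgSpLib.EtLocalInst

set_option autoImplicit false
universe u
open CategoryTheory AlgebraicGeometry
open NeronHD

namespace Groth.Agent.S13429

/-- Let S be a normal Noetherian scheme over a field of characteristic 0, S₀ ⊆ S a scheme-theoretically
dense open, and N₀ → S₀ separated, quasi-compact and étale (a quasi-projective étale S₀-scheme).
Then N₀ has a quasi-projective Néron model: there exist a separated, quasi-compact, étale S-scheme N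
and an isomorphism of S₀-schemes N|S₀ ≅ N₀ such that N has the Néron mapping property for S₀ ⊆ S,
i.e. for every smooth S-scheme Z restriction to S₀ is a bijection from S-morphisms Z → N onto
S₀-morphisms Z|S₀ → N|S₀ (this determines N up to unique isomorphism). (Case of schemes, with smooth
test schemes, of the published statement.) -/
theorem result {k : Type u} [Field k] [CharZero k] {S : Scheme.{u}} (σ : S ⟶ Spec (CommRingCat.of k)) [IsNoetherian S] (hS : Pi1.IsNormalScheme S) (S₀ : S.Opens) (hS₀ : CInt.IsSchematicallyDense S₀)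
    (N₀ : Over (S₀ : Scheme.{u})) [Etale N₀.hom] [IsSeparated N₀.hom] [QuasiCompact N₀.hom] :
    ∃ (N : Over S) (e : (Over.pullback S₀.ι).obj N ≅ N₀), Etale N.hom ∧ IsSeparated N.hom ∧ QuasiCompact N.hom ∧
      ∀ Z : Over S, Smooth Z.hom → Function.Bijective (fun g : Z ⟶ N => (Over.pullback S₀.ι).map g) := by
  let i := S₀.ι
  let p : N₀.left ⟶ S := N₀.hom ≫ i
  haveI : Etale p := inferInstanceAs (Etale (N₀.hom ≫ i))
  haveI : IsSeparated p := inferInstanceAs (IsSeparated (N₀.hom ≫ i))
  haveI : QuasiCompact p := inferInstanceAs (QuasiCompact (N₀.hom ≫ i))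
  haveI : LocallyQuasiFinite p := inferInstance
  haveI : IsLocallyNoetherian N₀.left := LocallyOfFiniteType.isLocallyNoetherian p
  let π := p.fromNormalization
  let j := p.toNormalization
  have hjπ : j ≫ π = p := p.toNormalization_fromNormalization
  haveI : IsFinite π := NeronA.EtaleNormalization.isFinite_fromNormalization p hS
  haveI : IsOpenImmersion j := inferInstanceAs (IsOpenImmersion p.toNormalization)
  haveI : IsLocallyNoetherian p.normalization := LocallyOfFiniteType.isLocallyNoetherian π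
  haveI : LocallyOfFinitePresentation π := inferInstance
  have hTn : Pi1.IsNormalScheme p.normalization :=
    NeronA.EtaleNormalization.isNormalScheme_normalization p (NeronA.NormalSmooth.isNormalScheme_of_smooth hS p)
  let O : p.normalization.Opens :=
    ⨆ V : {V : p.normalization.Opens // V ≤ π.smoothLocus ∧ V ⊓ π ⁻¹ᵁ S₀ ≤ j.opensRange}, V.1
  have hO : O ≤ π.smoothLocus := iSup_le fun V => V.2.1
  have hO₀ : ∀ t, t ∈ O → π t ∈ S₀ → t ∈ j.opensRange := fun t ht hts => by
    obtain ⟨V, hV⟩ := TopologicalSpace.Opens.mem_iSup.1 ht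
    exact V.2.2 ⟨hV, hts⟩
  have hjO : j.opensRange ≤ O := by
    refine le_iSup_of_le (f := fun V : {V : p.normalization.Opens // V ≤ π.smoothLocus ∧ V ⊓ π ⁻¹ᵁ S₀ ≤ j.opensRange} => V.1)
      ⟨j.opensRange, ?_, inf_le_left⟩ le_rfl
    rintro _ ⟨n, rfl⟩
    have hn : n ∈ (j ≫ π).smoothLocus := by
      haveI : Smooth (j ≫ π) := by rw [hjπ]; infer_instance
      exact (j ≫ π).smoothLocus_eq_top.ge trivial
    rw [← Scheme.Hom.preimage_smoothLocus_eq] at hn
    exact hn
  let N : Over S := Over.mk (O.ι ≫ π)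
  haveI : Smooth N.hom := by
    have heq : O.ι ≫ π = p.normalization.homOfLE hO ≫ π.smoothLocus.ι ≫ π := by rw [Scheme.homOfLE_ι_assoc]
    haveI : Smooth (π.smoothLocus.ι ≫ π) := by
      rw [← Scheme.Hom.smoothLocus_eq_top_iff, ← Scheme.Hom.preimage_smoothLocus_eq]
      exact Scheme.Opens.ι_preimage_self _
    show Smooth (O.ι ≫ π)
    rw [heq]
    infer_instance
  haveI : LocallyQuasiFinite N.hom := inferInstanceAs (LocallyQuasiFinite (O.ι ≫ π))
  haveI : Etale N.hom := UnramMisc.etale_of_smooth_of_locallyQuasiFinite N.hom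
  haveI : IsSeparated N.hom := inferInstanceAs (IsSeparated (O.ι ≫ π))
  haveI : QuasiCompact N.hom := inferInstanceAs (QuasiCompact (O.ι ≫ π))
  -- generic fibre
  let jO : N₀.left ⟶ O.toScheme := IsOpenImmersion.lift O.ι j (by
    rw [Scheme.Opens.range_ι]; rintro _ ⟨n, rfl⟩; exact hjO ⟨n, rfl⟩)
  have hjO' : jO ≫ O.ι = j := IsOpenImmersion.lift_fac _ _ _
  haveI : IsOpenImmersion jO := by
    haveI : IsOpenImmersion (jO ≫ O.ι) := by rw [hjO']; infer_instance
    exact IsOpenImmersion.of_comp jO O.ι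
  have hrange : Set.range (Limits.pullback.fst N.hom i) = Set.range jO := by
    rw [IsOpenImmersion.range_pullbackFst, Scheme.Opens.opensRange_ι]
    ext t
    constructor
    · intro ht
      obtain ⟨n, hn⟩ := hO₀ (O.ι t) t.2 ht
      exact ⟨n, O.ι.isOpenEmbedding.injective (by rw [← Scheme.Hom.comp_apply, hjO']; exact hn)⟩
    · rintro ⟨n, rfl⟩
      show (O.ι ≫ π) (jO n) ∈ S₀
      rw [← Scheme.Hom.comp_apply, ← Category.assoc, hjO', hjπ]
      exact (N₀.hom n).2
  let e₀ := IsOpenImmersion.isoOfRangeEq (Limits.pullback.fst N.hom i) jO hrange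
  have he₀ : e₀.hom ≫ jO = Limits.pullback.fst N.hom i := IsOpenImmersion.isoOfRangeEq_hom_fac _ _ _
  let e : (Over.pullback i).obj N ≅ N₀ := Over.isoMk e₀ (by
    show e₀.hom ≫ N₀.hom = Limits.pullback.snd N.hom i
    rw [← cancel_mono i, Category.assoc, show N₀.hom ≫ i = jO ≫ N.hom from by
      show p = jO ≫ O.ι ≫ π
      rw [reassoc_of% hjO', hjπ], reassoc_of% he₀, Limits.pullback.condition])
  refine ⟨N, e, inferInstance, inferInstance, inferInstance, fun Z hZ => ⟨fun f g hfg => ?_, fun h => ?_⟩⟩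
  · haveI : IsLocallyNoetherian Z.left := LocallyOfFiniteType.isLocallyNoetherian Z.hom
    have hfg' := (Neron6.pullback_map_eq_iff i f g).1 hfg
    have hZ₀ : CInt.IsSchematicallyDense (Z.hom ⁻¹ᵁ S₀) :=
      SchDenseLib.preimage_of_isLocallyNoetherian Z.hom S₀ hS₀
    apply Over.OverMorphism.ext
    refine SchDenseLib.hom_ext hZ₀ N.hom _ _ ((Over.w f).trans (Over.w g).symm) ?_
    let l : (Z.hom ⁻¹ᵁ S₀).toScheme ⟶ Limits.pullback Z.hom i :=
      Limits.pullback.lift (Z.hom ⁻¹ᵁ S₀).ι (Z.hom ∣_ S₀) (morphismRestrict_ι _ _).symm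
    rw [← Limits.pullback.lift_fst (f := Z.hom) (g := i) (Z.hom ⁻¹ᵁ S₀).ι (Z.hom ∣_ S₀)
      (morphismRestrict_ι _ _).symm, Category.assoc, Category.assoc, hfg']
  · let N' : Over S := Over.mk (π.smoothLocus.ι ≫ π)
    let a : N ⟶ N' := Over.homMk (p.normalization.homOfLE hO) (Scheme.homOfLE_ι_assoc _ hO π)
    obtain ⟨g', hg'⟩ := (Groth.Agent.S13432.result σ hS S₀ hS₀ π hTn Z hZ).2 (h ≫ (Over.pullback i).map a)
    change (Over.pullback i).map g' = _ at hg'
    let gT : Z.left ⟶ p.normalization := g'.left ≫ π.smoothLocus.ι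
    have hgT : gT ≫ π = Z.hom := by rw [Category.assoc]; exact Over.w g'
    have hfst : Limits.pullback.fst Z.hom i ≫ gT = h.left ≫ Limits.pullback.fst N.hom i ≫ O.ι := by
      have h1 := congrArg (fun q => q.left ≫ Limits.pullback.fst N'.hom i ≫ π.smoothLocus.ι) hg'
      simp only [Over.comp_left, Category.assoc] at h1
      erw [reassoc_of% (Neron6.pullback_map_fst i g')] at h1
      erw [reassoc_of% (Neron6.pullback_map_fst i a)] at h1
      simp only [gT]
      refine h1.trans ?_
      rw [show a.left ≫ π.smoothLocus.ι = O.ι from Scheme.homOfLE_ι _ hO]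
    have hop : IsOpen (Set.range gT) := by
      haveI : LocallyQuasiFinite N'.hom := inferInstanceAs (LocallyQuasiFinite (π.smoothLocus.ι ≫ π))
      haveI : Smooth N'.hom := by
        show Smooth (π.smoothLocus.ι ≫ π)
        rw [← Scheme.Hom.smoothLocus_eq_top_iff, ← Scheme.Hom.preimage_smoothLocus_eq]
        exact Scheme.Opens.ι_preimage_self _
      haveI : Etale N'.hom := UnramMisc.etale_of_smooth_of_locallyQuasiFinite N'.hom
      let γ : Z.left ⟶ Limits.pullback Z.hom N'.hom :=
        Limits.pullback.lift (𝟙 _) g'.left (by rw [Category.id_comp]; exact (Over.w g').symm)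
      haveI : Etale γ := by
        haveI : Etale (γ ≫ Limits.pullback.fst Z.hom N'.hom) := by
          rw [Limits.pullback.lift_fst]; infer_instance
        exact Etale.of_comp γ (Limits.pullback.fst Z.hom N'.hom)
      haveI : Smooth g'.left := by
        rw [← Limits.pullback.lift_snd (f := Z.hom) (g := N'.hom) (𝟙 Z.left) g'.left
          (by rw [Category.id_comp]; exact (Over.w g').symm)]
        exact MorphismProperty.comp_mem _ γ (Limits.pullback.snd Z.hom N'.hom) inferInstance inferInstance
      have : IsOpenMap gT := π.smoothLocus.ι.isOpenEmbedding.isOpenMap.comp g'.left.isOpenMap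
      exact this.isOpen_range
    have hr : Set.range gT ⊆ Set.range O.ι := by
      rw [Scheme.Opens.range_ι]
      have hV : (⟨Set.range gT, hop⟩ : p.normalization.Opens) ≤ O := by
        refine le_iSup_of_le (f := fun V : {V : p.normalization.Opens // V ≤ π.smoothLocus ∧ V ⊓ π ⁻¹ᵁ S₀ ≤ j.opensRange} => V.1)
          ⟨_, ?_, ?_⟩ le_rfl
        · rintro _ ⟨z, rfl⟩; exact (g'.left z).2
        · rintro _ ⟨⟨z, rfl⟩, hz⟩
          have hz' : Z.hom z ∈ S₀ := by rw [← hgT]; exact hz
          obtain ⟨w, hw⟩ : z ∈ Set.range (Limits.pullback.fst Z.hom i) := by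
            rw [IsOpenImmersion.range_pullbackFst, Scheme.Opens.opensRange_ι]; exact hz'
          have h2 : gT z = (h.left ≫ Limits.pullback.fst N.hom i ≫ O.ι) w := by
            rw [← hfst, ← hw]
            rfl
          rw [h2]
          refine hO₀ _ (Limits.pullback.fst N.hom i (h.left w)).2 ?_
          rw [← h2]; exact hz
      exact hV
    let g : Z ⟶ N := Over.homMk (IsOpenImmersion.lift O.ι gT hr) (by
      show _ ≫ O.ι ≫ π = _
      rw [IsOpenImmersion.lift_fac_assoc, hgT])
    refine ⟨g, Neron6.pullback_hom_ext i _ _ ?_⟩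
    rw [Neron6.pullback_map_fst, ← cancel_mono O.ι, Category.assoc, Category.assoc,
      show g.left ≫ O.ι = gT from IsOpenImmersion.lift_fac _ _ _, hfst]

end Groth.Agent.S13429
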