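import Groth.Statements.S1343
import Groth.Agent.CMOpen5.Affine
import Groth.Agent.FibDim.Comp
import Groth.Agent.FlatFibres.AffineDim
import Groth.Agent.FlatLocus.Basic
import Groth.Agent.S12442
import Groth.Agent.StalkLoc7.Basic

set_option autoImplicit false
universe u
open FlatMor

namespace Groth.Agent.S1343

open AlgebraicGeometry CategoryTheory Limits in
/-- (1) ⇔ (3): let f be flat and locally of finite presentation and let x be a point whose fibre has
local dimension d at x. Then f is Cohen–Macaulay at x if and only if some open neighbourhood of x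
admits a flat, locally quasi-finite morphism to affine d-space over the base, compatible with the
structure morphisms. -/
theorem result {X S : Scheme.{u}} (f : X ⟶ S) [Flat f] [LocallyOfFinitePresentation f]
    (x : X) (d : ℕ) (hd : FlatMor.fibreDimAt f x = d) :
    MoreMor.IsCMAt f x ↔ ∃ (U : X.Opens) (g : (U : Scheme.{u}) ⟶ 𝔸(ULift.{u} (Fin d); S)), x ∈ U ∧
      g ≫ (𝔸(ULift.{u} (Fin d); S) ↘ S) = U.ι ≫ f ∧ Flat g ∧ LocallyQuasiFinite g := by
  haveI : LocallyOfFiniteType f := inferInstance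
  constructor
  · intro h
    obtain ⟨n, U, hx, g, hg, hqf, hflat⟩ := (CMOpen5.isCMAt_iff f x).1 h
    haveI : LocallyOfFinitePresentation (g ≫ (𝔸(ULift.{u} (Fin n); S) ↘ S)) := by
      rw [hg]; infer_instance
    haveI : LocallyOfFinitePresentation g :=
      S12442.locallyOfFinitePresentation_of_comp g (𝔸(ULift.{u} (Fin n); S) ↘ S)
    haveI : LocallyQuasiFinite g := hqf
    haveI : LocallyOfFiniteType g := inferInstance
    have hn : FlatMor.fibreDimAt (g ≫ (𝔸(ULift.{u} (Fin n); S) ↘ S)) ⟨x, hx⟩ = (n : WithBot ℕ∞) := by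
      exact FlatFibres.fibreDimAt_of_flat_lqf g _ hflat
    rw [hg] at hn
    replace hn : FlatMor.fibreDimAt f x = (n : WithBot ℕ∞) :=
      (FibDim.fibreDimAt_openImmersion_comp U.ι f ⟨x, hx⟩).symm.trans hn
    have hdn : d = n := by
      have h' := hd.symm.trans hn
      exact_mod_cast h'
    subst hdn
    obtain ⟨V, hV⟩ : ∃ V : U.toScheme.Opens, (V : Set U.toScheme) = {z | (g.stalkMap z).hom.Flat} :=
      ⟨⟨_, FlatLocus.isOpen_flat_locus g⟩, rfl⟩
    refine ⟨U.ι ''ᵁ V, ((U.ι.isoImage V).inv ≫ V.ι ≫ g), ⟨⟨x, hx⟩, hV.ge hflat, rfl⟩, ?_, ?_, ?_⟩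
    · rw [Category.assoc, Category.assoc, hg, ← Category.assoc, ← Category.assoc, Category.assoc _ V.ι,
        Scheme.Hom.isoImage_inv_ι]
    · haveI : Flat (V.ι ≫ g) := by
        refine (Flat.iff_flat_stalkMap _).2 fun z => ?_
        exact (StalkLoc7.stalkMap_flat_openImmersion_comp g V z).1 (hV.le z.2)
      infer_instance
    · infer_instance
  · rintro ⟨U, g, hx, hg, hfl, hqf⟩
    exact (CMOpen5.isCMAt_iff f x).2 ⟨d, U, hx, g, hg, hqf, Flat.stalkMap g _⟩

end Groth.Agent.S1343
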