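import Groth.Statements.S13430
import Groth.Agent.NeronA.TorsorConverse

set_option autoImplicit false
universe u
open CategoryTheory MonoidalCategory CartesianMonoidalCategory MonObj GrpObj AlgebraicGeometry
open NeronHD

namespace Groth.Agent.S13430

/-- The implication ⇐: let S be a locally Noetherian scheme over a field of characteristic 0 and S₀ ⊆ S
a scheme-theoretically dense open. Let G be a smooth group scheme over S and N a smooth S-scheme,
both with the Néron mapping property for S₀ ⊆ S (restriction to S₀ of S-morphisms from smooth
S-schemes is bijective), and let a be an action of G on N over S whose translation map G ×_S N → N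
×_S N, (g, x) ↦ (g·x, x), restricts to an isomorphism over S₀, so that N|S₀ is a pseudo-torsor under
G|S₀ and a is the unique extension of that action. If N → S is surjective, then the translation map
is an isomorphism: N is a pseudo-torsor under G over all of S (and then a torsor for the étale
topology, N → S being smooth and surjective). (Case of schemes of a statement about group algebraic
spaces; the converse 'torsor ⇒ surjective' presumes local triviality.) -/
theorem result {k : Type u} [Field k] [CharZero k] {S : Scheme.{u}} (σ : S ⟶ Spec (CommRingCat.of k)) [IsLocallyNoetherian S] (S₀ : S.Opens) (hS₀ : CInt.IsSchematicallyDense S₀)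
    (G : Over S) [GrpObj G] [Smooth G.hom]
    (hG : ∀ Z : Over S, Smooth Z.hom → Function.Bijective (fun g : Z ⟶ G => (Over.pullback S₀.ι).map g))
    (N : Over S) [Smooth N.hom] [Surjective N.hom]
    (hN : ∀ Z : Over S, Smooth Z.hom → Function.Bijective (fun g : Z ⟶ N => (Over.pullback S₀.ι).map g))
    (a : AlgGrp.Action G N)
    (h0 : IsIso ((Over.pullback S₀.ι).map (lift a.act (snd G N)))) :
    NonAbH1.IsPseudoTorsorSch a := by
  have hθ : ((Over.pullback S₀.ι).map (lift a.act (snd G N))).left =
      ((lift a.act (snd G N)) ▷ Over.mk S₀.ι).left := by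
    apply Limits.pullback.hom_ext
    · refine (Limits.pullback.lift_fst _ _ _).trans (Eq.symm ?_)
      exact congrArg CommaMorphism.left (whiskerRight_fst (lift a.act (snd G N)) (Over.mk S₀.ι))
    · refine (Limits.pullback.lift_snd _ _ _).trans (Eq.symm ?_)
      exact congrArg CommaMorphism.left (whiskerRight_snd (lift a.act (snd G N)) (Over.mk S₀.ι))
  let w := inv ((Over.pullback S₀.ι).map (lift a.act (snd G N)))
  have hw : w.left ≫ Limits.pullback.snd (G ⊗ N).hom S₀.ι = Limits.pullback.snd (N ⊗ N).hom S₀.ι := Over.w w
  let i : (N ⊗ N) ⊗ Over.mk S₀.ι ⟶ (G ⊗ N) ⊗ Over.mk S₀.ι := Over.homMk w.left (by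
    show w.left ≫ Limits.pullback.fst _ _ ≫ _ = Limits.pullback.fst _ _ ≫ _
    rw [Limits.pullback.condition, reassoc_of% hw, Limits.pullback.condition])
  refine Groth.Agent.NeronA.TorsorConverse.isPseudoTorsor
    (fun Y hY => (Groth.Agent.NMP.bijective_pullback_map_iff _ _ _).1 (hG Y hY))
    (fun Y hY => (Groth.Agent.NMP.bijective_pullback_map_iff _ _ _).1 (hN Y hY)) i ?_ ?_
  · apply Over.OverMorphism.ext
    refine (congrArg (w.left ≫ ·) hθ.symm).trans ?_
    exact congrArg CommaMorphism.left (IsIso.inv_hom_id ((Over.pullback S₀.ι).map (lift a.act (snd G N))))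
  · apply Over.OverMorphism.ext
    refine (congrArg (· ≫ w.left) hθ.symm).trans ?_
    exact congrArg CommaMorphism.left (IsIso.hom_inv_id ((Over.pullback S₀.ι).map (lift a.act (snd G N))))

end Groth.Agent.S13430
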