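import Groth.Statements.S1344
import Groth.Agent.CMOpen5.Affine
import Groth.Agent.FlatFibres.AffineDim
import Groth.Agent.FlatLocus.Basic
import Groth.Agent.S12442
import Groth.Agent.S10249
import Groth.Agent.FibDim.RelDim

set_option autoImplicit false
universe u
open FlatMor

namespace Groth.Agent.S1344

open AlgebraicGeometry CategoryTheory Limits in
/-- Let f be locally of finite type between locally Noetherian schemes and Cohen–Macaulay at every
point. Then for every point x of the source with image y, the local dimension of the source at x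
equals the local dimension of the target at y plus the local dimension at x of the fibre over y. -/
theorem result {X Y : Scheme.{u}} (f : X ⟶ Y) [IsLocallyNoetherian X] [IsLocallyNoetherian Y] [LocallyOfFiniteType f]
    (hf : ∀ x : X, MoreMor.IsCMAt f x) (x : X) :
    FlatMor.localDim ↑X x = FlatMor.localDim ↑Y (f x) + FlatMor.fibreDimAt f x := by
  haveI : LocallyOfFinitePresentation f := LocallyOfFinitePresentation.iff_locallyOfFiniteType.2 ‹_›
  obtain ⟨n, U, hx, g, hg, hqf, hflat⟩ := (CMOpen5.isCMAt_iff f x).1 (hf x)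
  haveI : LocallyQuasiFinite g := hqf
  haveI : LocallyOfFiniteType (g ≫ (𝔸(ULift.{u} (Fin n); Y) ↘ Y)) := by rw [hg]; infer_instance
  haveI : LocallyOfFiniteType g := locallyOfFiniteType_of_comp g (𝔸(ULift.{u} (Fin n); Y) ↘ Y)
  haveI : LocallyOfFinitePresentation (g ≫ (𝔸(ULift.{u} (Fin n); Y) ↘ Y)) := by rw [hg]; infer_instance
  haveI : LocallyOfFinitePresentation g :=
    S12442.locallyOfFinitePresentation_of_comp g (𝔸(ULift.{u} (Fin n); Y) ↘ Y)
  let V : U.toScheme.Opens := ⟨{z | (g.stalkMap z).hom.Flat}, FlatLocus.isOpen_flat_locus g⟩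
  let h := V.ι ≫ g ≫ (𝔸(ULift.{u} (Fin n); Y) ↘ Y)
  have hh : h = (V.ι ≫ U.ι) ≫ f := by simp only [h, hg, Category.assoc]
  have hd : ∀ z, FlatMor.fibreDimAt h z = (n : WithBot ℕ∞) := fun z =>
    (FibDim.fibreDimAt_openImmersion_comp V.ι _ z).trans (FlatFibres.fibreDimAt_of_flat_lqf g _ z.2)
  haveI : Flat f := (Flat.iff_flat_stalkMap _).2 fun z => (hf z).1
  haveI : Flat h := by rw [hh]; infer_instance
  haveI : LocallyOfFiniteType h := by rw [hh]; infer_instance
  have hrel : Cyc.HasRelDim h n := (CycLib.hasRelDim_iff h).2 fun z hz => by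
    have := (hd z).symm.trans (FibDim.fibreDimAt_eq_rd h hz)
    exact_mod_cast this.symm
  haveI : IsLocallyNoetherian (V : Scheme.{u}) := isLocallyNoetherian_of_isOpenImmersion (V.ι ≫ U.ι)
  let z : (V : Scheme.{u}) := ⟨⟨x, hx⟩, hflat⟩
  have hz : (V.ι ≫ U.ι) z = x := rfl
  have e1 := FibDim.localDim_eq_add h hrel z
  have e2 : FlatMor.fibreDimAt f x = (n : WithBot ℕ∞) := by
    rw [← hz, ← FibDim.fibreDimAt_openImmersion_comp (V.ι ≫ U.ι) f z, ← hh]
    exact hd z
  rw [e2, ← hz, ← S10249.localDim_eq (V.ι ≫ U.ι) z, e1, hh]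
  rfl

end Groth.Agent.S1344
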