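import Groth.Statements.S13459
import Groth.Agent.SurfInt.Curve
import Groth.Agent.GrpSchLib.SmoothRegular
-- import your own Groth.Agent.* helpers here

set_option autoImplicit false
attribute [-instance] CategoryTheory.catToReflQuiver
universe u
open CategoryTheory CategoryTheory.Limits AlgebraicGeometry
open Surf

namespace Groth.Agent.S13459

/-- Let k be a field and S an integral surface (dimension two) which is smooth over k and projective (a
closed immersion into some P^n_k over k). Let i : C → S be the closed immersion of an integral curve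
(dimension one) all of whose local rings are regular, with ideal sheaf I ⊆ O_S, and let L be an
invertible O_S-module with an inverse L' (L ⊗ L' ≅ O_S). Then the intersection number of O_S(C) with
L, namely the alternating sum χ(O_S) − χ(I) − χ(L') + χ(I ⊗ L') formed with the inverses I = O_S(−C)
and L' (packaged as FGA.intNum), equals the degree of the restriction of L to C, the degree of a
module M on C being χ(M) − χ(O_C). -/
theorem result (k : Type u) [Field k] (S : Scheme.{u}) [S.Over (Spec (CommRingCat.of k))]
    [IsIntegral S] (hdim : topologicalKrullDim S = 2) [Smooth (S ↘ (Spec (CommRingCat.of k)))]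
    (hproj : ∃ (n : ℕ) (ι : S ⟶ CohB1.ProjSpace n k), IsClosedImmersion ι ∧ ι ≫ CohB1.ProjSpace.toSpec n k = (S ↘ (Spec (CommRingCat.of k))))
    (C : Scheme.{u}) (i : C ⟶ S) [IsClosedImmersion i] [IsIntegral C] (hC : topologicalKrullDim C = 1)
    (hCreg : ∀ c : C, IsRegularLocalRing (C.presheaf.stalk c))
    (L L' : S.Modules) (hL : PicF.IsInvertible L) (hLL' : Nonempty (CohB1.tensorMod L L' ≅ Coh.structureModule S)) :
    letI : C.Over (Spec (CommRingCat.of k)) := ⟨i ≫ (S ↘ (Spec (CommRingCat.of k)))⟩
    FGA.intNum k S 2 ![ClSub.idealMod i.ker, L'] (Coh.structureModule S) =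
      Curv2.deg k C ((Scheme.Modules.pullback i).obj L) 1 := by
  haveI : IsProper (S ↘ Spec (CommRingCat.of k)) :=
    SurfInt.isProper_of_projective k hproj.choose_spec.choose_spec.1 hproj.choose_spec.choose_spec.2
  letI : C.Over (Spec (CommRingCat.of k)) := ⟨i ≫ (S ↘ (Spec (CommRingCat.of k)))⟩
  haveI := CurveCohLib.isNoetherian_of_proper (k := k) (X := S)
  haveI := SurfInt.isIntegral_ker i
  have hI : BlowUp.IsEffCartierIdeal i.ker :=
    SurfInt.isEffCartier_curve k hdim (fun x => GrpSchLib.isRegularLocalRing_stalk_of_smooth (S ↘ Spec (CommRingCat.of k)) x)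
      i.ker (by rw [SurfInt.dim_support_ker]; exact hC)
  obtain ⟨e⟩ := hLL'
  have hL' := SurfInt.isInvertible_of_tensor_iso hL e
  obtain ⟨q⟩ := SurfInt.nonempty_quotMod_ker i
  rw [SurfInt.intNum_eq_pair k hdim.le (SurfInt.isInvertible_idealMod hI) hL',
    SurfInt.pair_ideal_inverse k hdim.le hI hL hL' e]
  unfold SurfInt.curveDeg Curv2.deg
  rw [SurfInt.euler_congr k (SurfInt.tMapL q L), SurfInt.euler_congr k q,
    SurfInt.euler_quot_tensor k i rfl (AmpleVan.isCoh_invertible hL).1,
    SurfInt.euler_push k i rfl QCoh.isQCoh_structureModule]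
  simp

end Groth.Agent.S13459
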