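import Groth.Statements.S13469
import Groth.Agent.GrpLike79.Char
import Mathlib.GroupTheory.FiniteAbelian.Basic
import Mathlib.GroupTheory.Index

set_option autoImplicit false
universe u
open GmDual

namespace Groth.Agent.S13469

open CategoryTheory AlgebraicGeometry MonObj

open CategoryTheory AlgebraicGeometry MonObj in
/-- Let k be a field and i : H → G a homomorphism of affine commutative k-group schemes of finite type
which is a closed immersion. Then the restriction map Ĝ(k) → Ĥ(k) on characters defined over k
(morphisms of abelian sheaves on the big fppf site of Spec k from the sheaf of points to the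
multiplicative group, restricted along i) has finite cokernel: its image is a subgroup of finite
index. -/
theorem result (k : Type u) [Field k]
    (H G : Over (Spec (CommRingCat.of k))) [GrpObj H] [IsCommMonObj H] [GrpObj G] [IsCommMonObj G]
    [IsAffine H.left] [LocallyOfFiniteType H.hom] [IsAffine G.left] [LocallyOfFiniteType G.hom]
    (i : H ⟶ G) [IsMonHom i] [IsClosedImmersion i.left] :
    (Preadditive.leftComp (CGrpSh2.Gm Scheme.fppfPrecoverage (Spec (CommRingCat.of k)))
      (CGrpSh.ptsMap Scheme.fppfPrecoverage i)).range.FiniteIndex := by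
  obtain ⟨A, _, _, eG, _, _, _, _⟩ := Groth.Agent.GrpLike79.exists_hopf_finiteType G
  obtain ⟨B, _, _, eH, _, _, _, _⟩ := Groth.Agent.GrpLike79.exists_hopf_finiteType H
  have : IsMonHom (inv eG) := inferInstanceAs (IsMonHom (asIso eG).inv)
  obtain ⟨π, hπ⟩ := Groth.Agent.GrpSchLib.AffineHopf.exists_bialgHom (eH ≫ i ≫ inv eG)
  have : IsIso eH.left := inferInstanceAs (IsIso ((Over.forget _).map eH))
  have : IsIso (inv eG).left := inferInstanceAs (IsIso ((Over.forget _).map (inv eG)))
  have hsurj : Function.Surjective π := by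
    refine Groth.Agent.GrpSchLib.AffineHopf.surjective_of_isClosedImmersion (π : A →ₐ[k] B) ?_
    rw [← hπ, Over.comp_left, Over.comp_left]
    infer_instance
  let T := CGrpSh.pts Scheme.fppfPrecoverage H ⟶ CGrpSh2.Gm Scheme.fppfPrecoverage (Spec (CommRingCat.of k))
  let R := (Preadditive.leftComp (CGrpSh2.Gm Scheme.fppfPrecoverage (Spec (CommRingCat.of k)))
      (CGrpSh.ptsMap Scheme.fppfPrecoverage i)).range
  have : Group.FG (GroupLike k B) := Groth.Agent.GrpLike79.groupLike_fg_of_field
  have : AddGroup.FG T := AddGroup.fg_of_surjective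
    (f := (AddEquiv.ofBijective _ (Groth.Agent.GrpLike79.charHom_bijective eH)).symm.toAddMonoidHom)
    (AddEquiv.ofBijective _ (Groth.Agent.GrpLike79.charHom_bijective eH)).symm.surjective
  have htor : AddMonoid.IsTorsion (T ⧸ R) := by
    intro z
    obtain ⟨χ, rfl⟩ := QuotientAddGroup.mk_surjective z
    obtain ⟨n, hn, a, ha⟩ := Groth.Agent.GrpLike79.exists_pow_lift π hsurj
      (Additive.toMul (Groth.Agent.GrpLike79.charHom eH χ))
    obtain ⟨ψ, hψ⟩ := (Groth.Agent.GrpLike79.charHom_bijective eG).2 (Additive.ofMul a)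
    refine isOfFinAddOrder_iff_nsmul_eq_zero.2 ⟨n, hn, ?_⟩
    rw [← QuotientAddGroup.mk_nsmul, QuotientAddGroup.eq_zero_iff]
    refine ⟨ψ, (Groth.Agent.GrpLike79.charHom_bijective eH).1 ?_⟩
    rw [map_nsmul]
    refine congrArg Additive.ofMul (GroupLike.val_injective ?_)
    show (Additive.toMul (Groth.Agent.GrpLike79.charHom eH (CGrpSh.ptsMap _ i ≫ ψ))).val = _
    rw [Groth.Agent.GrpLike79.charHom_restrict eG eH i π hπ, hψ]
    exact ha
  have : AddGroup.FG (T ⧸ R) := AddGroup.fg_of_surjective (f := QuotientAddGroup.mk' R) (QuotientAddGroup.mk'_surjective R)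
  have : Finite (T ⧸ R) := AddCommGroup.finite_of_fg_torsion _ htor
  exact AddSubgroup.finiteIndex_of_finite_quotient

end Groth.Agent.S13469
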