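import Groth.Statements.S13470
import Groth.Agent.GrpLike79.Char

set_option autoImplicit false
universe u
open GmDual

namespace Groth.Agent.S13470

open CategoryTheory AlgebraicGeometry MonObj

open CategoryTheory AlgebraicGeometry MonObj in
/-- Let k be an algebraically closed field and i : H → G a homomorphism of affine commutative k-group
schemes of finite type which is a closed immersion. Then the restriction map Ĝ(k) → Ĥ(k) on
characters defined over k (morphisms of abelian sheaves on the big fppf site of Spec k from the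
sheaf of points to the multiplicative group, restricted along i) is surjective. -/
theorem result (k : Type u) [Field k] [IsAlgClosed k]
    (H G : Over (Spec (CommRingCat.of k))) [GrpObj H] [IsCommMonObj H] [GrpObj G] [IsCommMonObj G]
    [IsAffine H.left] [LocallyOfFiniteType H.hom] [IsAffine G.left] [LocallyOfFiniteType G.hom]
    (i : H ⟶ G) [IsMonHom i] [IsClosedImmersion i.left] :
    Function.Surjective (Preadditive.leftComp (CGrpSh2.Gm Scheme.fppfPrecoverage (Spec (CommRingCat.of k)))
      (CGrpSh.ptsMap Scheme.fppfPrecoverage i)) := by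
  obtain ⟨A, _, _, eG, _, _, _, _⟩ := Groth.Agent.GrpLike79.exists_hopf_finiteType G
  obtain ⟨B, _, _, eH, _, _, _, _⟩ := Groth.Agent.GrpLike79.exists_hopf_finiteType H
  have : IsMonHom (inv eG) := inferInstanceAs (IsMonHom (asIso eG).inv)
  obtain ⟨π, hπ⟩ := Groth.Agent.GrpSchLib.AffineHopf.exists_bialgHom (eH ≫ i ≫ inv eG)
  have : IsIso eH.left := inferInstanceAs (IsIso ((Over.forget _).map eH))
  have : IsIso (inv eG).left := inferInstanceAs (IsIso ((Over.forget _).map (inv eG)))
  have hsurj : Function.Surjective π := by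
    refine Groth.Agent.GrpSchLib.AffineHopf.surjective_of_isClosedImmersion (π : A →ₐ[k] B) ?_
    rw [← hπ, Over.comp_left, Over.comp_left]
    infer_instance
  intro χ
  obtain ⟨a, ha, hπa⟩ := Groth.Agent.GrpLike79.exists_lift_of_surjective π.toCoalgHom hsurj
    (Additive.toMul (Groth.Agent.GrpLike79.charHom eH χ)).2
  obtain ⟨ψ, hψ⟩ := (Groth.Agent.GrpLike79.charHom_bijective eG).2 (Additive.ofMul ⟨a, ha⟩)
  refine ⟨ψ, (Groth.Agent.GrpLike79.charHom_bijective eH).1 (congrArg Additive.ofMul (GroupLike.val_injective ?_))⟩
  show (Additive.toMul (Groth.Agent.GrpLike79.charHom eH (CGrpSh.ptsMap _ i ≫ ψ))).val = _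
  rw [Groth.Agent.GrpLike79.charHom_restrict eG eH i π hπ, hψ]
  exact hπa

end Groth.Agent.S13470
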