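import Groth.Statements.S13532
import Groth.Agent.DimFormula.JacobsonLocal
import Groth.Agent.FibDim.Basic

set_option autoImplicit false
universe u
open CategoryTheory CategoryTheory.Limits AlgebraicGeometry
open ResProp

set_option backward.isDefEq.respectTransparency false
set_option backward.isDefEq.respectTransparency.types false

namespace Groth.Agent.S13532

open Groth.Agent TopologicalSpace

/-- A morphism of finite type between locally Noetherian schemes which is birational (an isomorphism
over a dense open of the target whose preimage is dense in the source) has finite fibres over all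
points of the target of codimension at most 1, i.e. whose local ring has Krull dimension at most 1. -/
theorem result {X Y : Scheme.{u}}
    [IsLocallyNoetherian X] [IsLocallyNoetherian Y] (f : Y ⟶ X) [LocallyOfFiniteType f] [QuasiCompact f]
    (U : X.Opens) (hU : Dense (U : Set X)) (hU' : Dense ((f ⁻¹ᵁ U : Y.Opens) : Set Y)) (hiso : IsIso (f ∣_ U))
    (x : X) (hx : ringKrullDim (X.presheaf.stalk x) ≤ 1) :
    (f.base ⁻¹' {x}).Finite := by
  have inj : ∀ a b : Y, f a ∈ U → f a = f b → a = b := fun a b ha hab => by
    haveI := hiso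
    let a' : ↥(f ⁻¹ᵁ U : Y.Opens) := ⟨a, ha⟩
    let b' : ↥(f ⁻¹ᵁ U : Y.Opens) := ⟨b, show f b ∈ U from hab ▸ ha⟩
    have h : (f ∣_ U) a' = (f ∣_ U) b' := Subtype.ext (by
      rw [morphismRestrict_base_coe, morphismRestrict_base_coe]; exact hab)
    exact congrArg Subtype.val ((f ∣_ U).homeomorph.injective h)
  by_cases hxU : x ∈ U
  · exact Set.Subsingleton.finite fun a ha b hb =>
        inj a b (show f a ∈ U from (ha : f a = x) ▸ hxU) ((ha : f a = x).trans (hb : f b = x).symm)
  have hrd : ∀ y : Y, f y = x → FibDim.rd f y = 0 := fun y hy => by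
    obtain ⟨η, hηy, hmax⟩ := FibDim.exists_maximal_generization y
    have hηU : f η ∈ U := by
      obtain ⟨W, hW, hWgen⟩ := FibDim.exists_nhd_generizing (X := Y) (Z := Set.univ) isClosed_univ η
      obtain ⟨z, hzW, hzU⟩ := hU'.inter_open_nonempty W W.isOpen ⟨η, hW⟩
      obtain ⟨ζ, -, hζη, hζz⟩ := hWgen z hzW trivial
      rw [← hmax ζ hζη]
      exact hζz.mem_open (f ⁻¹ᵁ U).isOpen hzU
    have hne : η ≠ y := fun h => hxU (hy ▸ h ▸ hηU)
    have hset : closure {η} ∩ f ⁻¹' {f η} = {η} := Set.eq_singleton_iff_unique_mem.2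
      ⟨⟨subset_closure rfl, rfl⟩, fun z hz => (inj η z hηU (hz.2 : f z = f η).symm).symm⟩
    have h0 := FibDim.dim_closure_inter f η
    rw [hset] at h0
    have h1 : topologicalKrullDim ↥({η} : Set Y) ≤ 0 := topologicalKrullDim_zero_of_discreteTopology _
    rw [h0] at h1
    have hη0 : FibDim.rd f η = 0 := Nat.le_zero.1 (by exact_mod_cast h1)
    have hf := (DimFormula.cd_formula f hηy).1
    have hcd : 1 ≤ DimFormula.cd η y := Nat.one_le_iff_ne_zero.2 fun h => hne ((DimFormula.cd_eq_zero_iff hηy).1 h)
    have hcx : DimFormula.cd (f η) (f y) ≤ 1 := by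
      refine (DimFormula.cd_le_codim (hηy.map f.continuous)).trans ?_
      rw [hy]
      have := DimFormula.ringKrullDim_stalk x ▸ hx
      exact_mod_cast this
    omega
  have hsp : ∀ a b : Y, a ⤳ b → f a = x → f b = x → a = b := fun a b h ha hb => by
    have hf := (DimFormula.cd_formula f h).1
    rw [hrd a ha, hrd b hb, ha, hb, DimFormula.cd_self] at hf
    exact (DimFormula.cd_eq_zero_iff h).1 (by omega)
  -- the fibre as a Noetherian scheme without specializations
  haveI : CompactSpace (f.fiber x) := QuasiCompact.compactSpace_of_compactSpace (f.fiberToSpecResidueField x)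
  haveI : IsNoetherian (f.fiber x) :=
    { toIsLocallyNoetherian := LocallyOfFiniteType.isLocallyNoetherian (f.fiberToSpecResidueField x) }
  haveI : Finite ↥(f.fiber x) := by
    refine Set.finite_univ_iff.1 ?_
    obtain ⟨S, hS, hcl, hirr, hU⟩ := NoetherianSpace.exists_finite_set_isClosed_irreducible
      (isClosed_univ (X := ↥(f.fiber x)))
    rw [hU]
    refine hS.sUnion fun t ht => ?_
    obtain ⟨g, hg⟩ := QuasiSober.sober (hirr t ht) (hcl t ht)
    refine (Set.finite_singleton g).subset fun z hz => ?_
    have hgz : g ⤳ z := specializes_iff_mem_closure.2 (hg.def ▸ hz)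
    exact ((f.fiberι x).isEmbedding.injective (hsp _ _ (hgz.map (f.fiberι x).continuous)
      (FibDim.fiber_apply_fiberι f g) (FibDim.fiber_apply_fiberι f z))).symm
  exact Set.Finite.subset (Set.finite_range (f.fiberι x)) (f.range_fiberι x).ge

end Groth.Agent.S13532
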