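import Groth.Statements.S13578
import Groth.Agent.InvDTen65.Adic
import Groth.Agent.KFlatLib.Ring.TenExact
import Groth.Agent.KFlatLib.Ring.HasRHom
import Groth.Agent.KFlatLib.Ring.SymMonoidal
-- import your own Groth.Agent.* helpers here

set_option autoImplicit false
set_option backward.isDefEq.respectTransparency false
universe u
open CategoryTheory CategoryTheory.Limits MonoidalCategory
attribute [local instance] HasDerivedCategory.standard
open DTen

namespace Groth.Agent.S13578

/-- Let `A` be a Noetherian commutative ring (the derived tensor product on `D(A)` being assumed to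
exist and to be computed by K-flat complexes), `I` an ideal and `M` a finite `A`-module. Then there
is an integer `n > 0` such that the inclusion `I^n M ⟶ M`, viewed in `D(A)` in degree `0`, factors
through the canonical morphism `I ⊗^L M ⟶ M` (the map `I ⊗^L M ⟶ A ⊗^L M` induced by `I ⊆ A`,
followed by the unit isomorphism). -/
theorem result (A : Type u) [CommRing A] [IsNoetherianRing A]
    [DTen.HasLTen A] [DTen.KFlatComputes A] (I : Ideal A) (M : Type u) [AddCommGroup M] [Module A M]
    [Module.Finite A M] :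
    ∃ (n : ℕ) (_ : 0 < n)
      (g : DerivedCategory.Q.obj ((HomologicalComplex.single (ModuleCat.{u} A) (ComplexShape.up ℤ) 0).obj
              (ModuleCat.of A ↥(I ^ n • (⊤ : Submodule A M)))) ⟶
            (DTen.LTen₂ A).obj (DerivedCategory.Q.obj ((HomologicalComplex.single (ModuleCat.{u} A) (ComplexShape.up ℤ) 0).obj
              (ModuleCat.of A ↥I)),
              DerivedCategory.Q.obj ((HomologicalComplex.single (ModuleCat.{u} A) (ComplexShape.up ℤ) 0).obj
              (ModuleCat.of A M)))),
      g ≫ (DTen.LTen₂ A).map (Prod.mkHom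
              (DerivedCategory.Q.map ((HomologicalComplex.single (ModuleCat.{u} A) (ComplexShape.up ℤ) 0).map
                (ModuleCat.ofHom I.subtype)))
              (𝟙 _)) ≫
          (DTen.unitL A).app (DerivedCategory.Q.obj ((HomologicalComplex.single (ModuleCat.{u} A) (ComplexShape.up ℤ) 0).obj
              (ModuleCat.of A M))) =
        DerivedCategory.Q.map ((HomologicalComplex.single (ModuleCat.{u} A) (ComplexShape.up ℤ) 0).map
          (ModuleCat.ofHom (I ^ n • (⊤ : Submodule A M)).subtype)) := by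
  haveI := Groth.Agent.KFlatLib.hasLTen₃ A
  haveI := Groth.Agent.KFlatLib.isSymMonoidal A
  haveI := Groth.Agent.KFlatLib.hasRHom (A := A)
  let S := HomologicalComplex.single (ModuleCat.{u} A) (ComplexShape.up ℤ) 0
  let K : DRing.Cx A := S.obj (ModuleCat.of A M)
  let L := CohIII.adicSystem I (ModuleCat.of A A)
  have hKz : DRing.VanishesOutside K 0 0 := fun i hi =>
    HomologicalComplex.isZero_single_obj_X _ _ _ _ (by omega)
  have hKf : ∀ i, Module.Finite A (K.X i) := fun i => by
    by_cases h : i = 0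
    · subst h
      exact Module.Finite.equiv (HomologicalComplex.singleObjXSelf (ComplexShape.up ℤ) 0 (ModuleCat.of A M)).toLinearEquiv.symm
    · haveI := ModuleCat.subsingleton_of_isZero (hKz i (by omega))
      infer_instance
  obtain ⟨m, hm, b, h1, -⟩ := Groth.Agent.InvDTen65.isProIso_εLeft I K 0 0 hKz hKf 0
  let n := m + 1
  let N := ModuleCat.of A ↥(I ^ n • (⊤ : Submodule A M))
  let incl : N ⟶ ModuleCat.of A M := ModuleCat.ofHom (I ^ n • (⊤ : Submodule A M)).subtype
  let mk : ModuleCat.of A A ⟶ L.obj (Opposite.op m) := Groth.Agent.InvDTen65.adicMk I m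
  -- everything over `I ^ n` dies in `M ⊗ A / I ^ n`
  let Φ : K ⟶ (tensorLeft K).obj (S.obj (L.obj (Opposite.op m))) :=
    (λ_ K).inv ≫ (DTen.braidCx (𝟙_ (DRing.Cx A)) K).hom ≫ K ◁ S.map mk
  have hkill : ∀ r ∈ I ^ n, r • 𝟙 ((tensorLeft K).obj (S.obj (L.obj (Opposite.op m)))) = 0 := fun r hr => by
    let e := (Groth.Agent.InvDTen65.tenMNatIso K).app (L.obj (Opposite.op m))
    have h0 : r • 𝟙 (L.obj (Opposite.op m)) = 0 := by
      ext : 1
      refine LinearMap.ext fun x => ?_
      obtain ⟨a, rfl⟩ := Submodule.mkQ_surjective (I ^ (m + 1) • (⊤ : Submodule A A)) x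
      change r • (Submodule.Quotient.mk a : A ⧸ (I ^ (m + 1) • (⊤ : Submodule A A))) = 0
      rw [← Submodule.Quotient.mk_smul, Submodule.Quotient.mk_eq_zero]
      exact Submodule.smul_mem_smul hr Submodule.mem_top
    have h2 := congrArg (Groth.Agent.InvDTen65.tenM K).map h0
    rw [Functor.map_smul, CategoryTheory.Functor.map_id, Functor.map_zero] at h2
    change r • 𝟙 ((HomologicalComplex.single (ModuleCat.{u} A) (ComplexShape.up ℤ) 0 ⋙ tensorLeft K).obj _) = 0
    rw [← e.inv_hom_id, ← Category.id_comp e.hom, ← Linear.comp_smul, ← Linear.smul_comp, h2, zero_comp,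
      comp_zero]
  have hΦ : S.map incl ≫ Φ = 0 := by
    refine HomologicalComplex.from_single_hom_ext ?_
    rw [HomologicalComplex.comp_f, HomologicalComplex.single_map_f_self, Category.assoc, Category.assoc,
      HomologicalComplex.zero_f_apply]
    let ψ : ModuleCat.of A M ⟶ ((tensorLeft K).obj (S.obj (L.obj (Opposite.op m)))).X 0 :=
      (HomologicalComplex.singleObjXSelf (ComplexShape.up ℤ) 0 (ModuleCat.of A M)).inv ≫ Φ.f 0
    suffices hψ : incl ≫ ψ = 0 by rw [hψ, comp_zero]
    ext : 1
    refine LinearMap.ext fun z => ?_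
    change ψ.hom z.1 = 0
    refine Submodule.smul_induction_on z.2 (fun r hr y _ => ?_) (fun a c ha hc => by rw [map_add, ha, hc, add_zero])
    rw [map_smul]
    exact congrArg (fun f => (f.f 0).hom (ψ.hom y)) (hkill r hr)
  let X := DerivedCategory.Q.obj K
  let U := DTen.unit A
  haveI : IsIso ((DTen.unitL A).app X) := inferInstance
  let j : DerivedCategory.Q.obj (S.obj N) ⟶ (DTen.LTen₂ A).obj (U, X) :=
    DerivedCategory.Q.map (S.map incl) ≫ inv ((DTen.unitL A).app X)
  -- the triangle of `I`
  let π : ModuleCat.of A A ⟶ L.obj (Opposite.op 0) := Groth.Agent.InvDTen65.adicMk I 0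
  have hI : (I ^ (0 + 1) • (⊤ : Submodule A A)) = I := by simp
  let Sc : ShortComplex (ModuleCat.{u} A) := ShortComplex.mk (ModuleCat.ofHom I.subtype) π (by
    ext : 1
    refine LinearMap.ext fun x => ?_
    change (Submodule.Quotient.mk (x : A) : A ⧸ (I ^ (0 + 1) • (⊤ : Submodule A A))) = 0
    rw [Submodule.Quotient.mk_eq_zero, hI]
    exact x.2)
  have hSc : Sc.ShortExact := by
    refine { exact := ?_, mono_f := ?_, epi_g := inferInstanceAs (Epi π) }
    · rw [ShortComplex.moduleCat_exact_iff]
      intro x hx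
      have hx' : x ∈ (I ^ (0 + 1) • (⊤ : Submodule A A)) := (Submodule.Quotient.mk_eq_zero _).1 hx
      rw [hI] at hx'
      exact ⟨⟨x, hx'⟩, rfl⟩
    · exact (ModuleCat.mono_iff_injective _).2 Subtype.val_injective
  have hT := DerivedCategory.triangleOfSES_distinguished (hSc.map_of_exact S)
  -- flip to the other variable
  let σ := fun Y : DRing.Cx A => (DTen.symm A).app (X, DerivedCategory.Q.obj Y)
  have hσ : ∀ {Y Y' : DRing.Cx A} (f : Y ⟶ Y'),
      (DTen.LTen₂ A).map (Prod.mkHom (DerivedCategory.Q.map f) (𝟙 X)) ≫ σ Y' =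
        σ Y ≫ (DTen.LTen₂ A).map (Prod.mkHom (𝟙 X) (DerivedCategory.Q.map f)) := fun {Y Y'} f =>
    (DTen.symm A).naturality (X := (X, DerivedCategory.Q.obj Y)) (Y := (X, DerivedCategory.Q.obj Y'))
      (Prod.mkHom (𝟙 X) (DerivedCategory.Q.map f))
  have hj : j ≫ (DTen.LTen₂ A).map (Prod.mkHom (DerivedCategory.Q.map (S.map π)) (𝟙 X)) = 0 := by
    rw [← cancel_mono (σ (S.obj (L.obj (Opposite.op 0)))), Category.assoc, hσ, zero_comp]
    have hπ : mk ≫ ARSys.tr L hm = π := Groth.Agent.InvDTen65.adicMk_tr I hm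
    have e1 : (DTen.LTen₂ A).map (Prod.mkHom (𝟙 X) (DerivedCategory.Q.map (S.map π))) =
        (DTen.ε A).app (K, S.obj (ModuleCat.of A A)) ≫ DerivedCategory.Q.map (K ◁ S.map mk) ≫ b := by
      rw [← hπ, S.map_comp, DerivedCategory.Q.map_comp]
      refine (congrArg (DTen.LTen₂ A).map (show Prod.mkHom (𝟙 X) (DerivedCategory.Q.map (S.map mk) ≫
        DerivedCategory.Q.map (S.map (ARSys.tr L hm))) = Prod.mkHom (𝟙 X) (DerivedCategory.Q.map (S.map mk)) ≫
          Prod.mkHom (𝟙 X) (DerivedCategory.Q.map (S.map (ARSys.tr L hm))) from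
            Prod.ext (Category.comp_id _).symm rfl)).trans ?_
      rw [Functor.map_comp]
      refine (congrArg (_ ≫ ·) h1.symm).trans ?_
      rw [← Category.assoc, ← Category.assoc]
      congr 1
      exact (DTen.εLeft A K).naturality (S.map mk)
    have e2 : inv ((DTen.unitL A).app X) ≫ σ (S.obj (ModuleCat.of A A)) ≫
        (DTen.ε A).app (K, S.obj (ModuleCat.of A A)) =
        DerivedCategory.Q.map ((λ_ K).inv ≫ (DTen.braidCx (𝟙_ (DRing.Cx A)) K).hom) := by
      rw [IsIso.inv_comp_eq, DTen.unitL_app, Category.assoc, ← Functor.map_comp, Iso.hom_inv_id_assoc]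
      exact DTen.symm_fac A K (𝟙_ (DRing.Cx A))
    rw [e1]
    simp only [j, Category.assoc]
    erw [reassoc_of% e2, ← Functor.map_comp_assoc, ← Functor.map_comp_assoc]
    refine Eq.trans (congrArg (fun f => DerivedCategory.Q.map f ≫ b) (a₂ := 0) ?_) ?_
    · exact ((Category.assoc _ _ _).trans (congrArg _ (Category.assoc _ _ _))).trans hΦ
    · rw [Functor.map_zero, zero_comp]
  obtain ⟨g, hg⟩ := Groth.Agent.KFlatLib.homExact_tensorRightD X _ hT _ j hj
  refine ⟨n, Nat.succ_pos m, g, ?_⟩
  have hg' := congrArg (· ≫ (DTen.unitL A).app X) hg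
  rw [Category.assoc] at hg'
  refine Eq.trans hg' ?_
  simp only [j, Category.assoc, IsIso.inv_hom_id]
  exact Category.comp_id _

end Groth.Agent.S13578
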