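import Groth.Statements.S13585
import Groth.Agent.GraphImm.Basic

set_option autoImplicit false
universe u
open CategoryTheory CategoryTheory.Limits AlgebraicGeometry
open Canon

namespace Groth.Agent.S13585

/-- Let `f : X ⟶ Y` and `g : Y ⟶ Z` be morphisms of schemes with `g` smooth of relative dimension `n`,
and let `Γ : X ⟶ X ×_Z Y` be the graph of `f`. Then `Γ` is a regular immersion of codimension `n`,
and the top exterior power of its conormal sheaf is `f^* ω_{Y/Z}`, where `ω_{Y/Z} = Λ^n Ω_{Y/Z}`;
that is, the canonical sheaf of the immersion `Γ` is the dual of `f^* ω_{Y/Z}`. (This row takes `X`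
locally Noetherian and `g` separated, so that the graph is a closed immersion and the criterion for
sections of smooth morphisms over a locally Noetherian base, through which the published proof goes,
applies; the published statement has arbitrary preschemes.) -/
theorem result {X Y Z : Scheme.{u}} [IsLocallyNoetherian X]
    (f : X ⟶ Y) (g : Y ⟶ Z) (n : ℕ) [SmoothOfRelativeDimension n g] [IsSeparated g]
    (ωY : Y.Modules) (hω : Canon.IsTopDiff g n ωY) :
    RegImm.IsRegularImmersionOfCodim .regular n (pullback.lift (𝟙 X) f (Category.id_comp (f ≫ g))) ∧
      ExtPow.IsExtPow n (Omega.conormal (pullback.lift (𝟙 X) f (Category.id_comp (f ≫ g))))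
        ((Scheme.Modules.pullback f).obj ωY) := by
  haveI : QuasiSeparated g := inferInstance
  haveI : SmoothOfRelativeDimension n (pullback.fst (f ≫ g) g) :=
    MorphismProperty.IsStableUnderBaseChange.of_isPullback
      (self := smoothOfRelativeDimension_isStableUnderBaseChange n)
      (IsPullback.of_hasPullback (f ≫ g) g).flip inferInstance
  exact ⟨Groth.Agent.GraphImm.isRegularImmersionOfCodim_section (pullback.fst (f ≫ g) g) _ n (pullback.lift_fst _ _ _),
    Groth.Agent.GraphImm.isExtPow_conormal_graph f g n ωY hω⟩

end Groth.Agent.S13585
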