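import Groth.Statements.S13589
import Groth.Agent.InvDTen65.Residue
import Groth.Agent.KFlatLib.Ring.LocalInvertible
import Groth.Agent.KFlatLib.Ring.EvalTen
import Groth.Agent.KFlatLib.Ring.HasRHom
-- import your own Groth.Agent.* helpers here

set_option autoImplicit false
universe u
open CategoryTheory CategoryTheory.Limits MonoidalCategory
attribute [local instance] HasDerivedCategory.standard
open DTen

namespace Groth.Agent.S13589

open Groth.Agent

section

variable {A : Type u} [CommRing A]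

/-- The unit is `A` in degree zero. -/
lemma exists_unitIsoSingle : Nonempty ((DerivedCategory.singleFunctor (ModuleCat.{u} A) 0).obj (ModuleCat.of A A) ≅
    DTen.unit A) := by
  obtain ⟨e⟩ := KFlatLib.nonempty_unit_shift_iso (A := A) 0
  exact ⟨(DerivedCategory.singleFunctorIsoCompQ (ModuleCat.{u} A) 0).app (ModuleCat.of A A) ≪≫
    eqToIso (by rw [neg_zero]; rfl) ≪≫ e.symm ≪≫ (shiftFunctorZero (Dual.D A) ℤ).app _⟩

/-- Maps from the unit into a shift. -/
lemma eq_zero_of_subsingleton_hd (Y : Dual.D A) (k : ℤ) (h : Subsingleton (Dual.HD A Y k))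
    (f : DTen.unit A ⟶ Y⟦k⟧) : f = 0 := by
  obtain ⟨u⟩ := KFlatLib.exists_homUnitLEquiv (Y⟦k⟧) 0 0 rfl
  obtain ⟨s⟩ := KFlatLib.exists_hdShiftLEquiv Y k 0 k (by omega)
  haveI := h
  haveI : Subsingleton (((DTen.unit A)⟦(0 : ℤ)⟧) ⟶ Y⟦k⟧) := (u.trans s).injective.subsingleton
  rw [← cancel_epi ((shiftFunctorZero (Dual.D A) ℤ).app (DTen.unit A)).hom]
  exact Subsingleton.elim _ _

end

/-- Let `A` be a Noetherian commutative ring and `F` an `A`-linear triangulated equivalence from
`D^b_{Coh}(A)` (the full subcategory of `D(A)` of objects with bounded cohomology consisting of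
finite `A`-modules, a triangulated subcategory) to itself. Then `F(A)` is an invertible object of
`D(A)`: there is an object `L` with `F(A) ⊗^L L ≅ A` and `L ⊗^L F(A) ≅ A`. The membership of `A[0]`
in `D^b_{Coh}(A)` and the fact that this subcategory is triangulated are taken as (true) hypotheses.
(The published statement asks only for an `A`-linear equivalence of categories; this row takes the
equivalence compatible with shifts and distinguished triangles, which is what the published proof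
uses and how the result is applied.) -/
theorem result (A : Type u) [CommRing A]
    [IsNoetherianRing A] [DTen.HasLTen A] [DTen.KFlatComputes A]
    (P : ObjectProperty (Dual.D A))
    (hP : ∀ K : Dual.D A, P K ↔
      ((∀ i : ℤ, Module.Finite A (Dual.HD A K i)) ∧ ∃ a b : ℤ, ∀ i : ℤ, (i < a ∨ b < i) → Subsingleton (Dual.HD A K i)))
    [P.IsTriangulated]
    (F : P.FullSubcategory ⥤ P.FullSubcategory) [F.CommShift ℤ] [F.IsTriangulated] [F.IsEquivalence]
    [F.Additive] [F.Linear A]
    (hA : P (DTen.unit A)) :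
    DTen.IsInvertible A (F.obj ⟨DTen.unit A, hA⟩).obj := by
  haveI := KFlatLib.hasLTen₃ A
  haveI := KFlatLib.isSymMonoidal A
  haveI := KFlatLib.hasRHom (A := A)
  let U : P.FullSubcategory := ⟨DTen.unit A, hA⟩
  let FU := F.obj U
  let L : Dual.D A := FU.obj
  -- vanishing transported along `F`
  have key : ∀ (N : P.FullSubcategory) (k : ℤ), Subsingleton (Dual.HD A N.obj k) →
      ∀ f : L ⟶ ((F.obj N).obj)⟦k⟧, f = 0 := fun N k hN f => by
    let e₁ : ((F.obj N)⟦k⟧).obj ≅ ((F.obj N).obj)⟦k⟧ := (P.ι.commShiftIso k).app (F.obj N)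
    let e₂ : F.obj (N⟦k⟧) ≅ (F.obj N)⟦k⟧ := (F.commShiftIso k).app N
    let f' : FU ⟶ (F.obj N)⟦k⟧ := ObjectProperty.homMk (f ≫ e₁.inv)
    obtain ⟨g, hg⟩ := F.map_surjective (f' ≫ e₂.inv)
    have hg0 : g = 0 := by
      ext1
      rw [← cancel_mono ((P.ι.commShiftIso k).app N).hom]
      exact (eq_zero_of_subsingleton_hd N.obj k hN _).trans zero_comp.symm
    rw [hg0, Functor.map_zero] at hg
    have : f' = 0 := (cancel_mono e₂.inv).1 (hg.symm.trans zero_comp.symm)
    have h2 : f ≫ e₁.inv = 0 := congrArg InducedCategory.Hom.hom this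
    rw [← cancel_mono e₁.inv, h2, zero_comp]
  obtain ⟨hfin, a, b, hb⟩ := (hP L).1 FU.property
  -- perfectness
  have hperf : DRing.IsPerfect A L := by
    refine InvDTen65.isPerfect_of_residue_vanishing a b hfin hb fun m hm => ?_
    let k₀ : Dual.D A := (DerivedCategory.singleFunctor (ModuleCat.{u} A) 0).obj (ModuleCat.of A (A ⧸ m))
    have hk : P k₀ := by
      have hs : ∀ i : ℤ, i ≠ 0 → Subsingleton (Dual.HD A k₀ i) := fun i hi => by
        refine ModuleCat.subsingleton_of_isZero ?_
        rcases lt_or_gt_of_ne hi with h | h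
        · exact DerivedCategory.isZero_of_isGE k₀ 0 i h
        · exact DerivedCategory.isZero_of_isLE k₀ 0 i h
      refine (hP k₀).2 ⟨fun i => ?_, 0, 0, fun i hi => hs i (by omega)⟩
      rcases eq_or_ne i 0 with rfl | hi
      · obtain ⟨e⟩ := KFlatLib.exists_hdSingleLEquiv (ModuleCat.of A (A ⧸ m)) 0
        exact Module.Finite.equiv e.symm
      · haveI := hs i hi
        infer_instance
    let N := F.objPreimage ⟨k₀, hk⟩
    let eN : (F.obj N).obj ≅ k₀ := P.ι.mapIso (F.objObjPreimageIso ⟨k₀, hk⟩)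
    obtain ⟨-, a', b', hb'⟩ := (hP N.obj).1 N.property
    refine ⟨-b', fun j hj g => ?_⟩
    let s : (((DerivedCategory.singleFunctor (ModuleCat.{u} A) j).obj (ModuleCat.of A (A ⧸ m))) : Dual.D A) ≅
        k₀⟦-j⟧ :=
      (((DerivedCategory.singleFunctors (ModuleCat.{u} A)).shiftIso (-j) j 0 (by omega)).app _).symm
    let t : k₀⟦-j⟧ ≅ ((F.obj N).obj)⟦-j⟧ := (shiftFunctor (Dual.D A) (-j)).mapIso eN.symm
    rw [← cancel_mono (s ≪≫ t).hom, zero_comp]
    exact key N (-j) (hb' (-j) (Or.inr (by omega))) _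
  -- the derived endomorphisms
  let R := (DTen.RHomR A L).obj L
  have hR0 : ∀ n : ℤ, n ≠ 0 → Subsingleton (Dual.HD A R n) := fun n hn => by
    obtain ⟨e⟩ := KFlatLib.exists_hdRHomLEquiv L L n
    refine @Equiv.subsingleton _ _ e.toEquiv ⟨fun f g => ?_⟩
    suffices h : ∀ f : L⟦-n⟧ ⟶ L, f = 0 by rw [h f, h g]
    intro f
    let c : (L⟦-n⟧)⟦n⟧ ≅ L := ((shiftFunctorCompIsoId (Dual.D A) (-n) n (by omega)).app L)
    have h0 : Subsingleton (Dual.HD A (DTen.unit A) n) := by
      obtain ⟨e⟩ := exists_unitIsoSingle (A := A)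
      have hz : IsZero ((DerivedCategory.homologyFunctor (ModuleCat.{u} A) n).obj
          ((DerivedCategory.singleFunctor (ModuleCat.{u} A) 0).obj (ModuleCat.of A A))) := by
        rcases lt_or_gt_of_ne hn with h | h
        · exact DerivedCategory.isZero_of_isGE _ 0 n h
        · exact DerivedCategory.isZero_of_isLE _ 0 n h
      exact ModuleCat.subsingleton_of_isZero
        (hz.of_iso ((DerivedCategory.homologyFunctor (ModuleCat.{u} A) n).mapIso e.symm))
    apply (shiftFunctor (Dual.D A) n).map_injective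
    rw [Functor.map_zero, ← cancel_epi c.inv, comp_zero]
    exact key U n h0 _
  have hR1 : Nonempty (Dual.HD A R 0 ≃ₗ[A] A) := by
    obtain ⟨e⟩ := KFlatLib.exists_hdRHomLEquiv L L 0
    obtain ⟨u⟩ := KFlatLib.exists_homUnitLEquiv (DTen.unit A) 0 0 rfl
    obtain ⟨v⟩ := exists_unitIsoSingle (A := A)
    obtain ⟨w⟩ := KFlatLib.exists_hdSingleLEquiv (ModuleCat.of A A) 0
    let Fm : (DTen.unit A ⟶ DTen.unit A) →ₗ[A] (L ⟶ L) :=
      { toFun := fun f => (F.map (ObjectProperty.homMk (X := U) (Y := U) f)).hom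
        map_add' := fun f g => congrArg InducedCategory.Hom.hom
          (F.map_add (f := ObjectProperty.homMk (X := U) (Y := U) f) (g := ObjectProperty.homMk g))
        map_smul' := fun r f => congrArg InducedCategory.Hom.hom
          (F.map_smul r (ObjectProperty.homMk (X := U) (Y := U) f)) }
    have hFm : Function.Bijective Fm :=
      ⟨fun f g h => by
          have := F.map_injective (X := U) (Y := U) (a₁ := ObjectProperty.homMk f) (a₂ := ObjectProperty.homMk g)
            (InducedCategory.hom_ext h)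
          simpa using congrArg InducedCategory.Hom.hom this,
        fun f => by
          obtain ⟨g, hg⟩ := F.map_surjective (ObjectProperty.homMk (X := FU) (Y := FU) f)
          exact ⟨g.hom, congrArg InducedCategory.Hom.hom hg⟩⟩
    let z : ∀ X Y : Dual.D A, (X⟦-(0 : ℤ)⟧ ⟶ Y) ≃ₗ[A] (X ⟶ Y) := fun X Y =>
      Linear.homCongr A ((shiftFunctorZero' (Dual.D A) (-(0 : ℤ)) neg_zero).app X) (Iso.refl Y)
    let z' : (((DTen.unit A)⟦(0 : ℤ)⟧) ⟶ DTen.unit A) ≃ₗ[A] (DTen.unit A ⟶ DTen.unit A) :=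
      Linear.homCongr A ((shiftFunctorZero (Dual.D A) ℤ).app _) (Iso.refl _)
    exact ⟨e.trans ((z L L).trans ((LinearEquiv.ofBijective Fm hFm).symm.trans (z'.symm.trans (u.trans
      ((((DerivedCategory.homologyFunctor (ModuleCat.{u} A) 0).mapIso v.symm).toLinearEquiv).trans w)))))⟩
  obtain ⟨eR⟩ : Nonempty (R ≅ DTen.unit A) := by
    obtain ⟨eH⟩ := hR1
    haveI : R.IsLE 0 := (DerivedCategory.isLE_iff _ _).2 fun i hi => by
      haveI := hR0 i (by omega)
      exact @ModuleCat.isZero_of_subsingleton A _ (ModuleCat.of A (Dual.HD A R i)) this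
    haveI : R.IsGE 0 := (DerivedCategory.isGE_iff _ _).2 fun i hi => by
      haveI := hR0 i (by omega)
      exact @ModuleCat.isZero_of_subsingleton A _ (ModuleCat.of A (Dual.HD A R i)) this
    obtain ⟨e₁⟩ := H9Misc.nonempty_iso_single_homology 0 R
    obtain ⟨e₂⟩ := exists_unitIsoSingle (A := A)
    exact ⟨e₁ ≪≫ (DerivedCategory.singleFunctor (ModuleCat.{u} A) 0).mapIso eH.toModuleIso ≪≫ e₂⟩
  haveI := KFlatLib.isIso_evalTen_of_isPerfect_left L (DTen.unit A) L hperf
  let G := (DTen.RHomR A L).obj (DTen.unit A)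
  let eL : (DTen.LTen₂ A).obj (L, DTen.unit A) ≅ L := asIso ((DTen.unitR A).app L)
  let h : (DTen.LTen₂ A).obj (L, G) ≅ DTen.unit A :=
    asIso (DTen.evalTen L (DTen.unit A) L) ≪≫ (DTen.RHomR A L).mapIso eL ≪≫ eR
  exact ⟨G, ⟨h⟩, ⟨DTen.braiding L G ≪≫ h⟩⟩

end Groth.Agent.S13589
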