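import Groth.Statements.S13605
import Groth.Agent.PicFRel.SymChart

set_option autoImplicit false
universe u
open CategoryTheory AlgebraicGeometry
open CategoryTheory.Limits
open SymProd

namespace Groth.Agent.S13605

set_option backward.isDefEq.respectTransparency false
set_option backward.isDefEq.respectTransparency.types false

/-- Let f : X ⟶ S be a morphism of schemes satisfying (AF) (every finite set of points of X over a
single point of S lies in an affine open of X), let 𝒮 be a cover of S by affine opens, let d ≥ 1 and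
let (Y, q, g) be a d-th symmetric power of X over S: q : X ×_S ⋯ ×_S X ⟶ Y is a quotient by the
symmetric group on d letters permuting the factors (affine, invariant, sections of O_Y = invariant
sections) and q ≫ g is the structure map of the fibre power. Then Y is covered by affine opens of
the form Sym^d(U/V) with V in the given cover: for every point y of Y there are V ∈ 𝒮 and an affine
open U ⊆ f⁻¹V of X such that the open W = ⋂_i pr_i⁻¹ U of the fibre power (the fibre power of U over
V) is affine and stable under every permutation of the factors, and an affine open W' of Y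
containing y with q⁻¹ W' = W. (The published statement also fixes an affine open cover of X
subordinate to the cover of S, in which any d points over a common point of a member V lie in a
common member mapping into V, and concludes that the corresponding opens Sym^d(U/V) cover Y; this
row states the pointwise form, producing U for each y.) -/
theorem result {X S Y : Scheme.{u}} (f : X ⟶ S) (hAF : SymProd.IsAF f)
    (𝒮 : Set S.Opens) (h𝒮 : ∀ V ∈ 𝒮, IsAffineOpen V) (hcov : ∀ s : S, ∃ V ∈ 𝒮, s ∈ V)
    (d : ℕ) (hd : 0 < d) (q : SymProd.fibPow f d ⟶ Y) (g : Y ⟶ S) (hq : SymProd.IsSymProd f d q g) (y : Y) :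
    ∃ V ∈ 𝒮, ∃ U : X.Opens, IsAffineOpen U ∧ U ≤ f ⁻¹ᵁ V ∧
      ∃ W : (SymProd.fibPow f d).Opens,
        (W : Set ↥(SymProd.fibPow f d)) =
          ⋂ i : Fin d, (WidePullback.π (fun _ : Fin d => f) i).base ⁻¹' (U : Set X) ∧
        IsAffineOpen W ∧ (∀ σ : Equiv.Perm (Fin d), (SymProd.permHom f d σ) ⁻¹ᵁ W = W) ∧
        ∃ W' : Y.Opens, y ∈ W' ∧ IsAffineOpen W' ∧ q ⁻¹ᵁ W' = W := by
  obtain ⟨z, rfl⟩ := SGA1Q.surjective hq.isQuot y
  obtain ⟨V, hV, hzV⟩ := hcov ((WidePullback.base fun _ : Fin d => f) z)
  obtain ⟨U, hU, hUV, hzU⟩ := Groth.Agent.PicFRel.SymChart.exists_affine f d hAF z hzV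
  refine ⟨V, hV, U, hU, hUV, Groth.Agent.PicFRel.SymChart.chart f d V U, ?_,
    Groth.Agent.PicFRel.SymChart.isAffineOpen_chart f d (h𝒮 V hV) hU hUV,
    Groth.Agent.PicFRel.SymChart.perm_chart f d V U, ?_⟩
  · refine Set.inter_eq_right.2 fun w hw => ?_
    have h0 := hUV (Set.mem_iInter.1 hw ⟨0, hd⟩)
    show (WidePullback.base fun _ : Fin d => f) w ∈ V
    rw [← WidePullback.π_arrow (fun _ : Fin d => f) ⟨0, hd⟩, Scheme.Hom.comp_apply]
    exact h0
  · obtain ⟨W', hW', hpre⟩ := Groth.Agent.PicFRel.SymChart.exists_affine_image hq.isQuot _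
      (Groth.Agent.PicFRel.SymChart.isAffineOpen_chart f d (h𝒮 V hV) hU hUV)
      (fun g => Groth.Agent.PicFRel.SymChart.perm_chart f d V U g.down)
    refine ⟨W', ?_, hW', hpre⟩
    have : z ∈ q ⁻¹ᵁ W' := hpre ▸ (Groth.Agent.PicFRel.SymChart.mem_chart f d).2 ⟨hzV, hzU⟩
    exact this


end Groth.Agent.S13605
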