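import Groth.Statements.S13617
import Groth.Agent.EtModLib.Specialise
-- import your own Groth.Agent.* helpers here

set_option autoImplicit false
open CategoryTheory CategoryTheory.Limits AlgebraicGeometry Opposite
universe u
open EtModW

namespace Groth.Agent.S13617

variable {Λ : Type (u + 1)} [CommRing Λ] [IsNoetherianRing Λ]

theorem factors_transfer' {C : Type*} [Category C] [Abelian C] [Linear Λ C] {I : Ideal Λ} {X X' : ARSys.PS C}
    {u : X' ⟶ X} {s : ℕ} (J : ARLib.ARInv u s) {r : ℕ} (h : ARLib.Factors I X r) : ARLib.Factors I X' (r + s) := by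
  intro k m a hkm ha hma hka T φ hφ
  obtain ⟨θ, hθ⟩ := h k (m + s) a (by omega) (by omega) (by omega) (by omega) T (J.ψ m (m + s) le_rfl ≫ φ)
    (ARLib.killed_comp_left hφ _)
  refine ⟨ARSys.tr X' (show k + r ≤ k + (r + s) by omega) ≫ u.app (op (k + r)) ≫ θ, ?_⟩
  have := congrArg (u.app (op a) ≫ ·) hθ
  rw [← reassoc_of% ARLib.tr_naturality u, ← reassoc_of% ARLib.tr_naturality u,
    reassoc_of% J.u_ψ m (m + s) le_rfl, ARLib.tr_tr_assoc] at this
  rw [this, ARLib.tr_tr_assoc]

/-- composition with an isomorphism -/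
noncomputable def invCompIso {C : Type*} [Category C] {X Y Z : ARSys.PS C} {v : X ⟶ Y} {r : ℕ}
    (J : ARLib.ARInv v r) (e : Y ≅ Z) : ARLib.ARInv (v ≫ e.hom) r where
  ψ n m h := e.inv.app (op m) ≫ J.ψ n m h
  ψ_u n m h := by
    rw [NatTrans.comp_app, Category.assoc, reassoc_of% J.ψ_u n m h, ARLib.tr_naturality, ← Category.assoc,
      e.inv_hom_id_app, Category.id_comp]
  u_ψ n m h := by rw [NatTrans.comp_app, Category.assoc, e.hom_inv_id_app_assoc, J.u_ψ]
  ψ_tr n n' m h hn := by rw [Category.assoc, J.ψ_tr]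
  tr_ψ n m m' h hm := by rw [← Category.assoc, ARLib.tr_naturality, Category.assoc, J.tr_ψ]

theorem mlCond_of_iso {C : Type*} [Category C] [Abelian C] {X Y : ARSys.PS C} (e : X ≅ Y) {r : ℕ}
    (h : EtModLib.MLCond Y r) : EtModLib.MLCond X r := fun n a m h1 h2 hna hnm => by
  rw [← cancel_mono (cokernel.map (ARSys.tr X hnm) (ARSys.tr Y hnm) (e.hom.app (op m)) (e.hom.app (op n))
    (ARLib.tr_naturality e.hom hnm)), Category.assoc, cokernel.π_desc, zero_comp, ← Category.assoc,
    ARLib.tr_naturality, Category.assoc, h n a m h1 h2 hna hnm, comp_zero]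

omit [IsNoetherianRing Λ] in
theorem eq_zero_of_point_stalks {X : Scheme.{u}} (K : X → Type u) [∀ x, Field (K x)] [∀ x, IsSepClosed (K x)]
    (η : ∀ x, Spec (CommRingCat.of (K x)) ⟶ X)
    (hη : ∀ x, (η x).base (default : Spec (CommRingCat.of (K x))) = x) {F G : EtModW.Mod Λ X} (f : F ⟶ G)
    (h : ∀ x, (EtModW.stalk Λ (η x)).map f = 0) : f = 0 := by
  suffices IsZero (Abelian.image f) by
    rw [← Abelian.image.fac f, this.eq_of_tgt (Abelian.factorThruImage f) 0, zero_comp]
  rw [EtModLib.isZero_iff_stalks]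
  intro Ω _ _ ξ
  have hz : IsZero ((EtModW.stalk Λ (η (ξ.base default))).obj (Abelian.image f)) := by
    have e : (EtModW.stalk Λ (η (ξ.base default))).map (Abelian.factorThruImage f) = 0 := by
      rw [← cancel_mono ((EtModW.stalk Λ (η (ξ.base default))).map (Abelian.image.ι f)), ← Functor.map_comp,
        Abelian.image.fac, h, zero_comp]
    exact IsZero.of_epi_eq_zero _ e
  obtain ⟨e⟩ := EtModLib.nonempty_stalk_iso (Abelian.image f) ξ (η (ξ.base default)) (hη _).symm
  exact hz.of_iso e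

/-- Let X be a connected Noetherian scheme, Λ a Noetherian ring, I an ideal of Λ and F = (F_n) an
inverse system of sheaves of Λ-modules on the small etale site of X with every F_n constructible and
locally constant of finite type and with I^(n+1) F_n = 0 for all n. Then F is AR I-adic (receives a
morphism with kernel and cokernel null up to translation from an I-adic system of constructible
sheaves) if and only if there is at least one geometric point s of X whose stalk system (F_n,s)_n is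
an AR I-adic system of Λ-modules (termwise killed by I^(n+1) and receiving a morphism with null
kernel and cokernel from an I-adic system of finitely generated Λ-modules). -/
theorem result
    (Λ : Type (u + 1)) [CommRing Λ] [IsNoetherianRing Λ] (I : Ideal Λ)
    {X : Scheme.{u}} [IsNoetherian X] [ConnectedSpace X]
    (F : ARSys.PS (EtModW.Mod Λ X)) (hc : ∀ n : ℕ, EtModW.IsConstructible Λ (F.obj (op n)))
    (hl : ∀ n : ℕ, EtModW.IsFTLocConst Λ (F.obj (op n))) (hk : ARSys.TermKilled I F) :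
    (ARSys.TermKilled I F ∧ ∃ (Y : ARSys.PS (EtModW.Mod Λ X)) (v : Y ⟶ F), ARSys.IsAdic I Y ∧ (∀ n : ℕ, EtModW.IsConstructible Λ (Y.obj (op n))) ∧ ARSys.IsARIso v) ↔
      ∃ (Ω : Type u) (_ : Field Ω) (_ : IsSepClosed Ω) (s : Spec (CommRingCat.of Ω) ⟶ X),
        (ARSys.TermKilled I (F ⋙ EtModW.stalk Λ s) ∧ ∃ (Y : ARSys.PS (ModuleCat.{u + 1} Λ)) (v : Y ⟶ F ⋙ EtModW.stalk Λ s), ARSys.IsAdic I Y ∧ (∀ n : ℕ, Module.Finite Λ (Y.obj (op n))) ∧ ARSys.IsARIso v) := by
  constructor
  · rintro ⟨k, Y, v, hY, hYc, hv⟩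
    obtain ⟨Ω, hΩ, hΩ', s, -⟩ := EtFound.exists_geomPoint (Classical.arbitrary X)
    exact ⟨Ω, hΩ, inferInstance, s, EtModLib.termKilled_map _ k, Y ⋙ EtModW.stalk Λ s, Functor.whiskerRight v _,
      EtModLib.isAdic_map _ (IsNoetherian.noetherian I) hY,
      fun n => EtModLib.finite_stalk_of_isConstructible (hYc n) s, EtModLib.isARIso_map _ hv⟩
  · rintro ⟨Ω, _, _, s, k, Y, v, hY, -, hv⟩
    have hP : ARSys.IsARAdic I (F ⋙ EtModW.stalk Λ s) := ⟨k, Y, v, hY, hv⟩
    choose K hK hK' η hη using fun x : X => EtFound.exists_geomPoint x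
    obtain ⟨r, hr⟩ := (EtModLib.isMLAR_iff_mlCond _).1 (ARLib.isMLAR_of_isARAdic hP)
    obtain ⟨t, ht⟩ := ARLib.factors_of_isARAdic hP
    have he := fun x => EtModLib.nonempty_stalkSystem_iso hl (η x) s
    have e := fun x => (he x).some
    refine EtModLib.arAdicC_of_isARAdic (EtModLib.isARAdic_of_uniform (fun x => EtModW.stalk Λ (η x))
      (eq_zero_of_point_stalks K η hη) (IsNoetherian.noetherian I) hk r (fun x => mlCond_of_iso (e x) hr)
      fun Z w hZ hw _ => ?_) hc
    obtain ⟨d, ⟨J⟩⟩ := ARLib.exists_inv hw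
    refine ⟨t + d, fun x => ?_⟩
    exact EtModLib.kerCond_of_factors (EtModLib.isStrict_map (EtModW.stalk Λ (η x)) hZ)
      (factors_transfer' (invCompIso (EtModLib.arInvMap (EtModW.stalk Λ (η x)) J) (e x)) ht)

end Groth.Agent.S13617
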