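import Groth.Statements.S13620
import Groth.Agent.EtModLib.ARConstr
import Groth.Agent.EtModLib.ARMisc
-- import your own Groth.Agent.* helpers here

set_option autoImplicit false
open CategoryTheory CategoryTheory.Limits AlgebraicGeometry Opposite
universe u
open EtModW

namespace Groth.Agent.S13620

/-- For a Noetherian scheme X, a Noetherian coefficient ring Λ and an ideal I of Λ, let F = (F_n) be an
inverse system of sheaves of Λ-modules on the small etale site of X which is AR I-adic (I^(n+1) F_n
= 0 for all n, and F receives a morphism with kernel and cokernel null up to translation from an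
I-adic system of constructible sheaves). Then F is null up to translation if and only if for every
geometric point x of X the limit of the stalk system, lim_n F_n,x, is the zero module. (The
published lemma assumes Λ I-adically complete, which only its first assertion uses; this row states
the second assertion without it.) -/
theorem result
    (Λ : Type (u + 1)) [CommRing Λ] [IsNoetherianRing Λ] (I : Ideal Λ)
    {X : Scheme.{u}} [IsNoetherian X]
    (F : ARSys.PS (EtModW.Mod Λ X))
    (hF : (ARSys.TermKilled I F ∧ ∃ (Y : ARSys.PS (EtModW.Mod Λ X)) (v : Y ⟶ F), ARSys.IsAdic I Y ∧ (∀ n : ℕ, EtModW.IsConstructible Λ (Y.obj (op n))) ∧ ARSys.IsARIso v)) :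
    ARSys.IsARNull F ↔
      ∀ (Ω : Type u) [Field Ω] [IsSepClosed Ω] (x : Spec (CommRingCat.of Ω) ⟶ X),
        IsZero (limit (F ⋙ EtModW.stalk Λ x)) := by
  constructor
  · intro h Ω _ _ x
    obtain ⟨r, hr⟩ := EtModLib.isARNull_map (EtModW.stalk Λ x) h
    refine (IsZero.iff_id_eq_zero _).2 (limit.hom_ext fun n => ?_)
    obtain ⟨n⟩ := n
    have e : ARSys.tr (F ⋙ EtModW.stalk Λ x) (Nat.le_add_right n r) = 0 := hr n
    have hw := limit.w (F ⋙ EtModW.stalk Λ x) (homOfLE (Nat.le_add_right n r)).op
    change limit.π _ (op (n + r)) ≫ ARSys.tr (F ⋙ EtModW.stalk Λ x) (Nat.le_add_right n r) = _ at hw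
    rw [e, comp_zero] at hw
    rw [Category.id_comp, zero_comp, ← hw]
  · intro h
    obtain ⟨-, Y, v, hY, -, hv⟩ := hF
    have hY0 : ∀ n : ℕ, IsZero (Y.obj (op n)) := fun n => (EtModLib.isZero_iff_stalks _).2 fun Ω _ _ x => by
      let P : ARSys.PS (ModuleCat.{u + 1} Λ) := Y ⋙ EtModW.stalk Λ x
      have := ARLib.isIso_limMap _ (Functor.whiskerRight v (EtModW.stalk Λ x)) (EtModLib.isARIso_map _ hv)
      have hP : IsZero (limit P) := (h Ω x).of_iso (asIso (limMap (Functor.whiskerRight v (EtModW.stalk Λ x))))
      have hs : ∀ m : ℕ, Function.Surjective (ARSys.tr P (Nat.le_succ m)) := fun m => by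
        have := EtModLib.isStrict_map (EtModW.stalk Λ x) (ARLib.isStrict_of_isAdic hY) m (m + 1) (Nat.le_succ m)
        exact (ModuleCat.epi_iff_surjective _).1 this
      choose σ hσ using hs
      refine @ModuleCat.isZero_of_subsingleton _ _ _ (subsingleton_of_forall_eq 0 fun y => ?_)
      let ys : ∀ k : ℕ, P.obj (op (n + k)) := fun k => Nat.rec (y : P.obj (op (n + 0))) (fun k s => σ (n + k) s) k
      let z : ∀ m : ℕ, P.obj (op m) := fun m => ARSys.tr P (show m ≤ n + m by omega) (ys m)
      have hstep : ∀ (a b : ℕ) (hab : a ≤ b), ARSys.tr P (show n + a ≤ n + b by omega) (ys b) = ys a := by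
        intro a b hab
        induction b, hab using Nat.le_induction with
        | base => rw [ARLib.tr_refl]; rfl
        | succ b hab ih =>
          rw [← ARLib.tr_tr P (show n + a ≤ n + b by omega) (show n + b ≤ n + (b + 1) by omega), ModuleCat.comp_apply,
            show ARSys.tr P (show n + b ≤ n + (b + 1) by omega) (ys (b + 1)) = ys b from hσ (n + b) (ys b)]
          exact ih
      let c : Cone P := ⟨ModuleCat.of Λ Λ, ARLib.natMk (X := (Functor.const ℕᵒᵖ).obj (ModuleCat.of Λ Λ))
        (fun m => ModuleCat.ofHom (LinearMap.toSpanSingleton Λ (P.obj (op m)) (z m))) fun a b hab => by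
          refine ModuleCat.hom_ext (LinearMap.ext_ring ?_)
          show (LinearMap.toSpanSingleton Λ (P.obj (op a)) (z a)) 1 =
            ARSys.tr P hab ((LinearMap.toSpanSingleton Λ (P.obj (op b)) (z b)) 1)
          rw [LinearMap.toSpanSingleton_apply_one, LinearMap.toSpanSingleton_apply_one]
          simp only [z]
          rw [← ModuleCat.comp_apply, ARLib.tr_tr, ← hstep a b hab, ← ModuleCat.comp_apply, ARLib.tr_tr]⟩
      have h1 := ConcreteCategory.congr_hom (limit.lift_π c (op n)) (1 : Λ)
      rw [hP.eq_of_tgt (limit.lift P c) 0, zero_comp] at h1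
      have h2 : z n = 0 := (LinearMap.toSpanSingleton_apply_one Λ _ (z n)).symm.trans (h1.symm.trans (by simp))
      rw [← h2]
      exact (hstep 0 n (Nat.zero_le n)).symm
    obtain ⟨r, ⟨I'⟩⟩ := ARLib.exists_inv hv
    refine ⟨r, fun n => ?_⟩
    change ARSys.tr F (Nat.le_add_right n r) = 0
    rw [← I'.ψ_u n (n + r) le_rfl, (hY0 n).eq_of_tgt (I'.ψ n (n + r) le_rfl) 0, zero_comp]

end Groth.Agent.S13620
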