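import Mathlib
import Groth.Statements.S13623
-- import your own Groth.Agent.* helpers here

set_option autoImplicit false
universe u
open TensorProduct
open CAlg

namespace Groth.Agent.S13623

set_option synthInstance.maxHeartbeats 400000 in
set_option maxHeartbeats 800000 in
/-- Let A be a commutative ring and B a commutative A-algebra, graded by A-submodules B_m (m ≥ 0)
forming a graded-algebra structure, such that every B_m is a finitely generated A-module. If for
every algebraically closed field k and every A-algebra structure on k the k-algebra k ⊗_A B is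
generated by the image of B_1 under b ↦ 1 ⊗ b, then its degree-one part B_1 generates the A-algebra
B. (Algebraically closed fields are taken in the universe of A.) -/
theorem result
    (A : Type u) [CommRing A] (B : Type u) [CommRing B] [Algebra A B]
    (𝒜 : ℕ → Submodule A B) [GradedAlgebra 𝒜]
    (hfin : ∀ m : ℕ, Module.Finite A (𝒜 m))
    (hgen : ∀ (k : Type u) [Field k] [IsAlgClosed k] [Algebra A k],
      Algebra.adjoin k ((Algebra.TensorProduct.includeRight : B →ₐ[A] k ⊗[A] B) '' (𝒜 1 : Set B)) = ⊤) :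
    Algebra.adjoin A (𝒜 1 : Set B) = ⊤ := by
  classical
  let S : Submodule A B := Subalgebra.toSubmodule (Algebra.adjoin A (𝒜 1 : Set B))
  have hS : S = Submodule.span A (Submonoid.closure (𝒜 1 : Set B) : Set B) :=
    Algebra.adjoin_eq_span A (𝒜 1 : Set B)
  have hcl : ∀ x ∈ Submonoid.closure (𝒜 1 : Set B), ∃ d, x ∈ 𝒜 d := by
    intro x hx
    induction hx using Submonoid.closure_induction with
    | mem x hx => exact ⟨1, hx⟩
    | one => exact ⟨0, SetLike.one_mem_graded 𝒜⟩
    | mul x y _ _ hx hy =>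
      obtain ⟨d, hd⟩ := hx
      obtain ⟨e, he⟩ := hy
      exact ⟨d + e, SetLike.mul_mem_graded hd he⟩
  have hproj : ∀ m, ∀ x ∈ S, GradedAlgebra.proj 𝒜 m x ∈ S := by
    intro m x hx
    suffices h : S ≤ S.comap (GradedAlgebra.proj 𝒜 m) from h hx
    conv_lhs => rw [hS]
    rw [Submodule.span_le]
    intro y hy
    obtain ⟨d, hd⟩ := hcl y hy
    show GradedAlgebra.proj 𝒜 m y ∈ S
    rw [GradedAlgebra.proj_apply]
    by_cases hdm : d = m
    · subst hdm
      rw [DirectSum.decompose_of_mem_same 𝒜 hd, hS]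
      exact Submodule.subset_span hy
    · rw [DirectSum.decompose_of_mem_ne 𝒜 hd hdm]
      exact S.zero_mem
  -- each degree is generated
  suffices hm : ∀ m, (𝒜 m) ≤ S by
    refine eq_top_iff.mpr fun x _ => ?_
    rw [← DirectSum.sum_support_decompose 𝒜 x]
    exact sum_mem fun m _ => hm m (SetLike.coe_mem _)
  intro m
  have := hfin m
  let P : Submodule A (𝒜 m) := S.comap (𝒜 m).subtype
  let φ : B →ₗ[A] (𝒜 m ⧸ P) := P.mkQ ∘ₗ LinearMap.codRestrict (𝒜 m) (GradedAlgebra.proj 𝒜 m)
    (fun x => by rw [GradedAlgebra.proj_apply]; exact SetLike.coe_mem _)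
  have hφS : ∀ x ∈ S, φ x = 0 := fun x hx =>
    (Submodule.Quotient.mk_eq_zero P).mpr (hproj m x hx)
  have hφ : Function.Surjective φ := by
    intro q
    obtain ⟨⟨x, hx⟩, rfl⟩ := Submodule.mkQ_surjective P q
    refine ⟨x, congrArg P.mkQ (Subtype.ext ?_)⟩
    show GradedAlgebra.proj 𝒜 m x = x
    rw [GradedAlgebra.proj_apply, DirectSum.decompose_of_mem_same 𝒜 hx]
  suffices hQ : Subsingleton (𝒜 m ⧸ P) by
    intro x hx
    exact (Submodule.Quotient.mk_eq_zero P).mp
      (Subsingleton.elim (Submodule.Quotient.mk (⟨x, hx⟩ : 𝒜 m) : 𝒜 m ⧸ P) 0)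
  rw [← Module.support_eq_empty_iff (R := A), Set.eq_empty_iff_forall_notMem]
  intro p hp
  rw [Module.mem_support_iff_nontrivial_residueField_tensorProduct] at hp
  let k := AlgebraicClosure p.asIdeal.ResidueField
  have hsub : Subsingleton (k ⊗[A] (𝒜 m ⧸ P)) := by
    refine ⟨fun a b => ?_⟩
    suffices h : ∀ a : k ⊗[A] (𝒜 m ⧸ P), a = 0 by rw [h a, h b]
    intro a
    obtain ⟨z, rfl⟩ := LinearMap.lTensor_surjective k hφ a
    have hz : z ∈ Submodule.span k
        (Submonoid.closure ((Algebra.TensorProduct.includeRight : B →ₐ[A] k ⊗[A] B) ''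
          (𝒜 1 : Set B)) : Set (k ⊗[A] B)) := by
      rw [← Algebra.adjoin_eq_span, Subalgebra.mem_toSubmodule, hgen]
      exact Algebra.mem_top
    suffices h : z ∈ LinearMap.ker (φ.baseChange k) from h
    refine Submodule.span_le.mpr ?_ hz
    intro w hw
    rw [← MonoidHom.map_mclosure] at hw
    obtain ⟨y, hy, rfl⟩ := hw
    have hyS : y ∈ S := by
      rw [hS]
      exact Submodule.subset_span hy
    show φ.baseChange k ((1 : k) ⊗ₜ[A] y) = 0
    rw [LinearMap.baseChange_tmul, hφS y hyS, TensorProduct.tmul_zero]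
  have : Nontrivial (k ⊗[p.asIdeal.ResidueField] (p.asIdeal.ResidueField ⊗[A] (𝒜 m ⧸ P))) := by
    have := hp
    infer_instance
  exact not_nontrivial _
    ((TensorProduct.AlgebraTensorModule.cancelBaseChange A p.asIdeal.ResidueField k k
      (𝒜 m ⧸ P)).symm.toEquiv.nontrivial)

end Groth.Agent.S13623
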