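import Groth.Statements.S13626
import Groth.Agent.CExt24.PushEdge
import Groth.Agent.KFlatLib.Scheme.ProjLocFree
import Groth.Agent.SurfInt.Basic

set_option autoImplicit false
universe u
open CategoryTheory CategoryTheory.Limits AlgebraicGeometry
open Coh

namespace Groth.Agent.S13626

/-- Let f : X → Y be a morphism of schemes with R^i f_* O_X = 0 for every i ≥ 1 and f_* O_X ≅ O_Y. Then
for every invertible O_Y-module L and every p ≥ 0 the groups H^p(X, f^* L) and H^p(Y, L) are
isomorphic (existence of a group isomorphism; the higher direct images are the right derived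
functors of f_* on O_X-modules, under the instance argument recording that O_X-modules have
injective resolutions). -/
theorem result
    {X Y : Scheme.{u}} (f : X ⟶ Y) [HasInjectiveResolutions X.Modules]
    (hR : ∀ i : ℕ, IsZero ((Coh.Rpush f (i + 1)).obj (Coh.structureModule X)))
    (h0 : Nonempty ((Coh.push f).obj (Coh.structureModule X) ≅ Coh.structureModule Y))
    (L : Y.Modules) (hL : PicF.IsInvertible L) (p : ℕ) :
    Nonempty (Coh.HH X ((Scheme.Modules.pullback f).obj L) p ≃+ Coh.HH Y L p) := by
  obtain ⟨e₀⟩ := h0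
  have hE : FlatMod.IsFinLocFree L := Groth.Agent.H23.PullPush.isFinLocFree_of_isInvertible hL
  haveI := Groth.Agent.QCoh.preservesFiniteLimits_push f
  haveI := Groth.Agent.SpObjSS.enoughInjectives_of_hasInjectiveResolutions (C := X.Modules)
  let G := (Scheme.Modules.pullback f).obj L
  have key : ∀ q : ℕ, Nonempty (CohB1.tensorMod L ((Coh.Rpush f q).obj (Coh.structureModule X)) ≅
      (Coh.Rpush f q).obj G) := fun q => by
    obtain ⟨e⟩ := Groth.Agent.KFlatLib.nonempty_rpush_tensor_finLocFree f (Coh.structureModule X) L hE q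
    exact ⟨e ≪≫ (Coh.Rpush f q).mapIso (Groth.Agent.SurfInt.tUnit G)⟩
  have hG : ∀ q : ℕ, 0 < q → IsZero ((Coh.Rpush f q).obj G) := fun q hq => by
    obtain ⟨i, rfl⟩ := Nat.exists_eq_add_one.2 hq
    obtain ⟨e⟩ := key (i + 1)
    exact ((((DCoh.tensorBi (X := Y)).obj L).map_isZero (hR i))).of_iso e.symm
  obtain ⟨k⟩ := key 0
  let e : L ≅ (Scheme.Modules.pushforward f).obj G :=
    (Groth.Agent.SurfInt.tUnit L).symm ≪≫
      Groth.Agent.SurfInt.tMapR L (e₀.symm ≪≫
        ((Scheme.Modules.pushforward f).rightDerivedZeroIsoSelf.app (Coh.structureModule X)).symm) ≪≫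
      k ≪≫ (Scheme.Modules.pushforward f).rightDerivedZeroIsoSelf.app G
  let E := AddEquiv.ofBijective (CohPull.pushEdge f G p) (Groth.Agent.CExt24.bijective_pushEdge f G hG p)
  let H : Coh.HH Y L p ≃+ Coh.HH Y ((Scheme.Modules.pushforward f).obj G) p :=
    ((Sheaf.functorH _ p).mapIso ((Groth.Agent.QCoh.toAbFunctor Y).mapIso e)).addCommGroupIsoToAddEquiv
  exact ⟨(H.trans E).symm⟩

end Groth.Agent.S13626
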