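import Groth.Statements.S13632
import Mathlib


set_option autoImplicit false
universe u
open TensorProduct
open CAlg

namespace Groth.Agent.S13632

open TensorProduct in
theorem lTensor_field_injective
    {R A B : Type u} [CommRing R] [CommRing A] [CommRing B] [Algebra R A] [Algebra R B]
    [Module.Finite R A] [Module.Flat R A]
    (f : B →ₐ[R] A)
    (hrank : ∀ p : PrimeSpectrum R,
      Module.rank p.asIdeal.ResidueField (p.asIdeal.ResidueField ⊗[R] B) =
        Module.rank p.asIdeal.ResidueField (p.asIdeal.ResidueField ⊗[R] A))
    (hsurj : Function.Surjective f) (L : Type u) [Field L] [Algebra R L] :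
    Function.Injective (LinearMap.lTensor L f.toLinearMap) := by
  obtain ⟨p, hp⟩ : ∃ p : PrimeSpectrum R, p.asIdeal = RingHom.ker (algebraMap R L) :=
    ⟨⟨_, RingHom.ker_isPrime _⟩, rfl⟩
  let κ := p.asIdeal.ResidueField
  let F := f.toLinearMap.baseChange κ
  haveI : Module.Finite κ (κ ⊗[R] B) := by
    rw [← Module.rank_lt_aleph0_iff, hrank p]
    exact Module.rank_lt_aleph0 _ _
  have hFs : Function.Surjective F := LinearMap.lTensor_surjective κ hsurj
  have hFi : Function.Injective F := (LinearMap.injective_iff_surjective_of_finrank_eq_finrank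
    (congrArg Cardinal.toNat (hrank p))).mpr hFs
  let φ : κ →+* L := Ideal.ResidueField.lift p.asIdeal (algebraMap R L) hp.le
    (fun x hx => isUnit_iff_ne_zero.mpr fun h => hx (hp.ge h))
  letI : Algebra κ L := φ.toAlgebra
  haveI : IsScalarTower R κ L := IsScalarTower.of_algebraMap_eq fun r =>
    (Ideal.ResidueField.lift_algebraMap p.asIdeal (algebraMap R L) hp.le
      (fun x hx => isUnit_iff_ne_zero.mpr fun h => hx (hp.ge h)) r).symm
  let eB := AlgebraTensorModule.cancelBaseChange R κ L L B
  let eA := AlgebraTensorModule.cancelBaseChange R κ L L A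
  have hcomm : ∀ z, f.toLinearMap.lTensor L (eB z) = eA (F.lTensor L z) := by
    intro z
    induction z using TensorProduct.induction_on with
    | zero => simp
    | tmul l w =>
      induction w using TensorProduct.induction_on with
      | zero => simp
      | tmul c b => simp [eB, eA, F]
      | add x y hx hy => simp only [tmul_add, map_add, hx, hy]
    | add x y hx hy => simp only [map_add, hx, hy]
  intro x y h
  obtain ⟨x, rfl⟩ := eB.surjective x
  obtain ⟨y, rfl⟩ := eB.surjective y
  rw [hcomm, hcomm] at h
  exact congrArg eB (Module.Flat.lTensor_preserves_injective_linearMap F hFi (eA.injective h))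

open TensorProduct in
theorem ker_eq_bot_of_fibres {R' S T : Type u} [CommRing R']
    [CommRing S] [CommRing T] [Algebra R' S] [Algebra R' T] [Module.Projective R' T]
    (f' : S →ₐ[R'] T) (hf's : Function.Surjective f') (hKfg : (RingHom.ker f').FG)
    (hinjL : ∀ (L : Type u) [Field L] [Algebra R' L], Function.Injective (f'.toLinearMap.lTensor L)) :
    RingHom.ker f' = ⊥ := by
  set K : Ideal S := RingHom.ker f'
  haveI : Module.Finite (S) K := Module.Finite.iff_fg.mpr hKfg
  rw [← Submodule.subsingleton_iff_eq_bot, ← Module.support_eq_empty_iff (R := S),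
    Set.eq_empty_iff_forall_notMem]
  intro P hP
  rw [Module.mem_support_iff_nontrivial_residueField_tensorProduct] at hP
  let L := P.asIdeal.ResidueField
  refine not_subsingleton (L ⊗[S] K) ?_
  let ι : K →ₗ[R'] S := K.subtype.restrictScalars R'
  obtain ⟨σ, hσ⟩ := Module.projective_lifting_property f'.toLinearMap LinearMap.id hf's
  have hmemK : ∀ x, x - σ (f' x) ∈ K := fun x => by
    show f' (x - σ (f' x)) = 0
    rw [map_sub, sub_eq_zero]
    exact (LinearMap.congr_fun hσ (f' x)).symm
  let r : S →ₗ[R'] K :=
    { toFun := fun x => ⟨x - σ (f' x), hmemK x⟩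
      map_add' := fun x y => Subtype.ext (by simp; abel)
      map_smul' := fun c x => Subtype.ext (by
        simp only [map_smul, RingHom.id_apply, SetLike.val_smul_of_tower, smul_sub]) }
  have hr : r ∘ₗ ι = LinearMap.id := LinearMap.ext fun x => Subtype.ext (by
    show (x : S) - σ (f' x) = x
    rw [show f' x = 0 from x.2, map_zero, sub_zero])
  have hinj : Function.Injective (ι.lTensor L) := by
    refine Function.LeftInverse.injective (g := r.lTensor L) fun z => ?_
    rw [← LinearMap.comp_apply, ← LinearMap.lTensor_comp, hr, LinearMap.lTensor_id, LinearMap.id_apply]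
  have hzero : ∀ z : L ⊗[R'] K, z = 0 := fun z => hinj (hinjL L (by
    rw [← LinearMap.comp_apply, ← LinearMap.lTensor_comp,
      show f'.toLinearMap ∘ₗ ι = 0 from LinearMap.ext fun x => x.2, LinearMap.lTensor_zero]
    simp))
  refine subsingleton_of_forall_eq 0 fun z => ?_
  induction z using TensorProduct.induction_on with
  | zero => rfl
  | tmul l x =>
    let π : L ⊗[R'] K →ₗ[R'] L ⊗[S] K := TensorProduct.lift
      (((TensorProduct.mk (S) L K).restrictScalars₁₂ R' R'))
    show π (l ⊗ₜ[R'] x) = 0
    rw [hzero (l ⊗ₜ[R'] x), map_zero]
  | add x y hx hy => rw [hx, hy, add_zero]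

open TensorProduct in
theorem bijective_of_fibres
    {R A B : Type u} [CommRing R] [CommRing A] [CommRing B] [Algebra R A] [Algebra R B]
    [Module.Finite R A] [Module.Flat R A] [Algebra.FiniteType R B]
    (f : B →ₐ[R] A)
    (hrank : ∀ p : PrimeSpectrum R,
      Module.rank p.asIdeal.ResidueField (p.asIdeal.ResidueField ⊗[R] B) =
        Module.rank p.asIdeal.ResidueField (p.asIdeal.ResidueField ⊗[R] A))
    (hmax : ∀ (m : Ideal R) [m.IsMaximal],
      Function.Bijective (LinearMap.lTensor m.ResidueField f.toLinearMap)) :
    Function.Bijective f := by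
  classical
  have hsurj : Function.Surjective f := by
    let N := LinearMap.range f.toLinearMap
    have hQ : Subsingleton (A ⧸ N) := by
      rw [← Module.support_eq_empty_iff (R := R), Set.eq_empty_iff_forall_notMem]
      intro p hp
      obtain ⟨m, hm, hpm⟩ := Ideal.exists_le_maximal p.asIdeal p.isPrime.ne_top
      have h := Module.mem_support_mono (show p ≤ (⟨m, hm.isPrime⟩ : PrimeSpectrum R) from hpm) hp
      rw [Module.mem_support_iff_nontrivial_residueField_tensorProduct] at h
      refine not_subsingleton (m.ResidueField ⊗[R] (A ⧸ N)) (subsingleton_of_forall_eq 0 fun z => ?_)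
      obtain ⟨y, rfl⟩ := LinearMap.lTensor_surjective m.ResidueField N.mkQ_surjective z
      obtain ⟨x, rfl⟩ := (hmax m).2 y
      rw [← LinearMap.comp_apply, ← LinearMap.lTensor_comp,
        show N.mkQ ∘ₗ f.toLinearMap = 0 from LinearMap.range_mkQ_comp _,
        LinearMap.lTensor_zero, LinearMap.zero_apply]
    exact LinearMap.range_eq_top.mp (Submodule.Quotient.subsingleton_iff.mp hQ)
  have hfield := fun (L : Type u) [Field L] [Algebra R L] =>
    lTensor_field_injective f hrank hsurj L
  refine ⟨(injective_iff_map_eq_zero f).mpr fun b hb => ?_, hsurj⟩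
  suffices H : ∀ m : Ideal R, m.IsMaximal → ∃ s : R, s ∉ m ∧ s • b = 0 by
    have htop : LinearMap.ker (LinearMap.toSpanSingleton R B b) = ⊤ := by
      by_contra hne
      obtain ⟨m, hm, hle⟩ := Ideal.exists_le_maximal _ hne
      obtain ⟨s, hs, hsb⟩ := H m hm
      exact hs (hle (by simpa using hsb))
    simpa using (htop.ge (Submodule.mem_top : (1 : R) ∈ ⊤))
  intro m hm
  let R' := Localization.AtPrime m
  let f' : R' ⊗[R] B →ₐ[R'] R' ⊗[R] A := Algebra.TensorProduct.map (AlgHom.id R' R') f
  have hf's : Function.Surjective f' := LinearMap.lTensor_surjective R' hsurj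
  haveI : Module.Free R' (R' ⊗[R] A) := Module.free_of_flat_of_isLocalRing
  haveI : Algebra.FinitePresentation R' (R' ⊗[R] A) := by
    haveI : Module.FinitePresentation R' (R' ⊗[R] A) := Module.finitePresentation_of_projective _ _
    exact Algebra.FinitePresentation.of_finitePresentation ..
  let K : Ideal (R' ⊗[R] B) := RingHom.ker f'
  have hKfg : K.FG := by
    obtain ⟨k, g, hg⟩ := Algebra.FiniteType.iff_quotient_mvPolynomial''.mp
      (inferInstance : Algebra.FiniteType R' (R' ⊗[R] B))
    have h1 := (Algebra.FinitePresentation.ker_fg_of_mvPolynomial (f'.comp g) (hf's.comp hg)).map g.toRingHom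
    convert h1
    exact (Ideal.map_comap_of_surjective g.toRingHom hg K).symm
  have hK : K = ⊥ := by
    refine ker_eq_bot_of_fibres f' hf's hKfg fun L _ _ => ?_
    letI : Algebra R L := ((algebraMap R' L).comp (algebraMap R R')).toAlgebra
    haveI : IsScalarTower R R' L := IsScalarTower.of_algebraMap_eq' rfl
    let cB := AlgebraTensorModule.cancelBaseChange R R' L L B
    let cA := AlgebraTensorModule.cancelBaseChange R R' L L A
    have hc : ∀ z, cA (f'.toLinearMap.lTensor L z) = f.toLinearMap.lTensor L (cB z) := by
      intro z
      induction z using TensorProduct.induction_on with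
      | zero => simp
      | tmul l w =>
        induction w using TensorProduct.induction_on with
        | zero => simp
        | tmul c b => simp [cA, cB, f']
        | add x y hx hy => simp only [tmul_add, map_add, hx, hy]
      | add x y hx hy => simp only [map_add, hx, hy]
    exact fun x y h => cB.injective (hfield L (by rw [← hc, ← hc, h]))
  have hb1 : (1 : R') ⊗ₜ[R] b = 0 := by
    have : (1 : R') ⊗ₜ[R] b ∈ K := by simp [K, f', hb]
    rwa [hK, Ideal.mem_bot] at this
  have h2 := congrArg (LocalizedModule.equivTensorProduct m.primeCompl B).symm hb1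
  rw [map_zero, LocalizedModule.equivTensorProduct_symm_apply_tmul_one] at h2
  obtain ⟨s, hs⟩ := IsLocalizedModule.eq_zero_iff (S := m.primeCompl) (f := LocalizedModule.mkLinearMap m.primeCompl B) |>.mp h2
  exact ⟨s, s.2, hs⟩


/-- Let S = Spec R, X = Spec A finite and flat over S, Y = Spec B of finite type over S, and φ : X → Y
an S-morphism given by f : B → A. If for every point s of S the fibres X_s and Y_s have the same
order (the κ(s)-dimension of their rings of global sections κ(s) ⊗ A and κ(s) ⊗ B; equivalently at
every geometric point) and φ is an isomorphism over every closed point of S (κ(m) ⊗ f bijective for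
every maximal ideal m), then φ is an isomorphism, i.e. f is bijective. (The published statement
allows an arbitrary base scheme S and Y separated of finite type over S; this row is the case of an
affine base with X and Y affine, the case its proof treats directly. Over a base with no closed
points the general statement fails: the hypothesis at closed points is then empty.) -/
theorem result
    {R A B : Type u} [CommRing R] [CommRing A] [CommRing B] [Algebra R A] [Algebra R B]
    [Module.Finite R A] [Module.Flat R A] [Algebra.FiniteType R B]
    (f : B →ₐ[R] A)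
    (hrank : ∀ p : PrimeSpectrum R,
      Module.rank p.asIdeal.ResidueField (p.asIdeal.ResidueField ⊗[R] B) =
        Module.rank p.asIdeal.ResidueField (p.asIdeal.ResidueField ⊗[R] A))
    (hmax : ∀ (m : Ideal R) [m.IsMaximal],
      Function.Bijective (LinearMap.lTensor m.ResidueField f.toLinearMap)) :
    Function.Bijective f := by
  exact bijective_of_fibres f hrank hmax

end Groth.Agent.S13632
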