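import Groth.Statements.S13633
import Groth.Agent.PointFrob.Main

set_option backward.isDefEq.respectTransparency false
set_option backward.isDefEq.respectTransparency.types false

set_option autoImplicit false
universe u
open CategoryTheory CategoryTheory.Limits MonoidalCategory CartesianMonoidalCategory MonObj AlgebraicGeometry
open GrpSch

namespace Groth.Agent.S13633

/-- Let k be a field, K an algebraic closure of k, and ψ : G → H a homomorphism of commutative affine
group schemes of finite type over k. Assume that for every finite commutative group scheme I over k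
the map Hom(I, G) → Hom(I, H), f ↦ f ≫ ψ, on group-scheme homomorphisms is bijective, and that ψ
induces a bijection G(K) → H(K) on K-valued points. Then ψ is an isomorphism. (All group schemes are
commutative by the standing convention.) -/
theorem result
    {k : Type u} [Field k] (K : Type u) [Field K] [Algebra k K] [IsAlgClosure k K]
    (G H : Over (Spec (CommRingCat.of k)))
    [GrpObj G] [IsCommMonObj G] [GrpObj H] [IsCommMonObj H]
    [IsAffine G.left] [IsAffine H.left] [LocallyOfFiniteType G.hom] [LocallyOfFiniteType H.hom]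
    (ψ : G ⟶ H) [IsMonHom ψ]
    (hinj : ∀ (I : Over (Spec (CommRingCat.of k))) [GrpObj I] [IsCommMonObj I] [IsFinite I.hom]
      (f g : I ⟶ G) [IsMonHom f] [IsMonHom g], f ≫ ψ = g ≫ ψ → f = g)
    (hsurj : ∀ (I : Over (Spec (CommRingCat.of k))) [GrpObj I] [IsCommMonObj I] [IsFinite I.hom]
      (h : I ⟶ H) [IsMonHom h], ∃ f : I ⟶ G, IsMonHom f ∧ f ≫ ψ = h)
    (hpts : Function.Bijective fun x : Over.mk (Spec.map (CommRingCat.ofHom (algebraMap k K))) ⟶ G => x ≫ ψ) :
    IsIso ψ := by
  obtain ⟨A, _, _, ⟨eA⟩⟩ := Groth.Agent.GrpSchLib.AffineHopf.exists_hopf G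
  obtain ⟨B, _, _, ⟨eB⟩⟩ := Groth.Agent.GrpSchLib.AffineHopf.exists_hopf H
  let a := eA.hom.hom.hom
  let b := eB.hom.hom.hom
  haveI : IsMonHom a := eA.hom.hom.isMonHom_hom
  haveI : IsMonHom b := eB.hom.hom.isMonHom_hom
  haveI : IsIso a := (Grp.forget _).map_isIso eA.hom
  haveI : IsIso b := (Grp.forget _).map_isIso eB.hom
  haveI : IsMonHom (inv b) := eB.inv.hom.isMonHom_hom |> fun h => by
    have e : inv b = eB.inv.hom.hom := IsIso.inv_eq_of_hom_inv_id
      (congrArg (fun f => f.hom.hom) eB.hom_inv_id)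
    rwa [e]
  haveI : IsMonHom (inv a) := eA.inv.hom.isMonHom_hom |> fun h => by
    have e : inv a = eA.inv.hom.hom := IsIso.inv_eq_of_hom_inv_id
      (congrArg (fun f => f.hom.hom) eA.hom_inv_id)
    rwa [e]
  haveI : IsCommMonObj (Groth.Agent.GrpSchLib.AffineHopf.sp k A) := Groth.Agent.PointFrob.isCommMonObj_of_mono a
  haveI : IsCommMonObj (Groth.Agent.GrpSchLib.AffineHopf.sp k B) := Groth.Agent.PointFrob.isCommMonObj_of_mono b
  obtain ⟨φ, hφ⟩ := Groth.Agent.GrpSchLib.AffineHopf.exists_bialgHom (a ≫ ψ ≫ inv b)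
  haveI : IsIso a.left := (Over.forget _).map_isIso a
  haveI : IsIso b.left := (Over.forget _).map_isIso b
  haveI : Algebra.FiniteType k A := Groth.Agent.PointFrob.finiteType_of_lft (by rw [← Over.w a]; infer_instance)
  haveI : Algebra.FiniteType k B := Groth.Agent.PointFrob.finiteType_of_lft (by rw [← Over.w b]; infer_instance)
  have key := Groth.Agent.PointFrob.bijective_of_finite_of_points K φ
    (fun I _ _ _ f g _ _ h => by
      rw [← cancel_mono a]
      rw [← hφ] at h
      refine hinj I _ _ ?_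
      rw [← cancel_mono (inv b)]
      simpa [Category.assoc] using h)
    (fun I _ _ _ h _ => by
      obtain ⟨f, hf, e⟩ := hsurj I (h ≫ b)
      haveI := hf
      refine ⟨f ≫ inv a, inferInstance, ?_⟩
      rw [← hφ, Category.assoc, IsIso.inv_hom_id_assoc, reassoc_of% e, IsIso.hom_inv_id, Category.comp_id])
    (by
      have hsq : ∀ y : A →ₐ[k] K, (Groth.Agent.GrpSchLib.AffineHopf.spMap y ≫ a) ≫ ψ =
          Groth.Agent.GrpSchLib.AffineHopf.spMap (y.comp (φ : B →ₐ[k] A)) ≫ b := fun y => by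
        rw [← Groth.Agent.GrpSchLib.AffineHopf.spMap_comp, ← hφ]
        simp
      refine ⟨fun y y' h => ?_, fun z => ?_⟩
      · refine Groth.Agent.GrpSchLib.AffineHopf.spMap_injective ((cancel_mono a).1 (hpts.1 ?_))
        show (_ ≫ a) ≫ ψ = (_ ≫ a) ≫ ψ
        exact (hsq y).trans ((congrArg (fun w => Groth.Agent.GrpSchLib.AffineHopf.spMap w ≫ b) h).trans (hsq y').symm)
      · obtain ⟨x, hx⟩ := hpts.2 (Groth.Agent.GrpSchLib.AffineHopf.spMap z ≫ b)
        obtain ⟨y, hy⟩ := Groth.Agent.GrpSchLib.AffineHopf.exists_eq_spMap (x ≫ inv a)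
        refine ⟨y, Groth.Agent.GrpSchLib.AffineHopf.spMap_injective ((cancel_mono b).1 ?_)⟩
        rw [← hsq y, ← hy, Category.assoc x, IsIso.inv_hom_id, Category.comp_id]
        exact hx)
  haveI : IsIso (Groth.Agent.GrpSchLib.AffineHopf.spMap (φ : B →ₐ[k] A)) := by
    refine ⟨⟨Groth.Agent.GrpSchLib.AffineHopf.spMap (AlgEquiv.ofBijective (φ : B →ₐ[k] A) key).symm.toAlgHom, ?_, ?_⟩⟩
    · rw [Groth.Agent.GrpSchLib.AffineHopf.spMap_comp, ← Groth.Agent.GrpSchLib.AffineHopf.spMap_id]
      congr 1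
      exact AlgEquiv.comp_symm (AlgEquiv.ofBijective (φ : B →ₐ[k] A) key)
    · rw [Groth.Agent.GrpSchLib.AffineHopf.spMap_comp, ← Groth.Agent.GrpSchLib.AffineHopf.spMap_id]
      congr 1
      exact AlgEquiv.symm_comp (AlgEquiv.ofBijective (φ : B →ₐ[k] A) key)
  have e : ψ = inv a ≫ Groth.Agent.GrpSchLib.AffineHopf.spMap (φ : B →ₐ[k] A) ≫ b := by rw [← hφ]; simp
  rw [e]
  infer_instance

end Groth.Agent.S13633
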