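import Groth.Statements.S13664
import Groth.Agent.GrAlg95.PosGen

set_option autoImplicit false
universe u
open GrRing

namespace Groth.Agent.S13664

/-- Let A be a commutative ring graded by the integers whose ideal I generated by the homogeneous
elements of positive degree has homogeneous generators f_1, …, f_p, of positive degrees d_1, …, d_p,
let d be a positive integer divisible by each d_i, and let x be an element of an A-module M. The
following are equivalent: x is annihilated by some power of I; x is annihilated by (A_d)^n for all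
sufficiently large n; there is an integer s such that A_n x = 0 for all n ≥ s. (The published
statement is for a homogeneous element of a graded module; this row drops both the grading of M and
the homogeneity of x, which play no role.) -/
theorem result {R A : Type u} [CommRing R] [CommRing A] [Algebra R A]
    (𝒜 : ℤ → Submodule R A) [GradedAlgebra 𝒜]
    {p : ℕ} (f : Fin p → A) (deg : Fin p → ℤ) (hdeg : ∀ i, 0 < deg i) (hf : ∀ i, f i ∈ 𝒜 (deg i))
    (hgen : Ideal.span {a : A | ∃ n : ℤ, 0 < n ∧ a ∈ 𝒜 n} = Ideal.span (Set.range f))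
    (d : ℤ) (hd : 0 < d) (hdvd : ∀ i, deg i ∣ d)
    {M : Type u} [AddCommGroup M] [Module A M] (x : M) :
    [x ∈ GrLC.gam (Ideal.span (Set.range f)) M,
     ∃ n₀ : ℕ, ∀ n : ℕ, n₀ ≤ n → ∀ r ∈ (𝒜 d) ^ n, r • x = 0,
     ∃ s : ℤ, ∀ n : ℤ, s ≤ n → ∀ r ∈ 𝒜 n, r • x = 0].TFAE := by
  classical
  set I := Ideal.span (Set.range f) with hI
  have hdI : ∀ r ∈ 𝒜 d, r ∈ I := fun r hr => GrAlg95.mem_span_of_pos 𝒜 f hgen hd hr
  have hbig : ∀ k : ℕ, ∀ n : ℤ, d * p + d * k < n → ∀ r ∈ 𝒜 n, r ∈ I ^ k := by
    intro k
    induction k with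
    | zero => intro n _ r _; simp
    | succ k ih =>
      intro n hn r hr
      have hsum : 0 ≤ ∑ i, deg i := Finset.sum_nonneg fun i _ => (hdeg i).le
      have hk0 : 0 ≤ d * (k : ℤ) := by positivity
      rw [GrAlg95.piece_eq 𝒜 f deg hdeg hf hgen d hd hdvd n (by push_cast at hn; linarith)] at hr
      induction hr using Submodule.mul_induction_on' with
      | mem_mul_mem a ha b hb =>
        rw [pow_succ']
        exact Ideal.mul_mem_mul (hdI a ha) (ih (n - d) (by push_cast at hn; linarith) b hb)
      | add a _ b _ ha hb => exact add_mem ha hb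
  tfae_have 1 → 3 := by
    rintro ⟨k, hk⟩
    exact ⟨d * p + d * k + 1, fun n hn r hr => hk r (hbig k n (by linarith) r hr)⟩
  tfae_have 3 → 2 := by
    rintro ⟨s, hs⟩
    refine ⟨s.toNat, fun n hn r hr => ?_⟩
    have hle : ∀ n : ℕ, (𝒜 d) ^ n ≤ 𝒜 ((n : ℤ) * d) := by
      intro n
      induction n with
      | zero =>
        rw [pow_zero, Submodule.one_le]
        simpa using SetLike.one_mem_graded 𝒜
      | succ n ih =>
        rw [pow_succ]
        refine Submodule.mul_le.2 fun a ha b hb => ?_
        have := SetLike.mul_mem_graded (A := 𝒜) (ih ha) hb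
        rwa [show (n : ℤ) * d + d = ((n + 1 : ℕ) : ℤ) * d by push_cast; ring] at this
    refine hs _ ?_ r (hle n hr)
    have h1 : (s : ℤ) ≤ s.toNat := Int.self_le_toNat s
    have h2 : (s.toNat : ℤ) ≤ n := by exact_mod_cast hn
    nlinarith [Int.natCast_nonneg n]
  tfae_have 2 → 1 := by
    rintro ⟨n₀, hn₀⟩
    let J : Ideal A := (Submodule.span A {x}).annihilator
    have hmem : ∀ r, r ∈ J ↔ r • x = 0 := fun r => Submodule.mem_annihilator_span_singleton _ _
    have hrad : I ≤ J.radical := by
      rw [hI, Ideal.span_le]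
      rintro _ ⟨i, rfl⟩
      obtain ⟨e, he⟩ := hdvd i
      have he0 : 0 < e := by have := hdeg i; nlinarith
      obtain ⟨e, rfl⟩ := Int.eq_ofNat_of_zero_le he0.le
      refine ⟨e * n₀, (hmem _).2 (hn₀ n₀ le_rfl _ ?_)⟩
      rw [pow_mul]
      refine Submodule.pow_mem_pow _ ?_ n₀
      have := SetLike.pow_mem_graded e (hf i)
      rwa [nsmul_eq_mul, show ((e : ℕ) : ℤ) * deg i = d by rw [he, mul_comm]] at this
    obtain ⟨k, hk⟩ := Ideal.exists_pow_le_of_le_radical_of_fg hrad ⟨(Finset.univ.image f), by simp [hI]⟩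
    exact ⟨k, fun r hr => (hmem r).1 (hk hr)⟩
  tfae_finish

end Groth.Agent.S13664
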