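import Groth.Statements.S1371
import Groth.Agent.FlatFibres.CokerFlat

set_option autoImplicit false
universe u
open FlatMor

namespace Groth.Agent.S1371

/-- Let R be a Noetherian domain, R → A → B ring maps of finite type, M a finite A-module, N a finite
B-module and u : M → N an A-linear map. Then there is a nonzero f in R such that the cokernel of u,
localized at f, is a flat module over R[1/f]. -/
theorem result {R A B : Type u} [CommRing R] [IsDomain R] [IsNoetherianRing R] [CommRing A] [CommRing B]
    [Algebra R A] [Algebra A B] [Algebra R B] [IsScalarTower R A B] [Algebra.FiniteType R A] [Algebra.FiniteType A B]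
    {M N : Type u} [AddCommGroup M] [Module A M] [Module R M] [IsScalarTower R A M] [Module.Finite A M]
    [AddCommGroup N] [Module B N] [Module A N] [Module R N] [IsScalarTower A B N] [IsScalarTower R A N] [Module.Finite B N]
    (u : M →ₗ[A] N) :
    ∃ f : R, f ≠ 0 ∧ Module.Flat (Localization.Away f)
      (LocalizedModule (Submonoid.powers f) (N ⧸ (LinearMap.range u).restrictScalars R)) := by
  obtain ⟨m, φ, hφ⟩ := Algebra.FiniteType.iff_quotient_mvPolynomial''.1 (‹Algebra.FiniteType A B›)
  haveI : IsScalarTower R B N := .of_algebraMap_smul fun r x => by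
    rw [IsScalarTower.algebraMap_apply R A B, IsScalarTower.algebraMap_smul, IsScalarTower.algebraMap_smul]
  letI : Algebra (MvPolynomial (Fin m) A) B := φ.toRingHom.toAlgebra
  haveI : IsScalarTower A (MvPolynomial (Fin m) A) B := IsScalarTower.of_algebraMap_eq fun a => (φ.commutes a).symm
  letI : Module (MvPolynomial (Fin m) A) N := Module.compHom N (algebraMap (MvPolynomial (Fin m) A) B)
  haveI : IsScalarTower (MvPolynomial (Fin m) A) B N := .of_algebraMap_smul fun _ _ => rfl
  haveI : IsScalarTower A (MvPolynomial (Fin m) A) N := .of_algebraMap_smul fun a x => by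
    show algebraMap (MvPolynomial (Fin m) A) B (algebraMap A (MvPolynomial (Fin m) A) a) • x = a • x
    rw [← IsScalarTower.algebraMap_apply, IsScalarTower.algebraMap_smul]
  haveI : Module.Finite (MvPolynomial (Fin m) A) B :=
    Module.Finite.of_surjective (Algebra.linearMap (MvPolynomial (Fin m) A) B) hφ
  haveI : Module.Finite (MvPolynomial (Fin m) A) N := Module.Finite.trans B N
  exact FlatFibres.exists_flat_localized_quotient (m := m) (LinearMap.range u)
    (Module.Finite.iff_fg.mp (Module.Finite.range u))

end Groth.Agent.S1371
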