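import Groth.Statements.S13712
import Groth.Agent.ZCImage.Affine

set_option autoImplicit false
universe u
open CategoryTheory CategoryTheory.Limits AlgebraicGeometry
open ZeroCyc

namespace Groth.Agent.S13712

/-- Let f : X → Y and g : Y → S be morphisms of schemes with g separated, such that the composite X → S
is integral with topologically finite fibres (every fibre is a finite set). Then the
scheme-theoretic image Y' of f, with its closed immersion Y' → Y, is integral over S, and Y' → S
again has topologically finite fibres. (The published statement is for algebraic spaces; this row is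
the case of schemes.) -/
theorem result {X Y S : Scheme.{u}} (f : X ⟶ Y) (g : Y ⟶ S)
    [IsSeparated g] [IsIntegralHom (f ≫ g)] (hfin : ∀ s : S, Set.Finite ((f ≫ g).base ⁻¹' {s})) :
    IsIntegralHom (f.imageι ≫ g) ∧ ∀ s : S, Set.Finite ((f.imageι ≫ g).base ⁻¹' {s}) := by
  haveI : IsIntegralHom f := IsIntegralHom.of_comp f g
  haveI : IsIntegralHom f.toImage := by
    have : IsIntegralHom (f.toImage ≫ f.imageι) := by rwa [Scheme.Hom.toImage_imageι]
    exact IsIntegralHom.of_comp f.toImage f.imageι
  haveI : Surjective f.toImage := by
    constructor
    intro y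
    have h1 := f.toImage.isClosedMap.isClosed_range
    have h2 : DenseRange f.toImage.base := f.toImage.denseRange
    have : Set.range f.toImage.base = Set.univ := by
      rw [← h1.closure_eq]
      exact h2.closure_range
    exact Set.mem_range.mp (this.symm.subset (Set.mem_univ y))
  have hcomp : f.toImage ≫ (f.imageι ≫ g) = f ≫ g := by
    rw [← Category.assoc, Scheme.Hom.toImage_imageι]
  haveI : IsIntegralHom (f.toImage ≫ (f.imageι ≫ g)) := by rwa [hcomp]
  refine ⟨Groth.Agent.ZCImage.isIntegralHom_of_surjective f.toImage (f.imageι ≫ g)
    (fun s => by rw [hcomp]; exact hfin s), fun s => ?_⟩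
  refine ((hfin s).image f.toImage.base).subset ?_
  intro y hy
  obtain ⟨x, rfl⟩ := f.toImage.surjective y
  refine ⟨x, ?_, rfl⟩
  simp only [Set.mem_preimage, Set.mem_singleton_iff] at hy ⊢
  rw [← hcomp]
  exact hy

end Groth.Agent.S13712
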