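import Groth.Statements.S1372
import Groth.Agent.FlatFibres.UnivOpenLinearForm

set_option autoImplicit false
universe u
open FlatMor
open scoped TensorProduct

namespace Groth.Agent.S1372

open AlgebraicGeometry CategoryTheory Limits in
/-- Let A → B be a ring map and b_1, ..., b_d elements generating B as an A-module. Let h = Σ x_i b_i in
the polynomial ring B[x_1, ..., x_d]. Then universal openness of Spec B → Spec A is equivalent to
openness of the image in Spec A[x_1, ..., x_d] of the basic open D(h). -/
theorem result {A B : Type u} [CommRing A] [CommRing B] [Algebra A B] {d : ℕ} (b : Fin d → B)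
    (hb : Submodule.span A (Set.range b) = ⊤) :
    UniversallyOpen (Spec.map (CommRingCat.ofHom (algebraMap A B))) ↔
      IsOpen (PrimeSpectrum.comap (MvPolynomial.map (σ := Fin d) (algebraMap A B)) ''
        (PrimeSpectrum.basicOpen (∑ i : Fin d, MvPolynomial.X i * MvPolynomial.C (b i)) : Set (PrimeSpectrum (MvPolynomial (Fin d) B)))) := by
  constructor
  · intro hf
    let e := MvPolynomial.algebraTensorAlgEquiv (R := A) (σ := Fin d) B
    have hcomp : (MvPolynomial.map (σ := Fin d) (algebraMap A B)) = e.toRingEquiv.toRingHom.comp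
        (Algebra.TensorProduct.includeRight : MvPolynomial (Fin d) A →ₐ[A] B ⊗[A] MvPolynomial (Fin d) A).toRingHom :=
      RingHom.ext fun p => by
        show _ = e (1 ⊗ₜ p)
        rw [MvPolynomial.algebraTensorAlgEquiv_tmul, one_smul]
    have hrm : IsOpenMap (pullback.snd (Spec.map (CommRingCat.ofHom (algebraMap A B)))
        (Spec.map (CommRingCat.ofHom (algebraMap A (MvPolynomial (Fin d) A))))) :=
      Scheme.Hom.isOpenMap _
    have hinc : IsOpenMap (PrimeSpectrum.comap (Algebra.TensorProduct.includeRight :
        MvPolynomial (Fin d) A →ₐ[A] B ⊗[A] MvPolynomial (Fin d) A).toRingHom) := by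
      have := hrm.comp (pullbackSpecIso A B (MvPolynomial (Fin d) A)).inv.isOpenEmbedding.isOpenMap
      rw [← TopCat.coe_comp, ← Scheme.Hom.comp_base, pullbackSpecIso_inv_snd] at this
      exact this
    have hall : IsOpenMap (PrimeSpectrum.comap (MvPolynomial.map (σ := Fin d) (algebraMap A B))) := by
      rw [hcomp]
      have he : IsOpenMap (PrimeSpectrum.comap e.toRingEquiv.toRingHom) :=
        (PrimeSpectrum.homeomorphOfRingEquiv e.toRingEquiv).symm.isOpenMap
      have hfun : PrimeSpectrum.comap (e.toRingEquiv.toRingHom.comp (Algebra.TensorProduct.includeRight :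
          MvPolynomial (Fin d) A →ₐ[A] B ⊗[A] MvPolynomial (Fin d) A).toRingHom) =
          PrimeSpectrum.comap (Algebra.TensorProduct.includeRight :
            MvPolynomial (Fin d) A →ₐ[A] B ⊗[A] MvPolynomial (Fin d) A).toRingHom ∘
          PrimeSpectrum.comap e.toRingEquiv.toRingHom := funext fun x => PrimeSpectrum.comap_comp_apply _ _ x
      rw [hfun]
      exact hinc.comp he
    exact hall _ (PrimeSpectrum.basicOpen _).isOpen
  · intro ho
    exact FlatFibres.universallyOpen_of_isOpenMap_comap fun A' _ _ =>
      FlatFibres.isOpenMap_comap_includeRight b hb ho A'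

end Groth.Agent.S1372
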