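import Groth.Statements.S13733
import Groth.Agent.HTop83.HRefine
import Groth.Agent.HTopCov.Spec
import Groth.Agent.HTopCov.V
import Groth.Agent.H23.RedSub

set_option autoImplicit false
set_option backward.isDefEq.respectTransparency false
set_option backward.isDefEq.respectTransparency.types false
universe u
open HTop

namespace Groth.Agent.S13733

open CategoryTheory CategoryTheory.Limits AlgebraicGeometry in
/-- Let Y be a separated Noetherian scheme and {p_j : Y_j → Y} a finite family of separated morphisms of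
finite type whose induced morphism from the disjoint union of the Y_j to Y is universally submersive
(an h-covering). Then there are: a reduced scheme Y_red with a surjective closed immersion ι : Y_red
→ Y, a surjective blow-up b : Y'' → Y_red of Y_red in some quasi-coherent sheaf of ideals (b has the
universal property of the blowing up), a finite surjective morphism q : Y' → Y'', and finitely many
open subschemes V_1, …, V_n covering Y', such that the composite p = q ≫ b ≫ ι is proper and
surjective and every composite V_i → Y' → Y factors through some member of the family. -/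
theorem result {Y : Scheme.{u}} [IsNoetherian Y] [Y.IsSeparated] (E : PreZeroHypercover.{u} Y) [Finite E.I₀] [∀ j, LocallyOfFiniteType (E.f j)] [∀ j, QuasiCompact (E.f j)] [∀ j, IsSeparated (E.f j)] (hE : SGA1.UnivSubmersive (Sigma.desc E.f)) : ∃ (Yr Y'' Y' : Scheme.{u}) (ι : Yr ⟶ Y) (𝓘 : Yr.IdealSheafData) (b : Y'' ⟶ Yr) (q : Y' ⟶ Y'') (n : ℕ) (V : Fin n → Y'.Opens), IsClosedImmersion ι ∧ Surjective ι ∧ IsReduced Yr ∧ BlowUp.IsBlowUp b 𝓘 ∧ Surjective b ∧ IsFinite q ∧ Surjective q ∧ IsProper (q ≫ b ≫ ι) ∧ Surjective (q ≫ b ≫ ι) ∧ ⨆ i, V i = ⊤ ∧ ∀ i, ∃ (j : E.I₀) (h : (↑(V i) : Scheme.{u}) ⟶ E.X j), h ≫ E.f j = (V i).ι ≫ q ≫ b ≫ ι := by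
  have hH := (Groth.Agent.S8977.result E).1 hE
  let Yr := (Scheme.IdealSheafData.vanishingIdeal (⊤ : TopologicalSpace.Closeds Y)).subscheme
  let ι : Yr ⟶ Y := (Scheme.IdealSheafData.vanishingIdeal (⊤ : TopologicalSpace.Closeds Y)).subschemeι
  haveI hred : IsReduced Yr := Groth.Agent.H23.RedSub.isReduced_vanishingIdeal _
  haveI hι : IsClosedImmersion ι := inferInstanceAs (IsClosedImmersion (Scheme.IdealSheafData.subschemeι _))
  haveI hsurj : Surjective ι := ⟨Set.range_eq_univ.1 (by
    show Set.range (Scheme.IdealSheafData.subschemeι _) = Set.univ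
    rw [Scheme.IdealSheafData.range_subschemeι, Scheme.IdealSheafData.coe_support_vanishingIdeal]
    rfl)⟩
  haveI : CompactSpace ↥Yr := QuasiCompact.compactSpace_of_compactSpace ι
  haveI : IsLocallyNoetherian Yr := LocallyOfFiniteType.isLocallyNoetherian ι
  haveI : IsNoetherian Yr := ⟨⟩
  let E' := E.pullback₁ ι
  haveI : Finite E'.I₀ := inferInstanceAs (Finite E.I₀)
  haveI : ∀ j, QuasiCompact (E'.f j) := fun j =>
    by
    haveI : MorphismProperty.IsStableUnderBaseChange @QuasiCompact.{u} := inferInstance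
    exact MorphismProperty.pullback_fst (P := @QuasiCompact) ι (E.f j) (‹∀ j, QuasiCompact (E.f j)› j)
  haveI : ∀ j, LocallyOfFiniteType (E'.f j) := fun j =>
    by
    haveI : MorphismProperty.IsStableUnderBaseChange @LocallyOfFiniteType.{u} := inferInstance
    exact MorphismProperty.pullback_fst (P := @LocallyOfFiniteType) ι (E.f j) (‹∀ j, LocallyOfFiniteType (E.f j)› j)
  obtain ⟨X', P, I, b, q, hb, hbp, hbs, hq, hqs, hl⟩ := Groth.Agent.HTop83.exists_blowUp_refinement E'
    (Groth.Agent.HTopCov.hasValLift_of_isVCover (Groth.Agent.HTopCov.isVCover_pullback₁ ι E hH.2))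
  haveI := hbp
  haveI := hbs
  haveI := hq
  haveI := hqs
  haveI : IsProper (q ≫ b ≫ ι) := inferInstance
  haveI : Surjective (q ≫ b ≫ ι) := inferInstance
  haveI : CompactSpace ↥P := QuasiCompact.compactSpace_of_compactSpace (q ≫ b)
  obtain ⟨n, V, hV, hlift⟩ := Groth.Agent.HTop83.exists_opens_of_liftsAt E' (q ≫ b) hl
  refine ⟨Yr, X', P, ι, I, b, q, n, V, hι, hsurj, hred, hb, hbs, hq, hqs, inferInstance, inferInstance, hV,
    fun i => ?_⟩
  obtain ⟨j, h, hh⟩ := hlift i
  refine ⟨j, h ≫ pullback.snd ι (E.f j), ?_⟩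
  refine (Category.assoc _ _ _).trans ((congrArg (h ≫ ·) pullback.condition.symm).trans ?_)
  refine (Category.assoc _ _ _).symm.trans ((congrArg (· ≫ ι) hh).trans ?_)
  simp only [Category.assoc]

end Groth.Agent.S13733
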