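import Groth.Statements.S13734
import Groth.Agent.HTop83.Noeth

set_option autoImplicit false
universe u
open HTop

namespace Groth.Agent.S13734

open CategoryTheory CategoryTheory.Limits AlgebraicGeometry in
/-- Let S be a separated Noetherian scheme and f : X → S a separated morphism of finite type. Then f is
universally submersive (an h-covering) if and only if, for every discrete valuation ring R and every
morphism g : Spec R → S, there are a discrete valuation ring R', a morphism φ : Spec R' → Spec R
surjective on points and a morphism h : Spec R' → X with h ≫ f = φ ≫ g. -/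
theorem result {X S : Scheme.{u}} [IsNoetherian S] [S.IsSeparated] (f : X ⟶ S) [LocallyOfFiniteType f] [QuasiCompact f] [IsSeparated f] : SGA1.UnivSubmersive f ↔ ∀ (R : Type u) [CommRing R] [IsDomain R] [IsDiscreteValuationRing R] (g : Spec (CommRingCat.of R) ⟶ S), ∃ (R' : Type u) (_ : CommRing R') (_ : IsDomain R') (_ : IsDiscreteValuationRing R') (φ : Spec (CommRingCat.of R') ⟶ Spec (CommRingCat.of R)) (h : Spec (CommRingCat.of R') ⟶ X), Surjective φ ∧ h ≫ f = φ ≫ g := by
  constructor
  · intro hf R _ _ _ g
    let P := pullback g f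
    obtain ⟨q, p, hqp, hq, hp⟩ := Groth.Agent.HTopCov.exists_specializes_of_isQuotientMap (R := CommRingCat.of R)
      (pullback.fst g f) (hf _ _ _ (IsPullback.of_hasPullback g f))
    have hne : p ≠ q := fun e => IsDiscreteValuationRing.not_a_field R <| by
      subst e
      exact congrArg PrimeSpectrum.asIdeal (hp.symm.trans hq)
    haveI : IsLocallyNoetherian P := LocallyOfFiniteType.isLocallyNoetherian (pullback.fst g f)
    obtain ⟨A, h, hA, hh, hgen⟩ := Groth.Agent.S4450.result (𝟙 P) q p hqp hne
    refine ⟨A, inferInstance, inferInstance, hA, h ≫ pullback.fst g f, h ≫ pullback.snd g f, ⟨fun z => ?_⟩, ?_⟩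
    · let s : PrimeSpectrum (P.residueField q) := ⊥
      have e' : (Spec.map (CommRingCat.ofHom A.subtype)) s = (⊥ : PrimeSpectrum A) :=
        PrimeSpectrum.ext ((RingHom.injective_iff_ker_eq_bot A.subtype).mp Subtype.val_injective)
      have h0 : h (⊥ : PrimeSpectrum A) = q := by
        rw [← e']
        change (Spec.map (CommRingCat.ofHom A.subtype) ≫ h) s = q
        rw [hgen, Category.comp_id]
        exact Scheme.fromSpecResidueField_apply _ _
      by_cases hz : (show PrimeSpectrum R from z).asIdeal = ⊥
      · refine ⟨(⊥ : PrimeSpectrum A), ?_⟩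
        change (pullback.fst g f) (h (⊥ : PrimeSpectrum A)) = z
        rw [h0, hq]
        exact (PrimeSpectrum.ext hz).symm
      · refine ⟨IsLocalRing.closedPoint A, ?_⟩
        change (pullback.fst g f) (h (IsLocalRing.closedPoint A)) = z
        refine (congrArg _ hh).trans (hp.trans ?_)
        exact (PrimeSpectrum.ext (IsLocalRing.eq_maximalIdeal
          ((show PrimeSpectrum R from z).isPrime.isMaximal hz))).symm
    · rw [Category.assoc, Category.assoc, pullback.condition]
  · intro H
    refine Groth.Agent.HTop83.univSubmersive_of_hasValLift f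
      (Groth.Agent.HTop83.hasValLift_of_hasDVRLift f fun R _ _ g => ?_)
    obtain ⟨R', i1, i2, i3, φ, h, hs, hh⟩ := H R g
    obtain ⟨ψ, rfl⟩ : ∃ ψ : CommRingCat.of R ⟶ CommRingCat.of R', Spec.map ψ = φ :=
      ⟨Spec.preimage φ, Spec.map_preimage φ⟩
    refine ⟨CommRingCat.of R', inferInstance, i2, ψ, h, ?_, ?_, hh⟩
    · obtain ⟨z, hz⟩ := hs.surj (⊥ : PrimeSpectrum R)
      refine (RingHom.injective_iff_ker_eq_bot _).mpr (eq_bot_iff.mpr fun x hx => ?_)
      have : x ∈ ((Spec.map ψ) z : PrimeSpectrum R).asIdeal := by
        change ψ.hom x ∈ (show PrimeSpectrum R' from z).asIdeal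
        rw [(RingHom.mem_ker (f := ψ.hom)).mp hx]
        exact zero_mem _
      rw [hz] at this
      exact this
    · obtain ⟨z, hz⟩ := hs.surj (IsLocalRing.closedPoint R)
      refine ((IsLocalRing.local_hom_TFAE ψ.hom).out 0 4).mpr
        (le_antisymm (IsLocalRing.le_maximalIdeal (Ideal.comap_ne_top _ (Ideal.IsPrime.ne_top inferInstance))) ?_)
      exact (congrArg PrimeSpectrum.asIdeal hz).ge.trans
        (Ideal.comap_mono (IsLocalRing.le_maximalIdeal (show PrimeSpectrum R' from z).isPrime.ne_top))

end Groth.Agent.S13734
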