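import Groth.Statements.S13736
import Groth.Agent.HTop83.Unibranch

set_option autoImplicit false
universe u
open HTop

namespace Groth.Agent.S13736

open CategoryTheory CategoryTheory.Limits AlgebraicGeometry in
/-- Let X be a separated irreducible Noetherian scheme whose local rings are all geometrically
unibranch, and {p_i : U_i → X} a finite family of separated quasi-finite morphisms of finite type
with every U_i irreducible. Then the induced morphism from the disjoint union of the U_i to X is
universally submersive (a qfh-covering) if and only if the dominant members p_i are jointly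
surjective onto X; in that case the induced morphism from the disjoint union of the dominant members
alone is already universally submersive. (The published statement does not require the U_i
irreducible; for the affine line X over a field and the single member U = (X minus a closed point) ⊔
(that point) → X, which is dominant and surjective, the quotient property fails, and the published
proof uses that every irreducible component of a dominant member dominates X, so the members are
taken irreducible here.) -/
theorem result {X : Scheme.{u}} [IsNoetherian X] [X.IsSeparated] [IrreducibleSpace ↥X] (hX : ∀ x : X, CAlg2.IsGeomUnibranch (X.presheaf.stalk x)) (E : PreZeroHypercover.{u} X) [Finite E.I₀] [∀ i, LocallyOfFiniteType (E.f i)] [∀ i, QuasiCompact (E.f i)] [∀ i, LocallyQuasiFinite (E.f i)] [∀ i, IsSeparated (E.f i)] [∀ i, IrreducibleSpace ↥(E.X i)] : (SGA1.UnivSubmersive (Sigma.desc E.f) ↔ ∀ x : X, ∃ (i : E.I₀) (u : E.X i), IsDominant (E.f i) ∧ E.f i u = x) ∧ ((∀ x : X, ∃ (i : E.I₀) (u : E.X i), IsDominant (E.f i) ∧ E.f i u = x) → SGA1.UnivSubmersive (Sigma.desc fun j : {i : E.I₀ // IsDominant (E.f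 i)} => E.f j.1)) := by
  have key : (∀ x : X, ∃ (i : E.I₀) (u : E.X i), IsDominant (E.f i) ∧ E.f i u = x) →
      SGA1.UnivSubmersive (Sigma.desc fun j : {i : E.I₀ // IsDominant (E.f i)} => E.f j.1) := by
    intro h
    refine Groth.Agent.HTop83.univSubmersive_of_universallyOpen _ (fun j => ?_) fun x => ?_
    · haveI := j.2
      exact Groth.Agent.HTop83.universallyOpen_of_isDominant hX (E.f j.1)
    · obtain ⟨i, u, hd, hu⟩ := h x
      exact ⟨⟨i, hd⟩, u, hu⟩
  refine ⟨⟨fun hE x => ?_, fun h => ?_⟩, key⟩
  · obtain ⟨i, ξ, u, hξu, hu, hmem⟩ := Groth.Agent.HTopCov.exists_specializes_over_generic hE x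
    refine ⟨i, u, ⟨?_⟩, hu⟩
    rw [DenseRange, dense_iff_closure_eq]
    have h1 : closure {E.f i ξ} = Set.univ := by
      refine Set.eq_univ_of_univ_subset ?_
      exact hmem.2 (IrreducibleSpace.isIrreducible_univ ↥X) (Set.subset_univ _)
    exact Set.eq_univ_of_univ_subset (h1 ▸ closure_mono (Set.singleton_subset_iff.mpr (Set.mem_range_self ξ)))
  · refine Groth.Agent.HTop83.univSubmersive_of_comp
      (Sigma.desc fun j : {i : E.I₀ // IsDominant (E.f i)} => Sigma.ι E.X j.1) _ ?_
    have e : (Sigma.desc fun j : {i : E.I₀ // IsDominant (E.f i)} => Sigma.ι E.X j.1) ≫ Sigma.desc E.f =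
        Sigma.desc fun j : {i : E.I₀ // IsDominant (E.f i)} => E.f j.1 :=
      Sigma.hom_ext _ _ fun j => by simp
    rw [e]
    exact key h

end Groth.Agent.S13736
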