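import Groth.Statements.S1374
import Groth.Agent.FlatFibres.RdZero

set_option autoImplicit false
universe u
open FlatMor

namespace Groth.Agent.S1374

open AlgebraicGeometry CategoryTheory Limits in
/-- Let f : X ⟶ S be locally of finite type and x ⤳ x' a specialization of points of X, with x' a closed
point of its fibre f⁻¹(f(x')) and f(x) ≠ f(x'). Then the points x₁ with f(x₁) = f(x) which are
closed in the fibre f⁻¹(f(x)) and satisfy x ⤳ x₁ ⤳ x' are dense in the closure of {x} intersected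
with the fibre f⁻¹(f(x)) (fibres taken as subspaces of X). (The published statement omits the
condition f(x) ≠ f(x'), but the claim fails without it; it is stated here with that condition.) -/
theorem result {X S : Scheme.{u}} (f : X ⟶ S) [LocallyOfFiniteType f] (x x' : X) (hsp : x ⤳ x') (hne : f x ≠ f x')
    (hcl : IsClosed (Subtype.val ⁻¹' {x'} : Set ↑(f ⁻¹' {f x'}))) :
    Dense (Subtype.val ⁻¹' {x₁ : ↑X | f x₁ = f x ∧ IsClosed (Subtype.val ⁻¹' {x₁} : Set ↑(f ⁻¹' {f x})) ∧ x ⤳ x₁ ∧ x₁ ⤳ x'} :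
      Set ↑(closure {x} ∩ f ⁻¹' {f x})) := by
  rw [dense_iff_inter_open]
  rintro O hO ⟨⟨z, hz, hzf⟩, hzO⟩
  obtain ⟨W, hW, rfl⟩ := isOpen_induced_iff.1 hO
  have hxW : x ∈ W := (specializes_iff_mem_closure.2 hz).mem_open hW hzO
  obtain ⟨V, hV, hx'V, -⟩ := exists_isAffineOpen_mem_and_subset (X := S) (x := f x') (U := ⊤) trivial
  obtain ⟨U, hU, hx'U, hUV⟩ := exists_isAffineOpen_mem_and_subset (X := X) (x := x') (U := f ⁻¹ᵁ V) hx'V
  have hxU : x ∈ U := hsp.mem_open U.2 hx'U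
  letI : Algebra Γ(S, V) Γ(X, U) := (f.appLE V U hUV).hom.toAlgebra
  haveI : Algebra.FiniteType Γ(S, V) Γ(X, U) := f.finiteType_appLE hV hU hUV
  obtain ⟨g, hgW, hxg⟩ := hU.exists_basicOpen_le (V := ⟨W, hW⟩) ⟨x, hxW⟩ hxU
  let P := hU.primeIdealOf ⟨x, hxU⟩
  let P' := hU.primeIdealOf ⟨x', hx'U⟩
  have hP : hU.fromSpec P = x := hU.fromSpec_primeIdealOf ⟨x, hxU⟩
  have hP' : hU.fromSpec P' = x' := hU.fromSpec_primeIdealOf ⟨x', hx'U⟩
  have hle : ∀ Q Q' : PrimeSpectrum Γ(X, U), hU.fromSpec Q ⤳ hU.fromSpec Q' ↔ Q.asIdeal ≤ Q'.asIdeal := fun Q Q' =>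
    (hU.fromSpec.isOpenEmbedding.isEmbedding.isInducing.specializes_iff).trans (PrimeSpectrum.le_iff_specializes Q Q').symm
  have hf : ∀ Q : PrimeSpectrum Γ(X, U), f (hU.fromSpec Q) = hV.fromSpec (PrimeSpectrum.comap (algebraMap Γ(S, V) Γ(X, U)) Q) := by
    intro Q
    exact (Scheme.Hom.comp_apply _ _ _).symm.trans ((congrArg (fun φ => φ Q) (hV.SpecMap_appLE_fromSpec f hU hUV).symm).trans (Scheme.Hom.comp_apply _ _ _))
  have hne' : P.asIdeal.comap (algebraMap Γ(S, V) Γ(X, U)) ≠ P'.asIdeal.comap (algebraMap Γ(S, V) Γ(X, U)) := fun h => hne (by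
    rw [← hP, ← hP', hf, hf]
    exact congrArg hV.fromSpec (PrimeSpectrum.ext h))
  have halg := (Groth.Agent.FlatFibres.rd_eq_zero_iff f hV hU hUV P').1 (by
    rw [hP']; exact Groth.Agent.FlatFibres.rd_eq_zero_of_isClosed_fibre f hcl)
  have hgP : g ∉ P.asIdeal := by
    have : P ∈ hU.fromSpec ⁻¹ᵁ X.basicOpen g := by show hU.fromSpec P ∈ X.basicOpen g; rw [hP]; exact hxg
    rw [hU.fromSpec_preimage_basicOpen] at this
    exact this
  obtain ⟨Q, hQ, hPQ, hQP', hgQ, hQp, hQalg⟩ := Groth.Agent.FlatFibres.exists_prime_between P.asIdeal P'.asIdeal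
    ((hle P P').1 (by rw [hP, hP']; exact hsp)) hne' halg g hgP
  let Q1 : PrimeSpectrum Γ(X, U) := ⟨Q, hQ⟩
  have hfQ : f (hU.fromSpec Q1) = f x := by
    rw [← hP, hf, hf]
    exact congrArg hV.fromSpec (PrimeSpectrum.ext hQp)
  have hxQ : x ⤳ hU.fromSpec Q1 := by rw [← hP]; exact (hle P Q1).2 hPQ
  have hQx' : hU.fromSpec Q1 ⤳ x' := by rw [← hP']; exact (hle Q1 P').2 hQP'
  have hQW : hU.fromSpec Q1 ∈ W := by
    refine hgW ?_
    show Q1 ∈ hU.fromSpec ⁻¹ᵁ X.basicOpen g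
    rw [hU.fromSpec_preimage_basicOpen]
    exact hgQ
  exact ⟨⟨hU.fromSpec Q1, specializes_iff_mem_closure.1 hxQ, hfQ⟩, hQW, hfQ,
    Groth.Agent.FlatFibres.isClosed_fibre_of_rd_eq_zero f ((Groth.Agent.FlatFibres.rd_eq_zero_iff f hV hU hUV Q1).2 hQalg) hfQ,
    hxQ, hQx'⟩

end Groth.Agent.S1374
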