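import Groth.Statements.S13749
import Groth.Agent.NeronA.FlatDescExt
import Groth.Agent.Neron6.Over

set_option autoImplicit false
universe u
open CategoryTheory AlgebraicGeometry
open Neron

namespace Groth.Agent.S13749

/-- Let S be a locally Noetherian scheme, U ⊆ S a schematically dense open subscheme, N → S a smooth
separated morphism of finite type and g : S' → S a flat surjective morphism, and put U' = g⁻¹(U).
Suppose the base change N ×_S S' → S' has the Néron mapping property with respect to U': for every
smooth S'-scheme Y', sending an S'-morphism Y' → N ×_S S' to its restriction over U' is a bijection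
onto the U'-morphisms Y' ×_{S'} U' → (N ×_S S') ×_{S'} U'. Then N → S has the Néron mapping property
with respect to U: for every smooth S-scheme Y, restriction to U is a bijection from S-morphisms Y →
N onto U-morphisms Y ×_S U → N ×_S U. (The published statement is for an arbitrary base S and open
U, with N an algebraic space which is a model of an abelian scheme over U, tested against smooth
schemes; this row takes N a scheme, drops the abelian-scheme hypothesis, and assumes S locally
Noetherian with U schematically dense, the setting in which schematic closures of U-sections commute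
with flat base change and fill S'.) -/
theorem result
    {S S' : Scheme.{u}} [IsLocallyNoetherian S] (g : S' ⟶ S) [Flat g] [Surjective g]
    (U : S.Opens) (hU : CInt.IsSchematicallyDense U)
    (N : Over S) [Smooth N.hom] [IsSeparated N.hom] [QuasiCompact N.hom]
    (hN' : ∀ Y' : Over S', Smooth Y'.hom →
      Function.Bijective (fun f : Y' ⟶ (Over.pullback g).obj N => (Over.pullback (g ⁻¹ᵁ U).ι).map f))
    (Y : Over S) [Smooth Y.hom] :
    Function.Bijective (fun f : Y ⟶ N => (Over.pullback U.ι).map f) := by
  have hflat : Flat Y.hom := inferInstance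
  haveI : IsLocallyNoetherian Y.left := LocallyOfFiniteType.isLocallyNoetherian Y.hom
  let V := Y.hom ⁻¹ᵁ U
  let e := pullbackRestrictIsoRestrict Y.hom U
  have he : e.hom ≫ V.ι = Limits.pullback.fst Y.hom U.ι := pullbackRestrictIsoRestrict_hom_ι Y.hom U
  have he' : e.inv ≫ Limits.pullback.fst Y.hom U.ι = V.ι := by rw [← he, Iso.inv_hom_id_assoc]
  constructor
  · intro a b hab
    have h1 := (Neron6.pullback_map_eq_iff U.ι a b).1 hab
    refine Over.OverMorphism.ext ?_
    refine SchDenseLib.hom_ext (SchDenseLib.preimage_of_isLocallyNoetherian Y.hom U hU) N.hom _ _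
      (by rw [Over.w, Over.w]) ?_
    change V.ι ≫ a.left = V.ι ≫ b.left
    rw [← he', Category.assoc, h1, Category.assoc]
  · intro k
    let h : V.toScheme ⟶ N.left := e.inv ≫ k.left ≫ Limits.pullback.fst N.hom U.ι
    have hk : k.left ≫ Limits.pullback.snd N.hom U.ι = Limits.pullback.snd Y.hom U.ι := Over.w k
    have hh : h ≫ N.hom = V.ι ≫ Y.hom := by
      simp only [h, Category.assoc, Limits.pullback.condition]
      rw [reassoc_of% hk, ← Limits.pullback.condition, reassoc_of% he']
    let Y' : Over S' := (Over.pullback g).obj Y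
    haveI : Smooth Y'.hom := inferInstanceAs (Smooth (Limits.pullback.snd Y.hom g))
    let p : Y'.left ⟶ Y.left := Limits.pullback.fst Y.hom g
    haveI : Flat p := inferInstanceAs (Flat (Limits.pullback.fst Y.hom g))
    haveI : Surjective p := inferInstanceAs (Surjective (Limits.pullback.fst Y.hom g))
    let U' := g ⁻¹ᵁ U
    have hpq : p ≫ Y.hom = Y'.hom ≫ g := Limits.pullback.condition
    have hr : Set.range (Limits.pullback.fst Y'.hom U'.ι ≫ p) ⊆ Set.range V.ι := by
      rintro _ ⟨x, rfl⟩
      rw [Scheme.Opens.range_ι]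
      show Y.hom ((Limits.pullback.fst Y'.hom U'.ι ≫ p) x) ∈ U
      rw [← Scheme.Hom.comp_apply, Category.assoc, hpq, Limits.pullback.condition_assoc, Scheme.Hom.comp_apply,
        Scheme.Hom.comp_apply]
      exact (Limits.pullback.snd Y'.hom U'.ι x).2
    let r := IsOpenImmersion.lift V.ι _ hr
    have hrfac : r ≫ V.ι = Limits.pullback.fst Y'.hom U'.ι ≫ p := IsOpenImmersion.lift_fac _ _ _
    let z : Limits.pullback Y'.hom U'.ι ⟶ Limits.pullback N.hom g :=
      Limits.pullback.lift (r ≫ h) (Limits.pullback.fst _ _ ≫ Y'.hom) (by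
        rw [Category.assoc, hh, reassoc_of% hrfac, hpq, Category.assoc])
    have hz : z ≫ Limits.pullback.snd N.hom g = Limits.pullback.fst Y'.hom U'.ι ≫ Y'.hom := Limits.pullback.lift_snd _ _ _
    let k' : (Over.pullback U'.ι).obj Y' ⟶ (Over.pullback U'.ι).obj ((Over.pullback g).obj N) :=
      Over.homMk (Limits.pullback.lift z (Limits.pullback.snd _ _) (hz.trans Limits.pullback.condition)) (Limits.pullback.lift_snd _ _ _)
    obtain ⟨F, hF⟩ := (hN' Y' inferInstance).2 k'
    have hFz : Limits.pullback.fst Y'.hom U'.ι ≫ F.left = z := by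
      refine (Neron6.pullback_map_fst U'.ι F).symm.trans ?_
      show ((Over.pullback U'.ι).map F).left ≫ _ = z
      dsimp only at hF
      rw [hF]
      exact Limits.pullback.lift_fst _ _ _
    let φ : Y'.left ⟶ N.left := F.left ≫ Limits.pullback.fst N.hom g
    have hw : F.left ≫ Limits.pullback.snd N.hom g = Y'.hom := Over.w F
    have hφ : φ ≫ N.hom = p ≫ Y.hom := by
      simp only [φ, Category.assoc, Limits.pullback.condition]
      rw [reassoc_of% hw, hpq]
    have hφh : (p ⁻¹ᵁ V).ι ≫ φ = (p ∣_ V) ≫ h := by
      let s : (p ⁻¹ᵁ V).toScheme ⟶ Limits.pullback Y'.hom U'.ι :=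
        Limits.pullback.lift (p ⁻¹ᵁ V).ι (IsOpenImmersion.lift U'.ι ((p ⁻¹ᵁ V).ι ≫ Y'.hom) (by
          rintro _ ⟨x, rfl⟩
          rw [Scheme.Opens.range_ι]
          show g (((p ⁻¹ᵁ V).ι ≫ Y'.hom) x) ∈ U
          rw [← Scheme.Hom.comp_apply, Category.assoc, ← hpq, Scheme.Hom.comp_apply, Scheme.Hom.comp_apply]
          exact x.2)) (IsOpenImmersion.lift_fac _ _ _).symm
      have hs : s ≫ Limits.pullback.fst Y'.hom U'.ι = (p ⁻¹ᵁ V).ι := Limits.pullback.lift_fst _ _ _
      have hsr : s ≫ r = p ∣_ V := by
        rw [← cancel_mono V.ι, Category.assoc, hrfac, reassoc_of% hs, morphismRestrict_ι]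
      simp only [φ]
      rw [← reassoc_of% hs, reassoc_of% hFz]
      simp only [z]
      rw [Limits.pullback.lift_fst, reassoc_of% hsr]
    obtain ⟨H, hH, hHh⟩ := NeronA.FlatDescExt.exists_ext U hU Y.hom N.hom p h hh φ hφ hφh
    refine ⟨Over.homMk H hH, Neron6.pullback_hom_ext _ _ _ ?_⟩
    rw [Neron6.pullback_map_fst]
    show Limits.pullback.fst Y.hom U.ι ≫ H = _
    rw [← he, Category.assoc, hHh]
    simp only [h, Iso.hom_inv_id_assoc]

end Groth.Agent.S13749
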