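import Groth.Statements.S13750
import Groth.Agent.NeronA.StalkNMP

set_option autoImplicit false
universe u
open CategoryTheory AlgebraicGeometry
open Neron

namespace Groth.Agent.S13750

/-- Let S be a locally Noetherian scheme, U ⊆ S an open subscheme and N → S a smooth separated morphism
of finite type having the Néron mapping property with respect to U: for every smooth S-scheme Y,
restriction to U is a bijection from S-morphisms Y → N onto U-morphisms Y ×_S U → N ×_S U. Let s be
a point of S and S̃ = Spec O_{S,s} → S the canonical morphism. Then N ×_S S̃ → S̃ has the Néron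
mapping property with respect to the preimage Ũ of U: for every smooth S̃-scheme Ỹ, restriction to Ũ
is a bijection from S̃-morphisms Ỹ → N ×_S S̃ onto Ũ-morphisms. (The published statement is for N an
algebraic space which is a Néron model of an abelian scheme over U and also covers the strict
henselisation at a geometric point; this row is the localisation case for a scheme N, with no
abelian-scheme hypothesis.) -/
theorem result
    {S : Scheme.{u}} [IsLocallyNoetherian S] (U : S.Opens)
    (N : Over S) [Smooth N.hom] [IsSeparated N.hom] [QuasiCompact N.hom]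
    (hN : ∀ Y : Over S, Smooth Y.hom →
      Function.Bijective (fun f : Y ⟶ N => (Over.pullback U.ι).map f))
    (s : S) (Y' : Over (Spec (S.presheaf.stalk s))) [Smooth Y'.hom] :
    Function.Bijective (fun f : Y' ⟶ (Over.pullback (S.fromSpecStalk s)).obj N =>
      (Over.pullback ((S.fromSpecStalk s) ⁻¹ᵁ U).ι).map f) := by
  let T := Spec (S.presheaf.stalk s)
  let t := S.fromSpecStalk s
  let U' := t ⁻¹ᵁ U
  let σ := Y'.hom ≫ t
  let e : Limits.pullback Y'.hom U'.ι ≅ (σ ⁻¹ᵁ U).toScheme := pullbackRestrictIsoRestrict Y'.hom U'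
  have he : e.hom ≫ (σ ⁻¹ᵁ U).ι = Limits.pullback.fst Y'.hom U'.ι := pullbackRestrictIsoRestrict_hom_ι Y'.hom U'
  constructor
  · intro a b hab
    have h1 := congrArg (fun k => CategoryTheory.CommaMorphism.left k ≫ Limits.pullback.fst _ U'.ι) hab
    have h2 : Limits.pullback.fst Y'.hom U'.ι ≫ a.left = Limits.pullback.fst Y'.hom U'.ι ≫ b.left :=
      (Neron6.pullback_map_eq_iff U'.ι a b).1 hab
    refine Neron6.pullback_hom_ext t a b (NeronA.StalkNMP.inj_of_smooth U N hN s Y'.hom _ _ ?_ ?_ ?_)
    · rw [Category.assoc, Limits.pullback.condition]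
      exact (Category.assoc _ _ _).symm.trans (congrArg (· ≫ t) (Over.w a))
    · rw [Category.assoc, Limits.pullback.condition]
      exact (Category.assoc _ _ _).symm.trans (congrArg (· ≫ t) (Over.w b))
    · change (σ ⁻¹ᵁ U).ι ≫ _ = (σ ⁻¹ᵁ U).ι ≫ _
      rw [← cancel_epi e.hom]
      simp only [← Category.assoc]
      congr 1
      refine (congrArg (· ≫ a.left) he).trans ?_
      exact h2.trans (congrArg (· ≫ b.left) he).symm
  · intro k
    have hkw : k.left ≫ Limits.pullback.snd (Limits.pullback.snd N.hom t) U'.ι = Limits.pullback.snd Y'.hom U'.ι :=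
      Over.w k
    let z := k.left ≫ Limits.pullback.fst (Limits.pullback.snd N.hom t) U'.ι
    have hz : z ≫ Limits.pullback.snd N.hom t = Limits.pullback.fst Y'.hom U'.ι ≫ Y'.hom := by
      simp only [z, Category.assoc, Limits.pullback.condition]
      rw [reassoc_of% hkw]
    let h : (σ ⁻¹ᵁ U).toScheme ⟶ N.left := e.inv ≫ z ≫ Limits.pullback.fst N.hom t
    obtain ⟨H, hH, hHh⟩ := NeronA.StalkNMP.surj_of_smooth U N hN s Y'.hom h (by
      change h ≫ N.hom = (σ ⁻¹ᵁ U).ι ≫ Y'.hom ≫ t
      rw [← cancel_epi e.hom]
      simp only [h, Category.assoc, Iso.hom_inv_id_assoc, Limits.pullback.condition]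
      rw [reassoc_of% hz]
      exact ((congrArg (· ≫ Y'.hom ≫ t) he).symm.trans (Category.assoc _ _ _)))
    refine ⟨Over.homMk (Limits.pullback.lift H Y'.hom hH) (Limits.pullback.lift_snd _ _ _), ?_⟩
    refine Neron6.pullback_hom_ext U'.ι _ k ?_
    refine (Neron6.pullback_map_fst U'.ι _).trans ?_
    show Limits.pullback.fst Y'.hom U'.ι ≫ Limits.pullback.lift H Y'.hom hH = z
    apply Limits.pullback.hom_ext
    · rw [Category.assoc, Limits.pullback.lift_fst, ← he, Category.assoc]
      refine (congrArg (e.hom ≫ ·) hHh).trans ?_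
      simp only [h, Iso.hom_inv_id_assoc]
      rfl
    · rw [Category.assoc, Limits.pullback.lift_snd, hz]

end Groth.Agent.S13750
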