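import Groth.Statements.S1376
import Groth.Agent.FlatFibres.FiniteExtend
import Groth.Agent.S7382

set_option autoImplicit false
universe u
open FlatMor
open CategoryTheory AlgebraicGeometry CategoryTheory.Limits

namespace Groth.Agent.S1376

open AlgebraicGeometry CategoryTheory Limits in
/-- Let S be quasi-compact and quasi-separated, U a quasi-compact open of S and V → U a surjective
finite morphism. Then there is a surjective finite morphism V' → S whose base change to U is V (V is
the fibre product of V' and U over S). -/
theorem result {S V : Scheme.{u}} [CompactSpace ↑S] [QuasiSeparatedSpace ↑S] (U : S.Opens) (hU : IsCompact (U : Set ↑S))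
    (v : V ⟶ (U : Scheme.{u})) [IsFinite v] [Surjective v] :
    ∃ (V' : Scheme.{u}) (π : V' ⟶ S) (i : V ⟶ V'), Surjective π ∧ IsFinite π ∧ IsPullback i v π U.ι := by
  haveI : CompactSpace (U : Scheme.{u}) := isCompact_iff_compactSpace.mp hU
  haveI : QuasiCompact U.ι := inferInstance
  let f : V ⟶ S := v ≫ U.ι
  haveI : LocallyQuasiFinite f := inferInstance
  haveI : CompactSpace V := QuasiCompact.compactSpace_of_compactSpace v
  obtain ⟨I, _, hI, _, D, c, hc, hD, ⟨e⟩⟩ := Groth.Agent.S7382.result f.fromNormalization
  haveI : IsDirectedOrder I := hI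
  haveI : IsCofiltered Iᵒᵖ := inferInstance
  haveI : IsIso e.inv.left := inferInstanceAs (IsIso ((Over.forget S).map e.inv))
  haveI : IsOpenImmersion f.toNormalization := inferInstance
  let m₀ : V ⟶ ((Over.forget S).mapCone c).pt := f.toNormalization ≫ e.inv.left
  haveI : Mono m₀ := inferInstanceAs (Mono (f.toNormalization ≫ e.inv.left))
  refine FlatFibres.exists_finite_extension_of_limit (D ⋙ Over.forget S) (fun i => (D.obj i).hom : ∀ i, (D ⋙ Over.forget S).obj i ⟶ S)
    (fun i j a => Over.w (D.map a)) (fun i => (hD i).1) ((Over.forget S).mapCone c) (isLimitOfPreserves (Over.forget S) hc)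
    U hU v m₀ fun i => ?_
  show (f.toNormalization ≫ e.inv.left) ≫ (c.π.app i).left ≫ (D.obj i).hom = f
  rw [show (c.π.app i).left ≫ (D.obj i).hom = c.pt.hom from Over.w (c.π.app i), Category.assoc,
    show e.inv.left ≫ c.pt.hom = f.fromNormalization from Over.w e.inv,
    Scheme.Hom.toNormalization_fromNormalization]

end Groth.Agent.S1376
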