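import Groth.Statements.S13763
import Groth.Agent.ParLib.CurveBound
import Groth.Agent.ParLib.Omega

set_option autoImplicit false
set_option linter.style.haveILetI false
universe u
open CategoryTheory CategoryTheory.Limits MonoidalCategory CartesianMonoidalCategory MonObj GrpObj AlgebraicGeometry
open CanPar

namespace Groth.Agent.S13763

/-- Let X be a smooth proper geometrically connected curve over a field k and G a reductive group scheme
over X. Then there is an integer M such that every parabolic subgroup P of G has degree at most M.
Here the degree of P means the degree of its Lie algebra, a vector bundle on X; it is written as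
minus the degree of the module of invariant differentials e^*Ω_{P/X}, which for P smooth over X is
locally free (of the rank n quantified below) and dual to the Lie algebra bundle. -/
theorem result (k : Type u) [Field k] (X : Scheme.{u}) [X.Over (Spec (CommRingCat.of k))]
    [IsIntegral X] [IsProper (X ↘ Spec (CommRingCat.of k))] [Smooth (X ↘ Spec (CommRingCat.of k))]
    [GeometricallyConnected (X ↘ Spec (CommRingCat.of k))] (hdim : topologicalKrullDim X = 1)
    (G : Over X) [GrpObj G] (hG : Red.IsReductive G) :
    ∃ M : ℤ, ∀ (P : Over X) [GrpObj P] (i : P ⟶ G), Red.IsParabolic i →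
      ∀ n : ℕ, FlatMod.IsFinLocFreeOfRank n (LieS.omega P) →
        -Curv2.deg k X (LieS.omega P) n ≤ M := by
  haveI hGs : Smooth G.hom := hG.2.1
  haveI : IsAffineHom G.hom := hG.1
  have hE := Groth.Agent.ParLib.isFinLocFree_omega G
  refine ⟨(Module.finrank k (Coh.HH X (LieS.omega G) 1) : ℤ) + (Groth.Agent.CurveCohLib.genRank (LieS.omega G) : ℤ) *
    Module.finrank k (Coh.HH X (Coh.structureModule X) 0), fun P _ i hP n hn => ?_⟩
  haveI : IsMonHom i := hP.1
  haveI : IsClosedImmersion i.left := hP.2.1
  obtain ⟨φ, hφ⟩ := Groth.Agent.ParLib.exists_epi_omega_of_closedImmersion i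
  exact (Groth.Agent.ParLib.neg_deg_le k hdim hE hn φ).2

end Groth.Agent.S13763
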