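import Groth.Statements.S13770
import Groth.Agent.ParLib.FamilyBound
import Groth.Agent.ParLib.Omega

set_option autoImplicit false
set_option linter.style.haveILetI false
universe u
open CategoryTheory CategoryTheory.Limits MonoidalCategory CartesianMonoidalCategory MonObj GrpObj AlgebraicGeometry
open CanPar

namespace Groth.Agent.S13770

/-- Let S be a Noetherian scheme, p : X → S a curve over S (smooth, proper, with geometrically connected
fibres of dimension one) and G a reductive group scheme over X. Then the degrees of instability of
the fibres of G are uniformly bounded: there is an integer M such that for every field K and every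
morphism x : Spec K → S, every parabolic subgroup P of the restriction G_K of G to the curve X_K = X
×_S Spec K over K has degree at most M. The degree of a parabolic subgroup is that of its Lie
algebra bundle, written as minus the degree over K of the locally free module e^*Ω of invariant
differentials (dual to the Lie algebra, of the rank quantified in the statement). (The published
statement takes X projective over S; this row takes X proper over S, which is all that its proof
uses: the bound for a single curve over a field applied fibre by fibre, local constancy of the rank
and of the genus, upper semicontinuity of the dimension of the space of global sections in a proper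
flat family, and Noetherian induction on S.) -/
theorem result
    (S X : Scheme.{u}) [IsNoetherian S] (p : X ⟶ S) [Smooth p] [IsProper p] [GeometricallyConnected p]
    (hdim : ∀ s : S, topologicalKrullDim (p.fiber s) = 1)
    (G : Over X) [GrpObj G] (hG : Red.IsReductive G) :
    ∃ M : ℤ, ∀ (K : Type u) [Field K] (x : Spec (CommRingCat.of K) ⟶ S)
      (P : Over (pullback p x)) [GrpObj P] (i : P ⟶ Red.bc (pullback.fst p x) G), Red.IsParabolic i →
      ∀ n : ℕ, FlatMod.IsFinLocFreeOfRank n (LieS.omega P) →
        -@Curv2.deg K _ (pullback p x) ⟨pullback.snd p x⟩ (LieS.omega P) n ≤ M := by
  haveI hGs : Smooth G.hom := hG.2.1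
  haveI : IsAffineHom G.hom := hG.1
  obtain ⟨M, hM⟩ := Groth.Agent.ParLib.exists_uniform_bound p hdim (Groth.Agent.ParLib.isFinLocFree_omega G)
  refine ⟨M, fun K _ x P _ i hP n hn => ?_⟩
  haveI : IsMonHom i := hP.1
  haveI : IsClosedImmersion i.left := hP.2.1
  obtain ⟨φ, hφ⟩ := Groth.Agent.ParLib.exists_epi_omega_bc (pullback.fst p x) G
  haveI : QuasiSeparated (Red.bc (pullback.fst p x) G).hom :=
    inferInstanceAs (QuasiSeparated (pullback.snd G.hom (pullback.fst p x)))
  obtain ⟨ψ, hψ⟩ := Groth.Agent.ParLib.exists_epi_omega_of_closedImmersion i
  exact hM K x (LieS.omega P) n (φ ≫ ψ) inferInstance hn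

end Groth.Agent.S13770
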