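import Groth.Statements.S13844
import Groth.Agent.SmoothReg.Scheme
import Mathlib.RingTheory.DiscreteValuationRing.TFAE

set_option autoImplicit false
set_option linter.style.haveILetI false
universe u
open CategoryTheory CategoryTheory.Limits AlgebraicGeometry
attribute [local instance] Curv2.resAlgebra
open Curves Groth.Agent

namespace Groth.Agent.S13844

/-- Let K be a field and C a normal curve over K, namely an integral normal separated K-scheme of finite
type of dimension one, and let S be a set of closed points of C whose residue fields are separable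
over K. If the structure morphism of C is smooth at every point outside S, then it is smooth. (The
published statement takes S to be a closed subscheme finite étale over K, that is finitely many such
points; this row allows any set of closed points with separable residue fields.) -/
theorem result (K : Type u) [Field K] (C : Scheme.{u}) [C.Over (Spec (CommRingCat.of K))]
    [IsIntegral C] [IsSeparated (C ↘ (Spec (CommRingCat.of K)))] [LocallyOfFinitePresentation (C ↘ (Spec (CommRingCat.of K)))]
    [QuasiCompact (C ↘ (Spec (CommRingCat.of K)))] (hN : ∀ x : C, IsIntegrallyClosed (C.presheaf.stalk x))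
    (hdim : topologicalKrullDim C = 1) (S : Set C)
    (hS : ∀ x ∈ S, IsClosed ({x} : Set C) ∧ Algebra.IsSeparable K (C.residueField x))
    (hsm : ∀ x : C, x ∉ S → x ∈ (C ↘ (Spec (CommRingCat.of K))).smoothLocus) :
    AlgebraicGeometry.Smooth (C ↘ (Spec (CommRingCat.of K))) := by
  letI := fun x => Curv2.resAlgebra K C x
  haveI := LocallyOfFiniteType.isLocallyNoetherian (C ↘ Spec (CommRingCat.of K))
  rw [← Scheme.Hom.smoothLocus_eq_top_iff]
  refine top_le_iff.1 fun x _ => ?_
  by_cases hx : x ∈ S
  · obtain ⟨hc, hsep⟩ := hS x hx
    haveI := hsep
    haveI := hN x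
    have hd : ringKrullDim (C.presheaf.stalk x) = 1 :=
      (SmoothReg.ringKrullDim_stalk_closedPoint (C ↘ Spec (CommRingCat.of K)) hc).trans hdim
    have hnf : ¬ IsField (C.presheaf.stalk x) := fun h => by
      rw [ringKrullDim_eq_zero_of_isField h] at hd
      exact zero_ne_one hd
    haveI : Ring.KrullDimLE 1 (C.presheaf.stalk x) := (Ring.krullDimLE_iff).2 (by rw [hd]; norm_num)
    haveI : IsDiscreteValuationRing (C.presheaf.stalk x) :=
      ((IsDiscreteValuationRing.TFAE (C.presheaf.stalk x) hnf).out 0 3 rfl rfl).2
        ⟨inferInstance, IsLocalRing.maximalIdeal (C.presheaf.stalk x),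
          ⟨fun h => hnf (IsLocalRing.isField_iff_maximalIdeal_eq.2 h), inferInstance⟩,
          fun q ⟨hq0, hq⟩ => IsLocalRing.eq_maximalIdeal (hq.isMaximal_of_ne_bot hq0)⟩
    refine SmoothReg.mem_smoothLocus_of_isSeparable _ x (fun c => rfl) inferInstance
  · exact hsm x hx

end Groth.Agent.S13844
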