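import Groth.Statements.S13846
import Mathlib.LinearAlgebra.GeneralLinearGroup.AlgEquiv
import Mathlib.LinearAlgebra.Dual.Lemmas

set_option autoImplicit false
universe u v
open TwSh

namespace Groth.Agent.S13846

/-- Let k be a field and V, W finite-dimensional ℤ-graded k-vector spaces, V = ⊕ V_i with V ≠ 0 and W =
⊕ W_i. Let φ : End_k(V) ≃ End_k(W) be a k-algebra isomorphism which sends every endomorphism
homogeneous of degree d (one mapping V_i into V_{i+d} for all i) to an endomorphism homogeneous of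
degree d. Then there are an integer n and a k-linear isomorphism g : V ≅ W with g(V_i) = W_{i+n} for
every i such that φ(f) = g ∘ f ∘ g⁻¹ for all f; moreover n is unique and g is unique up to a nonzero
scalar: if g' : V ≅ W satisfies g'(V_i) = W_{i+n'} for all i and φ(f) = g' ∘ f ∘ g'⁻¹ for all f,
then n' = n and g' = c·g for some c ∈ kˣ. (The published statement is about non-zero perfect
complexes over k: an isomorphism of their derived endomorphism algebras, as algebra objects of the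
derived category, is induced by an isomorphism from the first complex to a shift of the second, for
a unique shift and up to a unit; this row is its form for finite-dimensional ℤ-graded vector spaces,
to which the bounded derived category of a field is equivalent by taking cohomology.) -/
theorem result (k : Type u) [Field k] (V W : Type v) [AddCommGroup V] [Module k V] [FiniteDimensional k V] [Nontrivial V] [AddCommGroup W] [Module k W] [FiniteDimensional k W] (𝒱 : ℤ → Submodule k V) (h𝒱 : DirectSum.IsInternal 𝒱) (𝒲 : ℤ → Submodule k W) (h𝒲 : DirectSum.IsInternal 𝒲) (φ : Module.End k V ≃ₐ[k] Module.End k W) (hφ : ∀ (d : ℤ) (f : Module.End k V), (∀ (i : ℤ) (x : V), x ∈ 𝒱 i → f x ∈ 𝒱 (i + d)) → ∀ (i : ℤ) (y : W), y ∈ 𝒲 i → φ f y ∈ 𝒲 (i + d)) : ∃ (n : ℤ) (g : V ≃ₗ[k] W), (∀ i : ℤ, Submodule.map (g : V →ₗ[k] W) (𝒱 i) = 𝒲 (i + n)) ∧ (∀ f : Module.End k V, φ f = (g : V →ₗ[k] W) ∘ₗ f ∘ₗ (g.symm : W →ₗ[k] V)) ∧ ∀ (n' : ℤ) (g' : V ≃ₗ[k]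 W), (∀ i : ℤ, Submodule.map (g' : V →ₗ[k] W) (𝒱 i) = 𝒲 (i + n')) → (∀ f : Module.End k V, φ f = (g' : V →ₗ[k] W) ∘ₗ f ∘ₗ (g'.symm : W →ₗ[k] V)) → n' = n ∧ ∃ c : kˣ, ∀ x : V, g' x = c • g x := by
  classical
  obtain ⟨g, hg⟩ := φ.eq_linearEquivConjAlgEquiv
  have hconj : ∀ f : Module.End k V, φ f = (g : V →ₗ[k] W) ∘ₗ f ∘ₗ (g.symm : W →ₗ[k] V) := by
    intro f; rw [hg]; ext w; simp [LinearEquiv.conjAlgEquiv_apply]
  obtain ⟨i₀, x, hx, hx0⟩ : ∃ i₀ x, x ∈ 𝒱 i₀ ∧ x ≠ 0 := by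
    by_contra h
    push Not at h
    have : (⊤ : Submodule k V) ≤ ⊥ := h𝒱.submodule_iSup_eq_top ▸ iSup_le fun i y hy => by
      simpa using h i y hy
    obtain ⟨v, hv⟩ := exists_ne (0 : V)
    exact hv (by simpa using this (Submodule.mem_top (x := v)))
  have hxS : x ∉ ⨆ (j) (_ : j ≠ i₀), 𝒱 j := fun h =>
    hx0 ((Submodule.disjoint_def.1 (h𝒱.submodule_iSupIndep i₀)) x hx h)
  obtain ⟨ℓ, hℓx, hℓS⟩ := Submodule.exists_dual_map_eq_bot_of_notMem hxS inferInstance
  have hℓ : ∀ j, j ≠ i₀ → ∀ y ∈ 𝒱 j, ℓ y = 0 := fun j hj y hy => by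
    have : ℓ y ∈ (⨆ (j) (_ : j ≠ i₀), 𝒱 j).map ℓ :=
      ⟨y, Submodule.mem_iSup_of_mem j (Submodule.mem_iSup_of_mem hj hy), rfl⟩
    rw [hℓS] at this
    simpa using this
  obtain ⟨m, w, hw, hw0⟩ : ∃ m w, w ∈ 𝒲 m ∧ ℓ (g.symm w) ≠ 0 := by
    by_contra h
    push Not at h
    have : (⊤ : Submodule k W) ≤ LinearMap.ker (ℓ ∘ₗ (g.symm : W →ₗ[k] V)) :=
      h𝒲.submodule_iSup_eq_top ▸ iSup_le fun i y hy => by simpa using h i y hy
    exact hℓx (by simpa using this (Submodule.mem_top (x := g x)))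
  have hle : ∀ j, Submodule.map (g : V →ₗ[k] W) (𝒱 j) ≤ 𝒲 (j + (m - i₀)) := by
    rintro j _ ⟨y, hy, rfl⟩
    have h1 := hφ (j - i₀) (ℓ.smulRight y) (fun i z hz => ?_) m w hw
    · rw [hconj, show m + (j - i₀) = j + (m - i₀) by ring] at h1
      simpa [Submodule.smul_mem_iff _ hw0] using h1
    · by_cases hi : i = i₀
      · subst hi
        rw [LinearMap.smulRight_apply, show i + (j - i) = j by ring]
        exact Submodule.smul_mem _ _ hy
      · simp [hℓ i hi z hz]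
  have htop : (⨆ j, Submodule.map (g : V →ₗ[k] W) (𝒱 j)) = ⊤ := by
    rw [← Submodule.map_iSup, h𝒱.submodule_iSup_eq_top, Submodule.map_top]
    exact LinearMap.range_eq_top.2 g.surjective
  have heq : ∀ j, Submodule.map (g : V →ₗ[k] W) (𝒱 j) = 𝒲 (j + (m - i₀)) := by
    intro j
    refine le_antisymm (hle j) fun b hb => ?_
    have hb' : b ∈ Submodule.map (g : V →ₗ[k] W) (𝒱 j) ⊔
        ⨆ (i) (_ : i ≠ j), Submodule.map (g : V →ₗ[k] W) (𝒱 i) := by
      rw [← iSup_split_single (fun i => Submodule.map (g : V →ₗ[k] W) (𝒱 i)) j, htop]; trivial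
    obtain ⟨a, ha, r, hr, rfl⟩ := Submodule.mem_sup.1 hb'
    have hr1 : r ∈ 𝒲 (j + (m - i₀)) := by simpa using Submodule.sub_mem _ hb (hle j ha)
    have hr2 : r ∈ ⨆ (l) (_ : l ≠ j + (m - i₀)), 𝒲 l := by
      have hsub : (⨆ (i) (_ : i ≠ j), Submodule.map (g : V →ₗ[k] W) (𝒱 i)) ≤
          ⨆ (l) (_ : l ≠ j + (m - i₀)), 𝒲 l :=
        iSup₂_le fun i hi => (hle i).trans (le_iSup₂_of_le (i + (m - i₀)) (by omega) le_rfl)
      exact hsub hr
    have := Submodule.disjoint_def.1 (h𝒲.submodule_iSupIndep _) r hr1 hr2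
    simpa [this] using ha
  refine ⟨m - i₀, g, heq, hconj, fun n' g' hg' hc' => ?_⟩
  set h : Module.End k V := (g.symm : W →ₗ[k] V) ∘ₗ (g' : V →ₗ[k] W) with hh
  have hcomm : ∀ (f : Module.End k V) (v : V), h (f v) = f (h v) := by
    intro f v
    have := LinearMap.congr_fun ((hc' f).symm.trans (hconj f)) (g' v)
    apply g.injective
    simpa [hh] using this
  have hs : ∀ v : V, ℓ x • h v = ℓ (h x) • v := by
    intro v
    simpa using hcomm (ℓ.smulRight v) x
  set c : k := (ℓ x)⁻¹ * ℓ (h x) with hc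
  have hg'c : ∀ v, g' v = c • g v := by
    intro v
    have := congrArg (fun z => (ℓ x)⁻¹ • g z) (hs v)
    simpa [hh, hc, smul_smul, hℓx] using this
  have hc0 : c ≠ 0 := by
    intro h0
    exact hx0 (g'.injective (by simpa [h0] using hg'c x))
  refine ⟨?_, Units.mk0 c hc0, fun v => by simpa [Units.smul_def] using hg'c v⟩
  by_contra hne
  have h1 : g x ∈ 𝒲 (i₀ + (m - i₀)) := hle i₀ ⟨x, hx, rfl⟩
  have h2 : g x ∈ 𝒲 (i₀ + n') := by
    have : g' x ∈ 𝒲 (i₀ + n') := hg' i₀ ▸ ⟨x, hx, rfl⟩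
    rw [hg'c] at this
    exact (Submodule.smul_mem_iff _ hc0).1 this
  have hd : Disjoint (𝒲 (i₀ + n')) (𝒲 (i₀ + (m - i₀))) :=
    h𝒲.submodule_iSupIndep.pairwiseDisjoint (by omega)
  exact hx0 (g.injective (by simpa using Submodule.disjoint_def.1 hd (g x) h2 h1))

end Groth.Agent.S13846
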