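import Groth.Statements.S13847
import Mathlib.RingTheory.SimpleModule.WedderburnArtin
import Mathlib.RingTheory.Length
import Mathlib.Algebra.Module.Torsion.Basic
import Mathlib.RingTheory.Jacobson.Ideal

set_option autoImplicit false
universe u v
open TwSh

namespace Groth.Agent.S13847

section

variable {A : Type u} [Ring A] {P Q : Type v} [AddCommGroup P] [Module A P] [AddCommGroup Q]
  [Module A Q]

local notation "𝔍" => Ring.jacobson A

private lemma bijective_of_modJ [Module.Finite A P] [Module.Finite A Q] [Module.Projective A Q]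
    (f : P →ₗ[A] Q) (hs : LinearMap.range f ⊔ 𝔍 • (⊤ : Submodule A Q) = ⊤)
    (hi : ∀ x, f x = 0 → x ∈ 𝔍 • (⊤ : Submodule A P)) : Function.Bijective f := by
  have hsurj : Function.Surjective f := by
    have h : (⊤ : Submodule A (Q ⧸ LinearMap.range f)) = ⊥ := by
      refine Submodule.FG.eq_bot_of_le_jacobson_smul Module.Finite.fg_top ?_
      rintro q -
      obtain ⟨y, rfl⟩ := Submodule.Quotient.mk_surjective _ q
      have hy : y ∈ LinearMap.range f ⊔ 𝔍 • (⊤ : Submodule A Q) := by rw [hs]; trivial
      obtain ⟨a, ha, b, hb, rfl⟩ := Submodule.mem_sup.1 hy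
      have : Submodule.Quotient.mk (p := LinearMap.range f) (a + b) =
          (LinearMap.range f).mkQ b := by
        rw [Submodule.mkQ_apply, Submodule.Quotient.eq]; simpa using ha
      rw [this]
      have := Submodule.mem_map_of_mem (f := (LinearMap.range f).mkQ) hb
      rw [Submodule.map_smul''] at this
      exact Submodule.smul_mono le_rfl le_top this
    intro y
    have : Submodule.Quotient.mk (p := LinearMap.range f) y ∈ (⊤ : Submodule A _) := trivial
    rw [h, Submodule.mem_bot, Submodule.Quotient.mk_eq_zero] at this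
    exact this
  refine ⟨?_, hsurj⟩
  obtain ⟨s, hs'⟩ := Module.projective_lifting_property f LinearMap.id hsurj
  have hfs : ∀ y, f (s y) = y := fun y => LinearMap.congr_fun hs' y
  set q : P →ₗ[A] P := LinearMap.id - s ∘ₗ f with hq
  have hK : LinearMap.range q = ⊥ := by
    refine Submodule.FG.eq_bot_of_le_jacobson_smul ?_ ?_
    · rw [← Submodule.map_top]; exact Module.Finite.fg_top.map q
    rintro _ ⟨x, rfl⟩
    have h1 : q x ∈ 𝔍 • (⊤ : Submodule A P) := hi _ (by simp [hq, hfs])
    have h2 := Submodule.mem_map_of_mem (f := q) h1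
    rw [Submodule.map_smul'', Submodule.map_top] at h2
    simpa [hq, hfs] using h2
  rw [← LinearMap.ker_eq_bot, Submodule.eq_bot_iff]
  intro x hx
  have : q x ∈ LinearMap.range q := ⟨x, rfl⟩
  rw [hK] at this
  simpa [hq, LinearMap.mem_ker.1 hx] using this

private noncomputable def redLin (f : P →ₗ[A] P) :
    (P ⧸ 𝔍 • (⊤ : Submodule A P)) →ₗ[A ⧸ 𝔍] (P ⧸ 𝔍 • (⊤ : Submodule A P)) where
  toFun := Submodule.mapQ _ _ f (Submodule.smul_top_le_comap_smul_top _ f)
  map_add' := map_add _
  map_smul' r x := by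
    induction r using Submodule.Quotient.induction_on with
    | _ r =>
    induction x using Submodule.Quotient.induction_on with
    | _ x =>
      exact congrArg Submodule.Quotient.mk (f.map_smul r x)

private lemma redLin_mk (f : P →ₗ[A] P) (x : P) :
    redLin f (Submodule.Quotient.mk x) = Submodule.Quotient.mk (f x) := rfl

private noncomputable def redHom :
    Module.End A P →+* Module.End (A ⧸ 𝔍) (P ⧸ 𝔍 • (⊤ : Submodule A P)) where
  toFun := redLin
  map_one' := LinearMap.ext fun x => Submodule.Quotient.induction_on _ x fun _ => rfl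
  map_mul' _ _ := LinearMap.ext fun x => Submodule.Quotient.induction_on _ x fun _ => rfl
  map_zero' := LinearMap.ext fun x => Submodule.Quotient.induction_on _ x fun _ => rfl
  map_add' _ _ := LinearMap.ext fun x => Submodule.Quotient.induction_on _ x fun _ => rfl

private lemma redHom_mk (f : Module.End A P) (x : P) :
    redHom f (Submodule.Quotient.mk x) = Submodule.Quotient.mk (f x) := rfl

private lemma exists_lift [Module.Projective A P]
    (φ : (P ⧸ 𝔍 • (⊤ : Submodule A P)) →ₗ[A ⧸ 𝔍] (Q ⧸ 𝔍 • (⊤ : Submodule A Q))) :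
    ∃ f : P →ₗ[A] Q, ∀ x, Submodule.Quotient.mk (f x) = φ (Submodule.Quotient.mk x) := by
  let φ' : P →ₗ[A] (Q ⧸ 𝔍 • (⊤ : Submodule A Q)) :=
    { toFun := fun x => φ (Submodule.Quotient.mk x)
      map_add' := by simp
      map_smul' := fun r x => by
        rw [← Module.Quotient.mk_smul_mk, map_smul, RingHom.id_apply]
        obtain ⟨y, hy⟩ := Submodule.Quotient.mk_surjective _ (φ (Submodule.Quotient.mk x))
        rw [← hy, Module.Quotient.mk_smul_mk, Submodule.Quotient.mk_smul] }
  obtain ⟨f, hf⟩ := Module.projective_lifting_property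
    (Submodule.mkQ (𝔍 • (⊤ : Submodule A Q))) φ' (Submodule.mkQ_surjective _)
  exact ⟨f, fun x => LinearMap.congr_fun hf x⟩

private lemma liftIso [Module.Finite A P] [Module.Finite A Q] [Module.Projective A P]
    [Module.Projective A Q]
    (φ : (P ⧸ 𝔍 • (⊤ : Submodule A P)) ≃ₗ[A ⧸ 𝔍] (Q ⧸ 𝔍 • (⊤ : Submodule A Q))) :
    ∃ _f : P ≃ₗ[A] Q, True := by
  obtain ⟨f, hf⟩ := exists_lift φ.toLinearMap
  refine ⟨LinearEquiv.ofBijective f (bijective_of_modJ f ?_ ?_), trivial⟩
  · rw [eq_top_iff]
    intro y _
    obtain ⟨x, hx⟩ := Submodule.Quotient.mk_surjective _ (φ.symm (Submodule.Quotient.mk y))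
    refine Submodule.mem_sup.2 ⟨f x, ⟨x, rfl⟩, y - f x, ?_, add_sub_cancel _ _⟩
    rw [← Submodule.Quotient.eq, hf, hx]
    simp
  · intro x hx
    rw [← Submodule.Quotient.mk_eq_zero]
    exact φ.injective (by simpa [hx] using (hf x).symm)

private lemma redHom_ker [Module.Finite A P] [Module.Projective A P]
    [IsSemisimpleRing (A ⧸ 𝔍)] :
    Function.Surjective (redHom (A := A) (P := P)) ∧
    RingHom.ker (redHom (A := A) (P := P)) = Ring.jacobson (Module.End A P) := by
  have hsurj : Function.Surjective (redHom (A := A) (P := P)) := by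
    intro φ
    obtain ⟨f, hf⟩ := exists_lift φ
    exact ⟨f, LinearMap.ext fun x => Submodule.Quotient.induction_on _ x fun x => hf x⟩
  have : Module.Finite (A ⧸ 𝔍) (P ⧸ 𝔍 • (⊤ : Submodule A P)) :=
    Module.Finite.of_restrictScalars_finite A _ _
  have : RingHomSurjective (redHom (A := A) (P := P)) := ⟨hsurj⟩
  have : IsSemisimpleRing (Module.End (A ⧸ 𝔍) (P ⧸ 𝔍 • (⊤ : Submodule A P))) :=
    IsSemisimpleRing.moduleEnd _ _
  refine ⟨hsurj, le_antisymm ?_ ?_⟩
  · refine le_of_le_of_eq ?_ (Ring.jacobson_eq_sInf_isMaximal (R := Module.End A P)).symm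
    refine le_sInf fun m (hm : m.IsMaximal) f hf => ?_
    by_contra hfm
    obtain ⟨y, m0, hm0, h1⟩ := hm.exists_inv hfm
    have hu : IsUnit m0 := by
      rw [Module.End.isUnit_iff]
      refine bijective_of_modJ m0 ?_ fun x hx => ?_
      · rw [eq_top_iff]
        intro z _
        refine Submodule.mem_sup.2 ⟨m0 z, ⟨z, rfl⟩, z - m0 z, ?_, add_sub_cancel _ _⟩
        rw [← Submodule.Quotient.mk_eq_zero, show z - m0 z = (y * f) z from ?_, ← redHom_mk,
          map_mul, RingHom.mem_ker.1 hf, mul_zero]
        · rfl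
        · rw [sub_eq_iff_eq_add, ← LinearMap.add_apply, h1]; rfl
      · have hz : (y * f) x = x := by
          have := LinearMap.congr_fun h1 x
          simpa [hx] using this
        rw [← hz, ← Submodule.Quotient.mk_eq_zero, ← redHom_mk, map_mul, RingHom.mem_ker.1 hf,
          mul_zero]
        rfl
    exact hm.ne_top (Ideal.eq_top_of_isUnit_mem _ hm0 hu)
  · intro f hf
    have := Ring.map_jacobson_le (redHom (A := A) (P := P)) (Submodule.mem_map_of_mem hf)
    have h0 := IsSemisimpleRing.jacobson_eq_bot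
      (R := Module.End (A ⧸ 𝔍) (P ⧸ 𝔍 • (⊤ : Submodule A P)))
    exact (Submodule.mem_bot _).1 (h0 ▸ this : _ ∈ (⊥ : Ideal _))

private lemma length_le {R : Type*} [Ring R] {M N : Type*} [AddCommGroup M] [AddCommGroup N]
    [Module R M] [Module R N] [IsSemisimpleModule R M]
    (e : Module.End R M ≃+* Module.End R N) : Module.length R M ≤ Module.length R N := by
  have H : ∀ U : Submodule R M, ∃ p : Module.End R M, LinearMap.range p = U ∧ ∀ u ∈ U, p u = u := by
    intro U
    obtain ⟨V, hV⟩ := exists_isCompl U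
    refine ⟨U.projection V hV, Submodule.range_projection hV, fun u hu => ?_⟩
    exact Submodule.projection_apply_left hV ⟨u, hu⟩
  choose p hp hp' using H
  have hmem : ∀ (U : Submodule R M) (x : M), p U x ∈ U := fun U x => by
    have := LinearMap.mem_range_self (p U) x; rwa [hp U] at this
  let Φ : Submodule R M → Submodule R N := fun U => LinearMap.range (e (p U))
  have hmono : StrictMono Φ := by
    intro U U' h
    have h1 : p U' * p U = p U := by
      ext x
      exact hp' U' _ (h.le (hmem U x))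
    have hidem : e (p U) * e (p U) = e (p U) := by
      rw [← map_mul]; congr 1; ext x
      exact hp' U _ (hmem U x)
    have h1' : e (p U') * e (p U) = e (p U) := by rw [← map_mul, h1]
    have hle : Φ U ≤ Φ U' := by
      rintro _ ⟨x, rfl⟩
      exact ⟨e (p U) x, LinearMap.congr_fun h1' x⟩
    refine lt_of_le_of_ne hle fun heq => h.not_ge ?_
    have h2 : e (p U) * e (p U') = e (p U') := by
      ext x
      have hx : e (p U') x ∈ Φ U := heq ▸ LinearMap.mem_range_self (e (p U')) x
      obtain ⟨z, hz⟩ := hx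
      show e (p U) (e (p U') x) = e (p U') x
      rw [← hz]
      exact LinearMap.congr_fun hidem z
    have h3 : p U * p U' = p U' := e.injective (by rw [map_mul, h2])
    intro u hu
    have := LinearMap.congr_fun h3 u
    rw [Module.End.mul_apply, hp' U' u hu] at this
    exact this ▸ hmem U u
  have := Order.krullDim_le_of_strictMono Φ hmono
  rw [← Module.coe_length, ← Module.coe_length] at this
  exact_mod_cast this

private lemma modJ_iso [IsSimpleRing (A ⧸ 𝔍)] [IsArtinianRing (A ⧸ 𝔍)]
    [Module.Finite A P] [Module.Finite A Q] [Module.Projective A P] [Module.Projective A Q]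
    (e : Module.End A P ≃+* Module.End A Q) :
    Nonempty ((P ⧸ 𝔍 • (⊤ : Submodule A P)) ≃ₗ[A ⧸ 𝔍] (Q ⧸ 𝔍 • (⊤ : Submodule A Q))) := by
  have : Module.Finite (A ⧸ 𝔍) (P ⧸ 𝔍 • (⊤ : Submodule A P)) :=
    Module.Finite.of_restrictScalars_finite A _ _
  have : Module.Finite (A ⧸ 𝔍) (Q ⧸ 𝔍 • (⊤ : Submodule A Q)) :=
    Module.Finite.of_restrictScalars_finite A _ _
  obtain ⟨hsP, hkP⟩ := redHom_ker (A := A) (P := P)
  obtain ⟨hsQ, hkQ⟩ := redHom_ker (A := A) (P := Q)
  let ψ : Module.End A P →+* _ := (redHom (A := A) (P := Q)).comp e.toRingHom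
  have hsψ : Function.Surjective ψ := hsQ.comp e.surjective
  have : RingHomSurjective e.toRingHom := ⟨e.surjective⟩
  have : RingHomSurjective e.symm.toRingHom := ⟨e.symm.surjective⟩
  have hkψ : RingHom.ker ψ = RingHom.ker (redHom (A := A) (P := P)) := by
    rw [hkP, ← RingHom.comap_ker, hkQ]
    refine le_antisymm (fun x hx => ?_) (Ring.le_comap_jacobson e.toRingHom)
    have := Ring.le_comap_jacobson e.symm.toRingHom hx
    simpa using this
  let eP := RingHom.quotientKerEquivOfSurjective hsP
  let eψ := RingHom.quotientKerEquivOfSurjective hsψ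
  let ε := (eP.symm.trans (Ideal.quotEquivOfEq hkψ.symm)).trans eψ
  have hlen := le_antisymm (length_le ε) (length_le ε.symm)
  rcases subsingleton_or_nontrivial (P ⧸ 𝔍 • (⊤ : Submodule A P)) with hP | hP
  · have : Subsingleton (Q ⧸ 𝔍 • (⊤ : Submodule A Q)) := by
      rw [← Module.length_eq_zero_iff (R := A ⧸ 𝔍), ← hlen, Module.length_eq_zero]
    exact ⟨LinearEquiv.ofSubsingleton _ _⟩
  have : Nontrivial (Q ⧸ 𝔍 • (⊤ : Submodule A Q)) := by
    rw [← Module.length_pos_iff (R := A ⧸ 𝔍), ← hlen]; exact Module.length_pos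
  obtain ⟨a, _, S, hS, ⟨eM⟩⟩ :=
    (IsSimpleRing.isIsotypic (A ⧸ 𝔍) (P ⧸ 𝔍 • (⊤ : Submodule A P))).linearEquiv_fun
  obtain ⟨b, _, T, hT, ⟨eN⟩⟩ :=
    (IsSimpleRing.isIsotypic (A ⧸ 𝔍) (Q ⧸ 𝔍 • (⊤ : Submodule A Q))).linearEquiv_fun
  obtain ⟨I, ⟨eI⟩⟩ := IsSemisimpleRing.exists_linearEquiv_ideal_of_isSimpleModule (A ⧸ 𝔍) S
  obtain ⟨I', ⟨eI'⟩⟩ := IsSemisimpleRing.exists_linearEquiv_ideal_of_isSimpleModule (A ⧸ 𝔍) T
  have := IsSimpleModule.congr eI.symm
  have := IsSimpleModule.congr eI'.symm
  obtain ⟨eII⟩ := IsSimpleRing.isIsotypic (A ⧸ 𝔍) (A ⧸ 𝔍) I I'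
  have eST : S ≃ₗ[A ⧸ 𝔍] T := (eI.trans eII.symm).trans eI'.symm
  have hab : a = b := by
    have h := hlen
    rw [eM.length_eq, eN.length_eq, Module.length_pi_of_fintype, Module.length_pi_of_fintype] at h
    simpa [Module.length_eq_one] using h
  subst hab
  exact ⟨(eM.trans (LinearEquiv.piCongrRight fun _ => eST)).trans eN.symm⟩

end

/-- Let A be a ring which is strongly local, that is, the quotient of A by its Jacobson radical J is a
simple left-Artinian ring, and let P and Q be finitely generated projective left A-modules. If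
End_A(P) and End_A(Q) are isomorphic as rings, then P ≅ Q as A-modules. (The published assertion
says more, that every ring isomorphism End_A(P) ≅ End_A(Q) is induced by an isomorphism P ≅ Q; that
is not correct for isomorphisms which are not linear over the centre — complex conjugation is a ring
automorphism of End_ℂ(ℂ) = ℂ induced by no ℂ-linear map — and this row keeps the existence of an
isomorphism P ≅ Q, which is what the first part of the printed proof establishes.) -/
theorem result (A : Type u) [Ring A] [IsSimpleRing (A ⧸ Ring.jacobson A)] [IsArtinianRing (A ⧸ Ring.jacobson A)] (P Q : Type v) [AddCommGroup P] [Module A P] [Module.Finite A P] [Module.Projective A P] [AddCommGroup Q] [Module A Q] [Module.Finite A Q] [Module.Projective A Q] (e : Module.End A P ≃+* Module.End A Q) : Nonempty (P ≃ₗ[A] Q) := by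
  obtain ⟨f, -⟩ := liftIso (A := A) (P := P) (Q := Q) (modJ_iso e).some
  exact ⟨f⟩

end Groth.Agent.S13847
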