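import Groth.Statements.S13867
import Groth.Agent.ParLib.Contraction
import Groth.Agent.S5369

set_option autoImplicit false
set_option linter.style.haveILetI false
universe u
open CategoryTheory MonoidalCategory CartesianMonoidalCategory MonObj GrpObj AlgebraicGeometry
open ParSch

namespace Groth.Agent.S13867

/-- Let k be an algebraically closed field, G a group scheme of finite type over k and H ⊆ H' closed
subgroup schemes of G. Let q : G → X and q' : G → X' be the quotients of G by H and by H' (fppf
quotients represented by schemes), f : X → X' the morphism with q ≫ f = q', and r : H' → Y the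
quotient of H' by H. Then f is a contraction (proper, and O_{X'}(U) → O_X(f⁻¹ U) is an isomorphism
for every open U of X') if and only if Y is proper over k and the global functions of Y reduce to k
(the map k → Γ(Y, O_Y) is an isomorphism). -/
theorem result
    (k : Type u) [Field k] [IsAlgClosed k]
    (G : Over (Spec (CommRingCat.of k))) [GrpObj G] [LocallyOfFiniteType G.hom] [QuasiCompact G.hom]
    (H H' : Over (Spec (CommRingCat.of k))) [GrpObj H] [GrpObj H']
    (iH : H ⟶ G) [IsMonHom iH] (hH : IsClosedImmersion iH.left)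
    (iH' : H' ⟶ G) [IsMonHom iH'] (hH' : IsClosedImmersion iH'.left)
    (e : H ⟶ H') [IsMonHom e] (he : e ≫ iH' = iH)
    (X X' Y : Over (Spec (CommRingCat.of k))) (q : G ⟶ X) (hq : RedSub.IsQuotient iH q) (q' : G ⟶ X') (hq' : RedSub.IsQuotient iH' q')
    (f : X ⟶ X') (hf : q ≫ f = q') (r : H' ⟶ Y) (hr : RedSub.IsQuotient e r) :
    (IsProper f.left ∧ ∀ U : X'.left.Opens, IsIso (f.left.app U)) ↔
      (IsProper Y.hom ∧ IsIso Y.hom.appTop) := by
  haveI : Mono iH' := haveI := hH'; (Over.forget _).mono_of_mono_map (inferInstanceAs (Mono iH'.left))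
  obtain ⟨Φ, hΦ⟩ := Groth.Agent.ParLib.exists_isPullback_fst iH iH' e he q hq q' hq' f hf r hr
  have hX : IsPullback Φ.left (fst G Y).left f.left q'.left := (hΦ.map (Over.forget _)).flip
  have hY : IsPullback (snd G Y).left (fst G Y).left Y.hom G.hom := by
    simpa [Over.fst_left, Over.snd_left] using (IsPullback.of_hasPullback G.hom Y.hom).flip
  obtain ⟨hqs, hqf, hqp, hsq⟩ := hq'
  haveI := hqs; haveI := hqf; haveI := hqp
  haveI : Subsingleton (Spec (CommRingCat.of k)) := inferInstanceAs (Subsingleton (PrimeSpectrum k))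
  haveI : Nonempty G.left := ⟨(η[G]).left (show PrimeSpectrum k from Classical.arbitrary _)⟩
  haveI : Surjective G.hom := ⟨fun x => ⟨Classical.arbitrary G.left, Subsingleton.elim _ _⟩⟩
  haveI : Flat G.hom := inferInstance
  haveI : IsSeparated X'.hom :=
    (Groth.Agent.S5369.result _ G H' X' iH' q' (Groth.Agent.ParLib.hcov_of_lfp q'.left) hsq.flip).2.2.1.mpr hH'
  haveI : QuasiCompact (q'.left ≫ X'.hom) := by rw [Over.w q']; infer_instance
  haveI : QuasiCompact q'.left := QuasiCompact.of_comp q'.left X'.hom
  have := Groth.Agent.EtFound.fpqc_isProper.{u}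
  have hP : IsProper f.left ↔ IsProper Y.hom := by
    constructor
    · intro h
      exact MorphismProperty.of_isPullback_of_descendsAlong (Q := @Surjective ⊓ @Flat ⊓ @QuasiCompact) hY.flip
        ⟨⟨inferInstance, inferInstance⟩, inferInstance⟩ (MorphismProperty.of_isPullback hX h)
    · intro h
      exact MorphismProperty.of_isPullback_of_descendsAlong (Q := @Surjective ⊓ @Flat ⊓ @QuasiCompact) hX.flip
        ⟨⟨inferInstance, inferInstance⟩, inferInstance⟩ (MorphismProperty.of_isPullback hY h)
  constructor
  · rintro ⟨hp, hi⟩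
    haveI := hP.1 hp
    exact ⟨inferInstance, Groth.Agent.ParLib.isIso_appTop_of_contraction hY hX hi⟩
  · rintro ⟨hp, hi⟩
    haveI := hP.2 hp
    exact ⟨inferInstance, Groth.Agent.ParLib.contraction_of_isIso_appTop hY hX hi⟩

end Groth.Agent.S13867
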