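import Groth.Statements.S1387
import Groth.Agent.FlatFibres.FibreHypersurface

set_option autoImplicit false
universe u
open FlatMor

namespace Groth.Agent.S1387

open AlgebraicGeometry CategoryTheory Limits in
/-- Let f : X → S be dominant and locally of finite type with X and S irreducible, let η be the generic
point of S and s a point with dim X_s ≤ dim X_η, and let Z be a locally principal closed subscheme
of X (its ideal sheaf is generated by one section on an affine neighbourhood of each point) whose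
generic fibre is empty. Then, set-theoretically, the fibre of Z over s is a union of irreducible
components of the fibre of X over s. -/
theorem result {X S : Scheme.{u}} (f : X ⟶ S) [IrreducibleSpace ↑S] [IrreducibleSpace ↑X] [IsDominant f] [LocallyOfFiniteType f]
    (s : S) (hdim : topologicalKrullDim ↑(f.fiber s) ≤ topologicalKrullDim ↑(f.fiber (genericPoint ↑S)))
    (Z : X.IdealSheafData) (hZ : ∀ x : X, ∃ (U : X.Opens) (hU : IsAffineOpen U) (g : Γ(X, U)), x ∈ U ∧ Z.ideal ⟨U, hU⟩ = Ideal.span {g})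
    (hη : ∀ x ∈ (Z.support : Set ↑X), f x ≠ genericPoint ↑S) :
    ∀ x : ↑(f ⁻¹' {s}), (x : ↑X) ∈ (Z.support : Set ↑X) →
      ∃ C ∈ irreducibleComponents ↑(f ⁻¹' {s}), x ∈ C ∧ Subtype.val '' C ⊆ (Z.support : Set ↑X) := by
  rintro ⟨x, hx⟩ hxZ
  obtain ⟨U₀, hU₀, g, hxU₀, hg⟩ := hZ x
  obtain ⟨V, hV, hxV, -⟩ := exists_isAffineOpen_mem_and_subset (X := S) (x := f x) (U := ⊤) trivial
  obtain ⟨U, hU, hxU, hUsub⟩ := exists_isAffineOpen_mem_and_subset (X := X) (x := x) (U := f ⁻¹ᵁ V ⊓ U₀) ⟨hxV, hxU₀⟩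
  have hUV : U ≤ f ⁻¹ᵁ V := fun y hy => (hUsub hy).1
  have hUU₀ : U ≤ U₀ := fun y hy => (hUsub hy).2
  let c : Γ(X, U) := X.presheaf.map (homOfLE hUU₀).op g
  have hZc : ∀ P : PrimeSpectrum Γ(X, U), hU.fromSpec P ∈ (Z.support : Set X) ↔ c ∈ P.asIdeal := by
    intro P
    have hPU : hU.fromSpec P ∈ U := hU.range_fromSpec.le ⟨P, rfl⟩
    have h1 : hU.fromSpec P ∈ X.basicOpen c ↔ c ∉ P.asIdeal := by
      show P ∈ hU.fromSpec ⁻¹ᵁ X.basicOpen c ↔ _
      rw [hU.fromSpec_preimage_basicOpen]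
      rfl
    have hb : X.basicOpen c = U ⊓ X.basicOpen g := X.basicOpen_res g (homOfLE hUU₀).op
    have h2 : hU.fromSpec P ∈ (Z.support : Set X) ↔ hU.fromSpec P ∉ X.basicOpen g := by
      have h3 := Set.ext_iff.1 (Z.coe_support_inter ⟨U₀, hU₀⟩) (hU.fromSpec P)
      simp only [Set.mem_inter_iff, show hU.fromSpec P ∈ (U₀ : Set X) from hUU₀ hPU, and_true] at h3
      rw [h3, hg, Scheme.zeroLocus_span, Scheme.mem_zeroLocus_iff]
      simp
    rw [h2, ← not_iff_not, not_not, ← h1, hb]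
    exact ⟨fun h => ⟨hPU, h⟩, fun h => h.2⟩
  have hgen : f (genericPoint ↑X) = genericPoint ↑S := by
    refine IsGenericPoint.eq (S := Set.univ) ?_ (genericPoint_spec S)
    have := (genericPoint_spec X).image f.continuous
    rwa [Set.image_univ, f.denseRange.closure_range] at this
  have hηU : genericPoint ↑X ∈ U := (genericPoint_spec X).mem_open_set_iff U.2 |>.2 ⟨x, trivial, hxU⟩
  have hle : ∀ Q Q' : PrimeSpectrum Γ(X, U), hU.fromSpec Q ⤳ hU.fromSpec Q' ↔ Q.asIdeal ≤ Q'.asIdeal := fun Q Q' =>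
    (hU.fromSpec.isOpenEmbedding.isEmbedding.isInducing.specializes_iff).trans (PrimeSpectrum.le_iff_specializes Q Q').symm
  letI : Algebra Γ(S, V) Γ(X, U) := (f.appLE V U hUV).hom.toAlgebra
  haveI : Algebra.FiniteType Γ(S, V) Γ(X, U) := f.finiteType_appLE hV hU hUV
  have hf : ∀ Q : PrimeSpectrum Γ(X, U), f (hU.fromSpec Q) =
      hV.fromSpec (PrimeSpectrum.comap (algebraMap Γ(S, V) Γ(X, U)) Q) := fun Q =>
    (Scheme.Hom.comp_apply _ _ _).symm.trans ((congrArg (fun φ => φ Q) (hV.SpecMap_appLE_fromSpec f hU hUV).symm).trans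
      (Scheme.Hom.comp_apply _ _ _))
  have hfeq : ∀ Q Q' : PrimeSpectrum Γ(X, U), Q.asIdeal.comap (algebraMap Γ(S, V) Γ(X, U)) =
      Q'.asIdeal.comap (algebraMap Γ(S, V) Γ(X, U)) ↔ f (hU.fromSpec Q) = f (hU.fromSpec Q') := fun Q Q' => by
    rw [hf, hf]
    exact ⟨fun h => congrArg hV.fromSpec (PrimeSpectrum.ext h),
      fun h => congrArg PrimeSpectrum.asIdeal (hV.fromSpec.isOpenEmbedding.injective h)⟩
  let η := hU.primeIdealOf ⟨_, hηU⟩
  let q := hU.primeIdealOf ⟨x, hxU⟩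
  have hη' : hU.fromSpec η = genericPoint ↑X := hU.fromSpec_primeIdealOf ⟨_, hηU⟩
  have hq' : hU.fromSpec q = x := hU.fromSpec_primeIdealOf ⟨x, hxU⟩
  have hall : ∀ P : PrimeSpectrum Γ(X, U), η.asIdeal ≤ P.asIdeal := fun P =>
    (hle η P).1 (by rw [hη']; exact genericPoint_specializes _)
  by_cases hex : ∃ P : PrimeSpectrum Γ(X, U), P.asIdeal ≤ q.asIdeal ∧ c ∈ P.asIdeal ∧
      P.asIdeal.comap (algebraMap Γ(S, V) Γ(X, U)) = q.asIdeal.comap (algebraMap Γ(S, V) Γ(X, U)) ∧
      ∀ Q : PrimeSpectrum Γ(X, U), Q.asIdeal ≤ P.asIdeal →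
        Q.asIdeal.comap (algebraMap Γ(S, V) Γ(X, U)) = q.asIdeal.comap (algebraMap Γ(S, V) Γ(X, U)) → Q = P
  · obtain ⟨P, hPq, hcP, hPA, hPmin⟩ := hex
    let z := hU.fromSpec P
    have hzs : f z = s := by
      rw [(hfeq P q).1 hPA, hq']
      exact hx
    have hzx : z ⤳ x := by rw [← hq']; exact (hle P q).2 hPq
    have hmax : Groth.Agent.FibDim.FibMax f z := by
      intro w hw hfw
      obtain ⟨Q, rfl⟩ : w ∈ Set.range hU.fromSpec := by
        rw [hU.range_fromSpec]
        exact hw.mem_open U.2 (hU.range_fromSpec.le ⟨P, rfl⟩)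
      exact congrArg hU.fromSpec (hPmin Q ((hle Q P).1 hw) (((hfeq Q P).2 hfw).trans hPA))
    refine ⟨_, Groth.Agent.FlatFibres.component_of_fibMax f z hzs hmax, ?_, ?_⟩
    · rw [closure_subtype, Set.image_singleton]
      exact specializes_iff_mem_closure.1 hzx
    · rintro _ ⟨a, ha, rfl⟩
      rw [closure_subtype, Set.image_singleton] at ha
      exact (specializes_iff_mem_closure.2 ha).mem_closed Z.support.isClosed ((hZc P).2 hcP)
  · exfalso
    let A₀ := Γ(S, V) ⧸ η.asIdeal.comap (algebraMap Γ(S, V) Γ(X, U))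
    let C₀ := Γ(X, U) ⧸ η.asIdeal
    haveI : IsDomain C₀ := Ideal.Quotient.isDomain _
    haveI : (η.asIdeal.comap (algebraMap Γ(S, V) Γ(X, U))).IsPrime := Ideal.comap_isPrime _ _
    haveI : IsDomain A₀ := Ideal.Quotient.isDomain _
    haveI : η.asIdeal.LiesOver (η.asIdeal.comap (algebraMap Γ(S, V) Γ(X, U))) := ⟨rfl⟩
    haveI : Algebra.FiniteType Γ(S, V) C₀ :=
      Algebra.FiniteType.of_surjective (Ideal.Quotient.mkₐ Γ(S, V) η.asIdeal) Ideal.Quotient.mk_surjective
    haveI : Algebra.FiniteType A₀ C₀ := Algebra.FiniteType.of_restrictScalars_finiteType Γ(S, V) A₀ C₀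
    let π : Γ(X, U) →+* C₀ := Ideal.Quotient.mk η.asIdeal
    have hπ : Function.Surjective π := Ideal.Quotient.mk_surjective
    let pt : ∀ P : Ideal C₀, P.IsPrime → PrimeSpectrum Γ(X, U) := fun P hP => ⟨P.comap π, Ideal.comap_isPrime _ _⟩
    have hbase : ∀ P : Ideal C₀, (P.comap π).comap (algebraMap Γ(S, V) Γ(X, U)) =
        (P.comap (algebraMap A₀ C₀)).comap (Ideal.Quotient.mk _) := fun P => rfl
    have hinjbase : ∀ P P' : Ideal C₀, P.comap (algebraMap A₀ C₀) = P'.comap (algebraMap A₀ C₀) ↔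
        (P.comap π).comap (algebraMap Γ(S, V) Γ(X, U)) = (P'.comap π).comap (algebraMap Γ(S, V) Γ(X, U)) := fun P P' => by
      rw [hbase, hbase]
      exact ⟨fun h => congrArg _ h, fun h => Ideal.comap_injective_of_surjective _ Ideal.Quotient.mk_surjective h⟩
    let q₀ : Ideal C₀ := q.asIdeal.map π
    have hq₀ : q₀.comap π = q.asIdeal := by
      show (q.asIdeal.map π).comap π = q.asIdeal
      rw [Ideal.comap_map_of_surjective π hπ, ← RingHom.ker_eq_comap_bot, Ideal.mk_ker, sup_eq_left.2 (hall q)]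
    haveI : q₀.IsPrime := Ideal.map_isPrime_of_surjective hπ (by rw [Ideal.mk_ker]; exact hall q)
    have hcq : π c ∈ q₀ := Ideal.mem_map_of_mem π ((hZc q).1 (by rw [hq']; exact hxZ))
    have hfd : ∀ (P : Ideal C₀) [P.IsPrime], DimFormula.fd A₀ P = FibDim.rd f (hU.fromSpec (pt P inferInstance)) := by
      intro P _
      haveI : (P.comap π).IsPrime := Ideal.comap_isPrime _ _
      rw [← Groth.Agent.FlatFibres.fd_eq_fd_quotient_base (A₁ := Γ(S, V)) Ideal.Quotient.mk_surjective P,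
        ← DimFormula.fd_comap_of_surjective Γ(S, V) (Ideal.Quotient.mkₐ Γ(S, V) η.asIdeal) Ideal.Quotient.mk_surjective P]
      refine eq_of_forall_le_iff fun n => ?_
      rw [DimFormula.le_fd_iff, FibDim.le_rd_iff f hV hU hUV (pt P inferInstance) n]
      rfl
    have hbot : (⊥ : Ideal C₀).comap π = η.asIdeal := by rw [← RingHom.ker_eq_comap_bot, Ideal.mk_ker]
    have hpt : ∀ (P : Ideal C₀) [P.IsPrime], P.comap (algebraMap A₀ C₀) = q₀.comap (algebraMap A₀ C₀) →
        f (hU.fromSpec (pt P inferInstance)) = s := fun P _ h => by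
      refine ((hfeq (pt P inferInstance) q).1 ?_).trans (by rw [hq']; exact hx)
      have := (hinjbase P q₀).1 h
      rwa [hq₀] at this
    have hrdη : ∀ y, f y = genericPoint ↑S → FibDim.rd f y ≤ FibDim.rd f (genericPoint ↑X) := fun y hy =>
      FibDim.rd_le_of_specializes f (genericPoint_specializes y) (hgen.trans hy.symm)
    have hbound : ∀ (P : Ideal C₀) [P.IsPrime], P.comap (algebraMap A₀ C₀) = q₀.comap (algebraMap A₀ C₀) → P ≤ q₀ →
        DimFormula.fd A₀ P ≤ DimFormula.fd A₀ (⊥ : Ideal C₀) := by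
      intro P _ hP _
      haveI : (⊥ : Ideal C₀).IsPrime := Ideal.isPrime_bot
      rw [hfd P, hfd (⊥ : Ideal C₀)]
      have h1 : hU.fromSpec (pt (⊥ : Ideal C₀) inferInstance) = genericPoint ↑X := by
        rw [show pt (⊥ : Ideal C₀) inferInstance = η from PrimeSpectrum.ext hbot, hη']
      rw [h1]
      have h2 : (((FibDim.rd f (hU.fromSpec (pt P inferInstance)) : ℕ) : ℕ∞) : WithBot ℕ∞) ≤
          topologicalKrullDim ↑(f.fiber s) := by
        rw [FibDim.topologicalKrullDim_fiber]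
        exact le_iSup (fun v : ↥(f ⁻¹' {s}) => ((FibDim.rd f v.1 : ℕ∞) : WithBot ℕ∞)) ⟨_, hpt P hP⟩
      have h3 : topologicalKrullDim ↑(f.fiber (genericPoint ↑S)) ≤
          (((FibDim.rd f (genericPoint ↑X) : ℕ) : ℕ∞) : WithBot ℕ∞) := by
        rw [FibDim.topologicalKrullDim_fiber]
        exact iSup_le fun v => by exact_mod_cast hrdη v.1 v.2
      exact_mod_cast (h2.trans hdim).trans h3
    haveI : FaithfulSMul A₀ C₀ := Ideal.Quotient.instFaithfulSMul _ _
    obtain ⟨Q, hQ, hQq, hcQ, hQA⟩ := Groth.Agent.FlatFibres.exists_prime_mem_of_bound q₀ (π c) hcq hbound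
      (fun P hP hPq hPA hPmin hcP => hex ⟨pt P hP, (Ideal.comap_mono hPq).trans hq₀.le, hcP,
        by rw [← hq₀]; exact (hinjbase P q₀).1 hPA, fun Q hQP hQA => by
          haveI := hP
          have hker : RingHom.ker π ≤ Q.asIdeal := by rw [Ideal.mk_ker]; exact hall Q
          haveI : (Q.asIdeal.map π).IsPrime := Ideal.map_isPrime_of_surjective hπ hker
          have hb : (Q.asIdeal.map π).comap π = Q.asIdeal := by
            rw [Ideal.comap_map_of_surjective π hπ, ← RingHom.ker_eq_comap_bot, sup_eq_left.2 hker]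
          have := hPmin (Q.asIdeal.map π) inferInstance (Ideal.map_le_iff_le_comap.2 hQP)
            ((hinjbase _ _).2 (by rw [hb, hq₀]; exact hQA))
          exact PrimeSpectrum.ext (by rw [← hb, this])⟩)
    have hfQ : f (hU.fromSpec (pt Q hQ)) = genericPoint ↑S := by
      rw [← hgen, ← hη']
      refine (hfeq (pt Q hQ) η).1 ?_
      show (Q.comap π).comap _ = _
      rw [hbase, hQA, ← RingHom.ker_eq_comap_bot, Ideal.mk_ker]
    exact hη _ ((hZc (pt Q hQ)).2 hcQ) hfQ

end Groth.Agent.S1387
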