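import Groth.Statements.S13934
import Groth.Agent.CurveCohLib.Stable
import Groth.Agent.Lib.InvEnd
-- import your own Groth.Agent.* helpers here

set_option autoImplicit false
set_option linter.style.haveILetI false
set_option backward.isDefEq.respectTransparency.types false
universe u
open CategoryTheory CategoryTheory.Limits AlgebraicGeometry
open W4c1limliniiii

namespace Groth.Agent.S13934

/-- On a smooth proper integral curve over an algebraically closed field (any characteristic), let 0 → L
→ E → M → 0 be a short exact sequence of O_X-modules with E finite locally free of rank 2 and degree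
0, L and M invertible and deg L > 0 (so M is det E ⊗ L⁻¹). Then: every invertible sheaf N admitting
a non-zero map N → E has deg N ≤ deg L, so L is the line bundle of maximal degree in E; every
invertible subsheaf N of E of positive degree with invertible quotient E/N coincides with L (some
isomorphism N ≅ L commutes with the inclusions); and E is not an extension of two invertible sheaves
of degree 0. Degrees are χ(−) minus rank times χ(O_X). (The published lemma is stated on a curve of
genus 2 in characteristic p; its argument uses neither, and this row assumes neither.) -/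
theorem result (k : Type u) [Field k] [IsAlgClosed k] (X : Scheme.{u}) [X.Over (Spec (CommRingCat.of k))]
    [IsIntegral X] [IsProper (X ↘ Spec (CommRingCat.of k))] [Smooth (X ↘ Spec (CommRingCat.of k))]
    (hdim : topologicalKrullDim X = 1)
    (S : ShortComplex X.Modules) (hS : S.ShortExact)
    (hE : FlatMod.IsFinLocFreeOfRank 2 S.X₂) (hE0 : Curv2.deg k X S.X₂ 2 = 0)
    (hL : PicF.IsInvertible S.X₁) (hM : PicF.IsInvertible S.X₃) (hpos : 0 < Curv2.deg k X S.X₁ 1) :
    (∀ (N : X.Modules), PicF.IsInvertible N → ∀ j : N ⟶ S.X₂, j ≠ 0 →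
        Curv2.deg k X N 1 ≤ Curv2.deg k X S.X₁ 1) ∧
    (∀ (N : X.Modules), PicF.IsInvertible N → ∀ (j : N ⟶ S.X₂), Mono j →
        PicF.IsInvertible (cokernel j) → 0 < Curv2.deg k X N 1 → ∃ φ : N ≅ S.X₁, φ.hom ≫ S.f = j) ∧
    (∀ (N N' : X.Modules), PicF.IsInvertible N → PicF.IsInvertible N' →
        Curv2.deg k X N 1 = 0 → Curv2.deg k X N' 1 = 0 →
        ∀ (a : N ⟶ S.X₂) (b : S.X₂ ⟶ N') (w : a ≫ b = 0), ¬ (ShortComplex.mk a b w).ShortExact) := by
  haveI : IsLocallyNoetherian X := LocallyOfFiniteType.isLocallyNoetherian (X ↘ Spec (CommRingCat.of k))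
  have hr : ∀ {N : X.Modules}, PicF.IsInvertible N → FlatMod.IsFinLocFreeOfRank 1 N :=
    fun hN => Groth.Agent.InvEnd.isFinLocFreeOfRank_one hN
  have hc : ∀ {n : ℕ} {N : X.Modules}, FlatMod.IsFinLocFreeOfRank n N → Coh.IsCoh N := fun {n N} hN =>
    Groth.Agent.QCoh.isCoh_iff_isFP.2 (Groth.Agent.QCoh.isFP_of_isFinLocFree
      (Groth.Agent.ConsPropLib.isFinLocFreeOfRank_iff.1 hN).1)
  have hle : ∀ {N P : X.Modules}, PicF.IsInvertible N → PicF.IsInvertible P → ∀ φ : N ⟶ P, φ ≠ 0 →
      Curv2.deg k X N 1 ≤ Curv2.deg k X P 1 := by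
    intro N P hN hP φ hφ
    haveI : Mono φ := Groth.Agent.InvEnd.mono_of_ne_zero hN hP φ hφ
    exact (Groth.Agent.CurveCohLib.deg_le_of_mono k hdim φ (hr hN) (hr hP)).1
  have hdeg : ∀ (T : ShortComplex X.Modules), T.ShortExact → T.X₂ = S.X₂ → PicF.IsInvertible T.X₁ →
      PicF.IsInvertible T.X₃ → Curv2.deg k X T.X₁ 1 + Curv2.deg k X T.X₃ 1 = 0 := by
    intro T hT h2 h1 h3
    rw [← Groth.Agent.CurveCohLib.deg_add k hT (hc (hr h1)) (h2 ▸ hc hE) (hc (hr h3)) 1 1, h2]
    exact hE0
  have hLM := hdeg S hS rfl hL hM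
  haveI := hS.mono_f
  -- maps into `E` from a line bundle factor through `L` unless their degree is negative
  have hfac : ∀ {N : X.Modules}, PicF.IsInvertible N → ∀ j : N ⟶ S.X₂,
      (∃ φ : N ⟶ S.X₁, φ ≫ S.f = j) ∨ Curv2.deg k X N 1 ≤ - Curv2.deg k X S.X₁ 1 := by
    intro N hN j
    by_cases h : j ≫ S.g = 0
    · exact Or.inl ⟨hS.exact.lift j h, hS.exact.lift_f j h⟩
    · right
      have := hle hN hM _ h
      omega
  refine ⟨fun N hN j hj => ?_, fun N hN j hjm hQ hNpos => ?_, fun N N' hN hN' h0 h0' a b w hex => ?_⟩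
  · rcases hfac hN j with ⟨φ, rfl⟩ | h
    · exact hle hN hL φ fun h0 => hj (by rw [h0, zero_comp])
    · omega
  · obtain ⟨φ, hφ⟩ : ∃ φ : N ⟶ S.X₁, φ ≫ S.f = j := (hfac hN j).resolve_right (by omega)
    let T : ShortComplex X.Modules := ShortComplex.mk j (cokernel.π j) (cokernel.condition j)
    have hT : T.ShortExact :=
      { exact := ShortComplex.exact_of_g_is_cokernel _ (cokernelIsCokernel j) }
    have hNQ := hdeg T hT rfl hN hQ
    have h1 : S.f ≫ cokernel.π j = 0 := by
      by_contra h
      have := hle hL hQ _ h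
      change Curv2.deg k X N 1 + Curv2.deg k X (cokernel j) 1 = 0 at hNQ
      omega
    let ψ : S.X₁ ⟶ N := hT.exact.lift S.f h1
    have hψ : ψ ≫ j = S.f := hT.exact.lift_f S.f h1
    refine ⟨⟨φ, ψ, ?_, ?_⟩, hφ⟩
    · rw [← cancel_mono j, Category.assoc, hψ, hφ, Category.id_comp]
    · rw [← cancel_mono S.f, Category.assoc, hφ, hψ, Category.id_comp]
  · by_cases h : S.f ≫ b = 0
    · haveI := hex.mono_f
      let ψ : S.X₁ ⟶ N := hex.exact.lift S.f h
      have hψ : ψ ≫ a = S.f := hex.exact.lift_f S.f h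
      by_cases h2 : ψ = 0
      · have h3 : S.f = 0 := by rw [← hψ, h2, zero_comp]
        have hz : Limits.IsZero S.X₁ := (Limits.IsZero.iff_id_eq_zero _).2 (by
          rw [← cancel_mono S.f, h3, comp_zero, comp_zero])
        exact absurd hz (Groth.Agent.CurveEnd.not_isZero S.X₁ 1 one_pos (hr hL))
      · have := hle hL hN ψ h2
        omega
    · have := hle hL hN' _ h
      omega

end Groth.Agent.S13934
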