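import Groth.Statements.S1394
import Groth.Agent.FlatFibres.LocalCurve

set_option autoImplicit false
universe u
open FlatMor

namespace Groth.Agent.S1394

/-- Let A → B be a local homomorphism of local rings with A Noetherian, B essentially of finite type
over A, and the residue field of B finite over that of A. Let V ⊆ Spec B be an open subset
containing some prime that does not lie over the maximal ideal of A. Then V contains a prime q, not
lying over the maximal ideal of A, such that B/q is quasi-finite over A in the sense that every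
fibre ring of A → B/q is finite over the corresponding residue field of A. (The published statement
is stronger: there B/q is moreover a localization of a quasi-finite A-algebra of finite type, which
implies this.) -/
theorem result {A B : Type u} [CommRing A] [CommRing B] [IsLocalRing A] [IsLocalRing B] [IsNoetherianRing A]
    [Algebra A B] [IsLocalHom (algebraMap A B)] [Algebra.EssFiniteType A B]
    [Module.Finite (IsLocalRing.ResidueField A) (IsLocalRing.ResidueField B)]
    (V : Set (PrimeSpectrum B)) (hV : IsOpen V) (hne : ∃ q ∈ V, q.asIdeal.comap (algebraMap A B) ≠ IsLocalRing.maximalIdeal A) :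
    ∃ q ∈ V, q.asIdeal.comap (algebraMap A B) ≠ IsLocalRing.maximalIdeal A ∧ Algebra.QuasiFinite A (B ⧸ q.asIdeal) := by
  obtain ⟨q0, hq0V, hq0⟩ := hne
  obtain ⟨_, ⟨gB, rfl⟩, hq0g, hgV⟩ := PrimeSpectrum.isTopologicalBasis_basic_opens.exists_subset_of_mem_open hq0V hV
  let C := Algebra.EssFiniteType.subalgebra A B
  let N := Algebra.EssFiniteType.submonoid A B
  haveI : IsNoetherianRing C := Algebra.FiniteType.isNoetherianRing A C
  let M : Ideal C := (IsLocalRing.maximalIdeal B).comap (algebraMap C B)
  haveI hMmax : M.IsMaximal := by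
    let π : C →+* IsLocalRing.ResidueField B := (IsLocalRing.residue B).comp (algebraMap C B)
    have hπ : π.IsIntegral := fun z => by
      have hz : IsIntegral A z := by
        haveI : Algebra.IsIntegral (IsLocalRing.ResidueField A) (IsLocalRing.ResidueField B) := inferInstance
        haveI : Algebra.IsIntegral A (IsLocalRing.ResidueField A) :=
          Algebra.isIntegral_of_surjective IsLocalRing.residue_surjective
        exact isIntegral_trans (R := A) (A := IsLocalRing.ResidueField A) z (Algebra.IsIntegral.isIntegral z)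
      have hcomp : π.comp (algebraMap A C) = (RingHom.id _).comp (algebraMap A (IsLocalRing.ResidueField B)) :=
        RingHom.ext fun a => rfl
      obtain ⟨G, hG, hGz⟩ := hz
      refine ⟨G.map (algebraMap A C), hG.map _, ?_⟩
      rw [Polynomial.eval₂_map, hcomp]
      exact hGz
    have : M = (⊥ : Ideal (IsLocalRing.ResidueField B)).comap π := by
      ext c
      exact (IsLocalRing.residue_eq_zero_iff _).symm
    rw [this]
    haveI : (⊥ : Ideal (IsLocalRing.ResidueField B)).IsMaximal := Ideal.bot_isMaximal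
    exact Ideal.isMaximal_comap_of_isIntegral_of_isMaximal' π hπ ⊥
  have hMA : M.comap (algebraMap A C) = IsLocalRing.maximalIdeal A := by
    rw [Ideal.comap_comap, ← IsScalarTower.algebraMap_eq A C B]
    exact IsLocalRing.maximalIdeal_comap (algebraMap A B)
  obtain ⟨a, ham, haq⟩ := SetLike.exists_of_lt
    (lt_of_le_of_ne (IsLocalRing.le_maximalIdeal (Ideal.IsPrime.ne_top inferInstance)) hq0)
  obtain ⟨⟨c, s⟩, hcs⟩ := IsLocalization.surj N gB
  let P := q0.asIdeal.comap (algebraMap C B)
  have hgP : c * algebraMap A C a ∉ P := by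
    rw [Ideal.mem_comap, map_mul, ← hcs, ← IsScalarTower.algebraMap_apply A C B]
    exact fun h => (q0.isPrime.mem_or_mem h).elim (fun h' => (q0.isPrime.mem_or_mem h').elim hq0g
      fun h'' => q0.isPrime.ne_top (Ideal.eq_top_of_isUnit_mem _ h'' (IsLocalization.map_units B s))) haq
  have hgM : c * algebraMap A C a ∈ M := M.mul_mem_left _ (hMA.ge ham : algebraMap A C a ∈ M)
  obtain ⟨q, hqp, hPq, hqM, hgq, hbet⟩ := Groth.Agent.FlatFibres.exists_curve_prime P M
    (Ideal.comap_mono (IsLocalRing.le_maximalIdeal q0.isPrime.ne_top)) hgP hgM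
  have haC : algebraMap A C a ∉ q := fun h => hgq (q.mul_mem_left _ h)
  have hdisj : Disjoint (N : Set C) (q : Set C) := Set.disjoint_left.2 fun x hx hxq => (hqM hxq) hx
  haveI hqB : (q.map (algebraMap C B)).IsPrime := IsLocalization.isPrime_of_isPrime_disjoint N B q hqp hdisj
  have hqc : (q.map (algebraMap C B)).comap (algebraMap C B) = q :=
    IsLocalization.under_map_of_isPrime_disjoint N B hqp hdisj
  refine ⟨⟨q.map (algebraMap C B), hqB⟩, hgV ?_, fun h => haC ?_, ?_⟩
  · show gB ∉ q.map (algebraMap C B)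
    intro h
    have : c ∈ q := by
      rw [← hqc, Ideal.mem_comap, ← hcs]
      exact Ideal.mul_mem_right _ _ h
    exact hgq (q.mul_mem_right _ this)
  · rw [← hqc, Ideal.mem_comap, ← IsScalarTower.algebraMap_apply A C B]
    exact h.ge ham
  -- quasi-finiteness
  obtain ⟨e, heM, he⟩ := Groth.Agent.FlatFibres.exists_isolating (A := A) q M hqM hbet
    (fun h => haC ((h.trans hMA).ge ham))
    (fun Q hQ hMQ _ => (hMmax.eq_of_le hQ.ne_top hMQ).symm)
  let M' := M.map (Ideal.Quotient.mk q)
  haveI : M'.IsPrime := Ideal.map_isPrime_of_surjective Ideal.Quotient.mk_surjective (by rw [Ideal.mk_ker]; exact hqM)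
  have hM' : M'.comap (Ideal.Quotient.mk q) = M := by
    rw [Ideal.comap_map_of_surjective _ Ideal.Quotient.mk_surjective, ← RingHom.ker_eq_comap_bot, Ideal.mk_ker,
      sup_eq_left.2 hqM]
  haveI : Algebra.QuasiFiniteAt A M' := by
    refine Algebra.QuasiFiniteAt.of_isOpen_singleton_fiber (⟨M', inferInstance⟩ : PrimeSpectrum (C ⧸ q)) ?_
    rw [isOpen_induced_iff]
    refine ⟨PrimeSpectrum.basicOpen (Ideal.Quotient.mk q e), (PrimeSpectrum.basicOpen _).isOpen, ?_⟩
    ext ⟨Q, hQ⟩
    simp only [Set.mem_preimage, SetLike.mem_coe, PrimeSpectrum.mem_basicOpen, Set.mem_singleton_iff]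
    refine ⟨fun heQ => Subtype.ext (PrimeSpectrum.ext ?_), fun h => ?_⟩
    · have h1 : Q.asIdeal.comap (Ideal.Quotient.mk q) = M := he _ (Ideal.comap_isPrime _ _)
        (fun x hx => by rw [Ideal.mem_comap, Ideal.Quotient.eq_zero_iff_mem.2 hx]; exact Q.asIdeal.zero_mem)
        (by
          have h2 : Q.asIdeal.comap (algebraMap A (C ⧸ q)) = M'.comap (algebraMap A (C ⧸ q)) :=
            congrArg PrimeSpectrum.asIdeal hQ
          rw [Ideal.comap_comap, ← Ideal.Quotient.algebraMap_eq, ← IsScalarTower.algebraMap_eq, h2,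
            IsScalarTower.algebraMap_eq A C (C ⧸ q), ← Ideal.comap_comap, Ideal.Quotient.algebraMap_eq, hM']) heQ
      show Q.asIdeal = M'
      rw [← Ideal.map_comap_of_surjective (Ideal.Quotient.mk q) Ideal.Quotient.mk_surjective Q.asIdeal, h1]
    · have hQM : Q.asIdeal = M' := congrArg (fun z => z.1.asIdeal) h
      intro h'
      exact heM (hM'.le (show Ideal.Quotient.mk q e ∈ M' from hQM ▸ h'))
  let f : (C ⧸ q) →ₐ[A] (B ⧸ q.map (algebraMap C B)) := Ideal.Quotient.liftₐ q
    ((Ideal.Quotient.mkₐ A (q.map (algebraMap C B))).comp (IsScalarTower.toAlgHom A C B))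
    (fun x hx => Ideal.Quotient.eq_zero_iff_mem.2 (Ideal.mem_map_of_mem _ hx))
  have hf : ∀ x : C, f (Ideal.Quotient.mk q x) = Ideal.Quotient.mk _ (algebraMap C B x) := fun x => rfl
  have hfu : ∀ y : M'.primeCompl, IsUnit (f y) := by
    rintro ⟨y, hy⟩
    obtain ⟨y, rfl⟩ := Ideal.Quotient.mk_surjective y
    rw [hf]
    refine IsUnit.map _ ?_
    by_contra hu
    exact hy (Ideal.mem_map_of_mem _ (show y ∈ M from hu))
  refine Algebra.QuasiFinite.of_surjective_algHom (S := Localization.AtPrime M')
    (IsLocalization.liftAlgHom (M := M'.primeCompl) (S := Localization.AtPrime M') hfu) fun z => ?_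
  obtain ⟨z, rfl⟩ := Ideal.Quotient.mk_surjective z
  obtain ⟨⟨x, t⟩, hxt⟩ := IsLocalization.surj N z
  have ht : Ideal.Quotient.mk q (t : C) ∈ M'.primeCompl := fun h => (hM'.le h : (t : C) ∈ M) t.2
  refine ⟨IsLocalization.mk' _ (Ideal.Quotient.mk q x) ⟨_, ht⟩, ?_⟩
  rw [IsLocalization.coe_liftAlgHom, IsLocalization.lift_mk'_spec, AlgHom.toRingHom_eq_coe, RingHom.coe_coe, hf, hf, ← map_mul, ← hxt, mul_comm]

end Groth.Agent.S1394
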