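import Groth.Statements.S13942
import Groth.Agent.GrpLike79.Char

set_option autoImplicit false
universe u
open TateLoc

namespace Groth.Agent.S13942

open CategoryTheory AlgebraicGeometry MonObj

open CategoryTheory AlgebraicGeometry MonObj in
/-- For a non-archimedean local field k of characteristic p > 0 and an affine commutative k-group scheme
G of finite type, the group of characters of G defined over k (morphisms of abelian sheaves on the
big fppf site of Spec k from the sheaf of points of G into the multiplicative group) is a finitely
generated abelian group. -/
theorem result (p : ℕ) [Fact p.Prime] (k : Type u) [Field k] [CharP k p]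
    [ValuativeRel k] [TopologicalSpace k] [IsNonarchimedeanLocalField k]
    (G : Over (Spec (CommRingCat.of k))) [GrpObj G] [IsCommMonObj G] [IsAffine G.left] [LocallyOfFiniteType G.hom] :
    AddGroup.FG ((CGrpSh.pts Scheme.fppfPrecoverage G) ⟶ (CGrpSh2.Gm Scheme.fppfPrecoverage (Spec (CommRingCat.of k)))) := by
  obtain ⟨A, _, _, eG, _, _, _, _⟩ := Groth.Agent.GrpLike79.exists_hopf_finiteType G
  have : Group.FG (GroupLike k A) := Groth.Agent.GrpLike79.groupLike_fg_of_field
  exact AddGroup.fg_of_surjective
    (f := (AddEquiv.ofBijective _ (Groth.Agent.GrpLike79.charHom_bijective eG)).symm.toAddMonoidHom)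
    (AddEquiv.ofBijective _ (Groth.Agent.GrpLike79.charHom_bijective eG)).symm.surjective

end Groth.Agent.S13942
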