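import Groth.Statements.S13951
import Groth.Agent.ResEtRed.Basic

set_option autoImplicit false
universe u
open TateLoc

namespace Groth.Agent.S13951

open CategoryTheory AlgebraicGeometry CategoryTheory.Limits in
/-- Let S be a reduced scheme and I a finite locally free commutative S-group scheme (finite, flat, of
finite presentation) whose fibres over all points of S are connected. Then the restriction of the
sheaf of points of I from the big fppf site of S to the small etale site of S is the zero sheaf. -/
theorem result (S : Scheme.{u}) [IsReduced S]
    (I : Over S) [GrpObj I] [IsCommMonObj I] [IsFinite I.hom] [Flat I.hom] [LocallyOfFinitePresentation I.hom]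
    (hconn : ∀ s : S, ConnectedSpace ↥(I.hom.fiber s)) :
    IsZero ((BigSite.resEt Scheme.fppfPrecoverage S).obj (CGrpSh.pts Scheme.fppfPrecoverage I)) := by
  refine (IsZero.iff_id_eq_zero _).2 (Sheaf.hom_ext (NatTrans.ext (funext fun U => AddCommGrpCat.ext fun x => ?_)))
  have : IsSeparated I.hom := inferInstance
  have hsub : ∀ g : (EtFppf.a S).obj U.unop ⟶ I, g = CartesianMonoidalCategory.toUnit _ ≫ MonObj.one (X := I) := by
    intro g
    have : Etale ((EtFppf.a S).obj U.unop).hom := U.unop.prop
    have : IsReduced ((EtFppf.a S).obj U.unop).left :=
      Groth.Agent.ResEtRed.isReduced_of_etale ((EtFppf.a S).obj U.unop).hom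
    have he : (MonObj.one (X := I)).left ≫ I.hom = 𝟙 S := Over.w _
    apply Over.OverMorphism.ext
    rw [Groth.Agent.ResEtRed.eq_comp_section I.hom
      (Groth.Agent.ResEtRed.injective_of_connected_fibres I.hom hconn) _ he g.left,
      ← Category.assoc, Over.w]
    rfl
  apply ULift.ext
  exact (congrArg Additive.ofMul ((hsub _).trans (hsub _).symm))

end Groth.Agent.S13951
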