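import Groth.Statements.S13965
import Groth.Agent.DualGm79.HOne
import Groth.Agent.GmField79.Leray
import Groth.Agent.GmNorm.Sheaf

set_option autoImplicit false
universe u
open TateLoc

namespace Groth.Agent.S13965

open CategoryTheory AlgebraicGeometry in
/-- Take a finite separable field extension k'/k, and let R be the Weil restriction of the
multiplicative group from k' to k, i.e. the direct image of the multiplicative group along Spec k' →
Spec k as an abelian sheaf on the big fppf site of Spec k. Then the first cohomology H^1(k, R̂) of
the dual sheaf R̂ (internal Hom from R into the multiplicative group) vanishes. (The published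
statement is for the Weil restriction of any split k'-torus, a finite product of copies of this
case.) -/
theorem result (k k' : Type u) [Field k] [Field k'] [Algebra k k']
    [FiniteDimensional k k'] [Algebra.IsSeparable k k'] :
    Subsingleton (BigSite.H Scheme.fppfPrecoverage (Spec (CommRingCat.of k)) (CGrpSh2.dualSh Scheme.fppfPrecoverage ((BigSite.pushBig Scheme.fppfPrecoverage (Spec.map (CommRingCat.ofHom (algebraMap k k'))) AddCommGrpCat.{u+1}).obj (CGrpSh2.Gm Scheme.fppfPrecoverage (Spec (CommRingCat.of k'))))) 1) := by
  set f := Spec.map (CommRingCat.ofHom (algebraMap k k'))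
  have : IsFinite f := (IsFinite.SpecMap_iff _).2 (RingHom.finite_algebraMap.2 inferInstance)
  have : Algebra.EssFiniteType k k' := inferInstance
  have : Algebra.FormallyEtale k k' := (Algebra.FormallyEtale.iff_isSeparable k k').2 inferInstance
  have : Algebra.FinitePresentation k k' := Algebra.FinitePresentation.of_finiteType.1 inferInstance
  have : Algebra.Etale k k' := ⟨inferInstance, inferInstance⟩
  have : Etale f := (HasRingHomProperty.Spec_iff (P := @Etale)).2 (RingHom.etale_algebraMap.2 inferInstance)
  have := Groth.Agent.DualNorm79.isIso_dualNormMap (f := f) (CGrpSh2.Gm Scheme.fppfPrecoverage (Spec (CommRingCat.of k')))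
    (Groth.Agent.GmNorm.normMap f) (Groth.Agent.GmNorm.isNormMap_normMap f)
  have h0 := Groth.Agent.GmField79.subsingleton_H_one_pushBig Scheme.fppfPrecoverage f _
    (Groth.Agent.DualGm79.subsingleton_H_one_dualGm k')
  refine subsingleton_of_forall_eq 0 fun x => ?_
  let φ := CGrpSh3.dualNormMap Scheme.fppfPrecoverage f (Groth.Agent.GmNorm.normMap f)
      (CGrpSh2.Gm Scheme.fppfPrecoverage (Spec (CommRingCat.of k')))
  have hx : Sheaf.H.map φ 1 (Sheaf.H.map (inv φ) 1 x) = x := by
    rw [← Sheaf.H.map_comp_apply, IsIso.inv_hom_id, Sheaf.H.map_id_apply]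
  rw [← hx, h0.elim (Sheaf.H.map (inv φ) 1 x) 0, map_zero]

end Groth.Agent.S13965
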