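import Groth.Statements.S13975
import Groth.Agent.DefSch76.DerHom

set_option autoImplicit false
universe u
open CategoryTheory CategoryTheory.Limits AlgebraicGeometry
open Deform

namespace Groth.Agent.S13975

/-- Let k be a field and X₀ a locally Noetherian k-scheme, and let X_ε be the trivial first-order
deformation X₀ ×_k Spec k[ε], presented by a cartesian square with projections q : X_ε → X₀ and p :
X_ε → Spec k[ε], together with the closed immersion i : X₀ → X_ε over ε = 0 which is a section of q.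
Then the infinitesimal automorphisms of X₀ — automorphisms of X_ε over Spec k[ε] that restrict to
the identity of X₀ along i — form a group isomorphic to the additive group of derivations
Der_k(O_{X₀}, O_{X₀}) = Hom_{O_{X₀}}(Ω_{X₀/k}, O_{X₀}): there is a bijection taking composition to
addition. -/
theorem result (k : Type u) [Field k]
    (X₀ : Scheme.{u}) [IsLocallyNoetherian X₀] (x : X₀ ⟶ Spec (CommRingCat.of k))
    (Xε : Scheme.{u}) (q : Xε ⟶ X₀) (p : Xε ⟶ Spec (CommRingCat.of (DualNumber k)))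
    (hsq : IsPullback q p x (Spec.map (CommRingCat.ofHom (algebraMap k (DualNumber k)))))
    (i : X₀ ⟶ Xε) (hiq : i ≫ q = 𝟙 X₀)
    (hip : i ≫ p = x ≫ Spec.map (CommRingCat.ofHom (TrivSqZeroExt.fstHom k k k).toRingHom)) :
    ∃ e : {φ : Xε ≅ Xε // φ.hom ≫ p = p ∧ i ≫ φ.hom = i} ≃ (Omega.sheaf x ⟶ Coh.structureModule X₀),
      ∀ φ ψ χ : {φ : Xε ≅ Xε // φ.hom ≫ p = p ∧ i ≫ φ.hom = i},
        φ.1 ≪≫ ψ.1 = χ.1 → e χ = e φ + e ψ := by
  have : Flat x := DefGlueLib.flat_str x
  have hflat : Flat p := MorphismProperty.of_isPullback (P := @AlgebraicGeometry.Flat) hsq inferInstance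
  have hsec : Spec.map (CommRingCat.ofHom (TrivSqZeroExt.fstHom k k k).toRingHom) ≫
      Spec.map (CommRingCat.ofHom (algebraMap k (DualNumber k))) = 𝟙 (Spec (CommRingCat.of k)) := by
    rw [← Spec.map_comp, ← CommRingCat.ofHom_comp,
      show (TrivSqZeroExt.fstHom k k k).toRingHom.comp (algebraMap k (DualNumber k)) = RingHom.id k from
        RingHom.ext fun c => TrivSqZeroExt.fst_inl k c, CommRingCat.ofHom_id, Spec.map_id]
  have hsq' : IsPullback i x p (Spec.map (CommRingCat.ofHom (TrivSqZeroExt.fstHom k k k).toRingHom)) := by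
    refine IsPullback.of_right ?_ hip hsq
    rw [hiq, hsec]
    exact IsPullback.of_horiz_isIso ⟨by simp⟩
  let ξ : ArtFun.DefSch X₀ x (ArtFun.Art.dual k k) := ⟨Xε, p, hflat, i, hsq'⟩
  let ofF : DefSch76.DerFam x → {φ : Xε ≅ Xε // φ.hom ≫ p = p ∧ i ≫ φ.hom = i} := fun F =>
    ⟨(DefSch76.autOfFam ξ F).iso, (DefSch76.autOfFam ξ F).hom_f, (DefSch76.autOfFam ξ F).i_hom⟩
  have hbij : Function.Bijective ofF := by
    refine ⟨fun F G h => DefSch76.fam_eq_of_hom_eq (ξ := ξ) congr($(h).1.hom), fun φ => ?_⟩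
    obtain ⟨F, hF⟩ := DefSch76.exists_fam (ξ := ξ) ⟨φ.1, φ.2.1, φ.2.2⟩
    exact ⟨F, Subtype.ext (Iso.ext hF)⟩
  refine ⟨(Equiv.ofBijective ofF hbij).symm.trans (DefSch76.famEquivHom x), fun φ ψ χ h => ?_⟩
  obtain ⟨F, rfl⟩ := hbij.2 φ
  obtain ⟨G, rfl⟩ := hbij.2 ψ
  obtain ⟨H, rfl⟩ := hbij.2 χ
  have he : ∀ K, (Equiv.ofBijective ofF hbij).symm (ofF K) = K :=
    fun K => (Equiv.ofBijective ofF hbij).symm_apply_apply K
  simp only [Equiv.trans_apply, he]
  refine DefSch76.famEquivHom_add x fun U s => ?_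
  let FG : DefSch76.DerFam x :=
    { δ := fun U => F.δ U + G.δ U
      mul := fun U s t => by simp only [AddMonoidHom.add_apply, F.mul, G.mul]; ring
      const := fun U c => by rw [AddMonoidHom.add_apply, F.const, G.const, add_zero]
      natural := fun {V U} h s => by simp [F.natural h, G.natural h] }
  have hadd := DefSch76.hom_autOfFam_add (ξ := ξ) (F := F) (G := G) (H := FG) fun _ _ => rfl
  have hH : H = FG := DefSch76.fam_eq_of_hom_eq (ξ := ξ) ((congrArg Iso.hom h).symm.trans hadd)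
  rw [hH]
  rfl

end Groth.Agent.S13975
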