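import Groth.Statements.S13995
import Mathlib
import Groth.Agent.CAlgSmall.Modification
import Groth.Agent.PopescuLib.Main

set_option autoImplicit false
universe u
open CAlg

namespace Groth.Agent.S13995

/-- Let R be a reduced Noetherian ring, M a finitely generated R-module all of whose associated primes
are minimal primes of R and whose localization at each minimal prime p is one-dimensional over the
field R_p, and let g : M → Q be a surjection onto a finitely generated R-module Q all of whose
associated primes are minimal primes of R. Then the kernel of g is the intersection, over the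
minimal primes p of R lying in the support of Q, of the kernels of the localization maps M → M_p.
(The published statement is for a torsion-free coherent sheaf F of uniform rank one on a reduced
connected projective curve over a characteristic-zero algebraically closed field: its non-zero
torsion-free quotients are exactly the maximal torsion-free quotients F_D of the restrictions of F
to subcurves D; this row is the corresponding statement for modules over a reduced Noetherian ring,
a subcurve being a set of minimal primes, and identifies each torsion-free quotient with F_D for D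
the set of generic points of its support.) -/
theorem result (R : Type u) [CommRing R] [IsNoetherianRing R] [IsReduced R] (M : Type u) [AddCommGroup M] [Module R M] [Module.Finite R M] (hM : associatedPrimes R M ⊆ minimalPrimes R) (hrk : ∀ p : PrimeSpectrum R, p.asIdeal ∈ minimalPrimes R → Module.finrank (Localization.AtPrime p.asIdeal) (LocalizedModule p.asIdeal.primeCompl M) = 1) (Q : Type u) [AddCommGroup Q] [Module R Q] [Module.Finite R Q] (hQ : associatedPrimes R Q ⊆ minimalPrimes R) (g : M →ₗ[R] Q) (hg : Function.Surjective g) : LinearMap.ker g = ⨅ p ∈ {p : PrimeSpectrum R | p.asIdeal ∈ minimalPrimes R ∧ p ∈ Module.support R Q}, LinearMap.ker (LocalizedModule.mkLinearMap p.asIdeal.primeCompl M) := by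
  classical
  ext x
  simp only [Submodule.mem_iInf, Set.mem_setOf_eq, CAlgSmall.mem_ker_mkLinearMap_iff]
  constructor
  · intro hx p ⟨hpmin, hpsupp⟩
    let Rp := Localization.AtPrime p.asIdeal
    letI : Field Rp := (PopescuLib.isField_atPrime hpmin).toField
    let gp := IsLocalizedModule.mapExtendScalars p.asIdeal.primeCompl
      (LocalizedModule.mkLinearMap p.asIdeal.primeCompl M)
      (LocalizedModule.mkLinearMap p.asIdeal.primeCompl Q) Rp g
    have hsurj : Function.Surjective gp := IsLocalizedModule.map_surjective _ _ _ g hg
    have hne : Nontrivial (LocalizedModule p.asIdeal.primeCompl Q) := hpsupp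
    obtain ⟨v, -, hv⟩ := finrank_eq_one_iff'.mp (hrk p hpmin)
    have hinj : Function.Injective gp := by
      rw [injective_iff_map_eq_zero]
      intro w hw
      obtain ⟨c, rfl⟩ := hv w
      by_contra hcv
      have hc : c ≠ 0 := fun h => hcv (by rw [h, zero_smul])
      rw [map_smul] at hw
      have hv0 : gp v = 0 := by
        have := congrArg (fun z => c⁻¹ • z) hw
        simpa [smul_smul, inv_mul_cancel₀ hc] using this
      obtain ⟨z, hz⟩ := exists_ne (0 : LocalizedModule p.asIdeal.primeCompl Q)
      obtain ⟨w', rfl⟩ := hsurj z
      obtain ⟨c', rfl⟩ := hv w'
      exact hz (by rw [map_smul, hv0, smul_zero])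
    rw [← CAlgSmall.mem_ker_mkLinearMap_iff, LinearMap.mem_ker]
    refine hinj ?_
    rw [map_zero, IsLocalizedModule.mapExtendScalars_apply_apply, IsLocalizedModule.map_apply,
      (LinearMap.mem_ker.mp hx), map_zero]
  · intro hx
    rw [LinearMap.mem_ker]
    by_contra hgx
    obtain ⟨q, hq, hle⟩ := exists_le_isAssociatedPrime_of_isNoetherianRing R (g x) hgx
    haveI := hq.isPrime
    have hsupp : (⟨q, hq.isPrime⟩ : PrimeSpectrum R) ∈ Module.support R Q := by
      rw [Module.mem_support_iff']
      refine ⟨g x, fun r hr h => hr (hle ?_)⟩
      rw [Submodule.mem_colon_singleton, Submodule.mem_bot]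
      exact h
    obtain ⟨t, ht, htx⟩ := hx ⟨q, hq.isPrime⟩ ⟨hQ hq, hsupp⟩
    refine ht (hle ?_)
    rw [Submodule.mem_colon_singleton, Submodule.mem_bot]
    show t • g x = 0
    rw [← map_smul, htx, map_zero]

end Groth.Agent.S13995
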