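import Groth.Statements.S14008
import Mathlib
-- import your own Groth.Agent.* helpers here

set_option autoImplicit false
universe u
open FlatMor
set_option backward.isDefEq.respectTransparency false
set_option linter.style.haveILetI false

namespace Groth.Agent.S14008

open AlgebraicGeometry CategoryTheory

theorem finiteType_of_quotient_nilpotent {A B C : Type u} [CommRing A] [CommRing B] [CommRing C] (g : A →+* B)
    (π : B →+* C) (hπ : Function.Surjective π) (hfg : (RingHom.ker π).FG) (hnil : IsNilpotent (RingHom.ker π))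
    (h : (π.comp g).FiniteType) : g.FiniteType := by
  classical
  algebraize [g, π.comp g]
  obtain ⟨s, hs⟩ := (inferInstance : Algebra.FiniteType A C).out
  choose l hl using hπ
  obtain ⟨t, ht⟩ := hfg
  let S : Subalgebra A B := Algebra.adjoin A ↑(s.image l ∪ t)
  let π' : B →ₐ[A] C := { π with commutes' := fun _ => rfl }
  have hmap : ∀ b, ∃ c ∈ S, π c = π b := by
    intro b
    have hle : Algebra.adjoin A (s : Set C) ≤ S.map π' := Algebra.adjoin_le fun x hx =>
      ⟨l x, Algebra.subset_adjoin (Finset.mem_coe.2 (Finset.mem_union_left _ (Finset.mem_image_of_mem l hx))), hl x⟩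
    exact hle (hs ▸ Algebra.mem_top)
  have hstep : ∀ n : ℕ, ∀ x ∈ RingHom.ker π ^ n, ∃ c ∈ S, x - c ∈ RingHom.ker π ^ (n + 1) := by
    intro n
    induction n with
    | zero =>
      intro x _
      obtain ⟨c, hc, he⟩ := hmap x
      exact ⟨c, hc, by rw [zero_add, pow_one, RingHom.mem_ker, map_sub, he, sub_self]⟩
    | succ n ih =>
      intro x hx
      rw [pow_succ] at hx
      refine Submodule.mul_induction_on hx (fun a ha b hb => ?_) fun a b ⟨c, hc, hca⟩ ⟨d, hd, hdb⟩ => ?_
      · rw [← ht] at hb
        induction hb using Submodule.span_induction generalizing a with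
        | mem z hz =>
          obtain ⟨c, hc, hca⟩ := ih a ha
          refine ⟨c * z, S.mul_mem hc (Algebra.subset_adjoin (Finset.mem_coe.2 (Finset.mem_union_right _ hz))), ?_⟩
          rw [← sub_mul, pow_succ _ (n + 1)]
          exact Ideal.mul_mem_mul hca (ht ▸ Submodule.subset_span hz)
        | zero => exact ⟨0, S.zero_mem, by simp⟩
        | add y z _ _ hy hz =>
          obtain ⟨c, hc, hcy⟩ := hy a ha
          obtain ⟨d, hd, hdz⟩ := hz a ha
          exact ⟨c + d, S.add_mem hc hd, by rw [mul_add, add_sub_add_comm]; exact add_mem hcy hdz⟩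
        | smul r z _ hz =>
          rw [smul_eq_mul, ← mul_assoc]
          exact hz (a * r) (Ideal.mul_mem_right _ _ ha)
      · exact ⟨c + d, S.add_mem hc hd, by rw [add_sub_add_comm]; exact add_mem hca hdb⟩
  obtain ⟨N, hN⟩ := hnil
  have hdown : ∀ k : ℕ, ∀ x ∈ RingHom.ker π ^ (N - k), x ∈ S := by
    intro k
    induction k with
    | zero =>
      intro x hx
      rw [Nat.sub_zero, hN] at hx
      rw [show x = 0 from hx]
      exact S.zero_mem
    | succ k ih =>
      intro x hx
      by_cases hk : N ≤ k
      · exact ih x (by rwa [show N - k = N - (k + 1) by omega])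
      obtain ⟨c, hc, hxc⟩ := hstep _ x hx
      rw [show N - (k + 1) + 1 = N - k by omega] at hxc
      simpa using S.add_mem hc (ih _ hxc)
  exact ⟨⟨s.image l ∪ t, eq_top_iff.2 fun x _ => hdown N x (by simp)⟩⟩


open AlgebraicGeometry CategoryTheory in
/-- Consider a commutative square of schemes F₀ ≫ j = i ≫ F in which i : Y₀ ⟶ Y and j : X₀ ⟶ X are
closed immersions surjective on points whose ideals are nilpotent on every affine open, the ideal of
i being moreover finitely generated on every affine open of Y, and assume that X is locally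
Noetherian. Then F : Y ⟶ X is locally of finite presentation if and only if F₀ : Y₀ ⟶ X₀ is. The
square is not assumed cartesian. -/
theorem result
    {X X₀ Y Y₀ : Scheme.{u}} [IsLocallyNoetherian X]
    (F : Y ⟶ X) (F₀ : Y₀ ⟶ X₀) (i : Y₀ ⟶ Y) (j : X₀ ⟶ X)
    (hi : MoreMor.IsThickening i) (hj : MoreMor.IsThickening j)
    (hinil : ∀ U : Y.affineOpens, IsNilpotent (i.ker.ideal U))
    (hjnil : ∀ U : X.affineOpens, IsNilpotent (j.ker.ideal U))
    (hfg : ∀ U : Y.affineOpens, (i.ker.ideal U).FG)
    (w : F₀ ≫ j = i ≫ F) :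
    LocallyOfFinitePresentation F ↔ LocallyOfFinitePresentation F₀ := by
  haveI := hi.1
  haveI := hj.1
  haveI : IsLocallyNoetherian X₀ := LocallyOfFiniteType.isLocallyNoetherian j
  have key : LocallyOfFiniteType F ↔ LocallyOfFiniteType F₀ := by
    constructor
    · intro h
      haveI : LocallyOfFiniteType (F₀ ≫ j) := by rw [w]; infer_instance
      exact locallyOfFiniteType_of_comp F₀ j
    · intro h
      haveI : LocallyOfFiniteType (i ≫ F) := by rw [← w]; infer_instance
      refine (HasRingHomProperty.iff_appLE (P := @LocallyOfFiniteType)).2 fun V U e => ?_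
      refine finiteType_of_quotient_nilpotent _ (i.app U.1).hom (i.app_surjective U.1 U.2) ?_ ?_ ?_
      · rw [← Scheme.Hom.ker_apply]; exact hfg U
      · rw [← Scheme.Hom.ker_apply]; exact hinil U
      · have := (i ≫ F).finiteType_appLE V.2 (U.2.preimage i) (show i ⁻¹ᵁ U.1 ≤ (i ≫ F) ⁻¹ᵁ V.1 from fun z hz => e hz)
        rw [← Scheme.Hom.appLE_comp_appLE i F V.1 U.1 (i ⁻¹ᵁ U.1) e le_rfl, ← Scheme.Hom.app_eq_appLE] at this
        exact this
  have lfp : ∀ {A B : Scheme.{u}} [IsLocallyNoetherian B] (g : A ⟶ B), LocallyOfFiniteType g →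
      LocallyOfFinitePresentation g := fun g hg => by
    refine (HasRingHomProperty.iff_appLE (P := @LocallyOfFinitePresentation)).2 fun V U e => ?_
    haveI := IsLocallyNoetherian.component_noetherian V
    exact (RingHom.FinitePresentation.of_finiteType).1 (g.finiteType_appLE V.2 U.2 e)
  exact ⟨fun h => lfp F₀ (key.1 inferInstance), fun h => lfp F (key.2 inferInstance)⟩

end Groth.Agent.S14008
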