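import Groth.Statements.S14016
import Groth.Agent.ProEtLib.EpsExt
import Groth.Agent.EtModLib.EpsMod

set_option autoImplicit false
open CategoryTheory CategoryTheory.Limits AlgebraicGeometry Opposite
universe u
open ProEtS

namespace Groth.Agent.S14016

open Groth.Agent.ProEtLib

set_option backward.isDefEq.respectTransparency false
set_option backward.isDefEq.respectTransparency.types false

variable {X : Scheme.{u}} [ProEtS.EpsCont X] (S : ObjectProperty (EtCoh.Ab X)) [WSerre.IsWeakSerre S]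

/-- the property -/
abbrev P : ObjectProperty (ProEtS.AbP X) :=
  fun F => ∃ G : EtCoh.Ab X, S G ∧ Nonempty ((ProEtS.epsPull X).obj G ≅ F)

theorem containsZero : (P S).ContainsZero := by
  obtain ⟨Z, hZ, hS⟩ := ObjectProperty.exists_prop_of_containsZero S
  exact ⟨⟨(ProEtS.epsPull X).obj Z, (ProEtS.epsPull X).map_isZero hZ, Z, hS, ⟨Iso.refl _⟩⟩⟩

omit [WSerre.IsWeakSerre S] in
theorem fullyFaithful_epsPull : (ProEtS.epsPull X).Full ∧ (ProEtS.epsPull X).Faithful := by
  have := isIso_unit_eps (X := X)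
  have : IsIso (ProEtS.epsAdj X).unit := NatIso.isIso_of_isIso_app _
  have hff := (ProEtS.epsAdj X).fullyFaithfulLOfIsIsoUnit
  exact ⟨hff.full, hff.faithful⟩

theorem closedKernels : (P S).IsClosedUnderKernels := by
  refine ⟨?_⟩
  rintro _ ⟨f, k, hk, ⟨A, hA, ⟨a⟩⟩, ⟨B, hB, ⟨b⟩⟩⟩
  have := (fullyFaithful_epsPull (X := X)).1
  have := preservesFiniteLimits_epsPull (X := X)
  let ψ := (ProEtS.epsPull X).preimage (a.hom ≫ f ≫ b.inv)
  have h : (ProEtS.epsPull X).map ψ ≫ b.hom = a.hom ≫ f := by simp [ψ]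
  exact ⟨kernel ψ, S.prop_kernel ψ hA hB, ⟨PreservesKernel.iso (ProEtS.epsPull X) ψ ≪≫
    kernel.mapIso _ f a b h ≪≫ (kernelIsKernel f).conePointUniqueUpToIso hk⟩⟩

theorem closedCokernels : (P S).IsClosedUnderCokernels := by
  refine ⟨?_⟩
  rintro _ ⟨f, k, hk, ⟨A, hA, ⟨a⟩⟩, ⟨B, hB, ⟨b⟩⟩⟩
  have := (fullyFaithful_epsPull (X := X)).1
  let ψ := (ProEtS.epsPull X).preimage (a.hom ≫ f ≫ b.inv)
  have h : (ProEtS.epsPull X).map ψ ≫ b.hom = a.hom ≫ f := by simp [ψ]
  exact ⟨cokernel ψ, S.prop_cokernel ψ hA hB, ⟨PreservesCokernel.iso (ProEtS.epsPull X) ψ ≪≫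
    cokernel.mapIso _ f a b h ≪≫ (cokernelIsCokernel f).coconePointUniqueUpToIso hk⟩⟩

omit [WSerre.IsWeakSerre S] in
theorem shortExact_push {T : ShortComplex (ProEtS.AbP X)} (hT : T.ShortExact)
    (h₁ : (ProEtS.epsPull X).essImage T.X₁) : (T.map (ProEtS.epsPush X)).ShortExact := by
  have : PreservesFiniteLimits (ProEtS.epsPush X) :=
    have := (ProEtS.epsAdj X).rightAdjoint_preservesLimits
    inferInstance
  have := hT.mono_f
  obtain ⟨A, ⟨e⟩⟩ := h₁
  letI := HasDerivedCategory.standard (ProEtS.AbP X)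
  letI := HasDerivedCategory.standard (EtCoh.Ab X)
  obtain ⟨δ, w₁, w₂, w₃, -, h₂, -⟩ := TriCat.exists_rightDerived_ses (ProEtS.epsPush X) hT 0
  have h0 : IsZero (((ProEtS.epsPush X).rightDerived 1).obj T.X₁) :=
    (isZero_repsPush_epsPull 0 A).of_iso (((ProEtS.epsPush X).rightDerived 1).mapIso e).symm
  have : Epi (((ProEtS.epsPush X).rightDerived 0).map T.g) := h₂.epi_f (h0.eq_of_tgt _ _)
  have hp : Epi ((ProEtS.epsPush X).map T.g) :=
    ((MorphismProperty.epimorphisms _).arrow_mk_iso_iff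
      (Arrow.isoOfNatIso (ProEtS.epsPush X).rightDerivedZeroIsoSelf (Arrow.mk T.g))).1 this
  exact ShortComplex.ShortExact.mk' (hT.exact.map_of_mono_of_preservesKernel _ inferInstance inferInstance)
    (inferInstanceAs (Mono ((ProEtS.epsPush X).map T.f))) hp

theorem closedExtensions : (P S).IsClosedUnderExtensions := by
  refine ⟨fun {T} hT h₁ h₃ => ?_⟩
  obtain ⟨A, hA, ⟨a⟩⟩ := h₁
  obtain ⟨C, hC, ⟨c⟩⟩ := h₃
  let ad := ProEtS.epsAdj X
  have := isIso_unit_eps (X := X) A
  have := isIso_unit_eps (X := X) C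
  have : IsIso ad.unit := @NatIso.isIso_of_isIso_app _ _ _ _ _ _ _ (isIso_unit_eps (X := X))
  have := (fullyFaithful_epsPull (X := X)).1
  have := (fullyFaithful_epsPull (X := X)).2
  have := preservesFiniteLimits_epsPull (X := X)
  have hse := shortExact_push hT ⟨A, ⟨a⟩⟩
  let φ : (T.map (ProEtS.epsPush X)).map (ProEtS.epsPull X) ⟶ T :=
    { τ₁ := ad.counit.app T.X₁
      τ₂ := ad.counit.app T.X₂
      τ₃ := ad.counit.app T.X₃
      comm₁₂ := (ad.counit.naturality T.f).symm
      comm₂₃ := (ad.counit.naturality T.g).symm }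
  have : IsIso φ.τ₁ := ad.isIso_counit_app_of_iso a.symm
  have : IsIso φ.τ₃ := ad.isIso_counit_app_of_iso c.symm
  have : IsIso φ.τ₂ := ShortComplex.isIso₂_of_shortExact_of_isIso₁₃ φ (hse.map_of_exact _) hT
  refine ⟨(ProEtS.epsPush X).obj T.X₂, ?_, ⟨@asIso _ _ _ _ φ.τ₂ this⟩⟩
  exact ObjectProperty.prop_X₂_of_shortExact S hse
    (S.prop_of_iso (asIso (ad.unit.app A) ≪≫ (ProEtS.epsPush X).mapIso a) hA)
    (S.prop_of_iso (asIso (ad.unit.app C) ≪≫ (ProEtS.epsPush X).mapIso c) hC)

/-- Let X be a scheme and S a weak Serre subcategory of the abelian sheaves on the small étale site of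
X, i.e. a property of objects holding for a zero object and closed under kernels, cokernels and
extensions. Then the essential image of S under the pullback ε⁻¹ to the small pro-étale site (the
abelian pro-étale sheaves isomorphic to ε⁻¹G for some G satisfying S) is again a weak Serre
subcategory, now of the abelian sheaves on the small pro-étale site of X. (Continuity of the
inclusion of the étale site into the pro-étale site is carried as a binder.) -/
theorem result
    (X : Scheme.{u}) [ProEtS.EpsCont X]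
    (S : ObjectProperty (EtCoh.Ab X)) [WSerre.IsWeakSerre S] :
    WSerre.IsWeakSerre (fun F : ProEtS.AbP X => ∃ G : EtCoh.Ab X, S G ∧ Nonempty ((ProEtS.epsPull X).obj G ≅ F)) := by
  exact { toContainsZero := containsZero S, toIsClosedUnderKernels := closedKernels S,
          toIsClosedUnderCokernels := closedCokernels S, toIsClosedUnderExtensions := closedExtensions S }

end Groth.Agent.S14016
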