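import Groth.Statements.S14024
import Groth.Agent.EtModLib.EpsMod
import Groth.Agent.EtModLib.Specialise
import Groth.Agent.EtModLib.Noeth
import Mathlib.RingTheory.HopkinsLevitzki
import Mathlib.Algebra.Module.Torsion.Basic
-- import your own Groth.Agent.* helpers here

set_option autoImplicit false
open CategoryTheory CategoryTheory.Limits AlgebraicGeometry Opposite
universe u
open EtModW

namespace Groth.Agent.S14024

theorem isArtinianRing_quot {Λ : Type*} [CommRing Λ] [IsNoetherianRing Λ] (I : Ideal Λ) [IsArtinianRing (Λ ⧸ I)]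
    (k : ℕ) : IsArtinianRing (Λ ⧸ I ^ k) := by
  refine isArtinianRing_iff_isNoetherianRing_krullDimLE_zero.2 ⟨inferInstance, Ring.krullDimLE_zero_iff.2 fun P hP => ?_⟩
  let Q := P.comap (Ideal.Quotient.mk (I ^ k))
  have hQ : Q.IsPrime := Ideal.comap_isPrime _ _
  have hle : I ≤ Q := hQ.le_of_pow_le (n := k) fun x hx => by
    show Ideal.Quotient.mk (I ^ k) x ∈ P
    rw [Ideal.Quotient.eq_zero_iff_mem.2 hx]
    exact P.zero_mem
  have hmax : (Q.map (Ideal.Quotient.mk I)).IsMaximal :=
    have : (Q.map (Ideal.Quotient.mk I)).IsPrime := Ideal.map_isPrime_of_surjective Ideal.Quotient.mk_surjective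
      (by rwa [Ideal.mk_ker])
    IsArtinianRing.isMaximal_of_isPrime _
  have hQmax : Q.IsMaximal := by
    have h := Ideal.comap_isMaximal_of_surjective (Ideal.Quotient.mk I) Ideal.Quotient.mk_surjective (K := Q.map _) (H := hmax)
    rwa [Ideal.comap_map_of_surjective _ Ideal.Quotient.mk_surjective, ← RingHom.ker_eq_comap_bot, Ideal.mk_ker,
      sup_eq_left.2 hle] at h
  rw [← Ideal.map_comap_of_surjective (Ideal.Quotient.mk (I ^ k)) Ideal.Quotient.mk_surjective P]
  exact (Ideal.map_eq_top_or_isMaximal_of_surjective _ Ideal.Quotient.mk_surjective hQmax).resolve_left (fun h => hP.ne_top (by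
    rwa [Ideal.map_comap_of_surjective _ Ideal.Quotient.mk_surjective] at h))

theorem stable_ranges {Λ : Type (u + 1)} [CommRing Λ] [IsNoetherianRing Λ] (I : Ideal Λ) [IsArtinianRing (Λ ⧸ I)]
    (P : ARSys.PS (ModuleCat.{u + 1} Λ)) (n : ℕ) (hk : ARSys.KilledBy (I ^ (n + 1)) (P.obj (op n)))
    [Module.Finite Λ (P.obj (op n))] :
    ∃ r, ∀ s, r ≤ s → LinearMap.range (ARSys.tr P (Nat.le_add_right n r)).hom ≤
      LinearMap.range (ARSys.tr P (Nat.le_add_right n s)).hom := by
  let M := P.obj (op n)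
  have htor : Module.IsTorsionBySet Λ M (I ^ (n + 1) : Ideal Λ) := fun x a => congr($(hk a a.2) x)
  let _ : Module (Λ ⧸ I ^ (n + 1)) M := htor.module
  have : IsScalarTower Λ (Λ ⧸ I ^ (n + 1)) M := htor.isScalarTower
  have := isArtinianRing_quot I (n + 1)
  have : Module.Finite (Λ ⧸ I ^ (n + 1)) M := Module.Finite.of_restrictScalars_finite Λ _ _
  have h1 : IsArtinian (Λ ⧸ I ^ (n + 1)) M := isArtinian_of_fg_of_artinian'
  let N : Submodule Λ M → Submodule (Λ ⧸ I ^ (n + 1)) M := fun S =>
    { carrier := S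
      add_mem' := S.add_mem
      zero_mem' := S.zero_mem
      smul_mem' := fun c x hx => by
        obtain ⟨c, rfl⟩ := Ideal.Quotient.mk_surjective c
        exact S.smul_mem c hx }
  obtain ⟨r, hr⟩ := IsArtinian.monotone_stabilizes (R := Λ ⧸ I ^ (n + 1)) (M := M)
    ⟨fun s => OrderDual.toDual (N (LinearMap.range (ARSys.tr P (Nat.le_add_right n s)).hom)), fun s t h => by
      rintro _ ⟨x, rfl⟩
      exact ⟨ARSys.tr P (Nat.add_le_add_left h n) x, congr($(ARLib.tr_tr P (Nat.le_add_right n s) (Nat.add_le_add_left h n)) x)⟩⟩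
  exact ⟨r, fun s hs x hx => (OrderDual.toDual.injective (hr s hs)).le hx⟩

variable {Λ : Type (u + 1)} [CommRing Λ] {X : Scheme.{u}}

theorem range_le_of_iso {P Q : ARSys.PS (ModuleCat.{u + 1} Λ)} (e : P ≅ Q) {n a b : ℕ} (ha : n ≤ a) (hb : n ≤ b)
    (h : LinearMap.range (ARSys.tr P ha).hom ≤ LinearMap.range (ARSys.tr P hb).hom) :
    LinearMap.range (ARSys.tr Q ha).hom ≤ LinearMap.range (ARSys.tr Q hb).hom := by
  rintro _ ⟨x, rfl⟩
  obtain ⟨y, hy⟩ := h ⟨e.inv.app (op a) x, rfl⟩
  refine ⟨e.hom.app (op b) y, ?_⟩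
  show ARSys.tr Q hb (e.hom.app (op b) y) = ARSys.tr Q ha x
  rw [← NatTrans.naturality_apply e.hom (homOfLE hb).op y]
  refine (congrArg (fun q => e.hom.app (op n) q) hy).trans ?_
  show e.hom.app (op n) (ARSys.tr P ha (e.inv.app (op a) x)) = _
  rw [NatTrans.naturality_apply e.hom (homOfLE ha).op]
  exact congrArg (fun q => ARSys.tr Q ha q) (congr($(e.inv_hom_id_app (op a)) x))

/-- Let X be a Noetherian scheme, Λ a Noetherian commutative ring and I an ideal of Λ such that Λ/I is
artinian. Let (F_n) be an inverse system indexed by ℕ of sheaves of Λ-modules on the small étale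
site of X with I^(n+1) F_n = 0 for every n and every F_n locally constant of finite type (on some
étale covering isomorphic to constant sheaves with finitely generated values). Then the system
(ε⁻¹F_n) of pro-étale pullbacks satisfies the Mittag-Leffler condition: for each n, the image
subobjects of ε⁻¹F_(n+s) ⟶ ε⁻¹F_n are the same for all sufficiently large s. (Continuity of the
inclusion of the étale site into the pro-étale site is carried as a binder.) -/
theorem result
    (Λ : Type (u + 1)) [CommRing Λ] [IsNoetherianRing Λ] (I : Ideal Λ) [IsArtinianRing (Λ ⧸ I)]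
    (X : Scheme.{u}) [IsNoetherian X] [ProEtS.EpsCont X]
    (F : ARSys.PS (EtModW.Mod Λ X)) (hk : ARSys.TermKilled I F)
    (hF : ∀ n : ℕ, EtModW.IsFTLocConst Λ (F.obj (op n))) :
    ARSys.IsML (F ⋙ EtModW.epsPullMod Λ X) := by
  intro n
  have hc : ∀ m, EtModW.IsConstructible Λ (F.obj (op m)) := fun m => by
    intro U hU
    refine EtModLib.adaptedStrata_of_cover U.2.isLocallyClosed (fun _ : Unit => (U : Set X))
      (fun _ => ⟨U.toScheme, U.ι, inferInstance, U.range_ι, EtModLib.isFTLocConst_pull U.ι (hF m)⟩) (fun _ => ?_)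
      (fun x hx => Set.mem_iUnion.2 ⟨(), hx⟩)
    rw [Subtype.coe_preimage_self]
    exact Topology.IsConstructible.univ
  have hgen : ∀ Z : irreducibleComponents X, ∃ g : X, IsGenericPoint g Z.1 := fun Z =>
    QuasiSober.sober Z.2.1 (isClosed_of_mem_irreducibleComponents _ Z.2)
  choose g hg using hgen
  choose K hK hK' η hη using fun Z => EtFound.exists_geomPoint (g Z)
  have hst : ∀ Z, ∃ r, ∀ s, r ≤ s →
      LinearMap.range (ARSys.tr (F ⋙ EtModW.stalk Λ (η Z)) (Nat.le_add_right n r)).hom ≤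
        LinearMap.range (ARSys.tr (F ⋙ EtModW.stalk Λ (η Z)) (Nat.le_add_right n s)).hom := fun Z =>
    haveI : Module.Finite Λ ((F ⋙ EtModW.stalk Λ (η Z)).obj (op n)) :=
      EtModLib.finite_stalk_of_isConstructible (hc n) (η Z)
    stable_ranges I _ n (EtModLib.killedBy_map (EtModW.stalk Λ (η Z)) (hk n))
  choose r hr using hst
  have : Finite (irreducibleComponents X) :=
    TopologicalSpace.NoetherianSpace.finite_irreducibleComponents.to_subtype
  cases nonempty_fintype (irreducibleComponents X)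
  let R := Finset.univ.sup r
  refine ⟨R, fun s hs => ?_⟩
  have hz : ∀ a b : ℕ, R ≤ a → R ≤ b →
      ARSys.tr F (Nat.le_add_right n a) ≫ cokernel.π (ARSys.tr F (Nat.le_add_right n b)) = 0 := by
    intro a b ha hb
    refine EtModLib.hom_ext_stalks _ _ fun Ω _ _ ξ => ?_
    obtain ⟨k, _, _, ζ, hζ, ⟨e⟩⟩ := EtModLib.exists_algClosed_iso (F := F) ξ
    let Z : irreducibleComponents X :=
      ⟨irreducibleComponent (ζ.base default), irreducibleComponent_mem_irreducibleComponents _⟩
    obtain ⟨e'⟩ := EtModLib.nonempty_iso_of_specializes hF ζ (η Z)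
      (by rw [hη Z]; exact (hg Z).specializes mem_irreducibleComponent)
    have hrange : LinearMap.range (ARSys.tr (F ⋙ EtModW.stalk Λ ξ) (Nat.le_add_right n a)).hom ≤
        LinearMap.range (ARSys.tr (F ⋙ EtModW.stalk Λ ξ) (Nat.le_add_right n b)).hom := by
      refine range_le_of_iso (e ≪≫ e').symm _ _ (le_trans ?_ (hr Z b ((Finset.le_sup (Finset.mem_univ Z)).trans hb)))
      rintro _ ⟨x, rfl⟩
      exact ⟨ARSys.tr (F ⋙ EtModW.stalk Λ (η Z))
        (Nat.add_le_add_left ((Finset.le_sup (Finset.mem_univ Z)).trans ha) n) x,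
        congr($(ARLib.tr_tr (F ⋙ EtModW.stalk Λ (η Z)) (Nat.le_add_right n (r Z))
          (Nat.add_le_add_left ((Finset.le_sup (Finset.mem_univ Z)).trans ha) n)) x)⟩
    refine ModuleCat.hom_ext (LinearMap.ext fun x => ?_)
    obtain ⟨y, hy⟩ := hrange ⟨x, rfl⟩
    rw [Functor.map_zero, Functor.map_comp]
    show (EtModW.stalk Λ ξ).map (cokernel.π _) ((EtModW.stalk Λ ξ).map (ARSys.tr F (Nat.le_add_right n a)) x) = 0
    refine (congrArg (fun q => (EtModW.stalk Λ ξ).map (cokernel.π _) q) hy.symm).trans ?_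
    have h2 : (EtModW.stalk Λ ξ).map (ARSys.tr F (Nat.le_add_right n b)) ≫
        (EtModW.stalk Λ ξ).map (cokernel.π (ARSys.tr F (Nat.le_add_right n b))) = 0 := by
      rw [← Functor.map_comp, cokernel.condition, Functor.map_zero]
    exact congr($h2 y)
  have hle : ∀ a b : ℕ, R ≤ a → R ≤ b →
      imageSubobject (ARSys.shiftMap (F ⋙ EtModW.epsPullMod Λ X) a n) ≤
        imageSubobject (ARSys.shiftMap (F ⋙ EtModW.epsPullMod Λ X) b n) := fun a b ha hb => by
    let t := ARSys.tr F (Nat.le_add_right n b)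
    have hex := ((ShortComplex.exact_of_g_is_cokernel (ShortComplex.mk t (cokernel.π t) (cokernel.condition t))
      (cokernelIsCokernel t)).map (EtModW.epsPullMod Λ X))
    refine (ARLib.imageSubobject_le_iff _ _).2 ?_
    obtain ⟨T, π, hπ, y, hy⟩ := hex.exact_up_to_refinements
      ((EtModW.epsPullMod Λ X).map (ARSys.tr F (Nat.le_add_right n a))) (by
        show (EtModW.epsPullMod Λ X).map _ ≫ (EtModW.epsPullMod Λ X).map (cokernel.π t) = 0
        rw [← Functor.map_comp, hz a b ha hb, Functor.map_zero])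
    exact ⟨T, π, hπ, y, hy⟩
  exact le_antisymm (hle s R hs le_rfl) (hle R s le_rfl hs)

end Groth.Agent.S14024
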