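import Groth.Statements.S1403
import Groth.Agent.FlatFibres.LocalModel

set_option autoImplicit false
universe u
open FlatMor

namespace Groth.Agent.S1403

/-- Let A → B be an injective local homomorphism of local domains with B essentially of finite type and
flat over A. Then dim(B / m_A B) + trdeg_{κ(A)} κ(B) = trdeg_A B; all three quantities are finite
here, and the statement gives them as natural numbers d, e with d + e the transcendence degree of B
over A. -/
theorem result {A B : Type u} [CommRing A] [CommRing B] [IsDomain A] [IsDomain B] [IsLocalRing A] [IsLocalRing B]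
    [Algebra A B] [IsLocalHom (algebraMap A B)] [FaithfulSMul A B] [Algebra.EssFiniteType A B] [Module.Flat A B] :
    ∃ d e : ℕ, ringKrullDim (B ⧸ Ideal.map (algebraMap A B) (IsLocalRing.maximalIdeal A)) = d ∧
      Algebra.trdeg (IsLocalRing.ResidueField A) (IsLocalRing.ResidueField B) = e ∧ Algebra.trdeg A B = (d + e : ℕ) := by
  let C := Algebra.EssFiniteType.subalgebra A B
  let M : Ideal C := (IsLocalRing.maximalIdeal B).comap (algebraMap C B)
  haveI : IsLocalization.AtPrime B M := Groth.Agent.FlatFibres.isLocalization_atPrime_subalgebra A B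
  obtain ⟨h, hh, he, hle, P0, hP0, hP0A, hP0M, hmax⟩ := Groth.Agent.FlatFibres.exists_dim_trdeg (A := A) (B := B) M rfl
  obtain ⟨m, hn, hlift⟩ := Groth.Agent.FlatFibres.exists_valModel (A := A) (B := B) M rfl
  refine ⟨h, DimFormula.fd A M, hh, he, ?_⟩
  rw [← hn]
  have key : DimFormula.fd m.R (⊥ : Ideal m.D) = h + DimFormula.fd A M := by
    refine le_antisymm ?_ ?_
    · obtain ⟨T, hT, hTP, hTR, hTmin⟩ := m.exists_minimal_le m.P m.hPR
      haveI := hT
      rw [← m.fd_eq_generic_of_minimal T hTR hTmin]
      refine (m.fd_le_fd_comap T).trans (hle _ (m.comap_χ_maximal T hTR) ?_)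
      exact (Ideal.comap_mono hTP).trans m.hPM.le
    · haveI := hP0
      obtain ⟨P', hP', -, hfd⟩ := hlift inferInstance P0 hP0M hP0A
      haveI := hP'
      rw [← hmax]
      exact hfd.trans (m.fd_le_generic P')
  exact_mod_cast key

end Groth.Agent.S1403
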