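import Groth.Statements.S1404
import Groth.Agent.FlatFibres.LocalModel
import Groth.Agent.FlatFibres.GoingDownCut

set_option autoImplicit false
universe u
open FlatMor

namespace Groth.Agent.S1404

/-- Let A → B be an injective local homomorphism of local domains with B essentially of finite type over
A, and g an element of the maximal ideal of B lying in no minimal prime over m_A B. Assume dim(B /
m_A B) + trdeg_{κ(A)} κ(B) = trdeg_A B (with all three finite). Then A → B/gB is injective. -/
theorem result {A B : Type u} [CommRing A] [CommRing B] [IsDomain A] [IsDomain B] [IsLocalRing A] [IsLocalRing B]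
    [Algebra A B] [IsLocalHom (algebraMap A B)] [FaithfulSMul A B] [Algebra.EssFiniteType A B]
    (g : B) (hg : g ∈ IsLocalRing.maximalIdeal B)
    (hmin : ∀ q ∈ (Ideal.map (algebraMap A B) (IsLocalRing.maximalIdeal A)).minimalPrimes, g ∉ q)
    (d e : ℕ) (hd : ringKrullDim (B ⧸ Ideal.map (algebraMap A B) (IsLocalRing.maximalIdeal A)) = d)
    (he : Algebra.trdeg (IsLocalRing.ResidueField A) (IsLocalRing.ResidueField B) = e) (hsum : Algebra.trdeg A B = (d + e : ℕ)) :
    Function.Injective (algebraMap A (B ⧸ Ideal.span {g})) := by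
  let C := Algebra.EssFiniteType.subalgebra A B
  let M : Ideal C := (IsLocalRing.maximalIdeal B).comap (algebraMap C B)
  haveI hloc : IsLocalization.AtPrime B M := Groth.Agent.FlatFibres.isLocalization_atPrime_subalgebra A B
  obtain ⟨h, hh, he', hle, -⟩ := Groth.Agent.FlatFibres.exists_dim_trdeg (A := A) (B := B) M rfl
  obtain ⟨m, hn, -⟩ := Groth.Agent.FlatFibres.exists_valModel (A := A) (B := B) M rfl
  have hgen : DimFormula.fd m.R (⊥ : Ideal m.D) = h + DimFormula.fd A M := by
    have h1 : (d : WithBot ℕ∞) = (h : WithBot ℕ∞) := hd.symm.trans hh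
    have h1' : d = h := by exact_mod_cast h1
    have h2 : e = DimFormula.fd A M := by exact_mod_cast he.symm.trans he'
    have h3 : (DimFormula.fd m.R (⊥ : Ideal m.D) : Cardinal.{u}) = ((d + e : ℕ) : Cardinal.{u}) := hn.trans hsum
    rw [Nat.cast_inj] at h3
    omega
  obtain ⟨⟨c, s⟩, hcs⟩ := IsLocalization.surj M.primeCompl g
  have hcM : c ∈ M := by
    show algebraMap C B c ∈ IsLocalRing.maximalIdeal B
    rw [← hcs]
    exact Ideal.mul_mem_right _ _ hg
  let mC := (IsLocalRing.maximalIdeal A).map (algebraMap A C)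
  have hmapB : mC.map (algebraMap C B) = Ideal.map (algebraMap A B) (IsLocalRing.maximalIdeal A) := by
    rw [Ideal.map_map, ← IsScalarTower.algebraMap_eq]
  have hcT : ∀ T : Ideal m.D, T.IsPrime → T ≤ m.P → T.comap (algebraMap m.R m.D) = IsLocalRing.maximalIdeal m.R →
      (∀ Q : Ideal m.D, Q.IsPrime → Q ≤ T → Q.comap (algebraMap m.R m.D) = IsLocalRing.maximalIdeal m.R → Q = T) →
      m.χ c ∉ T := by
    intro T hT hTP hTR hTmin hcT
    haveI := hT
    let P0 := T.comap m.χ
    haveI : P0.IsPrime := Ideal.comap_isPrime _ _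
    have hP0A : P0.comap (algebraMap A C) = IsLocalRing.maximalIdeal A := m.comap_χ_maximal T hTR
    have hP0M : P0 ≤ M := (Ideal.comap_mono hTP).trans m.hPM.le
    have hfd : DimFormula.fd m.R (⊥ : Ideal m.D) ≤ DimFormula.fd A P0 :=
      (m.fd_eq_generic_of_minimal T hTR hTmin).ge.trans (m.fd_le_fd_comap T)
    have hdisj : Disjoint (M.primeCompl : Set C) (P0 : Set C) := Set.disjoint_left.2 fun x hx hxP => hx (hP0M hxP)
    have hcomap : (P0.map (algebraMap C B)).comap (algebraMap C B) = P0 :=
      IsLocalization.under_map_of_isPrime_disjoint M.primeCompl B inferInstance hdisj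
    refine hmin (P0.map (algebraMap C B)) ⟨⟨IsLocalization.isPrime_of_isPrime_disjoint M.primeCompl B P0 inferInstance hdisj,
      hmapB ▸ Ideal.map_mono (Ideal.map_le_iff_le_comap.2 hP0A.ge)⟩, fun Q hQ hQP => ?_⟩ ?_
    · rw [← IsLocalization.map_under M.primeCompl B Q]
      refine Ideal.map_mono ?_
      haveI := hQ.1
      have hQ0 : Q.comap (algebraMap C B) ≤ P0 := hcomap ▸ Ideal.comap_mono hQP
      have hQA : (Q.comap (algebraMap C B)).comap (algebraMap A C) = IsLocalRing.maximalIdeal A :=
        le_antisymm ((Ideal.comap_mono hQ0).trans hP0A.le)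
          (Ideal.map_le_iff_le_comap.1 (Ideal.map_le_iff_le_comap.1 (hmapB.trans_le hQ.2)))
      by_contra hne
      have h1 := Groth.Agent.FlatFibres.fd_lt_of_lt (P := Q.comap (algebraMap C B)) hQA hP0A
        (lt_of_le_of_ne hQ0 (fun h' => hne h'.ge))
      have h2 := hle (Q.comap (algebraMap C B)) hQA (hQ0.trans hP0M)
      omega
    · have hc' : algebraMap C B c ∈ P0.map (algebraMap C B) := Ideal.mem_map_of_mem _ hcT
      rw [← hcs] at hc'
      exact (Ideal.mul_unit_mem_iff_mem _ (IsLocalization.map_units B s)).1 hc'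
  obtain ⟨Q, hQ, hQP, hcQ, hQR⟩ := Groth.Agent.FlatFibres.exists_prime_mem_le m.injD m.P m.hPR (m.χ c)
    (m.hPM.ge hcM) hcT (fun T _ _ _ => m.fd_le_generic T)
  let Q0 := Q.comap m.χ
  haveI : Q0.IsPrime := Ideal.comap_isPrime _ _
  have hdisj : Disjoint (M.primeCompl : Set C) (Q0 : Set C) :=
    Set.disjoint_left.2 fun x hx hxP => hx (((Ideal.comap_mono hQP).trans m.hPM.le) hxP)
  have hQ0A : Q0.comap (algebraMap A C) = ⊥ := by
    rw [m.comap_χ_algebraMap, hQR]
    exact Ideal.comap_bot_of_injective _ m.injA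
  have hgQ : g ∈ Q0.map (algebraMap C B) := by
    refine (Ideal.mul_unit_mem_iff_mem _ (IsLocalization.map_units B s)).1 ?_
    rw [hcs]
    exact Ideal.mem_map_of_mem _ hcQ
  rw [injective_iff_map_eq_zero]
  intro a ha
  rw [IsScalarTower.algebraMap_apply A B (B ⧸ Ideal.span {g}), Ideal.Quotient.algebraMap_eq, Ideal.Quotient.eq_zero_iff_mem] at ha
  have h1 : algebraMap A B a ∈ Q0.map (algebraMap C B) :=
    (Ideal.span_singleton_le_iff_mem _).2 hgQ ha
  rw [IsScalarTower.algebraMap_apply A C B, ← Ideal.mem_comap,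
    show (Q0.map (algebraMap C B)).comap (algebraMap C B) = Q0 from
      IsLocalization.under_map_of_isPrime_disjoint M.primeCompl B inferInstance hdisj, ← Ideal.mem_comap, hQ0A] at h1
  exact h1

end Groth.Agent.S1404
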