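import Groth.Statements.S14042
import Groth.Agent.H84GenDeg.Basic
import Groth.Agent.MorLib.WeightDeg
import Groth.Agent.AvramovLib.Ps
import Groth.Agent.S2082

set_option autoImplicit false
universe u
open CategoryTheory CategoryTheory.Limits AlgebraicGeometry
open W4c1frobunstiva

set_option backward.isDefEq.respectTransparency.types false

namespace Groth.Agent.S14042

open Groth.Agent

theorem ringKrullDim_quotient_map_maximalIdeal {R S : Type u} [CommRing R] [CommRing S] [IsLocalRing R] [IsLocalRing S]
    [Algebra R S] [IsLocalHom (algebraMap R S)] [Algebra.QuasiFinite R S] :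
    ringKrullDim (S ⧸ (IsLocalRing.maximalIdeal R).map (algebraMap R S)) = 0 := by
  set I := (IsLocalRing.maximalIdeal R).map (algebraMap R S)
  have hI : I ≤ IsLocalRing.maximalIdeal S := by
    rw [Ideal.map_le_iff_le_comap]
    exact le_of_eq (IsLocalRing.maximalIdeal_comap (algebraMap R S)).symm
  haveI : Nontrivial (S ⧸ I) := Ideal.Quotient.nontrivial_iff.mpr fun h =>
    (IsLocalRing.maximalIdeal.isMaximal S).ne_top (top_le_iff.mp (h ▸ hI))
  haveI : Ring.KrullDimLE 0 (S ⧸ I) := Ring.KrullDimLE.mk₀ fun P hP => by
    let Q := P.comap (Ideal.Quotient.mk I)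
    have hIQ : I ≤ Q := le_trans (le_of_eq (Ideal.mk_ker).symm) (Ideal.comap_mono bot_le)
    have hu : Q.under R = (IsLocalRing.maximalIdeal S).under R := by
      have h1 : IsLocalRing.maximalIdeal R ≤ Q.under R := Ideal.map_le_iff_le_comap.mp hIQ
      have h2 := (IsLocalRing.maximalIdeal.isMaximal R).eq_of_le (Ideal.IsPrime.under R Q).ne_top h1
      exact h2.symm.trans (IsLocalRing.maximalIdeal_comap (algebraMap R S)).symm
    have hQ := Algebra.QuasiFinite.eq_of_le_of_under_eq (R := R) Q _
      (IsLocalRing.le_maximalIdeal (Ideal.IsPrime.ne_top inferInstance)) hu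
    have : P = (IsLocalRing.maximalIdeal S).map (Ideal.Quotient.mk I) := by
      rw [← hQ, Ideal.map_comap_of_surjective _ Ideal.Quotient.mk_surjective]
    refine (Ideal.map_eq_top_or_isMaximal_of_surjective _ Ideal.Quotient.mk_surjective
      (IsLocalRing.maximalIdeal.isMaximal S)).resolve_left ?_ |> (this ▸ ·)
    exact this ▸ hP.ne_top
  exact le_antisymm (Ring.krullDimLE_iff.mp inferInstance) ringKrullDim_nonneg_of_nontrivial

theorem ringKrullDim_stalk {k : Type u} [Field k] {X : Scheme.{u}} [IsIntegral X]
    (p : X ⟶ Spec (CommRingCat.of k)) [LocallyOfFiniteType p] (x : X) :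
    ∃ b : ℕ, ringKrullDim (X.presheaf.stalk x) = b ∧ VarDim.deg p (genericPoint ↥X) = VarDim.deg p x + b := by
  obtain ⟨b, hb, ⟨η, hη, he⟩, hle⟩ := VarDim.exists_deg_add_stalk p x
  refine ⟨b, hb, le_antisymm (hle _ (genericPoint_specializes x)) ?_⟩
  rw [← he]
  exact VarDim.deg_le_of_specializes p (genericPoint_specializes η)

/-- Between regular varieties of the same dimension, quasi-finite points are flat points. -/
theorem flat_stalkMap {k : Type u} [Field k] {X Y : Scheme.{u}} [IsIntegral X] [IsIntegral Y]
    (f : X ⟶ Y) (q : Y ⟶ Spec (CommRingCat.of k)) [LocallyOfFiniteType q] [LocallyOfFiniteType f]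
    (hdim : topologicalKrullDim ↥X = topologicalKrullDim ↥Y)
    (hX : ∀ x : X, IsRegularLocalRing (X.presheaf.stalk x))
    (hY : ∀ y : Y, IsRegularLocalRing (Y.presheaf.stalk y)) (x : X) (hx : f.QuasiFiniteAt x) :
    (f.stalkMap x).hom.Flat := by
  haveI := hX x
  haveI := hY (f x)
  haveI := AvramovLib.isCM_of_regular (X.presheaf.stalk x)
  have h0 : VarDim.fdeg f x = 0 := by
    have h := VarDim.deg_fiber f (f x) (f.asFiber x)
    haveI : LocallyOfFiniteType (X := f.fiber (f x)) (Y := Spec (CommRingCat.of (Y.residueField (f x)))) (f.fiberToSpecResidueField (f x)) :=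
      VarDim.locallyOfFiniteType_fiberToSpec f (f x)
    rw [(VarDim.closedPoint_iff_deg_eq_zero (k := Y.residueField (f x)) (f.fiberToSpecResidueField (f x)) (f.asFiber x)).1
      hx.isClopen_singleton_asFiber.isClosed] at h
    rw [f.fiberι_asFiber x] at h
    exact h.symm
  obtain ⟨a, ha, ha'⟩ := ringKrullDim_stalk (f ≫ q) x
  obtain ⟨b, hb, hb'⟩ := ringKrullDim_stalk q (f x)
  have hgen : VarDim.deg (f ≫ q) (genericPoint ↥X) = VarDim.deg q (genericPoint ↥Y) := by
    have h1 := VarDim.topologicalKrullDim_eq_deg_genericPoint (f ≫ q)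
    rw [hdim, VarDim.topologicalKrullDim_eq_deg_genericPoint q] at h1
    exact_mod_cast h1.symm
  rw [VarDim.deg_comp_eq f q x, h0, add_zero, hgen] at ha'
  obtain rfl : a = b := by omega
  have hq : (f.stalkMap x).hom.QuasiFinite := hx
  algebraize [(f.stalkMap x).hom]
  haveI : IsLocalHom (algebraMap (Y.presheaf.stalk (f x)) (X.presheaf.stalk x)) :=
    inferInstanceAs <| IsLocalHom (f.stalkMap x).hom
  refine S2082.result ?_
  rw [ringKrullDim_quotient_map_maximalIdeal, add_zero, ha, hb]

/-- Fibres meeting only an open set are those of the restriction. -/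
theorem isPullback_fibre {X Y T : Scheme.{u}} (f : X ⟶ Y) (W : X.Opens) (i : T ⟶ Y)
    (h : ∀ x, f x ∈ Set.range i → x ∈ W) :
    IsPullback (pullback.fst (W.ι ≫ f) i ≫ W.ι) (pullback.snd (W.ι ≫ f) i) f i := by
  have hr : Set.range (pullback.fst f i) ⊆ Set.range W.ι := by
    rw [Scheme.Opens.range_ι]
    rintro _ ⟨a, rfl⟩
    refine h _ ⟨pullback.snd f i a, ?_⟩
    rw [← Scheme.Hom.comp_apply, ← pullback.condition, Scheme.Hom.comp_apply]
  let l := IsOpenImmersion.lift W.ι (pullback.fst f i) hr
  have hl : l ≫ W.ι = pullback.fst f i := IsOpenImmersion.lift_fac _ _ _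
  let a : pullback (W.ι ≫ f) i ⟶ pullback f i :=
    pullback.lift (pullback.fst _ _ ≫ W.ι) (pullback.snd _ _) (by rw [Category.assoc]; exact pullback.condition)
  let b : pullback f i ⟶ pullback (W.ι ≫ f) i :=
    pullback.lift l (pullback.snd _ _) (by rw [← Category.assoc, hl]; exact pullback.condition)
  have a1 : a ≫ pullback.fst f i = pullback.fst _ _ ≫ W.ι := pullback.lift_fst _ _ _
  have a2 : a ≫ pullback.snd f i = pullback.snd _ _ := pullback.lift_snd _ _ _
  have b1 : b ≫ pullback.fst (W.ι ≫ f) i = l := pullback.lift_fst _ _ _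
  have b2 : b ≫ pullback.snd (W.ι ≫ f) i = pullback.snd _ _ := pullback.lift_snd _ _ _
  have : IsIso a := by
    refine ⟨b, ?_, ?_⟩
    · apply pullback.hom_ext
      · simp only [← cancel_mono W.ι, Category.assoc, reassoc_of% b1, hl, a1, Category.id_comp]
      · rw [Category.assoc, b2, a2, Category.id_comp]
    · apply pullback.hom_ext
      · rw [Category.assoc, a1, ← Category.assoc, b1, hl, Category.id_comp]
      · rw [Category.assoc, a2, b2, Category.id_comp]
  exact IsPullback.of_iso_pullback ⟨by rw [Category.assoc]; exact pullback.condition⟩ (asIso a) a1 a2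

/-- Let k be a field, X and Y integral schemes of finite type over k of the same dimension whose local
rings are all regular, and f : X → Y a dominant and separated k-morphism; let d be the degree of the
residue field of the generic point of X over that of the generic point of Y, a finite extension.
Then for every point y of Y, either the fibre X_y has positive dimension — it is not finite over
κ(y) — or its ring of global sections has dimension at most d over κ(y). (The published statement
speaks of length; the κ(y)-rank used here is at least the length, so this form implies the printed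
one. The published statement does not mention separatedness: for the affine line with doubled origin
mapping to the affine line — regular, dominant, degree 1 — the fibre over the origin is two reduced
points, of rank 2; the étale-local splitting of a quasi-finite morphism used in the published proof
needs f separated, so f is taken separated here.) -/
theorem result (k : Type u) [Field k] {X Y : Scheme.{u}}
    [X.Over (Spec (CommRingCat.of k))] [Y.Over (Spec (CommRingCat.of k))]
    [LocallyOfFiniteType (X ↘ Spec (CommRingCat.of k))] [QuasiCompact (X ↘ Spec (CommRingCat.of k))]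
    [LocallyOfFiniteType (Y ↘ Spec (CommRingCat.of k))] [QuasiCompact (Y ↘ Spec (CommRingCat.of k))]
    [IsIntegral X] [IsIntegral Y] (f : X ⟶ Y) [IsDominant f]
    (hf : f ≫ (Y ↘ Spec (CommRingCat.of k)) = X ↘ Spec (CommRingCat.of k))
    (hdim : topologicalKrullDim ↥X = topologicalKrullDim ↥Y)
    [IsSeparated f] (hX : ∀ x : X, IsRegularLocalRing (X.presheaf.stalk x))
    (hY : ∀ y : Y, IsRegularLocalRing (Y.presheaf.stalk y)) (y : Y)
    (hy : IsFinite (pullback.snd f (Y.fromSpecResidueField y))) :
    (letI := ((Scheme.ΓSpecIso (CommRingCat.of (Y.residueField y))).inv ≫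
            (pullback.snd f (Y.fromSpecResidueField y)).appTop).hom.toAlgebra;
          Module.finrank (Y.residueField y) ↑(Γ(pullback f (Y.fromSpecResidueField y), ⊤))) ≤
      (letI := (f.residueFieldMap (genericPoint ↥X)).hom.toAlgebra;
          Module.finrank (Y.residueField (f.base (genericPoint ↥X))) (X.residueField (genericPoint ↥X))) := by
  classical
  let q := Y ↘ Spec (CommRingCat.of k)
  haveI : LocallyOfFiniteType (f ≫ q) := hf ▸ inferInstance
  haveI : QuasiCompact (f ≫ q) := hf ▸ inferInstance
  haveI : LocallyOfFiniteType f := locallyOfFiniteType_of_comp f q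
  haveI : IsLocallyNoetherian Y := LocallyOfFiniteType.isLocallyNoetherian q
  haveI : IsLocallyNoetherian X := LocallyOfFiniteType.isLocallyNoetherian (f ≫ q)
  haveI : CompactSpace ↥X := QuasiCompact.compactSpace_of_compactSpace (f ≫ q)
  haveI : IsNoetherian X := ⟨⟩
  let W := f.quasiFiniteLocus
  let g := W.ι ≫ f
  haveI : IsLocallyNoetherian (W : Scheme.{u}) := isLocallyNoetherian_of_isOpenImmersion W.ι
  haveI : CompactSpace ↥(W : Scheme.{u}) := isCompact_iff_compactSpace.mp (TopologicalSpace.NoetherianSpace.isCompact _)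
  haveI : IsNoetherian (W : Scheme.{u}) := ⟨⟩
  haveI : Flat g := Flat.of_stalkMap g fun x => by
    rw [Scheme.Hom.stalkMap_comp]
    exact RingHom.Flat.comp (flat_stalkMap f q hdim hX hY _ x.2)
      (RingHom.Flat.of_bijective (ConcreteCategory.bijective_of_isIso (W.ι.stalkMap x)))
  haveI : LocallyQuasiFinite g := inferInstanceAs (LocallyQuasiFinite (f.quasiFiniteLocus.ι ≫ f))
  haveI : LocallyOfFinitePresentation g := inferInstance
  have hfin : ∀ s : Y, (g ⁻¹' {s}).Finite := fun s => g.finite_preimage_singleton s
  have hξη : f (genericPoint ↥X) = genericPoint ↥Y := Triage.GenFinite.map_genericPoint f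
  have huniq : ∀ x : X, f x = f (genericPoint ↥X) → x = genericPoint ↥X := fun x hx =>
    H84GenDeg.eq_genericPoint_of_map_eq f q hdim x (hx.trans hξη)
  have hmem : ∀ (s : Y), Finite ↥(f.fiber s) → DiscreteTopology ↥(f.fiber s) → ∀ x, f x = s → x ∈ W := by
    rintro s h1 h2 x rfl
    exact Scheme.Hom.quasiFiniteAt_iff_isOpen_singleton_asFiber.mpr (isOpen_discrete _)
  -- the special fibre
  have hWy : ∀ x, f x ∈ Set.range (Y.fromSpecResidueField y) → x ∈ W := by
    intro x hx
    rw [Scheme.range_fromSpecResidueField] at hx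
    haveI : IsFinite (f.fiberToSpecResidueField y) := hy
    haveI : IsLocallyArtinian (Spec (Y.residueField y)) := Scheme.isLocallyArtinianScheme_Spec.mpr inferInstance
    haveI : IsLocallyArtinian (f.fiber y) := .of_locallyQuasiFinite (f.fiberToSpecResidueField y)
    haveI : CompactSpace ↥(f.fiber y) := QuasiCompact.compactSpace_of_compactSpace (f.fiberToSpecResidueField y)
    haveI : Finite ↥(f.fiber y) := finite_of_compact_of_discrete
    exact hmem y inferInstance inferInstance x hx
  -- the generic fibre
  have hWη : ∀ x, f x ∈ Set.range (Y.fromSpecResidueField (f (genericPoint ↥X))) → x ∈ W := by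
    intro x hx
    rw [Scheme.range_fromSpecResidueField] at hx
    haveI : Subsingleton ↥(f.fiber (f (genericPoint ↥X))) := ⟨fun a b =>
      (f.fiberι _).isEmbedding.injective (by
        have hm : ∀ c, f (f.fiberι (f (genericPoint ↥X)) c) = f (genericPoint ↥X) := fun c =>
          Set.mem_singleton_iff.mp ((f.range_fiberι _).le ⟨c, rfl⟩)
        rw [huniq _ (hm a), huniq _ (hm b)])⟩
    exact hmem _ inferInstance inferInstance x hx
  have key : ∀ (s : Y) (hs : ∀ x, f x ∈ Set.range (Y.fromSpecResidueField s) → x ∈ W),
      ∃ (_ : IsFinite (pullback.snd f (Y.fromSpecResidueField s))) (_ : Flat (pullback.snd f (Y.fromSpecResidueField s))),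
        ∀ z, (pullback.snd f (Y.fromSpecResidueField s)).finrank z = MorLib.WT.deg g s := by
    intro s hs
    have hsq := isPullback_fibre f W (Y.fromSpecResidueField s) hs
    have hε := hsq.isoPullback_inv_snd
    haveI : IsFinite (pullback.snd g (Y.fromSpecResidueField s)) := MorLib.WT.isFinite_fibre hfin (Y.fromSpecResidueField s)
    haveI : Flat (pullback.snd g (Y.fromSpecResidueField s)) := MorphismProperty.pullback_snd _ _ inferInstance
    haveI h1 : IsFinite (pullback.snd f (Y.fromSpecResidueField s)) := hε ▸ (inferInstanceAs (IsFinite (hsq.isoPullback.inv ≫ pullback.snd g (Y.fromSpecResidueField s))))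
    haveI h2 : Flat (pullback.snd f (Y.fromSpecResidueField s)) := hε ▸ (inferInstanceAs (Flat (hsq.isoPullback.inv ≫ pullback.snd g (Y.fromSpecResidueField s))))
    refine ⟨h1, h2, fun z => ?_⟩
    show (pullback.snd f (Y.fromSpecResidueField s)).finrank z = _
    rw [← hε, Scheme.Hom.finrank_comp_left_of_isIso]
    refine (MorLib.WT.finrank_fibre_eq_deg (f := g) hfin (K := Y.residueField s) (Y.fromSpecResidueField s) z).trans
      (congrArg _ ?_)
    exact Scheme.fromSpecResidueField_apply s z
  have hle : MorLib.WT.deg g y ≤ MorLib.WT.deg g (f (genericPoint ↥X)) := by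
    have hcl := MorLib.WT.isClosed_deg_le (f := g) hfin (MorLib.WT.deg g (f (genericPoint ↥X)))
    have hsp : f (genericPoint ↥X) ⤳ y := hξη ▸ genericPoint_specializes y
    exact hsp.mem_closed hcl (show MorLib.WT.deg g _ ≤ _ from le_rfl)
  obtain ⟨h1, h2, h3⟩ := key y hWy
  obtain ⟨g1, g2, g3⟩ := key _ hWη
  have a := H84GenDeg.finrank_Gamma (Field.toIsField (Y.residueField y)) (pullback.snd f (Y.fromSpecResidueField y))
    (IsLocalRing.closedPoint (Y.residueField y))
  have b := H84GenDeg.finrank_snd_eq f (genericPoint ↥X) (Triage.GenFinite.isField_stalk rfl) huniq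
    (IsLocalRing.closedPoint _)
  rw [h3] at a
  rw [g3] at b
  exact a.symm.trans_le (hle.trans_eq b)

end Groth.Agent.S14042
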