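import Groth.Statements.S14060
import Groth.Agent.SiteBase.Global
-- import your own Groth.Agent.* helpers here

set_option autoImplicit false
universe u
open CategoryTheory CategoryTheory.Limits TopologicalSpace
open CohTop

namespace Groth.Agent.S14060

namespace Aux

theorem surjective_top (X : TopCat.{u})
    [HasExt.{u} (Sheaf (Opens.grothendieckTopology X) AddCommGrpCat.{u})]
    (r : ℕ) (hr : 1 ≤ r)
    (F : ChainComplex (Sheaf (Opens.grothendieckTopology X) AddCommGrpCat.{u}) ℕ)
    (hmono : Mono (F.d r (r - 1))) (hepi : Epi (F.d 1 0))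
    (hex : ∀ j : ℕ, 1 ≤ j → j < r → F.ExactAt j)
    (hvan : ∀ j : ℕ, 2 ≤ j → j ≤ r → Subsingleton (Sheaf.H (F.X j) (j - 1))) :
    Function.Surjective ((F.d 1 0).hom.app (Opposite.op ⊤)) := by
  have hH : ∀ (G : Sheaf (Opens.grothendieckTopology X) AddCommGrpCat.{u}) (n : ℕ), Subsingleton (Sheaf.H G n) →
      Subsingleton (CohSite.HU G n (⊤ : Opens X)) := fun G n h =>
    (SiteBase.huTerminalEquiv isTerminalTop G n).toEquiv.subsingleton
  have key : ∀ k n : ℕ, n + k + 1 = r →
      Subsingleton (CohSite.HU (kernel (F.d (n + 1) n)) (n + 1) (⊤ : Opens X)) := by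
    intro k
    induction k with
    | zero =>
      intro n hn
      obtain rfl : r = n + 1 := hn.symm
      haveI : Mono (F.d (n + 1) n) := hmono
      haveI : Injective (kernel (F.d (n + 1) n)) := (isZero_kernel_of_mono (F.d (n + 1) n)).injective
      exact SiteBase.subsingleton_HU_of_injective _ _ n
    | succ k ih =>
      intro n hn
      have hex' := (F.exactAt_iff' (n + 2) (n + 1) n (by simp) (by simp)).1 (hex (n + 1) (by omega) (by omega))
      let S := ShortComplex.mk (kernel.ι (F.d (n + 2) (n + 1)))
        (kernel.lift (F.d (n + 1) n) (F.d (n + 2) (n + 1)) (F.d_comp_d _ _ _))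
        (by rw [← cancel_mono (kernel.ι (F.d (n + 1) n)), Category.assoc, kernel.lift_ι, kernel.condition, zero_comp])
      haveI : Epi S.g := hex'.epi_kernelLift
      have hS : S.ShortExact := {
        exact := S.exact_of_f_is_kernel (KernelFork.IsLimit.ofι' _ _ fun {A} a ha => ⟨kernel.lift _ a (by
          have e := congrArg (fun t => t ≫ kernel.ι (F.d (n + 1) n)) ha
          simpa [S] using e), kernel.lift_ι _ _ _⟩) }
      exact SiteBase.subsingleton_HU_X₃ hS _ (n + 1) (ih (n + 1) (by omega))
        (hH _ _ (hvan (n + 2) (by omega) (by omega)))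
  haveI := hepi
  let S := ShortComplex.mk (kernel.ι (F.d 1 0)) (F.d 1 0) (kernel.condition _)
  have hS : S.ShortExact := { exact := S.exact_of_f_is_kernel (kernelIsKernel _) }
  exact SiteBase.surjective_sections_of_HU_one hS (⊤ : Opens X) (key (r - 1) 0 (by omega))

end Aux

/-- Let X be a topological space, r ≥ 1 an integer and 0 → F_r → ⋯ → F_2 → F_1 → F_0 → 0 an exact
sequence of sheaves of abelian groups on X, presented as a chain complex F of abelian sheaves
indexed by the natural numbers whose differential F_r → F_{r−1} is a monomorphism, whose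
differential F_1 → F_0 is an epimorphism of sheaves, and which is exact at F_j for 1 ≤ j ≤ r − 1
(for r = 1 the single map F_1 → F_0 is mono and epi). Assume the sheaf cohomology groups H^{j−1}(X,
F_j) vanish for 2 ≤ j ≤ r. Then the map on global sections F_1(X) → F_0(X) is surjective. (The
instance hypothesis that the category of abelian sheaves on X has Ext groups in the universe of X
holds for every X, abelian sheaves on a space forming a Grothendieck abelian category; it is the
setting in which sheaf cohomology is defined.) -/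
theorem result (X : TopCat.{u})
    [HasExt.{u} (Sheaf (Opens.grothendieckTopology X) AddCommGrpCat.{u})]
    (r : ℕ) (hr : 1 ≤ r)
    (F : ChainComplex (Sheaf (Opens.grothendieckTopology X) AddCommGrpCat.{u}) ℕ)
    (hmono : Mono (F.d r (r - 1))) (hepi : Epi (F.d 1 0))
    (hex : ∀ j : ℕ, 1 ≤ j → j < r → F.ExactAt j)
    (hvan : ∀ j : ℕ, 2 ≤ j → j ≤ r → Subsingleton (Sheaf.H (F.X j) (j - 1))) :
    Function.Surjective ((F.d 1 0).hom.app (Opposite.op ⊤)) := by
  exact Aux.surjective_top X r hr F hmono hepi hex hvan

end Groth.Agent.S14060
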