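import Groth.Statements.S14064
import Groth.Agent.SurfInt.SecMono
-- import your own Groth.Agent.* helpers here

set_option autoImplicit false
set_option linter.style.haveILetI false
universe u
open CategoryTheory CategoryTheory.Limits AlgebraicGeometry TopologicalSpace
open Surf

attribute [-instance] CategoryTheory.catToReflQuiver

namespace Groth.Agent.S14064

open Groth.Agent
open Groth.Agent.H23.PicMul

/-- Fix a field k, an integral proper k-scheme X, and an invertible O_X-module L with tensor inverse M.
Suppose that L^{⊗j} has a nonzero global section for every j ≥ 4 and that no tensor power L^{⊗j}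
with j ≥ 1 is isomorphic to O_X. Then H⁰(X, M^{⊗i}) = 0 for every i ≥ 1: the negative powers of L
have no nonzero global sections. (The published statement is for the canonical module of a minimal
surface of general type over an algebraically closed field, where the fourth and higher powers are
globally generated by a deep result quoted without proof, and non-triviality of the positive powers
comes from bigness; the published deduction of this part uses exactly the two hypotheses carried
here, on an integral proper X.) -/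
theorem result (k : Type u) [Field k]
    (X : Scheme.{u}) [X.Over (Spec (CommRingCat.of k))] [IsProper (X ↘ (Spec (CommRingCat.of k)))] [IsIntegral X]
    (L M : X.Modules) (hL : PicF.IsInvertible L) (hM : ClSub.IsInverseOf M L)
    (hsec : ∀ j : ℕ, 4 ≤ j → Nontrivial (Coh.HH X (CohB1.tensorPow L j) 0))
    (hnt : ∀ j : ℕ, 1 ≤ j → IsEmpty (CohB1.tensorPow L j ≅ Coh.structureModule X))
    (i : ℕ) (hi : 1 ≤ i) :
    Subsingleton (Coh.HH X (CohB1.tensorPow M i) 0) := by
  have hO : PicF.IsInvertible (Coh.structureModule X) := InvX.isInvertible_structureModule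
  have hMinv : PicF.IsInvertible M := by
    obtain ⟨E, hE, e⟩ := H23.PicInv.exists_inverse hL
    have h1 : PicF.cl L * PicF.cl E = 1 := by rw [← cl_tensor]; exact cl_eq_iff.2 e
    have h2 : PicF.cl M * PicF.cl L = 1 := by rw [← cl_tensor]; exact cl_eq_iff.2 hM
    have h3 : PicF.cl E = PicF.cl M := by
      rw [← one_mul (PicF.cl E), ← h2, mul_assoc, h1, mul_one]
    obtain ⟨φ⟩ := cl_eq_iff.1 h3
    exact H23.PicMul.isInvertible_of_iso φ hE
  have hpow : ∀ {A : X.Modules}, PicF.IsInvertible A → ∀ j : ℕ, PicF.IsInvertible (CohB1.tensorPow A j) :=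
    fun h j => H23.PicMul.isInvertible_tensorPow h j
  refine not_nontrivial_iff_subsingleton.1 fun hne => ?_
  haveI := hne
  haveI := hsec (i * 4) (by omega)
  have hcl : PicF.cl (CohB1.tensorPow L i) * PicF.cl (CohB1.tensorPow M i) = 1 := by
    rw [cl_tensorPow, cl_tensorPow, ← mul_pow, mul_comm, show PicF.cl M * PicF.cl L = 1 by
      rw [← cl_tensor]; exact cl_eq_iff.2 hM, one_pow]
  obtain ⟨φ, hφ⟩ := SurfInt.exists_mono_to_structure (hpow hL i) (hpow hMinv i) hcl
  obtain ⟨t, ht⟩ := SurfInt.exists_mono_of_nontrivial_H0 (hpow hL (i * 4))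
  haveI := hφ
  haveI := ht
  obtain ⟨ψ, hψ⟩ := SurfInt.exists_mono_pow_to_structure (hpow hL i) φ 4
  haveI := hψ
  obtain ⟨a⟩ : Nonempty (CohB1.tensorPow L (i * 4) ≅ CohB1.tensorPow (CohB1.tensorPow L i) 4) :=
    cl_eq_iff.1 (by rw [cl_tensorPow, cl_tensorPow, cl_tensorPow, pow_mul])
  let g : CohB1.tensorPow L (i * 4) ⟶ Coh.structureModule X := a.hom ≫ ψ
  haveI : Mono g := inferInstanceAs (Mono (a.hom ≫ ψ))
  let e : End (Coh.structureModule X) := t ≫ g
  haveI : Mono (e : Coh.structureModule X ⟶ Coh.structureModule X) := inferInstanceAs (Mono (t ≫ g))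
  have hr := InvEnd.isFinLocFreeOfRank_one hO
  haveI : Nontrivial (End (Coh.structureModule X)) := ⟨⟨𝟙 _, 0, fun h =>
    CurveEnd.not_isZero _ 1 one_pos hr ((IsZero.iff_id_eq_zero _).mpr h)⟩⟩
  haveI : NoZeroDivisors (End (Coh.structureModule X)) := ⟨fun {f g} h => by
    by_cases hf : f = 0
    · exact Or.inl hf
    right
    haveI := InvEnd.mono_of_ne_zero hO hO f hf
    apply (cancel_mono (f : Coh.structureModule X ⟶ Coh.structureModule X)).mp
    rw [Limits.zero_comp]
    exact h⟩
  haveI : IsDomain (End (Coh.structureModule X)) := NoZeroDivisors.to_isDomain _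
  have he : e ≠ 0 := fun h => one_ne_zero (α := End (Coh.structureModule X)) (by
    apply (cancel_mono (e : Coh.structureModule X ⟶ Coh.structureModule X)).mp
    rw [h]; simp only [Limits.comp_zero])
  have hunit : IsUnit e := by
    let s := X ↘ Spec (CommRingCat.of k)
    let ψ : k →+* Γ(X, ⊤) := s.appTop.hom.comp (Scheme.ΓSpecIso (CommRingCat.of k)).inv.hom
    letI : Algebra k Γ(X, ⊤) := ψ.toAlgebra
    haveI : Module.Finite k Γ(X, ⊤) :=
      (finite_appTop_of_universallyClosed (K := k) s).comp
        (RingHom.Finite.of_surjective _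
          (ConcreteCategory.bijective_of_isIso (Scheme.ΓSpecIso (CommRingCat.of k)).inv).2)
    letI : Field Γ(X, ⊤) := (isField_of_isIntegral_of_isField' (Field.toIsField k)).toField
    obtain ⟨p, hp, hpe⟩ := CurveEnd.exists_monic_aeval_eq_zero (X := X) _ 1 hr e
    letI : Algebra Γ(X, ⊤) (End (Coh.structureModule X)) :=
      (CurveEnd.scalar (Coh.structureModule X)).toAlgebra' fun c f => CurveEnd.scalar_commute _ c f
    rcases CurveEnd.isUnit_or_isNilpotent (k := Γ(X, ⊤)) (fun f hf => by
      have h0 : f * (f - 1) = 0 := by rw [mul_sub, mul_one, hf, sub_self]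
      rcases mul_eq_zero.1 h0 with h | h
      · exact Or.inl h
      · exact Or.inr (sub_eq_zero.1 h)) e p hp.ne_zero hpe with h | h
    · exact h
    · exact absurd (IsNilpotent.eq_zero h) he
  haveI : IsIso (t ≫ g) := (isUnit_iff_isIso _).1 hunit
  haveI : IsSplitEpi g := IsSplitEpi.mk' ⟨inv (t ≫ g) ≫ t, by rw [Category.assoc, IsIso.inv_hom_id]⟩
  haveI : IsIso g := isIso_of_mono_of_isSplitEpi g
  exact (hnt (i * 4) (by omega)).false (asIso g)

end Groth.Agent.S14064
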