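import Groth.Statements.S14084
import Groth.Agent.ZH85.NodeInvol
import Groth.Agent.ZH85.PlaneSing.Basic
import Groth.Agent.ArSingLib.Node
import Groth.Agent.NodeLib.Completion

set_option autoImplicit false
set_option linter.style.haveILetI false
universe u
open ArSing

namespace Groth.Agent.S14084

/-- Let k be an algebraically closed field with 2 invertible, R → S a flat local homomorphism of
complete Noetherian local k-algebras whose closed fibre S/m_R S is isomorphic over k to the node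
algebra k[[x,y]]/(y^2 - x^2), and σ an R-algebra involution of S whose reduction to the closed fibre
does not exchange the two branches (it maps each minimal prime ideal over m_R S to itself). Then
there are t in R, signs ξ₁, ξ₂ in k and an R-algebra isomorphism of S with R[[x,y]]/(xy - t)
transporting σ to x ↦ ξ₂ x, y ↦ ξ₁ y; moreover t = 0 when ξ₁ = -ξ₂. -/
theorem result (k R S : Type u) [Field k] [IsAlgClosed k]
    (h2 : (2 : k) ≠ 0)
    [CommRing R] [IsLocalRing R] [IsNoetherianRing R] [IsAdicComplete (IsLocalRing.maximalIdeal R) R]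
    [CommRing S] [IsLocalRing S] [IsNoetherianRing S] [IsAdicComplete (IsLocalRing.maximalIdeal S) S]
    [Algebra k R] [Algebra R S] [Algebra k S] [IsScalarTower k R S]
    [IsLocalHom (algebraMap R S)] [Module.Flat R S]
    (e : (S ⧸ Ideal.map (algebraMap R S) (IsLocalRing.maximalIdeal R)) ≃ₐ[k]
      (MvPowerSeries (Fin 2) k ⧸
        Ideal.span {(MvPowerSeries.X 1 ^ 2 - MvPowerSeries.X 0 ^ 2 : MvPowerSeries (Fin 2) k)}))
    (σ : S ≃ₐ[R] S) (hσ : ∀ s, σ (σ s) = s)
    (hbr : ∀ P ∈ (Ideal.map (algebraMap R S) (IsLocalRing.maximalIdeal R)).minimalPrimes,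
      Ideal.map (σ : S →+* S) P = P) :
    ∃ (t : R) (ξ₁ ξ₂ : k), ξ₁ ^ 2 = 1 ∧ ξ₂ ^ 2 = 1 ∧ (ξ₁ = -ξ₂ → t = 0) ∧
      ∃ f : S ≃ₐ[R] (MvPowerSeries (Fin 2) R ⧸
          Ideal.span {(MvPowerSeries.X 0 * MvPowerSeries.X 1 - MvPowerSeries.C t : MvPowerSeries (Fin 2) R)}),
        f (σ (f.symm (Ideal.Quotient.mk _ (MvPowerSeries.X 0)))) =
          algebraMap k R ξ₂ • Ideal.Quotient.mk _ (MvPowerSeries.X 0) ∧
        f (σ (f.symm (Ideal.Quotient.mk _ (MvPowerSeries.X 1)))) =
          algebraMap k R ξ₁ • Ideal.Quotient.mk _ (MvPowerSeries.X 1) := by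
  classical
  set M := Ideal.map (algebraMap R S) (IsLocalRing.maximalIdeal R) with hMdef
  let π : S →ₐ[k] ArSing.ring k 1 := e.toAlgHom.comp (Ideal.Quotient.mkₐ k M)
  have hπs : Function.Surjective π := e.surjective.comp Ideal.Quotient.mk_surjective
  have hπ0 : ∀ s, π s = 0 ↔ s ∈ M := fun s =>
    show e (Ideal.Quotient.mk M s) = 0 ↔ _ from (map_eq_zero_iff e e.injective).trans Ideal.Quotient.eq_zero_iff_mem
  have hMm : M ≤ IsLocalRing.maximalIdeal S := IsLocalRing.map_maximalIdeal_le (algebraMap R S)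
  have hπm : ∀ s, ArSingLib.cst (π s) = 0 ↔ s ∈ IsLocalRing.maximalIdeal S := fun s => by
    refine ⟨fun h hu => ?_, fun h => ?_⟩
    · exact ArSingLib.isUnit_iff.1 (hu.map π) h
    · by_contra hne
      obtain ⟨w, hw⟩ := (ArSingLib.isUnit_iff.2 hne).exists_right_inv
      obtain ⟨t, rfl⟩ := hπs w
      have h1 : s * t - 1 ∈ IsLocalRing.maximalIdeal S := hMm ((hπ0 _).1 (by rw [map_sub, map_mul, hw, map_one, sub_self]))
      have h2 := sub_mem (Ideal.mul_mem_right t _ h) h1
      rw [sub_sub_cancel] at h2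
      exact (Ideal.ne_top_iff_one _).1 (IsLocalRing.maximalIdeal.isMaximal S).ne_top h2
  -- the residue field is `k`
  let r : R →ₐ[k] k := ArSingLib.cst.comp (π.comp (IsScalarTower.toAlgHom k R S))
  have hrs : Function.Surjective r := fun c => ⟨algebraMap k R c, by simp⟩
  have hrker : RingHom.ker r.toRingHom = IsLocalRing.maximalIdeal R :=
    IsLocalRing.eq_maximalIdeal (RingHom.ker_isMaximal_of_surjective r.toRingHom hrs)
  have hsub : ∀ s, s - algebraMap k S (ArSingLib.cst (π s)) ∈ IsLocalRing.maximalIdeal S := fun s => by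
    rw [← hπm, map_sub, map_sub, AlgHom.commutes, AlgHom.commutes]
    simp
  have hres : ∀ c : S, ∃ t : R, c - algebraMap R S t ∈ IsLocalRing.maximalIdeal S := fun c =>
    ⟨algebraMap k R (ArSingLib.cst (π c)), by rw [← IsScalarTower.algebraMap_apply]; exact hsub c⟩
  have hσm : ∀ s ∈ IsLocalRing.maximalIdeal S, σ s ∈ IsLocalRing.maximalIdeal S := fun s hs hu =>
    hs (by have := hu.map σ; rwa [hσ] at this)
  have hσk : ∀ a : k, σ (algebraMap k S a) = algebraMap k S a := fun a => by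
    rw [IsScalarTower.algebraMap_apply k R S, σ.commutes]
  have hcσ : ∀ c, ArSingLib.cst (π (σ c)) = ArSingLib.cst (π c) := fun c => by
    have h1 := (hπm _).2 (hσm _ (hsub c))
    rw [map_sub σ, hσk, map_sub, map_sub, AlgHom.commutes, AlgHom.commutes, sub_eq_zero] at h1
    simpa using h1
  -- branches
  set u₀ := ArSing.x k 1 + ArSing.y k 1 with hu₀
  set v₀ := ArSing.y k 1 - ArSing.x k 1 with hv₀
  have key : ∀ a b : ArSing.ring k 1, a * b = 0 → (Ideal.span {a}).IsPrime → b ∉ Ideal.span {a} →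
      ∀ A : S, π A = a → ∃ c, σ A - c * A ∈ M := by
    intro a b hab hpa hba A hA
    set P₁ := (Ideal.span {a}).comap π with hP₁
    haveI : P₁.IsPrime := inferInstanceAs ((Ideal.span {a}).comap π).IsPrime
    have hmin : P₁ ∈ M.minimalPrimes := by
      refine ⟨⟨inferInstance, fun s hs => ?_⟩, fun Q hQ hle s hs => ?_⟩
      · show π s ∈ Ideal.span {a}
        rw [(hπ0 s).2 hs]
        exact zero_mem _
      · obtain ⟨B, hB⟩ := hπs b
        have hAB : A * B ∈ Q := hQ.2 ((hπ0 _).1 (by rw [map_mul, hA, hB, hab]))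
        have hAQ : A ∈ Q := (hQ.1.mem_or_mem hAB).resolve_right fun hBQ => hba (by
          have := hle hBQ
          rw [hP₁, Ideal.mem_comap, hB] at this
          exact this)
        obtain ⟨c, hc⟩ := Ideal.mem_span_singleton'.1 (show π s ∈ Ideal.span {a} from hs)
        obtain ⟨C, rfl⟩ := hπs c
        have hmem : s - C * A ∈ M := (hπ0 _).1 (by rw [map_sub, map_mul, hA, hc, sub_self])
        simpa using add_mem (hQ.2 hmem) (Ideal.mul_mem_left Q C hAQ)
    have hσA : σ A ∈ P₁ := by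
      rw [← hbr P₁ hmin]
      exact Ideal.mem_map_of_mem _ (show π A ∈ Ideal.span {a} from hA ▸ Ideal.mem_span_singleton_self a)
    obtain ⟨c, hc⟩ := Ideal.mem_span_singleton'.1 (show π (σ A) ∈ Ideal.span {a} from hσA)
    obtain ⟨C, rfl⟩ := hπs c
    exact ⟨C, (hπ0 _).1 (by rw [map_sub, map_mul, hA, hc, sub_self])⟩
  have hσM : ∀ x ∈ M, σ x ∈ M := by
    intro x hx
    have h1 : M.map (σ : S →+* S) = M := by
      rw [hMdef, Ideal.map_map]
      congr 1
      exact RingHom.ext fun t => σ.commutes t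
    rw [← h1]
    exact Ideal.mem_map_of_mem _ hx
  have eig : ∀ a b : ArSing.ring k 1, a * b = 0 → (Ideal.span {a}).IsPrime → b ∉ Ideal.span {a} → a ≠ 0 →
      ∀ A : S, π A = a → ∃ (ξ : k) (A' w : S), ξ ^ 2 = 1 ∧ IsUnit w ∧ A' - A * w ∈ M ∧
        σ A' = algebraMap k S ξ * A' := by
    intro a b hab hpa hba ha A hA
    obtain ⟨c, hc⟩ := key a b hab hpa hba A hA
    set ξ := ArSingLib.cst (π c) with hξ
    have h1 : π ((σ c * c - 1) * A) = 0 := by
      rw [hπ0]
      have h2 := add_mem (hσM _ hc) (Ideal.mul_mem_left _ (σ c) hc)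
      rw [map_sub, map_mul, hσ] at h2
      convert neg_mem h2 using 1
      ring
    have hξ2 : ξ ^ 2 = 1 := by
      by_contra hne
      have hu : IsUnit (π (σ c * c - 1)) := ArSingLib.isUnit_iff.2 (by
        rw [map_sub π, map_mul π, map_one π, map_sub, map_mul, map_one, hcσ, ← hξ]
        exact fun h0 => hne (by linear_combination h0))
      rw [map_mul, hu.mul_right_eq_zero, hA] at h1
      exact ha h1
    refine ⟨ξ, algebraMap k S 2⁻¹ * (A + algebraMap k S ξ * σ A),
      algebraMap k S 2⁻¹ * (1 + algebraMap k S ξ * c), hξ2, ?_, ?_, ?_⟩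
    · by_contra hnu
      have := (hπm _).2 hnu
      simp [← hξ, ← sq, hξ2, one_add_one_eq_two, h2] at this
    · convert Ideal.mul_mem_left M (algebraMap k S 2⁻¹ * algebraMap k S ξ) hc using 1
      ring
    · have hξS : algebraMap k S ξ * algebraMap k S ξ = 1 := by rw [← map_mul, ← sq, hξ2, map_one]
      rw [map_mul, map_add, map_mul, hσ, hσk, hσk]
      linear_combination (-(algebraMap k S 2⁻¹ * σ A)) * hξS
  have hab : u₀ * v₀ = 0 := ArSingLib.node_mul
  have hu0 : u₀ ≠ 0 := fun h => ArSingLib.u_notMem h2 (by rw [← hu₀, h]; exact Ideal.zero_mem _)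
  have hv0 : v₀ ≠ 0 := fun h => ArSingLib.v_notMem h2 (by rw [← hv₀, h]; exact Ideal.zero_mem _)
  obtain ⟨U₀, hU₀⟩ := hπs u₀
  obtain ⟨V₀, hV₀⟩ := hπs v₀
  obtain ⟨ξ₂, U, wU, hξ2, hwU, hU, hσU⟩ :=
    eig u₀ v₀ hab ArSingLib.prime_u (ArSingLib.v_notMem h2) hu0 U₀ hU₀
  obtain ⟨ξ₁, V, wV, hξ1, hwV, hV, hσV⟩ :=
    eig v₀ u₀ (by rw [mul_comm]; exact hab) ArSingLib.prime_v (ArSingLib.u_notMem h2) hv0 V₀ hV₀
  have hπU : π U = u₀ * π wU := by
    rw [← hU₀, ← map_mul, ← sub_eq_zero, ← map_sub, hπ0]; exact hU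
  have hπV : π V = v₀ * π wV := by
    rw [← hV₀, ← map_mul, ← sub_eq_zero, ← map_sub, hπ0]; exact hV
  have hUV : U * V ∈ M := (hπ0 _).1 (by rw [map_mul, hπU, hπV, mul_mul_mul_comm, hab, zero_mul])
  have hgen : IsLocalRing.maximalIdeal S = Ideal.span {U, V} ⊔ M := by
    refine le_antisymm (fun s hs => ?_) (sup_le (Ideal.span_le.2 ?_) hMm)
    · have h := ArSingLib.mem_maximalIdeal_iff.2 ((hπm s).2 hs)
      rw [ArSingLib.node_max h2, Ideal.mem_span_pair] at h
      obtain ⟨p, q, hpq⟩ := h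
      obtain ⟨P, hP⟩ := hπs p
      obtain ⟨Q, hQ⟩ := hπs q
      obtain ⟨iU, hiU⟩ := hwU.exists_right_inv
      obtain ⟨iV, hiV⟩ := hwV.exists_right_inv
      have h1 : π wU * π iU = 1 := by rw [← map_mul, hiU, map_one]
      have h2' : π wV * π iV = 1 := by rw [← map_mul, hiV, map_one]
      refine Submodule.mem_sup.2 ⟨P * iU * U + Q * iV * V, Ideal.mem_span_pair.2 ⟨_, _, rfl⟩,
        s - (P * iU * U + Q * iV * V), (hπ0 _).1 ?_, add_sub_cancel _ _⟩
      rw [map_sub, map_add, map_mul, map_mul, map_mul, map_mul, hP, hQ, hπU, hπV]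
      linear_combination -hpq - p * u₀ * h1 - q * v₀ * h2'
    · rintro x (rfl | rfl) <;> rw [SetLike.mem_coe, ← hπm]
      · rw [hπU, hu₀]; simp
      · rw [hπV, hv₀]; simp
  obtain ⟨t, ψ, htm, htξ, hψs, hψ0, hψ1⟩ := ZH85.NodeInvol.exists_node_equivariant σ
    (algebraMap k R ξ₂) (algebraMap k R ξ₁) (algebraMap k R 2⁻¹)
    (by rw [← map_mul, ← sq, hξ2, map_one]) (by rw [← map_mul, ← sq, hξ1, map_one])
    (by rw [← map_ofNat (algebraMap k R) 2, ← map_mul, mul_inv_cancel₀ h2, map_one])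
    hres U V hUV hgen (by rw [hσU, ← IsScalarTower.algebraMap_apply])
    (by rw [hσV, ← IsScalarTower.algebraMap_apply]) hσ
  -- injectivity
  let Q := MvPowerSeries (Fin 2) R ⧸ NodeLib.nodeEq t
  let Q' := MvPowerSeries (Fin 2) k ⧸ Ideal.span {(MvPowerSeries.X 0 * MvPowerSeries.X 1 : MvPowerSeries (Fin 2) k)}
  let ρ : MvPowerSeries (Fin 2) R →+* Q' := (Ideal.Quotient.mk _).comp (MvPowerSeries.map r.toRingHom)
  have hmap : Function.Surjective (MvPowerSeries.map (σ := Fin 2) r.toRingHom) := fun h => by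
    choose c hc using fun d => hrs (MvPowerSeries.coeff d h)
    let p : MvPowerSeries (Fin 2) R := c
    exact ⟨p, MvPowerSeries.ext fun d => by rw [MvPowerSeries.coeff_map]; exact hc d⟩
  have hρs : Function.Surjective ρ := Ideal.Quotient.mk_surjective.comp hmap
  have hρk : RingHom.ker ρ ≤ (IsLocalRing.maximalIdeal R).map MvPowerSeries.C ⊔ NodeLib.nodeEq t := by
    intro p hp
    obtain ⟨g, hg⟩ := Ideal.mem_span_singleton'.mp (Ideal.Quotient.eq_zero_iff_mem.mp hp)
    obtain ⟨g', rfl⟩ := hmap g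
    have hrt : r.toRingHom t = 0 := RingHom.mem_ker.mp (hrker ▸ htm)
    have hd : MvPowerSeries.map r.toRingHom (p - g' * (MvPowerSeries.X 0 * MvPowerSeries.X 1 - MvPowerSeries.C t)) = 0 := by
      rw [map_sub, map_mul, map_sub, map_mul, MvPowerSeries.map_X, MvPowerSeries.map_X, MvPowerSeries.map_C,
        hrt, map_zero, sub_zero, hg, sub_self]
    rw [← sub_add_cancel p (g' * (MvPowerSeries.X 0 * MvPowerSeries.X 1 - MvPowerSeries.C t))]
    refine add_mem (Ideal.mem_sup_left (NodeLib.mem_map_C _ (IsNoetherian.noetherian _) _ fun d => ?_))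
      (Ideal.mem_sup_right (Ideal.mul_mem_left _ _ (Ideal.subset_span rfl)))
    rw [← hrker, RingHom.mem_ker, ← MvPowerSeries.coeff_map, hd, map_zero]
  let G : MvPowerSeries (Fin 2) R →+* ArSing.ring k 1 := π.toRingHom.comp (ψ.toRingHom.comp (Ideal.Quotient.mk _))
  have hGs : Function.Surjective G := hπs.comp (hψs.comp Ideal.Quotient.mk_surjective)
  have hGk : RingHom.ker ρ ≤ RingHom.ker G := hρk.trans (sup_le
    (Ideal.map_le_iff_le_comap.mpr fun a ha => by
      show π (ψ (Ideal.Quotient.mk _ (MvPowerSeries.C a))) = 0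
      rw [show Ideal.Quotient.mk (NodeLib.nodeEq t) (MvPowerSeries.C a) = algebraMap R Q a from rfl,
        AlgHom.commutes, hπ0]
      exact Ideal.mem_map_of_mem _ ha)
    (fun x hx => by
      show π (ψ (Ideal.Quotient.mk _ x)) = 0
      rw [Ideal.Quotient.eq_zero_iff_mem.mpr hx, map_zero, map_zero]))
  let ν : Q' →+* ArSing.ring k 1 := RingHom.liftOfSurjective ρ hρs ⟨G, hGk⟩
  have hν : ∀ p, ν (ρ p) = G p := RingHom.liftOfRightInverse_comp_apply _ _ _ _
  have hνs : Function.Surjective ν := fun z => by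
    obtain ⟨p, rfl⟩ := hGs z
    exact ⟨ρ p, hν p⟩
  obtain ⟨φ, hφ0, hφ1⟩ := ZH85.PlaneSing.exists_aut
    (MvPowerSeries.X 1 + MvPowerSeries.X 0 : MvPowerSeries (Fin 2) k)
    (MvPowerSeries.X 1 - MvPowerSeries.X 0) (by simp) (by simp) (by simpa [one_add_one_eq_two] using h2)
  obtain ⟨e'⟩ := ZH85.PlaneSing.nonempty_germ_equiv φ
    (F := MvPowerSeries.X 0 * MvPowerSeries.X 1) (G := ArSing.eqn k 1) (by
      rw [map_mul, hφ0, hφ1, ArSing.eqn]
      exact Associated.of_eq (by ring))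
  have hinjν : Function.Injective ν := Function.Injective.of_comp (f := e'.symm)
    (NodeLib.injective_of_surjective_endo ((e'.symm : ArSing.ring k 1 →+* Q').comp ν) (e'.symm.surjective.comp hνs))
  haveI : Nontrivial Q := ψ.toRingHom.domain_nontrivial
  haveI : IsLocalRing Q := IsLocalRing.of_surjective' (Ideal.Quotient.mk (NodeLib.nodeEq t)) Ideal.Quotient.mk_surjective
  have hJle : (IsLocalRing.maximalIdeal R).map (algebraMap R Q) ≤ Ideal.jacobson ⊥ := by
    refine le_trans (Ideal.map_le_iff_le_comap.mpr fun a ha => ?_) (IsLocalRing.maximalIdeal_le_jacobson _)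
    refine (IsLocalRing.mem_maximalIdeal _).mpr fun hu => ?_
    refine (IsLocalRing.mem_maximalIdeal _).mp (hMm (Ideal.mem_map_of_mem (algebraMap R S) ha)) ?_
    rw [← ψ.commutes a]
    exact hu.map ψ
  have hker : RingHom.ker ψ ≤ (IsLocalRing.maximalIdeal R).map (algebraMap R Q) := by
    intro x hx
    obtain ⟨p, rfl⟩ := Ideal.Quotient.mk_surjective x
    have hGp : G p = 0 := by
      show π (ψ (Ideal.Quotient.mk _ p)) = 0
      rw [show ψ (Ideal.Quotient.mk _ p) = 0 from hx, map_zero]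
    have hp : p ∈ RingHom.ker ρ := RingHom.mem_ker.mpr (hinjν (by rw [hν, hGp, map_zero]))
    have := Ideal.mem_map_of_mem (Ideal.Quotient.mk (NodeLib.nodeEq t)) (hρk hp)
    rw [Ideal.map_sup, Ideal.map_quotient_self, sup_bot_eq, Ideal.map_map] at this
    exact this
  have hinj : Function.Injective ψ := NodeLib.injective_of_flat_of_ker_le ψ hψs _ hJle hker
  let f := (AlgEquiv.ofBijective ψ ⟨hinj, hψs⟩).symm
  have hf : ∀ x : Q, f (ψ x) = x := fun x => (AlgEquiv.ofBijective ψ ⟨hinj, hψs⟩).symm_apply_apply x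
  refine ⟨t, ξ₁, ξ₂, hξ1, hξ2, fun h => ?_, f, ?_, ?_⟩
  · have h1 : algebraMap k R (1 - ξ₂ * ξ₁) = algebraMap k R 2 := by
      congr 1
      rw [h]
      linear_combination hξ2
    rw [← map_one (algebraMap k R), ← map_mul, ← map_sub, h1] at htξ
    exact ((isUnit_iff_ne_zero.2 h2).map (algebraMap k R)).mul_left_eq_zero.1 htξ
  · show f (σ (ψ _)) = _
    rw [hψ0, ← Algebra.smul_def, map_smul, hf]
  · show f (σ (ψ _)) = _
    rw [hψ1, ← Algebra.smul_def, map_smul, hf]

end Groth.Agent.S14084
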