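import Groth.Statements.S14087
import Mathlib.RingTheory.Flat.FaithfullyFlat.Algebra
import Mathlib.RingTheory.AdjoinRoot
import Mathlib.RingTheory.Ideal.GoingUp

set_option autoImplicit false
set_option linter.style.haveILetI false
universe u
open ArSing

namespace Groth.Agent.S14087

open Polynomial in
/-- Over an algebraically closed field k, if B = k[t]/(t^n) with n ≥ 1 is flat over a k-subalgebra A ⊆ B
(a finite flat extension of pointed finite algebras with curvilinear top), then A is curvilinear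
too: A is isomorphic as a k-algebra to k[t]/(t^m) for some m. -/
theorem result (k : Type u) [Field k] [IsAlgClosed k]
    (n : ℕ) (hn : 0 < n)
    (A : Subalgebra k (Polynomial k ⧸ Ideal.span {(X : Polynomial k) ^ n}))
    [Module.Flat A (Polynomial k ⧸ Ideal.span {(X : Polynomial k) ^ n})] :
    ∃ m : ℕ, Nonempty (A ≃ₐ[k] (Polynomial k ⧸ Ideal.span {(X : Polynomial k) ^ m})) := by
  classical
  let B := Polynomial k ⧸ Ideal.span {(X : Polynomial k) ^ n}
  let t : B := Ideal.Quotient.mk _ X
  have ht : t ^ n = 0 := by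
    rw [← map_pow, Ideal.Quotient.eq_zero_iff_mem]; exact Ideal.subset_span rfl
  haveI : Module.Finite k B :=
    ((Polynomial.monic_X_pow (R := k) n).finite_adjoinRoot : Module.Finite k (AdjoinRoot ((X : Polynomial k) ^ n)))
  haveI : Module.Finite A B := Module.Finite.of_restrictScalars_finite k A B
  haveI : Module.FaithfullyFlat A B := by
    refine Module.FaithfullyFlat.of_comap_surjective (A := A) (B := B) fun p => ?_
    obtain ⟨P, -, hP, hPp⟩ := Ideal.exists_ideal_over_prime_of_isIntegral p.asIdeal (⊥ : Ideal B)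
      (by rw [Ideal.comap_bot_of_injective _ Subtype.val_injective]; exact bot_le)
    exact ⟨⟨P, hP⟩, PrimeSpectrum.ext hPp⟩
  have hsurj : ∀ b : B, ∃ (c : k) (b' : B), b = algebraMap k B c + t * b' := by
    intro b
    obtain ⟨p, rfl⟩ := Ideal.Quotient.mk_surjective b
    refine ⟨p.coeff 0, Ideal.Quotient.mk _ p.divX, ?_⟩
    conv_lhs => rw [← Polynomial.X_mul_divX_add p]
    rw [map_add, map_mul, add_comm]
    rfl
  obtain ⟨a, ha1, ha⟩ : ∃ a : A, t ∣ (a : B) ∧ ∀ x : A, t ∣ (x : B) → a ∣ x := by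
    have key : ∀ (x : A) (e : ℕ), t ^ e ∣ (x : B) → ¬ t ^ (e + 1) ∣ (x : B) →
        ∀ y : A, t ^ e ∣ (y : B) → x ∣ y := by
      intro x e ⟨b, hb⟩ hx y ⟨c, hc⟩
      obtain ⟨c₀, b', rfl⟩ := hsurj b
      have hc₀ : c₀ ≠ 0 := fun h => hx ⟨b', by rw [hb, h, map_zero, zero_add, pow_succ, mul_assoc]⟩
      have hu : IsUnit (algebraMap k B c₀ + t * b') :=
        IsNilpotent.isUnit_add_left_of_commute (⟨n, by rw [mul_pow, ht, zero_mul]⟩ : IsNilpotent (t * b'))
          ((Ne.isUnit hc₀).map (algebraMap k B)) (Commute.all _ _)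
      obtain ⟨v, hv⟩ := hu
      have hmem : (algebraMap A B y) ∈ (Ideal.span {x}).map (algebraMap A B) := by
        rw [Ideal.map_span, Set.image_singleton, Ideal.mem_span_singleton]
        refine ⟨(↑v⁻¹ : B) * c, ?_⟩
        show (y : B) = (x : B) * (↑v⁻¹ * c)
        rw [hc, hb, ← hv, mul_assoc, Units.mul_inv_cancel_left]
      have h2 : y ∈ ((Ideal.span {x}).map (algebraMap A B)).comap (algebraMap A B) := hmem
      rw [Ideal.comap_map_eq_self_of_faithfullyFlat] at h2
      exact Ideal.mem_span_singleton.1 h2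
    by_cases h0 : ∀ x : A, t ∣ (x : B) → x = 0
    · exact ⟨0, by simp, fun x hx => by rw [h0 x hx]⟩
    push Not at h0
    obtain ⟨x₁, hx₁, hx₁0⟩ := h0
    have hex : ∃ e, ∃ x : A, t ∣ (x : B) ∧ ¬ t ^ (e + 1) ∣ (x : B) :=
      ⟨n, x₁, hx₁, fun h => hx₁0 (Subtype.ext (by
        simpa [pow_succ, ht] using h))⟩
    let e := Nat.find hex
    obtain ⟨x, hx, hxe⟩ := Nat.find_spec hex
    have hall : ∀ y : A, t ∣ (y : B) → t ^ e ∣ (y : B) := by
      intro y hy
      rcases Nat.eq_zero_or_pos e with he | he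
      · rw [he, pow_zero]; exact one_dvd _
      have := Nat.find_min hex (show e - 1 < e by omega)
      push Not at this
      have h2 := this y hy
      rwa [Nat.sub_add_cancel he] at h2
    exact ⟨x, hx, fun y hy => key x e (hall x hx) hxe y (hall y hy)⟩
  have hdec : ∀ (N : ℕ) (y : A), ∃ (p : Polynomial k) (z : A), y = aeval a p + a ^ N * z := by
    intro N
    induction N with
    | zero => intro y; exact ⟨0, y, by simp⟩
    | succ N ih =>
      intro y
      obtain ⟨p, z, rfl⟩ := ih y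
      obtain ⟨c, b', hb'⟩ := hsurj (z : B)
      have hz : t ∣ ((z - algebraMap k A c : A) : B) := ⟨b', by
        show (z : B) - algebraMap k B c = t * b'
        rw [hb']; ring⟩
      obtain ⟨z', hz'⟩ := ha _ hz
      refine ⟨p + C c * X ^ N, z', ?_⟩
      rw [sub_eq_iff_eq_add] at hz'
      rw [hz', map_add, map_mul, aeval_C, map_pow, aeval_X, pow_succ]
      ring
  have han : a ^ n = 0 := Subtype.ext (by
    obtain ⟨b, hb⟩ := ha1
    show (a : B) ^ n = 0
    rw [hb, mul_pow, ht, zero_mul])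
  have hsurjA : Function.Surjective (aeval a : Polynomial k →ₐ[k] A) := fun y => by
    obtain ⟨p, z, hp⟩ := hdec n y
    exact ⟨p, by rw [hp, han, zero_mul, add_zero]⟩
  have hmem : (X : Polynomial k) ^ n ∈ RingHom.ker (aeval a : Polynomial k →ₐ[k] A) := by
    rw [RingHom.mem_ker, map_pow, aeval_X, han]
  obtain ⟨g, hg⟩ := IsPrincipalIdealRing.principal (RingHom.ker (aeval a : Polynomial k →ₐ[k] A))
  rw [hg, Ideal.submodule_span_eq, Ideal.mem_span_singleton] at hmem
  obtain ⟨m, -, hm⟩ := (dvd_prime_pow Polynomial.prime_X n).1 hmem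
  refine ⟨m, ⟨((Ideal.quotientEquivAlgOfEq k ?_).trans (Ideal.quotientKerAlgEquivOfSurjective hsurjA)).symm⟩⟩
  show _ = RingHom.ker (aeval a : Polynomial k →ₐ[k] A)
  rw [hg, Ideal.submodule_span_eq]
  exact (Ideal.span_singleton_eq_span_singleton.2 hm).symm

end Groth.Agent.S14087
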