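import Groth.Statements.S14089
import Groth.Agent.S2896
import Groth.Agent.CIntLib.BlowRegular
import Groth.Agent.CIntLib.BlowNormFlat

set_option autoImplicit false
universe u
open CategoryTheory AlgebraicGeometry
open BlowUp

namespace Groth.Agent.S14089

/-- Let f : X → S be flat, proper and of finite presentation, 𝓘 a quasi-coherent ideal of finite type on
X with V(𝓘^m) flat over S for all m ≥ 1, and b : X' → X a blowing up of X in 𝓘. Then X' is flat and
proper over S, and blowing up commutes with every base change T → S: if X_T = X ×_S T and X'_T = X'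
×_X X_T, the projection X'_T → X_T is a blowing up of X_T in the inverse image of 𝓘. (The published
statement puts no finiteness condition on the ideal; for S = X the spectrum of an infinite product
of fields and 𝓘 the ideal of finitely supported sequences every V(𝓘^m) is flat, yet the blow-up is a
non-quasi-compact open subscheme, not proper — so the ideal is taken of finite type here, and finite
presentation of X' over S is not asserted.) -/
theorem result {X X' S T XT XT' : Scheme.{u}}
    (f : X ⟶ S) [Flat f] [IsProper f] [LocallyOfFinitePresentation f]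
    (𝓘 : X.IdealSheafData) (hft : BlowUp.IsFiniteTypeIdeal 𝓘)
    (hfl : ∀ m : ℕ, 1 ≤ m → Flat ((𝓘 ^ m).subschemeι ≫ f))
    (b : X' ⟶ X) (hb : BlowUp.IsBlowUp b 𝓘)
    (g : T ⟶ S) (pX : XT ⟶ X) (fT : XT ⟶ T) (hX : IsPullback pX fT f g)
    (pX' : XT' ⟶ X') (bT : XT' ⟶ XT) (hX' : IsPullback pX' bT b pX) :
    Flat (b ≫ f) ∧ IsProper (b ≫ f) ∧ BlowUp.IsBlowUp bT (𝓘.comap pX) := by
  have hfl' : ∀ n : ℕ, Flat ((𝓘 ^ (n + 1)).subschemeι ≫ f) := fun n => hfl (n + 1) (Nat.succ_pos n)
  obtain ⟨hE, hbc⟩ := Groth.Agent.S2896.result f 𝓘 hfl' b hb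
  have hproper := Groth.Agent.BlowUpLib.isProper_of_isBlowUp 𝓘 hb hft
  refine ⟨Groth.Agent.FlatX.flat_of_flat_away (b ≫ f) hb.1 hE fun x hx => ?_, inferInstance, ?_⟩
  · have hbx : b x ∉ 𝓘.support := by
      intro h
      apply hx
      rw [Scheme.IdealSheafData.support_comap]
      exact h
    haveI := Groth.Agent.CIntLib.isIso_stalkMap_of_notMem hb hbx
    rw [Scheme.Hom.stalkMap_comp]
    exact RingHom.Flat.comp (Flat.stalkMap f (b x)) (RingHom.Flat.of_bijective
      (ConcreteCategory.bijective_of_isIso (b.stalkMap x)))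
  · let e := hX.isoPullback
    have hP : IsPullback pX' (bT ≫ fT) (b ≫ f) g := hX'.paste_vert hX
    let e' := hP.isoPullback
    have h1 := hbc T g
    have hbT : bT = e'.hom ≫ CInt.baseChangeOver b f g ≫ e.inv := by
      rw [← Category.assoc, Iso.eq_comp_inv]
      refine Limits.pullback.hom_ext ?_ ?_
      · rw [Category.assoc, Category.assoc, hX.isoPullback_hom_fst,
          CInt.baseChangeOver, Limits.pullback.lift_fst, reassoc_of% hP.isoPullback_hom_fst, hX'.w]
      · rw [Category.assoc, Category.assoc, hX.isoPullback_hom_snd,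
          CInt.baseChangeOver, Limits.pullback.lift_snd, Category.comp_id, hP.isoPullback_hom_snd]
    rw [hbT, ← Category.assoc]
    refine Groth.Agent.BlowUpLib.isBlowUp_comp_iso e.inv (Groth.Agent.BlowUpLib.isBlowUp_iso_comp e'.hom ?_)
    rw [← Scheme.IdealSheafData.comap_comp, hX.isoPullback_inv_fst]
    exact h1

end Groth.Agent.S14089
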