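import Groth.Statements.S14106
import Groth.Agent.CIntLib.FibDepth
import Groth.Agent.DimFormula.Fibre
import Groth.Agent.DimFormula.ClosedSub
import Groth.Agent.Synt29.SmoothDim

set_option autoImplicit false
universe u
open CategoryTheory CategoryTheory.Limits AlgebraicGeometry Opposite TopologicalSpace
open CInt

namespace Groth.Agent.S14106

/-- Let S be a locally Noetherian scheme, f : X → S a smooth morphism and i : Y → X a closed immersion
whose composite with f is smooth. Then the codimension of the image of i relative to f (the infimum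
over its points y of the Krull dimension of the local ring at y of the fibre of f through y) equals
its codimension in X (the infimum over the same points of the Krull dimension of O_{X,y}). -/
theorem result {X Y S : Scheme.{u}} [IsLocallyNoetherian X]
    [IsLocallyNoetherian S] (f : X ⟶ S) [Smooth f] (i : Y ⟶ X) [IsClosedImmersion i] [Smooth (i ≫ f)] :
    (⨅ y : Set.range i.base, ringKrullDim ↑(CInt.fiberStalk f y.1)) =
      ⨅ y : Set.range i.base, ringKrullDim ↑(X.presheaf.stalk y.1) := by
  haveI : IsLocallyNoetherian Y := LocallyOfFiniteType.isLocallyNoetherian i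
  refine le_antisymm (iInf_mono fun y => ?_) (le_iInf ?_)
  · rw [Groth.Agent.CIntLib.dim_fiberStalk f y.1 (f y.1) rfl]
    exact ringKrullDim_quotient_le _
  rintro ⟨_, y, rfl⟩
  let C := irreducibleComponent y
  have hC : IsIrreducible C := isIrreducible_irreducibleComponent
  let η := hC.genericPoint
  have hgen : closure {η} = C := hC.isGenericPoint_genericPoint isClosed_irreducibleComponent
  have hηy : η ⤳ y := specializes_iff_mem_closure.2 (hgen ▸ mem_irreducibleComponent)
  have hmax : ∀ w : Y, w ⤳ η → w = η := fun w hw => by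
    have hle : C ⊆ closure {w} := hgen ▸ closure_minimal
      (Set.singleton_subset_iff.2 (specializes_iff_mem_closure.1 hw)) isClosed_closure
    have hmem := (irreducibleComponent_mem_irreducibleComponents y).2
      (isIrreducible_singleton.closure : IsIrreducible (closure {w})) hle (subset_closure rfl)
    exact (hw.antisymm (specializes_iff_mem_closure.2 (hgen ▸ hmem))).eq
  -- the image of a maximal point is maximal
  have hs : ringKrullDim ↑(S.presheaf.stalk (f (i η))) = 0 := by
    have hm : IsMax (f (i η) : S) := fun s hs => by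
      have hs' : s ⤳ (i ≫ f) η := hs
      obtain ⟨w, hw, rfl⟩ := Flat.generalizingMap (i ≫ f) hs'
      rw [hmax w hw]
      exact specializes_rfl
    rw [ringKrullDim_stalk_eq_coheight, Order.coheight_eq_zero.2 hm]
    rfl
  -- relative dimensions are constant along generizations
  obtain ⟨-, -, V, -, -, n, hyV, -, _, -⟩ := Groth.Agent.Synt29.SmoothDim.exists_chart f (i y)
  have hd : FlatMor.fibreDimAt f (i η) = FlatMor.fibreDimAt f (i y) :=
    (Groth.Agent.Synt29.SmoothDim.fibreDimAt_eq_of_nhd f V n
      ((hηy.map i.continuous).mem_open V.2 hyV)).trans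
      (Groth.Agent.Synt29.SmoothDim.fibreDimAt_eq_of_nhd f V n hyV).symm
  obtain ⟨-, -, W, -, -, m, hyW, -, _, -⟩ := Groth.Agent.Synt29.SmoothDim.exists_chart (i ≫ f) y
  have hd' : FlatMor.fibreDimAt (i ≫ f) η = FlatMor.fibreDimAt (i ≫ f) y :=
    (Groth.Agent.Synt29.SmoothDim.fibreDimAt_eq_of_nhd (i ≫ f) W m (hηy.mem_open W.2 hyW)).trans
      (Groth.Agent.Synt29.SmoothDim.fibreDimAt_eq_of_nhd (i ≫ f) W m hyW).symm
  rw [Groth.Agent.DimFormula.fibreDimAt_eq_add, Groth.Agent.DimFormula.fibreDimAt_eq_add] at hd hd'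
  have hd : Groth.Agent.FibDim.rd f (i η) + Groth.Agent.DimFormula.fb f (i η) =
      Groth.Agent.FibDim.rd f (i y) + Groth.Agent.DimFormula.fb f (i y) := by exact_mod_cast hd
  have hd' : Groth.Agent.FibDim.rd (i ≫ f) η + Groth.Agent.DimFormula.fb (i ≫ f) η =
      Groth.Agent.FibDim.rd (i ≫ f) y + Groth.Agent.DimFormula.fb (i ≫ f) y := by exact_mod_cast hd'
  rw [(Groth.Agent.DimFormula.fb_eq_zero_iff (i ≫ f) η).2 (Groth.Agent.FibDim.fibMax_of_maximal _ hmax),
    Groth.Agent.DimFormula.rd_closedSub f i, Groth.Agent.DimFormula.rd_closedSub f i] at hd'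
  have hfb : Groth.Agent.DimFormula.fb f (i η) ≤ Groth.Agent.DimFormula.fb f (i y) := by omega
  refine iInf_le_of_le ⟨i η, η, rfl⟩ ?_
  calc ringKrullDim ↑(X.presheaf.stalk (i η))
      ≤ ringKrullDim ↑(S.presheaf.stalk (f (i η))) + ringKrullDim ↑(CInt.fiberStalk f (i η)) := by
        rw [Groth.Agent.CIntLib.dim_fiberStalk f (i η) (f (i η)) rfl,
          ← ringKrullDim_eq_of_ringEquiv (RingEquiv.quotientBot ↑(X.presheaf.stalk (i η))),
          ← ringKrullDim_eq_of_ringEquiv (RingEquiv.quotientBot ↑(S.presheaf.stalk (f (i η))))]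
        exact Groth.Agent.CIntLib.dim_quot_le_add _ ⊥ ⊥ bot_le bot_le
    _ ≤ ringKrullDim ↑(CInt.fiberStalk f (i y)) := by
        rw [hs, zero_add]
        show ringKrullDim ((f.fiber (f (i η))).presheaf.stalk (f.asFiber (i η))) ≤
          ringKrullDim ((f.fiber (f (i y))).presheaf.stalk (f.asFiber (i y)))
        rw [Groth.Agent.DimFormula.ringKrullDim_stalk_fibre, Groth.Agent.DimFormula.ringKrullDim_stalk_fibre]
        exact_mod_cast hfb

end Groth.Agent.S14106
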