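import Groth.Statements.S1411
import Groth.Agent.FlatFibres.LocalCurve

set_option autoImplicit false
universe u
open FlatMor

namespace Groth.Agent.S1411

open AlgebraicGeometry CategoryTheory Limits in
/-- Let f : X → S be locally of finite type with S locally Noetherian, x a point closed in its fibre,
and U an open of X containing a point x' specializing to x with f x' ≠ f x. Then there is a closed
subscheme Z of X passing through x such that Z → S is quasi-finite at x and Z contains a point z ∈ U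
with z ⤳ x and f z ≠ f x. -/
theorem result {X S : Scheme.{u}} (f : X ⟶ S) [LocallyOfFiniteType f] [IsLocallyNoetherian S] (x : X)
    (hcl : IsClosed (Subtype.val ⁻¹' {x} : Set ↑(f ⁻¹' {f x}))) (U : X.Opens) (hx' : ∃ x' : X, x' ∈ U ∧ x' ⤳ x ∧ f x' ≠ f x) :
    ∃ (I : X.IdealSheafData) (z₀ x₀ : ↑I.subscheme), I.subschemeι x₀ = x ∧ (I.subschemeι ≫ f).QuasiFiniteAt x₀ ∧
      I.subschemeι z₀ ∈ U ∧ I.subschemeι z₀ ⤳ x ∧ f (I.subschemeι z₀) ≠ f x := by
  obtain ⟨x', hx'U, hsp, hne⟩ := hx'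
  obtain ⟨V, hV, hxV, -⟩ := exists_isAffineOpen_mem_and_subset (X := S) (x := f x) (U := ⊤) trivial
  obtain ⟨U₀, hU₀, hxU₀, hUV⟩ := exists_isAffineOpen_mem_and_subset (X := X) (x := x) (U := f ⁻¹ᵁ V) hxV
  have hx'U₀ : x' ∈ U₀ := hsp.mem_open U₀.2 hxU₀
  letI : Algebra Γ(S, V) Γ(X, U₀) := (f.appLE V U₀ hUV).hom.toAlgebra
  haveI : Algebra.FiniteType Γ(S, V) Γ(X, U₀) := f.finiteType_appLE hV hU₀ hUV
  haveI : IsNoetherianRing Γ(S, V) := IsLocallyNoetherian.component_noetherian ⟨V, hV⟩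
  haveI : IsNoetherianRing Γ(X, U₀) := Algebra.FiniteType.isNoetherianRing Γ(S, V) _
  obtain ⟨g, hgU, hx'g⟩ := hU₀.exists_basicOpen_le (V := U) ⟨x', hx'U⟩ hx'U₀
  let M := hU₀.primeIdealOf ⟨x, hxU₀⟩
  let P := hU₀.primeIdealOf ⟨x', hx'U₀⟩
  have hM : hU₀.fromSpec M = x := hU₀.fromSpec_primeIdealOf ⟨x, hxU₀⟩
  have hP : hU₀.fromSpec P = x' := hU₀.fromSpec_primeIdealOf ⟨x', hx'U₀⟩
  have hle : ∀ Q Q' : PrimeSpectrum Γ(X, U₀), hU₀.fromSpec Q ⤳ hU₀.fromSpec Q' ↔ Q.asIdeal ≤ Q'.asIdeal := fun Q Q' =>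
    (hU₀.fromSpec.isOpenEmbedding.isEmbedding.isInducing.specializes_iff).trans (PrimeSpectrum.le_iff_specializes Q Q').symm
  have hf : ∀ Q : PrimeSpectrum Γ(X, U₀), f (hU₀.fromSpec Q) =
      hV.fromSpec (PrimeSpectrum.comap (algebraMap Γ(S, V) Γ(X, U₀)) Q) := fun Q =>
    (Scheme.Hom.comp_apply _ _ _).symm.trans ((congrArg (fun φ => φ Q) (hV.SpecMap_appLE_fromSpec f hU₀ hUV).symm).trans
      (Scheme.Hom.comp_apply _ _ _))
  have hfeq : ∀ Q Q' : PrimeSpectrum Γ(X, U₀), Q.asIdeal.comap (algebraMap Γ(S, V) Γ(X, U₀)) =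
      Q'.asIdeal.comap (algebraMap Γ(S, V) Γ(X, U₀)) ↔ f (hU₀.fromSpec Q) = f (hU₀.fromSpec Q') := fun Q Q' => by
    rw [hf, hf]
    exact ⟨fun h => congrArg hV.fromSpec (PrimeSpectrum.ext h),
      fun h => congrArg PrimeSpectrum.asIdeal (hV.fromSpec.isOpenEmbedding.injective h)⟩
  have hPM : P.asIdeal ≤ M.asIdeal := (hle P M).1 (by rw [hP, hM]; exact hsp)
  obtain ⟨a, haM, haP⟩ := SetLike.exists_of_lt (lt_of_le_of_ne
    (Ideal.comap_mono (f := algebraMap Γ(S, V) Γ(X, U₀)) hPM)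
    (fun h => hne (by have := (hfeq P M).1 h; rwa [hP, hM] at this)))
  have hgP : g * algebraMap Γ(S, V) Γ(X, U₀) a ∉ P.asIdeal := by
    refine fun h => (P.isPrime.mem_or_mem h).elim ?_ haP
    have : P ∈ hU₀.fromSpec ⁻¹ᵁ X.basicOpen g := by show hU₀.fromSpec P ∈ X.basicOpen g; rw [hP]; exact hx'g
    rw [hU₀.fromSpec_preimage_basicOpen] at this
    exact this
  obtain ⟨q, hqp, hPq, hqM, hgq, hbet⟩ := Groth.Agent.FlatFibres.exists_curve_prime P.asIdeal M.asIdeal hPM hgP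
    (M.asIdeal.mul_mem_left _ haM)
  have haq : algebraMap Γ(S, V) Γ(X, U₀) a ∉ q := fun h => hgq (q.mul_mem_left _ h)
  let q1 : PrimeSpectrum Γ(X, U₀) := ⟨q, hqp⟩
  have hclosed : ∀ Q : Ideal Γ(X, U₀), Q.IsPrime → M.asIdeal ≤ Q →
      Q.comap (algebraMap Γ(S, V) Γ(X, U₀)) = M.asIdeal.comap (algebraMap Γ(S, V) Γ(X, U₀)) → Q = M.asIdeal := by
    intro Q hQ hMQ hQM
    have h1 : hU₀.fromSpec M ⤳ hU₀.fromSpec ⟨Q, hQ⟩ := (hle M ⟨Q, hQ⟩).2 hMQ
    have h2 := (hfeq ⟨Q, hQ⟩ M).1 hQM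
    rw [hM] at h1 h2
    let w : ↥(f ⁻¹' {f x}) := ⟨_, h2⟩
    let w0 : ↥(f ⁻¹' {f x}) := ⟨x, rfl⟩
    have h3 := ((subtype_specializes_iff w0 w).2 h1).mem_closed hcl rfl
    exact congrArg PrimeSpectrum.asIdeal (hU₀.fromSpec.isOpenEmbedding.injective (h3.trans hM.symm))
  obtain ⟨e, heM, he⟩ := Groth.Agent.FlatFibres.exists_isolating (A := Γ(S, V)) q M.asIdeal hqM hbet
    (fun h => haq (h.ge haM)) hclosed
  let z := hU₀.fromSpec q1
  have hzx : z ⤳ x := by rw [← hM]; exact (hle q1 M).2 hqM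
  have hzU : z ∈ U := by
    refine hgU ?_
    show q1 ∈ hU₀.fromSpec ⁻¹ᵁ X.basicOpen g
    rw [hU₀.fromSpec_preimage_basicOpen]
    exact fun h => hgq (q.mul_mem_right _ h)
  have hzne : f z ≠ f x := fun h => haq (((hfeq q1 M).2 (by rw [hM]; exact h)).ge haM)
  let I := Scheme.IdealSheafData.vanishingIdeal (⟨closure {z}, isClosed_closure⟩ : TopologicalSpace.Closeds X)
  have hr : Set.range I.subschemeι = closure {z} := by
    rw [Scheme.IdealSheafData.range_subschemeι, Scheme.IdealSheafData.coe_support_vanishingIdeal]; rfl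
  obtain ⟨z₀, hz₀⟩ : z ∈ Set.range I.subschemeι := hr ▸ subset_closure rfl
  obtain ⟨x₀, hx₀⟩ : x ∈ Set.range I.subschemeι := hr ▸ specializes_iff_mem_closure.1 hzx
  refine ⟨I, z₀, x₀, hx₀, ?_, by rw [hz₀]; exact hzU, by rw [hz₀]; exact hzx, by rw [hz₀]; exact hzne⟩
  rw [Scheme.Hom.quasiFiniteAt_iff_isOpen_singleton_asFiber, ← ((I.subschemeι ≫ f).fiberHomeo _).isOpen_image,
    Set.image_singleton]
  simp only [Scheme.Hom.asFiber, Homeomorph.apply_symm_apply]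
  rw [isOpen_induced_iff]
  refine ⟨I.subschemeι ⁻¹' (X.basicOpen e : Set X), (X.basicOpen e).2.preimage I.subschemeι.continuous, ?_⟩
  ext ⟨w, hw⟩
  simp only [Set.mem_preimage, SetLike.mem_coe, Set.mem_singleton_iff]
  refine ⟨fun hwe => Subtype.ext ?_, fun h => ?_⟩
  · refine I.subschemeι.isEmbedding.injective ?_
    obtain ⟨Q, hQ⟩ : I.subschemeι w ∈ Set.range hU₀.fromSpec := by
      rw [hU₀.range_fromSpec]; exact X.basicOpen_le e hwe
    rw [hx₀, ← hQ, ← hM]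
    refine congrArg _ (PrimeSpectrum.ext (he Q.asIdeal Q.isPrime ?_ ?_ ?_))
    · refine (hle q1 Q).1 ?_
      rw [hQ]
      exact specializes_iff_mem_closure.2 (hr ▸ Set.mem_range_self w)
    · refine (hfeq Q M).2 ?_
      rw [hQ, hM, ← hx₀]
      exact hw
    · have : Q ∈ hU₀.fromSpec ⁻¹ᵁ X.basicOpen e := by show hU₀.fromSpec Q ∈ X.basicOpen e; rw [hQ]; exact hwe
      rw [hU₀.fromSpec_preimage_basicOpen] at this
      exact this
  · have hw0 : w = x₀ := congrArg Subtype.val h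
    rw [hw0, hx₀, ← hM]
    show M ∈ hU₀.fromSpec ⁻¹ᵁ X.basicOpen e
    rw [hU₀.fromSpec_preimage_basicOpen]
    exact heM

end Groth.Agent.S1411
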