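import Groth.Statements.S14124
import Groth.Agent.AVIdx.IndexField
import Groth.Agent.Lib.AVDual
import Groth.Agent.AVSupp.Fixing

set_option linter.style.haveILetI false
set_option backward.isDefEq.respectTransparency false
set_option backward.isDefEq.respectTransparency.types false

set_option autoImplicit false
universe u
open CategoryTheory CategoryTheory.Limits MonoidalCategory CartesianMonoidalCategory MonObj GrpObj AlgebraicGeometry
open AbVar

namespace Groth.Agent.S14124

open Groth.Agent
open scoped Groth.Agent.H23.PicMul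

/-- Let k be an algebraically closed field, A an abelian variety over k (a proper smooth k-group scheme
with geometrically connected fibres) and L an ample invertible O_A-module. Then the cohomology
groups H^j(A, L) vanish for all j > 0, and H^0(A, L) is non-zero. -/
theorem result (k : Type u) [Field k] [IsAlgClosed k]
    (A : Over (Spec (CommRingCat.of k))) [GrpObj A] [IsProper A.hom] [Smooth A.hom] [GeometricallyConnected A.hom]
    (L : A.left.Modules) (hLa : CohB1.IsAmple L) :
    (∀ j : ℕ, 0 < j → Subsingleton (Coh.HH A.left L j)) ∧ Nontrivial (Coh.HH A.left L 0) := by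
  haveI : GeometricallyIntegral A.hom := AVDual.geometricallyIntegral_of_smooth A
  haveI : IsIntegral A.left := GeometricallyIntegral.isIntegral_of_subsingleton A.hom
  obtain ⟨g, hg⟩ := AVIdx.exists_dim A
  obtain ⟨x⟩ : Nonempty A.left := inferInstance
  obtain ⟨n, s, hxs, -⟩ := hLa.2.2 x
  have hL' := AmpleX.isAmple_tensorPow hLa n.succ_pos
  have hfin : Set.Finite {a : 𝟙_ (Over (Spec (CommRingCat.of k))) ⟶ A |
      AVPair.pl (AVAmple.tr a) (PicF.cl L) = PicF.cl L} :=
    (AVSupp.finite_fixing_of_isAmple hL' (s := InvX.one s) (AVProj.ne_zero_of_mem_locus (x := x) (by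
      show x ∈ CohB1.genLocus _ (InvX.ofSect (InvX.one s))
      rwa [AVAmple.ofSect_one]))).subset fun a ha => by
        show AVPair.pl _ (PicF.cl (CohB1.tensorPow L (n + 1))) = _
        rw [H23.PicMul.cl_tensorPow, map_pow, show AVPair.pl _ (PicF.cl L) = _ from ha]
  obtain ⟨d, ⟨M, rfl, hM⟩, hLM⟩ := AVPair.exists_inv ⟨L, rfl, hLa.1⟩
  obtain ⟨i, -, hvan, hne, -, -⟩ := AVIdx.exists_index_pair (A := A) hg hLa.1 hM hLM hfin
  have hΦ : ∀ m : ℕ, (Polynomial.C ((@Curv2.euler k _ A.left ⟨A.hom⟩ L : ℤ) : ℚ) *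
      (Polynomial.X - Polynomial.C (-1)) ^ g).eval (m : ℚ) =
      (@Curv2.euler k _ A.left ⟨A.hom⟩ (CohB1.tensorMod L (CohB1.tensorPow L m)) : ℚ) := fun m => by
    rw [← AVIdx.chiCl_cl k A.left (CohB1.tensorMod L _), H23.PicMul.cl_tensor, H23.PicMul.cl_tensorPow, ← pow_succ',
      ← _root_.mul_one (PicF.cl L ^ (m + 1)), AVIdx.chiCl_pow_mul (q := 1) hg ⟨_, rfl, hLa.1⟩
      ⟨_, rfl, PicLoc.isInvertible_structureModule A.left⟩ AVIdx.isAdd_one, AVIdx.chiCl_cl]
    simp [mul_comm]
  have e := (AVIdx.index_card hLa.1 hLa 0 (M := L) (by rw [pow_zero, _root_.mul_one]) hvan hne _ hΦ).2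
  obtain rfl : i = 0 := by
    rw [e, Multiset.card_eq_zero, Multiset.filter_eq_nil]
    intro r hr h
    have h1 := (Polynomial.mem_roots'.1 hr).2
    have h2 := AVIdx.euler_ne_zero hLa.1 hvan hne
    simp [Polynomial.IsRoot, h2] at h1
    simp at h
    linarith [h1.1]
  exact ⟨fun j hj => hvan j hj.ne', not_subsingleton_iff_nontrivial.1 hne⟩

end Groth.Agent.S14124
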