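import Groth.Statements.S14128
import Groth.Agent.CAlgGlobalDim.RegSeq
import Mathlib.Algebra.Homology.Linear
import Mathlib.Algebra.Homology.ShortComplex.ModuleCat
import Mathlib.Algebra.Homology.ShortComplex.Linear
import Mathlib.Algebra.Homology.HomologicalComplexAbelian
import Mathlib.Algebra.Homology.HomologySequence
import Mathlib.Algebra.Category.ModuleCat.Kernels

set_option autoImplicit false
universe u
open CategoryTheory CategoryTheory.Limits
open LocAlg

namespace Groth.Agent.S14128

open RingTheory.Sequence IsLocalRing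

variable {R : Type u} [CommRing R]

theorem fl_of_exact {A B C : Type u} [AddCommGroup A] [Module R A] [AddCommGroup B] [Module R B]
    [AddCommGroup C] [Module R C] (f : A →ₗ[R] B) (g : B →ₗ[R] C) (h : Function.Exact f g)
    (hA : IsFiniteLength R A) (hC : IsFiniteLength R C) : IsFiniteLength R B := by
  rw [← Module.length_ne_top_iff] at hA hC ⊢
  rw [Module.length_eq_add_of_exact (LinearMap.range f).subtype (LinearMap.range f).mkQ
    (Submodule.subtype_injective _) (Submodule.mkQ_surjective _) (LinearMap.exact_subtype_mkQ _)]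
  refine WithTop.add_ne_top.2 ⟨ne_top_of_le_ne_top hA
    (Module.length_le_of_surjective f.rangeRestrict f.surjective_rangeRestrict), ne_top_of_le_ne_top hC ?_⟩
  refine Module.length_le_of_injective ((LinearMap.range f).liftQ g (fun y hy => (h y).2 hy)) ?_
  rw [← LinearMap.ker_eq_bot]
  exact Submodule.ker_liftQ_eq_bot _ _ _ (fun y hy => (h y).1 hy)

theorem isRegularScalar_eq_zero [IsLocalRing R] {H : Type u} [AddCommGroup H] [Module R H] (x : R)
    (hx : x ∈ maximalIdeal R) (hH : IsFiniteLength R H) (hinj : Function.Injective fun h : H => x • h) :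
    Subsingleton H := by
  haveI := (isFiniteLength_iff_isNoetherian_isArtinian.1 hH).1
  haveI := (isFiniteLength_iff_isNoetherian_isArtinian.1 hH).2
  have hb := IsArtinian.bijective_of_injective_endomorphism (LinearMap.lsmul R H x) hinj
  have htop : (⊤ : Submodule R H) ≤ maximalIdeal R • ⊤ := fun h _ => by
    obtain ⟨k, rfl⟩ := hb.2 h
    exact Submodule.smul_mem_smul hx Submodule.mem_top
  have hbot := Submodule.eq_bot_of_le_smul_of_le_jacobson_bot (maximalIdeal R) (⊤ : Submodule R H)
    Module.Finite.fg_top htop (IsLocalRing.maximalIdeal_le_jacobson _)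
  exact ⟨fun a b => ((Submodule.mem_bot R).1 (hbot ▸ Submodule.mem_top : a ∈ (⊥ : Submodule R H))).trans
    ((Submodule.mem_bot R).1 (hbot ▸ Submodule.mem_top : b ∈ (⊥ : Submodule R H))).symm⟩

theorem homology_eq_zero [IsLocalRing R] : ∀ (rs : List R), (∀ r ∈ rs, r ∈ maximalIdeal R) →
    ∀ C : CochainComplex (ModuleCat.{u} R) ℕ, (∀ i, IsWeaklyRegular (C.X i) rs) →
      (∀ i, i < rs.length → IsFiniteLength R (C.homology i)) → ∀ i, i < rs.length → IsZero (C.homology i) := by
  intro rs
  induction rs with
  | nil => intro _ C _ _ i hi; simp at hi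
  | cons x rs ih =>
    intro hmem C hreg hfl
    have hsm : ∀ i, IsSMulRegular (C.X i) x := fun i => ((isWeaklyRegular_cons_iff _ x rs).1 (hreg i)).1
    let f : C ⟶ C := x • 𝟙 C
    have hf : ∀ i, (f.f i).hom = LinearMap.lsmul R (C.X i) x := fun i => rfl
    haveI : ∀ i, Mono (f.f i) := fun i =>
      (ModuleCat.mono_iff_injective _).2 fun a b h => hsm i (by simpa [hf] using h)
    haveI : Mono f := HomologicalComplex.mono_of_mono_f f inferInstance
    let S : ShortComplex (CochainComplex (ModuleCat.{u} R) ℕ) := ShortComplex.mk f (cokernel.π f) (cokernel.condition f)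
    have hS : S.ShortExact :=
      { exact := ShortComplex.exact_of_g_is_cokernel _ (cokernelIsCokernel f) }
    have hX : ∀ i, IsWeaklyRegular (S.X₃.X i) rs := by
      intro i
      have e := ((PreservesCokernel.iso (HomologicalComplex.eval (ModuleCat.{u} R) (ComplexShape.up ℕ) i) f).trans
        (ModuleCat.cokernelIsoRangeQuotient (f.f i))).toLinearEquiv
      refine (LinearEquiv.isWeaklyRegular_congr (e.trans (Submodule.quotEquivOfEq _ _ ?_)) rs).2
        ((isWeaklyRegular_cons_iff _ x rs).1 (hreg i)).2
      rw [hf]
      exact LinearMap.range_eq_map _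
    have hmid : ∀ (i : ℕ) (z : C.homology i), (HomologicalComplex.homologyMap f i).hom z = x • z := by
      intro i z
      have h : HomologicalComplex.homologyMap f i = x • HomologicalComplex.homologyMap (𝟙 C) i :=
        ShortComplex.homologyMap_smul ((HomologicalComplex.shortComplexFunctor (ModuleCat.{u} R) (ComplexShape.up ℕ) i).map (𝟙 C)) x
      rw [h, HomologicalComplex.homologyMap_id]
      rfl
    have hfl3 : ∀ i, i < rs.length → IsFiniteLength R (S.X₃.homology i) := fun i hi =>
      fl_of_exact _ _ (LinearMap.exact_iff.2 (ShortComplex.moduleCat_exact_iff_range_eq_ker _ |>.1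
        (hS.homology_exact₃ i (i + 1) rfl)).symm) (hfl i (Nat.lt_succ_of_lt hi)) (hfl (i + 1) (Nat.succ_lt_succ hi))
    have ih' := ih (fun r hr => hmem r (List.mem_cons_of_mem x hr)) S.X₃ hX hfl3
    intro i hi
    refine ModuleCat.isZero_iff_subsingleton.2 (isRegularScalar_eq_zero x (hmem x List.mem_cons_self) (hfl i hi) ?_)
    have hmono : Mono (HomologicalComplex.homologyMap f i) := by
      cases i with
      | zero =>
        haveI : IsIso (C.homologyπ 0) := C.isIso_homologyπ (ComplexShape.up ℕ |>.prev 0) 0 rfl (by
          apply C.shape; simp)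
        rw [ModuleCat.mono_iff_injective]
        refine (injective_iff_map_eq_zero _).2 fun z hz => ?_
        obtain ⟨c, rfl⟩ := (ModuleCat.epi_iff_surjective (C.homologyπ 0)).1 inferInstance z
        rw [hmid, ← map_smul] at hz
        have h0 : x • c = 0 := (ModuleCat.mono_iff_injective (C.homologyπ 0)).1 inferInstance (hz.trans (map_zero _).symm)
        have h1 : x • (C.iCycles 0).hom c = 0 := by rw [← map_smul, h0, map_zero]
        have h2 : (C.iCycles 0).hom c = 0 := (injective_iff_map_eq_zero (LinearMap.lsmul R _ x)).1 (hsm 0) _ h1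
        rw [(ModuleCat.mono_iff_injective (C.iCycles 0)).1 inferInstance (h2.trans (map_zero _).symm), map_zero]
      | succ i =>
        exact (hS.homology_exact₁ i (i + 1) rfl).mono_g ((ih' i (by simpa using hi)).eq_of_src _ _)
    intro a b h
    exact (ModuleCat.mono_iff_injective _).1 hmono (by rw [hmid, hmid]; exact h)

/-- Let R be a regular local ring of Krull dimension g and M = (M^0 → M^1 → ⋯ → M^g) a perfect complex
over R, here a cochain complex of finitely generated free R-modules indexed by ℕ with M^i = 0 for i
> g, such that every cohomology module H^i(M) has finite length. Then H^i(M) = 0 for all i < g, so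
that M has cohomology at most in degree g. -/
theorem result (R : Type u) [CommRing R]
    [IsRegularLocalRing R] (g : ℕ) (hg : ringKrullDim R = g) (M : CochainComplex (ModuleCat.{u} R) ℕ)
    (hbd : ∀ i, g < i → IsZero (M.X i)) (hfree : ∀ i, Module.Free R (M.X i) ∧ Module.Finite R (M.X i))
    (hfl : ∀ i, IsFiniteLength R (M.homology i)) (i : ℕ) (hi : i < g) :
    IsZero (M.homology i) := by
  classical
  have hk : (maximalIdeal R).spanFinrank = g := CAlgGlobalDim.spanFinrank_eq_of_dim R g hg
  have hfg : (maximalIdeal R).FG := (maximalIdeal R).fg_of_isNoetherianRing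
  obtain ⟨x, hx⟩ : ∃ x : Fin g → R, Ideal.span (Set.range x) = maximalIdeal R :=
    (by
      obtain ⟨s, hs, hspan⟩ := Submodule.FG.exists_span_finset_card_eq_spanFinrank hfg
      refine ⟨fun j => (s.equivFinOfCardEq (hs.trans hk)).symm j, ?_⟩
      rw [show Set.range (fun j => ((s.equivFinOfCardEq (hs.trans hk)).symm j : R)) = (s : Set R) from
        (Set.range_comp Subtype.val _).trans (by rw [Equiv.range_eq_univ, Set.image_univ, Subtype.range_coe_subtype]; rfl)]
      exact hspan)
  have hrs : Ideal.ofList (List.ofFn x) = maximalIdeal R := (CAlgGlobalDim.ofList_ofFn x).trans hx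
  have hreg := CAlgGlobalDim.isWeaklyRegular_of_generators g R _ (List.length_ofFn) hrs hk.ge
  refine homology_eq_zero (List.ofFn x) (fun r hr => hrs ▸ Ideal.subset_span hr) M (fun j => ?_)
    (fun j _ => hfl j) i (by rwa [List.length_ofFn])
  haveI := (hfree j).1
  exact (LinearEquiv.isWeaklyRegular_congr (TensorProduct.rid R (M.X j)) _).1 hreg.isWeaklyRegular_lTensor

end Groth.Agent.S14128
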