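import Groth.Statements.S14130
import Groth.Agent.AVPoinc.EulerSq

set_option autoImplicit false
universe u
open CategoryTheory CategoryTheory.Limits MonoidalCategory CartesianMonoidalCategory MonObj GrpObj AlgebraicGeometry
open AbVar

namespace Groth.Agent.S14130

set_option backward.isDefEq.respectTransparency false
set_option backward.isDefEq.respectTransparency.types false
open Groth.Agent.AVIdx Groth.Agent.AVCube Groth.Agent.H23
open scoped Groth.Agent.H23.PicMul

/-- Let k be an algebraically closed field, A an abelian variety over k (a proper smooth k-group scheme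
with geometrically connected fibres), (A^t, φ) a given dual abelian variety of A for the fppf
topology with A^t an abelian variety, L an invertible O_A-module with an inverse L', and Λ a module
on A ×_k A isomorphic to the Mumford module m^*L ⊗ pr_1^*L' ⊗ pr_2^*L', whose class is assumed
algebraically trivial on every geometric fibre of the second projection. Let φ_L = φ(Λ) : A → A^t be
the morphism classifying Λ (on points, x ↦ t_x^*L ⊗ L'), and assume L is non-degenerate in the sense
that φ_L is finite and flat, of constant rank d (so d is the order of its kernel K(L)). Then χ(A,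
L)^2 = d. -/
theorem result (k : Type u) [Field k] [IsAlgClosed k]
    (A At : Over (Spec (CommRingCat.of k))) [GrpObj A] [IsProper A.hom] [Smooth A.hom] [GeometricallyConnected A.hom]
    [GrpObj At] [IsProper At.hom] [Smooth At.hom] [GeometricallyConnected At.hom]
    (φ : ∀ T : Over (Spec (CommRingCat.of k)), PicF.Cl (PicF.XT A.hom T) → (T ⟶ At))
    (hφ : AbDual.IsDualAV Scheme.fppfPrecoverage A At φ)
    (L : A.left.Modules) (hL : PicF.IsInvertible L) (L' : A.left.Modules) (hL' : Nonempty (CohB1.tensorMod L L' ≅ Coh.structureModule A.left))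
    (Λ : (PicF.XT A.hom A).Modules)
    (hΛ : Nonempty (Λ ≅ CohB1.tensorMod (CohB1.tensorMod ((Scheme.Modules.pullback μ[A].left).obj L)
      ((Scheme.Modules.pullback (fst A A).left).obj L')) ((Scheme.Modules.pullback (snd A A).left).obj L')))
    (hΛ0 : AbDual.IsPicZeroCl A.hom A (PicF.cl Λ))
    [IsFinite (φ A (PicF.cl Λ)).left] [Flat (φ A (PicF.cl Λ)).left]
    (d : ℕ) (hd : ∀ y : ↥At.left, Scheme.Hom.finrank (φ A (PicF.cl Λ)).left y = d) :
    @Curv2.euler k _ A.left ⟨A.hom⟩ L ^ 2 = (d : ℤ) := by
  haveI := Groth.Agent.AVDual.geometricallyIntegral_of_smooth A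
  haveI := Groth.Agent.AVDual.geometricallyIntegral_of_smooth At
  refine Groth.Agent.AVPoinc.euler_sq_eq_degree hφ hL ?_ hΛ0 d hd
  have hLL : PicF.cl L * PicF.cl L' = 1 := (PicGrp.cl_eq_cl_iff _ _).2 hL'
  have hu : ∀ {T : Over (Spec (CommRingCat.of k))} (v : T ⟶ A), pu v (PicF.cl L) * pu v (PicF.cl L') = 1 :=
    fun v => by rw [← map_mul, hLL, map_one]
  have e : (PicF.cl Λ : PicF.Cl (A ⊗ A).left) = pu μ[A] (PicF.cl L) * pu (fst A A) (PicF.cl L') * pu (snd A A) (PicF.cl L') :=
    (Quot.sound hΛ).trans ((PicMul.cl_tensor _ _).trans (congrArg (fun x => x * _) (PicMul.cl_tensor _ _)))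
  have h' := congrArg Units.val (PairE.pc_mul hL (fst A A) (snd A A))
  simp only [Units.val_mul, val_pc'] at h'
  have h : pu (fst A A * snd A A) (PicF.cl L) = pu (fst A A) (PicF.cl L) * pu (snd A A) (PicF.cl L) *
      ((PairE.pair hL (fst A A) (snd A A) : (PicF.Cl (A ⊗ A).left)ˣ) : PicF.Cl (A ⊗ A).left) := h'
  rw [MonObj.mul_eq_mul] at e
  rw [e]
  show pu (fst A A * snd A A) (PicF.cl L) * _ * _ = _
  rw [h]
  calc pu (fst A A) (PicF.cl L) * pu (snd A A) (PicF.cl L) *
        ((PairE.pair hL (fst A A) (snd A A) : (PicF.Cl (A ⊗ A).left)ˣ) : PicF.Cl (A ⊗ A).left) *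
        pu (fst A A) (PicF.cl L') * pu (snd A A) (PicF.cl L')
      = (pu (fst A A) (PicF.cl L) * pu (fst A A) (PicF.cl L')) * (pu (snd A A) (PicF.cl L) * pu (snd A A) (PicF.cl L')) *
        ((PairE.pair hL (fst A A) (snd A A) : (PicF.Cl (A ⊗ A).left)ˣ) : PicF.Cl (A ⊗ A).left) := by ac_rfl
    _ = _ := by rw [hu, hu, _root_.one_mul, _root_.one_mul]

end Groth.Agent.S14130
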