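import Groth.Statements.S14131
import Groth.Agent.S14129
import Groth.Agent.S14130
import Groth.Agent.AVDeg3.DetVal

set_option autoImplicit false
universe u
open CategoryTheory CategoryTheory.Limits MonoidalCategory CartesianMonoidalCategory MonObj GrpObj AlgebraicGeometry
open AbVar

namespace Groth.Agent.S14131

set_option backward.isDefEq.respectTransparency false
set_option backward.isDefEq.respectTransparency.types false
open Groth.Agent.AVPair Groth.Agent.H23 Groth.Agent.AVAmple
open scoped Groth.Agent.H23.PicMul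

/-- Let k be an algebraically closed field, A an abelian variety over k (a proper smooth k-group scheme
with geometrically connected fibres) of dimension g, (A^t, φ) a given dual abelian variety of A for
the fppf topology with A^t an abelian variety, L an invertible O_A-module with an inverse L', and Λ
a module on A ×_k A isomorphic to the Mumford module m^*L ⊗ pr_1^*L' ⊗ pr_2^*L', whose class is
assumed algebraically trivial on every geometric fibre of the second projection. Let φ_L = φ(Λ) : A
→ A^t and assume L non-degenerate in the sense that φ_L is finite and flat, of constant rank d. Then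
there is a natural number i ≤ g such that H^j(A, L) vanishes for all j ≠ i and the square of dim_k
H^i(A, L) equals d. (The published statement moreover writes the Fourier–Mukai transform of L as a
vector bundle on A^t placed in degree i; only the cohomological consequences are stated here.) -/
theorem result (k : Type u) [Field k] [IsAlgClosed k]
    (A At : Over (Spec (CommRingCat.of k))) [GrpObj A] [IsProper A.hom] [Smooth A.hom] [GeometricallyConnected A.hom]
    [GrpObj At] [IsProper At.hom] [Smooth At.hom] [GeometricallyConnected At.hom]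
    (φ : ∀ T : Over (Spec (CommRingCat.of k)), PicF.Cl (PicF.XT A.hom T) → (T ⟶ At))
    (hφ : AbDual.IsDualAV Scheme.fppfPrecoverage A At φ)
    (g : ℕ) (hg : topologicalKrullDim ↥A.left = g)
    (L : A.left.Modules) (hL : PicF.IsInvertible L) (L' : A.left.Modules) (hL' : Nonempty (CohB1.tensorMod L L' ≅ Coh.structureModule A.left))
    (Λ : (PicF.XT A.hom A).Modules)
    (hΛ : Nonempty (Λ ≅ CohB1.tensorMod (CohB1.tensorMod ((Scheme.Modules.pullback μ[A].left).obj L)
      ((Scheme.Modules.pullback (fst A A).left).obj L')) ((Scheme.Modules.pullback (snd A A).left).obj L')))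
    (hΛ0 : AbDual.IsPicZeroCl A.hom A (PicF.cl Λ))
    [IsFinite (φ A (PicF.cl Λ)).left] [Flat (φ A (PicF.cl Λ)).left]
    (d : ℕ) (hd : ∀ y : ↥At.left, Scheme.Hom.finrank (φ A (PicF.cl Λ)).left y = d) :
    ∃ i : ℕ, i ≤ g ∧ (∀ j : ℕ, j ≠ i → Subsingleton (Coh.HH A.left L j)) ∧
      @Module.finrank k (Coh.HH A.left L i) _ _ (@Coh.moduleOver k _ A.left ⟨A.hom⟩ L i) ^ 2 = d := by
  haveI := Groth.Agent.AVDual.geometricallyIntegral_of_smooth A
  have hfix : Set.Finite {x : 𝟙_ (Over (Spec (CommRingCat.of k))) ⟶ A |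
      Nonempty ((Scheme.Modules.pullback (𝟙 A * (toUnit A ≫ x)).left).obj L ≅ L)} := by
    refine (Groth.Agent.AVTate3.finite_comp_eq (𝟙 (Spec (CommRingCat.of k))) (φ A (PicF.cl Λ)) 1).subset fun x hx => ?_
    have hx' : pl (tr x) (PicF.cl L) = PicF.cl L := (Groth.Agent.AVPhi.nonempty_iso_iff _).1 hx
    have hLL : PicF.cl L * PicF.cl L' = 1 := (PicGrp.cl_eq_cl_iff _ _).2 hL'
    have e : (PicF.cl Λ : PicF.Cl (A ⊗ A).left) = Groth.Agent.AbSchX.Bidual.Λ (PicF.cl L) (PicF.cl L') := by
      rw [Groth.Agent.AbSchX.Bidual.Λ, ← MonObj.mul_eq_mul]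
      exact (Quot.sound hΛ).trans ((PicMul.cl_tensor _ _).trans (congrArg (fun z => z * _) (PicMul.cl_tensor _ _)))
    have hi : PicF.IsInvertibleCl (PicF.cl L') := by
      obtain ⟨L₂, hL₂, he⟩ := AVPair.exists_inv (⟨L, rfl, hL⟩ : PicF.IsInvertibleCl (PicF.cl L))
      rw [left_inv_eq_right_inv (a := PicF.cl L) ((mul_comm _ _).trans hLL) he]
      exact hL₂
    have h1 : pl (A ◁ x) (PicF.cl Λ : PicF.Cl (A ⊗ A).left) = 1 := by
      rw [show A ◁ x = fst A (𝟙_ _) ≫ lift (𝟙 A) (toUnit A ≫ x) by
        refine CartesianMonoidalCategory.hom_ext _ _ ?_ ?_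
        · rw [whiskerLeft_fst, Category.assoc, lift_fst, Category.comp_id]; rfl
        · rw [whiskerLeft_snd, Category.assoc, lift_snd, ← Category.assoc,
            toUnit_unique (fst A (𝟙_ _) ≫ toUnit A) (snd A (𝟙_ _))]; rfl, ← pl_pl, e,
        Groth.Agent.AbSchX.Bidual.slice_Λ hi, hx', hLL, map_one]
    show x ≫ φ A (PicF.cl Λ) = 1
    refine (Groth.Agent.AVDual.phi_pl hφ x hΛ0).symm.trans ?_
    rw [h1]
    exact Groth.Agent.AVDual.phi_one hφ _
  obtain ⟨i, hi, hvan, -⟩ := Groth.Agent.S14129.result k A g hg L hL hfix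
  refine ⟨i, hi, hvan, ?_⟩
  have h := Groth.Agent.S14130.result k A At φ hφ L hL L' hL' Λ hΛ hΛ0 d hd
  letI : A.left.Over (Spec (CommRingCat.of k)) := ⟨A.hom⟩
  rw [Curv2.euler, finsum_eq_single _ i fun j hj => by
    haveI := hvan j hj
    simp [Module.finrank_zero_of_subsingleton], mul_pow, ← pow_mul, _root_.mul_comm i 2, pow_mul, neg_one_sq, one_pow,
    _root_.one_mul] at h
  exact_mod_cast h

end Groth.Agent.S14131
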