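import Groth.Statements.S14132
import Groth.Agent.FMX.BaseChange
import Groth.Agent.Lib.AVDual
import Groth.Agent.Lib.AVPicZero
import Groth.Agent.FpqcDescLib.Group

set_option autoImplicit false
universe u
open CategoryTheory CategoryTheory.Limits MonoidalCategory CartesianMonoidalCategory MonObj GrpObj AlgebraicGeometry
attribute [local instance] HasDerivedCategory.standard
open AbVar

namespace Groth.Agent.S14132

set_option backward.isDefEq.respectTransparency false
set_option backward.isDefEq.respectTransparency.types false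
set_option maxHeartbeats 800000
open Groth.Agent Groth.Agent.KFlatLib Groth.Agent.H23 Groth.Agent.AVPair
open scoped Groth.Agent.H23.PicMul

/-- Let k be a field, A and B abelian varieties over k (proper smooth k-group schemes with geometrically
connected fibres), f : A → B a homomorphism, (A^t, φ_A) and (B^t, φ_B) given dual abelian varieties
for the fppf topology (both abelian varieties), P_A on A ×_k A^t and P_B on B ×_k B^t invertible
modules whose classes are Poincaré classes, and f^t : B^t → A^t the transpose of f with respect to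
these duals. Write Φ_{P_A} = Rpr_{2,*}(Lpr_1^*(−) ⊗^L P_A) : D(O_A) → D(O_{A^t}) and similarly
Φ_{P_B}; the derived functors involved are assumed to exist. Then, restricted to objects of D(O_A)
with quasi-coherent cohomology sheaves, Φ_{P_B} ∘ Rf_* is isomorphic to L(f^t)^* ∘ Φ_{P_A}
(existence of an isomorphism of functors). -/
theorem result (k : Type u) [Field k]
    (A At B Bt : Over (Spec (CommRingCat.of k))) [GrpObj A] [IsProper A.hom] [Smooth A.hom] [GeometricallyConnected A.hom]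
    [GrpObj At] [IsProper At.hom] [Smooth At.hom] [GeometricallyConnected At.hom]
    [GrpObj B] [IsProper B.hom] [Smooth B.hom] [GeometricallyConnected B.hom]
    [GrpObj Bt] [IsProper Bt.hom] [Smooth Bt.hom] [GeometricallyConnected Bt.hom]
    (φA : ∀ T : Over (Spec (CommRingCat.of k)), PicF.Cl (PicF.XT A.hom T) → (T ⟶ At))
    (hφA : AbDual.IsDualAV Scheme.fppfPrecoverage A At φA)
    (φB : ∀ T : Over (Spec (CommRingCat.of k)), PicF.Cl (PicF.XT B.hom T) → (T ⟶ Bt))
    (hφB : AbDual.IsDualAV Scheme.fppfPrecoverage B Bt φB)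
    (PA : (pullback A.hom At.hom).Modules) (hPA : PicF.IsInvertible PA)
    (hPAξ : AbDual.IsPoincareCl A At φA (PicF.cl PA))
    (PB : (pullback B.hom Bt.hom).Modules) (hPB : PicF.IsInvertible PB)
    (hPBξ : AbDual.IsPoincareCl B Bt φB (PicF.cl PB))
    (f : A ⟶ B) [IsMonHom f] (ft : Bt ⟶ At) (hft : AbDual.IsTranspose f φA φB ft)
    [DCoh.HasLpull (pullback.fst A.hom At.hom)] [DCoh.HasLTensorMod PA] [DCoh.HasRpush (pullback.snd A.hom At.hom)]
    [DCoh.HasLpull (pullback.fst B.hom Bt.hom)] [DCoh.HasLTensorMod PB] [DCoh.HasRpush (pullback.snd B.hom Bt.hom)]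
    [DCoh.HasRpush f.left] [DCoh.HasLpull ft.left] :
    Nonempty (ObjectProperty.ι (DCoh.IsQCohD (X := A.left)) ⋙ DCoh.Rpush f.left ⋙ (DCoh.Lpull (pullback.fst B.hom Bt.hom) ⋙ DCoh.LTensorMod PB ⋙ DCoh.Rpush (pullback.snd B.hom Bt.hom)) ≅
      ObjectProperty.ι (DCoh.IsQCohD (X := A.left)) ⋙ (DCoh.Lpull (pullback.fst A.hom At.hom) ⋙ DCoh.LTensorMod PA ⋙ DCoh.Rpush (pullback.snd A.hom At.hom)) ⋙ DCoh.Lpull ft.left) := by
  haveI := AVDual.geometricallyIntegral_of_smooth A
  haveI := AVDual.geometricallyIntegral_of_smooth B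
  haveI := AVDual.geometricallyIntegral_of_smooth At
  haveI := AVDual.geometricallyIntegral_of_smooth Bt
  haveI : IsIntegral Bt.left := GeometricallyIntegral.isIntegral_of_subsingleton Bt.hom
  haveI : IsProper f.left := by
    haveI : IsProper (f.left ≫ B.hom) := by rw [Over.w f]; infer_instance
    exact IsProper.of_comp f.left B.hom
  let c₁ : PicF.Cl (A ⊗ Bt).left := pl (f ▷ Bt) (PicF.cl PB)
  let c₂ : PicF.Cl (A ⊗ Bt).left := pl (A ◁ ft) (PicF.cl PA)
  obtain ⟨hA1, hA2⟩ := AVDual.poincare_axes hφA hPAξ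
  obtain ⟨hB1, hB2⟩ := AVDual.poincare_axes hφB hPBξ
  have hc₁ : AVDual.PZ A Bt c₁ := by
    refine AVDual.pz_of_slice η[Bt] (isInv_pl _ ⟨PB, rfl, hPB⟩) ?_
    rw [pl_pl, show CartesianMonoidalCategory.lift (𝟙 A) (toUnit A ≫ η[Bt]) ≫ f ▷ Bt =
      f ≫ CartesianMonoidalCategory.lift (𝟙 B) (1 : B ⟶ Bt) by
        rw [lift_whiskerRight, comp_lift, MonObj.comp_one, Category.comp_id, Category.id_comp, Hom.one_def],
      ← pl_pl]
    erw [hB2]
    rw [map_one]
  have hc₂ : AVDual.PZ A Bt c₂ := AVDual.pz_pl ft hPAξ.1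
  have hc : c₁ = c₂ := by
    refine AVDual.eq_of_phi hφA hc₁ hc₂ ?_ 1 ?_
    · refine (hft Bt (PicF.cl PB) hPBξ.1).trans ?_
      rw [hPBξ.2.1, Category.id_comp]
      refine Eq.symm ?_
      show φA Bt (pl (A ◁ ft) (PicF.cl PA)) = ft
      rw [AVDual.phi_pl hφA ft hPAξ.1, hPAξ.2.1, Category.comp_id]
    · rw [pl_pl, pl_pl, show CartesianMonoidalCategory.lift (1 : Bt ⟶ A) (𝟙 Bt) ≫ f ▷ Bt =
          CartesianMonoidalCategory.lift (1 : Bt ⟶ B) (𝟙 Bt) by
            rw [lift_whiskerRight, MonObj.one_comp],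
        show CartesianMonoidalCategory.lift (1 : Bt ⟶ A) (𝟙 Bt) ≫ A ◁ ft =
          ft ≫ CartesianMonoidalCategory.lift (1 : At ⟶ A) (𝟙 At) by
            rw [lift_whiskerLeft, comp_lift, MonObj.comp_one, Category.comp_id, Category.id_comp], ← pl_pl]
      erw [hA1, hB1]
      rw [map_one]
  obtain ⟨ec⟩ : Nonempty ((Scheme.Modules.pullback (f ▷ Bt).left).obj PB ≅
      (Scheme.Modules.pullback (A ◁ ft).left).obj PA) := PicMul.cl_eq_iff.1 hc
  let q₁ := (fst A Bt).left
  let q₂ := (snd A Bt).left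
  have hsqA : IsPullback (A ◁ ft).left q₂ (pullback.snd A.hom At.hom) ft.left :=
    (FpqcDescLib.isPullback_whiskerLeft ft A).map (Over.forget _)
  have hsqB : IsPullback q₁ (f ▷ Bt).left f.left (pullback.fst B.hom Bt.hom) :=
    ((FpqcDescLib.isPullback_whiskerRight f Bt).map (Over.forget _)).flip
  haveI := hasLpull q₁
  haveI := hasRpush_scheme q₂
  haveI := hasLTensorMod ((Scheme.Modules.pullback (f ▷ Bt).left).obj PB)
  haveI := hasLTensorMod ((Scheme.Modules.pullback (A ◁ ft).left).obj PA)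
  obtain ⟨e₁⟩ := FMX.nonempty_rpush_transform (pullback.fst B.hom Bt.hom) (pullback.snd B.hom Bt.hom) hsqB
    (show (f ▷ Bt).left ≫ pullback.snd B.hom Bt.hom = q₂ from congrArg CommaMorphism.left (whiskerRight_snd f Bt)) hPB
    (Or.inr inferInstance)
  obtain ⟨e₂⟩ := FMX.nonempty_transform_lpull (pullback.fst A.hom At.hom) (pullback.snd A.hom At.hom) hsqA
    (show (A ◁ ft).left ≫ pullback.fst A.hom At.hom = q₁ from congrArg CommaMorphism.left (whiskerLeft_fst A ft)) hPA
    (Or.inl inferInstance)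
  obtain ⟨e₃⟩ := FMX.nonempty_ltm_congr ec
  exact ⟨e₁ ≪≫ Functor.isoWhiskerLeft _ (Functor.isoWhiskerLeft _ (Functor.isoWhiskerRight e₃ _)) ≪≫ e₂.symm⟩

end Groth.Agent.S14132
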