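import Groth.Statements.S14144
import Groth.Agent.AVIdx.IndexField
import Groth.Agent.Lib.AVDual

set_option linter.style.haveILetI false
set_option backward.isDefEq.respectTransparency false
set_option backward.isDefEq.respectTransparency.types false

set_option autoImplicit false
universe u
open CategoryTheory CategoryTheory.Limits MonoidalCategory CartesianMonoidalCategory MonObj GrpObj AlgebraicGeometry
open AbVar

namespace Groth.Agent.S14144

open Groth.Agent
open scoped Groth.Agent.H23.PicMul

/-- Let k be an algebraically closed field, A and B abelian varieties over k (proper smooth k-group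
schemes with geometrically connected fibres), f : A → B a homomorphism which is an isogeny (finite,
flat and surjective), and L an invertible O_B-module which is non-degenerate: only finitely many
k-rational points y of B satisfy t_y^*L ≅ L. Then f^*L is non-degenerate on A, and L and f^*L have
the same index: for every j, H^j(B, L) vanishes if and only if H^j(A, f^*L) vanishes. -/
theorem result (k : Type u) [Field k] [IsAlgClosed k]
    (A B : Over (Spec (CommRingCat.of k))) [GrpObj A] [IsProper A.hom] [Smooth A.hom] [GeometricallyConnected A.hom]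
    [GrpObj B] [IsProper B.hom] [Smooth B.hom] [GeometricallyConnected B.hom]
    (f : A ⟶ B) [IsMonHom f] [IsFinite f.left] [Flat f.left] [Surjective f.left]
    (L : B.left.Modules) (hL : PicF.IsInvertible L) (hnd : (Set.Finite {x : 𝟙_ (Over (Spec (CommRingCat.of k))) ⟶ B |
      Nonempty ((Scheme.Modules.pullback (𝟙 B * (toUnit B ≫ x)).left).obj L ≅ L)})) :
    (Set.Finite {x : 𝟙_ (Over (Spec (CommRingCat.of k))) ⟶ A |
      Nonempty ((Scheme.Modules.pullback (𝟙 A * (toUnit A ≫ x)).left).obj ((Scheme.Modules.pullback f.left).obj L) ≅ ((Scheme.Modules.pullback f.left).obj L))}) ∧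
      ∀ j : ℕ, Subsingleton (Coh.HH B.left L j) ↔ Subsingleton (Coh.HH A.left ((Scheme.Modules.pullback f.left).obj L) j) := by
  haveI : GeometricallyIntegral A.hom := AVDual.geometricallyIntegral_of_smooth A
  haveI : GeometricallyIntegral B.hom := AVDual.geometricallyIntegral_of_smooth B
  obtain ⟨g, hg⟩ := AVIdx.exists_dim B
  obtain ⟨d, ⟨M, rfl, hM⟩, hLM⟩ := AVPair.exists_inv ⟨L, rfl, hL⟩
  obtain ⟨i, -, hvan, hne, -, -⟩ := AVIdx.exists_index_pair (A := B) hg hL hM hLM
    (hnd.subset fun a ha => (AVPhi.nonempty_iso_iff _).2 ha)
  obtain ⟨hv, hn⟩ := AVIdx.index_pullback f hL hvan hne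
  refine ⟨(AVIdx.finite_fixing_of_concentrated A (PicClLib.isInvertible_pullback _ hL) i hv hn).subset
    fun a ha => (AVPhi.nonempty_iso_iff _).1 ha, fun j => ?_⟩
  rcases eq_or_ne j i with rfl | hj
  · exact iff_of_false hne hn
  · exact iff_of_true (hvan j hj) (hv j hj)

end Groth.Agent.S14144
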