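import Groth.Statements.S14146
import Groth.Agent.FMX.BaseChange
import Groth.Agent.Lib.AVDual
import Groth.Agent.Lib.AVPicZero
import Groth.Agent.AVIdx.PairE
import Groth.Agent.FpqcDescLib.Group

set_option autoImplicit false
universe u
open CategoryTheory CategoryTheory.Limits MonoidalCategory CartesianMonoidalCategory MonObj GrpObj AlgebraicGeometry
attribute [local instance] HasDerivedCategory.standard
open AbVar

namespace Groth.Agent.S14146

set_option backward.isDefEq.respectTransparency false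
set_option backward.isDefEq.respectTransparency.types false
set_option maxHeartbeats 800000
open Groth.Agent Groth.Agent.KFlatLib Groth.Agent.H23 Groth.Agent.AVPair
open scoped Groth.Agent.H23.PicMul

/-- Let k be an algebraically closed field, A an abelian variety over k (a proper smooth k-group scheme
with geometrically connected fibres) with structure map a : A → Spec k, (A^t, φ) a given dual
abelian variety for the fppf topology with A^t an abelian variety, P an invertible module on A ×_k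
A^t whose class is a Poincaré class, L an invertible O_A-module with an inverse L', and Λ a module
on A ×_k A isomorphic to the Mumford module m^*L ⊗ pr_1^*L' ⊗ pr_2^*L', whose class is assumed
algebraically trivial on every geometric fibre of the second projection. Let φ_L = φ(Λ) : A → A^t
and assume L non-degenerate in the sense that φ_L is finite and flat. Write Φ_P =
Rpr_{2,*}(Lpr_1^*(−) ⊗^L P); the derived functors involved are assumed to exist. Then Lφ_L^*(Φ_P(L))
is isomorphic in D(O_A) to La^*(Ra_*L) ⊗^L L', that is, to RΓ(A, L) ⊗_k L^{-1} (existence of an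
isomorphism). -/
theorem result (k : Type u) [Field k] [IsAlgClosed k]
    (A At : Over (Spec (CommRingCat.of k))) [GrpObj A] [IsProper A.hom] [Smooth A.hom] [GeometricallyConnected A.hom]
    [GrpObj At] [IsProper At.hom] [Smooth At.hom] [GeometricallyConnected At.hom]
    (φ : ∀ T : Over (Spec (CommRingCat.of k)), PicF.Cl (PicF.XT A.hom T) → (T ⟶ At))
    (hφ : AbDual.IsDualAV Scheme.fppfPrecoverage A At φ)
    (P : (pullback A.hom At.hom).Modules) (hP : PicF.IsInvertible P)
    (hPξ : AbDual.IsPoincareCl A At φ (PicF.cl P))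
    (L : A.left.Modules) (hL : PicF.IsInvertible L) (L' : A.left.Modules) (hL' : Nonempty (CohB1.tensorMod L L' ≅ Coh.structureModule A.left))
    (Λ : (PicF.XT A.hom A).Modules)
    (hΛ : Nonempty (Λ ≅ CohB1.tensorMod (CohB1.tensorMod ((Scheme.Modules.pullback μ[A].left).obj L)
      ((Scheme.Modules.pullback (fst A A).left).obj L')) ((Scheme.Modules.pullback (snd A A).left).obj L')))
    (hΛ0 : AbDual.IsPicZeroCl A.hom A (PicF.cl Λ))
    [IsFinite (φ A (PicF.cl Λ)).left] [Flat (φ A (PicF.cl Λ)).left]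
    [DCoh.HasLpull (pullback.fst A.hom At.hom)] [DCoh.HasLTensorMod P] [DCoh.HasRpush (pullback.snd A.hom At.hom)]
    [DCoh.HasLpull (φ A (PicF.cl Λ)).left] [DCoh.HasRpush A.hom] [DCoh.HasLpull A.hom] [DCoh.HasLTensorMod L'] :
    Nonempty ((DCoh.Lpull (φ A (PicF.cl Λ)).left).obj ((DCoh.Lpull (pullback.fst A.hom At.hom) ⋙ DCoh.LTensorMod P ⋙ DCoh.Rpush (pullback.snd A.hom At.hom)).obj (DCoh.inD A.left L)) ≅
      (DCoh.LTensorMod L').obj ((DCoh.Lpull A.hom).obj ((DCoh.Rpush A.hom).obj (DCoh.inD A.left L)))) := by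
  haveI := AVDual.geometricallyIntegral_of_smooth A
  haveI := AVDual.geometricallyIntegral_of_smooth At
  haveI : IsIntegral A.left := GeometricallyIntegral.isIntegral_of_subsingleton A.hom
  haveI : IsCommMonObj A := isCommMonObj_of_isProper_of_geometricallyIntegral A
  let κ : A ⟶ At := φ A (PicF.cl Λ)
  have hLL : PicF.cl L * PicF.cl L' = 1 := (PicGrp.cl_eq_cl_iff _ _).2 hL'
  have hL'i : PicF.IsInvertible L' := by
    obtain ⟨d, ⟨M, rfl, hM⟩, hLd⟩ := AVPair.exists_inv (⟨L, rfl, hL⟩ : PicF.IsInvertibleCl (PicF.cl L))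
    obtain ⟨e⟩ := PicMul.cl_eq_iff.1 (left_inv_eq_right_inv (a := PicF.cl L) ((mul_comm _ _).trans hLL) hLd)
    exact PicMul.isInvertible_of_iso e.symm hM
  have e : (PicF.cl Λ : PicF.Cl (A ⊗ A).left) = pl (fst A A * snd A A) (PicF.cl L) * pl (fst A A) (PicF.cl L') *
      pl (snd A A) (PicF.cl L') := by
    rw [← MonObj.mul_eq_mul]
    exact (Quot.sound hΛ).trans ((PicMul.cl_tensor _ _).trans (congrArg (fun z => z * _) (PicMul.cl_tensor _ _)))
  have hrig : pl (CartesianMonoidalCategory.lift (1 : A ⟶ A) (𝟙 A)) (PicF.cl Λ : PicF.Cl (A ⊗ A).left) = 1 := by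
    rw [e, map_mul, map_mul, pl_pl, pl_pl, pl_pl, MonObj.comp_mul, CartesianMonoidalCategory.lift_fst,
      CartesianMonoidalCategory.lift_snd, _root_.one_mul, mul_right_comm, pl_id, pl_id,
      hLL, _root_.one_mul, Hom.one_def]
    exact AVPair.pl_const ⟨L', rfl, hL'i⟩ η[A]
  have hpz : AVDual.PZ A A (pl (A ◁ κ) (PicF.cl P)) := AVDual.pz_pl κ hPξ.1
  have hP2 : pl (A ◁ κ) (PicF.cl P : PicF.Cl (A ⊗ At).left) = PicF.cl Λ := by
    refine AVDual.eq_of_phi hφ hpz hΛ0 ?_ 1 ?_
    · rw [AVDual.phi_pl hφ κ hPξ.1, hPξ.2.1, Category.comp_id]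
    · rw [pl_pl, show CartesianMonoidalCategory.lift (1 : A ⟶ A) (𝟙 A) ≫ A ◁ κ =
        κ ≫ CartesianMonoidalCategory.lift (1 : At ⟶ A) (𝟙 At) by
          rw [lift_whiskerLeft, comp_lift, MonObj.comp_one, Category.comp_id, Category.id_comp], ← pl_pl]
      erw [(AVDual.poincare_axes hφ hPξ).1]
      rw [map_one]
      exact hrig.symm
  let f1 := (fst A A).left
  let f2 := (snd A A).left
  let m : (A ⊗ A).left ⟶ A.left := μ[A].left
  have hmsq : IsPullback μ[A] (snd A A) (toUnit A) (toUnit A) := by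
    refine ⟨⟨toUnit_unique _ _⟩, ⟨PullbackCone.IsLimit.mk _
      (fun t => CartesianMonoidalCategory.lift (t.fst * t.snd⁻¹) t.snd) ?_ ?_ ?_⟩⟩
    · intro t
      rw [MonObj.mul_eq_mul, MonObj.comp_mul]
      erw [CartesianMonoidalCategory.lift_fst, CartesianMonoidalCategory.lift_snd]
      exact inv_mul_cancel_right _ _
    · intro t; exact CartesianMonoidalCategory.lift_snd _ _
    · intro t n h1 h2
      refine CartesianMonoidalCategory.hom_ext _ _ ?_ ?_
      · rw [CartesianMonoidalCategory.lift_fst, ← h1, ← h2, MonObj.mul_eq_mul, MonObj.comp_mul]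
        exact (mul_inv_cancel_right _ _).symm
      · rw [CartesianMonoidalCategory.lift_snd, ← h2]
  have hmsq' : IsPullback m f2 A.hom A.hom := hmsq.map (Over.forget _)
  haveI : Flat m := MorphismProperty.of_isPullback hmsq'.flip inferInstance
  haveI : Flat f1 := inferInstanceAs (Flat (pullback.fst A.hom A.hom))
  haveI : Flat f2 := inferInstanceAs (Flat (pullback.snd A.hom A.hom))
  have hsq : IsPullback (A ◁ κ).left f2 (pullback.snd A.hom At.hom) κ.left :=
    (FpqcDescLib.isPullback_whiskerLeft κ A).map (Over.forget _)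
  let Q := (Scheme.Modules.pullback (A ◁ κ).left).obj P
  let N := (Scheme.Modules.pullback f2).obj L'
  have hQ : PicF.IsInvertible Q := PicClLib.isInvertible_pullback _ hP
  have hN : PicF.IsInvertible N := PicClLib.isInvertible_pullback _ hL'i
  haveI := hasLpull f1
  haveI := hasLpull m
  haveI := hasRpush_scheme f2
  haveI := hasLTensorMod Q
  haveI := hasLTensorMod N
  haveI : IsProper f2 := inferInstanceAs (IsProper (pullback.snd A.hom A.hom))
  obtain ⟨T⟩ := FMX.nonempty_transform_lpull (pullback.fst A.hom At.hom) (pullback.snd A.hom At.hom) hsq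
    (show (A ◁ κ).left ≫ pullback.fst A.hom At.hom = f1 from congrArg CommaMorphism.left (whiskerLeft_fst A κ)) hP
    (Or.inl inferInstance)
  have hLq : DCoh.IsQCohD (DCoh.inD A.left L) :=
    FMX.isQCohD_inD (QCoh.isQCoh_of_isFinLocFree (PullPush.isFinLocFree_of_isInvertible hL))
  obtain ⟨a₁⟩ := FMX.nonempty_lpull_inD f1 L
  obtain ⟨a₂⟩ := FMX.nonempty_lpull_inD m L
  obtain ⟨b₁⟩ := FMX.nonempty_ltm_inD hQ ((Scheme.Modules.pullback f1).obj L)
  obtain ⟨b₂⟩ := FMX.nonempty_ltm_inD hN ((Scheme.Modules.pullback m).obj L)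
  obtain ⟨c⟩ : Nonempty (CohB1.tensorMod ((Scheme.Modules.pullback f1).obj L) Q ≅
      CohB1.tensorMod ((Scheme.Modules.pullback m).obj L) N) := by
    refine PicMul.cl_eq_iff.1 ?_
    rw [PicMul.cl_tensor, PicMul.cl_tensor]
    show pl (fst A A) (PicF.cl L) * pl (A ◁ κ) (PicF.cl P : PicF.Cl (A ⊗ At).left) =
      pl μ[A] (PicF.cl L) * pl (snd A A) (PicF.cl L')
    rw [hP2, e, MonObj.mul_eq_mul]
    calc pl (fst A A) (PicF.cl L) * (pl (fst A A * snd A A) (PicF.cl L) * pl (fst A A) (PicF.cl L') *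
          pl (snd A A) (PicF.cl L'))
        = pl (fst A A * snd A A) (PicF.cl L) * pl (snd A A) (PicF.cl L') *
          (pl (fst A A) (PicF.cl L) * pl (fst A A) (PicF.cl L')) := by ac_rfl
      _ = _ := by rw [← map_mul (pl (fst A A)), hLL, map_one, _root_.mul_one]
  obtain ⟨pf⟩ := FMX.nonempty_projection_invertible f2 hL'i
  obtain ⟨bc⟩ := FMX.nonempty_bc hmsq' (Or.inl inferInstance)
    (ObjectProperty.ι (DCoh.IsQCohD (X := A.left))) fun c => c.2
  exact ⟨T.app ⟨_, hLq⟩ ≪≫ (DCoh.Rpush f2).mapIso ((DCoh.LTensorMod Q).mapIso a₁ ≪≫ b₁ ≪≫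
      (DerivedCategory.singleFunctor _ 0).mapIso c ≪≫ b₂.symm ≪≫ (DCoh.LTensorMod N).mapIso a₂.symm) ≪≫
    pf.app _ ≪≫ (DCoh.LTensorMod L').mapIso (bc.app ⟨_, hLq⟩).symm⟩

end Groth.Agent.S14146
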