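import Groth.Statements.S14148
import Groth.Agent.AVSupp.Twist
import Groth.Agent.AVSupp.DetTrick
import Groth.Agent.AVSupp.Sweep
import Groth.Agent.AVTors.Torsion
import Groth.Agent.NormFieldX.Curve
import Groth.Agent.ConsPropLib.Noetherian
import Groth.Agent.QCoh.AnnIdeal
import Groth.Agent.QCoh.Support
import Groth.Agent.ZClosLib.CohDescent

set_option linter.style.haveILetI false
set_option backward.isDefEq.respectTransparency false
set_option backward.isDefEq.respectTransparency.types false

set_option autoImplicit false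
universe u
open CategoryTheory CategoryTheory.Limits MonoidalCategory CartesianMonoidalCategory MonObj GrpObj AlgebraicGeometry
attribute [local instance] HasDerivedCategory.standard
open AbVar

namespace Groth.Agent.S14148

open Groth.Agent Groth.Agent.H23 Groth.Agent.H23.TrivBasic Groth.Agent.AVPair Groth.Agent.AVSupp
open scoped Groth.Agent.H23.PicMul

/-- A coherent module invariant under all algebraically trivial twists has finite support. -/
theorem finite_support {k : Type u} [Field k] [IsAlgClosed k] {A At : Over (Spec (CommRingCat.of k))}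
    [GrpObj A] [IsProper A.hom] [GeometricallyIntegral A.hom] [GrpObj At] [IsProper At.hom] [Smooth At.hom]
    [GeometricallyConnected At.hom] [GeometricallyIntegral At.hom]
    (φ : ∀ T : Over (Spec (CommRingCat.of k)), PicF.Cl (PicF.XT A.hom T) → (T ⟶ At))
    (hφ : AbDual.IsDualAV Scheme.fppfPrecoverage A At φ) {P : (pullback A.hom At.hom).Modules}
    (hP : PicF.IsInvertible P) (hPξ : AbDual.IsPoincareCl A At φ (PicF.cl P))
    {F : A.left.Modules} (hF : Coh.IsCoh F)
    (hinv : ∀ x : 𝟙_ (Over (Spec (CommRingCat.of k))) ⟶ At,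
      Nonempty (CohB1.tensorMod F ((Scheme.Modules.pullback (CartesianMonoidalCategory.lift (𝟙 A) (toUnit A ≫ x)).left).obj P) ≅ F)) :
    (CohB1.support F).Finite := by
  classical
  haveI : IsCommMonObj At := isCommMonObj_of_isProper_of_geometricallyIntegral At
  haveI : IsLocallyNoetherian A.left := LocallyOfFiniteType.isLocallyNoetherian A.hom
  haveI : JacobsonSpace A.left := LocallyOfFiniteType.jacobsonSpace A.hom
  haveI : CompactSpace A.left := QuasiCompact.compactSpace_of_compactSpace A.hom
  haveI : IsNoetherian A.left := {}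
  by_contra hinf
  let S := CohB1.support F
  have hS : IsClosed S := QCoh.isClosed_support_of_isFT hF.1 hF.2
  obtain ⟨Y, hY, hYinf⟩ : ∃ Y ∈ irreducibleComponents ↥S, (Subtype.val '' Y : Set A.left).Infinite := by
    by_contra hall
    push Not at hall
    refine hinf (((TopologicalSpace.NoetherianSpace.finite_irreducibleComponents (α := ↥S)).biUnion
      fun Y hY => hall Y hY).subset fun z hz => ?_)
    exact Set.mem_biUnion (irreducibleComponent_mem_irreducibleComponents (⟨z, hz⟩ : S))
      ⟨⟨z, hz⟩, mem_irreducibleComponent, rfl⟩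
  let V : TopologicalSpace.Closeds A.left := ⟨Subtype.val '' Y,
    hS.isClosedEmbedding_subtypeVal.isClosedMap _ (isClosed_of_mem_irreducibleComponents _ hY)⟩
  have hVi : IsIrreducible (V : Set A.left) := hY.1.image _ continuous_subtype_val.continuousOn
  let Z := (Scheme.IdealSheafData.vanishingIdeal V).subscheme
  let j : Z ⟶ A.left := (Scheme.IdealSheafData.vanishingIdeal V).subschemeι
  have hjr : Set.range j = V := RedSub.range_vanishingIdeal V
  haveI : IsReduced Z := RedSub.isReduced_vanishingIdeal V
  haveI : IrreducibleSpace ↥Z := by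
    haveI : IrreducibleSpace ↥(Set.range j) := by rw [hjr]; exact Subtype.irreducibleSpace hVi
    exact j.isClosedEmbedding.isEmbedding.toHomeomorph.symm.surjective.irreducibleSpace
      j.isClosedEmbedding.isEmbedding.toHomeomorph.symm.continuous
  haveI : IsIntegral Z := isIntegral_of_irreducibleSpace_of_isReduced _
  let κ := RingHom.id Z.functionField
  let N := NormFieldX.norm Z Z.functionField κ
  let ν : N ⟶ Z := NormFieldX.ν Z Z.functionField κ
  haveI : IsFinite ν := NormFieldX.isFinite_ν k (j ≫ A.hom) (RingHom.Finite.id _)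
  let W : Over (Spec (CommRingCat.of k)) := Over.mk (ν ≫ j ≫ A.hom)
  let q : W ⟶ A := Over.homMk (ν ≫ j) (Category.assoc _ _ _)
  haveI : IsProper W.hom := inferInstanceAs (IsProper (ν ≫ j ≫ A.hom))
  haveI : IsIntegral W.left := inferInstanceAs (IsIntegral N)
  haveI : GeometricallyIntegral W.hom := EquidimFibres.geometricallyIntegral_of_isAlgClosed
  haveI : IsLocallyNoetherian W.left := LocallyOfFiniteType.isLocallyNoetherian W.hom
  have hsurj : Function.Surjective ν := fun z =>
    ((genericPoint_specializes z).mem_closed ν.isClosedMap.isClosed_range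
      ⟨NormFieldX.η Z Z.functionField κ, NormFieldX.ν_η Z Z.functionField κ⟩)
  have hrange : Set.range q.left = V := by
    show Set.range (ν ≫ j) = _
    rw [Scheme.Hom.comp_base, TopCat.coe_comp, hsurj.range_comp, hjr]
  -- the pulled back module
  let F' := (Scheme.Modules.pullback q.left).obj F
  have hF' : Coh.IsCoh F' := ZClosLib.isCoh_pullback q.left hF
  have hne : Nontrivial (F'.presheaf.stalk (genericPoint W.left)) := by
    have h : genericPoint W.left ∈ CohB1.support F' := by
      rw [QCoh.support_pullback q.left hF.1 hF.2]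
      obtain ⟨y, -, hy⟩ : q.left (genericPoint W.left) ∈ Subtype.val '' Y := hrange.le ⟨_, rfl⟩
      show q.left (genericPoint W.left) ∈ CohB1.support F
      exact hy ▸ y.2
    exact not_subsingleton_iff_nontrivial.1 h
  obtain ⟨r, hr0, hr⟩ := exists_pow_triv (X := W.left) NormFieldX.isNormalScheme_norm hF' hne
  let ξ : PicF.Cl (A ⊗ At).left := PicF.cl P
  obtain ⟨h1, h2⟩ := AVDual.poincare_axes hφ hPξ
  let ψ : (𝟙_ (Over (Spec (CommRingCat.of k))) ⟶ At) → PicF.Cl W.left := fun x =>
    pl q (pl (lift (𝟙 A) (toUnit A ≫ x)) ξ)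
  have hψr : ∀ x, ψ x ^ r = 1 := fun x => by
    let M := (Scheme.Modules.pullback (lift (𝟙 A) (toUnit A ≫ x)).left).obj P
    have hM : PicF.IsInvertible M := PicClLib.isInvertible_pullback _ hP
    have h : Nonempty (CohB1.tensorMod F' ((Scheme.Modules.pullback q.left).obj M) ≅ F') := by
      refine PicMul.cl_eq_iff.1 ?_
      rw [PicMul.cl_tensor]
      have := congrArg (PicF.pullCl q.left) (PicMul.cl_eq_iff.2 (hinv x))
      rw [PicMul.cl_tensor, PicMul.pullCl_mul] at this
      exact this
    have ht := (PicGrp.cl_eq_cl_iff _ _).2 (hr _ (PicClLib.isInvertible_pullback _ hM) h)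
    rw [PicMul.cl_tensorPow] at ht
    exact ht
  have hψmul : ∀ x y, ψ (x * y) = ψ x * ψ y := fun x y => by
    simp only [ψ]
    rw [MonObj.comp_mul, AVPair.add_right ⟨P, rfl, hP⟩ h1 h2, map_mul]
  have hψpow : ∀ (y) (n : ℕ), 0 < n → ψ (y ^ n) = ψ y ^ n := fun y n hn => by
    induction n with
    | zero => omega
    | succ n ih =>
      rcases Nat.eq_zero_or_pos n with rfl | hn
      · simp
      · rw [pow_succ, pow_succ, hψmul, ih hn]
  have hψ : ∀ x, ψ x = 1 := fun x => by
    obtain ⟨y, rfl⟩ := AVTors.exists_pow_eq hr0 x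
    rw [hψpow y r hr0, hψr]
  -- finitely many points
  refine hYinf ?_
  have hfin := AVSupp.finite_range_pts hφ hPξ q hψ
  haveI : JacobsonSpace W.left := LocallyOfFiniteType.jacobsonSpace W.hom
  let Q : Set A.left := (fun a : 𝟙_ (Over (Spec (CommRingCat.of k))) ⟶ A => AVFac.ptOf a) ''
    Set.range (fun p : 𝟙_ (Over (Spec (CommRingCat.of k))) ⟶ W => p ≫ q)
  have hQ : IsClosed Q := by
    rw [← Set.biUnion_of_singleton Q]
    refine (hfin.image _).isClosed_biUnion fun z hz => ?_
    obtain ⟨a, -, rfl⟩ := hz
    exact AVAmple.isClosed_pt a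
  refine (hfin.image (fun a => AVFac.ptOf a)).subset ?_
  show (V : Set A.left) ⊆ Q
  rw [← hrange]
  exact AVFac.range_subset_of_pts q hQ fun p => ⟨p ≫ q, ⟨p, rfl⟩, rfl⟩

/-- Let k be an algebraically closed field, A an abelian variety over k (a proper smooth k-group scheme
with geometrically connected fibres), (A^t, φ) a given dual abelian variety for the fppf topology
with A^t an abelian variety, P an invertible module on A ×_k A^t whose class is a Poincaré class,
and for a k-rational point x of A^t let M_x denote the restriction of P along A = A × {x} → A ×_k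
A^t (these are the degree-zero line bundles on A). Let G be an object of D(O_A) which is bounded
with coherent cohomology sheaves and invariant under tensoring with degree-zero line bundles: G ⊗^L
M_x ≅ G for every x (the derived tensor functors are assumed to exist). Then every cohomology sheaf
H^i(G) has finite support. -/
theorem result (k : Type u) [Field k] [IsAlgClosed k]
    (A At : Over (Spec (CommRingCat.of k))) [GrpObj A] [IsProper A.hom] [Smooth A.hom] [GeometricallyConnected A.hom]
    [GrpObj At] [IsProper At.hom] [Smooth At.hom] [GeometricallyConnected At.hom]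
    (φ : ∀ T : Over (Spec (CommRingCat.of k)), PicF.Cl (PicF.XT A.hom T) → (T ⟶ At))
    (hφ : AbDual.IsDualAV Scheme.fppfPrecoverage A At φ)
    (P : (pullback A.hom At.hom).Modules) (hP : PicF.IsInvertible P)
    (hPξ : AbDual.IsPoincareCl A At φ (PicF.cl P))
    [∀ x : 𝟙_ (Over (Spec (CommRingCat.of k))) ⟶ At,
      DCoh.HasLTensorMod ((Scheme.Modules.pullback (CartesianMonoidalCategory.lift (𝟙 A) (toUnit A ≫ x)).left).obj P)]
    (G : DCoh.D A.left) (hG : DCoh.IsCohD G) (m n : ℤ) (hGm : DerivedCategory.IsGE G m) (hGn : DerivedCategory.IsLE G n)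
    (hinv : ∀ x : 𝟙_ (Over (Spec (CommRingCat.of k))) ⟶ At,
      Nonempty ((DCoh.LTensorMod ((Scheme.Modules.pullback (CartesianMonoidalCategory.lift (𝟙 A) (toUnit A ≫ x)).left).obj P)).obj G ≅ G))
    (i : ℤ) : (CohB1.support (DCoh.HD G i)).Finite := by
  haveI : GeometricallyIntegral A.hom := Groth.Agent.AVDual.geometricallyIntegral_of_smooth A
  haveI : GeometricallyIntegral At.hom := Groth.Agent.AVDual.geometricallyIntegral_of_smooth At
  refine finite_support φ hφ hP hPξ (hG i) fun x => ?_
  obtain ⟨e⟩ := hinv x
  obtain ⟨e'⟩ := Groth.Agent.AVSupp.nonempty_hd_ltm (PicClLib.isInvertible_pullback _ hP)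
    (M := (Scheme.Modules.pullback (CartesianMonoidalCategory.lift (𝟙 A) (toUnit A ≫ x)).left).obj P) G i
  exact ⟨e'.symm ≪≫ (DerivedCategory.homologyFunctor A.left.Modules i).mapIso e⟩

end Groth.Agent.S14148
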