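import Groth.Statements.S14152
import Groth.Agent.CurveFF.Degree
import Groth.Agent.CurvFam16.GenFF.Realize
import Groth.Agent.FFLib.Rational

set_option autoImplicit false
universe u
open CategoryTheory CategoryTheory.Limits AlgebraicGeometry
open Curves

namespace Groth.Agent.S14152

/-- Let k be an algebraically closed field and C a smooth proper integral curve over k (proper and
smooth over k, integral, of dimension one) of genus g ≥ 1, where g = dim_k H^1(C, O_C). Then for
every natural number r ≤ g there is an invertible O_C-module L of degree r, the degree being χ(L) −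
χ(O_C), with dim_k H^0(C, L) = 1. (The published statement gives a non-empty open set of r-tuples of
points (x_i) with h^0(O(Σ x_i)) = 1 and is placed in a chapter working in characteristic 0; the
existence of one such divisor, stated here, is what the row records, and the printed argument does
not use the characteristic.) -/
theorem result (k : Type u) [Field k] [IsAlgClosed k]
    (X : Scheme.{u}) [X.Over (Spec (CommRingCat.of k))] [IsIntegral X]
    [IsProper (X ↘ Spec (CommRingCat.of k))] [Smooth (X ↘ Spec (CommRingCat.of k))]
    (hdim : topologicalKrullDim ↥X = 1) (g : ℕ) (hg : Curv2.genus k X = g) (hg1 : 1 ≤ g)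
    (r : ℕ) (hr : r ≤ g) :
    ∃ L : X.Modules, PicF.IsInvertible L ∧ Curv2.deg k X L 1 = (r : ℤ) ∧
      Module.finrank k (Coh.HH X L 0) = 1 := by
  classical
  letI := CurvFam16.GenFF.ffAlg k X
  have hk := CurveCohLib.Clifford.finrank_h0_structure k (X := X)
  have hK := CurvFam16.GenFF.isFunctionField k X hdim hk
  have hgen := CurvFam16.GenFF.genus_eq k hdim hk
  rw [hg] at hgen
  obtain ⟨C, hC⟩ := FFLib.exists_canonical hK
  have hdeg1 : ∀ P : FunFld.Place k X.functionField, P.deg = 1 := fun P => FFLib.deg_eq_one hK.1 P
  suffices h : ∃ D : FunFld.Divisor k X.functionField, 0 ≤ D ∧ D.deg = r ∧ FunFld.ell D = 1 by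
    obtain ⟨D, hD, hd, hl⟩ := h
    obtain ⟨L, hL, h1, h2⟩ := CurvFam16.GenFF.exists_invertible_of_effective k hdim hk D hD
    exact ⟨L, hL, h1.trans hd, h2.trans hl⟩
  induction r with
  | zero => exact ⟨0, le_rfl, by simp, FFLib.ell_zero hK⟩
  | succ r ih =>
    obtain ⟨D, hD, hd, hl⟩ := ih (by omega)
    have hrr := FFLib.riemann_roch hK hC D
    rw [hl, hd, hgen] at hrr
    have hpos : 0 < FunFld.ell (C - D) := by omega
    haveI := FFLib.L_finite hK.1 (C - D)
    obtain ⟨⟨s, hsL⟩, hs⟩ := Module.finrank_pos_iff_exists_ne_zero.1 (show 0 < Module.finrank k (FunFld.L (C - D)) from hpos)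
    have hs0 : s ≠ 0 := fun h => hs (Subtype.ext h)
    have hfin : ((Function.support fun P : FunFld.Place k X.functionField => P.ord s) ∪
        ↑(C - D).support).Finite := (FFLib.finite_support_ord hK.1 s).union (Finset.finite_toSet _)
    haveI hinf : Infinite (FunFld.Place k X.functionField) := by
      haveI : Infinite (CurvFam16.GenFF.Pt X) := Infinite.of_not_fintype fun hfi => by
        obtain ⟨S, hS, hcl⟩ := CurveSection.exists_closed_finset k (X := X) hdim (Fintype.card (CurvFam16.GenFF.Pt X) + 1)
        let emb : S → CurvFam16.GenFF.Pt X := fun x => ⟨x.1, hcl x.1 x.2⟩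
        have := Fintype.card_le_of_injective emb fun a b h => Subtype.ext (congrArg (·.1) h :)
        rw [Fintype.card_coe, hS] at this
        omega
      exact Infinite.of_injective _ (CurvFam16.GenFF.pl k X hdim).injective
    obtain ⟨P, hP⟩ := hfin.infinite_compl.nonempty
    simp only [Set.mem_compl_iff, Set.mem_union, Function.mem_support, Finset.mem_coe,
      Finsupp.mem_support_iff, not_or, not_not] at hP
    refine ⟨D + Finsupp.single P 1, add_nonneg hD (by simp), ?_, ?_⟩
    · rw [FFLib.Divisor.deg_add, FFLib.Divisor.deg_single, hd, hdeg1]; push_cast; ring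
    have hrr' := FFLib.riemann_roch hK hC (D + Finsupp.single P 1)
    rw [FFLib.Divisor.deg_add, FFLib.Divisor.deg_single, hd, hdeg1, hgen] at hrr'
    have hlt : FunFld.ell (C - (D + Finsupp.single P 1)) < FunFld.ell (C - D) := by
      refine Submodule.finrank_lt_finrank_of_lt (lt_of_le_of_ne (FFLib.L_mono (sub_le_sub_left (le_add_of_nonneg_right (by simp)) C)) fun heq => ?_)
      have := FFLib.mem_L.1 (heq.symm ▸ hsL : s ∈ FunFld.L (C - (D + Finsupp.single P 1))) P
      rw [FFLib.val_le_exp_iff P hs0, Finsupp.sub_apply, Finsupp.add_apply, Finsupp.single_eq_same] at this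
      have h0 := hP.2
      rw [Finsupp.sub_apply] at h0
      omega
    have hge := (FFLib.ell_le_of_le hK.1 (show D ≤ D + Finsupp.single P 1 from le_add_of_nonneg_right (by simp))).1
    omega

end Groth.Agent.S14152
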