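import Groth.Statements.S14153
import Groth.Agent.ThetaPow.Power
import Groth.Agent.ThetaPow.ZeroIdeal
import Groth.Agent.AVTors.Torsion
import Groth.Agent.Lib.AVDual
import Groth.Agent.GrpSchLib.SmoothRegular
import Groth.Agent.RegUFD.Basic
import Groth.Agent.VarDim.Fibre
import Groth.Agent.S8120
-- import your own Groth.Agent.* helpers here

set_option autoImplicit false
universe u
open CategoryTheory CategoryTheory.Limits MonoidalCategory CartesianMonoidalCategory MonObj GrpObj AlgebraicGeometry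
open AbVar

set_option linter.style.haveILetI false
set_option backward.isDefEq.respectTransparency false
set_option backward.isDefEq.respectTransparency.types false

namespace Groth.Agent.S14153

open Groth.Agent.H23 Groth.Agent.AVPair Groth.Agent.AVDual
open scoped Groth.Agent.H23.PicMul

variable {k : Type u} [Field k] {A : Over (Spec (CommRingCat.of k))} [GrpObj A] [IsProper A.hom]
  [GeometricallyIntegral A.hom]

/-- Translations by torsion points fix powers of an invertible class. -/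
theorem pl_transl_pow {c : PicF.Cl A.left} (hc : PicF.IsInvertibleCl c)
    (x : 𝟙_ (Over (Spec (CommRingCat.of k))) ⟶ A) {m : ℕ} (hx : x ^ m = 1) :
    pl (𝟙 A * (toUnit A ≫ x)) (c ^ m) = c ^ m := by
  have hsq : ∀ a b : 𝟙_ (Over (Spec (CommRingCat.of k))) ⟶ A,
      pl (𝟙 A * (toUnit A ≫ (a * b))) c * c =
        pl (𝟙 A * (toUnit A ≫ a)) c * pl (𝟙 A * (toUnit A ≫ b)) c := by
    obtain ⟨M, rfl, hM⟩ := hc
    intro a b
    exact (PicGrp.cl_eq_cl_iff _ _).2 (S8120.result k A M hM a b)
  have h1 : pl (𝟙 A * (toUnit A ≫ (1 : 𝟙_ (Over (Spec (CommRingCat.of k))) ⟶ A))) c = c := by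
    rw [MonObj.comp_one, _root_.mul_one, pl_id]
  have key : ∀ n : ℕ, pl (𝟙 A * (toUnit A ≫ x ^ n)) c * c ^ n = pl (𝟙 A * (toUnit A ≫ x)) c ^ n * c := by
    intro n
    induction n with
    | zero => rw [pow_zero, pow_zero, pow_zero, h1, _root_.mul_one, _root_.one_mul]
    | succ n ih =>
      calc pl (𝟙 A * (toUnit A ≫ x ^ (n + 1))) c * c ^ (n + 1)
          = pl (𝟙 A * (toUnit A ≫ (x ^ n * x))) c * c * c ^ n := by rw [pow_succ x, pow_succ' c]; ac_rfl
        _ = pl (𝟙 A * (toUnit A ≫ x)) c * (pl (𝟙 A * (toUnit A ≫ x ^ n)) c * c ^ n) := by rw [hsq]; ac_rfl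
        _ = pl (𝟙 A * (toUnit A ≫ x)) c * (pl (𝟙 A * (toUnit A ≫ x)) c ^ n * c) := by rw [ih]
        _ = pl (𝟙 A * (toUnit A ≫ x)) c ^ (n + 1) * c := by rw [pow_succ]; ac_rfl
  have h := key m
  rw [hx, h1, mul_comm c] at h
  rw [map_pow]
  exact ((PicMul.isUnit_of_isInvertibleCl hc).mul_left_inj.1 h).symm

/-- The Mumford class restricted to a point fixing the class is trivial. -/
theorem phi_point {At : Over (Spec (CommRingCat.of k))} [GrpObj At]
    {φ : ∀ T : Over (Spec (CommRingCat.of k)), PicF.Cl (PicF.XT A.hom T) → (T ⟶ At)}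
    (hφ : AbDual.IsDualAV Scheme.fppfPrecoverage A At φ) {c d : PicF.Cl A.left}
    (hd : PicF.IsInvertibleCl d) (hcd : c * d = 1) {cΛ : PicF.Cl (A ⊗ A).left}
    (hΛ : cΛ = pl μ[A] c * pl (fst A A) d * pl (snd A A) d) (hΛ0 : PZ A A cΛ)
    (x : 𝟙_ (Over (Spec (CommRingCat.of k))) ⟶ A) (hx : pl (𝟙 A * (toUnit A ≫ x)) c = c) :
    x ≫ φ A cΛ = 1 := by
  rw [← phi_pl hφ x hΛ0]
  suffices H : pl (A ◁ x) cΛ = 1 by rw [H, phi_one hφ]
  have hm : (A ◁ x) ≫ μ[A] = fst A (𝟙_ _) ≫ (𝟙 A * (toUnit A ≫ x)) := by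
    rw [MonObj.mul_eq_mul, MonObj.comp_mul, whiskerLeft_fst, whiskerLeft_snd, MonObj.comp_mul,
      Category.comp_id, ← Category.assoc]
    congr 2
    exact toUnit_unique _ _
  have hs : pl ((A ◁ x) ≫ snd A A) d = 1 := by
    rw [whiskerLeft_snd, show snd A (𝟙_ (Over (Spec (CommRingCat.of k)))) = toUnit _ from toUnit_unique _ _]
    exact pl_const hd x
  rw [hΛ, map_mul, map_mul, pl_pl, pl_pl, pl_pl, hm, whiskerLeft_fst, hs, _root_.mul_one, ← pl_pl, hx,
    ← map_mul, hcd, map_one]

/-- Let k be an algebraically closed field of characteristic 0, A an abelian variety over k (a proper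
smooth k-group scheme with geometrically connected fibres), (A^t, φ) a given dual abelian variety
for the fppf topology with A^t an abelian variety, L an ample invertible O_A-module with an inverse
L', and Λ a module on A ×_k A isomorphic to the Mumford module m^*L ⊗ pr_1^*L' ⊗ pr_2^*L', whose
class is assumed algebraically trivial on every geometric fibre of the second projection. Assume
that φ_L = φ(Λ) : A → A^t is an isomorphism, i.e. L defines a principal polarization, and let s be a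
nonzero global section of L with zero scheme Θ ⊆ A (the theta divisor). If Θ is irreducible then Θ
is reduced. -/
theorem result (k : Type u) [Field k] [IsAlgClosed k] [CharZero k]
    (A At : Over (Spec (CommRingCat.of k))) [GrpObj A] [IsProper A.hom] [Smooth A.hom] [GeometricallyConnected A.hom]
    [GrpObj At] [IsProper At.hom] [Smooth At.hom] [GeometricallyConnected At.hom]
    (φ : ∀ T : Over (Spec (CommRingCat.of k)), PicF.Cl (PicF.XT A.hom T) → (T ⟶ At))
    (hφ : AbDual.IsDualAV Scheme.fppfPrecoverage A At φ)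
    (L : A.left.Modules) (hLa : CohB1.IsAmple L) (L' : A.left.Modules) (hL' : Nonempty (CohB1.tensorMod L L' ≅ Coh.structureModule A.left))
    (Λ : (PicF.XT A.hom A).Modules)
    (hΛ : Nonempty (Λ ≅ CohB1.tensorMod (CohB1.tensorMod ((Scheme.Modules.pullback μ[A].left).obj L)
      ((Scheme.Modules.pullback (fst A A).left).obj L')) ((Scheme.Modules.pullback (snd A A).left).obj L')))
    (hΛ0 : AbDual.IsPicZeroCl A.hom A (PicF.cl Λ))
    [IsIso (φ A (PicF.cl Λ))]
    (s : Coh.structureModule A.left ⟶ L) (hs : s ≠ 0)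
    [IrreducibleSpace ↥(PicF2.zeroScheme L s).subscheme] :
    IsReduced (PicF2.zeroScheme L s).subscheme := by
  classical
  haveI := AVTors.geometricallyIntegral_of_smooth A
  haveI : Nonempty A.left := ⟨η[A].left (IsLocalRing.closedPoint k)⟩
  haveI : IsIntegral A.left := GeometricallyIntegral.isIntegral_of_subsingleton A.hom
  haveI : IsLocallyNoetherian A.left := LocallyOfFiniteType.isLocallyNoetherian A.hom
  haveI : CompactSpace A.left := QuasiCompact.compactSpace_of_compactSpace A.hom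
  haveI : IsCommMonObj A := isCommMonObj_of_isProper_of_geometricallyIntegral A
  have hufd : ∀ x : A.left, IsDomain (A.left.presheaf.stalk x) ∧ UniqueFactorizationMonoid (A.left.presheaf.stalk x) :=
    fun x => by
      haveI := GrpSchLib.isRegularLocalRing_stalk_of_smooth A.hom x
      exact RegUFD.ufd _
  have hLi : PicF.IsInvertible L := hLa.1
  set I := PicF2.zeroScheme L s
  have hI : BlowUp.IsEffCartierIdeal I := ThetaPow.isEffCartier_zeroScheme hLi s hs
  obtain ⟨J, m, hJ, hJred, hm, hIJ⟩ := ThetaPow.exists_pow hufd I hI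
  rcases (show m = 1 ∨ 2 ≤ m by omega) with rfl | hm2
  · rw [pow_one] at hIJ
    rw [hIJ]; exact hJred
  exfalso
  -- dimension
  obtain ⟨η₀, hη₀, hmax, hdim⟩ := VarDim.exists_deg_eq_topologicalKrullDim A.hom
  set g := VarDim.deg A.hom η₀
  have hg : topologicalKrullDim A.left = (g : WithBot ℕ∞) := hdim
  have hgpos : g ≠ 0 := fun hg0 => by
    obtain ⟨z⟩ : Nonempty ↥I.subscheme := IrreducibleSpace.toNonempty
    have hpt : ∀ y : A.left, genericPoint A.left = y := fun y =>
      VarDim.eq_of_specializes_of_deg_le A.hom (genericPoint_specializes y)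
        ((hmax _).trans (hg0.le.trans (Nat.zero_le _)))
    have hy : I.subschemeι z ∈ I.support := by
      have := Set.mem_range_self (f := I.subschemeι) z
      rwa [Scheme.IdealSheafData.range_subschemeι] at this
    rw [← hpt (I.subschemeι z)] at hy
    obtain ⟨V, hV, c, hc, hcV⟩ := hI (genericPoint A.left)
    refine ((ThetaPow.st_eq_top_iff I V _ hV).1 ?_) hy
    rw [ThetaPow.st, hcV, Ideal.map_span, Set.image_singleton]
    haveI : Nonempty V.1 := ⟨⟨_, hV⟩⟩
    refine Ideal.span_singleton_eq_top.2 (isUnit_iff_ne_zero.2 ?_ : IsUnit (M := A.left.functionField) _)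
    exact (map_ne_zero_iff _ (germ_injective_of_isIntegral A.left (genericPoint A.left) hV)).2 (nonZeroDivisors.ne_zero hc)
  -- a nontrivial torsion point
  have hcard := AVTors.card_tor_of_invertible (A := A) hg (n := m) (Nat.cast_ne_zero.2 (by omega))
  obtain ⟨⟨x, hxm⟩, ⟨y, hym⟩, hxy⟩ : ∃ a b : AVTors.tor (𝟙_ (Over (Spec (CommRingCat.of k))) ⟶ A) m, a ≠ b := by
    haveI : Finite (AVTors.tor (𝟙_ (Over (Spec (CommRingCat.of k))) ⟶ A) m) :=
      Nat.finite_of_card_ne_zero (hcard.trans_ne (pow_ne_zero _ (by omega)))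
    haveI := Finite.one_lt_card_iff_nontrivial.1 (hcard ▸ Nat.one_lt_pow (by omega) (by omega))
    exact exists_pair_ne _
  -- classes
  set clJ := PicF.cl (ClSub.idealMod J) with hclJ
  have hclL : PicF.cl L * PicF.cl L' = 1 := (PicGrp.cl_eq_cl_iff _ _).2 hL'
  obtain ⟨hJm, hJmcl⟩ := ThetaPow.cl_idealMod_pow hJ m hm
  have hJL : clJ ^ m * PicF.cl L = 1 := by
    rw [hclJ, ← hJmcl, ← hIJ]
    exact (PicGrp.cl_eq_cl_iff _ _).2 (ThetaPow.nonempty_idealMod_zeroScheme hLi s hs)
  have hJi : PicF.IsInvertibleCl clJ := ⟨_, rfl, SurfInt.isInvertible_idealMod hJ⟩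
  have hL'i : PicF.IsInvertibleCl (PicF.cl L') := by
    obtain ⟨d, hd, hde⟩ := exists_inv (T := A.left) ⟨L, rfl, hLi⟩
    rwa [show PicF.cl L' = d from left_inv_eq_right_inv ((mul_comm _ _).trans hclL) hde]
  have hfix : ∀ w : 𝟙_ (Over (Spec (CommRingCat.of k))) ⟶ A, w ^ m = 1 →
      pl (𝟙 A * (toUnit A ≫ w)) (PicF.cl L) = PicF.cl L := fun w hw => by
    have h := congrArg (pl (𝟙 A * (toUnit A ≫ w))) hJL
    rw [map_mul, map_one, pl_transl_pow hJi w hw, ← hJL] at h
    exact (PicMul.isUnit_of_isInvertibleCl hJi).pow m |>.mul_right_inj.1 h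
  have hcl : PicF.cl Λ = pl μ[A] (PicF.cl L) * pl (fst A A) (PicF.cl L') * pl (snd A A) (PicF.cl L') :=
    (PicGrp.cl_eq_cl_iff _ _).2 hΛ
  have hker : ∀ w : 𝟙_ (Over (Spec (CommRingCat.of k))) ⟶ A, w ^ m = 1 → w ≫ φ A (PicF.cl Λ) = 1 :=
    fun w hw => phi_point hφ hL'i hclL hcl hΛ0 w (hfix w hw)
  refine hxy (Subtype.ext ((cancel_mono (φ A (PicF.cl Λ))).1 ?_))
  rw [hker x hxm, hker y hym]

end Groth.Agent.S14153
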