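import Groth.Statements.S14155
import Groth.Agent.BunLib68.GenusOne
-- import your own Groth.Agent.* helpers here

set_option autoImplicit false
universe u
open CategoryTheory CategoryTheory.Limits AlgebraicGeometry
open VBCurve

namespace Groth.Agent.S14155

set_option linter.style.haveILetI false
set_option linter.unusedVariables false
open Groth.Agent.CurveBundle Groth.Agent.CurveSlope Groth.Agent.CurveStable Groth.Agent.BunLib68

/-- Let k be an algebraically closed field, X a smooth proper integral curve over k (proper and smooth
over k, integral, of dimension one) of genus one, i.e. dim_k H^1(X, O_X) = 1 (an elliptic curve once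
a base point is chosen), and F a finite locally free O_X-module of rank r ≥ 1 which is
indecomposable (nonzero, and in any decomposition F ≅ F₁ ⊕ F₂ one summand is zero), of degree d =
χ(F) − r·χ(O_X). Then F is stable — deg G · r < d · r' for every finite locally free submodule G of
F of rank r' ≥ 1 whose inclusion is not an isomorphism — if and only if gcd(d, r) = 1. (The
published corollary also identifies stability with simplicity in two senses; those equivalences are
not restated.) -/
theorem result (k : Type u) [Field k] [IsAlgClosed k]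
    (X : Scheme.{u}) [X.Over (Spec (CommRingCat.of k))] [IsIntegral X]
    [IsProper (X ↘ Spec (CommRingCat.of k))] [Smooth (X ↘ Spec (CommRingCat.of k))]
    (hdim : topologicalKrullDim ↥X = 1) (hg : Curv2.genus k X = 1)
    (r : ℕ) (hr : 0 < r) (F : X.Modules) (hF : FlatMod.IsFinLocFreeOfRank r F)
    (hind : ¬ IsZero F ∧ ∀ (F₁ F₂ : X.Modules), Nonempty (F ≅ F₁ ⊞ F₂) → IsZero F₁ ∨ IsZero F₂) :
    (∀ (G : X.Modules) (r' : ℕ) (i : G ⟶ F), Mono i → 0 < r' → FlatMod.IsFinLocFreeOfRank r' G → (¬ IsIso i) →
      Curv2.deg k X G r' * (r : ℤ) < Curv2.deg k X F r * (r' : ℤ)) ↔ Int.gcd (Curv2.deg k X F r) (r : ℤ) = 1 := by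
  have hFf := isFinLocFree_of_rank hF
  have hd := deg_eq_dg k hF
  have hrk := rk_eq hF
  have hO := CurveCohLib.finrank_h0_eq_one k X
  constructor
  · intro hst
    rw [hd]
    refine gcd_of_st k hdim hO hg r F hFf hrk hr fun K i hi hK hpos hlt => ?_
    have hKr := isFinLocFreeOfRank_rk hK
    have h := hst K (rk K) i hi hpos hKr fun hiso => by
      haveI := hiso
      rw [rk_congr (asIso i)] at hlt
      omega
    rwa [deg_eq_dg k hKr, hd, ← hrk] at h
  · intro hgcd G r' i hi hr' hG hni
    haveI := hi
    have hs := ss_of_indecomposable k hdim hO hg hFf hind.2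
    have hst := st_of_gcd k hdim hs (by rw [hrk, ← hd]; exact hgcd)
    have hGf := isFinLocFree_of_rank hG
    rw [hd, deg_eq_dg k hG, ← hrk, ← rk_eq hG]
    have hle := rk_le_of_mono k i (coh_of_free k hFf)
    rcases lt_or_eq_of_le hle with h | h
    · exact hst G i hi hGf (by rw [rk_eq hG]; exact hr') h
    · have := dg_lt_of_rk_eq k hdim.le i (coh_of_free k hGf) (coh_of_free k hFf) h hni
      rw [h]
      exact mul_lt_mul_of_pos_right this (by rw [hrk]; exact_mod_cast hr)

end Groth.Agent.S14155
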