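import Groth.Statements.S14159
import Groth.Agent.AgPolPoinc.Basic
-- import your own Groth.Agent.* helpers here

set_option autoImplicit false
universe u
open CategoryTheory CategoryTheory.Limits MonoidalCategory CartesianMonoidalCategory MonObj AlgebraicGeometry
open AgPol

set_option backward.isDefEq.respectTransparency false
set_option backward.isDefEq.respectTransparency.types false
set_option maxHeartbeats 800000

namespace Groth.Agent.S14159

open Groth.Agent.H23 Groth.Agent.AgPolPoinc
open scoped Groth.Agent.H23.PicMul CategoryTheory.Obj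


/-- Let S be a locally Noetherian scheme, A a projective abelian scheme over S of relative dimension g
with commutative group law, (At, φ) a commutative group scheme with data presenting it as the dual
of A for the fppf topology, ξ a Poincaré class on A ×_S At (normalised along the unit section of A)
and lam : A ⟶ At a polarisation. If L is a module on A whose isomorphism class is the pull back of ξ
along the graph (1, lam) : A ⟶ A ×_S At, then lam · lam (twice lam, in the group of A-valued points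
of At) is the homomorphism attached to L through φ. -/
theorem result (S : Scheme.{u}) [IsLocallyNoetherian S] (A At : Over S) [GrpObj A] [IsCommMonObj A]
    [GrpObj At] [IsCommMonObj At] (g : ℕ) (hA : AgPol.IsAbSch A g) (hproj : RelProj.IsProjective A.hom)
    (φ : AgPol.DualMap A At) (hdual : AbDual.IsDualAV Scheme.fppfPrecoverage A At φ)
    (ξ : PicF.Cl (PicF.XT A.hom At)) (hξ : AbDual.IsPoincareCl A At φ ξ)
    (lam : A ⟶ At) (hpol : AgPol.IsPolarization A At φ lam) (L : A.left.Modules)
    (hL : PicF.cl L = PicF.pullCl (pullback.lift (𝟙 A.left) (lam).left ((Category.id_comp A.hom).trans (Over.w (lam)).symm)) ξ) :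
    AgPol.IsLambda A At φ L (lam * lam) := by
  haveI := hA.smooth
  haveI := hA.proper
  haveI := hA.geomConnected
  haveI : IsMonHom lam := hpol.1
  have hl : PicF.cl L = pls (lift (𝟙 A) lam) ξ := hL
  have hLi : PicF.IsInvertibleCl (PicF.cl L : PicF.Cl A.left) :=
    hl ▸ PicClLib.isInvertibleCl_pullCl _ (AbDualBase.pz_invertible hξ.1)
  let l : PicF.Cl A.left := PicF.cl L
  obtain ⟨d, hd, hdinv⟩ := AVPair.exists_inv (PicMul.isInvertibleCl_mul
    (PicClLib.isInvertibleCl_pullCl (fst A A).left hLi) (PicClLib.isInvertibleCl_pullCl (snd A A).left hLi))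
  obtain ⟨N, hNd, hNi⟩ := PicMul.isInvertibleCl_mul (PicClLib.isInvertibleCl_pullCl μ[A].left hLi) hd
  have hN : AgPol.IsLambdaSheaf μ[A].left (fst A A).left (snd A A).left L N := by
    refine (PicGrp.cl_eq_cl_iff _ _).1 ?_
    rw [PicMul.cl_tensor, PicMul.cl_tensor, hNd, _root_.mul_assoc, _root_.mul_assoc, mul_comm d]
    exact (congrArg (PicF.pullCl μ[A].left (PicF.cl L) * ·) hdinv).trans (_root_.mul_one _)
  let n : PicF.Cl (PicF.XT A.hom A) := PicF.cl N
  obtain ⟨e, he, hle⟩ := AVPair.exists_inv (PicClLib.isInvertibleCl_pullCl η[A].left hLi)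
  have hnz : AbDual.IsPicZeroCl A.hom A n := by
    refine AbDualBase.pz_of_slice η[A] ⟨N, rfl, hNi⟩ he ?_
    rw [← Hom.one_def]
    have h := lambda_eq hN (𝟙 A) (1 : A ⟶ A)
    rw [_root_.mul_one (𝟙 A)] at h
    have hone : pls (1 : A ⟶ A) l = PicF.pullCl A.hom (PicF.pullCl η[A].left l) := by
      rw [Hom.one_def, ← pls_pls]
      rfl
    rw [hone] at h
    have h1 : pls (lift (𝟙 A) (1 : A ⟶ A)) n * PicF.pullCl A.hom (PicF.pullCl η[A].left l) = 1 :=
      (isUnit_pls (𝟙 A) hLi).mul_right_cancel (((mul_right_comm _ _ _).trans h).trans (_root_.one_mul _).symm)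
    refine AVPair.eq_of_mul_inv (e := PicF.pullCl A.hom (PicF.pullCl η[A].left l)) ?_ h1
    rw [← PicMul.pullCl_mul, mul_comm e, hle, PicMul.pullCl_one]
  refine ⟨N, hNi, hN, ?_⟩
  have h1 : η[A] ≫ φ A n = η[At] := by
    rw [← hdual.relPic.natural _ _ η[A] n hnz]
    have hc : PicF.pullCl (PicF.XTmap A.hom η[A]) n = PicF.pullCl (PicF.XTproj A.hom (𝟙_ (Over S))) e := by
      have hh : PicF.XTmap A.hom η[A] = (lift (fst A (𝟙_ (Over S))) (1 : A ⊗ 𝟙_ (Over S) ⟶ A)).left := by
        refine pullback.hom_ext ?_ ?_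
        · show _ = (lift (fst A (𝟙_ (Over S))) 1).left ≫ (fst A A).left
          rw [← Over.comp_left, lift_fst]
          exact (pullback.lift_fst _ _ _).trans (Category.comp_id _)
        · show _ = (lift (fst A (𝟙_ (Over S))) 1).left ≫ (snd A A).left
          rw [← Over.comp_left, lift_snd, Hom.one_def, toUnit_unique (toUnit _) (snd A (𝟙_ (Over S)))]
          exact pullback.lift_snd _ _ _
      rw [hh]
      have h := lambda_eq hN (fst A (𝟙_ (Over S))) (1 : A ⊗ 𝟙_ (Over S) ⟶ A)
      rw [_root_.mul_one (fst A (𝟙_ (Over S)))] at h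
      have hone : pls (1 : A ⊗ 𝟙_ (Over S) ⟶ A) l =
          PicF.pullCl (PicF.XTproj A.hom (𝟙_ (Over S))) (PicF.pullCl η[A].left l) := by
        rw [Hom.one_def, toUnit_unique (toUnit _) (snd A (𝟙_ (Over S))), ← pls_pls]
        rfl
      rw [hone] at h
      refine AVPair.eq_of_mul_inv (e := PicF.pullCl (PicF.XTproj A.hom (𝟙_ (Over S))) (PicF.pullCl η[A].left l)) ?_
        ((isUnit_pls (fst A (𝟙_ (Over S))) hLi).mul_right_cancel
          (((mul_right_comm _ _ _).trans h).trans (_root_.one_mul _).symm))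
      rw [← PicMul.pullCl_mul, mul_comm e, hle, PicMul.pullCl_one]
    rw [hc, AbDualBase.phi_base hdual he (hc ▸ AbDualBase.pz_xtMap η[A] hnz), Hom.one_def,
      toUnit_unique (toUnit (𝟙_ (Over S))) (𝟙 _), Category.id_comp]
  have hlam1 : η[A] ≫ lam = 1 := by
    rw [IsMonHom.one_hom, Hom.one_def, toUnit_unique (toUnit (𝟙_ (Over S))) (𝟙 _), Category.id_comp]
  refine div_eq_one.1 (AbDualBase.eq_one_of_geometric (φ A n / (lam * lam)) ?_ ?_)
  · rw [GrpObj.comp_div, MonObj.comp_mul, hlam1, h1, _root_.one_mul, div_one]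
  intro Ω _ _ σ x
  rw [GrpObj.comp_div, div_eq_one, MonObj.comp_mul, ← hdual.relPic.natural _ _ x n hnz]
  let c := PicF.pullCl (PicF.XTmap A.hom (x ≫ lam)) ξ
  have hc : AbDual.IsPicZeroCl A.hom (Over.mk σ) c := AbDualBase.pz_xtMap _ hξ.1
  suffices e : PicF.pullCl (PicF.XTmap A.hom x) n = c * c by
    rw [e, AbDualBase.phi_mul hdual hc hc, phi_xtMap hdual hξ σ]
  obtain ⟨M, hamp, hlamM⟩ := hpol.2 Ω σ
  have hM : PicF.IsInvertible M := hamp.1
  let X := (Over.pullback σ).obj A
  let u := dn σ (𝟙 X)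
  let v := toPt σ X ≫ x
  let b := up σ v
  have hv : dn σ b = v := dn_up σ v
  have hpr : ∀ {W : Over (Spec (CommRingCat.of Ω))} (f : W ⟶ X),
      pls (dn σ f) l = pr σ (pls (A ◁ lam) ξ) f f := fun f => by
    rw [pr, pls_pls, lift_whiskerLeft]
    show pls (dn σ f) l = _
    rw [show l = pls (lift (𝟙 A) lam) ξ from hl, pls_pls, comp_lift, Category.comp_id]
  have key := lambda_eq hN u v
  rw [← hv, show u = dn σ (𝟙 X) from rfl, ← dn_mul, hpr, hpr, hpr, graph_lambda hdual hξ lam σ hM hlamM] at key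
  have hu : ∀ {W : Over (Spec (CommRingCat.of Ω))} (f : W ⟶ X), IsUnit (pr σ (pls (A ◁ lam) ξ) f f) :=
    fun f => hpr f ▸ isUnit_pls _ hLi
  have key' := (hu (𝟙 X)).mul_right_cancel ((hu b).mul_right_cancel key)
  rw [hv, pr, hv, pls_pls, lift_whiskerLeft, show v ≫ lam = toPt σ X ≫ x ≫ lam from Category.assoc _ _ _] at key'
  show _ = PicF.pullCl _ ξ * PicF.pullCl _ ξ
  rw [xtMap_left, xtMap_left]
  exact key'

end Groth.Agent.S14159
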