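import Groth.Statements.S14160
import Groth.Agent.AgPolPoinc.Pow
import Groth.Agent.AVTors.Torsion
-- import your own Groth.Agent.* helpers here

set_option autoImplicit false
universe u
open CategoryTheory CategoryTheory.Limits MonoidalCategory CartesianMonoidalCategory MonObj AlgebraicGeometry
open AgPol

set_option backward.isDefEq.respectTransparency false
set_option backward.isDefEq.respectTransparency.types false
set_option maxHeartbeats 800000

namespace Groth.Agent.S14160

open Groth.Agent.H23 Groth.Agent.AgPolPoinc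
open scoped Groth.Agent.H23.PicMul CategoryTheory.Obj


/-- Let S be a locally Noetherian scheme, A a projective abelian scheme over S of relative dimension g
with commutative group law, (At, φ) a commutative group scheme with data presenting it as the dual
of A for the fppf topology, ξ a Poincaré class on A ×_S At, and k ≥ 1. If lam₁, lam₂ : A ⟶ At are
polarisations such that ξ pulls back to the same class on A along the graphs of lam₁ ^ k and of lam₂
^ k (powers in the group of A-valued points of At), then lam₁ = lam₂. (The published statement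
claims uniqueness among all homomorphisms into the dual; on the square E × E of an elliptic curve
with its product principal polarisation lam₀, the homomorphism α(x, y) = lam₀(y, −x) has lam₀ + α ≠
lam₀ while the graphs of k·lam₀ and k·(lam₀ + α) pull the Poincaré class back to isomorphic sheaves,
so this row asks lam₁, lam₂ to be polarisations, which is the case the printed argument covers; k =
0 is excluded since both pull backs are then along the unit section.) -/
theorem result (S : Scheme.{u}) [IsLocallyNoetherian S] (A At : Over S) [GrpObj A] [IsCommMonObj A]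
    [GrpObj At] [IsCommMonObj At] (g : ℕ) (hA : AgPol.IsAbSch A g) (hproj : RelProj.IsProjective A.hom)
    (φ : AgPol.DualMap A At) (hdual : AbDual.IsDualAV Scheme.fppfPrecoverage A At φ)
    (ξ : PicF.Cl (PicF.XT A.hom At)) (hξ : AbDual.IsPoincareCl A At φ ξ) (k : ℕ) (hk : 1 ≤ k)
    (lam₁ lam₂ : A ⟶ At) (h₁ : AgPol.IsPolarization A At φ lam₁) (h₂ : AgPol.IsPolarization A At φ lam₂)
    (heq : PicF.pullCl (pullback.lift (𝟙 A.left) (lam₁ ^ k).left ((Category.id_comp A.hom).trans (Over.w (lam₁ ^ k)).symm)) ξ = PicF.pullCl (pullback.lift (𝟙 A.left) (lam₂ ^ k).left ((Category.id_comp A.hom).trans (Over.w (lam₂ ^ k)).symm)) ξ) :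
    lam₁ = lam₂ := by
  haveI := hA.smooth
  haveI := hA.proper
  haveI := hA.geomConnected
  haveI : IsMonHom lam₁ := h₁.1
  haveI : IsMonHom lam₂ := h₂.1
  let l : PicF.Cl A.left := pls (lift (𝟙 A) (lam₁ ^ k)) ξ
  have hl : l = pls (lift (𝟙 A) (lam₂ ^ k)) ξ := heq
  have hli : PicF.IsInvertibleCl l := PicClLib.isInvertibleCl_pullCl _ (AbDualBase.pz_invertible hξ.1)
  refine div_eq_one.1 (AbDualBase.eq_one_of_geometric (lam₁ / lam₂) ?_ ?_)
  · rw [GrpObj.comp_div, IsMonHom.one_hom, IsMonHom.one_hom, div_self', Hom.one_def,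
      toUnit_unique (toUnit (𝟙_ (Over S))) (𝟙 _), Category.id_comp]
  intro Ω _ _ σ x
  let X := (Over.pullback σ).obj A
  haveI : IsProper X.hom := inferInstanceAs (IsProper (pullback.snd A.hom σ))
  haveI := AbDualBase.geometricallyIntegral_fibre σ A
  have key : ∀ y : Over.mk σ ⟶ A, (y ≫ lam₁) ^ (2 * k) = (y ≫ lam₂) ^ (2 * k) := by
    intro y
    obtain ⟨M₁, ha₁, hM₁⟩ := h₁.2 Ω σ
    obtain ⟨M₂, ha₂, hM₂⟩ := h₂.2 Ω σ
    have e1 := point_pow hdual hξ lam₁ σ (k := k) (l := l) rfl ha₁.1 hM₁ y
    have e2 := point_pow hdual hξ lam₂ σ (k := k) (l := l) hl ha₂.1 hM₂ y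
    rw [e2] at e1
    have e3 := (isUnit_pls (dn σ (𝟙 X)) hli).mul_right_cancel
      ((isUnit_pls (toPt σ X ≫ y) hli).mul_right_cancel e1)
    rw [pls, pls, ← Category.assoc (toPt σ X) y lam₁, ← Category.assoc (toPt σ X) y lam₂] at e3
    have f1 : AbDual.IsPicZeroCl A.hom (Over.mk σ) (PicF.pullCl (PicF.XTmap A.hom (y ≫ lam₁)) ξ) :=
      AbDualBase.pz_xtMap _ hξ.1
    have f2 : AbDual.IsPicZeroCl A.hom (Over.mk σ) (PicF.pullCl (PicF.XTmap A.hom (y ≫ lam₂)) ξ) :=
      AbDualBase.pz_xtMap _ hξ.1
    rw [← phi_xtMap hdual hξ σ (y ≫ lam₁), ← phi_xtMap hdual hξ σ (y ≫ lam₂),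
      ← AbSchX.Transpose.phi_pow σ hdual f1, ← AbSchX.Transpose.phi_pow σ hdual f2]
    refine congrArg (φ _) ?_
    rw [xtMap_left, xtMap_left]
    simp only [Category.assoc] at e3
    exact e3.symm
  let e : Over.mk σ ⟶ (Over.map σ).obj (𝟙_ (Over (Spec (CommRingCat.of Ω)))) :=
    Over.homMk (𝟙 _) ((Category.id_comp _).trans (Category.id_comp σ))
  let e' : (Over.map σ).obj (𝟙_ (Over (Spec (CommRingCat.of Ω)))) ⟶ Over.mk σ :=
    Over.homMk (𝟙 _) ((Category.id_comp _).trans (Category.id_comp σ).symm)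
  obtain ⟨z, hz⟩ := AVTors.exists_pow_eq (A := X) (n := 2 * k) (by omega) (up σ (e' ≫ x))
  have hy : (e ≫ dn σ z) ^ (2 * k) = x := by
    rw [← MonObj.comp_pow, ← dn_pow, hz, dn_up, ← Category.assoc]
    have : e ≫ e' = 𝟙 _ := Over.OverMorphism.ext (Category.id_comp _)
    rw [this, Category.id_comp]
  rw [GrpObj.comp_div, div_eq_one, ← hy, MonObj.pow_comp, MonObj.pow_comp, key]

end Groth.Agent.S14160
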