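import Groth.Statements.S14184
import Groth.Agent.ZH85.LocSym.Recip

set_option autoImplicit false
set_option linter.style.haveILetI false
universe u
open CategoryTheory AlgebraicGeometry
open LocSym

namespace Groth.Agent.S14184

/-- Let k be an algebraically closed field and X a smooth proper integral curve over k (structure
morphism c, dimension one); points are k-points and ord_x is the valuation at x. Let n ≥ 1, let Z be
a finite set of points, let f₁, f₂ be nonzero rational functions and D₁, D₁′, D₂ divisors (finitely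
supported integer-valued functions on points) with n·D₁ = div(f₁) + D₁′, D₁′ supported on Z, n·D₂ =
div(f₂), f₂ taking the value 1 at every point of Z, and div(f₁) and D₂ with disjoint supports. Let
v₁(x) ∈ kˣ be the value of f₁ at each point of the support of D₂ and v₂(x) ∈ kˣ the value of f₂ at
each point of the support of D₁. Then the quotient of ∏_x v₁(x)^{D₂(x)} by ∏_x v₂(x)^{D₁(x)} is an
n-th root of unity: its n-th power is 1. (This quotient f₁(D₂)/f₂(D₁) is the generalised Weil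
pairing of the classes of (D₁, D₁′, f₁) and D₂; the published statement also normalises f₁, f₂ at a
base point, which is not needed for this assertion.) -/
theorem result
    (k : Type u) [Field k] [IsAlgClosed k] (X : Scheme.{u}) [IsIntegral X]
    (c : X ⟶ Spec (CommRingCat.of k)) [IsProper c] [Smooth c] (hdim : topologicalKrullDim X = 1)
    (n : ℕ) (hn : 1 ≤ n) (Z : Finset (LocSym.Pt c))
    (f₁ f₂ : X.functionField) (hf₁ : f₁ ≠ 0) (hf₂ : f₂ ≠ 0)
    (D₁ D₁' D₂ : LocSym.Pt c →₀ ℤ)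
    (hD₁ : ∀ x : LocSym.Pt c, (n : ℤ) * D₁ x = x.ord f₁ + D₁' x) (hD₁' : D₁'.support ⊆ Z)
    (hD₂ : ∀ x : LocSym.Pt c, (n : ℤ) * D₂ x = x.ord f₂)
    (hf₂Z : ∀ x ∈ Z, LocSym.HasValueAt x f₂ 1)
    (hdisj : ∀ x : LocSym.Pt c, x.ord f₁ = 0 ∨ D₂ x = 0)
    (v₁ v₂ : LocSym.Pt c → kˣ)
    (hv₁ : ∀ x ∈ D₂.support, LocSym.HasValueAt x f₁ (v₁ x : k))
    (hv₂ : ∀ x ∈ D₁.support, LocSym.HasValueAt x f₂ (v₂ x : k)) :
    ((D₂.prod fun x e => v₁ x ^ e) / (D₁.prod fun x e => v₂ x ^ e)) ^ n = 1 := by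
  classical
  have hval : ∀ (F : X.functionField), F ≠ 0 → ∀ x : LocSym.Pt c, x.ord F = 0 →
      ∃ a : kˣ, LocSym.HasValueAt x F (a : k) := fun F hF x hx => LocSymLib.exists_unit_value c hdim x hF hx
  let vf : LocSym.Pt c → kˣ := fun x => if h : x.ord f₁ = 0 then (hval f₁ hf₁ x h).choose else 1
  let vg : LocSym.Pt c → kˣ := fun x => if h : x.ord f₂ = 0 then (hval f₂ hf₂ x h).choose else 1
  have hvf : ∀ x : LocSym.Pt c, x.ord f₁ = 0 → LocSym.HasValueAt x f₁ (vf x : k) := fun x h => by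
    simp only [vf, dif_pos h]; exact (hval f₁ hf₁ x h).choose_spec
  have hvg : ∀ x : LocSym.Pt c, x.ord f₂ = 0 → LocSym.HasValueAt x f₂ (vg x : k) := fun x h => by
    simp only [vg, dif_pos h]; exact (hval f₂ hf₂ x h).choose_spec
  have hd : ∀ x : LocSym.Pt c, x.ord f₁ = 0 ∨ x.ord f₂ = 0 := fun x =>
    (hdisj x).imp_right fun h => by rw [← hD₂ x, h, mul_zero]
  have hrec := ZH85.LSym.weil_disjoint hdim hf₁ hf₂ hd vf vg hvf hvg
  have hv1 : ∀ x ∈ D₂.support, v₁ x = vf x := fun x hx => Units.ext (LocSymLib.value_unique c hdim x (hv₁ x hx)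
    (hvf x ((hdisj x).resolve_right (Finsupp.mem_support_iff.1 hx))))
  have hv2 : ∀ x ∈ D₁.support, v₂ x = vg x := fun x hx => Units.ext (LocSymLib.value_unique c hdim x (hv₂ x hx)
    (hvg x (LocSymLib.ord_eq_zero_of_value c hdim x (v₂ x).ne_zero (hv₂ x hx)).2))
  have hZ : ∀ x : LocSym.Pt c, vg x ^ D₁' x = 1 := fun x => by
    by_cases h : D₁' x = 0
    · rw [h, zpow_zero]
    have hxZ := hD₁' (Finsupp.mem_support_iff.2 h)
    have h0 := (LocSymLib.ord_eq_zero_of_value c hdim x one_ne_zero (hf₂Z x hxZ)).2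
    have : vg x = 1 := Units.ext (LocSymLib.value_unique c hdim x (hvg x h0) (hf₂Z x hxZ))
    rw [this, one_zpow]
  have e1 : (D₂.prod fun x e => v₁ x ^ e) ^ n = ∏ᶠ x : LocSym.Pt c, vf x ^ x.ord f₂ := by
    rw [Finsupp.prod, ← Finset.prod_pow, finprod_eq_prod_of_mulSupport_subset _ (s := D₂.support)]
    · refine Finset.prod_congr rfl fun x hx => ?_
      rw [hv1 x hx, ← zpow_natCast, ← zpow_mul, ← hD₂ x, mul_comm]
    · intro x hx
      rw [Finset.mem_coe, Finsupp.mem_support_iff]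
      intro h
      exact hx (by simp only [← hD₂ x, h, mul_zero, zpow_zero])
  have e2 : (D₁.prod fun x e => v₂ x ^ e) ^ n = ∏ᶠ x : LocSym.Pt c, vg x ^ x.ord f₁ := by
    have hfun : (fun x : LocSym.Pt c => vg x ^ x.ord f₁) = fun x => vg x ^ ((n : ℤ) * D₁ x) := funext fun x => by
      rw [hD₁ x, zpow_add, hZ x, mul_one]
    rw [hfun, Finsupp.prod, ← Finset.prod_pow, finprod_eq_prod_of_mulSupport_subset _ (s := D₁.support)]
    · refine Finset.prod_congr rfl fun x hx => ?_
      rw [hv2 x hx, ← zpow_natCast, ← zpow_mul, mul_comm]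
    · intro x hx
      rw [Finset.mem_coe, Finsupp.mem_support_iff]
      intro h
      exact hx (by simp only [h, mul_zero, zpow_zero])
  rw [div_pow, e1, e2, hrec, div_self']

end Groth.Agent.S14184
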