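import Groth.Statements.S14188
import Groth.Agent.FlatGenHx.Basic
import Mathlib.AlgebraicGeometry.Sites.Fpqc

set_option autoImplicit false
set_option backward.isDefEq.respectTransparency false
universe u
open CategoryTheory CategoryTheory.Limits AlgebraicGeometry
open FlatMor

namespace Groth.Agent.S14188

/-- Let T be an integral scheme with generic point η, let Y and Z be schemes flat over T with Z
separated over T, and let ψ : Y_η → Z be a T-morphism from the generic fibre Y_η = Y ×_T Spec
O_{T,η} (equivalently, an η-morphism Y_η → Z_η). Let gr : Y_η → Y ×_T Z be the graph of ψ, the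
morphism whose components are the projection Y_η → Y and ψ, and let Γ ⊆ Y ×_T Z be the
scheme-theoretic image of gr (the schematic closure of the graph). Then ψ extends to a T-morphism φ
: Y → Z, meaning that the composite Y_η → Y → Z is ψ, if and only if the composite of the inclusion
Γ → Y ×_T Z with the first projection is an isomorphism Γ ≅ Y. -/
theorem result (T Y Z : Scheme.{u}) [IsIntegral T]
    (pY : Y ⟶ T) (pZ : Z ⟶ T) [Flat pY] [Flat pZ] [IsSeparated pZ]
    (ψ : pullback pY (T.fromSpecStalk (genericPoint T)) ⟶ Z)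
    (hψ : ψ ≫ pZ = pullback.fst pY (T.fromSpecStalk (genericPoint T)) ≫ pY)
    (gr : pullback pY (T.fromSpecStalk (genericPoint T)) ⟶ pullback pY pZ)
    (hgr₁ : gr ≫ pullback.fst pY pZ = pullback.fst pY (T.fromSpecStalk (genericPoint T)))
    (hgr₂ : gr ≫ pullback.snd pY pZ = ψ) :
    (∃ φ : Y ⟶ Z, φ ≫ pZ = pY ∧ pullback.fst pY (T.fromSpecStalk (genericPoint T)) ≫ φ = ψ) ↔
      IsIso (gr.imageι ≫ pullback.fst pY pZ) := by
  constructor
  · rintro ⟨φ, hφ, hφψ⟩
    let s : Y ⟶ pullback pY pZ := pullback.lift (𝟙 Y) φ (by simp [hφ])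
    have hs : s ≫ pullback.fst pY pZ = 𝟙 Y := pullback.lift_fst _ _ _
    have hgr : gr = Groth.Agent.FlatGenHx.jgen pY ≫ s := by
      apply pullback.hom_ext
      · rw [hgr₁, Category.assoc, hs, Category.comp_id]
      · rw [hgr₂, Category.assoc, pullback.lift_snd, hφψ]
    haveI : IsClosedImmersion (s ≫ pullback.fst pY pZ) := by rw [hs]; infer_instance
    haveI : IsClosedImmersion s := IsClosedImmersion.of_comp s (pullback.fst pY pZ)
    have hker : gr.ker = s.ker := by
      refine le_antisymm (fun U t ht => ?_) (hgr ▸ Scheme.Hom.le_ker_comp _ s)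
      rw [s.ker_apply, RingHom.mem_ker]
      refine Groth.Agent.FlatGenHx.app_eq_zero pY _ _ ?_
      have h1 := gr.ideal_ker_le U ht
      rw [RingHom.mem_ker, hgr] at h1
      rw [Scheme.Hom.comp_app, CommRingCat.comp_apply] at h1
      exact h1
    have key : ∀ (I : (pullback pY pZ).IdealSheafData), I = s.ker → IsIso (I.subschemeι ≫ pullback.fst pY pZ) := by
      rintro I rfl
      haveI : IsIso (s.toImage ≫ s.imageι ≫ pullback.fst pY pZ) := by
        rw [← Category.assoc, Scheme.Hom.toImage_imageι, hs]; infer_instance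
      exact IsIso.of_isIso_comp_left s.toImage (s.imageι ≫ pullback.fst pY pZ)
    exact key _ hker
  · intro h
    refine ⟨inv (gr.imageι ≫ pullback.fst pY pZ) ≫ gr.imageι ≫ pullback.snd pY pZ, ?_, ?_⟩
    · rw [Category.assoc, Category.assoc, ← pullback.condition, IsIso.inv_comp_eq, Category.assoc]
    · have h1 : gr.toImage ≫ gr.imageι ≫ pullback.fst pY pZ =
          pullback.fst pY (T.fromSpecStalk (genericPoint T)) := by
        rw [← Category.assoc, Scheme.Hom.toImage_imageι, hgr₁]
      rw [← h1, Category.assoc, Category.assoc, ← Category.assoc (gr.imageι) (pullback.fst pY pZ),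
        IsIso.hom_inv_id_assoc, ← Category.assoc, Scheme.Hom.toImage_imageι, hgr₂]

end Groth.Agent.S14188
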