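import Groth.Statements.S14189
import Groth.Agent.FlatGenHx.Basic
import Mathlib.AlgebraicGeometry.Sites.Fpqc

set_option autoImplicit false
set_option backward.isDefEq.respectTransparency false
universe u
open CategoryTheory CategoryTheory.Limits AlgebraicGeometry
open FlatMor

namespace Groth.Agent.S14189

/-- Let T be an integral scheme with generic point η, let Y and Z be schemes flat over T with Z
separated over T, and let ψ : Y_η → Z be a T-morphism from the generic fibre Y_η = Y ×_T Spec
O_{T,η}. Let g : T' → T be flat, surjective and quasi-compact, and let φ' : Y_{T'} → Z_{T'} be a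
T'-morphism which agrees with ψ over T' ×_T η, in the sense that on Y_{T'} ×_Y Y_η = Y ×_T T' ×_T
Spec O_{T,η} the composite of the first projection with φ' and with Z_{T'} → Z equals the composite
of the second projection with ψ. Then ψ extends to a T-morphism φ : Y → Z, one whose composite with
Y_η → Y is ψ. (The published statement is an equivalence and also records that an extension, when it
exists, is unique; the converse direction, that an extension over T base-changes to such a φ' over
any such T', is immediate, and this row states the existence direction only.) -/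
theorem result (T Y Z T' : Scheme.{u}) [IsIntegral T]
    (pY : Y ⟶ T) (pZ : Z ⟶ T) [Flat pY] [Flat pZ] [IsSeparated pZ]
    (ψ : pullback pY (T.fromSpecStalk (genericPoint T)) ⟶ Z)
    (hψ : ψ ≫ pZ = pullback.fst pY (T.fromSpecStalk (genericPoint T)) ≫ pY)
    (g : T' ⟶ T) [Flat g] [Surjective g] [QuasiCompact g]
    (φ' : pullback pY g ⟶ pullback pZ g) (hφ' : φ' ≫ pullback.snd pZ g = pullback.snd pY g)
    (hagree : pullback.fst (pullback.fst pY g) (pullback.fst pY (T.fromSpecStalk (genericPoint T))) ≫ φ' ≫ pullback.fst pZ g =
      pullback.snd (pullback.fst pY g) (pullback.fst pY (T.fromSpecStalk (genericPoint T))) ≫ ψ) :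
    ∃ φ : Y ⟶ Z, φ ≫ pZ = pY ∧ pullback.fst pY (T.fromSpecStalk (genericPoint T)) ≫ φ = ψ := by
  let η := T.fromSpecStalk (genericPoint T)
  let p := pullback.fst pY g
  let j := pullback.fst pY η
  let e := φ' ≫ pullback.fst pZ g
  have he : e ≫ pZ = p ≫ pY := by
    show (φ' ≫ pullback.fst pZ g) ≫ pZ = pullback.fst pY g ≫ pY
    rw [Category.assoc, pullback.condition, reassoc_of% hφ', pullback.condition]
  haveI : Flat p := MorphismProperty.pullback_fst (P := @Flat) pY g inferInstance
  haveI : Surjective p := MorphismProperty.pullback_fst (P := @Surjective) pY g inferInstance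
  haveI : QuasiCompact p := MorphismProperty.pullback_fst (P := @QuasiCompact) pY g inferInstance
  have hh : ∀ {W : Scheme.{u}} (g₁ g₂ : W ⟶ pullback pY g), g₁ ≫ p = g₂ ≫ p → g₁ ≫ e = g₂ ≫ e := by
    have huniv : pullback.fst p p ≫ e = pullback.snd p p ≫ e := by
      haveI : Flat (pullback.fst p p ≫ p ≫ pY) := inferInstance
      refine Groth.Agent.FlatGenHx.hom_ext_of_generic (pullback.fst p p ≫ p ≫ pY) pZ ?_ ?_
      · exact (Category.assoc _ _ _).trans ((congrArg (pullback.fst p p ≫ ·) he).trans ((pullback.condition_assoc pY).trans
          ((congrArg (pullback.snd p p ≫ ·) he).symm.trans (Category.assoc _ _ _).symm)))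
      · let k : pullback (pullback.fst p p ≫ p ≫ pY) η ⟶ pullback pY η :=
          pullback.lift (pullback.fst (pullback.fst p p ≫ p ≫ pY) η ≫ pullback.fst p p ≫ p)
            (pullback.snd (pullback.fst p p ≫ p ≫ pY) η) (by
            simp only [Category.assoc]; exact pullback.condition)
        have hk : ∀ m : pullback p p ⟶ pullback pY g, m ≫ p = pullback.fst p p ≫ p →
            pullback.fst (pullback.fst p p ≫ p ≫ pY) η ≫ m ≫ e = k ≫ ψ := fun m hm => by
          let l : pullback (pullback.fst p p ≫ p ≫ pY) η ⟶ pullback p j :=
            pullback.lift (pullback.fst (pullback.fst p p ≫ p ≫ pY) η ≫ m) k (by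
              rw [Category.assoc, hm]; exact (pullback.lift_fst _ _ _).symm)
          have h1 := congrArg (l ≫ ·) hagree
          have hl1 : l ≫ pullback.fst p j = pullback.fst (pullback.fst p p ≫ p ≫ pY) η ≫ m := pullback.lift_fst _ _ _
          have hl2 : l ≫ pullback.snd p j = k := pullback.lift_snd _ _ _
          exact (Category.assoc _ _ _).symm.trans ((congrArg (· ≫ e) hl1.symm).trans ((Category.assoc _ _ _).trans
            (h1.trans ((Category.assoc _ _ _).symm.trans (congrArg (· ≫ ψ) hl2)))))
        exact (hk _ rfl).trans (hk _ pullback.condition.symm).symm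
    intro W g₁ g₂ hW
    rw [← pullback.lift_fst (f := p) (g := p) g₁ g₂ hW, Category.assoc, huniv, ← Category.assoc, pullback.lift_snd]
  refine ⟨EffectiveEpi.desc p e hh, ?_, ?_⟩
  · rw [← cancel_epi p, ← Category.assoc, EffectiveEpi.fac, he]
  · haveI : Flat (pullback.snd p j) := MorphismProperty.pullback_snd (P := @Flat) p j inferInstance
    haveI : Surjective (pullback.snd p j) := MorphismProperty.pullback_snd (P := @Surjective) p j inferInstance
    haveI : QuasiCompact (pullback.snd p j) := MorphismProperty.pullback_snd (P := @QuasiCompact) p j inferInstance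
    rw [← cancel_epi (pullback.snd p j), ← Category.assoc, ← pullback.condition, Category.assoc,
      EffectiveEpi.fac]
    exact hagree

end Groth.Agent.S14189
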