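import Groth.Statements.S14193
import Groth.Agent.ZH85.StackCount.Laurent

set_option autoImplicit false
set_option linter.style.haveILetI false
open PowerSeries
open StackCount

namespace Groth.Agent.S14193

/-- Let q > 1 be an integer and let F be an element of the subring of the rational function field ℚ(X)
generated by X, X^(-1) and the fractions 1/(X^n - 1) for n ≥ 1 (so F(q^v) is defined for every v ≥
1). If the formal power series exp(Σ_{v ≥ 1} F(q^v) t^v / v) in ℚ⟦t⟧ is the expansion of a rational
function, i.e. its product with some non-zero polynomial in t is a polynomial, then F is a Laurent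
polynomial with integer coefficients: F · X^a is the image of a polynomial with integer coefficients
for some a. (The published statement also assumes that the series defines a meromorphic function on
the complex plane; that is implied by rationality and is omitted here.) -/
theorem result (q : ℤ) (hq : 1 < q) (F : RatFunc ℚ)
    (hF : F ∈ Subring.closure
      (({RatFunc.X, (RatFunc.X : RatFunc ℚ)⁻¹} : Set (RatFunc ℚ)) ∪
        Set.range fun n : ℕ => ((RatFunc.X : RatFunc ℚ) ^ (n + 1) - 1)⁻¹))
    (hrat : ∃ P Q : Polynomial ℚ, Q ≠ 0 ∧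
      (PowerSeries.exp ℚ).subst
          (PowerSeries.mk fun v : ℕ => if v = 0 then (0 : ℚ)
            else F.eval (RingHom.id ℚ) ((q : ℚ) ^ v) / (v : ℚ))
        * (Q : PowerSeries ℚ) = (P : PowerSeries ℚ)) :
    ∃ (P : Polynomial ℤ) (a : ℕ),
      F * RatFunc.X ^ a = algebraMap (Polynomial ℚ) (RatFunc ℚ) (P.map (Int.castRingHom ℚ)) := by
  obtain ⟨P, Q, hQ, h⟩ := hrat
  have hfun : (fun v : ℕ => if v = 0 then (0 : ℚ) else F.eval (RingHom.id ℚ) ((q : ℚ) ^ v) / (v : ℚ)) =
      fun v : ℕ => F.eval (RingHom.id ℚ) ((q : ℚ) ^ v) / (v : ℚ) := by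
    funext v
    split_ifs with hv
    · simp [hv]
    · rfl
  rw [hfun] at h
  obtain ⟨B, d, hB, hrec⟩ := ZH85.Laurent.exists_recurrence _ hQ h
  exact ZH85.Laurent.isLaurent q hq (ZH85.Laurent.good_of_mem hF) B d hB hrec

end Groth.Agent.S14193
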