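import Groth.Statements.S14197
import Groth.Agent.ZH85.StackCount.ModelCount

set_option autoImplicit false
set_option linter.style.haveILetI false
universe u
open CategoryTheory MonoidalCategory CartesianMonoidalCategory AlgebraicGeometry
open StackCount

namespace Groth.Agent.S14197

/-- Let k be a finite field with algebraic closure k̄, G a smooth affine algebraic group over k acting
on a variety X over k, [X/G] the quotient stack of G-torsors (schemes, locally trivial for the étale
topology) with an equivariant morphism to X, and k' ⊆ k̄ a subfield finite over k; write T̄ = Spec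
k̄ and T' = Spec k' over Spec k, with ι : T̄ → T' the structure map. Let A be an object of [X/G]
over T̄, t a section of its torsor and x = t φ_A the corresponding k̄-point of X. Then A has a model
over k' — there are an object B of [X/G] over T' and a morphism A → B of [X/G] lying over ι (so A is
the pull-back of B) — if and only if the G(k̄)-orbit of x is fixed by Gal(k̄/k'): for every
k'-algebra automorphism σ of k̄, with s : T̄ → T̄ the induced morphism, there is g ∈ G(T̄) with g ·
x = s x. (The published statement allows any smooth algebraic group G; this row takes G affine, so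
that torsors are schemes. Together with the classification of the isomorphism classes over k̄ by
G(k̄)-orbits of k̄-points, this says that the class of A in G(k̄)∖X(k̄) has a representative defined
over k' exactly when it is Galois-fixed.) -/
theorem result (k : Type u) [Field k] [Finite k]
    (G : Over (Spec (CommRingCat.of k))) [GrpObj G] [Smooth G.hom] [IsAffineHom G.hom]
    (X : Over (Spec (CommRingCat.of k))) [LocallyOfFiniteType X.hom] [QuasiCompact X.hom]
    [IsReduced X.left] (aX : AlgGrp.Action G X)
    (k' : IntermediateField k (AlgebraicClosure k)) [FiniteDimensional k k']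
    (ι : (Over.mk (Spec.map (CommRingCat.ofHom (algebraMap k (AlgebraicClosure k)))) : Over (Spec (CommRingCat.of k))) ⟶ (Over.mk (Spec.map (CommRingCat.ofHom (algebraMap k k'))) : Over (Spec (CommRingCat.of k))))
    (hι : ι.left = Spec.map (CommRingCat.ofHom (algebraMap k' (AlgebraicClosure k))))
    (A : (AlgSt.QuotObj.forget Scheme.etalePrecoverage G aX).Fiber (Over.mk (Spec.map (CommRingCat.ofHom (algebraMap k (AlgebraicClosure k)))) : Over (Spec (CommRingCat.of k)))) (t : (Over.mk (Spec.map (CommRingCat.ofHom (algebraMap k (AlgebraicClosure k)))) : Over (Spec (CommRingCat.of k))) ⟶ A.1.P) (ht : t ≫ A.1.π = eqToHom A.2.symm) :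
    (∃ (B : AlgSt.QuotObj Scheme.etalePrecoverage G aX) (hB : B.base = (Over.mk (Spec.map (CommRingCat.ofHom (algebraMap k k'))) : Over (Spec (CommRingCat.of k))))
        (h : A.1 ⟶ B), h.base = eqToHom A.2 ≫ ι ≫ eqToHom hB.symm) ↔
    (∀ (σ : AlgebraicClosure k ≃ₐ[k'] AlgebraicClosure k) (s : (Over.mk (Spec.map (CommRingCat.ofHom (algebraMap k (AlgebraicClosure k)))) : Over (Spec (CommRingCat.of k))) ⟶ (Over.mk (Spec.map (CommRingCat.ofHom (algebraMap k (AlgebraicClosure k)))) : Over (Spec (CommRingCat.of k)))),
        s.left = Spec.map (CommRingCat.ofHom σ.toRingEquiv.toRingHom) →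
        ∃ g : (Over.mk (Spec.map (CommRingCat.ofHom (algebraMap k (AlgebraicClosure k)))) : Over (Spec (CommRingCat.of k))) ⟶ G,
          CartesianMonoidalCategory.lift g (t ≫ A.1.φ) ≫ aX.act = s ≫ t ≫ A.1.φ) := by
  haveI : IsAlgClosure k' (AlgebraicClosure k) :=
    ⟨inferInstance, Algebra.IsAlgebraic.tower_top (K := k) k'⟩
  have hι' : ι = Groth.Agent.ZH85.StackCount.lstr k k' (AlgebraicClosure k) :=
    Over.OverMorphism.ext (hι.trans rfl)
  constructor
  · rintro ⟨B, hB, h, hh⟩ σ s hs
    let tB : Groth.Agent.ZH85.StackCount.KSec (G := G) (aX := aX) (AlgebraicClosure k) ⟨B, hB⟩ :=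
      ⟨t ≫ h.top, by
        show (t ≫ h.top) ≫ B.π = _
        rw [Category.assoc, h.cart.w, ← Category.assoc, ht, hh, hι']
        erw [eqToHom_trans_assoc, eqToHom_refl, Category.id_comp]
        ⟩
    have hs' : s = Groth.Agent.ZH85.StackCount.galS k k' (AlgebraicClosure k) σ :=
      Over.OverMorphism.ext (hs.trans rfl)
    obtain ⟨g, hg⟩ := Groth.Agent.ZH85.StackCount.exists_div B (s ≫ t ≫ h.top) (t ≫ h.top)
      (by rw [hs']; exact Groth.Agent.ZH85.StackCount.eq_shift _ σ tB)
    refine ⟨g, ?_⟩
    rw [← h.wφ, ← Category.assoc t h.top B.φ, ← Groth.Agent.ZH85.StackCount.act_φ, ← Category.assoc, hg]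
    simp only [Category.assoc]
  · intro horb
    letI : Group (SGA7.pt (K := k) (AlgebraicClosure k) ⟶ G) := CategoryTheory.Hom.group
    obtain ⟨g, hg⟩ := horb (Groth.Agent.ZH85.StackCount.frobK k k' (AlgebraicClosure k))
      (Groth.Agent.ZH85.StackCount.fs k k' (AlgebraicClosure k)) rfl
    obtain ⟨B, tB, -, hx⟩ := Groth.Agent.ZH85.StackCount.exists_ptObj (G := G) (aX := aX) (k' := k')
      (kb := AlgebraicClosure k) g⁻¹ (t ≫ A.1.φ) (by
        rw [← hg, Groth.Agent.GrpSchLib.act_mul, inv_mul_cancel, Groth.Agent.GrpSchLib.act_one])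
    let hA := Groth.Agent.QuotLib.trivHom A.1 t (t ≫ A.1.φ) rfl
    have hA1 : hA.base = eqToHom A.2.symm := ht
    let hA' := Groth.Agent.QuotLib.homLift hA (𝟙 A.1) (eqToHom A.2) (by
      rw [hA1]
      show eqToHom _ ≫ eqToHom _ = 𝟙 A.1.base
      simp)
    refine ⟨B.1, B.2, hA' ≫ Groth.Agent.QuotLib.trivHom B.1 tB.t (t ≫ A.1.φ) hx, ?_⟩
    show eqToHom A.2 ≫ tB.t ≫ B.1.π = _
    rw [tB.ht, hι']
    rfl

end Groth.Agent.S14197
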