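import Groth.Statements.S14216
import Groth.Agent.SBBundle.AbsSplit
import Groth.Agent.SBBundle.RankOne

set_option autoImplicit false
universe u
open CategoryTheory CategoryTheory.Limits AlgebraicGeometry
open ASBun

namespace Groth.Agent.S14216

/-- Let A be a central simple algebra of degree n ≥ 1 over a field k (of dimension n² over k), X a
proper k-scheme which is the Severi–Brauer scheme of A (for every commutative k-algebra R its
R-points over k are, naturally in R, the left ideals of R ⊗_k A with projective quotient of rank n²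
− n), K an algebraic closure of k and e a K-isomorphism X_K ≅ P^{n−1}_K, along which O_e(j) denotes
the pullback of the twisting sheaf O(j); suppose A has index 2 (A is a matrix algebra over a
division ring of dimension 4 over k). Let E be a finite locally free O_X-module which is absolutely
split: E_K is isomorphic to a finite direct sum of invertible O_{X_K}-modules. Then E ≅ (L_1 ⊕ ⋯ ⊕
L_s) ⊕ (M_1 ⊕ ⋯ ⊕ M_t) where each L_i is an invertible O_X-module with (L_i)_K ≅ O_e(2a_i) and each
M_i is an indecomposable finite locally free O_X-module (nonzero, and in any decomposition as a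
direct sum one summand is zero) of rank 2 with (M_i)_K ≅ O_e(2b_i + 1)^{⊕2}, for integers a_i, b_i.
(The published statement also records that s, t and the a_i, b_j are unique, which is the
Krull–Schmidt uniqueness and is not restated here.) -/
theorem result (k : Type u) [Field k] (A : Type u) [Ring A] [Algebra k A]
    [Algebra.IsCentral k A] [IsSimpleRing A] (n : ℕ) (hn : 0 < n)
    (hA : Module.finrank k A = n * n) {X : Scheme.{u}} (f : X ⟶ Spec (CommRingCat.of k))
    [IsProper f] (hX : BrSev.IsSBOf k A (n * n - n) f)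
    (K : Type u) [Field K] [Algebra k K] [IsAlgClosure k K] (e : BrSev.Splitting f K (n - 1))
    (hi : CSAGal.IsIndex k A 2) (E : X.Modules) (hE : FlatMod.IsFinLocFree E)
    (s₀ : ℕ) (Ns : Fin s₀ → (BrSev.bc f K).Modules) (hNs : ∀ i, PicF.IsInvertible (Ns i))
    (hsplit : Nonempty (BrSev.bcMod f K E ≅ ∐ Ns)) :
    ∃ (s t : ℕ) (Ls : Fin s → X.Modules) (Ms : Fin t → X.Modules) (a : Fin s → ℤ) (b : Fin t → ℤ),
      (∀ i, PicF.IsInvertible (Ls i) ∧ BrSev.IsTwPow e (2 * a i) 1 (Ls i)) ∧
      (∀ i, FlatMod.IsFinLocFree (Ms i) ∧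
        (¬ IsZero (Ms i) ∧ ∀ M₁ M₂ : X.Modules, Nonempty ((Ms i) ≅ M₁ ⊞ M₂) → IsZero M₁ ∨ IsZero M₂) ∧
        BrSev.IsTwPow e (2 * b i + 1) 2 (Ms i)) ∧
      Nonempty (E ≅ (∐ Ls) ⊞ (∐ Ms)) := by
  obtain ⟨m, rfl⟩ : ∃ m, n = m + 1 := ⟨n - 1, by omega⟩
  letI : X.Over (Spec (CommRingCat.of k)) := ⟨f⟩
  haveI : IsProper (X ↘ Spec (CommRingCat.of k)) := inferInstanceAs (IsProper f)
  haveI : IsAlgClosed K := IsAlgClosure.isAlgClosed k
  haveI := ASBunK.isLocallyNoetherian_of_proper k f
  haveI : FiniteDimensional k A := Module.finite_of_finrank_pos (by rw [hA]; positivity)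
  let e' : BrSev.Splitting (X ↘ Spec (CommRingCat.of k)) K m := e
  obtain ⟨st⟩ := hX
  obtain ⟨js, ⟨d⟩⟩ := SBBundle.exists_dec_twist e' hNs hsplit
  obtain ⟨c, Es, ls, rs, h, ⟨dE⟩⟩ := SBBundle.exists_dec_types e' st hA hE d
  have hp := SBBundle.isPeriod_two hi
  have hr : ∀ i, rs i = 2 / Nat.gcd 2 (ls i).natAbs := fun i =>
    SBBundle.index_tpow_eq hp hi (SBBundle.isIndex_mult e' st hA
      (CurveDeg.isCoh_of_isFinLocFree (h i).1) (h i).2.1 (h i).2.2.1 (h i).2.2.2)
  classical
  let σ := (Equiv.sumCompl fun i : Fin c => Even (ls i)).symm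
  let eL := (Fintype.equivFin {i : Fin c // Even (ls i)}).symm
  let eM := (Fintype.equivFin {i : Fin c // ¬ Even (ls i)}).symm
  choose a ha using fun i => (eL i).2
  choose b hb using fun i => Int.not_even_iff_odd.1 (eM i).2
  have hL : ∀ i, rs (eL i).1 = 1 := fun i => by
    rw [hr, Nat.gcd_eq_left (even_iff_two_dvd.1 (Int.natAbs_even.2 (eL i).2)), Nat.div_self two_pos]
  have hM : ∀ i, rs (eM i).1 = 2 := fun i => by
    rw [hr, Nat.coprime_two_left.2 (Int.natAbs_odd.2 (Int.not_even_iff_odd.1 (eM i).2)), Nat.div_one]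
  let Ls := fun i => Es (eL i).1
  let Ms := fun i => Es (eM i).1
  refine ⟨_, _, Ls, Ms, a, b, fun i => ?_, fun i => ?_, ?_⟩
  · have ht : BrSev.IsTwPow e' (2 * a i) 1 (Ls i) := by
      have h4 := (h (eL i).1).2.2.2
      rw [hL i, ha i] at h4
      exact SBBundle.twist_congr e' (two_mul _).symm h4
    exact ⟨SBBundle.isInvertible_of_isTwPow_one e' (h (eL i).1).1 ht, ht⟩
  · have h4 := (h (eM i).1).2.2.2
    rw [hM i, hb i] at h4
    exact ⟨(h (eM i).1).1, (h (eM i).1).2.1, h4⟩
  · let dd := dE.reindex (((Equiv.sumCongr eL eM).trans σ.symm))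
    let dL : ASBunK.Dec (∐ Ls) Ls := ASBunK.Dec.coprod
    let dM : ASBunK.Dec (∐ Ms) Ms := ASBunK.Dec.coprod
    refine ASBunK.nonempty_iso_of_dec dd ((dL.sum dM).mapIso fun x => eqToIso ?_)
    rcases x with x | x <;> rfl

end Groth.Agent.S14216
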