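import Groth.Statements.S14217
import Groth.Agent.SBBundle.AbsSplit
import Groth.Agent.SBBundle.RankOne
import Groth.Agent.SBBundle.IndexSame
import Groth.Agent.SBBundle.P1Split
import Groth.Agent.BunLib68.TF.Beta
import Groth.Agent.S14216

set_option autoImplicit false
universe u
open CategoryTheory CategoryTheory.Limits AlgebraicGeometry
open ASBun

namespace Groth.Agent.S14217

theorem pb {X Y : Scheme.{u}} (g : X ⟶ Y) {M : Y.Modules} (hM : FlatMod.IsFinLocFree M) :
    FlatMod.IsFinLocFree ((Scheme.Modules.pullback g).obj M) := fun x => by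
  obtain ⟨U, r, hx, ⟨e⟩⟩ := hM (g.base x)
  exact ⟨g ⁻¹ᵁ U, r, hx, ⟨((H23.PullPush.pullRestrictIso g U).app M).symm ≪≫
    (Scheme.Modules.pullback (g ∣_ U)).mapIso e ≪≫ KFlatLib.pullFreeIso _ r⟩⟩

/-- Let A be a non-split central simple algebra of degree 2 over a field k (of dimension 4 and not
isomorphic to the 2 × 2 matrices over k), X a proper k-scheme which is the Severi–Brauer scheme of A
(for every commutative k-algebra R its R-points over k are, naturally in R, the left ideals of R ⊗_k
A with projective quotient of rank 2), so that X is a conic without rational point, K an algebraic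
closure of k and e a K-isomorphism X_K ≅ P^1_K, with O_e(j) the pullback of O(j) along e. Then every
finite locally free O_X-module E decomposes as E ≅ (L_1 ⊕ ⋯ ⊕ L_s) ⊕ (M_1 ⊕ ⋯ ⊕ M_t) with each L_i
invertible and (L_i)_K ≅ O_e(2a_i), and each M_i indecomposable finite locally free (nonzero, and in
any decomposition as a direct sum one summand is zero) of rank 2 with (M_i)_K ≅ O_e(2b_i + 1)^{⊕2},
for integers a_i, b_i. (The published statement writes the invertible summands as tensor powers of
the canonical module, which is such an L with (L)_K ≅ O(−2), and records uniqueness of the summands,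
which is Krull–Schmidt and not restated here.) -/
theorem result (k : Type u) [Field k] (A : Type u) [Ring A]
    [Algebra k A] [Algebra.IsCentral k A] [IsSimpleRing A] (hA : Module.finrank k A = 4)
    (hns : ¬ Curves.Splits k A k) {X : Scheme.{u}} (f : X ⟶ Spec (CommRingCat.of k))
    [IsProper f] (hX : BrSev.IsSBOf k A 2 f)
    (K : Type u) [Field K] [Algebra k K] [IsAlgClosure k K] (e : BrSev.Splitting f K 1)
    (E : X.Modules) (hE : FlatMod.IsFinLocFree E) :
    ∃ (s t : ℕ) (Ls : Fin s → X.Modules) (Ms : Fin t → X.Modules) (a : Fin s → ℤ) (b : Fin t → ℤ),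
      (∀ i, PicF.IsInvertible (Ls i) ∧ BrSev.IsTwPow e (2 * a i) 1 (Ls i)) ∧
      (∀ i, FlatMod.IsFinLocFree (Ms i) ∧
        (¬ IsZero (Ms i) ∧ ∀ M₁ M₂ : X.Modules, Nonempty ((Ms i) ≅ M₁ ⊞ M₂) → IsZero M₁ ∨ IsZero M₂) ∧
        BrSev.IsTwPow e (2 * b i + 1) 2 (Ms i)) ∧
      Nonempty (E ≅ (∐ Ls) ⊞ (∐ Ms)) := by
  letI : X.Over (Spec (CommRingCat.of k)) := ⟨f⟩
  haveI : IsProper (X ↘ Spec (CommRingCat.of k)) := inferInstanceAs (IsProper f)
  haveI : FiniteDimensional k A := Module.finite_of_finrank_pos (by rw [hA]; norm_num)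
  obtain ⟨hp, hi⟩ := SBBundle.period_index_prime (k := k) (A := A) Nat.prime_two hA hns
  have hinv : FlatMod.IsFinLocFree ((Scheme.Modules.pullback e.iso.inv).obj (BrSev.bcMod f K E)) :=
    pb e.iso.inv (pb _ hE)
  obtain ⟨c, d, ⟨i⟩⟩ := SBBundle.P1Split.exists_iso_coprod_twist _ hinv
  let dd := (ASBunK.decOfIso i).map (Scheme.Modules.pullback e.iso.hom)
  have back : (Scheme.Modules.pullback e.iso.hom).obj
      ((Scheme.Modules.pullback e.iso.inv).obj (BrSev.bcMod f K E)) ≅ BrSev.bcMod f K E :=
    (Scheme.Modules.pullbackComp e.iso.hom e.iso.inv).app _ ≪≫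
      (Scheme.Modules.pullbackCongr e.iso.hom_inv_id).app _ ≪≫ (Scheme.Modules.pullbackId _).app _
  exact Groth.Agent.S14216.result k A 2 two_pos hA f hX K e hi E hE c (fun l => e.twist (d l))
    (fun l => SBBundle.isInvertible_twist e (d l)) ⟨(dd.ofIso back).iso⟩

end Groth.Agent.S14217
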