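import Groth.Statements.S14273
import Groth.Agent.NonAbLib.Extend.Global
import Groth.Agent.NonAbLib.Extend.Full
import Groth.Agent.NonAbLib.IsomNormal
-- import your own Groth.Agent.* helpers here

set_option autoImplicit false
universe u
open scoped CategoryTheory.Obj
open NonAbH1

namespace Groth.Agent.S14273

open AlgebraicGeometry CategoryTheory CategoryTheory.Limits MonoidalCategory CartesianMonoidalCategory Functor
open Groth.Agent.NonAbLib.Extend

variable {X : Scheme.{u}}

/-- The comparison over `P` as fibre products over `X`. -/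
theorem exists_comparison (G : Over X) [GrpObj G] (U : X.Opens) (P : Over (U : Scheme.{u}))
    (b : AlgGrp.Action ((Over.pullback U.ι).obj G) P) (hb : IsIso (lift b.act (snd _ P))) :
    ∃ e : pullback G.hom (P.hom ≫ U.ι) ≅ pullback (P.hom ≫ U.ι) (P.hom ≫ U.ι),
      e.hom ≫ pullback.snd (P.hom ≫ U.ι) (P.hom ≫ U.ι) = pullback.snd G.hom (P.hom ≫ U.ι) := by
  haveI := hb
  let F := Over.pullback U.ι
  let m : pullback (pullback.snd G.hom U.ι) P.hom ⟶ pullback P.hom P.hom := (lift b.act (snd (F.obj G) P)).left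
  haveI : IsIso m := (Over.forget _).map_isIso (lift b.act (snd (F.obj G) P))
  have hm : m ≫ pullback.snd P.hom P.hom = pullback.snd (pullback.snd G.hom U.ι) P.hom :=
    congrArg CommaMorphism.left (lift_snd b.act (snd (F.obj G) P))
  let e₂ : pullback P.hom P.hom ≅ pullback (P.hom ≫ U.ι) (P.hom ≫ U.ι) :=
    { hom := pullback.lift (pullback.fst _ _) (pullback.snd _ _) (pullback.condition_assoc _)
      inv := pullback.lift (pullback.fst _ _) (pullback.snd _ _)
        ((cancel_mono U.ι).1 (by rw [Category.assoc, Category.assoc, pullback.condition]))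
      hom_inv_id := pullback.hom_ext (by rw [Category.assoc, pullback.lift_fst, pullback.lift_fst, Category.id_comp])
        (by rw [Category.assoc, pullback.lift_snd, pullback.lift_snd, Category.id_comp])
      inv_hom_id := pullback.hom_ext (by rw [Category.assoc, pullback.lift_fst, pullback.lift_fst, Category.id_comp])
        (by rw [Category.assoc, pullback.lift_snd, pullback.lift_snd, Category.id_comp]) }
  refine ⟨(pullbackLeftPullbackSndIso G.hom U.ι P.hom).symm ≪≫ asIso m ≪≫ e₂, ?_⟩
  simp only [Iso.trans_hom, Iso.symm_hom, asIso_hom, Category.assoc, e₂, pullback.lift_snd, hm,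
    pullbackLeftPullbackSndIso_inv_snd_snd]

open MonObj
open scoped CategoryTheory.Obj

variable {S : Scheme.{u}} (f : S ⟶ X) {G Q : Over X} [GrpObj G] {P : Over S}
  (b : AlgGrp.Action ((Over.pullback f).obj G) P) (φ : (Over.pullback f).obj Q ≅ P) (α : G ⊗ Q ⟶ Q)

theorem map_one_act
    (hα : LaxMonoidal.μ (Over.pullback f) G Q ≫ (Over.pullback f).map α =
      ((Over.pullback f).obj G ◁ φ.hom) ≫ b.act ≫ φ.inv) :
    (Over.pullback f).map ((MonObj.one ▷ Q) ≫ α) = (Over.pullback f).map (λ_ Q).hom := by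
  have h1 : (LaxMonoidal.ε (Over.pullback f) ▷ (Over.pullback f).obj Q) ≫
      ((Over.pullback f).map MonObj.one ▷ (Over.pullback f).obj Q) =
      (MonObj.one : 𝟙_ _ ⟶ (Over.pullback f).obj G) ▷ (Over.pullback f).obj Q :=
    (comp_whiskerRight _ _ _).symm
  rw [← cancel_epi (LaxMonoidal.μ (Over.pullback f) (𝟙_ (Over X)) Q),
    ← cancel_epi (LaxMonoidal.ε (Over.pullback f) ▷ (Over.pullback f).obj Q),
    Functor.map_comp, ← LaxMonoidal.μ_natural_left_assoc, hα, reassoc_of% h1, ← whisker_exchange_assoc,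
    reassoc_of% b.one_act, ← LaxMonoidal.left_unitality]
  simp

theorem map_mul_act
    (hα : LaxMonoidal.μ (Over.pullback f) G Q ≫ (Over.pullback f).map α =
      ((Over.pullback f).obj G ◁ φ.hom) ≫ b.act ≫ φ.inv) :
    (Over.pullback f).map ((MonObj.mul ▷ Q) ≫ α) = (Over.pullback f).map ((α_ G G Q).hom ≫ (G ◁ α) ≫ α) := by
  let F := Over.pullback f
  have h1 : (LaxMonoidal.μ F G G ▷ F.obj Q) ≫ (F.map MonObj.mul ▷ F.obj Q) =
      (MonObj.mul : _ ⟶ F.obj G) ▷ F.obj Q :=
    (comp_whiskerRight _ _ _).symm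
  rw [← cancel_epi (LaxMonoidal.μ F (G ⊗ G) Q), ← cancel_epi (LaxMonoidal.μ F G G ▷ F.obj Q)]
  rw [Functor.map_comp, Functor.map_comp, Functor.map_comp, ← LaxMonoidal.μ_natural_left_assoc, hα,
    reassoc_of% h1, ← whisker_exchange_assoc, reassoc_of% b.mul_act,
    LaxMonoidal.associativity_assoc, ← LaxMonoidal.μ_natural_right_assoc, hα,
    ← MonoidalCategory.whiskerLeft_comp_assoc, hα]
  simp
  rfl

theorem isIso_map_lift
    (hα : LaxMonoidal.μ (Over.pullback f) G Q ≫ (Over.pullback f).map α =
      ((Over.pullback f).obj G ◁ φ.hom) ≫ b.act ≫ φ.inv)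
    (hb : IsIso (lift b.act (snd _ P))) : IsIso ((Over.pullback f).map (lift α (snd G Q))) := by
  haveI := hb
  let F := Over.pullback f
  have h : F.map (lift α (snd G Q)) = inv (LaxMonoidal.μ F G Q) ≫ (F.obj G ◁ φ.hom) ≫
      lift b.act (snd (F.obj G) P) ≫ (φ.inv ⊗ₘ φ.inv) ≫ LaxMonoidal.μ F Q Q := by
    rw [IsIso.eq_inv_comp, ← cancel_mono (inv (LaxMonoidal.μ F Q Q))]
    simp only [Category.assoc, IsIso.hom_inv_id, Category.comp_id]
    have hfst : inv (LaxMonoidal.μ F Q Q) ≫ fst (F.obj Q) (F.obj Q) = F.map (fst Q Q) := by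
      rw [IsIso.inv_comp_eq, Monoidal.μ_fst]
    have hsnd : inv (LaxMonoidal.μ F Q Q) ≫ snd (F.obj Q) (F.obj Q) = F.map (snd Q Q) := by
      rw [IsIso.inv_comp_eq, Monoidal.μ_snd]
    refine CartesianMonoidalCategory.hom_ext _ _ ?_ ?_
    · simp only [Category.assoc, hfst, ← Functor.map_comp, lift_fst]
      erw [tensorHom_fst, lift_fst_assoc]
      exact hα
    · simp only [Category.assoc, hsnd, ← Functor.map_comp, lift_snd]
      erw [tensorHom_snd, lift_snd_assoc, Monoidal.μ_snd, whiskerLeft_snd_assoc, Iso.hom_inv_id, Category.comp_id]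
  rw [h]
  infer_instance

end Groth.Agent.S14273

namespace Groth.Agent.S14273

open AlgebraicGeometry CategoryTheory CategoryTheory.Limits MonoidalCategory in
/-- Let X be a scheme, G a finite locally free X-group scheme (finite, flat and locally of finite
presentation over X, not necessarily commutative), and U an open subscheme of X whose inclusion is
quasi-compact, such that for every point z of X outside U the local ring of X at z is regular of
Krull dimension at least 2. Then every torsor for the fppf topology over U under the base change of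
G to U is isomorphic, over U and compatibly with the actions, to the base change of an fppf G-torsor
over X. (The base change of G acts on the base change of an X-scheme through the monoidal structure
of the base-change functor; the published statement is that pullback is an equivalence of categories
of torsors, and this row is its essential surjectivity; its clause on gerbes is not stated.) -/
theorem result {X : Scheme.{u}} (G : Over X) [GrpObj G]
    [IsFinite G.hom] [Flat G.hom] [LocallyOfFinitePresentation G.hom]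
    (U : X.Opens) [QuasiCompact U.ι]
    (hZ : ∀ z : X, z ∉ U → IsRegularLocalRing (X.presheaf.stalk z) ∧ (2 : WithBot ℕ∞) ≤ ringKrullDim (X.presheaf.stalk z))
    (P : Over (U : Scheme.{u})) (b : AlgGrp.Action ((Over.pullback U.ι).obj G) P)
    (hb : NonAbH1.IsTorsorFor Scheme.fppfPrecoverage b) :
    ∃ (Q : Over X) (a : AlgGrp.Action G Q) (φ : (Over.pullback U.ι).obj Q ≅ P),
      NonAbH1.IsTorsorFor Scheme.fppfPrecoverage a ∧
      Functor.LaxMonoidal.μ (Over.pullback U.ι) G Q ≫ (Over.pullback U.ι).map a.act ≫ φ.hom =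
        ((Over.pullback U.ι).obj G ◁ φ.hom) ≫ b.act := by
  open CartesianMonoidalCategory Functor NonAbLib.Extend in
  have hb' := NonAbLib.torsor_mono NonAbLib.fppf_le_fpqc hb
  let F := Over.pullback U.ι
  have : IsFinite (F.obj G).hom :=
    inferInstanceAs (IsFinite (pullback.snd G.hom U.ι))
  have : Flat (F.obj G).hom := inferInstanceAs (Flat (pullback.snd G.hom U.ι))
  obtain ⟨hP₁, hP₂, hP₃⟩ := NonAbLib.finite_flat_torsor hb'
  have hlfp : IsZariskiLocalAtTarget (@LocallyOfFinitePresentation : MorphismProperty Scheme.{u}) :=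
    HasRingHomProperty.instIsZariskiLocalAtTarget _
  have : LocallyOfFinitePresentation P.hom := SchTorsor.torsor_property @LocallyOfFinitePresentation hb'
    (inferInstanceAs (LocallyOfFinitePresentation (pullback.snd G.hom U.ι)))
  obtain ⟨e, he⟩ := exists_comparison G U P b hb.1
  obtain ⟨hπ₁, hπ₂, hπ₃, hpb⟩ := extension_of_regularOutside P.hom G.hom (U := U) hZ e he
  let Q : Over X := Over.mk (P.hom ≫ U.ι).fromNormalization
  have : IsFinite Q.hom := hπ₁
  have : Flat Q.hom := hπ₂
  have : LocallyOfFinitePresentation Q.hom := hπ₃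
  let φ : F.obj Q ≅ P := Over.isoMk hpb.isoPullback.symm hpb.isoPullback_inv_snd
  have flatT : ∀ {A B : Over X} [Flat A.hom] [Flat B.hom], Flat (A ⊗ B).hom := fun {A B} _ _ =>
    inferInstanceAs (Flat (pullback.fst A.hom B.hom ≫ A.hom))
  have affT : ∀ {A B : Over X} [IsAffineHom A.hom] [IsAffineHom B.hom], IsAffineHom (A ⊗ B).hom := fun {A B} _ _ =>
    haveI : IsAffineHom (pullback.fst A.hom B.hom) := MorphismProperty.pullback_fst (P := @IsAffineHom) A.hom B.hom ‹_›
    inferInstanceAs (IsAffineHom (pullback.fst A.hom B.hom ≫ A.hom))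
  have : Flat (G ⊗ Q).hom := flatT
  have : Flat ((G ⊗ G) ⊗ Q).hom := by have := @flatT G G _ _; exact flatT
  have : Flat (𝟙_ (Over X)).hom := inferInstanceAs (Flat (𝟙 X))
  have : Flat (𝟙_ (Over X) ⊗ Q).hom := flatT
  have : Flat (Q ⊗ Q).hom := flatT
  have : IsAffineHom (G ⊗ Q).hom := affT
  have : IsAffineHom (Q ⊗ Q).hom := affT
  obtain ⟨α, hα⟩ := pullback_map_surjective (Z := G ⊗ Q) (Y := Q) hZ
    ((Monoidal.μIso F G Q).inv ≫ (F.obj G ◁ φ.hom) ≫ b.act ≫ φ.inv)
  have hμα : LaxMonoidal.μ F G Q ≫ F.map α = (F.obj G ◁ φ.hom) ≫ b.act ≫ φ.inv := by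
    rw [hα]; exact (Monoidal.μIso F G Q).hom_inv_id_assoc _
  let a : AlgGrp.Action G Q :=
    { act := α
      one_act := pullback_map_injective hZ (map_one_act U.ι b φ α hμα)
      mul_act := pullback_map_injective hZ (map_mul_act U.ι b φ α hμα) }
  refine ⟨Q, a, φ, ⟨?_, ?_⟩, by
    show LaxMonoidal.μ F G Q ≫ F.map α ≫ φ.hom = _
    rw [reassoc_of% hμα, φ.inv_hom_id, Category.comp_id]⟩
  · -- pseudo-torsor
    show IsIso (lift α (snd G Q))
    have := isIso_map_lift U.ι b φ α hμα hb.1
    exact isIso_of_pullback_map hZ _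
  · -- trivialised by itself
    have : Surjective Q.hom := surjective_of_isClosedMap Q.hom hZ fun x hx => by
      obtain ⟨y, hy⟩ := hP₃.surj ⟨x, hx⟩
      refine ⟨(P.hom ≫ U.ι).toNormalization y, ?_⟩
      show ((P.hom ≫ U.ι).toNormalization ≫ (P.hom ≫ U.ι).fromNormalization) y = x
      rw [hpb.w, Scheme.Hom.comp_apply, hy]
      rfl
    refine ⟨_, Q.hom.singleton_mem_fppfPrecoverage, ?_⟩
    rintro S' f ⟨⟩
    exact ⟨𝟙 _, Category.id_comp _⟩

end Groth.Agent.S14273
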