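import Groth.Statements.S14274
import Groth.Agent.NonAbLib.RegDepth
import Groth.Agent.NonAbLib.IsomNormal
-- import your own Groth.Agent.* helpers here

set_option autoImplicit false
universe u
open scoped CategoryTheory.Obj
open NonAbH1

namespace Groth.Agent.S14274

open AlgebraicGeometry CategoryTheory CategoryTheory.Limits MonoidalCategory in
/-- Let X be a scheme, G a finite locally free X-group scheme (finite, flat and locally of finite
presentation over X, not necessarily commutative), and U an open subscheme of X whose inclusion is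
quasi-compact, such that for every point z of X outside U the local ring of X at z is regular of
Krull dimension at least 2. Let Q₁ and Q₂ be fppf G-torsors over X. Then every U-morphism between
their base changes to U that is equivariant for the base-changed group is the base change of a
unique G-equivariant X-morphism Q₁ -> Q₂. (With the essential-surjectivity row this is the statement
that pullback is an equivalence from G-torsors over X to torsors over U under the base change of G.) -/
theorem result {X : Scheme.{u}} (G : Over X) [GrpObj G]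
    [IsFinite G.hom] [Flat G.hom] [LocallyOfFinitePresentation G.hom]
    (U : X.Opens) [QuasiCompact U.ι]
    (hZ : ∀ z : X, z ∉ U → IsRegularLocalRing (X.presheaf.stalk z) ∧ (2 : WithBot ℕ∞) ≤ ringKrullDim (X.presheaf.stalk z))
    (Q₁ Q₂ : Over X) (a₁ : AlgGrp.Action G Q₁) (a₂ : AlgGrp.Action G Q₂)
    (h₁ : NonAbH1.IsTorsorFor Scheme.fppfPrecoverage a₁) (h₂ : NonAbH1.IsTorsorFor Scheme.fppfPrecoverage a₂)
    (h' : (Over.pullback U.ι).obj Q₁ ⟶ (Over.pullback U.ι).obj Q₂)
    (hh' : (Functor.LaxMonoidal.μ (Over.pullback U.ι) G Q₁ ≫ (Over.pullback U.ι).map a₁.act) ≫ h' =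
      ((Over.pullback U.ι).obj G ◁ h') ≫ (Functor.LaxMonoidal.μ (Over.pullback U.ι) G Q₂ ≫ (Over.pullback U.ι).map a₂.act)) :
    ∃! h : Q₁ ⟶ Q₂, a₁.act ≫ h = (G ◁ h) ≫ a₂.act ∧ (Over.pullback U.ι).map h = h' := by
  open CartesianMonoidalCategory in
  obtain ⟨hf₁, hfl₁, -⟩ := NonAbLib.finite_flat_torsor (NonAbLib.torsor_mono NonAbLib.fppf_le_fpqc h₁)
  obtain ⟨hf₂, hfl₂, -⟩ := NonAbLib.finite_flat_torsor (NonAbLib.torsor_mono NonAbLib.fppf_le_fpqc h₂)
  have : IsFinite Q₁.hom := hf₁
  have : IsFinite Q₂.hom := hf₂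
  have : Flat Q₁.hom := hfl₁
  -- agreement away from the bad locus determines morphisms from flat schemes
  have hext : ∀ {Z : Over X} [Flat Z.hom] (u v : Z ⟶ Q₂),
      (Over.pullback U.ι).map u = (Over.pullback U.ι).map v → u = v := by
    intro Z _ u v h
    refine Over.OverMorphism.ext (CAlgOdd.HartogsTwo.eq_of_eq (Z.hom ⁻¹ᵁ U) (NonAbLib.reg2_of_flat Z.hom U hZ)
      Q₂.hom ((Over.w u).trans (Over.w v).symm) ?_)
    let r : ((Z.hom ⁻¹ᵁ U : Z.left.Opens) : Scheme.{u}) ⟶ pullback Z.hom U.ι :=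
      pullback.lift (Z.hom ⁻¹ᵁ U).ι (Z.hom ∣_ U) (morphismRestrict_ι Z.hom U).symm
    have h' := congrArg (fun m => r ≫ m.left ≫ pullback.fst Q₂.hom U.ι) h
    simp only [ActBC.pullback_map_left_fst] at h'
    rwa [pullback.lift_fst_assoc, pullback.lift_fst_assoc] at h'
  -- the extension
  let U₁ : Q₁.left.Opens := Q₁.hom ⁻¹ᵁ U
  have : QuasiCompact U₁.ι :=
    MorphismProperty.of_isPullback (isPullback_morphismRestrict Q₁.hom U) (inferInstanceAs (QuasiCompact U.ι))
  let l : (U₁ : Scheme.{u}) ⟶ pullback Q₁.hom U.ι :=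
    pullback.lift U₁.ι (Q₁.hom ∣_ U) (morphismRestrict_ι Q₁.hom U).symm
  let r : pullback Q₁.hom U.ι ⟶ (U₁ : Scheme.{u}) :=
    IsOpenImmersion.lift U₁.ι (pullback.fst Q₁.hom U.ι) (by
      rintro _ ⟨z, rfl⟩
      rw [Scheme.Opens.range_ι]
      show (pullback.fst Q₁.hom U.ι ≫ Q₁.hom) z ∈ U
      rw [pullback.condition]
      exact (pullback.snd Q₁.hom U.ι z).2)
  have hr : r ≫ U₁.ι = pullback.fst Q₁.hom U.ι := IsOpenImmersion.lift_fac _ _ _
  have hrl : r ≫ l = 𝟙 _ := by
    refine pullback.hom_ext ?_ ?_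
    · rw [Category.assoc, pullback.lift_fst, hr, Category.id_comp]
    · rw [Category.assoc, pullback.lift_snd, ← cancel_mono U.ι, Category.assoc, morphismRestrict_ι,
        ← Category.assoc, hr, pullback.condition, Category.id_comp]
  let m : pullback Q₁.hom U.ι ⟶ Q₂.left := h'.left ≫ pullback.fst Q₂.hom U.ι
  have hm : m ≫ Q₂.hom = pullback.fst Q₁.hom U.ι ≫ Q₁.hom := by
    rw [Category.assoc, pullback.condition, pullback.condition, ← Category.assoc]
    exact congrArg (· ≫ U.ι) (Over.w h')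
  have : IsAffineHom (pullback.snd Q₂.hom Q₁.hom) :=
    isAffineHom_isStableUnderBaseChange.of_isPullback (IsPullback.of_hasPullback Q₂.hom Q₁.hom) inferInstance
  obtain ⟨σ, ⟨hσ, hσU⟩, -⟩ := CAlgOdd.HartogsTwo.existsUnique_section U₁ (NonAbLib.reg2_of_flat Q₁.hom U hZ)
    (pullback.snd Q₂.hom Q₁.hom) (pullback.lift (l ≫ m) U₁.ι (by
      rw [Category.assoc, hm, pullback.lift_fst_assoc]))
    (pullback.lift_snd _ _ _)
  let h : Q₁ ⟶ Q₂ := Over.homMk (σ ≫ pullback.fst Q₂.hom Q₁.hom) (by
    rw [Category.assoc, pullback.condition, ← Category.assoc, hσ, Category.id_comp])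
  have hmap : (Over.pullback U.ι).map h = h' := by
    refine Over.OverMorphism.ext (pullback.hom_ext ?_ ?_)
    · refine (ActBC.pullback_map_left_fst U.ι h).trans ?_
      show pullback.fst Q₁.hom U.ι ≫ σ ≫ pullback.fst Q₂.hom Q₁.hom = m
      rw [← hr, Category.assoc, reassoc_of% hσU, pullback.lift_fst, reassoc_of% hrl]
    · exact (pullback.lift_snd _ _ _).trans (Over.w h').symm
  have : Flat (G ⊗ Q₁).hom := inferInstanceAs (Flat (pullback.fst G.hom Q₁.hom ≫ G.hom))
  have hequiv : a₁.act ≫ h = (G ◁ h) ≫ a₂.act := by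
    refine hext _ _ ?_
    have := hh'
    rw [← hmap, Category.assoc, Functor.LaxMonoidal.μ_natural_right_assoc, cancel_epi, ← Functor.map_comp,
      ← Functor.map_comp] at this
    exact this
  exact ⟨h, ⟨hequiv, hmap⟩, fun g ⟨_, hg⟩ => hext g h (hg.trans hmap.symm)⟩

end Groth.Agent.S14274
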