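import Groth.Statements.S14277
import Groth.Agent.NonAbLib.FinGal.Field
import Groth.Agent.NonAbLib.FinGal.Torsor
import Groth.Agent.NonAbLib.IsomNormal
-- import your own Groth.Agent.* helpers here

set_option autoImplicit false
universe u
open CategoryTheory AlgebraicGeometry
open NonAbH1

namespace Groth.Agent.S14277

open AlgebraicGeometry CategoryTheory CategoryTheory.Limits MonoidalCategory CartesianMonoidalCategory
open Groth.Agent.NonAbLib.FinGal Groth.Agent.H84WeilRes MonObj

variable {k : Type u} [Field k]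

theorem finrank_eq_of_iso {B C : Type u} [CommRing B] [Algebra k B] [CommRing C] [Algebra k C]
    (e : spec k B ≅ spec k C) : Module.finrank k B = Module.finrank k C := by
  obtain ⟨a, ha⟩ := specEquiv.surjective e.hom
  obtain ⟨b, hb⟩ := specEquiv.surjective e.inv
  have hid : ∀ (D : Type u) [CommRing D] [Algebra k D], specEquiv (AlgHom.id k D) = 𝟙 (spec k D) := fun D _ _ =>
    Over.OverMorphism.ext (by rw [specEquiv_left]; exact Spec.map_id _)
  exact (AlgEquiv.ofAlgHom a b (specEquiv.injective (by rw [specEquiv_comp, ha, hb, hid, e.hom_inv_id]))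
    (specEquiv.injective (by rw [specEquiv_comp, ha, hb, hid, e.inv_hom_id]))).toLinearEquiv.finrank_eq.symm

/-- The spectrum presentation of an affine scheme over a field. -/
theorem exists_spec (X : Over (Spec (CommRingCat.of k))) [IsAffine X.left] :
    ∃ (B : Type u) (_ : CommRing B) (_ : Algebra k B), Nonempty (X ≅ spec k B) := by
  let ψ := Spec.preimage (X.left.isoSpec.inv ≫ X.hom)
  letI : Algebra k Γ(X.left, ⊤) := ψ.hom.toAlgebra
  refine ⟨Γ(X.left, ⊤), inferInstance, inferInstance, ⟨Over.isoMk X.left.isoSpec ?_⟩⟩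
  change X.left.isoSpec.hom ≫ Spec.map ψ = X.hom
  rw [Spec.map_preimage, Iso.hom_inv_id_assoc]

theorem fr_iterate {B K : Type u} [CommRing B] [Algebra k B] [Field K] [Algebra k K]
    {X : Over (Spec (CommRingCat.of k))} (e : X ≅ spec k B) (φ : K ≃ₐ[k] K) (t : B →ₐ[k] K) (i : ℕ) :
    (fr φ X)^[i] (ptsEquiv e t) = ptsEquiv e ((φ ^ i).toAlgHom.comp t) := by
  induction i with
  | zero =>
    rw [Function.iterate_zero, id]
    congr 1
  | succ i ih =>
    rw [Function.iterate_succ', Function.comp_apply, ih, fr, specAut_comp_ptsEquiv]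
    congr 1
    ext b
    show φ ((φ ^ i) (t b)) = (φ ^ (i + 1)) (t b)
    rw [pow_succ' φ i]
    rfl

theorem frob_pow (K : Type u) [Field K] [Algebra k K] [Fintype k] [Algebra.IsAlgebraic k K] (i : ℕ) (c : K) :
    (FiniteField.frobeniusAlgEquivOfAlgebraic k K ^ i) c = c ^ (Fintype.card k ^ i) := by
  rw [AlgEquiv.coe_pow, FiniteField.coe_frobeniusAlgEquivOfAlgebraic_iterate]

end Groth.Agent.S14277

namespace Groth.Agent.S14277

/-- Let k be a finite field and G a group scheme finite and étale over Spec k. Then the set of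
isomorphism classes of G-torsors over Spec k is finite, and the sum over these classes ξ of
1/#Aut(ξ) equals 1, where Aut(ξ) is the (finite) group of G-equivariant automorphisms over k of a
torsor in the class ξ. A torsor is a k-scheme with an action of G which is a pseudo-torsor and
acquires sections on the members of some fppf covering family of Spec k; for such G these are the
nonempty finite étale pseudo-torsors, and the étale topology gives the same classes. The term of a
class whose automorphism group were infinite would count as 0 by the convention Nat.card = 0. -/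
theorem result
    (k : Type u) [Field k] [Finite k]
    (G : Over (Spec (CommRingCat.of k))) [GrpObj G] [IsFinite G.hom] [Etale G.hom] :
    Finite (NonAbH1.H1Sch G Scheme.fppfPrecoverage) ∧
      ∑ᶠ ξ : NonAbH1.H1Sch G Scheme.fppfPrecoverage,
        ((Nat.card (NonAbH1.EquivIso (Quot.out ξ).act (Quot.out ξ).act) : ℚ))⁻¹ = 1 := by
  open CategoryTheory.Limits CategoryTheory.MonoidalCategory CartesianMonoidalCategory MonObj Groth.Agent.NonAbLib Groth.Agent.NonAbLib.FinGal Groth.Agent.H84WeilRes in
  have := Fintype.ofFinite k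
  haveI : IsAffine G.left := isAffine_of_isAffineHom G.hom
  obtain ⟨B, _, _, ⟨eG⟩⟩ := exists_spec G
  have hfinSpec : ∀ {X : Over (Spec (CommRingCat.of k))} {D : Type u} [CommRing D] [Algebra k D],
      (X ≅ spec k D) → IsFinite X.hom → Module.Finite k D := fun {X D} _ _ e hX => by
    have : IsIso e.inv.left := (Over.forget _).map_isIso e.inv
    have : IsFinite (spec k D).hom := by rw [← Over.w e.inv]; infer_instance
    exact RingHom.finite_algebraMap.1 ((IsFinite.SpecMap_iff _).1 this)
  have := hfinSpec eG ‹_›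
  have : Algebra.Etale k B := by
    have : IsIso eG.inv.left := (Over.forget _).map_isIso eG.inv
    have : Etale (spec k B).hom := by rw [← Over.w eG.inv]; infer_instance
    exact RingHom.etale_algebraMap.1 ((HasRingHomProperty.Spec_iff (P := @Etale)).1 this)
  obtain ⟨n₀, hn₀, hperiod, hpoints⟩ := exists_period_etale (k := k) (B := B)
  have hunit : Nonempty (B →ₐ[k] k) :=
    ⟨specEquiv.symm (Over.homMk ((MonObj.one (X := G)).left ≫ eG.hom.left) (by
      rw [Category.assoc, Over.w eG.hom, Over.w]
      exact (Spec.map_id _).symm))⟩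
  have : Nontrivial B := hunit.some.toRingHom.domain_nontrivial
  let m := Module.finrank k B
  have hm : 0 < m := Module.finrank_pos
  let N := n₀ * m
  have hN : 0 < N := Nat.mul_pos hn₀ hm
  obtain ⟨K, hKfin, hKdim⟩ := exists_extension k hN
  have : Module.Finite k K := Module.Finite.of_finite
  let φ := FiniteField.frobeniusAlgEquivOfAlgebraic k K
  have hfix : ∀ c, φ c = c → c ∈ Set.range (algebraMap k K) := fun c hc =>
    mem_range_of_pow_eq (algebraMap k K) (by rwa [Nat.card_eq_fintype_card])
  have hφ : φ ^ N = 1 := by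
    rw [← hKdim, ← FiniteField.orderOf_frobeniusAlgEquivOfAlgebraic k K]
    exact pow_orderOf_eq_one φ
  have hinj : Function.Injective fun i : Fin N => φ ^ i.1 := fun i j h => by
    have := (FiniteField.bijective_frobeniusAlgEquivOfAlgebraic_pow k K).1
      (a₁ := Fin.cast hKdim.symm i) (a₂ := Fin.cast hKdim.symm j) h
    exact Fin.ext (congrArg Fin.val this : _)
  have hdvd : n₀ ∣ Module.finrank k K := hKdim ▸ Dvd.intro m rfl
  have hG : Split K G := by
    refine split_of_card eG ?_
    rw [← Nat.card_congr (ptsEquiv (K := K) eG)]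
    exact hpoints K hdvd
  haveI := hG.finite
  have hcardG : Nat.card (Pts K G) = m := by
    rw [← Nat.card_congr (ptsEquiv (K := K) eG)]
    exact le_antisymm card_points_le.2 (hpoints K hdvd)
  have hθ : ∀ h : Pts K G, (fr φ G)^[n₀] h = h := fun h => by
    obtain ⟨t, rfl⟩ := (ptsEquiv eG).surjective h
    rw [fr_iterate]
    congr 1
    refine AlgHom.ext fun b => ?_
    show (φ ^ n₀) (t b) = t b
    rw [frob_pow, ← map_pow, ← Nat.card_eq_fintype_card, hperiod]
  have hθinj : Function.Injective (θ φ G) := fun a b h => by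
    rw [← hθ a, ← hθ b]
    obtain ⟨j, hj⟩ := Nat.exists_eq_succ_of_ne_zero hn₀.ne'
    rw [hj, Function.iterate_succ_apply, Function.iterate_succ_apply, show fr φ G a = fr φ G b from h]
  let p : Pts K G → Equiv.Perm (Pts K G) := fun g => Equiv.ofBijective (fun h => θ φ G h * g)
    (Finite.injective_iff_bijective.1 fun a b h => hθinj (mul_right_cancel h))
  have hformula : ∀ g (i : ℕ) h, (p g ^ i) h = (θ φ G)^[i] h * (p g ^ i) 1 := fun g i => by
    induction i with
    | zero => intro h; simp
    | succ i ih =>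
      intro h
      rw [pow_succ' (p g) i, Equiv.Perm.mul_apply, Equiv.Perm.mul_apply, ih h, Function.iterate_succ_apply']
      show θ φ G (_ * _) * g = _ * (θ φ G _ * g)
      rw [map_mul, _root_.mul_assoc]
  have hp : ∀ g, p g ^ N = 1 := fun g => by
    have hn : ∀ h, (θ φ G)^[n₀] h = h := hθ
    have hj : ∀ j, (p g ^ (n₀ * j)) 1 = ((p g ^ n₀) 1) ^ j := fun j => by
      induction j with
      | zero => simp
      | succ j ih => rw [Nat.mul_succ, add_comm, pow_add, Equiv.Perm.mul_apply, hformula g n₀, hn, ih, pow_succ]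
    ext1 h
    rw [hformula, hj, ← hcardG, pow_card_eq_one', _root_.mul_one, Equiv.Perm.one_apply, Function.iterate_mul]
    exact congrFun ((congrArg (fun f => f^[m]) (funext hn : (θ φ G)^[n₀] = id)).trans (Function.iterate_id m)) h
  refine mass hfix hG hN hφ hinj p (fun g h => rfl) hp fun P => ?_
  -- points of a torsor
  let Ω := AlgebraicClosure k
  let φΩ := FiniteField.frobeniusAlgEquivOfAlgebraic k Ω
  have hPtor := torsor_mono fppf_le_fpqc P.isTorsor
  obtain ⟨hPfin, -, hPsurj⟩ := finite_flat_torsor hPtor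
  haveI : IsAffine P.X.left := isAffine_of_isAffineHom P.X.hom
  obtain ⟨C, _, _, ⟨eP⟩⟩ := exists_spec P.X
  have := hfinSpec eP hPfin
  obtain ⟨t₀⟩ : Nonempty (C →ₐ[k] Ω) := by
    obtain ⟨y, -⟩ := hPsurj.surj (default : PrimeSpectrum k)
    have : Nontrivial C := PrimeSpectrum.nontrivial (eP.hom.left y : PrimeSpectrum C)
    obtain ⟨I, hI⟩ := Ideal.exists_maximal C
    letI := Ideal.Quotient.field I
    have : Module.Finite k (C ⧸ I) := Module.Finite.of_surjective (Ideal.Quotient.mkₐ k I).toLinearMap
      (Ideal.Quotient.mkₐ_surjective k I)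
    exact ⟨(IsAlgClosed.lift (R := k) (S := C ⧸ I) (M := Ω)).comp (Ideal.Quotient.mkₐ k I)⟩
  have hfactor : ∀ {D : Type u} [CommRing D] [Algebra k D] (t : D →ₐ[k] Ω),
      (∀ d, t d ^ (Nat.card k ^ N) = t d) → ∃ s : D →ₐ[k] K, K.val.comp s = t := fun {D} _ _ t ht => by
    have hmem : ∀ d, t d ∈ K := fun d => by
      have := Fintype.ofFinite K
      obtain ⟨c, hc⟩ := mem_range_of_pow_eq (F := K) (algebraMap K Ω)
        (by rw [Module.natCard_eq_pow_finrank (K := k), hKdim]; exact ht d)
      exact hc ▸ c.2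
    exact ⟨t.codRestrict K.toSubalgebra hmem, AlgHom.ext fun d => rfl⟩
  let r : ∀ X : Over (Spec (CommRingCat.of k)), Pts K X → Pts Ω X := fun X x => specEquiv K.val ≫ x
  have hr : ∀ X (x : Pts K X), fr φΩ X (r X x) = r X (fr φ X x) := fun X x => by
    show SGA7.specAut φΩ ≫ specEquiv K.val ≫ x = specEquiv K.val ≫ SGA7.specAut φ ≫ x
    rw [show SGA7.specAut φΩ = specEquiv φΩ.toAlgHom from rfl, show SGA7.specAut φ = specEquiv φ.toAlgHom from rfl,
      ← Category.assoc, ← Category.assoc, ← specEquiv_comp, ← specEquiv_comp]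
    congr 2
  have hrpts : ∀ {X : Over (Spec (CommRingCat.of k))} {D : Type u} [CommRing D] [Algebra k D] (e : X ≅ spec k D)
      (s : D →ₐ[k] K), r X (ptsEquiv e s) = ptsEquiv e (K.val.comp s) := fun {X D} _ _ e s => by
    show specEquiv K.val ≫ ptsEquiv e s = _
    rw [ptsEquiv_apply, ptsEquiv_apply, specEquiv_comp, Category.assoc]
  obtain ⟨gΩ, hgΩ⟩ := SchTorsor.exists_div P.isTorsor.1 (fr φΩ P.X (ptsEquiv eP t₀)) (ptsEquiv eP t₀)
  obtain ⟨g, rfl⟩ : ∃ g, r G g = gΩ := by
    obtain ⟨t, rfl⟩ := (ptsEquiv eG).surjective gΩ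
    obtain ⟨s, hs⟩ := hfactor t fun b => by
      have hb : ∀ j : ℕ, b ^ ((Nat.card k ^ n₀) ^ j) = b := fun j => by
        induction j with
        | zero => simp
        | succ j ih => rw [pow_succ (Nat.card k ^ n₀) j, pow_mul, ih, hperiod]
      rw [← map_pow, show Nat.card k ^ N = (Nat.card k ^ n₀) ^ m from pow_mul _ _ _, hb]
    exact ⟨ptsEquiv eG s, by rw [hrpts, hs]⟩
  have hiter : ∀ i, (fr φΩ P.X)^[i] (ptsEquiv eP t₀) = sm P.act (r G ((p g ^ i) 1)) (ptsEquiv eP t₀) := fun i => by
    induction i with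
    | zero =>
      rw [Function.iterate_zero, id, pow_zero, Equiv.Perm.one_apply]
      exact (by rw [show r G 1 = 1 from MonObj.comp_one _, sm_one])
    | succ i ih =>
      rw [Function.iterate_succ_apply', ih, fr_sm, ← hgΩ, pow_succ' (p g) i, Equiv.Perm.mul_apply]
      show sm P.act _ (sm P.act (r G g) _) = sm P.act (r G (θ φ G _ * g)) _
      rw [← sm_mul]
      congr 1
      show fr φΩ G (r G _) * r G g = r G _
      rw [hr]
      exact (MonObj.comp_mul _ _ _).symm
  obtain ⟨s₀, hs₀⟩ := hfactor t₀ fun c => by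
    have h1 : (fr φΩ P.X)^[N] (ptsEquiv eP t₀) = ptsEquiv eP t₀ := by
      rw [hiter, hp, Equiv.Perm.one_apply, show r G 1 = 1 from MonObj.comp_one _, sm_one]
    rw [fr_iterate] at h1
    have h2 := DFunLike.congr_fun ((ptsEquiv eP).injective h1) c
    change (φΩ ^ N) (t₀ c) = t₀ c at h2
    rwa [frob_pow, ← Nat.card_eq_fintype_card] at h2
  let x : Pts K P.X := ptsEquiv eP s₀
  refine ⟨split_of_card eP ?_, ⟨x⟩⟩
  have : IsIso (lift ((G ◁ x) ≫ P.act.act) (snd G (SGA7.pt (K := k) K))) := SchTorsor.isIso_of_section P.isTorsor.1 x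
  have hdim : Module.finrank k B * N = Module.finrank k C * N := by
    have h := finrank_eq_of_iso (k := k)
      ((specProd (B := B) (B' := K)).symm ≪≫ (eG.symm ⊗ᵢ Iso.refl (SGA7.pt (K := k) K)) ≪≫
        asIso (lift ((G ◁ x) ≫ P.act.act) (snd G (SGA7.pt (K := k) K))) ≪≫
        (eP ⊗ᵢ Iso.refl (SGA7.pt (K := k) K)) ≪≫ specProd)
    rwa [Module.finrank_tensorProduct, Module.finrank_tensorProduct, hKdim] at h
  have hPfin' : Finite (Pts K P.X) := by
    have := (card_points_le (k := k) (K := K) (B := C)).1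
    exact Finite.of_equiv _ (ptsEquiv eP)
  rw [← Nat.eq_of_mul_eq_mul_right hN hdim]
  exact hcardG.ge.trans (Nat.card_le_card_of_injective _ (sm_bijective P.isTorsor.1 x).1)

end Groth.Agent.S14277
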