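import Groth.Statements.S14310
import Groth.Agent.ZH85.PlaneSing.Poly

set_option autoImplicit false
universe u
open ArSing

namespace Groth.Agent.S14310

/-- Let k be an algebraically closed field, f a polynomial in two variables x = X_0, y = X_1 over k, and
a a point of k². The quotient of the power series ring k[[x,y]] by the polynomial f recentred at a
(which is the completed local ring at a of the plane curve f = 0) is isomorphic as a k-algebra to
k[[x,y]]/(y^2) if and only if f = g^2 h for polynomials g and h with h(a) ≠ 0, g(a) = 0 and some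
first partial derivative of g non-zero at a. (The published statement asks for the component through
a to be the square of a smooth plane curve; only smoothness at a matters and is what is stated here
— for the square of a nodal cubic the completed local ring at a smooth point of the cubic is still
k[[x,y]]/(y^2). No hypothesis on the characteristic of k is imposed; the published setting assumes a
characteristic different from 2, 3, 5 and 7, which the argument does not use.) -/
theorem result
    {k : Type u} [Field k] [IsAlgClosed k] (f : MvPolynomial (Fin 2) k) (a : Fin 2 → k) :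
    Nonempty ((MvPowerSeries (Fin 2) k ⧸ Ideal.span
        ({(MvPolynomial.aeval (fun i : Fin 2 => MvPolynomial.X i + MvPolynomial.C (a i)) f).toMvPowerSeries} :
          Set (MvPowerSeries (Fin 2) k))) ≃ₐ[k]
      (MvPowerSeries (Fin 2) k ⧸ Ideal.span ({MvPowerSeries.X 1 ^ 2} : Set (MvPowerSeries (Fin 2) k)))) ↔
    ∃ g h : MvPolynomial (Fin 2) k, f = g ^ 2 * h ∧ MvPolynomial.eval a h ≠ 0 ∧ MvPolynomial.eval a g = 0 ∧
      ∃ i : Fin 2, MvPolynomial.eval a (MvPolynomial.pderiv i g) ≠ 0 := by
  rw [← ZH85.PlaneSing.tau_apply]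
  constructor
  · rintro ⟨e⟩
    haveI : IsDomain (MvPowerSeries (Fin 2) k) := NoZeroDivisors.to_isDomain _
    set F := ZH85.PlaneSing.tau a f with hFdef
    have hG : MvPowerSeries.constantCoeff ((MvPowerSeries.X 1 : MvPowerSeries (Fin 2) k) ^ 2) = 0 := by simp
    have hX2 : (MvPowerSeries.X 1 : MvPowerSeries (Fin 2) k) ∉ Ideal.span {MvPowerSeries.X 1 ^ 2} := fun h => by
      obtain ⟨c, hc⟩ := Ideal.mem_span_singleton'.1 h
      have := congrArg (ZH85.PlaneSing.lin 1) hc
      simp [ZH85.PlaneSing.lin_mul, pow_two] at this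
    have hF0 : MvPowerSeries.constantCoeff F = 0 := by
      by_contra hne
      have htop : Ideal.span ({F} : Set (MvPowerSeries (Fin 2) k)) = ⊤ := Ideal.eq_top_of_isUnit_mem _
        (Ideal.mem_span_singleton_self F) (MvPowerSeries.isUnit_iff_constantCoeff.2 (isUnit_iff_ne_zero.2 hne))
      haveI := Ideal.Quotient.subsingleton_iff.2 htop
      haveI : Subsingleton (MvPowerSeries (Fin 2) k ⧸ Ideal.span ({MvPowerSeries.X 1 ^ 2} :
          Set (MvPowerSeries (Fin 2) k))) := e.symm.toEquiv.subsingleton
      exact hX2 (Ideal.Quotient.eq_zero_iff_mem.1 (Subsingleton.elim _ _))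
    obtain ⟨A, B, hA0, hB0, hA, hB, hspan⟩ := ZH85.PlaneSing.exists_spanning hF0 hG e
    have hBF : B ∉ Ideal.span ({F} : Set (MvPowerSeries (Fin 2) k)) := fun h => by
      rw [Ideal.Quotient.eq_zero_iff_mem.2 h, map_zero] at hB
      exact hX2 (Ideal.Quotient.eq_zero_iff_mem.1 hB.symm)
    have hB2 : F ∣ B ^ 2 := by
      rw [← Ideal.mem_span_singleton, ← Ideal.Quotient.eq_zero_iff_mem]
      apply e.injective
      rw [map_pow, map_pow, hB, map_zero, ← map_pow, Ideal.Quotient.eq_zero_iff_mem]
      exact Ideal.mem_span_singleton_self _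
    by_cases hlF : ∃ i, ZH85.PlaneSing.lin i F ≠ 0
    · exact absurd (Ideal.mem_span_singleton.2 ((ZH85.PlaneSing.prime_of_lin hF0 hlF).dvd_of_dvd_pow hB2)) hBF
    push Not at hlF
    have hlB : ∃ i, ZH85.PlaneSing.lin i B ≠ 0 := by
      by_contra hno
      push Not at hno
      have hj : ∀ i j : Fin 2, ∃ p : MvPowerSeries (Fin 2) k,
          (if i = j then (1 : k) else 0) = MvPowerSeries.constantCoeff p * ZH85.PlaneSing.lin i A ∧
          ∀ i', (if i' = j then (1 : k) else 0) = MvPowerSeries.constantCoeff p * ZH85.PlaneSing.lin i' A := by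
        intro i j
        obtain ⟨p, q, r, h⟩ := hspan j
        have hh : ∀ i', (if i' = j then (1 : k) else 0) =
            MvPowerSeries.constantCoeff p * ZH85.PlaneSing.lin i' A := fun i' => by
          rw [← ZH85.PlaneSing.lin_X, h]
          simp [ZH85.PlaneSing.lin_mul, hA0, hB0, hF0, hno, hlF]
        exact ⟨p, hh i, hh⟩
      obtain ⟨p, hp, hp'⟩ := hj 0 0
      obtain ⟨q, hq, hq'⟩ := hj 1 1
      simp only [if_true] at hp hq
      have h10 := hp' 1
      rw [if_neg one_ne_zero] at h10
      rcases mul_eq_zero.1 h10.symm with h | h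
      · rw [h, zero_mul] at hp; exact one_ne_zero hp
      · rw [h, mul_zero] at hq; exact one_ne_zero hq
    obtain ⟨c, hc⟩ := hB2
    have hP := ZH85.PlaneSing.prime_of_lin hB0 hlB
    obtain ⟨i, hi, hass⟩ := (dvd_prime_pow hP 2).1 (Dvd.intro c hc.symm)
    obtain ⟨w, hw⟩ := hass.symm
    have hwu : MvPowerSeries.constantCoeff (w : MvPowerSeries (Fin 2) k) ≠ 0 :=
      (w.isUnit.map MvPowerSeries.constantCoeff).ne_zero
    interval_cases i
    · rw [pow_zero, one_mul] at hw
      exact absurd (hw ▸ hF0) hwu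
    · exfalso
      refine hBF (Ideal.mem_span_singleton.2 ⟨↑w⁻¹, ?_⟩)
      rw [← hw, pow_one, Units.mul_inv_cancel_right]
    · exact ZH85.PlaneSing.exists_sq_factor a hB0 hlB hwu (by rw [← hFdef, ← hw, mul_comm])
  · rintro ⟨g, h, rfl, hh, hg, i, hi⟩
    obtain ⟨e⟩ := ZH85.PlaneSing.nonempty_germ_X_one (L := ZH85.PlaneSing.tau a g)
      ((ZH85.PlaneSing.constantCoeff_tau a g).trans hg) ⟨i, by rwa [ZH85.PlaneSing.lin_tau]⟩ 2
    obtain ⟨e'⟩ := ZH85.PlaneSing.nonempty_germ_equiv (AlgEquiv.refl (R := k))
      (F := ZH85.PlaneSing.tau a (g ^ 2 * h)) (G := ZH85.PlaneSing.tau a g ^ 2) (by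
      have hu : IsUnit (ZH85.PlaneSing.tau a h) := MvPowerSeries.isUnit_iff_constantCoeff.2
        (isUnit_iff_ne_zero.2 (by rwa [ZH85.PlaneSing.constantCoeff_tau]))
      rw [AlgEquiv.coe_refl, id, map_mul, map_pow]
      exact associated_mul_unit_left _ _ hu)
    exact ⟨e'.trans e⟩

end Groth.Agent.S14310
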