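import Groth.Statements.S14311
import Groth.Agent.ZH85.PlaneSing.Normal

set_option autoImplicit false
universe u
open ArSing

namespace Groth.Agent.S14311

/-- Let k be an algebraically closed field in which 2 ≠ 0, f a polynomial in x = X_0, y = X_1 over k and
a a zero of f in k². Then the gradient and all second partial derivatives of f vanish at a if and
only if the completed local ring k[[x,y]]/(f recentred at a) of the plane curve f = 0 at a is
isomorphic as a k-algebra neither to k[[x,y]]/(y^2 - x^(n+1)) for any natural number n nor to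
k[[x,y]]/(y^2). (Here n = 0, a smooth point, is allowed; with n ≥ 1 only, as in the published
definition of an A-singularity, the equivalence fails at smooth points of the curve. Only 2 ≠ 0 is
assumed of the characteristic; the published setting assumes a characteristic different from 2, 3, 5
and 7.) -/
theorem result
    {k : Type u} [Field k] [IsAlgClosed k] (h2 : (2 : k) ≠ 0) (f : MvPolynomial (Fin 2) k) (a : Fin 2 → k)
    (hfa : MvPolynomial.eval a f = 0) :
    ((∀ i : Fin 2, MvPolynomial.eval a (MvPolynomial.pderiv i f) = 0) ∧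
      ∀ i j : Fin 2, MvPolynomial.eval a (MvPolynomial.pderiv i (MvPolynomial.pderiv j f)) = 0) ↔
    ¬ ((∃ n : ℕ, Nonempty ((MvPowerSeries (Fin 2) k ⧸ Ideal.span
        ({(MvPolynomial.aeval (fun i : Fin 2 => MvPolynomial.X i + MvPolynomial.C (a i)) f).toMvPowerSeries} :
          Set (MvPowerSeries (Fin 2) k))) ≃ₐ[k] ArSing.ring k n)) ∨
        Nonempty ((MvPowerSeries (Fin 2) k ⧸ Ideal.span
        ({(MvPolynomial.aeval (fun i : Fin 2 => MvPolynomial.X i + MvPolynomial.C (a i)) f).toMvPowerSeries} :
          Set (MvPowerSeries (Fin 2) k))) ≃ₐ[k]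
          (MvPowerSeries (Fin 2) k ⧸ Ideal.span ({MvPowerSeries.X 1 ^ 2} : Set (MvPowerSeries (Fin 2) k))))) := by
  rw [← ZH85.PlaneSing.tau_apply]
  set F := ZH85.PlaneSing.tau a f with hFdef
  have h0 : MvPowerSeries.constantCoeff F = 0 := (ZH85.PlaneSing.constantCoeff_tau a f).trans hfa
  constructor
  · rintro ⟨hg, hh⟩
    have hlF : ∀ i, ZH85.PlaneSing.lin i F = 0 := fun i => (ZH85.PlaneSing.lin_tau a i f).trans (hg i)
    have hhF : ∀ i j, ZH85.PlaneSing.hess i j F = 0 := fun i j =>
      (ZH85.PlaneSing.hess_tau a i j f).trans (hh i j)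
    rintro (⟨n, he⟩ | he)
    · exact ZH85.PlaneSing.not_equiv_of_flat h2 h0 hlF hhF (Or.inr ⟨n, rfl⟩) he
    · exact ZH85.PlaneSing.not_equiv_of_flat h2 h0 hlF hhF (Or.inl rfl) he
  · intro hno
    by_contra hcon
    apply hno
    by_cases hl : ∀ i, ZH85.PlaneSing.lin i F = 0
    · refine ZH85.PlaneSing.exists_normalForm h2 h0 hl ?_
      by_contra hall
      push Not at hall
      exact hcon ⟨fun i => (ZH85.PlaneSing.lin_tau a i f).symm.trans (hl i),
        fun i j => (ZH85.PlaneSing.hess_tau a i j f).symm.trans (hall i j)⟩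
    · push Not at hl
      obtain ⟨e⟩ := ZH85.PlaneSing.nonempty_germ_X_one h0 hl 1
      obtain ⟨e'⟩ := ZH85.PlaneSing.nonempty_germ_X_one (L := ArSing.eqn k 0) (by simp [ArSing.eqn])
        ⟨0, by simp [ArSing.eqn, pow_two, ZH85.PlaneSing.lin_mul]⟩ 1
      rw [pow_one] at e e'
      exact Or.inl ⟨0, ⟨e.trans e'.symm⟩⟩

end Groth.Agent.S14311
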