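import Groth.Statements.S14313
import Groth.Agent.SurfInt.Nef
import Groth.Agent.SurfInt.Curve
import Groth.Agent.GrpSchLib.SmoothRegular
-- import your own Groth.Agent.* helpers here

set_option autoImplicit false
set_option backward.isDefEq.respectTransparency false
set_option backward.isDefEq.respectTransparency.types false
set_option linter.style.haveILetI false
set_option maxHeartbeats 1600000
attribute [-instance] CategoryTheory.catToReflQuiver
universe u
open CategoryTheory CategoryTheory.Limits AlgebraicGeometry TopologicalSpace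
open Surf

namespace Groth.Agent.S14313

/-- Let k be an algebraically closed field, S a smooth projective surface over k (integral, proper and
smooth over k, of dimension 2), f : S → C a surjective k-morphism onto a smooth projective curve
(integral, proper and smooth over k, of dimension 1) and F = f⁻¹(p) the fibre over a closed point p,
with O_S(F) a tensor inverse of its ideal sheaf. Let D be a divisor (L = O_S(D) an invertible
module), Z_1 ≥ Z_2 ≥ ⋯ ≥ Z_n ≥ Z_{n+1} = 0 effective Cartier divisors (ideal sheaves I_1 ⊆ I_2 ⊆ ⋯ ⊆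
I_{n+1} = O_S) and μ_1 > μ_2 > ⋯ > μ_n > μ_{n+1} = 0 rational numbers such that every N_i = D − Z_i
− μ_i F (1 ≤ i ≤ n + 1) is a nef ℚ-divisor: (D·Γ) − (Z_i·Γ) − μ_i (F·Γ) ≥ 0 for every integral curve
Γ ⊆ S, where (L·Γ) = χ(O_Γ ⊗ L) − χ(O_Γ) and (Z_i·Γ) = −(I_i·Γ). Put d_i = N_i·F = (D·F) − (Z_i·F) −
μ_i (F·F). Then D² ≥ Σ_{i=1}^{n} (d_i + d_{i+1})(μ_i − μ_{i+1}); here (L·M) = χ(O_S) − χ(L) − χ(M) +
χ(L ⊗ M) for invertible L, M, packaged as FGA.intNum. (Indices run over Fin (n+1), position i
standing for i + 1.) (The published statement is for the chapter's fibration, with connected fibres,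
semi-stable and relatively minimal, over an algebraically closed field of positive characteristic;
this row asks only that f be surjective and allows any algebraically closed field.) -/
theorem result (k : Type u) [Field k] [IsAlgClosed k]
    (S : Scheme.{u}) [S.Over (Spec (CommRingCat.of k))] [IsProper (S ↘ (Spec (CommRingCat.of k)))]
    [Smooth (S ↘ (Spec (CommRingCat.of k)))] [IsIntegral S] (hdim : topologicalKrullDim S = 2)
    (C : Scheme.{u}) [C.Over (Spec (CommRingCat.of k))] [IsProper (C ↘ (Spec (CommRingCat.of k)))]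
    [Smooth (C ↘ (Spec (CommRingCat.of k)))] [IsIntegral C] (hdimC : topologicalKrullDim C = 1)
    (f : S ⟶ C) [f.IsOver (Spec (CommRingCat.of k))] [Surjective f]
    (p : C) (hp : IsClosed ({p} : Set C))
    (LF : S.Modules) (hLF : ClSub.IsInverseOf LF (ClSub.idealMod (f.fiberι p).ker))
    (L : S.Modules) (hL : PicF.IsInvertible L)
    (n : ℕ) (Z : Fin (n + 1) → S.IdealSheafData) (hZ : ∀ i, FGA.IsEffCartier (Z i))
    (hZmono : Monotone Z) (hZlast : Z (Fin.last n) = ⊤)
    (μ : Fin (n + 1) → ℚ) (hμ : StrictAnti μ) (hμlast : μ (Fin.last n) = 0)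
    (hnef : ∀ (i : Fin (n + 1)) (Γ : S.IdealSheafData), IsIntegral Γ.subscheme →
      topologicalKrullDim (Γ.support : Set S) = 1 →
      (0 : ℚ) ≤ ((Curv2.euler k S (CohB1.tensorMod (ClSub.quotMod Γ) L) - Curv2.euler k S (ClSub.quotMod Γ)) : ℚ) + ((Curv2.euler k S (CohB1.tensorMod (ClSub.quotMod Γ) (ClSub.idealMod (Z i))) - Curv2.euler k S (ClSub.quotMod Γ)) : ℚ)
        - μ i * ((Curv2.euler k S (CohB1.tensorMod (ClSub.quotMod Γ) LF) - Curv2.euler k S (ClSub.quotMod Γ)) : ℚ)) :
    (Finset.univ.sum fun i : Fin n =>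
        (((FGA.intNum k S 2 ![L, LF] (Coh.structureModule S) : ℚ) + (FGA.intNum k S 2 ![ClSub.idealMod (Z i.castSucc), LF] (Coh.structureModule S) : ℚ) - μ i.castSucc * (FGA.intNum k S 2 ![LF, LF] (Coh.structureModule S) : ℚ))
          + ((FGA.intNum k S 2 ![L, LF] (Coh.structureModule S) : ℚ) + (FGA.intNum k S 2 ![ClSub.idealMod (Z i.succ), LF] (Coh.structureModule S) : ℚ) - μ i.succ * (FGA.intNum k S 2 ![LF, LF] (Coh.structureModule S) : ℚ)))
        * (μ i.castSucc - μ i.succ)) ≤ (FGA.intNum k S 2 ![L, L] (Coh.structureModule S) : ℚ) := by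
  haveI := CurveCohLib.isNoetherian_of_proper (k := k) (X := S)
  haveI : IsLocallyNoetherian C := LocallyOfFiniteType.isLocallyNoetherian (C ↘ Spec (CommRingCat.of k))
  have hreg := fun x => GrpSchLib.isRegularLocalRing_stalk_of_smooth (S ↘ Spec (CommRingCat.of k)) x
  have hregC := fun x => GrpSchLib.isRegularLocalRing_stalk_of_smooth (C ↘ Spec (CommRingCat.of k)) x
  obtain ⟨H, hH⟩ := SurfInt.exists_isAmple k hdim hreg
  have hd : topologicalKrullDim S ≤ (2 : ℕ) := hdim.le
  have hHH := SurfInt.pair_self_pos_of_ample k hdim hH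
  -- the fibre
  haveI : IsClosedImmersion (C.fromSpecResidueField p) := IsClosedImmersion.of_isPreimmersion _
    (by rw [Scheme.range_fromSpecResidueField]; exact hp)
  have hη : f (genericPoint S) ≠ p := fun h => by
    have hsub : Set.range f ⊆ {p} := by
      rintro _ ⟨x, rfl⟩
      have := ((genericPoint_spec (S : Type u)).specializes (Set.mem_univ x)).map f.continuous
      rw [h] at this
      exact (hp.closure_eq).le (specializes_iff_mem_closure.1 this)
    rw [f.surjective.range_eq] at hsub
    have h1 := ((Homeomorph.Set.univ C).isHomeomorph.topologicalKrullDim_eq).trans hdimC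
    have h2 := (H23.TopDim.dim_le_dim_of_subset hsub).trans (SurfInt.dim_singleton_le_zero p)
    rw [h1] at h2
    exact absurd h2 (by decide)
  have hF := SurfInt.isEffCartier_fibre hp (SurfInt.isEffCartier_point k hdimC hregC hp) f hη
  set IF := (f.fiberι p).ker with hIFdef
  have hIF := SurfInt.isInvertible_idealMod hF
  obtain ⟨eF⟩ := hLF
  have hLFi : PicF.IsInvertible LF := SurfInt.isInvertible_of_tensor_iso hIF (SurfInt.tComm _ _ ≪≫ eF)
  have hI : ∀ i, PicF.IsInvertible (ClSub.idealMod (Z i)) := fun i => SurfInt.isInvertible_idealMod (hZ i)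
  -- rational degree functionals
  let Φ : Fin (n + 1) → S.Modules → ℚ := fun i G =>
    SurfInt.degFun k L G + SurfInt.degFun k (ClSub.idealMod (Z i)) G - μ i * SurfInt.degFun k LF G
  have hiso : ∀ i (M N : S.Modules), Nonempty (M ≅ N) → Φ i M = Φ i N := fun i M N h => by
    simp only [Φ]
    rw [SurfInt.degFun_iso k hL h, SurfInt.degFun_iso k (hI i) h, SurfInt.degFun_iso k hLFi h]
  have hadd : ∀ i (T : ShortComplex S.Modules), T.ShortExact → Coh.IsCoh T.X₁ → Coh.IsCoh T.X₂ →
      Coh.IsCoh T.X₃ → Φ i T.X₂ = Φ i T.X₁ + Φ i T.X₃ := fun i T hT a b c => by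
    simp only [Φ]
    rw [SurfInt.degFun_add k hL T hT a b c, SurfInt.degFun_add k (hI i) T hT a b c,
      SurfInt.degFun_add k hLFi T hT a b c]
    ring
  have hsmall : ∀ i (M : S.Modules), Coh.IsCoh M →
      topologicalKrullDim ↥(CohB1.support M) ≤ ((0 : ℕ) : WithBot ℕ∞) → Φ i M = 0 := fun i M hM hd0 => by
    simp only [Φ]
    rw [SurfInt.degFun_eq_zero k hL hM hd0, SurfInt.degFun_eq_zero k (hI i) hM hd0,
      SurfInt.degFun_eq_zero k hLFi hM hd0]
    ring
  have hcurve : ∀ i (η : S), SurfInt.IsCurvePt η → 0 ≤ Φ i (ClSub.quotMod (VarBase.clIdeal η)) := fun i η hη' => by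
    have h := hnef i (VarBase.clIdeal η) (SurfInt.isIntegral_clIdeal η)
      (by rw [Scheme.IdealSheafData.coe_support_vanishingIdeal]; exact hη')
    simp only [Φ, SurfInt.degFun, HilbPoly.iterD]
    push_cast at h ⊢
    exact h
  have hdimI : ∀ E : S.IdealSheafData, BlowUp.IsEffCartierIdeal E →
      topologicalKrullDim ↥(E.support : Set S) ≤ ((1 : ℕ) : WithBot ℕ∞) := fun E hE => by
    refine HilbPoly.le_of_lt_succ (HilbPoly.dim_lt_closure (n := 2) (x := genericPoint S) ?_ E.support.isClosed
      (by rw [genericPoint_closure]; exact Set.subset_univ _) (SurfInt.genericPoint_notMem_support hE))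
    rw [genericPoint_closure]
    exact (topologicalKrullDim_subspace_le ↥S _).trans hdim.le
  -- the numbers
  let P : S.Modules → S.Modules → ℚ := fun A B => (SurfInt.pair k A B : ℚ)
  have hcomm : ∀ A B, P A B = P B A := fun A B => by simp only [P]; rw [SurfInt.pair_comm]
  let J : Fin (n + 1) → S.Modules := fun i => ClSub.idealMod (Z i)
  have hΦ : ∀ i (E : S.IdealSheafData), BlowUp.IsEffCartierIdeal E → Φ i (ClSub.quotMod E) =
      -(P (ClSub.idealMod E) L + P (ClSub.idealMod E) (J i) - μ i * P (ClSub.idealMod E) LF) := fun i E hE => by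
    simp only [Φ, P, J, SurfInt.degFun_quotMod]
    rw [SurfInt.pair_ideal_left k E hL, SurfInt.pair_ideal_left k E (hI i), SurfInt.pair_ideal_left k E hLFi]
    push_cast
    ring
  have hFneg : ∀ B : S.Modules, PicF.IsInvertible B → P LF B = -P (ClSub.idealMod IF) B := fun B hB => by
    simp only [P]
    rw [SurfInt.pair_inverse_left k hd hIF hLFi hB (SurfInt.tComm _ _ ≪≫ eF)]
    push_cast
    rfl
  let d : Fin (n + 1) → ℚ := fun i => P L LF + P (J i) LF - μ i * P LF LF
  let g : Fin (n + 1) → ℚ := fun i => P L L + 2 * P L (J i) + P (J i) (J i)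
    - 2 * μ i * (P L LF + P (J i) LF) + μ i * μ i * P LF LF
  have hstep : ∀ i : Fin n, (d i.castSucc + d i.succ) * (μ i.castSucc - μ i.succ) ≤ g i.succ - g i.castSucc := by
    intro i
    have hle : Z i.castSucc ≤ Z i.succ := hZmono (Fin.castSucc_lt_succ (i := i)).le
    have hm := fun j => SurfInt.le_of_curves (Φ j) (hiso j) (hadd j) (hsmall j) (hcurve j) hle
      (hdimI _ (hZ i.castSucc))
    have h1 := hm i.castSucc
    have h2 := hm i.succ
    rw [hΦ _ _ (hZ i.castSucc), hΦ _ _ (hZ i.succ)] at h1 h2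
    simp only [d, g]
    have e1 := hcomm (J i.succ) (J i.castSucc)
    have e2 := hcomm (J i.succ) L
    have e3 := hcomm (J i.castSucc) L
    simp only [J] at h1 h2 e1 e2 e3 ⊢
    linarith
  -- the first class is nef
  have hμ0 : 0 ≤ μ 0 := hμlast ▸ hμ.antitone (Fin.zero_le _)
  have hg0 : 0 ≤ g 0 := by
    obtain ⟨a, ha⟩ := Int.eq_ofNat_of_zero_le (Rat.num_nonneg.2 hμ0)
    let b := (μ 0).den
    have hab : μ 0 * (b : ℚ) = (a : ℚ) := by
      rw [Rat.mul_den_eq_num, ha]; rfl
    have hb : (0 : ℚ) < (b : ℚ) := by exact_mod_cast (μ 0).den_pos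
    have hLb := InvX.isInvertible_tensorPow hL b
    have hJb := InvX.isInvertible_tensorPow (hI 0) b
    have hFa := InvX.isInvertible_tensorPow hIF a
    have hLJ := InvX.isInvertible_tensorMod hLb hJb
    have hN := InvX.isInvertible_tensorMod hLJ hFa
    let N := CohB1.tensorMod (CohB1.tensorMod (CohB1.tensorPow L b) (CohB1.tensorPow (J 0) b))
      (CohB1.tensorPow (ClSub.idealMod IF) a)
    have hNB : ∀ B : S.Modules, PicF.IsInvertible B →
        P N B = b * (P L B + P (J 0) B) + a * P (ClSub.idealMod IF) B := fun B hB => by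
      simp only [P, N, J]
      rw [SurfInt.pair_tensor_left k hd hLJ hFa hB, SurfInt.pair_tensor_left k hd hLb hJb hB,
        SurfInt.pair_tensorPow_left k hd hL hB, SurfInt.pair_tensorPow_left k hd (hI 0) hB,
        SurfInt.pair_tensorPow_left k hd hIF hB]
      push_cast
      ring
    have hnefN : ∀ η : S, SurfInt.IsCurvePt η → 0 ≤ SurfInt.curveDeg k (VarBase.clIdeal η) N := fun η hη' => by
      have hE := SurfInt.isEffCartier_clIdeal hreg hdim hη'
      have h0 := hcurve 0 η hη'
      rw [hΦ _ _ hE] at h0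
      have hEi := SurfInt.isInvertible_idealMod hE
      have h1 : (SurfInt.curveDeg k (VarBase.clIdeal η) N : ℚ) = -P (ClSub.idealMod (VarBase.clIdeal η)) N := by
        simp only [P]; rw [SurfInt.pair_ideal_left k _ hN]; push_cast; ring
      rw [hcomm _ N, hNB _ hEi, hcomm L, hcomm (J 0), hcomm (ClSub.idealMod IF)] at h1
      have h2 := hFneg _ hEi
      rw [hcomm LF, hcomm (ClSub.idealMod IF)] at h2
      rw [h2] at h0
      have h3 : (0 : ℚ) ≤ SurfInt.curveDeg k (VarBase.clIdeal η) N := by
        rw [h1, ← hab]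
        have := mul_nonneg hb.le h0
        linarith
      exact_mod_cast h3
    have hNN := SurfInt.pair_self_nonneg_of_nef k hd hH hN hnefN hHH
    have h4 : P N N = (b : ℚ) * b * g 0 := by
      have hF1 := hFneg L hL
      have hF2 := hFneg (J 0) (hI 0)
      have hF3 := hFneg LF hLFi
      have hF4 := hFneg (ClSub.idealMod IF) hIF
      rw [hNB N hN, hcomm L N, hcomm (J 0) N, hcomm (ClSub.idealMod IF) N, hNB L hL, hNB (J 0) (hI 0),
        hNB _ hIF, ← hab]
      simp only [g]
      rw [hcomm LF L] at hF1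
      rw [hcomm LF (J 0)] at hF2
      rw [hcomm LF (ClSub.idealMod IF)] at hF4
      rw [hF1, hF2, hF3, hF4, hcomm (J 0) L, hcomm (ClSub.idealMod IF) L, hcomm (ClSub.idealMod IF) (J 0)]
      ring
    have h5 : (0 : ℚ) ≤ P N N := by simp only [P]; exact_mod_cast hNN
    rw [h4] at h5
    exact nonneg_of_mul_nonneg_right h5 (by positivity)
  have hlast : g (Fin.last n) = P L L := by
    have htop : ∀ B : S.Modules, PicF.IsInvertible B → P (J (Fin.last n)) B = 0 := fun B hB => by
      simp only [P, J, hZlast]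
      rw [SurfInt.pair_ideal_left k _ hB, SurfInt.curveDeg_top k hB]
      norm_num
    simp only [g, hμlast]
    rw [hcomm L (J _), htop _ hL, htop _ (hI _)]
    ring
  have hsum : ∑ i : Fin n, (g i.succ - g i.castSucc) = g (Fin.last n) - g 0 := by
    rw [Finset.sum_sub_distrib]
    have a1 := Fin.sum_univ_succ g
    have a2 := Fin.sum_univ_castSucc g
    linarith
  have hmain : ∑ i : Fin n, (d i.castSucc + d i.succ) * (μ i.castSucc - μ i.succ) ≤ P L L := by
    refine (Finset.sum_le_sum fun i _ => hstep i).trans ?_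
    rw [hsum, hlast]
    linarith
  simp only [d, P, J] at hmain
  simp only [SurfInt.intNum_eq_pair k hd hL hL, SurfInt.intNum_eq_pair k hd hL hLFi,
    SurfInt.intNum_eq_pair k hd (hI _) hLFi, SurfInt.intNum_eq_pair k hd hLFi hLFi]
  exact hmain

end Groth.Agent.S14313
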