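import Groth.Statements.S14314
import Groth.Agent.SurfInt.Positivity
import Groth.Agent.GrpSchLib.SmoothRegular
-- import your own Groth.Agent.* helpers here

set_option autoImplicit false
set_option linter.style.haveILetI false
universe u
open CategoryTheory CategoryTheory.Limits AlgebraicGeometry TopologicalSpace
open Surf

attribute [-instance] CategoryTheory.catToReflQuiver

namespace Groth.Agent.S14314

open Groth.Agent Groth.Agent.SurfInt

/-- Let k be an algebraically closed field, S a smooth projective surface over k (integral, proper and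
smooth over k, of dimension 2), f : S → C a surjective k-morphism onto a smooth projective curve and
F = f⁻¹(p) the fibre over a closed point p, with O_S(F) a tensor inverse of its ideal sheaf. Let
D_1, D_2 be numerically equivalent divisors (invertible modules L_1, L_2 with (L_1·Γ) = (L_2·Γ) for
every integral curve Γ ⊆ S, where (L·Γ) = χ(O_Γ ⊗ L) − χ(O_Γ)), μ_1 ≥ μ_2 rational numbers and Z_1,
Z_2 effective Cartier divisors with common part Z, that is Z_i = Z + Y_i with Z, Y_1, Y_2 effective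
Cartier divisors and Y_1, Y_2 without common component (Y_1 ∩ Y_2 finite); in terms of ideal sheaves
I_{Z_i} = I_Z · I_{Y_i}. If N_i = D_i − Z_i − μ_i F is nef for i = 1, 2, that is (D_i·Γ) +
(I_{Z_i}·Γ) − μ_i (F·Γ) ≥ 0 for every integral curve Γ, then N = D_2 − Z − μ_2 F is nef. (The
published statement is for the chapter's fibration over an algebraically closed field of positive
characteristic; this row asks only that f be surjective and allows any algebraically closed field.) -/
theorem result (k : Type u) [Field k] [IsAlgClosed k]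
    (S : Scheme.{u}) [S.Over (Spec (CommRingCat.of k))] [IsProper (S ↘ (Spec (CommRingCat.of k)))]
    [Smooth (S ↘ (Spec (CommRingCat.of k)))] [IsIntegral S] (hdim : topologicalKrullDim S = 2)
    (C : Scheme.{u}) [C.Over (Spec (CommRingCat.of k))] [IsProper (C ↘ (Spec (CommRingCat.of k)))]
    [Smooth (C ↘ (Spec (CommRingCat.of k)))] [IsIntegral C] (hdimC : topologicalKrullDim C = 1)
    (f : S ⟶ C) [f.IsOver (Spec (CommRingCat.of k))] [Surjective f]
    (p : C) (hp : IsClosed ({p} : Set C))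
    (LF : S.Modules) (hLF : ClSub.IsInverseOf LF (ClSub.idealMod (f.fiberι p).ker))
    (L₁ L₂ : S.Modules) (hL₁ : PicF.IsInvertible L₁) (hL₂ : PicF.IsInvertible L₂)
    (hnum : ∀ Γ : S.IdealSheafData, IsIntegral Γ.subscheme → topologicalKrullDim (Γ.support : Set S) = 1 →
      (Curv2.euler k S (CohB1.tensorMod (ClSub.quotMod Γ) L₁) - Curv2.euler k S (ClSub.quotMod Γ)) = (Curv2.euler k S (CohB1.tensorMod (ClSub.quotMod Γ) L₂) - Curv2.euler k S (ClSub.quotMod Γ)))
    (μ₁ μ₂ : ℚ) (hμ : μ₂ ≤ μ₁)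
    (Z Y₁ Y₂ Z₁ Z₂ : S.IdealSheafData) (hZ : FGA.IsEffCartier Z) (hY₁ : FGA.IsEffCartier Y₁) (hY₂ : FGA.IsEffCartier Y₂)
    (hZ₁ : Z₁ = Z * Y₁) (hZ₂ : Z₂ = Z * Y₂) (hY : ((Y₁ ⊔ Y₂).support : Set S).Finite)
    (hnef₁ : (∀ Γ : S.IdealSheafData, IsIntegral Γ.subscheme → topologicalKrullDim (Γ.support : Set S) = 1 →
      (0 : ℚ) ≤ ((Curv2.euler k S (CohB1.tensorMod (ClSub.quotMod Γ) L₁) - Curv2.euler k S (ClSub.quotMod Γ)) : ℚ) + ((Curv2.euler k S (CohB1.tensorMod (ClSub.quotMod Γ) (ClSub.idealMod Z₁)) - Curv2.euler k S (ClSub.quotMod Γ)) : ℚ)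
        - μ₁ * ((Curv2.euler k S (CohB1.tensorMod (ClSub.quotMod Γ) LF) - Curv2.euler k S (ClSub.quotMod Γ)) : ℚ)))
    (hnef₂ : (∀ Γ : S.IdealSheafData, IsIntegral Γ.subscheme → topologicalKrullDim (Γ.support : Set S) = 1 →
      (0 : ℚ) ≤ ((Curv2.euler k S (CohB1.tensorMod (ClSub.quotMod Γ) L₂) - Curv2.euler k S (ClSub.quotMod Γ)) : ℚ) + ((Curv2.euler k S (CohB1.tensorMod (ClSub.quotMod Γ) (ClSub.idealMod Z₂)) - Curv2.euler k S (ClSub.quotMod Γ)) : ℚ)
        - μ₂ * ((Curv2.euler k S (CohB1.tensorMod (ClSub.quotMod Γ) LF) - Curv2.euler k S (ClSub.quotMod Γ)) : ℚ))) :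
    (∀ Γ : S.IdealSheafData, IsIntegral Γ.subscheme → topologicalKrullDim (Γ.support : Set S) = 1 →
      (0 : ℚ) ≤ ((Curv2.euler k S (CohB1.tensorMod (ClSub.quotMod Γ) L₂) - Curv2.euler k S (ClSub.quotMod Γ)) : ℚ) + ((Curv2.euler k S (CohB1.tensorMod (ClSub.quotMod Γ) (ClSub.idealMod Z)) - Curv2.euler k S (ClSub.quotMod Γ)) : ℚ)
        - μ₂ * ((Curv2.euler k S (CohB1.tensorMod (ClSub.quotMod Γ) LF) - Curv2.euler k S (ClSub.quotMod Γ)) : ℚ)) := by
  haveI := CurveCohLib.isNoetherian_of_proper (k := k) (X := S)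
  haveI := CurveCohLib.isNoetherian_of_proper (k := k) (X := C)
  have hregS : ∀ x : S, IsRegularLocalRing (S.presheaf.stalk x) := fun x =>
    GrpSchLib.isRegularLocalRing_stalk_of_smooth (S ↘ Spec (CommRingCat.of k)) x
  have hregC : ∀ x : C, IsRegularLocalRing (C.presheaf.stalk x) := fun x =>
    GrpSchLib.isRegularLocalRing_stalk_of_smooth (C ↘ Spec (CommRingCat.of k)) x
  have h2 := dim_le_of_eq hdim
  haveI : IsClosedImmersion (C.fromSpecResidueField p) := isClosed_singleton_iff_isClosedImmersion.mp hp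
  have hpt := isEffCartier_point k hdimC hregC hp
  have hη : f (genericPoint S) ≠ p := fun h => by
    have hall : ∀ c : C, c = p := fun c => by
      obtain ⟨s, rfl⟩ := f.surjective c
      have hs : f (genericPoint S) ⤳ f s :=
        ((genericPoint_spec S).specializes (Set.mem_univ s)).map f.continuous
      rw [h] at hs
      exact hs.mem_closed hp (Set.mem_singleton p)
    haveI : Subsingleton C := ⟨fun a b => (hall a).trans (hall b).symm⟩
    haveI : DiscreteTopology C := Subsingleton.discreteTopology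
    have h0 := topologicalKrullDim_zero_of_discreteTopology C
    rw [hdimC] at h0
    exact absurd h0 (not_le.2 zero_lt_one)
  have hF := isEffCartier_fibre hp hpt f hη
  have hLFi : PicF.IsInvertible LF := isInvertible_of_inverseOf_right (isInvertible_idealMod hF) hLF
  intro Γ hΓi hΓd
  haveI := hΓi
  have hΓ := isEffCartier_curve k hdim hregS Γ hΓd
  -- the three nonnegativity inputs
  have hFnp := curveDeg_fibre_nonpos k hp hpt f hη hΓ hΓd
  have hsum := curveDeg_tensor k h2 hΓ hLFi (isInvertible_idealMod hF)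
  rw [curveDeg_congr k Γ hLF.some, curveDeg_O] at hsum
  have hFpos : (0 : ℚ) ≤ (curveDeg k Γ LF : ℚ) := by exact_mod_cast (by linarith : (0 : ℤ) ≤ curveDeg k Γ LF)
  have hmul : ∀ {Y : S.IdealSheafData}, FGA.IsEffCartier Y →
      curveDeg k Γ (ClSub.idealMod (Z * Y)) = curveDeg k Γ (ClSub.idealMod Z) + curveDeg k Γ (ClSub.idealMod Y) :=
    fun {Y} hY => by
      obtain ⟨e⟩ := nonempty_idealMod_mul (isEffCartierIdeal_of_fga hZ) (isEffCartierIdeal_of_fga hY)
      rw [curveDeg_congr k Γ e]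
      exact curveDeg_tensor k h2 hΓ (isInvertible_idealMod hZ) (isInvertible_idealMod hY)
  by_cases hs : (Γ.support : Set S) ⊆ Y₂.support
  · have hs1 : ¬ (Γ.support : Set S) ⊆ Y₁.support := fun hs1 => by
      have hfin : (Γ.support : Set S).Finite := hY.subset fun x hx => by
        rw [Scheme.IdealSheafData.support_sup]
        exact ⟨hs1 hx, hs hx⟩
      haveI : JacobsonSpace S := LocallyOfFiniteType.jacobsonSpace (S ↘ Spec (CommRingCat.of k))
      haveI : Finite (Γ.support : Set S) := hfin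
      haveI : T1Space (Γ.support : Set S) := t1Space_iff_exists_open.2 fun a b hab =>
        ⟨Subtype.val ⁻¹' ({(b : S)}ᶜ), (isClosed_of_finite_support hfin b b.2).isOpen_compl.preimage
          continuous_subtype_val, fun h => hab (Subtype.ext h), fun h => h rfl⟩
      have h0 := topologicalKrullDim_zero_of_discreteTopology (Γ.support : Set S)
      rw [hΓd] at h0
      exact absurd h0 (not_le.2 zero_lt_one)
    have hY1 : (curveDeg k Γ (ClSub.idealMod Y₁) : ℚ) ≤ 0 := by
      exact_mod_cast curveDeg_idealMod_nonpos k hΓ hΓd hY₁ hs1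
    have h := hnef₁ Γ hΓi hΓd
    have hn : ((curveDeg k Γ L₁ : ℤ) : ℚ) = (curveDeg k Γ L₂ : ℤ) := by
      exact_mod_cast hnum Γ hΓi hΓd
    have hm : μ₂ * (curveDeg k Γ LF : ℚ) ≤ μ₁ * (curveDeg k Γ LF : ℚ) := mul_le_mul_of_nonneg_right hμ hFpos
    have hz : (curveDeg k Γ (ClSub.idealMod Z₁) : ℚ) =
        curveDeg k Γ (ClSub.idealMod Z) + curveDeg k Γ (ClSub.idealMod Y₁) := by
      rw [hZ₁]; exact_mod_cast hmul hY₁
    simp only [curveDeg, Int.cast_sub] at hY1 hn hm hz
    linarith
  · have hY2 : (curveDeg k Γ (ClSub.idealMod Y₂) : ℚ) ≤ 0 := by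
      exact_mod_cast curveDeg_idealMod_nonpos k hΓ hΓd hY₂ hs
    have h := hnef₂ Γ hΓi hΓd
    have hz : (curveDeg k Γ (ClSub.idealMod Z₂) : ℚ) =
        curveDeg k Γ (ClSub.idealMod Z) + curveDeg k Γ (ClSub.idealMod Y₂) := by
      rw [hZ₂]; exact_mod_cast hmul hY₂
    simp only [curveDeg, Int.cast_sub] at hY2 hz
    linarith

end Groth.Agent.S14314
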