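import Groth.Statements.S14353
import Mathlib

set_option autoImplicit false
universe u
open CategoryTheory CategoryTheory.Limits CategoryTheory.MonoidalCategory
open CAlg

namespace Groth.Agent.S14353

open TensorProduct

/-- Compatible families lift along a map of systems of Artinian modules. -/
theorem exists_lift {R : Type u} [CommRing R] {A B : ℕ → Type u} [∀ n, AddCommGroup (A n)] [∀ n, Module R (A n)]
    [∀ n, AddCommGroup (B n)] [∀ n, Module R (B n)] [∀ n, IsArtinian R (A n)]
    (tA : ∀ {n m : ℕ}, n ≤ m → A m →ₗ[R] A n) (tB : ∀ {n m : ℕ}, n ≤ m → B m →ₗ[R] B n)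
    (hid : ∀ n (x : A n), tA (le_refl n) x = x)
    (hcomp : ∀ {n m l : ℕ} (h : n ≤ m) (h' : m ≤ l) (x : A l), tA h (tA h' x) = tA (h.trans h') x)
    (f : ∀ n, A n →ₗ[R] B n) (hf : ∀ {n m : ℕ} (h : n ≤ m) (x : A m), f n (tA h x) = tB h (f m x))
    (b : ∀ n, B n) (hb : ∀ {n m : ℕ} (h : n ≤ m), tB h (b m) = b n) (hmem : ∀ n, ∃ x, f n x = b n) :
    ∃ a : ∀ n, A n, (∀ n, f n (a n) = b n) ∧ ∀ {n m : ℕ} (h : n ≤ m), tA h (a m) = a n := by
  classical
  let P : ∀ n, A n → Prop := fun n x => ∀ (m : ℕ) (h : n ≤ m), ∃ a, f m a = b m ∧ tA h a = x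
  have key : ∀ n, ∃ m₀, ∃ h₀ : n ≤ m₀, ∀ a, f m₀ a = b m₀ → P n (tA h₀ a) := by
    intro n
    let K : ℕ →o (Submodule R (A n))ᵒᵈ :=
      { toFun := fun k => OrderDual.toDual ((LinearMap.ker (f (n + k))).map (tA (Nat.le_add_right n k)))
        monotone' := fun k l hkl => by
          show (LinearMap.ker (f (n + l))).map (tA (Nat.le_add_right n l)) ≤
            (LinearMap.ker (f (n + k))).map (tA (Nat.le_add_right n k))
          rintro _ ⟨x, hx, rfl⟩
          refine ⟨tA (Nat.add_le_add_left hkl n) x, ?_, hcomp _ _ _⟩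
          show f (n + k) (tA (Nat.add_le_add_left hkl n) x) = 0
          rw [hf, LinearMap.mem_ker.1 hx, map_zero] }
    obtain ⟨k, hk⟩ := IsArtinian.monotone_stabilizes K
    refine ⟨n + k, Nat.le_add_right n k, fun a ha m hm => ?_⟩
    obtain ⟨j, rfl⟩ := Nat.exists_eq_add_of_le hm
    rcases le_total k j with hkj | hjk
    · obtain ⟨a', ha'⟩ := hmem (n + j)
      have hd : tA (Nat.le_add_right n k) (a - tA (Nat.add_le_add_left hkj n) a') ∈
          (LinearMap.ker (f (n + k))).map (tA (Nat.le_add_right n k)) := by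
        refine ⟨_, ?_, rfl⟩
        show f (n + k) _ = 0
        rw [map_sub, hf, ha', hb, ha, sub_self]
      rw [show (LinearMap.ker (f (n + k))).map (tA (Nat.le_add_right n k)) =
        (LinearMap.ker (f (n + j))).map (tA (Nat.le_add_right n j)) from hk j hkj] at hd
      obtain ⟨c, hc, hce⟩ := hd
      refine ⟨a' + c, by rw [map_add, ha', LinearMap.mem_ker.1 hc, add_zero], ?_⟩
      rw [map_add, hce, map_sub, hcomp]
      abel
    · exact ⟨tA (Nat.add_le_add_left hjk n) a, by rw [hf, ha, hb], hcomp _ _ _⟩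
  have hbase : ∃ x, P 0 x := by
    obtain ⟨m₀, h₀, h⟩ := key 0
    obtain ⟨a, ha⟩ := hmem m₀
    exact ⟨_, h a ha⟩
  have hstep : ∀ n x, P n x → ∃ y, P (n + 1) y ∧ tA (Nat.le_succ n) y = x := by
    intro n x hx
    obtain ⟨m₀, h₀, h⟩ := key (n + 1)
    obtain ⟨a, ha, hax⟩ := hx m₀ ((Nat.le_succ n).trans h₀)
    exact ⟨_, h a ha, (hcomp _ _ _).trans hax⟩
  choose! g hg hgt using hstep
  obtain ⟨x₀, hx₀⟩ := hbase
  let a : ∀ n, A n := fun n => Nat.rec (motive := fun n => A n) x₀ (fun n x => g n x) n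
  have hP : ∀ n, P n (a n) := fun n => by
    induction n with
    | zero => exact hx₀
    | succ n ih => exact hg n (a n) ih
  refine ⟨a, fun n => ?_, fun {n m} h => ?_⟩
  · obtain ⟨x, hx, hxa⟩ := hP n n le_rfl
    rw [hid] at hxa
    rw [← hxa, hx]
  · induction m, h using Nat.le_induction with
    | base => exact hid _ _
    | succ m h ih =>
      have hs : tA (Nat.le_succ m) (a (m + 1)) = a m := hgt m (a m) (hP m)
      rw [← ih, ← hs, hcomp]

/-- For a commutative ring R, an inverse system (M_n)_{n ∈ ℕ} of R-modules of finite length and a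
finitely presented R-module N, the canonical comparison map (lim_n M_n) ⊗_R N ⟶ lim_n (M_n ⊗_R N) is
an isomorphism. (The published statement takes N = R/I for a finitely generated ideal I; the
argument covers every finitely presented N, which is the form stated here.) -/
theorem result (R : Type u) [CommRing R]
    (M : ℕᵒᵖ ⥤ ModuleCat.{u} R) (hM : ∀ n : ℕᵒᵖ, IsFiniteLength R (M.obj n))
    (N : Type u) [AddCommGroup N] [Module R N] [Module.FinitePresentation R N] :
    IsIso (limit.post M (tensorRight (ModuleCat.of R N))) := by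
  classical
  obtain ⟨b, π, hπ⟩ := Module.Finite.exists_fin' R N
  have hfg : (LinearMap.ker π).FG := Module.FinitePresentation.fg_ker π hπ
  haveI : Module.Finite R (LinearMap.ker π) := Module.Finite.iff_fg.2 hfg
  obtain ⟨a, q₀, hq₀⟩ := Module.Finite.exists_fin' R (LinearMap.ker π)
  let q : (Fin a → R) →ₗ[R] (Fin b → R) := (LinearMap.ker π).subtype ∘ₗ q₀
  have hex : Function.Exact q π := LinearMap.exact_iff.2 (by
    rw [LinearMap.range_comp, LinearMap.range_eq_top.2 hq₀, Submodule.map_top, Submodule.range_subtype])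
  let e : ∀ {k : ℕ}, Fin k → (Fin k → R) := fun j => Pi.single j 1
  let φ : ∀ X : ModuleCat.{u} R, (Fin b → X) →ₗ[R] X ⊗[R] N := fun X =>
    ∑ j, (TensorProduct.mk R X N).flip (π (e j)) ∘ₗ LinearMap.proj j
  let ψ : ∀ X : ModuleCat.{u} R, (Fin a → X) →ₗ[R] (Fin b → X) := fun X =>
    LinearMap.pi fun j => ∑ i, q (e i) j • LinearMap.proj i
  have hφ : ∀ X v, φ X v = ∑ j, v j ⊗ₜ[R] π (e j) := fun X v => by
    show (∑ j, (TensorProduct.mk R X N).flip (π (e j)) ∘ₗ LinearMap.proj j) v = _
    rw [LinearMap.sum_apply]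
    rfl
  have hψ : ∀ X w j, ψ X w j = ∑ i, q (e i) j • w i := fun X w j => by
    show (∑ i, q (e i) j • (LinearMap.proj i : (Fin a → X) →ₗ[R] X)) w = _
    rw [LinearMap.sum_apply]
    rfl
  have hrow : ∀ X : ModuleCat.{u} R, Function.Exact (ψ X) (φ X) ∧ Function.Surjective (φ X) := by
    intro X
    let s : ∀ k : ℕ, (Fin k → X) ≃ₗ[R] X ⊗[R] (Fin k → R) := fun k =>
      (TensorProduct.piScalarRight R R X (Fin k)).symm
    have hs : ∀ (k : ℕ) v, s k v = ∑ j, v j ⊗ₜ[R] e j := fun k v => by
      refine ((TensorProduct.piScalarRight R R X (Fin k)).symm_apply_eq).2 (funext fun l => ?_)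
      simp [e, Pi.single_apply]
    have h1 : ∀ v, φ X v = π.lTensor X (s b v) := fun v => by
      rw [hs, map_sum, hφ]
      exact Finset.sum_congr rfl fun j _ => (LinearMap.lTensor_tmul _ _ _ _).symm
    have h2 : ∀ w, s b (ψ X w) = q.lTensor X (s a w) := fun w => by
      rw [hs b, hs a, map_sum]
      simp only [hψ, TensorProduct.sum_tmul, LinearMap.lTensor_tmul]
      rw [Finset.sum_comm]
      refine Finset.sum_congr rfl fun i _ => ?_
      simp only [TensorProduct.smul_tmul, ← TensorProduct.tmul_sum]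
      congr 1
      exact (pi_eq_sum_univ' (q (e i))).symm
    have hT := lTensor_exact X hex hπ
    refine ⟨fun v => ?_, fun z => ?_⟩
    · rw [h1]
      constructor
      · intro h
        obtain ⟨y, hy⟩ := (hT _).1 h
        exact ⟨(s a).symm y, (s b).injective (by rw [h2, LinearEquiv.apply_symm_apply, hy])⟩
      · rintro ⟨w, rfl⟩
        rw [h2]
        exact hT.apply_apply_eq_zero _
    · obtain ⟨y, hy⟩ := LinearMap.lTensor_surjective X hπ z
      exact ⟨(s b).symm y, by rw [h1, LinearEquiv.apply_symm_apply, hy]⟩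
  have hnat : ∀ {X Y : ModuleCat.{u} R} (f : X ⟶ Y) (v : Fin b → X),
      φ Y (fun j => f.hom (v j)) = f.hom.rTensor N (φ X v) := fun f v => by
    rw [hφ, hφ, map_sum]
    rfl
  have hnat' : ∀ {X Y : ModuleCat.{u} R} (f : X ⟶ Y) (w : Fin a → X) (j : Fin b),
      ψ Y (fun i => f.hom (w i)) j = f.hom (ψ X w j) := fun f w j => by
    rw [hψ, hψ, map_sum]
    simp only [map_smul]
  let X : ℕ → ModuleCat.{u} R := fun n => M.obj (Opposite.op n)
  haveI : ∀ n, IsArtinian R (X n) := fun n => (isFiniteLength_iff_isNoetherian_isArtinian.1 (hM _)).2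
  let t : ∀ {n m : ℕ}, n ≤ m → (X m ⟶ X n) := fun h => M.map (homOfLE h).op
  have tid : ∀ n (x : X n), (t (le_refl n)).hom x = x := fun n x => by
    show (M.map (homOfLE (le_refl n)).op).hom x = x
    rw [show (homOfLE (le_refl n)).op = 𝟙 (Opposite.op n) from Subsingleton.elim _ _, M.map_id]
    rfl
  have tcomp : ∀ {n m l : ℕ} (h : n ≤ m) (h' : m ≤ l) (x : X l),
      (t h).hom ((t h').hom x) = (t (h.trans h')).hom x := fun h h' x => by
    show (M.map (homOfLE h').op ≫ M.map (homOfLE h).op).hom x = _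
    rw [← M.map_comp, ← op_comp, homOfLE_comp]
  let Q : ModuleCat.{u} R := limit M
  let pr : ∀ n, Q ⟶ X n := fun n => limit.π M (Opposite.op n)
  have hpr : ∀ {n m : ℕ} (h : n ≤ m) (x : Q), (t h).hom ((pr m).hom x) = (pr n).hom x := fun h x => by
    show (limit.π M _ ≫ M.map (homOfLE h).op).hom x = _
    rw [limit.w]
  have hmk : ∀ (x : ∀ n, X n), (∀ {n m : ℕ} (h : n ≤ m), (t h).hom (x m) = x n) →
      ∃ y : Q, ∀ n, (pr n).hom y = x n := by
    intro x hx
    let c : Cone M :=
      { pt := ModuleCat.of R R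
        π :=
          { app := fun n => ModuleCat.ofHom (LinearMap.toSpanSingleton R (X n.unop) (x n.unop))
            naturality := fun n m f => ModuleCat.hom_ext (LinearMap.ext_ring (by
              show (1 : R) • x m.unop = (M.map f).hom ((1 : R) • x n.unop)
              rw [one_smul, one_smul]
              exact (hx (leOfHom f.unop)).symm)) } }
    refine ⟨(limit.lift M c).hom (1 : R), fun n => ?_⟩
    exact (congrArg (fun f => f.hom (1 : R)) (limit.lift_π c (Opposite.op n))).trans (one_smul R _)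
  let T : ℕᵒᵖ ⥤ ModuleCat.{u} R := M ⋙ tensorRight (ModuleCat.of R N)
  let p : (tensorRight (ModuleCat.of R N)).obj Q ⟶ limit T := limit.post M (tensorRight (ModuleCat.of R N))
  have hp : ∀ n (z : Q ⊗[R] N), (limit.π T (Opposite.op n)).hom (p.hom z) = (pr n).hom.rTensor N z := fun n z =>
    congrArg (fun f => f.hom z) (limit.post_π M (tensorRight (ModuleCat.of R N)) (Opposite.op n))
  show IsIso p
  rw [ConcreteCategory.isIso_iff_bijective]
  constructor
  · rw [injective_iff_map_eq_zero]
    intro z hz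
    obtain ⟨v, rfl⟩ := (hrow Q).2 z
    have hmem : ∀ n, ∃ w, ψ (X n) w = fun j => (pr n).hom (v j) := fun n => by
      refine ((hrow (X n)).1 _).1 ?_
      rw [hnat, ← hp]
      exact (congrArg (limit.π T (Opposite.op n)).hom hz).trans (map_zero _)
    obtain ⟨w, hw, hwc⟩ := exists_lift (R := R) (A := fun n => Fin a → X n) (B := fun n => Fin b → X n)
      (fun h => (t h).hom.compLeft (Fin a)) (fun h => (t h).hom.compLeft (Fin b))
      (fun n x => funext fun i => tid n (x i)) (fun h h' x => funext fun i => tcomp h h' (x i))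
      (fun n => ψ (X n)) (fun h x => funext fun j => hnat' (t h) x j)
      (fun n j => (pr n).hom (v j)) (fun h => funext fun j => hpr h (v j)) hmem
    choose W hW using fun i => hmk (fun n => w n i) (fun h => congrFun (hwc h) i)
    have hv : ψ Q W = v := funext fun j => Concrete.limit_ext M _ _ fun n => by
      show (pr n.unop).hom (ψ Q W j) = (pr n.unop).hom (v j)
      rw [← hnat', show (fun i => (pr n.unop).hom (W i)) = w n.unop from funext fun i => hW i _]
      exact congrFun (hw n.unop) j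
    rw [← hv]
    exact (hrow Q).1.apply_apply_eq_zero _
  · intro y
    let yn : ∀ n, X n ⊗[R] N := fun n => (limit.π T (Opposite.op n)).hom y
    obtain ⟨v, hv, hvc⟩ := exists_lift (R := R) (A := fun n => Fin b → X n) (B := fun n => X n ⊗[R] N)
      (fun h => (t h).hom.compLeft (Fin b)) (fun h => (t h).hom.rTensor N)
      (fun n x => funext fun i => tid n (x i)) (fun h h' x => funext fun i => tcomp h h' (x i))
      (fun n => φ (X n)) (fun h x => hnat (t h) x)
      yn (fun {n m} h => congrArg (fun f => f.hom y) (limit.w T (homOfLE h).op)) (fun n => (hrow (X n)).2 _)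
    choose V hV using fun j => hmk (fun n => v n j) (fun h => congrFun (hvc h) j)
    refine ⟨φ Q V, Concrete.limit_ext T _ _ fun n => ?_⟩
    show (limit.π T (Opposite.op n.unop)).hom (p.hom (φ Q V)) = _
    rw [hp, ← hnat, show (fun j => (pr n.unop).hom (V j)) = v n.unop from funext fun j => hV j _]
    exact hv n.unop

end Groth.Agent.S14353
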