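import Groth.Statements.S14373
import Groth.Agent.LefGeo.PolyFun
import Groth.Agent.LefGeo.Singular
import Mathlib.LinearAlgebra.Basis.VectorSpace
import Mathlib.LinearAlgebra.FreeModule.Finite.Basic

set_option autoImplicit false
universe u
open Fano

namespace Groth.Agent.S14373

/-- Over an algebraically closed field k of arbitrary characteristic, let d ≥ 2 and let U be a linear
subspace of k^(n+1) with 2 · dim U ≤ n + 1 (an r-plane P(U) in P^n with r ≤ (n − 1)/2). Let W be the
linear space of degree-d forms in n + 1 variables vanishing on U (hypersurfaces of degree d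
containing P(U)). Then a general member G of W defines a smooth hypersurface: for G outside the zero
set of some nonzero polynomial function on W, at every nonzero vector where G vanishes some partial
derivative of G is nonzero. -/
theorem result (k : Type u) [Field k] [IsAlgClosed k]
    (n d : ℕ) (hd : 2 ≤ d) (U : Submodule k (Fin (n + 1) → k)) (hU : 2 * Module.finrank k ↥U ≤ n + 1)
    (W : Submodule k (LefPen.Form n k d)) (hW : ∀ G : LefPen.Form n k d, G ∈ W ↔ ∀ u ∈ U, MvPolynomial.eval u G.1 = 0) :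
    LefPen.IsGeneric k {G : ↥W | ∀ v : Fin (n + 1) → k, v ≠ 0 → MvPolynomial.eval v G.1.1 = 0 →
      ∃ i : Fin (n + 1), MvPolynomial.eval v (MvPolynomial.pderiv i G.1.1) ≠ 0} := by
  classical
  set m := Module.finrank k ↥U with hm
  let bU := Module.finBasis k ↥U
  let b : Fin m → Fin (n + 1) → k := fun a => (bU a).1
  have hspan : Submodule.span k (Set.range b) = U := by
    have := congrArg (Submodule.map U.subtype) bU.span_eq
    rw [Submodule.map_span, Submodule.map_subtype_top, ← Set.range_comp] at this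
    exact this
  have hW' : ∀ G : LefPen.Form n k d,
      (∀ u ∈ Submodule.span k (Set.range b), MvPolynomial.eval u G.1 = 0) → G ∈ W := fun G hG =>
    (hW G).2 (by rwa [hspan] at hG)
  haveI : Module.Free k ↥W := Module.Free.of_divisionRing k ↥W
  let bW := Module.finBasis k ↥W
  let ptU : ∀ a₀ : Fin m, Fin (n + 1) → MvPolynomial {a : Fin m // a ≠ a₀} k := fun a₀ j =>
    MvPolynomial.C (b a₀ j) + ∑ a : {a : Fin m // a ≠ a₀}, MvPolynomial.C (b a.1 j) * MvPolynomial.X a
  let ptO : ∀ j₀ : Fin (n + 1), Fin (n + 1) → MvPolynomial {j : Fin (n + 1) // j ≠ j₀} k := fun j₀ j =>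
    if h : j = j₀ then 1 else MvPolynomial.X ⟨j, h⟩
  choose P hP hP' using fun a₀ : Fin m => LefGeo.incidence_avoid
    (LefGeo.jetMatrix W bW (ptU a₀))
    {z | (fun j => MvPolynomial.eval z (ptU a₀ j)) ≠ 0 ∧ (fun j => MvPolynomial.eval z (ptU a₀ j)) ∈ U}
    (r := n + 1 - m) (by
      rw [Fintype.card_subtype_compl, Fintype.card_fin, Fintype.card_subtype_eq]
      have := a₀.pos
      omega)
    (fun z hz => (LefGeo.le_finrank_jet_of_mem b W (by omega) hW' hz.1 (by rw [hspan]; exact hz.2)).trans
      (LefGeo.jetMatrix_rank W bW _ z))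
  choose Q hQ hQ' using fun j₀ : Fin (n + 1) => LefGeo.incidence_avoid
    (LefGeo.jetMatrix W bW (ptO j₀))
    {z | (fun j => MvPolynomial.eval z (ptO j₀ j)) ∉ U}
    (r := n + 1) (by
      rw [Fintype.card_subtype_compl, Fintype.card_fin, Fintype.card_subtype_eq]
      omega)
    (fun z hz => (LefGeo.le_finrank_jet_of_notMem b W hd hW' (by rw [hspan]; exact hz)).trans
      (LefGeo.jetMatrix_rank W bW _ z))
  refine LefGeo.isGeneric_of_poly bW ((∏ a, P a) * ∏ j, Q j)
    (mul_ne_zero (Finset.prod_ne_zero_iff.2 fun a _ => hP a) (Finset.prod_ne_zero_iff.2 fun j _ => hQ j))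
    fun G hG v hv hvG => ?_
  simp only [map_mul, map_prod, mul_ne_zero_iff, Finset.prod_ne_zero_iff] at hG
  by_contra hgrad
  push Not at hgrad
  have hjet : ∀ c : k, LefGeo.jet (c • v) G.1 = 0 := fun c => funext fun o => by
    cases o with
    | none => simp [LefGeo.jet_none, LefGeo.eval_smul_of_isHomogeneous G.1.2, hvG]
    | some j => simp [LefGeo.jet_some,
        LefGeo.eval_smul_of_isHomogeneous (LefGeo.pderiv_mem_homogeneous G.1 j), hgrad j]
  by_cases hvU : v ∈ U
  · set x := bU.equivFun ⟨v, hvU⟩ with hx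
    obtain ⟨a₀, ha₀⟩ : ∃ a₀, x a₀ ≠ 0 := by
      by_contra hc
      push Not at hc
      have : (⟨v, hvU⟩ : U) = 0 := bU.equivFun.injective (by rw [map_zero]; exact funext hc)
      exact hv (congrArg Subtype.val this)
    let z : {a : Fin m // a ≠ a₀} → k := fun a => (x a₀)⁻¹ * x a.1
    have hz : (fun j => MvPolynomial.eval z (ptU a₀ j)) = (x a₀)⁻¹ • v := by
      funext j
      have hv' : ∑ a, x a * b a j = v j := by
        have h0 : U.subtype (∑ a, x a • bU a) = v := by
          rw [hx, show ∑ a, bU.equivFun ⟨v, hvU⟩ a • bU a = ⟨v, hvU⟩ from bU.sum_equivFun _]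
          rfl
        have := congrFun (by rw [map_sum] at h0; simpa only [map_smul, Submodule.subtype_apply] using h0 : ∑ a, x a • b a = v) j
        simpa [Finset.sum_apply] using this
      rw [Pi.smul_apply, smul_eq_mul, ← hv', Finset.mul_sum, ← Finset.add_sum_erase _ _ (Finset.mem_univ a₀)]
      simp only [ptU, map_add, MvPolynomial.eval_C, map_sum, map_mul, MvPolynomial.eval_X, z]
      rw [inv_mul_cancel_left₀ ha₀]
      congr 1
      rw [Finset.sum_subtype (p := fun a => a ≠ a₀) (Finset.univ.erase a₀) (by simp)]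
      exact Finset.sum_congr rfl fun a _ => by ring
    refine hG.1 a₀ (Finset.mem_univ _) (hP' a₀ z ⟨?_, ?_⟩ _ ?_)
    · rw [hz]; exact smul_ne_zero (inv_ne_zero ha₀) hv
    · rw [hz]; exact U.smul_mem _ hvU
    · rw [LefGeo.jetMatrix_mulVec, hz, hjet]
  · obtain ⟨j₀, hj₀⟩ := Function.ne_iff.1 hv
    let z : {j : Fin (n + 1) // j ≠ j₀} → k := fun j => (v j₀)⁻¹ * v j.1
    have hz : (fun j => MvPolynomial.eval z (ptO j₀ j)) = (v j₀)⁻¹ • v := by
      funext j
      by_cases h : j = j₀
      · subst h; simp only [ptO, dif_pos, map_one, Pi.smul_apply, smul_eq_mul]; exact (inv_mul_cancel₀ hj₀).symm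
      · simp [ptO, z, h]
    refine hG.2 j₀ (Finset.mem_univ _) (hQ' j₀ z ?_ _ ?_)
    · show (fun j => MvPolynomial.eval z (ptO j₀ j)) ∉ U
      rw [hz]
      exact fun h => hvU (by simpa [smul_smul, mul_inv_cancel₀ (show v j₀ ≠ 0 from hj₀)] using U.smul_mem (v j₀) h)
    · rw [LefGeo.jetMatrix_mulVec, hz, hjet]

end Groth.Agent.S14373
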