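import Groth.Statements.S14374
import Groth.Agent.LefPenLib.Discr
import Groth.Agent.S14373

set_option autoImplicit false
universe u
open Fano

namespace Groth.Agent.S14374

/-- Over an algebraically closed field k of arbitrary characteristic, let n ≥ 1 and d ≥ 2, and call a
degree-d form G in n + 1 variables singular when there is a nonzero vector v with G(v) = 0 and all
partial derivatives ∂G/∂x_i(v) = 0 (the hypersurface G = 0 in P^n has a singular point, or G = 0).
Then the singular forms are exactly the zero set of one irreducible polynomial function Δ on the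
vector space of degree-d forms: the locus of singular hypersurfaces is an irreducible hypersurface
in the parameter space. (The published statement concerns the reduced hypersurfaces in the
projective space of degree-d forms, where the singular ones form an irreducible closed subset of
codimension one, and allows every positive degree; for d = 1 no hyperplane is singular, so this row
assumes d ≥ 2, and it is stated on the affine space of all forms.) -/
theorem result (k : Type u) [Field k] [IsAlgClosed k]
    (n d : ℕ) (hn : 1 ≤ n) (hd : 2 ≤ d) :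
    ∃ Δ : ↥(Algebra.adjoin k (Set.range (fun l : Module.Dual k (LefPen.Form n k d) => (l : LefPen.Form n k d → k)))),
      Irreducible Δ ∧ ∀ G : LefPen.Form n k d,
        (∃ v : Fin (n + 1) → k, v ≠ 0 ∧ MvPolynomial.eval v G.1 = 0 ∧
          ∀ i : Fin (n + 1), MvPolynomial.eval v (MvPolynomial.pderiv i G.1) = 0) ↔ Δ.1 G = 0 := by
  classical
  have hsm : ∃ G : LefPen.Form n k d, ∀ v : Fin (n + 1) → k, v ≠ 0 → ¬ Groth.Agent.LefPenLib.Discr.Sing v G.1 := by
    obtain ⟨f, -, ⟨G, hG⟩, hf⟩ := Groth.Agent.S14373.result k n d hd ⊥ (by simp) ⊤ (fun G => by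
      simp only [Submodule.mem_top, Submodule.mem_bot, forall_eq, true_iff]
      have := Groth.Agent.LefGeo.eval_smul_of_isHomogeneous
        ((MvPolynomial.mem_homogeneousSubmodule _ _).1 G.2) (0 : k) (0 : Fin (n + 1) → k)
      rwa [smul_zero, zero_pow (by omega), zero_mul] at this)
    refine ⟨G.1, fun v hv hS => ?_⟩
    obtain ⟨a, ha⟩ := hf G hG v hv hS.1
    exact ha (hS.2 a)
  haveI : FiniteDimensional k (LefPen.Form n k d) :=
    Module.Finite.of_basis (Groth.Agent.LefGeo.formBasis k n d)
  let b := Module.finBasis k (LefPen.Form n k d)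
  obtain ⟨g, hg, hgG⟩ := Groth.Agent.LefPenLib.Discr.exists_irreducible hn hd b hsm
  set A := Algebra.adjoin k
    (Set.range fun l : Module.Dual k (LefPen.Form n k d) => (l : LefPen.Form n k d → k)) with hA
  let φ : MvPolynomial (Fin (Module.finrank k (LefPen.Form n k d))) k →ₐ[k] A :=
    MvPolynomial.aeval fun l => ⟨(b.coord l : LefPen.Form n k d → k), Algebra.subset_adjoin ⟨_, rfl⟩⟩
  have hφ : ∀ p G, (φ p).1 G = MvPolynomial.eval (fun l => b.repr G l) p := fun p G => by
    have : ((Pi.evalAlgHom k (fun _ : LefPen.Form n k d => k) G).comp A.val).comp φ =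
        MvPolynomial.aeval (fun l => b.repr G l) := MvPolynomial.algHom_ext fun l => by simp [φ]
    have := AlgHom.congr_fun this p
    rwa [MvPolynomial.aeval_eq_eval] at this
  have hbij : Function.Bijective φ := by
    refine ⟨fun p q h => MvPolynomial.funext fun x => ?_, fun f => ?_⟩
    · have := congrFun (congrArg Subtype.val h) (b.equivFun.symm x)
      rw [hφ, hφ] at this
      have e : (fun l => b.repr (b.equivFun.symm x) l) = x := b.equivFun.apply_symm_apply x
      rwa [e] at this
    · obtain ⟨p, hp⟩ := Groth.Agent.LefPenLib.exists_poly_of_isPolyFun b (f := f.1) f.2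
      exact ⟨p, Subtype.ext (funext fun G => by rw [hφ, hp])⟩
  refine ⟨φ g, hg.map (AlgEquiv.ofBijective φ hbij).toMulEquiv, fun G => ?_⟩
  rw [hφ]
  exact hgG G

end Groth.Agent.S14374
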