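import Mathlib
import Groth.Agent.SliceLib.Ring
import Groth.Statements.S14383

set_option autoImplicit false
set_option linter.style.haveILetI false
universe u
open scoped TensorProduct
open AlgebraicGeometry
open CAlg

namespace Groth.Agent.S14383

section

variable {A R : Type u} [CommRing A] [CommRing R] [Algebra A R]

/-- Differentials vanish on a localization iff they are killed by a denominator. -/
theorem subsingleton_omega_iff (S : Type u) [CommRing S] [Algebra R S] [Algebra A S] [IsScalarTower A R S]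
    (x : R) [IsLocalization.Away x S] :
    Subsingleton (Ω[S⁄A]) ↔ ∀ ω : Ω[R⁄A], ∃ n : ℕ, x ^ n • ω = 0 := by
  let g := KaehlerDifferential.map A A R S
  constructor
  · intro h ω
    obtain ⟨⟨_, n, rfl⟩, hn⟩ :=
      (IsLocalizedModule.eq_zero_iff (Submonoid.powers x) g (m := ω)).mp (Subsingleton.elim _ _)
    exact ⟨n, hn⟩
  · intro h
    refine subsingleton_of_forall_eq 0 fun z => ?_
    obtain ⟨⟨ω, s⟩, hz⟩ := IsLocalizedModule.surj (Submonoid.powers x) g z
    obtain ⟨n, hn⟩ := h ω
    have hω : g ω = 0 := (IsLocalizedModule.eq_zero_iff (Submonoid.powers x) g).mpr ⟨⟨_, n, rfl⟩, hn⟩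
    have hu : IsUnit (algebraMap R S (s : R)) := IsLocalization.map_units S s
    have h2 : algebraMap R S (s : R) • z = 0 := by
      rw [algebraMap_smul, ← Submonoid.smul_def, hz, hω]
    exact hu.smul_left_cancel.mp (by rw [h2, smul_zero])

theorem exists_uniform_pow [Module.Finite R (Ω[R⁄A])] {x : R} (h : ∀ ω : Ω[R⁄A], ∃ n : ℕ, x ^ n • ω = 0) :
    ∃ N : ℕ, ∀ ω : Ω[R⁄A], x ^ N • ω = 0 := by
  classical
  obtain ⟨s, hs⟩ := Module.Finite.fg_top (R := R) (M := Ω[R⁄A])
  choose n hn using h
  refine ⟨s.sup n, fun ω => ?_⟩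
  have hω : ω ∈ Submodule.span R (s : Set (Ω[R⁄A])) := hs ▸ trivial
  induction hω using Submodule.span_induction with
  | mem w hw =>
    rw [← Nat.sub_add_cancel (Finset.le_sup (f := n) (Finset.mem_coe.mp hw)), pow_add, mul_smul, hn, smul_zero]
  | zero => rw [smul_zero]
  | add a b _ _ ha hb => rw [smul_add, ha, hb, add_zero]
  | smul r a _ ha => rw [smul_comm, ha, smul_zero]

theorem le_of_unit_ideal {π P a : R} {N : ℕ} (hπ : π ^ N ∣ P) (ha : Ideal.span {a} ⊔ Ideal.span {π} = ⊤)
    (hkill : ∀ ω : Ω[R⁄A], (a * π) ^ N • ω = 0) :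
    Ideal.span {P} • (⊤ : Submodule R (Ω[R⁄A])) ≤ Ideal.span {π * P} • (⊤ : Submodule R (Ω[R⁄A])) := by
  have hco : IsCoprime (a ^ N) π := by
    refine IsCoprime.pow_left (m := N) ?_
    rw [← Ideal.isCoprime_span_singleton_iff, Ideal.isCoprime_iff_sup_eq]
    exact ha
  obtain ⟨r, s, hrs⟩ := hco
  obtain ⟨Q, rfl⟩ := hπ
  rw [Submodule.smul_le]
  intro x hx ω _
  obtain ⟨c, rfl⟩ := Ideal.mem_span_singleton'.mp hx
  have h0 : (c * (π ^ N * Q)) • ω = (c * s) • (π * (π ^ N * Q)) • ω + (c * r * Q) • ((a * π) ^ N • ω) := by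
    rw [← mul_smul, ← mul_smul, ← add_smul]
    congr 1
    rw [mul_pow]
    linear_combination (c * (π ^ N * Q)) * hrs.symm
  rw [h0, hkill, smul_zero, add_zero]
  exact Submodule.smul_mem _ _ (Submodule.smul_mem_smul (Ideal.mem_span_singleton_self _) trivial)

theorem exists_kill [Module.Finite R (Ω[R⁄A])] {π P : R}
    (h : Ideal.span {P} • (⊤ : Submodule R (Ω[R⁄A])) ≤ Ideal.span {π * P} • (⊤ : Submodule R (Ω[R⁄A]))) :
    ∃ a : R, Ideal.span {a} ⊔ Ideal.span {π} = ⊤ ∧ ∀ ω : Ω[R⁄A], (a * P) • ω = 0 := by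
  set M := Ideal.span {P} • (⊤ : Submodule R (Ω[R⁄A]))
  have hM : M.FG := Submodule.FG.smul (Submodule.fg_span_singleton P) Module.Finite.fg_top
  have hle : M ≤ Ideal.span {π} • M := by
    refine h.trans (le_of_eq ?_)
    rw [← Ideal.span_singleton_mul_span_singleton, Submodule.mul_smul]
  obtain ⟨a, ha, hkill⟩ := Submodule.exists_sub_one_mem_and_smul_eq_zero_of_fg_of_le_smul _ M hM hle
  refine ⟨a, (Ideal.eq_top_iff_one _).mpr ?_, fun ω => ?_⟩
  · rw [← sub_sub_cancel a 1]
    exact Ideal.sub_mem _ (Ideal.mem_sup_left (Ideal.mem_span_singleton_self _)) (Ideal.mem_sup_right ha)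
  · rw [mul_smul]
    exact hkill _ (Submodule.smul_mem_smul (Ideal.mem_span_singleton_self _) trivial)

end

/-- Smoothness of relative dimension `d`, for algebras. -/
theorem smooth_and_rank {K B : Type u} [Field K] [CommRing B] [Algebra K B] {d : ℕ}
    (h : SmoothOfRelativeDimension d (Spec.map (CommRingCat.ofHom (algebraMap K B)))) :
    Algebra.Smooth K B ∧ ∀ p : PrimeSpectrum B, Module.rankAtStalk (Ω[B⁄K]) p = d := by
  have hsm : Smooth (Spec.map (CommRingCat.ofHom (algebraMap K B))) :=
    SmoothOfRelativeDimension.smooth d _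
  rw [HasRingHomProperty.Spec_iff (P := @Smooth), CommRingCat.hom_ofHom, RingHom.smooth_algebraMap] at hsm
  refine ⟨hsm, fun p => ?_⟩
  rw [HasRingHomProperty.Spec_iff (P := @SmoothOfRelativeDimension d), CommRingCat.hom_ofHom] at h
  obtain ⟨s, hs, hloc⟩ := h
  obtain ⟨t, hts, htp⟩ : ∃ t ∈ s, t ∉ p.asIdeal := by
    by_contra hne
    push_neg at hne
    exact p.isPrime.ne_top (top_le_iff.mp (hs ▸ Ideal.span_le.mpr hne))
  have hst := hloc t hts
  rw [← IsScalarTower.algebraMap_eq, RingHom.isStandardSmoothOfRelativeDimension_algebraMap] at hst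
  haveI := hst
  haveI := Algebra.IsStandardSmoothOfRelativeDimension.isStandardSmooth (R := K) (S := Localization.Away t) d
  let q : PrimeSpectrum (Localization.Away t) :=
    ⟨Ideal.map (algebraMap B (Localization.Away t)) p.asIdeal,
      IsLocalization.isPrime_of_isPrime_disjoint (Submonoid.powers t) _ _ p.isPrime
        (Set.disjoint_left.mpr fun x ⟨n, hn⟩ hx => htp (p.isPrime.mem_of_pow_mem n (hn.symm ▸ hx : (fun i => t ^ i) n ∈ p.asIdeal)))⟩
  have hq : q.comap (algebraMap B (Localization.Away t)) = p := PrimeSpectrum.ext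
    (IsLocalization.under_map_of_isPrime_disjoint (Submonoid.powers t) (Localization.Away t) p.isPrime
      (Set.disjoint_left.mpr fun x ⟨n, hn⟩ hx => htp (p.isPrime.mem_of_pow_mem n (hn.symm ▸ hx : (fun i => t ^ i) n ∈ p.asIdeal))))
  haveI : Nontrivial (Localization.Away t) := q.nontrivial
  have : Algebra.FormallyEtale B (Localization.Away t) :=
    Algebra.FormallyEtale.of_isLocalization (Submonoid.powers t)
  have h1 : Module.rankAtStalk (Ω[Localization.Away t⁄K]) q = d := by
    rw [Module.rankAtStalk_eq_finrank_of_free]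
    exact Module.finrank_eq_of_rank_eq
      (Algebra.IsStandardSmoothOfRelativeDimension.rank_kaehlerDifferential d)
  rwa [← Module.rankAtStalk_eq_of_equiv
      (KaehlerDifferential.tensorKaehlerEquivOfFormallyEtale K B (Localization.Away t)),
    Module.rankAtStalk_baseChange, hq] at h1

theorem etale_of_rank {K A R : Type u} [Field K] [CommRing A] [CommRing R] [Algebra K A] [Algebra K R]
    [Algebra A R] [IsScalarTower K A R] [Algebra.Smooth K A] [Algebra.Smooth K R] {d : ℕ}
    (hA : ∀ p : PrimeSpectrum A, Module.rankAtStalk (Ω[A⁄K]) p = d)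
    (hR : ∀ p : PrimeSpectrum R, Module.rankAtStalk (Ω[R⁄K]) p = d)
    (h : Subsingleton (Ω[R⁄A])) : Algebra.Etale A R := by
  refine SliceLib.etale_of_bijective_mapBaseChange K A R ?_
  refine Module.bijective_of_surjective_of_rankAtStalk_eq (fun z => ?_) fun p _ => ?_
  · exact (KaehlerDifferential.exact_mapBaseChange_map K A R z).mp (Subsingleton.elim _ _)
  · rw [Module.rankAtStalk_baseChange, hA, hR]

attribute [local instance] Algebra.TensorProduct.rightAlgebra in
theorem etale_generic {V : Type u} [CommRing V] {K : Type u} [Field K] [Algebra V K] (ϖ : V)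
    [IsLocalization.Away ϖ K] {A : Type u} [CommRing A] [Algebra V A] {R : Type u} [CommRing R]
    [Algebra V R] [Algebra A R] [IsScalarTower V A R] {d : ℕ}
    (hA : SmoothOfRelativeDimension d (Spec.map (CommRingCat.ofHom (algebraMap K (K ⊗[V] A)))))
    (hR : SmoothOfRelativeDimension d (Spec.map (CommRingCat.ofHom (algebraMap K (K ⊗[V] R)))))
    (a : R) (h : ∀ ω : Ω[R⁄A], ∃ n : ℕ, (a * algebraMap V R ϖ) ^ n • ω = 0) :
    Algebra.Etale A (Localization.Away (a * algebraMap V R ϖ)) := by
  obtain ⟨sA, rA⟩ := smooth_and_rank hA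
  obtain ⟨sR, rR⟩ := smooth_and_rank hR
  haveI := sA
  haveI := sR
  let S := Localization.Away (algebraMap R (K ⊗[V] R) a)
  let φ : (K ⊗[V] A) →ₐ[K] S := (IsScalarTower.toAlgHom K (K ⊗[V] R) S).comp
    (Algebra.TensorProduct.map (AlgHom.id K K) (IsScalarTower.toAlgHom V A R))
  letI : Algebra (K ⊗[V] A) S := φ.toRingHom.toAlgebra
  haveI : IsScalarTower K (K ⊗[V] A) S := IsScalarTower.of_algebraMap_eq fun k => (φ.commutes k).symm
  letI : Algebra A S := ((algebraMap R S).comp (algebraMap A R)).toAlgebra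
  haveI : IsScalarTower A R S := IsScalarTower.of_algebraMap_eq fun _ => rfl
  haveI : IsScalarTower A (K ⊗[V] A) S := IsScalarTower.of_algebraMap_eq fun x => by
    show algebraMap R S (algebraMap A R x) = φ ((1 : K) ⊗ₜ[V] x)
    simp [φ]
    rfl
  haveI : IsLocalization.Away (algebraMap V R ϖ) (K ⊗[V] R) := inferInstance
  haveI : IsLocalization.Away (a * algebraMap V R ϖ) S :=
    IsLocalization.Away.mul (K ⊗[V] R) S (algebraMap V R ϖ) a
  haveI : Algebra.Etale (K ⊗[V] R) S := Algebra.Etale.of_isLocalizationAway (algebraMap R (K ⊗[V] R) a)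
  haveI : Algebra.Smooth K S := Algebra.Smooth.comp K (K ⊗[V] R) S
  have hΩ : Subsingleton (Ω[S⁄A]) := (subsingleton_omega_iff S (a * algebraMap V R ϖ)).mpr h
  have hΩ' : Subsingleton (Ω[S⁄K ⊗[V] A]) :=
    (KaehlerDifferential.map_surjective A (K ⊗[V] A) S).subsingleton
  have rS : ∀ p : PrimeSpectrum S, Module.rankAtStalk (Ω[S⁄K]) p = d := fun p => by
    rw [← Module.rankAtStalk_eq_of_equiv
      (KaehlerDifferential.tensorKaehlerEquivOfFormallyEtale K (K ⊗[V] R) S), Module.rankAtStalk_baseChange, rR]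
  haveI : Algebra.Etale (K ⊗[V] A) S := etale_of_rank rA rS hΩ'
  haveI : Algebra.Etale A (K ⊗[V] A) := Algebra.Etale.of_isLocalizationAway (algebraMap V A ϖ)
  haveI : Algebra.Etale A S := Algebra.Etale.comp A (K ⊗[V] A) S
  exact Algebra.Etale.of_equiv ((IsLocalization.algEquiv (Submonoid.powers (a * algebraMap V R ϖ)) S
    (Localization.Away (a * algebraMap V R ϖ))).restrictScalars A)

theorem isLocalizationAway_fractionRing {V : Type u} [CommRing V] [IsDomain V] [IsDiscreteValuationRing V]
    {ϖ : V} (hϖ : Irreducible ϖ) : IsLocalization.Away ϖ (FractionRing V) := by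
  refine IsLocalization.Away.mk _ (isUnit_iff_ne_zero.mpr
    ((map_ne_zero_iff _ (IsFractionRing.injective V (FractionRing V))).mpr hϖ.ne_zero)) (fun z => ?_)
    fun a b hab => ⟨0, by rw [IsFractionRing.injective V (FractionRing V) hab]⟩
  obtain ⟨x, y, hy, rfl⟩ := IsFractionRing.div_surjective (A := V) z
  obtain ⟨n, w, rfl⟩ := IsDiscreteValuationRing.eq_unit_mul_pow_irreducible (nonZeroDivisors.ne_zero hy) hϖ
  refine ⟨n, x * ((w⁻¹ : Vˣ) : V), ?_⟩
  have hw : algebraMap V (FractionRing V) (w : V) * algebraMap V (FractionRing V) ((w⁻¹ : Vˣ) : V) = 1 := by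
    rw [← map_mul, Units.mul_inv, map_one]
  have hne : algebraMap V (FractionRing V) ((w : V) * ϖ ^ n) ≠ 0 :=
    (map_ne_zero_iff _ (IsFractionRing.injective V (FractionRing V))).mpr (nonZeroDivisors.ne_zero hy)
  rw [map_mul, map_pow] at hne
  rw [map_mul, map_mul, map_pow, div_mul_eq_mul_div, div_eq_iff hne]
  linear_combination -(algebraMap V (FractionRing V) x * algebraMap V (FractionRing V) ϖ ^ n) * hw

/-- Let V be a discrete valuation ring of characteristic zero with uniformizer ϖ, whose residue field k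
is perfect of characteristic p > 0, and let A → R be a homomorphism of V-algebras of finite type,
viewed as a morphism f : Spec R → Spec A of schemes of finite type over Spec V. Say f is η-étale
when there is an open neighbourhood of the closed fibre of Spec R on whose generic fibre f is étale;
for affine Spec R this means: some a ∈ R with (a) + (ϖ) = R has R[1/(aϖ)] étale over A. First: if f
is η-étale then for some n ≥ 0 the submodule p^n Ω_{R/A} of the module of differentials is contained
in ϖ p^n Ω_{R/A} (that is, p^n Ω_{R/A} vanishes along the closed fibre). Conversely: if the generic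
fibres Spec(K ⊗_V A) and Spec(K ⊗_V R) are both smooth over K of the same relative dimension d, K
the fraction field of V, then such an n forces f to be η-étale. (The published statement is for
arbitrary schemes X → Y of finite type over V and also lists an intermediate equivalent condition,
that the restriction of p^n Ω_{X/Y} to the closed fibre as an abelian sheaf vanishes for some n;
this row is the case of affine schemes and states the other two conditions.) -/
theorem result (V : Type u) [CommRing V] [IsDomain V] [IsDiscreteValuationRing V] [CharZero V]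
    (ϖ : V) (hϖ : Irreducible ϖ) (p : ℕ) [Fact p.Prime] [CharP (IsLocalRing.ResidueField V) p]
    [PerfectField (IsLocalRing.ResidueField V)]
    (A : Type u) [CommRing A] [Algebra V A] [Algebra.FiniteType V A]
    (R : Type u) [CommRing R] [Algebra V R] [Algebra.FiniteType V R] [Algebra A R] [IsScalarTower V A R] :
    ((∃ a : R, Ideal.span {a} ⊔ Ideal.span {algebraMap V R ϖ} = ⊤ ∧
        ((algebraMap R (Localization.Away (a * algebraMap V R ϖ))).comp (algebraMap A R)).Etale) →
      ∃ n : ℕ, Ideal.span {((p : R)) ^ n} • (⊤ : Submodule R (Ω[R⁄A])) ≤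
        Ideal.span {algebraMap V R ϖ * (p : R) ^ n} • (⊤ : Submodule R (Ω[R⁄A]))) ∧
    (∀ d : ℕ, SmoothOfRelativeDimension d
        (Spec.map (CommRingCat.ofHom (algebraMap (FractionRing V) (FractionRing V ⊗[V] A)))) →
      SmoothOfRelativeDimension d
        (Spec.map (CommRingCat.ofHom (algebraMap (FractionRing V) (FractionRing V ⊗[V] R)))) →
      (∃ n : ℕ, Ideal.span {((p : R)) ^ n} • (⊤ : Submodule R (Ω[R⁄A])) ≤
        Ideal.span {algebraMap V R ϖ * (p : R) ^ n} • (⊤ : Submodule R (Ω[R⁄A]))) →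
      ∃ a : R, Ideal.span {a} ⊔ Ideal.span {algebraMap V R ϖ} = ⊤ ∧
        ((algebraMap R (Localization.Away (a * algebraMap V R ϖ))).comp (algebraMap A R)).Etale) := by
  haveI : Algebra.FiniteType A R := Algebra.FiniteType.of_restrictScalars_finiteType V A R
  have hp : p.Prime := Fact.out
  obtain ⟨e, w, hw⟩ := IsDiscreteValuationRing.eq_unit_mul_pow_irreducible
    (Nat.cast_ne_zero.mpr hp.ne_zero : (p : V) ≠ 0) hϖ
  have hmem : (p : V) ∈ IsLocalRing.maximalIdeal V := by
    rw [← IsLocalRing.residue_eq_zero_iff, map_natCast, CharP.cast_eq_zero]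
  have he : 1 ≤ e := Nat.one_le_iff_ne_zero.mpr fun h0 => by
    rw [hw, h0, pow_zero, mul_one] at hmem
    exact hmem (w.isUnit)
  have hpR : (p : R) = algebraMap V R (w : V) * algebraMap V R ϖ ^ e := by
    rw [← map_pow, ← map_mul, ← hw, map_natCast]
  constructor
  · rintro ⟨a, ha, het⟩
    rw [← IsScalarTower.algebraMap_eq, RingHom.etale_algebraMap] at het
    haveI := het
    obtain ⟨N, hN⟩ := exists_uniform_pow
      ((subsingleton_omega_iff (A := A) (Localization.Away (a * algebraMap V R ϖ)) (a * algebraMap V R ϖ)).mp inferInstance)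
    refine ⟨N, le_of_unit_ideal (N := N) ?_ ha hN⟩
    rw [hpR, mul_pow, ← pow_mul]
    exact dvd_mul_of_dvd_right (pow_dvd_pow _ (Nat.le_mul_of_pos_left N he)) _
  · rintro d hA hR ⟨n, hn⟩
    haveI := isLocalizationAway_fractionRing hϖ
    obtain ⟨a, ha, hkill⟩ := exists_kill hn
    refine ⟨a, ha, ?_⟩
    rw [← IsScalarTower.algebraMap_eq, RingHom.etale_algebraMap]
    refine etale_generic (K := FractionRing V) ϖ hA hR a fun ω => ⟨e * n + 1, ?_⟩
    obtain ⟨v, hv⟩ := (w.isUnit.map (algebraMap V R)).pow n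
    have : (a * algebraMap V R ϖ) ^ (e * n + 1) =
        (((v⁻¹ : Rˣ) : R) * a ^ (e * n) * algebraMap V R ϖ) * (a * (p : R) ^ n) := by
      have h1 : ((v⁻¹ : Rˣ) : R) * algebraMap V R (w : V) ^ n = 1 := by rw [← hv, Units.inv_mul]
      rw [hpR, mul_pow (algebraMap V R (w : V)), ← pow_mul]
      linear_combination -(a * algebraMap V R ϖ) ^ (e * n + 1) * h1
    rw [this, mul_smul, hkill, smul_zero]

end Groth.Agent.S14383
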