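import Mathlib
import Groth.Agent.TwoFibre.Noether
import Groth.Agent.S14383
import Groth.Agent.S14384
import Groth.Statements.S14385
-- import your own Groth.Agent.* helpers here

set_option autoImplicit false
set_option linter.style.haveILetI false
open scoped TensorProduct
open AlgebraicGeometry
universe u
open CAlg

namespace Groth.Agent.S14385

/-- Let V be a discrete valuation ring of characteristic zero with uniformizer ϖ, whose residue field k
is perfect of characteristic p > 0, with fraction field K; let R be a flat V-algebra of finite type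
such that the generic fibre Spec(K ⊗_V R) → Spec K is smooth of relative dimension d; and suppose
some d-tuple x' of elements of R defines a morphism f' from Spec R to affine d-space over V which is
η-étale, meaning that for some a ∈ R with (a) + (ϖ) = R the localisation R[1/(aϖ)] is étale over
V[T_1, …, T_d] via T_i ↦ x'_i (f' is étale on the generic fibre of an open neighbourhood of the
closed fibre). Then there is a d-tuple x in R whose morphism f is η-étale in the same sense and
finite on each fibre: k ⊗_V R is finite over k[T_1, …, T_d] and K ⊗_V R is finite over K[T_1, …,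
T_d] via T_i ↦ 1 ⊗ x_i. -/
theorem result (V : Type u) [CommRing V] [IsDomain V] [IsDiscreteValuationRing V] [CharZero V]
    (ϖ : V) (hϖ : Irreducible ϖ) (p : ℕ) [Fact p.Prime] [CharP (IsLocalRing.ResidueField V) p]
    [PerfectField (IsLocalRing.ResidueField V)]
    (R : Type u) [CommRing R] [Algebra V R] [Module.Flat V R] [Algebra.FiniteType V R] (d : ℕ)
    (hsm : SmoothOfRelativeDimension d
      (Spec.map (CommRingCat.ofHom (algebraMap (FractionRing V) (FractionRing V ⊗[V] R)))))
    (x' : Fin d → R) (hx' : (∃ a : R, Ideal.span {a} ⊔ Ideal.span {algebraMap V R ϖ} = ⊤ ∧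
        ((algebraMap R (Localization.Away (a * algebraMap V R ϖ))).comp
          (MvPolynomial.aeval x' : MvPolynomial (Fin d) V →ₐ[V] R).toRingHom).Etale)) :
    ∃ x : Fin d → R, (∃ a : R, Ideal.span {a} ⊔ Ideal.span {algebraMap V R ϖ} = ⊤ ∧
        ((algebraMap R (Localization.Away (a * algebraMap V R ϖ))).comp
          (MvPolynomial.aeval x : MvPolynomial (Fin d) V →ₐ[V] R).toRingHom).Etale) ∧
      (MvPolynomial.aeval (fun i => (1 : IsLocalRing.ResidueField V) ⊗ₜ[V] x i) :
          MvPolynomial (Fin d) (IsLocalRing.ResidueField V) →ₐ[IsLocalRing.ResidueField V]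
            IsLocalRing.ResidueField V ⊗[V] R).toRingHom.Finite ∧
      (MvPolynomial.aeval (fun i => (1 : FractionRing V) ⊗ₜ[V] x i) :
          MvPolynomial (Fin d) (FractionRing V) →ₐ[FractionRing V] FractionRing V ⊗[V] R).toRingHom.Finite := by
  set A := MvPolynomial (Fin d) V with hA
  have hV : SmoothOfRelativeDimension d
      (Spec.map (CommRingCat.ofHom (algebraMap (FractionRing V) (FractionRing V ⊗[V] A)))) :=
    Groth.Agent.TwoFibre.smooth_affineSpace (FractionRing V) d
  -- η-étale in terms of differentials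
  have h83 : ∀ x : Fin d → R,
      ((∃ a : R, Ideal.span {a} ⊔ Ideal.span {algebraMap V R ϖ} = ⊤ ∧
        ((algebraMap R (Localization.Away (a * algebraMap V R ϖ))).comp
          (MvPolynomial.aeval x : MvPolynomial (Fin d) V →ₐ[V] R).toRingHom).Etale) ↔
        ∃ n : ℕ, Ideal.span {((p : R)) ^ n} • (⊤ : Submodule R (Ω[R⁄V])) ≤
          Ideal.span {algebraMap V R ϖ * (p : R) ^ n} • (⊤ : Submodule R (Ω[R⁄V])) ⊔
            Submodule.span R (Set.range fun i => KaehlerDifferential.D V R (x i))) := by
    intro x
    letI : Algebra A R := (MvPolynomial.aeval x : MvPolynomial (Fin d) V →ₐ[V] R).toRingHom.toAlgebra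
    haveI : IsScalarTower V A R := IsScalarTower.of_algebraMap_eq fun v =>
      ((MvPolynomial.aeval x : MvPolynomial (Fin d) V →ₐ[V] R).commutes v).symm
    have hiff := Groth.Agent.TwoFibre.smul_top_le_iff (V := V) x (fun _ => rfl)
    obtain ⟨h1, h2⟩ := Groth.Agent.S14383.result V ϖ hϖ p A R
    constructor
    · intro h
      obtain ⟨n, hn⟩ := h1 h
      exact ⟨n, (hiff _ _).1 hn⟩
    · rintro ⟨n, hn⟩
      exact h2 d hV hsm ⟨n, (hiff _ _).2 hn⟩
  obtain ⟨n, hn⟩ := (h83 x').1 hx'
  obtain ⟨y, hy, hk, hK⟩ := Groth.Agent.TwoFibre.exists_perturbation (V := V) d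
    (Groth.Agent.TwoFibre.dim_le_of_smooth hsm) x' (p ^ (n + 1)) (Nat.one_le_pow _ _ (Fact.out : p.Prime).pos)
  exact ⟨fun i => x' i + y i,
    (h83 _).2 ⟨n, Groth.Agent.S14384.result V ϖ hϖ p R d n x' hn y hy⟩, hk, hK⟩

end Groth.Agent.S14385
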