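import Groth.Agent.SemistableNode.Away
import Groth.Statements.S14386
-- import your own Groth.Agent.* helpers here

set_option autoImplicit false
universe u
open CAlg

namespace Groth.Agent.S14386

set_option maxHeartbeats 3000000 in
/-- Let V be a discrete valuation ring of characteristic zero with uniformizer ϖ and perfect residue
field k, let Q = V[x, y]/(xy − ϖ) be the coordinate ring of the standard semistable node over V and
P its closed point x = y = 0 of the closed fibre, let h ∈ Q with h ∉ (x, y), so that B = Q[1/h] is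
the ring of an open neighbourhood of P, and let f ∈ B define a morphism to the affine line over V
which is étale on the generic fibre: B[1/ϖ] is étale over V[T] via T ↦ f. Then df vanishes
identically on one of the two components x = 0, y = 0 of the closed fibre of Spec B: the
differential of the image of f in Ω_{(B/xB)/V} is zero or the differential of the image of f in
Ω_{(B/yB)/V} is zero. If moreover k has characteristic zero, then f contracts that component and the
morphism is not quasi-finite: V[T] → B, T ↦ f, is not a quasi-finite ring map. -/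
theorem result (V : Type u) [CommRing V] [IsDomain V] [IsDiscreteValuationRing V] [CharZero V]
    [PerfectField (IsLocalRing.ResidueField V)] (ϖ : V) (hϖ : Irreducible ϖ)
    (h : (MvPolynomial (Fin 2) V ⧸ Ideal.span {(MvPolynomial.X 0 * MvPolynomial.X 1 - MvPolynomial.C ϖ : MvPolynomial (Fin 2) V)}))
    (hh : h ∉ Ideal.span ({(Ideal.Quotient.mk (Ideal.span {(MvPolynomial.X 0 * MvPolynomial.X 1 - MvPolynomial.C ϖ : MvPolynomial (Fin 2) V)}) (MvPolynomial.X 0 : MvPolynomial (Fin 2) V)), (Ideal.Quotient.mk (Ideal.span {(MvPolynomial.X 0 * MvPolynomial.X 1 - MvPolynomial.C ϖ : MvPolynomial (Fin 2) V)}) (MvPolynomial.X 1 : MvPolynomial (Fin 2) V))} : Set (MvPolynomial (Fin 2) V ⧸ Ideal.span {(MvPolynomial.X 0 * MvPolynomial.X 1 - MvPolynomial.C ϖ : MvPolynomial (Fin 2) V)})))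
    (f : Localization.Away h)
    (hf : ((algebraMap (Localization.Away h)
        (Localization.Away (algebraMap V (Localization.Away h) ϖ))).comp
          (Polynomial.aeval f : Polynomial V →ₐ[V] Localization.Away h).toRingHom).Etale) :
    (KaehlerDifferential.D V (Localization.Away h ⧸ Ideal.span
        ({algebraMap (MvPolynomial (Fin 2) V ⧸ Ideal.span {(MvPolynomial.X 0 * MvPolynomial.X 1 - MvPolynomial.C ϖ : MvPolynomial (Fin 2) V)}) (Localization.Away h) (Ideal.Quotient.mk (Ideal.span {(MvPolynomial.X 0 * MvPolynomial.X 1 - MvPolynomial.C ϖ : MvPolynomial (Fin 2) V)}) (MvPolynomial.X 0 : MvPolynomial (Fin 2) V))} : Set (Localization.Away h)))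
        (Ideal.Quotient.mk _ f) = 0 ∨
     KaehlerDifferential.D V (Localization.Away h ⧸ Ideal.span
        ({algebraMap (MvPolynomial (Fin 2) V ⧸ Ideal.span {(MvPolynomial.X 0 * MvPolynomial.X 1 - MvPolynomial.C ϖ : MvPolynomial (Fin 2) V)}) (Localization.Away h) (Ideal.Quotient.mk (Ideal.span {(MvPolynomial.X 0 * MvPolynomial.X 1 - MvPolynomial.C ϖ : MvPolynomial (Fin 2) V)}) (MvPolynomial.X 1 : MvPolynomial (Fin 2) V))} : Set (Localization.Away h)))
        (Ideal.Quotient.mk _ f) = 0) ∧
    (CharZero (IsLocalRing.ResidueField V) →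
      ¬ (Polynomial.aeval f : Polynomial V →ₐ[V] Localization.Away h).toRingHom.QuasiFinite) := by
  obtain ⟨δ₀, h₀, h₁⟩ := Groth.Agent.SemistableNode.exists_euler (ϖ := ϖ)
  obtain ⟨δ, hδ⟩ := Groth.Agent.SemistableNode.exists_extend_localization (T := Localization.Away h)
    (Submonoid.powers h) δ₀
  have hx : δ (Groth.Agent.SemistableNode.crd h 0) = Groth.Agent.SemistableNode.crd h 0 := by
    rw [Groth.Agent.SemistableNode.crd, hδ, h₀]
  have hy : δ (Groth.Agent.SemistableNode.crd h 1) = -Groth.Agent.SemistableNode.crd h 1 := by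
    rw [Groth.Agent.SemistableNode.crd, hδ, h₁, map_neg]
  obtain ⟨N, g', hg'⟩ := Groth.Agent.SemistableNode.euler_dvd_pi_pow hϖ δ hx
    (fun b => Groth.Agent.SemistableNode.pi_regular_away hϖ hh) f hf
  have hnu : ¬ IsUnit (δ f) := by
    intro hu
    obtain ⟨q, m, hq⟩ := Groth.Agent.SemistableNode.exists_num hϖ hh f
    have e := congrArg (Groth.Agent.SemistableNode.origin hϖ h hh) (congrArg δ hq)
    rw [Derivation.leibniz, hδ, hδ, map_add, smul_eq_mul, smul_eq_mul, map_mul, map_mul,
      Groth.Agent.SemistableNode.origin_algebraMap, Groth.Agent.SemistableNode.origin_algebraMap,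
      Groth.Agent.SemistableNode.origin_algebraMap, Groth.Agent.SemistableNode.comp_euler hϖ δ₀ h₀ h₁,
      Groth.Agent.SemistableNode.comp_euler hϖ δ₀ h₀ h₁] at e
    simp only [Polynomial.eval_mul, Polynomial.eval_X, mul_zero, zero_mul, zero_add] at e
    refine (hu.map (Groth.Agent.SemistableNode.origin hϖ h hh)).ne_zero ?_
    refine (mul_eq_zero.mp e.symm).resolve_left ?_
    rw [map_pow, Polynomial.eval_pow, ← Polynomial.coeff_zero_eq_eval_zero]
    exact pow_ne_zero _ (Groth.Agent.SemistableNode.coeff_zero_comp_ne hϖ 0 hh)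
  have hdvd : Groth.Agent.SemistableNode.crd h 0 ∣ δ f ∨ Groth.Agent.SemistableNode.crd h 1 ∣ δ f := by
    by_contra hne
    rw [not_or] at hne
    refine hnu (Groth.Agent.SemistableNode.dvd_or_dvd_of_mul_eq hϖ hh (δ f) N N g' ?_ hne.1 hne.2)
    rw [← hg', ← mul_pow, Groth.Agent.SemistableNode.crd_mul]
  obtain ⟨a, c, hac⟩ := Groth.Agent.SemistableNode.span_D_coord f
  have hg : δ f = a * Groth.Agent.SemistableNode.crd h 0 - c * Groth.Agent.SemistableNode.crd h 1 := by
    have e := congrArg δ.liftKaehlerDifferential hac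
    rw [map_add, map_smul, map_smul, Derivation.liftKaehlerDifferential_comp_D,
      Derivation.liftKaehlerDifferential_comp_D, Derivation.liftKaehlerDifferential_comp_D, hx, hy] at e
    rw [e, smul_eq_mul, smul_eq_mul]
    ring
  refine ⟨?_, fun hchar => ?_⟩
  · rcases hdvd with hd | hd
    · left
      refine Groth.Agent.SemistableNode.D_mk_eq_zero hϖ 0 1 (by decide) f a c hac ?_
      refine (Groth.Agent.SemistableNode.crd_prime hϖ hh (show (0 : Fin 2) ≠ 1 by decide) (b :=
        Groth.Agent.SemistableNode.crd h 1) ?_).resolve_right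
        (Groth.Agent.SemistableNode.not_crd_dvd hϖ hh (by decide))
      rw [show c * Groth.Agent.SemistableNode.crd h 1 = a * Groth.Agent.SemistableNode.crd h 0 - δ f by
        rw [hg]; ring]
      exact dvd_sub (dvd_mul_left _ _) hd
    · right
      refine Groth.Agent.SemistableNode.D_mk_eq_zero hϖ 1 0 (by decide) f c a (hac.trans (add_comm _ _)) ?_
      refine (Groth.Agent.SemistableNode.crd_prime hϖ hh (show (1 : Fin 2) ≠ 0 by decide) (b :=
        Groth.Agent.SemistableNode.crd h 0) ?_).resolve_right
        (Groth.Agent.SemistableNode.not_crd_dvd hϖ hh (by decide))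
      rw [show a * Groth.Agent.SemistableNode.crd h 0 = δ f + c * Groth.Agent.SemistableNode.crd h 1 by
        rw [hg]; ring]
      exact dvd_add hd (dvd_mul_left _ _)
  · obtain ⟨i, j, hij, hd⟩ : ∃ i j : Fin 2, i ≠ j ∧ Groth.Agent.SemistableNode.crd h i ∣ δ f := by
      rcases hdvd with hd | hd
      · exact ⟨0, 1, by decide, hd⟩
      · exact ⟨1, 0, by decide, hd⟩
    obtain ⟨c₀, hc₀⟩ := Groth.Agent.SemistableNode.psi_const hϖ hh hij δ₀ h₀ h₁ δ hδ f hd
    exact Groth.Agent.SemistableNode.not_quasiFinite hϖ hh j f c₀ hc₀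

end Groth.Agent.S14386
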