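import Groth.Statements.S1439
import Groth.Agent.FlatFibres.WeightMax

set_option autoImplicit false
universe u
open FlatMor

namespace Groth.Agent.S1439

open AlgebraicGeometry CategoryTheory Limits in
/-- Let f : X → Y be surjective and quasi-finite with X affine and Y separated and nonempty, and let w
be a positive weighting of f. If the fibre integral of w along f takes exactly k distinct values,
then Y has an affine stratification with index set {0, …, k − 1} (its affine stratification number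
is at most k − 1). -/
theorem result {X Y : Scheme.{u}} (f : X ⟶ Y) [Surjective f] [LocallyQuasiFinite f] [LocallyOfFiniteType f] [QuasiCompact f]
    [IsAffine X] [Y.IsSeparated] [Nonempty ↑Y] (w : ↑X → ℤ) (hw : MoreMor.IsWeighting f w) (hpos : ∀ x, 0 < w x)
    (k : ℕ) (hk : (Set.range (MoreMor.fibreIntegral f w)).ncard = k) (hkfin : (Set.range (MoreMor.fibreIntegral f w)).Finite) :
    MoreMor.HasAffineStratification Y (k - 1) := by
  classical
  haveI : IsSeparated f := by
    haveI : IsSeparated (f ≫ terminal.from Y) := by rw [terminal.comp_from]; infer_instance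
    exact IsSeparated.of_comp f (terminal.from Y)
  haveI : IsAffineHom f := by
    haveI : IsAffineHom (f ≫ terminal.from Y) := by
      rw [terminal.comp_from]; exact isAffineHom_of_isAffine _
    exact IsAffineHom.of_comp f (terminal.from Y)
  set F := MoreMor.fibreIntegral f w
  have hlsc := Groth.Agent.MorLib.WT.lowerSemicontinuous_fibreIntegral
    (FlatFibres.WeightMax.finite_fibres f) hw hpos
  set V := hkfin.toFinset
  have hVk : V.card = k := by rw [← hk, Set.ncard_eq_toFinset_card _ hkfin]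
  have hk1 : k - 1 + 1 = k := by
    have : 0 < k := hVk ▸ Finset.card_pos.mpr
      ⟨F (Classical.arbitrary Y), hkfin.mem_toFinset.mpr ⟨_, rfl⟩⟩
    omega
  let d : Fin (k - 1 + 1) ≃o V := V.orderIsoOfFin (hVk.trans hk1.symm)
  let s : Y → Fin (k - 1 + 1) := fun y => d.symm ⟨F y, hkfin.mem_toFinset.mpr ⟨y, rfl⟩⟩
  have hle : ∀ y i, s y ≤ i ↔ F y ≤ (d i : ℤ) := fun y i => by
    rw [← d.le_iff_le, OrderIso.apply_symm_apply]; rfl
  have heq : ∀ y i, s y = i ↔ F y = (d i : ℤ) := fun y i => by
    rw [← d.injective.eq_iff, OrderIso.apply_symm_apply]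
    exact Subtype.ext_iff
  have hcl : ∀ i, IsClosed {y : Y | s y ≤ i} := fun i => by
    simp only [hle]
    exact hlsc.isClosed_preimage _
  refine ⟨s, hcl, fun i => ?_⟩
  obtain ⟨y₀, hy₀⟩ : ∃ y, F y = (d i : ℤ) := hkfin.mem_toFinset.mp (d i).2
  obtain ⟨x₀, hx₀⟩ := f.surjective y₀
  have hdpos : 0 < (d i : ℤ) := hy₀ ▸ FlatFibres.WeightMax.fibreIntegral_pos hpos hx₀
  let C : TopologicalSpace.Closeds Y := ⟨_, hcl i⟩
  let I := Scheme.IdealSheafData.vanishingIdeal C
  let ι₀ := I.subschemeι
  have hrange : Set.range ι₀ = {y : Y | s y ≤ i} := by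
    rw [Scheme.IdealSheafData.range_subschemeι]
    rfl
  have hc := IsPullback.of_hasPullback f ι₀
  haveI : IsAffine (pullback f ι₀) := isAffine_of_isAffineHom (pullback.fst f ι₀)
  haveI : I.subscheme.IsSeparated := ⟨by
    rw [show terminal.from I.subscheme = ι₀ ≫ terminal.from Y from (terminal.comp_from ι₀).symm]
    infer_instance⟩
  have hint : ∀ z, MoreMor.fibreIntegral (pullback.snd f ι₀) (w ∘ ⇑(pullback.fst f ι₀)) z = F (ι₀ z) :=
    fun z => Groth.Agent.MorLib.GF.fibreIntegral_baseChange hc w z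
      (FlatFibres.WeightMax.finite_fibres f _)
  have hwZ := Groth.Agent.MorLib.WT.isWeighting_baseChange hw hc
  have hmaxZ : ∀ z, MoreMor.fibreIntegral (pullback.snd f ι₀) (w ∘ ⇑(pullback.fst f ι₀)) z ≤ (d i : ℤ) := by
    intro z
    rw [hint]
    have : ι₀ z ∈ Set.range ι₀ := ⟨z, rfl⟩
    rw [hrange] at this
    exact (hle _ _).mp this
  obtain ⟨hU, -⟩ := Groth.Agent.MorLib.WT.finite_over_max
    (FlatFibres.WeightMax.finite_fibres (pullback.snd f ι₀)) hwZ (fun _ => hpos _) _ hmaxZ
  let U : I.subscheme.Opens := ⟨_, hU⟩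
  haveI : IsAffine (U : Scheme.{u}) := FlatFibres.WeightMax.isAffineOpen_max (pullback.snd f ι₀) _
    hwZ (fun _ => hpos _) _ hmaxZ (Or.inl hdpos) U fun _ => Iff.rfl
  refine ⟨U, U.ι ≫ ι₀, inferInstance, inferInstance, ?_, ?_⟩
  · haveI : IsAffineHom ((U.ι ≫ ι₀) ≫ terminal.from Y) := by
      rw [terminal.comp_from]; exact isAffineHom_of_isAffine _
    exact IsAffineHom.of_comp (U.ι ≫ ι₀) (terminal.from Y)
  ext y
  constructor
  · rintro ⟨⟨z, hz⟩, rfl⟩
    exact (heq _ _).mpr ((hint z).symm.trans hz)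
  · intro hy
    obtain ⟨z, rfl⟩ : y ∈ Set.range ι₀ := by rw [hrange]; exact le_of_eq hy
    exact ⟨⟨z, (hint z).trans ((heq _ _).mp hy)⟩, rfl⟩

end Groth.Agent.S1439
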