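import Groth.Statements.S14392
import Groth.Agent.HTop83.PVanish
import Groth.Agent.HTop83.FlcTriv
import Groth.Agent.HTop83.ETorsorH1

set_option autoImplicit false
open CategoryTheory CategoryTheory.Limits AlgebraicGeometry Opposite
universe u
open EtCoh

namespace Groth.Agent.S14392

/-- Let p be a prime number and X a connected affine scheme of characteristic p (p = 0 in the ring of
global sections). Then X is a K(π,1) for p-torsion coefficients: for every finite locally constant
abelian sheaf F on the small étale site of X killed by some power p^h (h ≥ 0, equivalently by an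
integer n ≥ 1 whose only prime factor is p), every q > 0 and every class ζ ∈ H^q(X_ét, F), there is
a finite étale surjective morphism g : X' → X such that g^*ζ = 0 in H^q(X'_ét, g⁻¹F). (Exactness of
pullback of abelian sheaves, which always holds, is carried as an instance hypothesis.) -/
theorem result (p : ℕ) [Fact p.Prime] (X : Scheme.{u}) [IsAffine X]
    [ConnectedSpace ↥X] [CharP Γ(X, ⊤) p] (F : EtCoh.Ab X) (hF : EtCoh.IsFiniteLocallyConstant F)
    (htor : ∃ h : ℕ, EtCoh.KilledBy (p ^ h) F) (q : ℕ) (hq : 0 < q) (ζ : EtCoh.H X F q) :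
    ∃ (X' : Scheme.{u}) (g : X' ⟶ X), IsFinite g ∧ Etale g ∧ Surjective g ∧
      ∀ [PreservesFiniteLimits (EtCoh.pull g)], EtCore.Hpull g F q ζ = 0 := by
  obtain ⟨h, hk⟩ := htor
  rcases Nat.lt_or_ge q 2 with h2 | h2
  · obtain rfl : q = 1 := by omega
    exact HTop83.ETorsor.exists_cover_kill F hF ζ
  obtain ⟨V, hV, hsurj, hc, M, hM, hkill, ⟨e⟩⟩ := HTop83.exists_trivializing F hF
  haveI : AlgebraicGeometry.Etale V.hom := V.prop
  haveI : IsAffine V.left := @isAffine_of_isAffineHom _ X V.hom inferInstance inferInstance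
  have h0 : (p : Γ(V.left, ⊤)) = 0 :=
    (map_natCast V.hom.appTop.hom p).symm.trans ((congrArg V.hom.appTop.hom (CharP.cast_eq_zero Γ(X, ⊤) p)).trans (map_zero _))
  haveI : Nontrivial Γ(V.left, ⊤) := by
    by_contra hn
    rw [not_nontrivial_iff_subsingleton] at hn
    obtain ⟨v⟩ := hc.toNonempty
    exact (not_nonempty_iff.2 (PrimeSpectrum.instIsEmptyOfSubsingleton (R := Γ(V.left, ⊤)))) ⟨(V.left.isoSpec.hom.base v :)⟩
  haveI : CharP Γ(V.left, ⊤) p := (CharP.charP_iff_prime_eq_zero (Fact.out : p.Prime)).2 h0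
  refine ⟨V.left, V.hom, hV, V.prop, hsurj, ?_⟩
  intro inst
  have hs := HTop83.subsingleton_H_constP V.left p h q h2 (Nat.card M) M le_rfl (hkill (p ^ h) hk)
  haveI hs' : Subsingleton ((EtCoh.HF V.left q).obj ((constantSheaf V.left.smallEtaleTopology AddCommGrpCat.{u + 1}).obj M)) := hs
  have hs2 : Subsingleton (EtCoh.H V.left ((EtCoh.pull V.hom).obj F) q) :=
    ((EtCoh.HF V.left q).mapIso e).addCommGroupIsoToAddEquiv.symm.toEquiv.subsingleton
  exact @Subsingleton.elim _ hs2 _ _

end Groth.Agent.S14392
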