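import Groth.Statements.S1440
import Groth.Agent.FlatFibres.SectionStrata

set_option autoImplicit false
universe u
open FlatMor

namespace Groth.Agent.S1440

open AlgebraicGeometry CategoryTheory Limits in
/-- Let f : X → Y be locally of finite presentation with Y quasi-compact and quasi-separated, and assume
f is completely decomposed: every point y of Y is the image of a point x at which the residue field
extension is trivial. Then there are finitely many immersions Z_i → Y of finite presentation,
jointly surjective, such that each base change X ×_Y Z_i → Z_i admits a section. -/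
theorem result {X Y : Scheme.{u}} (f : X ⟶ Y) [LocallyOfFinitePresentation f] [CompactSpace ↑Y] [QuasiSeparatedSpace ↑Y]
    (hcd : ∀ y : Y, ∃ x : X, f x = y ∧ Function.Bijective (f.residueFieldMap x)) :
    ∃ (n : ℕ) (Z : Fin n → Scheme.{u}) (z : ∀ i, Z i ⟶ Y), (∀ y : Y, ∃ i, y ∈ Set.range ⇑(z i)) ∧
      ∀ i, IsImmersion (z i) ∧ LocallyOfFinitePresentation (z i) ∧ QuasiCompact (z i) ∧ QuasiSeparated (z i) ∧
        ∃ s : Z i ⟶ pullback f (z i), s ≫ pullback.snd f (z i) = 𝟙 (Z i) := by
  have key : ∀ y : Y, ∃ (Z : Scheme.{u}) (z : Z ⟶ Y), y ∈ Set.range z ∧ IsImmersion z ∧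
      LocallyOfFinitePresentation z ∧ QuasiCompact z ∧ ∃ t : Z ⟶ X, t ≫ f = z := by
    intro y
    obtain ⟨x, rfl, hbij⟩ := hcd y
    obtain ⟨U, hU, hyU, -⟩ := exists_isAffineOpen_mem_and_subset (U := (⊤ : Y.Opens)) (x := f x) trivial
    obtain ⟨V, hV, hxV, hVU⟩ := exists_isAffineOpen_mem_and_subset (U := f ⁻¹ᵁ U) (x := x) hyU
    letI : Algebra Γ(Y, U) (Y.residueField (f x)) := (Y.evaluation U (f x) hyU).hom.toAlgebra
    letI : Algebra Γ(Y, U) Γ(X, V) := (f.appLE U V hVU).hom.toAlgebra
    haveI : Algebra.FinitePresentation Γ(Y, U) Γ(X, V) :=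
      f.finitePresentation_appLE hU hV hVU
    let e := RingEquiv.ofBijective (f.residueFieldMap x).hom hbij
    let σ : Γ(X, V) →ₐ[Γ(Y, U)] Y.residueField (f x) :=
      { toRingHom := e.symm.toRingHom.comp (X.evaluation V x hxV).hom
        commutes' := fun a => by
          apply e.injective
          show e (e.symm (X.evaluation V x hxV (f.appLE U V hVU a))) = e (Y.evaluation U (f x) hyU a)
          rw [e.apply_symm_apply]
          show _ = f.residueFieldMap x (Y.evaluation U (f x) hyU a)
          rw [Scheme.evaluation_naturality_apply]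
          show (X.presheaf.germ V x hxV ≫ X.residue x) _ = (X.presheaf.germ _ x _ ≫ X.residue x) _
          simp only [CommRingCat.comp_apply, Scheme.Hom.appLE, TopCat.Presheaf.germ_res_apply] }
    have hK : ∀ w : Y.residueField (f x), ∃ a g : Γ(Y, U), algebraMap Γ(Y, U) (Y.residueField (f x)) g ≠ 0 ∧
        w * algebraMap Γ(Y, U) (Y.residueField (f x)) g = algebraMap Γ(Y, U) (Y.residueField (f x)) a := by
      intro w
      obtain ⟨s, rfl⟩ := Scheme.residue_surjective Y (f x) w
      letI := Y.presheaf.algebra_section_stalk ⟨f x, hyU⟩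
      haveI := hU.isLocalization_stalk ⟨f x, hyU⟩
      obtain ⟨⟨a, g⟩, hag⟩ := IsLocalization.surj (hU.primeIdealOf ⟨f x, hyU⟩).asIdeal.primeCompl s
      refine ⟨a, g.1, ?_, ?_⟩
      · have hu := IsLocalization.map_units (Y.presheaf.stalk (f x)) g
        exact (hu.map (Y.residue (f x)).hom).ne_zero
      · show Y.residue (f x) s * Y.residue (f x) (Y.presheaf.germ U (f x) hyU g.1) = _
        rw [← map_mul]
        exact congrArg (Y.residue (f x)) hag
    obtain ⟨L, φ, χ, ρ, himm, hlfp, hχ, hρ⟩ := FlatFibres.exists_section_stratum σ hK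
    haveI := himm
    haveI := hlfp
    haveI : QuasiCompact hU.fromSpec := inferInstance
    refine ⟨Spec L, Spec.map φ ≫ hU.fromSpec, ?_, inferInstance, inferInstance, inferInstance,
      Spec.map χ ≫ hV.fromSpec, ?_⟩
    · obtain ⟨q⟩ : Nonempty (Spec (Y.residueField (f x))) :=
        ⟨IsLocalRing.closedPoint (Y.residueField (f x))⟩
      refine ⟨Spec.map ρ q, ?_⟩
      have h1 : Spec.map ρ ≫ Spec.map φ ≫ hU.fromSpec = Y.fromSpecResidueField (f x) := by
        rw [← Category.assoc, ← Spec.map_comp, hρ]
        show Spec.map (Y.presheaf.germ U (f x) hyU ≫ Y.residue (f x)) ≫ hU.fromSpec = _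
        rw [Spec.map_comp, Category.assoc]
        exact congrArg (Spec.map (Y.residue (f x)) ≫ ·) (hU.fromSpecStalk_eq_fromSpecStalk hyU)
      rw [← Scheme.Hom.comp_apply, h1]
      exact Scheme.fromSpecResidueField_apply _ _
    · rw [Category.assoc, ← IsAffineOpen.SpecMap_appLE_fromSpec f hU hV hVU, ← Category.assoc,
        ← Spec.map_comp, show f.appLE U V hVU ≫ χ = φ from hχ]
  choose Z z hyz himm hlfp hqc t ht using key
  obtain ⟨T, hT⟩ := EtFound.exists_finite_cover (fun y => Set.range (z y))
    (fun y => by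
      haveI := hlfp y
      haveI := hqc y
      rw [← Set.image_univ]
      exact ((z y).isLocallyConstructible_image Topology.IsConstructible.univ.isLocallyConstructible).isConstructible)
    fun y => ⟨y, hyz y⟩
  refine ⟨T.card, fun i => Z (T.equivFin.symm i).1, fun i => z (T.equivFin.symm i).1, fun y => ?_, fun i => ?_⟩
  · obtain ⟨k, hk, hy⟩ := hT y
    refine ⟨T.equivFin ⟨k, hk⟩, ?_⟩
    exact (congrArg (fun q : T => y ∈ Set.range (z q.1)) (T.equivFin.symm_apply_apply ⟨k, hk⟩)).mpr hy
  · haveI := himm (T.equivFin.symm i).1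
    refine ⟨himm _, hlfp _, hqc _, inferInstance,
      pullback.lift (t (T.equivFin.symm i).1) (𝟙 _) (by rw [ht, Category.id_comp]), pullback.lift_snd _ _ _⟩

end Groth.Agent.S1440
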