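import Groth.Statements.S14404
import Groth.Agent.FlatDimHx.Basic

set_option autoImplicit false
universe u
open CategoryTheory AlgebraicGeometry
open FlatMor

namespace Groth.Agent.S14404

/-- Let k be a field, X and Y irreducible schemes of finite type over k and f : X ⟶ Y a flat k-morphism.
Then dim Y ≤ dim X, and for every point y of Y every irreducible component Z of the scheme-theoretic
fibre of f over y has dim Z + dim Y = dim X; that is, every non-empty fibre has all its irreducible
components of dimension dim X − dim Y. -/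
theorem result (k : Type u) [Field k]
    {X Y : Scheme.{u}} (qX : X ⟶ Spec (CommRingCat.of k)) (qY : Y ⟶ Spec (CommRingCat.of k))
    [LocallyOfFiniteType qX] [QuasiCompact qX] [LocallyOfFiniteType qY] [QuasiCompact qY]
    [IrreducibleSpace X] [IrreducibleSpace Y] (f : X ⟶ Y) (hf : f ≫ qY = qX) [Flat f] :
    topologicalKrullDim Y ≤ topologicalKrullDim X ∧
      ∀ (y : Y), ∀ Z ∈ irreducibleComponents (f.fiber y : Type u),
        topologicalKrullDim Z + topologicalKrullDim Y = topologicalKrullDim X := by
  haveI := Groth.Agent.FlatDimHx.lfp_of_over k qX qY f hf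
  have hmax : ∀ z, z ⤳ genericPoint X → z = genericPoint X := fun z hz =>
    (hz.antisymm ((genericPoint_spec X).specializes (Set.mem_univ z))).eq
  have hdX : topologicalKrullDim X = ((Groth.Agent.FibDim.rd qY (f (genericPoint X)) +
      Groth.Agent.FibDim.rd f (genericPoint X) : ℕ) : WithBot ℕ∞) := by
    rw [← Groth.Agent.FlatDimHx.dim_closure_eq k qX qY f hf (genericPoint X),
      Groth.Agent.FlatDimHx.dim_irreducible k qX, Groth.Agent.FlatDimHx.dim_closure k qX]
  have hdY := Groth.Agent.FlatDimHx.rd_eq_of_irreducible k qY _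
    (Groth.Agent.FlatDimHx.maximal_image f hmax)
  refine ⟨by rw [hdX, hdY]; exact_mod_cast Nat.le_add_right _ _, fun y Z hZ => ?_⟩
  obtain ⟨z, ⟨-, hz⟩, hd⟩ := (Groth.Agent.FibDim.fiber_component_dims f y).subset ⟨Z, hZ, rfl⟩
  dsimp only at hd
  rw [← hd, ← Groth.Agent.FlatDimHx.rd_eq_of_specializes f
    ((genericPoint_spec X).specializes (Set.mem_univ z)) (Groth.Agent.FibDim.fibMax_of_maximal f hmax) hz,
    hdX, hdY, add_comm (Groth.Agent.FibDim.rd qY (f (genericPoint X))), Nat.cast_add]
  rfl

end Groth.Agent.S14404
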