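import Groth.Statements.S14426
import Groth.Agent.Koszul15.Basic
import Groth.Agent.Koszul70.Cone
import Groth.Agent.LC.DepthExt

set_option autoImplicit false
open scoped Pointwise
universe u
open Koszul3

namespace Groth.Agent.S14426

open CategoryTheory CategoryTheory.Limits

/-- An element killed by the sequence gives a cycle in the bottom degree of the Koszul complex. -/
theorem exists_bottom {R : Type u} [CommRing R] {M : Type u} [AddCommGroup M] [Module R M] {z : M} (hz : z ≠ 0) :
    ∀ xs : List R, (∀ x ∈ xs, x • z = 0) → ∀ j : ℤ, j = -(xs.length : ℤ) →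
      ∃ w : (CohIII.koszulCx (ModuleCat.of R M) xs).X j, w ≠ 0 ∧
        ((CohIII.koszulCx (ModuleCat.of R M) xs).d j (j + 1)).hom w = 0 ∧
        ∀ a : R, a • z = 0 → a • w = 0 := by
  intro xs
  induction xs with
  | nil =>
    intro _ j hj
    obtain rfl : j = 0 := by simpa using hj
    let e : (CohIII.koszulCx (ModuleCat.of R M) []).X 0 ≃ₗ[R] M :=
      (HomologicalComplex.singleObjXSelf (ComplexShape.up ℤ) 0 (ModuleCat.of R M)).toLinearEquiv
    refine ⟨e.symm z, fun h => hz (e.symm.map_eq_zero_iff.1 h), ?_, fun a ha => ?_⟩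
    · rw [(Groth.Agent.Koszul15.isZero_X _ [] (0 + 1) (by simp)).eq_of_tgt ((CohIII.koszulCx (ModuleCat.of R M) []).d 0 (0 + 1)) 0]
      rfl
    · rw [← map_smul, ha, map_zero]
  | cons f fs ih =>
    intro hk j hj
    obtain ⟨w, hw, hd, hs⟩ := ih (fun x hx => hk x (List.mem_cons_of_mem _ hx)) (j + 1)
      (by simp only [List.length_cons, Nat.cast_add, Nat.cast_one] at hj; omega)
    let φ := f • 𝟙 (CohIII.koszulCx (ModuleCat.of R M) fs)
    refine ⟨Koszul70.cinl φ j (j + 1) rfl w, fun h => hw ?_, ?_, fun a ha => ?_⟩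
    · have e := congrArg (Koszul70.cfst φ j (j + 1) rfl) h
      exact (Koszul70.cfst_cinl φ rfl w).symm.trans (e.trans (map_zero (Koszul70.cfst φ j (j + 1) rfl)))
    · refine Koszul70.cone_ext φ (p := j + 1) (q := j + 1 + 1) rfl ?_ ?_
      · refine (Koszul70.cfst_d φ rfl rfl _).trans ?_
        rw [Koszul70.cfst_cinl]
        exact (neg_eq_zero.2 hd).trans (map_zero _).symm
      · refine (Koszul70.csnd_d φ rfl _).trans ?_
        rw [Koszul70.cfst_cinl, Koszul70.csnd_cinl, map_zero, add_zero]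
        refine Eq.trans ?_ (map_zero _).symm
        exact hs f (hk f List.mem_cons_self)
    · exact (map_smul (Koszul70.cinl φ j (j + 1) rfl) a w).symm.trans ((congrArg _ (hs a ha)).trans (map_zero _))

/-- Vanishing below the depth and non-vanishing at the depth. -/
theorem key {R : Type u} [CommRing R] [IsNoetherianRing R] [IsLocalRing R] (xs : List R)
    (hxs : ∀ x ∈ xs, x ∈ IsLocalRing.maximalIdeal R) (d : ℕ) :
    ∀ (M : Type u) [AddCommGroup M] [Module R M] [Module.Finite R M] [Nontrivial M],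
      LocCoh.idealDepth (Ideal.ofList xs) M = d →
      (∀ q : ℤ, q < (d : ℤ) - xs.length → IsZero ((CohIII.koszulCx (ModuleCat.of R M) xs).homology q)) ∧
        ¬ IsZero ((CohIII.koszulCx (ModuleCat.of R M) xs).homology ((d : ℤ) - xs.length)) := by
  have hI : Ideal.ofList xs ≤ IsLocalRing.maximalIdeal R := Ideal.span_le.2 hxs
  induction d with
  | zero =>
    intro M _ _ _ _ hd
    refine ⟨fun q hq => ShortComplex.isZero_homology_of_isZero_X₂ _
      (Groth.Agent.Koszul15.isZero_X _ xs q (Or.inr (by omega))), fun h0 => ?_⟩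
    have hne : Ideal.ofList xs • (⊤ : Submodule R M) ≠ ⊤ := Groth.Agent.LC.smul_top_ne_top_of_le_maximal hI
    have hno : ¬ ∃ x ∈ Ideal.ofList xs, IsSMulRegular M x := by
      rintro ⟨x, hx, hreg⟩
      have := Groth.Agent.LC.idealDepth_quotSMulTop_add_one (Ideal.ofList xs) hx hreg
      rw [hd, Nat.cast_zero] at this
      simp at this
    rw [Groth.Agent.Alg6.exists_isSMulRegular_mem_iff] at hno
    push Not at hno
    obtain ⟨p, hp, hle⟩ := hno
    obtain ⟨hpp, z, hz⟩ := Groth.Agent.Alg6.mem_ass_iff.1 hp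
    have hz0 : z ≠ 0 := fun h => hpp.ne_top (Ideal.eq_top_of_isUnit_mem _ ((hz 1).2 (by simp [h])) isUnit_one)
    obtain ⟨w, hw, hwd, -⟩ := exists_bottom hz0 xs (fun x hx => (hz x).1 (hle (Ideal.subset_span hx)))
      (((0 : ℕ) : ℤ) - xs.length) (by simp)
    let K := CohIII.koszulCx (ModuleCat.of R M) xs
    have := ModuleCat.subsingleton_of_isZero h0
    obtain ⟨y, hy⟩ := (Koszul70.exists_prev_iff K w).1
      ((Koszul70.cls_eq_zero_iff K _ (Koszul70.mkCycle K w hwd)).1 (Subsingleton.elim _ _))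
      (((0 : ℕ) : ℤ) - xs.length - 1) (by omega)
    have := ModuleCat.subsingleton_of_isZero
      (Groth.Agent.Koszul15.isZero_X (ModuleCat.of R M) xs (((0 : ℕ) : ℤ) - xs.length - 1) (Or.inr (by omega)))
    rw [Subsingleton.elim y 0, map_zero] at hy
    exact hw hy.symm
  | succ d ih =>
    intro M _ _ _ _ hd
    have hne : Ideal.ofList xs • (⊤ : Submodule R M) ≠ ⊤ := Groth.Agent.LC.smul_top_ne_top_of_le_maximal hI
    obtain ⟨x, hx, hreg⟩ : ∃ x ∈ Ideal.ofList xs, IsSMulRegular M x := by
      by_contra hc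
      push Not at hc
      rw [Groth.Agent.LC.idealDepth_eq_zero_of_forall _ hne hc] at hd
      exact absurd hd.symm (by exact_mod_cast Nat.succ_ne_zero d)
    have hle : x • (⊤ : Submodule R M) ≤ Ideal.ofList xs • ⊤ := fun m hm => by
      obtain ⟨y, -, rfl⟩ := Submodule.mem_map.1 hm
      exact Submodule.smul_mem_smul hx Submodule.mem_top
    have hnt : Nontrivial (QuotSMulTop x M) :=
      Submodule.Quotient.nontrivial_iff.2 fun h => hne (top_le_iff.1 (h.ge.trans hle))
    have hd' : LocCoh.idealDepth (Ideal.ofList xs) (QuotSMulTop x M) = d := by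
      have := Groth.Agent.LC.idealDepth_quotSMulTop_add_one (Ideal.ofList xs) hx hreg
      rw [hd, Nat.cast_add, Nat.cast_one] at this
      exact WithTop.add_right_cancel ENat.one_ne_top this
    obtain ⟨h1, h2⟩ := ih (QuotSMulTop x M) hd'
    let N : ModuleCat.{u} R := ModuleCat.of R M
    let π : N ⟶ ModuleCat.of R (QuotSMulTop x M) := ModuleCat.ofHom (Y := QuotSMulTop x M) (Submodule.mkQ _)
    have hz : (x • 𝟙 N) ≫ π = 0 := ModuleCat.hom_ext (LinearMap.ext fun m =>
      (Submodule.Quotient.mk_eq_zero _).2 (Submodule.smul_mem_pointwise_smul m x ⊤ trivial))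
    have hS : (ShortComplex.mk _ _ hz).ShortExact :=
      { exact := (ShortComplex.ShortExact.moduleCat_exact_iff_function_exact _).2 fun m => by
          refine ⟨fun hm => ?_, ?_⟩
          · obtain ⟨y, -, hy⟩ := Submodule.mem_map.1 ((Submodule.Quotient.mk_eq_zero _).1 hm)
            exact ⟨y, hy⟩
          · rintro ⟨y, rfl⟩
            exact ConcreteCategory.congr_hom hz y
        mono_f := (ModuleCat.mono_iff_injective _).2 fun a b h => hreg h
        epi_g := (ModuleCat.epi_iff_surjective _).2 (Submodule.mkQ_surjective _) }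
    obtain ⟨hz', hK⟩ := Groth.Agent.Koszul15.kmap_shortExact _ _ hz hS xs
    have hf0 : ∀ q, HomologicalComplex.homologyMap (Groth.Agent.Koszul15.kmap (x • 𝟙 N) xs) q = 0 := fun q => by
      obtain ⟨H⟩ := Groth.Agent.Koszul15.homotopy_of_mem N xs x hx
      rw [Groth.Agent.Koszul15.kmap_smul, H.homologyMap_eq, HomologicalComplex.homologyMap_zero]
    have hrel : ∀ q : ℤ, (ComplexShape.up ℤ).Rel q (q + 1) := fun q => rfl
    have hsucc : ∀ q : ℤ, IsZero ((CohIII.koszulCx (ModuleCat.of R (QuotSMulTop x M)) xs).homology q) →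
        IsZero ((CohIII.koszulCx N xs).homology (q + 1)) := fun q h => by
      have := (hK.homology_exact₁ q (q + 1) (hrel q)).mono_g (h.eq_of_src _ _)
      exact IsZero.of_mono_eq_zero _ (hf0 (q + 1))
    refine ⟨fun q hq => ?_, fun h0 => h2 ?_⟩
    · obtain ⟨q, rfl⟩ : ∃ p, q = p + 1 := ⟨q - 1, by omega⟩
      exact hsucc q (h1 q (by omega))
    · refine (hK.homology_exact₃ ((d : ℤ) - xs.length) _ (hrel _)).isZero_of_both_zeros ?_
        (IsZero.eq_of_tgt (show IsZero ((CohIII.koszulCx N xs).homology ((d : ℤ) - xs.length + 1)) by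
          rw [show (d : ℤ) - xs.length + 1 = ((d + 1 : ℕ) : ℤ) - xs.length by push_cast; ring]; exact h0) _ _)
      refine IsZero.eq_of_src ?_ _ _
      obtain ⟨q, hq⟩ : ∃ p, (d : ℤ) - xs.length = p + 1 := ⟨_, (sub_add_cancel _ 1).symm⟩
      rw [hq]
      exact hsucc q (h1 q (by omega))

open CategoryTheory CategoryTheory.Limits in
/-- Let (R, m) be a Noetherian local ring, M a nonzero finitely generated R-module and x_1, …, x_n
elements of m generating the ideal a. Then depth(a, M) ≤ n; the Koszul cohomology H^p(x; M) vanishes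
for every p < depth(a, M); and H^r(x; M) is nonzero for r = depth(a, M). (Cohomological indexing
with H^n(x; M) = M/(x)M; in homological indexing this reads H_i = 0 for i > n − r and H_{n−r} ≠ 0.
Koszul complex realised by iterated mapping cones, as in the prelude.) -/
theorem result {R : Type u} [CommRing R] [IsNoetherianRing R] [IsLocalRing R]
    (M : Type u) [AddCommGroup M] [Module R M] [Module.Finite R M] [Nontrivial M]
    (xs : List R) (hxs : ∀ x ∈ xs, x ∈ IsLocalRing.maximalIdeal R) :
    LocCoh.idealDepth (Ideal.span {x | x ∈ xs}) M ≤ xs.length ∧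
      (∀ p : ℕ, (p : ℕ∞) < LocCoh.idealDepth (Ideal.span {x | x ∈ xs}) M → IsZero (CohIII.koszulH xs (ModuleCat.of R M) p)) ∧
      (∀ r : ℕ, LocCoh.idealDepth (Ideal.span {x | x ∈ xs}) M = r → ¬ IsZero (CohIII.koszulH xs (ModuleCat.of R M) r)) := by
  have hle : LocCoh.idealDepth (Ideal.span {x | x ∈ xs}) M ≤ xs.length :=
    Groth.Agent.LC.idealDepth_ofList_le_length xs hxs
  obtain ⟨d, hd⟩ := ENat.ne_top_iff_exists.1 (ne_top_of_le_ne_top (ENat.natCast_ne_top _) hle)
  obtain ⟨h1, h2⟩ := key xs hxs d M hd.symm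
  refine ⟨hle, fun p hp => h1 _ ?_, fun r hr => ?_⟩
  · rw [← hd, Nat.cast_lt] at hp
    omega
  · obtain rfl : r = d := by exact_mod_cast (hr.symm.trans hd.symm : (r : ℕ∞) = d)
    exact h2

end Groth.Agent.S14426
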