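import Groth.Statements.S14431
import Groth.Agent.Growth22.BertLin.Char0
import Groth.Agent.Growth22.BertLin.Glue
import Groth.Agent.Lib.CurveDualPrep
-- import your own Groth.Agent.* helpers here

set_option autoImplicit false
universe u
open CategoryTheory CategoryTheory.Limits AlgebraicGeometry
open Variety

namespace Groth.Agent.S14431

set_option linter.style.haveILetI false
set_option linter.unusedSectionVars false
set_option maxHeartbeats 1000000
set_option backward.isDefEq.respectTransparency false
set_option backward.isDefEq.respectTransparency.types false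
/-- Let k be an algebraically closed field of characteristic zero, X an integral k-scheme of finite type
which is smooth over k, L an invertible O_X-module and s_0, …, s_m global sections of L (morphisms
O_X → L) generating L, i.e. their zero schemes have empty intersection (the sum of their zero ideal
sheaves is the unit ideal). Then the members of the linear system spanned by the s_i corresponding
to a nonempty Zariski-open set of parameters are smooth: there is a nonzero polynomial p in m + 1
variables over k such that for every c ∈ k^{m+1} with p(c) ≠ 0 the zero scheme of the section Σ c_i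
s_i is smooth over k (equivalently, the corresponding divisor is reduced with smooth support). (The
published statement is for varieties, which are separated; this row does not assume X separated.) -/
theorem result (k : Type u) [Field k] [IsAlgClosed k] [CharZero k]
    (X : Scheme.{u}) [X.Over (Spec (CommRingCat.of k))] [IsIntegral X]
    [Smooth (X ↘ Spec (CommRingCat.of k))] [QuasiCompact (X ↘ Spec (CommRingCat.of k))]
    (L : X.Modules) (hL : FlatMod.IsFinLocFreeOfRank 1 L) (m : ℕ)
    (s : Fin (m + 1) → (Coh.structureModule X ⟶ L))
    (hgen : ⨆ i : Fin (m + 1), PicF2.zeroScheme L (s i) = ⊤) :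
    ∃ p : MvPolynomial (Fin (m + 1)) k, p ≠ 0 ∧ ∀ c : Fin (m + 1) → k, MvPolynomial.eval c p ≠ 0 →
      Smooth ((PicF2.zeroScheme L (∑ i : Fin (m + 1), Formal.smulMod k (Coh.structureModule X) (c i) ≫ s i)).subschemeι ≫
        (X ↘ Spec (CommRingCat.of k))) := by
  have hL' : PicF.IsInvertible L := Groth.Agent.CurveDuality.isInvertible_of_rank_one hL
  refine Groth.Agent.Growth22.BertLin.exists_poly_smooth hL' _ fun U => ?_
  letI := Groth.Agent.Growth22.BertLin.algU k U.1
  intro hstd e he
  haveI : Module.Free Γ(X, U.1) (Ω[Γ(X, U.1)⁄k]) := inferInstance
  choose x hx using fun i => he.exists_coord le_rfl (Groth.Agent.ZeroSchX.sv (s i) U.1)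
  simp only [Groth.Agent.AModX.res_self] at hx
  have hgen' : Ideal.span (Set.range x) = ⊤ := by
    have h := congrArg (fun I : X.IdealSheafData => I.ideal U) hgen
    simp only [Scheme.IdealSheafData.ideal_iSup, iSup_apply, Scheme.IdealSheafData.ideal_top,
      Pi.top_apply] at h
    rw [← h, Ideal.span_range_eq_iSup]
    exact iSup_congr fun i => by
      rw [Groth.Agent.ZeroSchX.ideal_zeroScheme hL', Groth.Agent.ZeroSchX.zeroIdealOn_eq_span _ he (hx i)]
  obtain ⟨g, hg0, hg⟩ := Groth.Agent.Growth22.BertLin.exists_poly_of_generated
    (k := k) (σ := ULift.{u} (Fin (m + 1))) (fun i => x i.down) (by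
      rw [← hgen']; congr 1; exact (Equiv.ulift.surjective.range_comp x))
  refine ⟨MvPolynomial.rename Equiv.ulift g,
    (map_ne_zero_iff _ (MvPolynomial.rename_injective _ Equiv.ulift.injective)).2 hg0, fun c hc h hh => ?_⟩
  rw [MvPolynomial.eval_rename] at hc
  have key := hg (c ∘ Equiv.ulift) hc
  have hh' : h = ∑ i : ULift.{u} (Fin (m + 1)), (c ∘ Equiv.ulift) i • x i.down := by
    refine he.coord_unique le_rfl ?_
    simp only [Groth.Agent.AModX.res_self]
    rw [← hh, Groth.Agent.Growth22.BertLin.sv_combination s c U.1 x hx]
    congr 1
    rw [← Equiv.ulift.symm.sum_comp]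
    rfl
  rw [hh']
  exact key

end Groth.Agent.S14431
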