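import Groth.Statements.S14438
import Mathlib
import Groth.Agent.S6320

set_option autoImplicit false
universe u
open CAlg

namespace Groth.Agent.S14438

/-- Let (A, m) be a local ring, B a commutative A-algebra which is free of finite rank d as an A-module,
and assume that for every maximal ideal n of B containing mB the induced map of residue fields A/m →
B/n is bijective (as for the points of a fibre of a finite flat morphism of varieties over an
algebraically closed field). Then the multiplicities of the points of the fibre add up to the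
degree: the sum over all such n of the length of the B_n-module (B/mB)_n equals d. -/
theorem result (A B : Type u) [CommRing A] [IsLocalRing A] [CommRing B] [Algebra A B]
    [Module.Free A B] [Module.Finite A B] (d : ℕ) (hd : Module.finrank A B = d)
    (hres : ∀ (n : Ideal B) [n.IsMaximal] (h : Ideal.map (algebraMap A B) (IsLocalRing.maximalIdeal A) ≤ n),
      Function.Bijective (Ideal.quotientMap n (algebraMap A B) (Ideal.map_le_iff_le_comap.mp h))) :
    finsum (fun n : {n : MaximalSpectrum B // Ideal.map (algebraMap A B) (IsLocalRing.maximalIdeal A) ≤ n.asIdeal} =>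
      Module.length (Localization.AtPrime n.1.asIdeal)
        (LocalizedModule n.1.asIdeal.primeCompl (B ⧸ Ideal.map (algebraMap A B) (IsLocalRing.maximalIdeal A)))) = (d : ℕ∞) := by
  classical
  set m := IsLocalRing.maximalIdeal A
  set J := Ideal.map (algebraMap A B) m with hJ
  haveI : Algebra.IsIntegral A B := Algebra.IsIntegral.of_finite A B
  have hover : ∀ n : MaximalSpectrum B, n.asIdeal.comap (algebraMap A B) = m := fun n =>
    haveI := n.isMaximal
    IsLocalRing.eq_maximalIdeal (Ideal.isMaximal_comap_of_isIntegral_of_isMaximal n.asIdeal)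
  have hmem : ∀ n : MaximalSpectrum B, J ≤ n.asIdeal := fun n =>
    Ideal.map_le_iff_le_comap.mpr (hover n).ge
  letI : Field (A ⧸ m) := Ideal.Quotient.field m
  haveI : Module.Finite (A ⧸ m) (B ⧸ J) := Module.Finite.of_restrictScalars_finite A _ _
  haveI : IsArtinianRing (B ⧸ J) := IsArtinianRing.of_finite (A ⧸ m) (B ⧸ J)
  haveI : Finite (MaximalSpectrum B) := by
    refine Finite.of_injective (β := MaximalSpectrum (B ⧸ J)) (fun n => ⟨n.asIdeal.map (Ideal.Quotient.mk J),
      haveI := n.isMaximal
      Ideal.IsMaximal.map_of_surjective_of_ker_le Ideal.Quotient.mk_surjective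
        (by rw [Ideal.mk_ker]; exact hmem n)⟩) fun n₁ n₂ h => MaximalSpectrum.ext ?_
    have := congrArg (fun q => Ideal.comap (Ideal.Quotient.mk J) (MaximalSpectrum.asIdeal q)) h
    simpa [Ideal.comap_map_of_surjective _ Ideal.Quotient.mk_surjective, ← RingHom.ker_eq_comap_bot,
      Ideal.mk_ker, hmem] using this
  have hbij : ∀ n : MaximalSpectrum B,
      Function.Bijective (algebraMap (A ⧸ n.asIdeal.comap (algebraMap A B)) (B ⧸ n.asIdeal)) := by
    intro n
    haveI := n.isMaximal
    obtain ⟨h1, h2⟩ := hres n.asIdeal (hmem n)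
    refine ⟨Ideal.quotientMap_injective, fun y => ?_⟩
    obtain ⟨x, rfl⟩ := h2 y
    obtain ⟨a, rfl⟩ := Ideal.Quotient.mk_surjective x
    exact ⟨Ideal.Quotient.mk _ a, rfl⟩
  have hfin : ∀ n : MaximalSpectrum B,
      Module.Finite (A ⧸ n.asIdeal.comap (algebraMap A B)) (B ⧸ n.asIdeal) := fun n =>
    Module.Finite.of_surjective (Algebra.linearMap _ _) (hbij n).2
  have hflen : IsFiniteLength B (B ⧸ J) := by
    refine isFiniteLength_iff_isNoetherian_isArtinian.mpr ⟨?_, ?_⟩
    · haveI : IsNoetherian A (B ⧸ J) :=
        (LinearMap.isNoetherian_iff_of_bijective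
          ({ toFun := id, map_add' := fun _ _ => rfl
             map_smul' := fun a x => (IsScalarTower.algebraMap_smul (A ⧸ m) a x).symm } :
            (B ⧸ J) →ₛₗ[Ideal.Quotient.mk m] (B ⧸ J)) Function.bijective_id).mpr inferInstance
      exact isNoetherian_of_tower A this
    · haveI : IsArtinian A (B ⧸ J) :=
        (LinearMap.isArtinian_iff_of_bijective
          ({ toFun := id, map_add' := fun _ _ => rfl
             map_smul' := fun a x => (IsScalarTower.algebraMap_smul (A ⧸ m) a x).symm } :
            (B ⧸ J) →ₛₗ[Ideal.Quotient.mk m] (B ⧸ J)) Function.bijective_id).mpr inferInstance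
      exact isArtinian_of_tower A this
  have h := S6320.result hover hfin (B ⧸ J) hflen
  have hlen : Module.length A (B ⧸ J) = (d : ℕ∞) := by
    rw [Module.length_eq_of_surjective (R := A ⧸ m) Ideal.Quotient.mk_surjective,
      Module.length_eq_finrank, IsLocalRing.finrank_quotient_map, hd]
  rw [hlen] at h
  rw [h]
  refine finsum_eq_of_bijective Subtype.val ⟨Subtype.val_injective, fun n => ⟨⟨n, hmem n⟩, rfl⟩⟩ fun n => ?_
  rw [← (LinearEquiv.ofBijective (Algebra.linearMap _ _) (hbij n.1)).finrank_eq, Module.finrank_self,
    Nat.cast_one, one_mul]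

end Groth.Agent.S14438
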