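import Groth.Statements.S14449
import Groth.Agent.EtFound.AbRecollement
import Groth.Agent.EtFound.PullStalk
import Groth.Agent.EtCore73.RecollGlue

set_option autoImplicit false
universe u
open CategoryTheory CategoryTheory.Limits AlgebraicGeometry
open EtCore

namespace Groth.Agent.S14449

open Groth.Agent.EtFound Groth.Agent.EtCore73.RecollGlue

set_option backward.isDefEq.respectTransparency false
set_option backward.isDefEq.respectTransparency.types false

theorem counit_iso {Z X : Scheme.{u}} (i : Z ⟶ X) [IsPreimmersion i] (hl : Liftable i) (G : EtCoh.Ab Z) :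
    IsIso ((EtCoh.pullPushAdj i).counit.app G) :=
  counit_isIso (A := AddCommGrpCat.{u + 1}) i hl G

theorem isZero_pull_push {X Z U : Scheme.{u}} (i : Z ⟶ X) [IsClosedImmersion i] (j : U ⟶ X)
    (hZU : Set.range j.base = (Set.range i.base)ᶜ) (G : EtCoh.Ab Z) :
    IsZero ((EtCoh.pull j).obj ((EtCoh.push i).obj G)) := by
  refine (IsZero.iff_id_eq_zero _).2 (eq_of_stalks _ _ fun Ω _ _ z => ?_)
  have hz : (z ≫ j).base (default : Spec (CommRingCat.of Ω)) ∉ Set.range i.base := by
    have : (z ≫ j).base (default : Spec (CommRingCat.of Ω)) ∈ Set.range j.base :=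
      ⟨_, (Scheme.Hom.comp_apply _ _ _).symm⟩
    rw [hZU] at this
    exact this
  have h0 := isZero_stalk_push_closed i G (z ≫ j) hz
  exact (h0.of_iso ((sheafFiberPullIso (A := AddCommGrpCat.{u + 1}) j z).app _)).eq_of_src _ _

theorem isIso_of_pull {X Z U : Scheme.{u}} (i : Z ⟶ X) (j : U ⟶ X)
    (hZU : Set.range j.base = (Set.range i.base)ᶜ) {F G : EtCoh.Ab X} (a : F ⟶ G)
    (ha : IsIso ((EtCoh.pull i).map a)) (hb : IsIso ((EtCoh.pull j).map a)) : IsIso a := by
  refine (isIso_iff_stalks a).2 fun Ω _ _ ξ => ?_
  by_cases h : ξ.base (default : Spec (CommRingCat.of Ω)) ∈ Set.range i.base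
  · exact isIso_stalk_of_lift i a ξ h fun k _ _ z =>
      (NatIso.isIso_map_iff (sheafFiberPullIso (A := AddCommGrpCat.{u + 1}) i z) a).1
        (Functor.map_isIso (Scheme.pointSmallEtale z).sheafFiber ((EtCoh.pull i).map a))
  · exact isIso_stalk_of_lift j a ξ (by rw [hZU]; exact h) fun k _ _ z =>
      (NatIso.isIso_map_iff (sheafFiberPullIso (A := AddCommGrpCat.{u + 1}) j z) a).1
        (Functor.map_isIso (Scheme.pointSmallEtale z).sheafFiber ((EtCoh.pull j).map a))

/-- Let X be a scheme, i : Z ⟶ X a closed immersion and j : U ⟶ X an open immersion whose image is the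
complement of the image of i. Then the functor from abelian sheaves on the small étale site of X to
the category of triples (G on Z, H on U, φ : G ⟶ i⁻¹ j_* H), sending F to (i⁻¹ F, j⁻¹ F, i⁻¹ of the
unit F ⟶ j_* j⁻¹ F), is an equivalence of categories. The category of triples is the comma category
of the identity functor of Ab(Z) over j_* ⋙ i⁻¹. -/
theorem result {X Z U : Scheme.{u}}
    (i : Z ⟶ X) [IsClosedImmersion i] (j : U ⟶ X) [IsOpenImmersion j]
    (hZU : Set.range j.base = (Set.range i.base)ᶜ) :
    (EtCore.recollTriple i j).IsEquivalence := by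
  have := counit_iso i (liftable_of_isClosedImmersion i)
  have := counit_iso j (liftable_of_isOpenImmersion j)
  have := pull_preservesFiniteLimits i
  have := pull_preservesFiniteLimits j
  exact trip_isEquivalence (EtCoh.pullPushAdj i) (EtCoh.pullPushAdj j) (isZero_pull_push i j hZU)
    (isIso_of_pull i j hZU)

end Groth.Agent.S14449
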