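import Groth.Statements.S14473
import Groth.Agent.CurveCohLib.Clifford
import Groth.Agent.Lib.CurveSection
import Groth.Agent.CurvFam16.EllAutInf
import Groth.Agent.CurvFam16.Insep
import Groth.Agent.CurvFam16.FFHom

set_option autoImplicit false
universe u
open CategoryTheory CategoryTheory.Limits AlgebraicGeometry
open Curves

namespace Groth.Agent.S14473

/-- Let k be an algebraically closed field and C a smooth proper connected curve over k (proper and
smooth over k, integral, of dimension one) of genus 1, the genus being the dimension of H¹(C, O_C).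
Then the group of k-automorphisms of C is infinite: there are infinitely many automorphisms of the
scheme C over Spec k. -/
theorem result (k : Type u) [Field k] [IsAlgClosed k]
    (C : Scheme.{u}) [C.Over (Spec (CommRingCat.of k))] (hC : Curve.IsSmoothProperCurve k C (C ↘ (Spec (CommRingCat.of k))))
    (hg : Curv2.genus k C = 1) :
    Infinite {e : C ≅ C // e.hom ≫ (C ↘ (Spec (CommRingCat.of k))) = C ↘ (Spec (CommRingCat.of k))} := by
  obtain ⟨hp, hs, hi, hdim⟩ := hC
  haveI := hp
  haveI := hs
  haveI := hi
  letI := CurvFam16.GenFF.ffAlg k C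
  have hk := CurveCohLib.Clifford.finrank_h0_structure k (X := C)
  have hK := CurvFam16.GenFF.isFunctionField k C hdim hk
  have hgen : FunFld.genus k C.functionField = 1 := by rw [CurvFam16.GenFF.genus_eq k hdim hk, hg]
  haveI hinf : Infinite (FunFld.Place k C.functionField) := by
    haveI : Infinite (CurvFam16.GenFF.Pt C) := Infinite.of_not_fintype fun hfi => by
      obtain ⟨S, hS, hcl⟩ := CurveSection.exists_closed_finset k (X := C) hdim (Fintype.card (CurvFam16.GenFF.Pt C) + 1)
      let emb : S → CurvFam16.GenFF.Pt C := fun x => ⟨x.1, hcl x.1 x.2⟩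
      have := Fintype.card_le_of_injective emb fun a b h => Subtype.ext (congrArg (·.1) h :)
      rw [Fintype.card_coe, hS] at this
      omega
    exact Infinite.of_injective _ (CurvFam16.GenFF.pl k C hdim).injective
  let P₀ : FunFld.Place k C.functionField := Classical.arbitrary _
  have hσ : ∀ P : {P : FunFld.Place k C.functionField // P ≠ P₀}, ∃ σ : C.functionField ≃ₐ[k] C.functionField,
      P₀.1.comap (σ : C.functionField →+* C.functionField) = P.1.1 := fun P =>
    CurvFam16.EllAutInf.exists_aut_swap hK hgen
      (fun t ht h2 => CurvFam16.Insep.separable_of_genus_pos k hdim hk (le_of_eq hg.symm) ht h2) P.2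
  choose σ hσ using hσ
  choose e he hres using fun P => CurvFam16.FFHom.exists_iso (A := C) (B := C) hdim hdim (σ P)
  haveI : Infinite {P : FunFld.Place k C.functionField // P ≠ P₀} :=
    Set.infinite_coe_iff.2 (Set.finite_singleton P₀).infinite_compl
  refine Infinite.of_injective (fun P : {P : FunFld.Place k C.functionField // P ≠ P₀} => ⟨e P, he P⟩) fun P Q h => ?_
  have h' : (e P).hom = (e Q).hom := congrArg (fun x => x.1.hom) h
  have hPQ := CurvFam16.FFHom.Restricts.injective (hres P) (h' ▸ hres Q)
  refine Subtype.ext (Subtype.ext ?_)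
  rw [← hσ P, ← hσ Q]
  refine Valuation.ext fun x => congrArg P₀.1 ?_
  exact congrArg (fun φ : C.functionField ⟶ C.functionField => φ.hom x) hPQ

end Groth.Agent.S14473
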