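import Groth.Statements.S14474
import Groth.Agent.NodalLib.Family

set_option autoImplicit false
set_option linter.style.haveILetI false
set_option backward.isDefEq.respectTransparency false
set_option backward.isDefEq.respectTransparency.types false
universe u
open CategoryTheory CategoryTheory.Limits AlgebraicGeometry
open Curves

namespace Groth.Agent.S14474

/-- Let π : C → S be a proper, flat morphism of finite presentation all of whose fibres have every
irreducible component of dimension one (every geometric fibre is a curve). Then the set of points s
of S such that the fibre C_s, as a scheme over κ(s), has at-worst-nodal singularities (each closed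
point has a smooth open neighbourhood or is a node) is open in S. -/
theorem result {C S : Scheme.{u}} (π : C ⟶ S)
    [IsProper π] [Flat π] [LocallyOfFinitePresentation π]
    (hfib : ∀ s : S, ∀ Z ∈ irreducibleComponents (↥(π.fiber s) : Type u), topologicalKrullDim Z = 1) :
    IsOpen {s : S | letI : (π.fiber s).Over (Spec (S.residueField s)) := ⟨π.fiberToSpecResidueField s⟩
      Curv2.AtWorstNodal (S.residueField s) (π.fiber s)} := by
  have hbad : IsClosed (π.base '' {p : C | Groth.Agent.NodalLib.QPt π p}ᶜ) :=
    π.isClosedMap _ (Groth.Agent.NodalLib.ptProp_qPt.isOpen π).isClosed_compl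
  convert hbad.isOpen_compl using 1
  ext s
  constructor
  · rintro h ⟨p, hp, rfl⟩
    exact hp (by
      have := (Groth.Agent.NodalLib.qPt_fiber_iff π (π p) (π.asFiber p)).1
        (Groth.Agent.NodalLib.forall_qPt_of_fibre (π p) ⟨hfib _, h⟩ _)
      rwa [Scheme.Hom.fiberι_asFiber] at this)
  · intro h
    refine (Groth.Agent.NodalLib.fibre_of_forall_qPt s fun z => ?_).2
    rw [Groth.Agent.NodalLib.qPt_fiber_iff]
    by_contra hn
    refine h ⟨_, hn, ?_⟩
    have := π.range_fiberι s ▸ Set.mem_range_self (f := π.fiberι s) z
    exact this

end Groth.Agent.S14474
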