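import Groth.Statements.S14513
import Groth.Agent.CurvFam16.Hurwitz
import Groth.Agent.CurvFam16.FinBirat
import Groth.Agent.CurveFF.Degree

set_option autoImplicit false
universe u
open CategoryTheory CategoryTheory.Limits AlgebraicGeometry
open Curves

namespace Groth.Agent.S14513

/-- Let k be an algebraically closed field and f : X → Y a finite, separable morphism of smooth
projective curves over k (X, Y integral, proper and smooth over k, of dimension one; f sends the
generic point to the generic point and the extension K(X)/K(Y) is separable). If X and Y have the
same genus g = dim_k H^1(O) and g ≥ 2, then f is an isomorphism. (The published statement also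
asserts g(X) ≥ g(Y) and that equality holds exactly when f is an isomorphism, both curves are
projective lines, or both have genus one; this row states the equality case for genus at least two.) -/
theorem result (k : Type u) [Field k] [IsAlgClosed k]
    (X : Scheme.{u}) [X.Over (Spec (CommRingCat.of k))] [IsIntegral X] [IsProper (X ↘ (Spec (CommRingCat.of k)))] [Smooth (X ↘ (Spec (CommRingCat.of k)))] (hdimX : topologicalKrullDim X = 1)
    (Y : Scheme.{u}) [Y.Over (Spec (CommRingCat.of k))] [IsIntegral Y] [IsProper (Y ↘ (Spec (CommRingCat.of k)))] [Smooth (Y ↘ (Spec (CommRingCat.of k)))] (hdimY : topologicalKrullDim Y = 1)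
    (f : X ⟶ Y) [IsFinite f] (hf : f ≫ (Y ↘ (Spec (CommRingCat.of k))) = (X ↘ (Spec (CommRingCat.of k))))
    (e : f (genericPoint X) = genericPoint Y)
    (hg : Curv2.genus k X = Curv2.genus k Y) (h2 : 2 ≤ Curv2.genus k Y) :
    letI := ((Y.presheaf.stalkSpecializes (specializes_of_eq e) ≫ f.stalkMap (genericPoint X)).hom).toAlgebra
    Algebra.IsSeparable Y.functionField X.functionField → IsIso f := by
  letI := ((Y.presheaf.stalkSpecializes (specializes_of_eq e) ≫ f.stalkMap (genericPoint X)).hom).toAlgebra
  intro hsep
  letI := CurveFF.ffAlg k X
  letI := CurveFF.ffAlg k Y
  haveI : IsScalarTower k Y.functionField X.functionField :=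
    IsScalarTower.of_algebraMap_eq fun c => (CurvFam16.Hurwitz.algebraMap_map k f hf e c).symm
  have hK := CurveFF.isFunctionField k Y hdimY
  have hK' := CurveFF.isFunctionField k X hdimX
  haveI : FiniteDimensional Y.functionField X.functionField := by
    obtain ⟨x, hx, hfin⟩ := hK'.1
    obtain ⟨y, hy, -⟩ := hK.1
    have hy' : Transcendental k (algebraMap Y.functionField X.functionField y) := FFLib.transcendental_map hy
    haveI := FFLib.IsFF.finite_adjoin hK'.1 hy'
    haveI : Module.Finite (IntermediateField.adjoin k ({algebraMap Y.functionField X.functionField y} : Set X.functionField)) X.functionField := inferInstance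
    let A := (⊥ : IntermediateField Y.functionField X.functionField).restrictScalars k
    have hle : IntermediateField.adjoin k ({algebraMap Y.functionField X.functionField y} : Set X.functionField) ≤ A := by
      rw [IntermediateField.adjoin_le_iff, Set.singleton_subset_iff]
      exact IntermediateField.algebraMap_mem _ y
    letI := (IntermediateField.inclusion hle).toRingHom.toAlgebra
    haveI : IsScalarTower (IntermediateField.adjoin k ({algebraMap Y.functionField X.functionField y} : Set X.functionField)) A X.functionField :=
      IsScalarTower.of_algebraMap_eq fun _ => rfl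
    haveI : Module.Finite A X.functionField :=
      Module.Finite.of_restrictScalars_finite (IntermediateField.adjoin k ({algebraMap Y.functionField X.functionField y} : Set X.functionField)) A X.functionField
    haveI : FiniteDimensional (⊥ : IntermediateField Y.functionField X.functionField) X.functionField := this
    exact Module.Finite.trans (⊥ : IntermediateField Y.functionField X.functionField) X.functionField
  haveI := hsep
  have h := CurvFam16.Hurwitz.ff_le k Y.functionField X.functionField hK (CurveFF.isGeometric k Y) hK'
  rw [CurveFF.genus_eq k hdimY, CurveFF.genus_eq k hdimX, hg] at h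
  have hpos : 0 < Module.finrank Y.functionField X.functionField := Module.finrank_pos
  have hone : Module.finrank Y.functionField X.functionField = 1 := by
    have h2' : (2 : ℤ) ≤ (Curv2.genus k Y : ℤ) := by exact_mod_cast h2
    by_contra hne
    have : (2 : ℤ) ≤ (Module.finrank Y.functionField X.functionField : ℤ) := by exact_mod_cast (show 2 ≤ _ by omega)
    nlinarith
  have hb : Function.Surjective (algebraMap Y.functionField X.functionField) := fun z => by
    obtain ⟨c, hc⟩ := (finrank_eq_one_iff_of_nonzero' (1 : X.functionField) one_ne_zero).1 hone z
    exact ⟨c, by rw [← hc, Algebra.smul_def, mul_one]⟩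
  refine CurvFam16.isIso_of_finite_birational f e (fun y => ?_) hb
  haveI : IsRegularLocalRing (Y.presheaf.stalk y) :=
    SmoothReg.isRegularLocalRing_stalk_of_mem_smoothLocus (Y ↘ Spec (CommRingCat.of k)) (by
      rw [(Scheme.Hom.smoothLocus_eq_top_iff (f := Y ↘ Spec (CommRingCat.of k))).2 inferInstance]
      trivial)
  rcases CurveFF.eq_or_isClosed k Y hdimY y with rfl | hy
  · show IsIntegrallyClosed Y.functionField
    infer_instance
  · haveI := CurveFF.isDVR k Y hdimY hy
    infer_instance

end Groth.Agent.S14513
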