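import Groth.Statements.S14523
import Groth.Agent.S10879
import Groth.Agent.FlatLocus.Basic
-- import your own Groth.Agent.* helpers here

set_option autoImplicit false
universe u
open CategoryTheory CategoryTheory.Limits AlgebraicGeometry
open Variety

namespace Groth.Agent.S14523

set_option linter.style.haveILetI false
set_option linter.unusedSectionVars false
set_option maxHeartbeats 1000000
set_option backward.isDefEq.respectTransparency false
set_option backward.isDefEq.respectTransparency.types false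
/-- Let k be an algebraically closed field and f : X → Y a proper, birational morphism over k of
irreducible varieties (X, Y integral, separated and of finite type over k; f restricts to an
isomorphism over some nonempty open subset of Y), with Y normal (all local rings integrally closed).
Let U ⊆ Y be the largest open subset over which f is an isomorphism (the domain of f^{-1}). Then
codim_Y(Y ∖ U) ≥ 2: for every point y of Y whose local ring has Krull dimension at most one, f
restricts to an isomorphism over some open neighbourhood of y. -/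
theorem result (k : Type u) [Field k] [IsAlgClosed k]
    (X Y : Scheme.{u}) [X.Over (Spec (CommRingCat.of k))] [Y.Over (Spec (CommRingCat.of k))]
    [IsIntegral X] [IsSeparated (X ↘ (Spec (CommRingCat.of k)))] [LocallyOfFiniteType (X ↘ (Spec (CommRingCat.of k)))] [QuasiCompact (X ↘ (Spec (CommRingCat.of k)))]
    [IsIntegral Y] [IsSeparated (Y ↘ (Spec (CommRingCat.of k)))] [LocallyOfFiniteType (Y ↘ (Spec (CommRingCat.of k)))] [QuasiCompact (Y ↘ (Spec (CommRingCat.of k)))] (hY : ∀ y : Y, IsIntegrallyClosed (Y.presheaf.stalk y))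
    (f : X ⟶ Y) (hf : f ≫ (Y ↘ (Spec (CommRingCat.of k))) = (X ↘ (Spec (CommRingCat.of k)))) [IsProper f]
    (hbir : ∃ V : Y.Opens, (V : Set Y).Nonempty ∧ IsIso (f ∣_ V))
    (y : Y) (hy : ringKrullDim (Y.presheaf.stalk y) ≤ 1) :
    ∃ V : Y.Opens, y ∈ V ∧ IsIso (f ∣_ V) := by
  haveI : IsLocallyNoetherian Y := LocallyOfFiniteType.isLocallyNoetherian (Y ↘ (Spec (CommRingCat.of k)))
  haveI : LocallyOfFinitePresentation f := LocallyOfFinitePresentation.iff_locallyOfFiniteType.mpr inferInstance
  obtain ⟨V₀, hV₀, hiso₀⟩ := hbir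
  haveI := hiso₀
  -- the generic point and surjectivity
  have hsub : (V₀ : Set Y) ⊆ Set.range f := fun y hy => by
    obtain ⟨x, hx⟩ := (f ∣_ V₀).surjective ⟨y, hy⟩
    refine ⟨((f ⁻¹ᵁ V₀).ι) x, ?_⟩
    rw [← Scheme.Hom.comp_apply, ← morphismRestrict_ι]
    show (V₀.ι) ((f ∣_ V₀) x) = y
    rw [hx]; rfl
  have hηV : genericPoint Y ∈ V₀ := by
    obtain ⟨y₀, hy₀⟩ := hV₀
    exact (genericPoint_specializes y₀).mem_open V₀.2 hy₀
  haveI : Surjective f := ⟨fun y => (genericPoint_specializes y).mem_closed f.isClosedMap.isClosed_range (hsub hηV)⟩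
  have hgen : f (genericPoint X) = genericPoint Y := by
    obtain ⟨x, hx⟩ := Surjective.surj (f := f) (genericPoint Y)
    have h1 : f (genericPoint X) ⤳ genericPoint Y := hx ▸ (genericPoint_specializes x).map f.continuous
    exact (h1.antisymm (genericPoint_specializes _)).eq
  have hηU : genericPoint X ∈ f ⁻¹ᵁ V₀ := by
    show f (genericPoint X) ∈ V₀
    rw [hgen]; exact hηV
  haveI hK : IsIso (f.stalkMap (genericPoint X)) :=
    ((MorphismProperty.isomorphisms CommRingCat).arrow_mk_iso_iff
      (morphismRestrictStalkMap f V₀ ⟨genericPoint X, hηU⟩)).mp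
        (inferInstanceAs (IsIso ((f ∣_ V₀).stalkMap ⟨genericPoint X, hηU⟩)))
  -- the flat locus contains the fibre
  have hflat : ∀ x : X, f x = y → (f.stalkMap x).hom.Flat := fun x hx => by
    subst hx
    haveI : IsIntegrallyClosed (Y.presheaf.stalk (f x)) := hY _
    haveI : Ring.DimensionLEOne (Y.presheaf.stalk (f x)) :=
      ⟨fun {p} hp hpp => Ring.krullDimLE_one_iff_of_noZeroDivisors.mp (Ring.krullDimLE_iff.2 hy) p hp hpp⟩
    haveI : IsDedekindDomain (Y.presheaf.stalk (f x)) := { }
    have hinj : Function.Injective (f.stalkMap x).hom := by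
      have h1 : Function.Injective
          (Y.presheaf.stalkSpecializes ((genericPoint_specializes x).map f.continuous) ≫ f.stalkMap (genericPoint X)) := by
        exact ((ConcreteCategory.isIso_iff_bijective _).1 hK).1.comp
          (Groth.Agent.S10879.injective_stalkSpecializes _)
      rw [Scheme.Hom.stalkSpecializes_stalkMap f _ _ (genericPoint_specializes x)] at h1
      exact Function.Injective.of_comp h1
    letI := (f.stalkMap x).hom.toAlgebra
    haveI : Module.IsTorsionFree (Y.presheaf.stalk (f x)) (X.presheaf.stalk x) :=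
      Module.isTorsionFree_iff_algebraMap_injective.2 hinj
    show Module.Flat (Y.presheaf.stalk (f x)) (X.presheaf.stalk x)
    infer_instance
  let W : X.Opens := ⟨_, Groth.Agent.FlatLocus.isOpen_flat_locus f⟩
  let V : Y.Opens := ⟨(f '' (W : Set X)ᶜ)ᶜ, (f.isClosedMap _ W.2.isClosed_compl).isOpen_compl⟩
  have hyV : y ∈ V := fun ⟨x, hxW, hxy⟩ => hxW (hflat x hxy)
  refine ⟨V, hyV, ?_⟩
  haveI : Nonempty V := ⟨⟨y, hyV⟩⟩
  haveI : Nonempty (f ⁻¹ᵁ V : X.Opens) := by
    obtain ⟨x, hx⟩ := Surjective.surj (f := f) y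
    exact ⟨⟨x, show f x ∈ V by rw [hx]; exact hyV⟩⟩
  haveI : IsIntegral (f ⁻¹ᵁ V).toScheme := isIntegral_of_isOpenImmersion (f ⁻¹ᵁ V).ι
  haveI : IsIntegral V.toScheme := isIntegral_of_isOpenImmersion V.ι
  haveI : Flat (f ∣_ V) := Flat.of_stalkMap _ fun z => by
    refine ((RingHom.toMorphismProperty RingHom.Flat).arrow_mk_iso_iff (morphismRestrictStalkMap f V z)).mpr ?_
    show (f.stalkMap z.1).hom.Flat
    by_contra hn
    exact z.2 ⟨z.1, hn, rfl⟩
  have hg : (f ⁻¹ᵁ V).ι (genericPoint (f ⁻¹ᵁ V).toScheme) = genericPoint X :=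
    genericPoint_eq_of_isOpenImmersion (f ⁻¹ᵁ V).ι
  haveI : IsIso ((f ∣_ V).stalkMap (genericPoint (f ⁻¹ᵁ V).toScheme)) :=
    ((MorphismProperty.isomorphisms CommRingCat).arrow_mk_iso_iff (morphismRestrictStalkMap f V _)).mpr (by
      show IsIso (f.stalkMap ((f ⁻¹ᵁ V).ι (genericPoint (f ⁻¹ᵁ V).toScheme)))
      rw [hg]; exact hK)
  haveI : Surjective (f ∣_ V) := IsZariskiLocalAtTarget.restrict ‹Surjective f› V
  exact Groth.Agent.S10879.isIso_of_flat (f ∣_ V) (Or.inr inferInstance)

end Groth.Agent.S14523
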