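import Groth.Statements.S14525
import Groth.Agent.SurfInt.Hodge
import Groth.Agent.SurfInt.Curve
-- import your own Groth.Agent.* helpers here

set_option autoImplicit false
set_option linter.style.haveILetI false
universe u
open CategoryTheory CategoryTheory.Limits AlgebraicGeometry
open Surf

attribute [-instance] CategoryTheory.catToReflQuiver

namespace Groth.Agent.S14525

open Groth.Agent

/-- Let k be an algebraically closed field, X a smooth projective surface over k (integral, smooth over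
k, of dimension two, with a closed immersion over k into some projective space), L an invertible
O_X-module with tensor inverse L' such that (L·L) > 0, and M an ample invertible module with tensor
inverse M'; intersection numbers are the alternating Euler-characteristic sums in the inverses (the
prelude's FGA.intNum, so (L·L) is computed in L', L' and (L·M) in L', M'). Then (L·M) ≠ 0; if (L·M)
> 0 there is c > 0 with dim_k H^0(X, L^{⊗m}) > c·m² for all large m, and if (L·M) < 0 the same holds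
for L' in place of L. -/
theorem result (k : Type u) [Field k] [IsAlgClosed k]
    (X : Scheme.{u}) [X.Over (Spec (CommRingCat.of k))] [IsIntegral X] [Smooth (X ↘ (Spec (CommRingCat.of k)))] (hdim : topologicalKrullDim X = 2)
    (hprojX : ∃ (N : ℕ) (ι : X ⟶ CohB1.ProjSpace N k), IsClosedImmersion ι ∧ ι ≫ CohB1.ProjSpace.toSpec N k = (X ↘ (Spec (CommRingCat.of k))))
    (L L' : X.Modules) (hL : PicF.IsInvertible L) (hLL' : ClSub.IsInverseOf L L')
    (hpos : 0 < FGA.intNum k X 2 ![L', L'] (Coh.structureModule X))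
    (M M' : X.Modules) (hM : CohB1.IsAmple M) (hMM' : ClSub.IsInverseOf M M') :
    FGA.intNum k X 2 ![L', M'] (Coh.structureModule X) ≠ 0 ∧
    (0 < FGA.intNum k X 2 ![L', M'] (Coh.structureModule X) →
      ∃ c : ℚ, 0 < c ∧ ∃ m₀ : ℕ, ∀ m : ℕ, m₀ ≤ m →
        c * (m : ℚ) ^ 2 < (Module.finrank k (Coh.HH X (CohB1.tensorPow L m) 0) : ℚ)) ∧
    (FGA.intNum k X 2 ![L', M'] (Coh.structureModule X) < 0 →
      ∃ c : ℚ, 0 < c ∧ ∃ m₀ : ℕ, ∀ m : ℕ, m₀ ≤ m →
        c * (m : ℚ) ^ 2 < (Module.finrank k (Coh.HH X (CohB1.tensorPow L' m) 0) : ℚ)) := by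
  obtain ⟨n, ι, hι, hιs⟩ := hprojX
  haveI := SurfInt.isProper_of_projective k hι hιs
  have h2 := SurfInt.dim_le_of_eq hdim
  obtain ⟨eL⟩ := hLL'
  obtain ⟨eM⟩ := hMM'
  have hL' := SurfInt.isInvertible_of_tensor_iso hL eL
  have hM' := SurfInt.isInvertible_of_tensor_iso hM.1 eM
  rw [SurfInt.intNum_eq_pair k h2 hL' hM', SurfInt.pair_inverse_both k h2 hL hL' hM.1 hM' eL eM]
  rw [SurfInt.intNum_eq_pair k h2 hL' hL', SurfInt.pair_inverse_both k h2 hL hL' hL hL' eL eL] at hpos
  have key : ∀ A : X.Modules, PicF.IsInvertible A → 0 < SurfInt.pair k A M → 0 < SurfInt.pair k A A →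
      ∃ c : ℚ, 0 < c ∧ ∃ m₀ : ℕ, ∀ m : ℕ, m₀ ≤ m →
        c * (m : ℚ) ^ 2 < (Module.finrank k (Coh.HH X (CohB1.tensorPow A m) 0) : ℚ) := by
    intro A hA hAM hAA
    obtain ⟨N, hN⟩ := SurfInt.exists_quadratic_growth k h2 hM hA hAM hAA
    refine ⟨(SurfInt.pair k A A : ℚ) / 4, div_pos (by exact_mod_cast hAA) (by norm_num), N, fun m hm => ?_⟩
    have h : ((SurfInt.pair k A A * m * m : ℤ) : ℚ) <
        ((4 * (Module.finrank k (Coh.HH X (CohB1.tensorPow A m) 0) : ℤ) : ℤ) : ℚ) := by exact_mod_cast hN m hm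
    push_cast at h
    rw [pow_two]
    linarith
  refine ⟨SurfInt.pair_ample_ne_zero k h2 hM hL hpos, fun h => key L hL h hpos, fun h => ?_⟩
  refine key L' hL' ?_ ?_
  · rw [SurfInt.pair_inverse_left k h2 hL hL' hM.1 eL]; linarith
  · rw [SurfInt.pair_inverse_both k h2 hL hL' hL hL' eL eL]; exact hpos

end Groth.Agent.S14525
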