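import Groth.Statements.S14546
import Groth.Agent.NonAbLib.HomAffine
import Groth.Agent.H84WeilRes.Affine
-- import your own Groth.Agent.* helpers here

set_option autoImplicit false
universe u
open CategoryTheory MonoidalCategory CartesianMonoidalCategory MonObj GrpObj AlgebraicGeometry
open PrincBund

namespace Groth.Agent.S14546

open CategoryTheory.Limits Groth.Agent.NonAbLib.HomAffine Groth.Agent.H84WeilRes in
/-- Maps to affine schemes factor uniquely through a map inducing a bijection on global functions. -/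
theorem existsUnique_factor {W Y T : Scheme.{u}} [IsAffine T] (θ : W ⟶ Y) (hθ : Function.Bijective θ.appTop)
    (f : W ⟶ T) : ∃! h : Y ⟶ T, θ ≫ h = f := by
  haveI : IsIso θ.appTop := (ConcreteCategory.isIso_iff_bijective _).2 hθ
  refine ⟨Y.toSpecΓ ≫ Spec.map (f.appTop ≫ CategoryTheory.inv θ.appTop) ≫ T.isoSpec.inv, ?_, fun h hh => ?_⟩
  · show θ ≫ _ = f
    rw [Scheme.toSpecΓ_naturality_assoc, ← Spec.map_comp_assoc, Category.assoc, IsIso.inv_hom_id,
      Category.comp_id, ← Scheme.toSpecΓ_naturality_assoc, ← Scheme.isoSpec_hom, Iso.hom_inv_id, Category.comp_id]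
  · rw [← hh, Scheme.Hom.comp_appTop, Category.assoc, IsIso.hom_inv_id, Category.comp_id,
      ← Scheme.toSpecΓ_naturality_assoc, ← Scheme.isoSpec_hom, Iso.hom_inv_id, Category.comp_id]

/-- Let k be a field of characteristic 0, X a quasi-compact k-scheme whose ring of global functions is
finite-dimensional over k, and Z an affine k-scheme. Then the functor on k-schemes S ↦ Hom_k(X ×_k
S, Z) is representable by an affine k-scheme M: there is a universal k-morphism X ×_k M → Z through
which every k-morphism X ×_k S → Z factors by a unique S → M; and M is of finite type over k if Z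
is. (The published statement is about the scheme of invariant cross-sections of an affine scheme
under a transitive affine groupoid over a pregroupoid H, with a finiteness hypothesis on H; this row
is the case of the trivial groupoid, where the representing scheme is the scheme of k-morphisms from
X to Z and that hypothesis reads: X quasi-compact with finite-dimensional global functions.) -/
theorem result (k : Type u) [Field k] [CharZero k]
    (X : Over (Spec (CommRingCat.of k))) [CompactSpace ↥X.left]
    (hfin : (X.hom.appTop.hom.comp (Scheme.ΓSpecIso (CommRingCat.of k)).inv.hom).Finite)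
    (Z : Over (Spec (CommRingCat.of k))) [IsAffine Z.left] :
    ∃ (M : Over (Spec (CommRingCat.of k))) (_ : IsAffine M.left) (ev : X ⊗ M ⟶ Z),
      (∀ (S : Over (Spec (CommRingCat.of k))) (f : X ⊗ S ⟶ Z), ∃! g : S ⟶ M, (X ◁ g) ≫ ev = f) ∧
      (LocallyOfFiniteType Z.hom → LocallyOfFiniteType M.hom) := by
  open CategoryTheory.Limits Groth.Agent.NonAbLib.HomAffine Groth.Agent.H84WeilRes in
  let A := Γ(X.left, ⊤)
  let ik : CommRingCat.of k ⟶ A := (Scheme.ΓSpecIso (CommRingCat.of k)).inv ≫ X.hom.appTop
  letI : Algebra k A := ik.hom.toAlgebra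
  haveI : Module.Finite k A := hfin
  let sF := fB k A
  let p : X.left ⟶ Spec (CommRingCat.of A) := X.left.toSpecΓ
  have hp : p ≫ sF = X.hom := by
    show X.left.toSpecΓ ≫ Spec.map ik = X.hom
    rw [Spec.map_comp, ← Category.assoc, ← Scheme.toSpecΓ_naturality, Category.assoc]
    rw [show (Spec (CommRingCat.of k)).toSpecΓ ≫ Spec.map (Scheme.ΓSpecIso (CommRingCat.of k)).inv = 𝟙 _ from by
      rw [← SpecMap_ΓSpecIso_hom, ← Spec.map_comp, Iso.inv_hom_id, Spec.map_id], Category.comp_id]
  have hpb : Function.Bijective p.appTop := by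
    show Function.Bijective X.left.toSpecΓ.appTop
    rw [Scheme.toSpecΓ_appTop]
    exact ConcreteCategory.bijective_of_isIso _
  obtain ⟨θ, hθb, hθf, hθs⟩ : ∃ θ : ∀ S : Over (Spec (CommRingCat.of k)),
      (X ⊗ S).left ⟶ ((Over.pullback sF).obj S).left,
      (∀ S, Function.Bijective (θ S).appTop) ∧ (∀ S, θ S ≫ pullback.fst S.hom sF = pullback.snd X.hom S.hom) ∧
      ∀ S, θ S ≫ pullback.snd S.hom sF = pullback.fst X.hom S.hom ≫ p := by
    refine ⟨fun S => prodMap S.hom sF p hp ≫ (pullbackSymmetry sF S.hom).hom, fun S => ?_, fun S => ?_, fun S => ?_⟩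
    · have : IsIso (prodMap S.hom sF p hp).appTop :=
        (ConcreteCategory.isIso_iff_bijective _).2 (bijective_appTop_prodMap S.hom sF p hp hpb)
      have : IsIso (pullbackSymmetry sF S.hom).hom.appTop :=
        inferInstanceAs (IsIso (Scheme.Γ.map (pullbackSymmetry sF S.hom).hom.op))
      refine (ConcreteCategory.isIso_iff_bijective _).1 ?_
      show IsIso ((pullbackSymmetry sF S.hom).hom.appTop ≫ (prodMap S.hom sF p hp).appTop)
      infer_instance
    · show (prodMap S.hom sF p hp ≫ (pullbackSymmetry sF S.hom).hom) ≫ _ = _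
      rw [Category.assoc, pullbackSymmetry_hom_comp_fst]
      exact pullback.lift_snd _ _ _
    · show (prodMap S.hom sF p hp ≫ (pullbackSymmetry sF S.hom).hom) ≫ _ = _
      rw [Category.assoc, pullbackSymmetry_hom_comp_snd]
      exact pullback.lift_fst _ _ _
  have hnat : ∀ {S M : Over (Spec (CommRingCat.of k))} (g : S ⟶ M),
      (X ◁ g).left ≫ θ M = θ S ≫ ((Over.pullback sF).map g).left := fun {S M} g => by
    refine pullback.hom_ext ?_ ?_
    · rw [Category.assoc, hθf, Category.assoc, show ((Over.pullback sF).map g).left ≫ pullback.fst M.hom sF =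
        pullback.fst S.hom sF ≫ g.left from pullback.lift_fst _ _ _, reassoc_of% hθf]
      exact congrArg CommaMorphism.left (whiskerLeft_snd X g)
    · rw [Category.assoc, hθs, Category.assoc, show ((Over.pullback sF).map g).left ≫ pullback.snd M.hom sF =
        pullback.snd S.hom sF from pullback.lift_snd _ _ _, hθs, ← Category.assoc]
      exact congrArg (· ≫ p) (congrArg CommaMorphism.left (whiskerLeft_fst X g))
  let Z' := (Over.pullback sF).obj Z
  haveI : IsAffine Z'.left := inferInstanceAs (IsAffine (pullback Z.hom sF))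
  obtain ⟨M, q, hMaff, hM, hMft⟩ : ∃ (M : Over (Spec (CommRingCat.of k))) (q : (Over.pullback sF).obj M ⟶ Z'),
      IsAffine M.left ∧ WeilRes.IsWeilRes sF Z' M q ∧ (LocallyOfFiniteType Z.hom → LocallyOfFiniteType M.hom) := by
    by_cases hZ : LocallyOfFiniteType Z.hom
    · haveI : LocallyOfFinitePresentation Z.hom := LocallyOfFinitePresentation.iff_locallyOfFiniteType.2 hZ
      haveI : LocallyOfFinitePresentation Z'.hom :=
        inferInstanceAs (LocallyOfFinitePresentation (pullback.snd Z.hom sF))
      obtain ⟨M, q, h1, h2, h3⟩ := exists_isWeilRes k A Z'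
      exact ⟨M, q, h1, h3, fun _ => inferInstance⟩
    · obtain ⟨M, q, h1, h3⟩ := exists_isWeilRes' k A Z'
      exact ⟨M, q, h1, h3, fun h => absurd h hZ⟩
  let ev : X ⊗ M ⟶ Z := Over.homMk (θ M ≫ q.left ≫ pullback.fst Z.hom sF) (by
    show (θ M ≫ q.left ≫ pullback.fst Z.hom sF) ≫ Z.hom = pullback.fst X.hom M.hom ≫ X.hom
    rw [Category.assoc, Category.assoc, pullback.condition (f := Z.hom) (g := sF), reassoc_of% (show q.left ≫ pullback.snd Z.hom sF =
      pullback.snd M.hom sF from Over.w q), reassoc_of% hθs, hp])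
  refine ⟨M, hMaff, ev, fun S f => ?_, hMft⟩
  obtain ⟨h₀, hh₀, hu⟩ := existsUnique_factor (θ S) (hθb S) f.left
  have hh₀w : h₀ ≫ Z.hom = pullback.snd S.hom sF ≫ sF := by
    refine (existsUnique_factor (θ S) (hθb S) (pullback.fst X.hom S.hom ≫ X.hom)).unique ?_ ?_
    · rw [reassoc_of% hh₀]
      exact Over.w f
    · rw [reassoc_of% hθs, hp]
  let h' : (Over.pullback sF).obj S ⟶ Z' :=
    Over.homMk (pullback.lift h₀ (pullback.snd S.hom sF) hh₀w) (pullback.lift_snd _ _ _)
  obtain ⟨g, hg, hgu⟩ := (hM S).existsUnique h'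
  have key : ∀ g : S ⟶ M, (X ◁ g) ≫ ev = f ↔ WeilRes.restr sF q S g = h' := fun g => by
    have e : ((X ◁ g) ≫ ev).left = θ S ≫ (WeilRes.restr sF q S g).left ≫ pullback.fst Z.hom sF := by
      show (X ◁ g).left ≫ θ M ≫ q.left ≫ _ = θ S ≫ (((Over.pullback sF).map g).left ≫ q.left) ≫ _
      rw [reassoc_of% hnat g, Category.assoc]
    constructor
    · intro h
      refine Over.OverMorphism.ext (pullback.hom_ext ?_ ?_)
      · refine (hu _ ?_).trans (pullback.lift_fst _ _ _).symm
        show θ S ≫ _ = f.left
        rw [← e, h]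
      · exact (Over.w (WeilRes.restr sF q S g)).trans (pullback.lift_snd _ _ _).symm
    · intro h
      refine Over.OverMorphism.ext (e.trans ?_)
      rw [h]
      exact (congrArg (θ S ≫ ·) (pullback.lift_fst _ _ _)).trans hh₀
  exact ⟨g, (key g).2 hg, fun g' hg' => hgu g' ((key g').1 hg')⟩

end Groth.Agent.S14546
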