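import Groth.Statements.S14555
import Groth.Agent.TorsPi79.Bij

set_option autoImplicit false
universe u
open TateGlob
open Groth.Agent

namespace Groth.Agent.S14555

open CategoryTheory AlgebraicGeometry in
/-- Let K be a global function field with finite constant field Fq, S a finite nonempty set of places of
K, O_S the ring of S-integers and 𝒢 a finite locally free (finite and flat) commutative group scheme
over Spec O_S. Write Ô_S = ∏_{v ∉ S} O_v. Then the map H^1(Ô_S, 𝒢) → ∏_{v ∉ S} H^1(O_v, 𝒢), whose
components are the restriction maps along the projections Ô_S → O_v, is bijective; here the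
cohomology is that of the sheaf of points of 𝒢 on the big fppf site of Spec O_S restricted to Spec
Ô_S and to Spec O_v. (The published statement asserts, for any commutative group of finite type over
a global field, the existence of some model with this property; this row is the case its proof
settles first, a finite locally free group over O_S, for which every such model works.) -/
theorem result (Fq : Type u) [Field Fq] [Finite Fq] (K : Type u) [Field K] [Algebra (RatFunc Fq) K] [FunctionField Fq K]
    [Algebra Fq K] [IsScalarTower Fq (RatFunc Fq) K]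
    (S : Set (FunFld.Place Fq K)) (hS : S.Finite) (hne : S.Nonempty)
    (𝒢 : Over (Spec (CommRingCat.of (AdFn.SInt S)))) [GrpObj 𝒢] [IsCommMonObj 𝒢] [IsFinite 𝒢.hom] [Flat 𝒢.hom] :
    Function.Bijective (fun (x : AdFn.HOHat Scheme.fppfPrecoverage S (CGrpSh.pts Scheme.fppfPrecoverage 𝒢) 1) (v : {v : FunFld.Place Fq K // v ∉ S}) =>
      AdFn.ohatRes Scheme.fppfPrecoverage S (CGrpSh.pts Scheme.fppfPrecoverage 𝒢) 1 v.2 x) := by
  haveI : ∀ v : {v : FunFld.Place Fq K // v ∉ S}, IsLocalRing (AdFn.Ov v.1) := fun v =>
    inferInstance
  exact TorsPi79.bijective_resHU (fun w : {v : FunFld.Place Fq K // v ∉ S} => AdFn.Ov w.1) 𝒢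
    (Spec.map (CommRingCat.ofHom (AdFn.SInt.toOHat S)))
    (fun v => Spec.map (CommRingCat.ofHom (AdFn.SInt.toOv S v.2)))
    (fun v => by rw [← Spec.map_comp]; rfl)

end Groth.Agent.S14555
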