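import Groth.Statements.S14556
import Groth.Agent.AdPts79.Adele
import Groth.Agent.AdPts79.Points

set_option autoImplicit false
universe u
open TateGlob

namespace Groth.Agent.S14556

open CategoryTheory AlgebraicGeometry in
/-- Let K be a global function field with finite constant field Fq (every element of K having finitely
many poles), A_K its ring of adeles, S a finite nonempty set of places, O_S the ring of S-integers
and 𝒢 a flat, separated commutative O_S-group scheme of finite type. Then the map H^0(A_K, 𝒢) → ∏_v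
H^0(K_v, 𝒢) induced by the projections A_K → K_v is injective, and its image consists of the
restricted product of the H^0(K_v, 𝒢), taken relative to the images of H^0(O_v, 𝒢) → H^0(K_v, 𝒢), v
∉ S: the families almost all of whose components come from O_v. Here H^0 is the degree-0 cohomology
of the sheaf of points of 𝒢 on the big fppf site of Spec O_S, restricted to Spec A_K, Spec K_v and
Spec O_v. -/
theorem result (Fq : Type u) [Field Fq] [Finite Fq] (K : Type u) [Field K] [Algebra (RatFunc Fq) K] [FunctionField Fq K]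
    [Algebra Fq K] [IsScalarTower Fq (RatFunc Fq) K] [AdFn.HasFinitePoles Fq K]
    (S : Set (FunFld.Place Fq K)) (hS : S.Finite) (hne : S.Nonempty)
    (𝒢 : Over (Spec (CommRingCat.of (AdFn.SInt S)))) [GrpObj 𝒢] [IsCommMonObj 𝒢]
    [Flat 𝒢.hom] [IsSeparated 𝒢.hom] [LocallyOfFiniteType 𝒢.hom] [QuasiCompact 𝒢.hom] :
    Function.Injective (AdFn.locProdS Scheme.fppfPrecoverage S (CGrpSh.pts Scheme.fppfPrecoverage 𝒢) 0) ∧
      Set.range (AdFn.locProdS Scheme.fppfPrecoverage S (CGrpSh.pts Scheme.fppfPrecoverage 𝒢) 0) =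
        Set.range (fun y : AdFn.LocRP Scheme.fppfPrecoverage S (CGrpSh.pts Scheme.fppfPrecoverage 𝒢) 0 => (⇑y : (v : FunFld.Place Fq K) → AdFn.HLocS Scheme.fppfPrecoverage S (CGrpSh.pts Scheme.fppfPrecoverage 𝒢) 0 v)) := by
  have hcomp : ∀ v x, Groth.Agent.AdPts79.ptH0 Scheme.fppfPrecoverage 𝒢 _
      (AdFn.locProdS Scheme.fppfPrecoverage S (CGrpSh.pts Scheme.fppfPrecoverage 𝒢) 0 x v) =
        AdFn.adProjSHom S v ≫ Groth.Agent.AdPts79.ptH0 Scheme.fppfPrecoverage 𝒢 _ x :=
    fun v x => Groth.Agent.AdPts79.ptH0_resHU Scheme.fppfPrecoverage 𝒢 (AdFn.adProjSHom S v) x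
  constructor
  · intro x y h
    apply (Groth.Agent.AdPts79.ptH0 Scheme.fppfPrecoverage 𝒢 _).injective
    refine Groth.Agent.AdPts79.ext_point S fun v => ?_
    rw [← hcomp, ← hcomp, h]
  ext y
  constructor
  · rintro ⟨x, rfl⟩
    refine ⟨⟨AdFn.locProdS Scheme.fppfPrecoverage S (CGrpSh.pts Scheme.fppfPrecoverage 𝒢) 0 x, ?_⟩, rfl⟩
    filter_upwards [Groth.Agent.AdPts79.eventually_integral S (Groth.Agent.AdPts79.ptH0 Scheme.fppfPrecoverage 𝒢 _ x),
      hS.compl_mem_cofinite] with v hv (hvS : v ∉ S)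
    obtain ⟨q, hq⟩ := hv hvS
    show _ ∈ AdFn.locSub Scheme.fppfPrecoverage S (CGrpSh.pts Scheme.fppfPrecoverage 𝒢) 0 v
    rw [AdFn.locSub, iSup_pos hvS]
    refine ⟨(Groth.Agent.AdPts79.ptH0 Scheme.fppfPrecoverage 𝒢 _).symm q, ?_⟩
    apply (Groth.Agent.AdPts79.ptH0 Scheme.fppfPrecoverage 𝒢 _).injective
    rw [Groth.Agent.AdPts79.ptH0_resHU, Equiv.apply_symm_apply, hcomp, hq]
  · rintro ⟨y, rfl⟩
    have hy : ∀ᶠ v in Filter.cofinite, ∃ (hv : v ∉ S) (q : AdFn.specOf (AdFn.SInt.toOv S hv) ⟶ 𝒢),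
        AdFn.intResHom S hv ≫ q = Groth.Agent.AdPts79.ptH0 Scheme.fppfPrecoverage 𝒢 _ (y v) := by
      filter_upwards [y.2, hS.compl_mem_cofinite] with v hv (hvS : v ∉ S)
      rw [SetLike.mem_coe, AdFn.locSub, iSup_pos hvS] at hv
      obtain ⟨z, hz⟩ := hv
      refine ⟨hvS, Groth.Agent.AdPts79.ptH0 Scheme.fppfPrecoverage 𝒢 _ z, ?_⟩
      rw [← Groth.Agent.AdPts79.ptH0_resHU]
      exact congrArg _ hz
    obtain ⟨P, hP⟩ := Groth.Agent.AdPts79.exists_point S _ hy
    refine ⟨(Groth.Agent.AdPts79.ptH0 Scheme.fppfPrecoverage 𝒢 _).symm P, funext fun v => ?_⟩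
    apply (Groth.Agent.AdPts79.ptH0 Scheme.fppfPrecoverage 𝒢 _).injective
    rw [hcomp, Equiv.apply_symm_apply, hP]

end Groth.Agent.S14556
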