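import Groth.Statements.S14574
import Groth.Agent.WeilPts79.Points
import Groth.Agent.AdPts79.Points

set_option autoImplicit false
universe u
open TateGlob
open Groth.Agent

namespace Groth.Agent.S14574

open CategoryTheory AlgebraicGeometry in
/-- Let K be a global function field with finite constant field Fq, k' a finite field extension of K, B'
a finite commutative k'-group scheme, and G a commutative K-group scheme of finite type that is a
K-subgroup scheme of the Weil restriction R_{k'/K}(B'): there is a monomorphism of abelian fppf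
sheaves from the sheaf of points of G into the direct image of the sheaf of points of B' along Spec
k' → Spec K. Let S be a finite nonempty set of places and 𝒢 an O_S-model of G (a flat, separated
commutative group scheme of finite type over the ring of S-integers with an isomorphism between its
sheaf of points restricted to K-schemes and that of G). Then for all but finitely many places v ∉ S
the map 𝒢(O_v) → G(K_v), i.e. the degree-0 restriction map along Spec K_v → Spec O_v on the
cohomology of the sheaf of points of 𝒢, is bijective. (The published statement covers all global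
fields; this row is the function-field case.) -/
theorem result (Fq : Type u) [Field Fq] [Finite Fq] (K : Type u) [Field K] [Algebra (RatFunc Fq) K] [FunctionField Fq K]
    [Algebra Fq K] [IsScalarTower Fq (RatFunc Fq) K]
    (k' : Type u) [Field k'] [Algebra K k'] [FiniteDimensional K k']
    (B' : Over (Spec (CommRingCat.of k'))) [GrpObj B'] [IsCommMonObj B'] [IsFinite B'.hom]
    (G : Over (Spec (CommRingCat.of K))) [GrpObj G] [IsCommMonObj G] [LocallyOfFiniteType G.hom] [QuasiCompact G.hom]
    (j : CGrpSh.pts Scheme.fppfPrecoverage G ⟶ (BigSite.pushBig Scheme.fppfPrecoverage (Spec.map (CommRingCat.ofHom (algebraMap K k'))) AddCommGrpCat.{u+1}).obj (CGrpSh.pts Scheme.fppfPrecoverage B')) [Mono j]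
    (S : Set (FunFld.Place Fq K)) (hS : S.Finite) (hne : S.Nonempty)
    (𝒢 : Over (Spec (CommRingCat.of (AdFn.SInt S)))) [GrpObj 𝒢] [IsCommMonObj 𝒢]
    [Flat 𝒢.hom] [IsSeparated 𝒢.hom] [LocallyOfFiniteType 𝒢.hom] [QuasiCompact 𝒢.hom]
    (e : AdFn.ModelIso Scheme.fppfPrecoverage S 𝒢 G) :
    ∀ᶠ v in Filter.cofinite, ∀ hv : v ∉ S, Function.Bijective (AdFn.intRes Scheme.fppfPrecoverage S (CGrpSh.pts Scheme.fppfPrecoverage 𝒢) 0 hv) := by
  haveI : AdFn.HasFinitePoles Fq K := WeilPts79.hasFinitePoles Fq
  filter_upwards [WeilPts79.eventually_integral e B' j] with v hv hvS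
  have hsep : ∀ z z' : AdFn.specOf (AdFn.SInt.toOv S hvS) ⟶ 𝒢,
      AdFn.intResHom S hvS ≫ z = AdFn.intResHom S hvS ≫ z' → z = z' := fun z z' h =>
    Over.OverMorphism.ext (AdPts79.ext_of_jointly_injective
      (fun _ : Unit => CommRingCat.ofHom (AdFn.Ov v).subtype)
      (fun a ha => Subtype.ext (ha ())) 𝒢.hom ((Over.w z).trans (Over.w z').symm)
      fun _ => congrArg CommaMorphism.left h)
  have hres := AdPts79.ptH0_resHU Scheme.fppfPrecoverage 𝒢 (AdFn.intResHom S hvS)
  constructor
  · intro a b hab
    refine (AdPts79.ptH0 Scheme.fppfPrecoverage 𝒢 _).injective (hsep _ _ ?_)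
    rw [← hres a, ← hres b]
    exact congrArg _ hab
  · intro b
    obtain ⟨z, hz⟩ := hv hvS (AdPts79.ptH0 Scheme.fppfPrecoverage 𝒢 _ b)
    refine ⟨(AdPts79.ptH0 Scheme.fppfPrecoverage 𝒢 _).symm z, ?_⟩
    refine (AdPts79.ptH0 Scheme.fppfPrecoverage 𝒢 _).injective ?_
    rw [hres, Equiv.apply_symm_apply, hz]

end Groth.Agent.S14574
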