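import Groth.Statements.S14596
import Groth.Agent.AGStr.Orbit
import Groth.Agent.H23.LocNoethTop

set_option autoImplicit false
universe u
open CategoryTheory MonoidalCategory CartesianMonoidalCategory MonObj GrpObj AlgebraicGeometry CategoryTheory.Limits
open AlgGrp

namespace Groth.Agent.S14596

/-- Let k be a perfect field, G a k-group scheme of finite type and r₀ : G⁰_red → G the reduced neutral
component of G, i.e. a homomorphism and closed immersion from a reduced k-group scheme whose image
is the connected component of the identity. Then the homogeneous space G/G⁰_red is finite, and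
G⁰_red is the smallest closed subgroup scheme H of G such that G/H is finite: every such H contains
G⁰_red. -/
theorem result (k : Type u) [Field k] [PerfectField k]
    (G G₀ : Over (Spec (CommRingCat.of k))) [GrpObj G] [GrpObj G₀] [LocallyOfFiniteType G.hom] [QuasiCompact G.hom]
    [LocallyOfFiniteType G₀.hom] [QuasiCompact G₀.hom]
    (r₀ : G₀ ⟶ G) [IsMonHom r₀] [IsClosedImmersion r₀.left] [IsReduced G₀.left] (t : ↥((𝟙_ (Over (Spec (CommRingCat.of k)))).left))
    (hr₀ : Set.range ⇑r₀.left.base = connectedComponent ((η[G]).left.base t)) :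
    (∀ (X : Over (Spec (CommRingCat.of k))) (a : AlgGrp.Action G X) (o : 𝟙_ (Over (Spec (CommRingCat.of k))) ⟶ X), AGF.IsQuotient r₀ X a o → IsFinite X.hom) ∧
    ∀ (H : Over (Spec (CommRingCat.of k))) [GrpObj H] (h : H ⟶ G) [IsMonHom h] [IsClosedImmersion h.left]
      (X : Over (Spec (CommRingCat.of k))) (a : AlgGrp.Action G X) (o : 𝟙_ (Over (Spec (CommRingCat.of k))) ⟶ X),
      AGF.IsQuotient h X a o → IsFinite X.hom → ∃ g : G₀ ⟶ H, g ≫ h = r₀ := by
  refine ⟨fun X a o hX => AGStr.isFinite_quotient a o r₀ ?_ hX, fun H _ h _ _ X a o hX hfin => ?_⟩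
  · rw [hr₀]
    haveI : IsLocallyNoetherian G.left := LocallyOfFiniteType.isLocallyNoetherian G.hom
    haveI : CompactSpace ↥G.left := (quasiCompact_iff_compactSpace G.hom).mp inferInstance
    haveI : IsNoetherian G.left := {}
    haveI : LocallyConnectedSpace ↥G.left := H23.LocNoethTop.locallyConnectedSpace
      (fun x => ⟨Set.univ, Filter.univ_mem, inferInstance⟩)
    exact isOpen_connectedComponent
  obtain ⟨hlft, hflat, hsurj, hpb⟩ := hX
  haveI := hfin
  haveI : IsLocallyArtinian (Spec (CommRingCat.of k)) := inferInstance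
  haveI : DiscreteTopology ↥X.left := by
    haveI : IsLocallyNoetherian X.left := LocallyOfFiniteType.isLocallyNoetherian X.hom
    haveI : JacobsonSpace ↥X.left := LocallyOfFiniteType.jacobsonSpace X.hom
    haveI : Finite ↥X.left := Set.finite_univ_iff.mp
      ((X.hom.finite_preimage_singleton (IsLocalRing.closedPoint k)).subset
        fun x _ => Subsingleton.elim (α := PrimeSpectrum k) _ _)
    infer_instance
  let π := (a.orbitMap o).left
  have hconn : _root_.IsPreconnected (Set.range r₀.left) := by
    rw [hr₀]; exact isPreconnected_connectedComponent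
  have himg : (π '' Set.range r₀.left).Subsingleton :=
    (hconn.image π π.continuous.continuousOn).subsingleton
  have hr : Set.range r₀.left ⊆ Set.range h.left := by
    intro y hy
    have hone : η[G].left t ∈ Set.range r₀.left := by rw [hr₀]; exact mem_connectedComponent
    refine AGStr.mem_range_of_orbit_eq a o h hpb y t ?_
    rw [himg ⟨y, hy, rfl⟩ ⟨_, hone, rfl⟩, ← Scheme.Hom.comp_apply, ← Over.comp_left, AGStr.one_orbitMap]
  obtain ⟨g, hg⟩ := H23.RedSub.exists_lift_closed r₀.left h.left hr
  exact ⟨Over.homMk g (by rw [← Over.w h, reassoc_of% hg]; exact Over.w r₀), Over.OverMorphism.ext hg⟩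

end Groth.Agent.S14596
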