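import Groth.Statements.S14618
import Groth.Agent.QCoh.LocFree
import Groth.Agent.QCoh.Pullback
import Mathlib.RingTheory.LocalRing.Module
-- import your own Groth.Agent.* helpers here

set_option autoImplicit false
universe u
open FlatMor
set_option backward.isDefEq.respectTransparency false
set_option linter.style.haveILetI false
set_option maxHeartbeats 1000000

namespace Groth.Agent.S14618

open CategoryTheory CategoryTheory.Limits AlgebraicGeometry TopologicalSpace TensorProduct

/-- A homomorphism into a free module which is injective at a prime splits near the prime. -/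
theorem exists_split_near {R : Type u} [CommRing R] {M N : Type u} [AddCommGroup M] [Module R M]
    [AddCommGroup N] [Module R N] [Module.Finite R M] [Module.Free R N] [Module.Finite R N]
    (φ : M →ₗ[R] N) (p : Ideal R) [p.IsPrime] (K : Type u) [Field K] [Algebra R K]
    (hK : RingHom.ker (algebraMap R K) = p) (hinj : Function.Injective (φ.baseChange K)) :
    ∃ g : R, g ∉ p ∧ ∀ (A : Type u) [CommRing A] [Algebra R A], IsUnit (algebraMap R A g) →
      ∃ r : A ⊗[R] N →ₗ[A] A ⊗[R] M, r ∘ₗ φ.baseChange A = LinearMap.id := by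
  classical
  let κ := p.ResidueField
  letI : Algebra κ K := (Ideal.ResidueField.lift p (algebraMap R K)
    (fun a ha => hK.ge ha)
    (fun a ha => by
      show IsUnit (algebraMap R K a)
      rw [isUnit_iff_ne_zero, Ne, ← RingHom.mem_ker, hK]
      exact ha)).toAlgebra
  haveI : IsScalarTower R κ K := IsScalarTower.of_algebraMap_eq fun r => by
    show _ = Ideal.ResidueField.lift p (algebraMap R K) _ _ (algebraMap R κ r)
    rw [Ideal.ResidueField.lift_algebraMap]
  have hκ : Function.Injective (φ.baseChange κ) := by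
    intro a b hab
    let j : κ →ₗ[R] K := (Algebra.linearMap κ K).restrictScalars R
    have hi : ∀ z : κ ⊗[R] M, φ.baseChange K (j.rTensor M z) = j.rTensor N (φ.baseChange κ z) := fun z => by
      induction z with
      | zero => simp
      | tmul c m => simp
      | add z w hz hw => simp [hz, hw]
    have h2 : Function.Injective (j.rTensor M) := by
      obtain ⟨s, hs⟩ := LinearMap.exists_leftInverse_of_injective (Algebra.linearMap κ K)
        (LinearMap.ker_eq_bot.2 (algebraMap κ K).injective)
      refine Function.LeftInverse.injective (g := (s.restrictScalars R).rTensor M) fun z => ?_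
      rw [← LinearMap.rTensor_comp_apply, ← LinearMap.restrictScalars_comp, hs]
      exact congrFun (congrArg DFunLike.coe (LinearMap.rTensor_id M κ)) z
    exact h2 (hinj (by rw [hi, hi, hab]))
  obtain ⟨s, hs⟩ := LinearMap.exists_leftInverse_of_injective (φ.baseChange κ) (LinearMap.ker_eq_bot.2 hκ)
  -- numerators for a retraction
  have hloc : ∀ z : κ ⊗[R] M, ∃ d : R, d ∉ p ∧ ∃ m : M, (algebraMap R κ d) • z = (1 : κ) ⊗ₜ[R] m := by
    intro z
    induction z with
    | zero => exact ⟨1, fun h => ‹p.IsPrime›.ne_top ((Ideal.eq_top_iff_one _).2 h), 0, by simp⟩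
    | tmul c m =>
      obtain ⟨⟨a, ha⟩, e⟩ : ∃ ab : R × p.primeCompl, c * algebraMap R κ ab.2 = algebraMap R κ ab.1 := by
        obtain ⟨x, rfl⟩ := IsLocalRing.residue_surjective c
        obtain ⟨⟨a, b⟩, hab⟩ := IsLocalization.surj p.primeCompl x
        refine ⟨(a, b), ?_⟩
        show IsLocalRing.residue _ x * IsLocalRing.residue _ (algebraMap R _ b) = IsLocalRing.residue _ (algebraMap R _ a)
        rw [← map_mul, hab]
      refine ⟨ha, ha.2, a • m, ?_⟩
      rw [tmul_smul, TensorProduct.smul_tmul', smul_tmul', Algebra.smul_def a, mul_one, smul_eq_mul, mul_comm]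
      exact congrArg (fun z : κ => z ⊗ₜ[R] m) e
    | add z w hz hw =>
      obtain ⟨d, hd, m, hm⟩ := hz
      obtain ⟨d', hd', m', hm'⟩ := hw
      refine ⟨d * d', p.primeCompl.mul_mem hd hd', d' • m + d • m', ?_⟩
      rw [map_mul, smul_add, tmul_add, tmul_smul, tmul_smul, ← hm, ← hm', ← algebraMap_smul κ d', smul_smul,
        ← algebraMap_smul κ d, smul_smul, mul_comm (algebraMap R κ d)]
  let b := Module.Free.chooseBasis R N
  choose d hd m hm using fun i => hloc (s ((1 : κ) ⊗ₜ[R] b i))
  let D := ∏ i, d i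
  have hD : D ∉ p := fun h => by
    obtain ⟨i, -, hi⟩ := (Ideal.IsPrime.prod_mem_iff).1 h
    exact hd i hi
  let σ : N →ₗ[R] M := b.constr R fun i => (∏ j ∈ Finset.univ.erase i, d j) • m i
  have hσ : ∀ n : N, (1 : κ) ⊗ₜ[R] σ n = algebraMap R κ D • s ((1 : κ) ⊗ₜ[R] n) := by
    intro n
    have : (TensorProduct.mk R κ M 1) ∘ₗ σ =
        (algebraMap R κ D • s).restrictScalars R ∘ₗ TensorProduct.mk R κ N 1 := by
      refine b.ext fun i => ?_
      show (1 : κ) ⊗ₜ[R] σ (b i) = algebraMap R κ D • s ((1 : κ) ⊗ₜ[R] b i)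
      rw [b.constr_basis, tmul_smul, ← hm, ← algebraMap_smul κ (∏ j ∈ Finset.univ.erase i, d j), smul_smul,
        ← map_mul, Finset.prod_erase_mul _ _ (Finset.mem_univ i)]
    exact LinearMap.congr_fun this n
  let θ : M →ₗ[R] M := σ ∘ₗ φ
  let Q := M ⧸ LinearMap.range θ
  have hQ : (⟨p, inferInstance⟩ : PrimeSpectrum R) ∉ Module.support R Q := by
    rw [Module.mem_support_iff_nontrivial_residueField_tensorProduct, not_nontrivial_iff_subsingleton]
    refine subsingleton_of_forall_eq 0 fun z => ?_
    induction z with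
    | zero => rfl
    | tmul c q =>
      obtain ⟨x, rfl⟩ := Submodule.mkQ_surjective _ q
      have h1 : (1 : κ) ⊗ₜ[R] θ x = algebraMap R κ D • ((1 : κ) ⊗ₜ[R] x) := by
        rw [show θ x = σ (φ x) from rfl, hσ]
        exact congrArg _ (LinearMap.congr_fun hs ((1 : κ) ⊗ₜ[R] x))
      have h2 : algebraMap R κ D • ((1 : κ) ⊗ₜ[R] (LinearMap.range θ).mkQ x) = 0 := by
        have := congrArg ((LinearMap.range θ).mkQ.baseChange κ) h1
        rw [map_smul, LinearMap.baseChange_tmul, LinearMap.baseChange_tmul] at this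
        rw [← this, Submodule.mkQ_apply, (Submodule.Quotient.mk_eq_zero _).2 (LinearMap.mem_range_self θ x), tmul_zero]
      rw [smul_eq_zero_iff_right (by rw [Ne, Ideal.algebraMap_residueField_eq_zero]; exact hD)] at h2
      rw [← mul_one c, ← smul_eq_mul, ← smul_tmul', h2, smul_zero]
    | add z w hz hw => rw [hz, hw, add_zero]
  rw [Module.support_eq_zeroLocus, PrimeSpectrum.mem_zeroLocus, SetLike.coe_subset_coe, SetLike.not_le_iff_exists] at hQ
  obtain ⟨g, hgQ, hg⟩ := hQ
  refine ⟨g, hg, fun A _ _ hgA => ?_⟩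
  have hsurj : Function.Surjective (θ.baseChange A) := by
    intro z
    induction z with
    | zero => exact ⟨0, map_zero _⟩
    | tmul a x =>
      obtain ⟨y, hy⟩ : g • x ∈ LinearMap.range θ := by
        rw [← Submodule.Quotient.mk_eq_zero, Submodule.Quotient.mk_smul]
        exact Module.mem_annihilator.1 hgQ _
      obtain ⟨u, hu⟩ := hgA.exists_right_inv
      refine ⟨(a * u) ⊗ₜ y, ?_⟩
      rw [LinearMap.baseChange_tmul, hy, tmul_smul, smul_tmul', Algebra.smul_def, mul_left_comm, hu, mul_one]
    | add z w hz hw =>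
      obtain ⟨y, rfl⟩ := hz
      obtain ⟨y', rfl⟩ := hw
      exact ⟨y + y', map_add _ _ _⟩
  let e := LinearEquiv.ofBijective _ (OrzechProperty.bijective_of_surjective_endomorphism _ hsurj)
  refine ⟨e.symm.toLinearMap ∘ₗ σ.baseChange A, LinearMap.ext fun z => ?_⟩
  show e.symm (σ.baseChange A (φ.baseChange A z)) = z
  rw [← LinearMap.comp_apply, ← LinearMap.baseChange_comp]
  exact e.symm_apply_apply z

variable {X : Scheme.{u}}

theorem isSplitMono_of_arrowIso {C : Type*} [Category C] {A B A' B' : C} {f : A ⟶ B} {g : A' ⟶ B'}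
    (e : Arrow.mk f ≅ Arrow.mk g) [IsSplitMono f] : IsSplitMono g := by
  refine IsSplitMono.mk' ⟨e.inv.right ≫ retraction f ≫ e.hom.left, ?_⟩
  have h1 : e.inv.left ≫ f = g ≫ e.inv.right := Arrow.w_mk e.inv
  rw [← Category.assoc, ← h1, Category.assoc, IsSplitMono.id_assoc]
  rw [← Arrow.comp_left, e.inv_hom_id]
  rfl

noncomputable def compArrow {Z Y : Scheme.{u}} (e : Z ⟶ Y) (q : Y ⟶ X) {M N : X.Modules} (φ : M ⟶ N) :
    Arrow.mk ((Scheme.Modules.pullback e).map ((Scheme.Modules.pullback q).map φ)) ≅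
      Arrow.mk ((Scheme.Modules.pullback (e ≫ q)).map φ) :=
  ((Functor.mapArrowFunctor _ _).mapIso (Scheme.Modules.pullbackComp e q)).app (Arrow.mk φ)

noncomputable def eqArrow {Y : Scheme.{u}} {q q' : Y ⟶ X} (h : q = q') {M N : X.Modules} (φ : M ⟶ N) :
    Arrow.mk ((Scheme.Modules.pullback q).map φ) ≅ Arrow.mk ((Scheme.Modules.pullback q').map φ) :=
  ((Functor.mapArrowFunctor _ _).mapIso (Scheme.Modules.pullbackCongr h)).app (Arrow.mk φ)

/-- Splitting passes to a pullback which factors. -/
theorem split_of_factor {Z Y : Scheme.{u}} (e : Z ⟶ Y) (q : Y ⟶ X) (τ : Z ⟶ X) (h : e ≫ q = τ) {M N : X.Modules}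
    (φ : M ⟶ N) [IsSplitMono ((Scheme.Modules.pullback q).map φ)] :
    IsSplitMono ((Scheme.Modules.pullback τ).map φ) :=
  isSplitMono_of_arrowIso (compArrow e q φ ≪≫ eqArrow h φ)

/-- Locally split monomorphism after pullback. -/
def Split {Y : Scheme.{u}} (q : Y ⟶ X) {M N : X.Modules} (φ : M ⟶ N) : Prop :=
  ∀ y : Y, ∃ U : Y.Opens, y ∈ U ∧ ∃ r, (Scheme.Modules.pullback U.ι).map ((Scheme.Modules.pullback q).map φ) ≫ r = 𝟙 _

theorem split_of_split {Y : Scheme.{u}} (q : Y ⟶ X) {M N : X.Modules} (φ : M ⟶ N)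
    (h : ∀ x : X, ∃ U : X.Opens, x ∈ U ∧
      ∃ r, (Scheme.Modules.pullback U.ι).map φ ≫ r = 𝟙 _) : Split q φ := by
  intro y
  obtain ⟨U, hxU, r, hr⟩ := h (q y)
  haveI := IsSplitMono.mk' ⟨r, hr⟩
  refine ⟨q ⁻¹ᵁ U, hxU, ?_⟩
  haveI := split_of_factor (q ∣_ U) U.ι ((q ⁻¹ᵁ U).ι ≫ q) (morphismRestrict_ι q U) φ
  haveI := isSplitMono_of_arrowIso (f := (Scheme.Modules.pullback ((q ⁻¹ᵁ U).ι ≫ q)).map φ) (compArrow _ q φ).symm
  exact ⟨retraction _, IsSplitMono.id _⟩

/-- Locally split as soon as every point is the image of a point where the pullback is locally split. -/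
theorem split_of_points {F V : X.Modules} (u : F ⟶ V) (hF : Coh.IsQCoh F) (hFt : CohB1.IsFT F)
    (hV : FlatMod.IsFinLocFree V)
    (h : ∀ x : X, ∃ (Y : Scheme.{u}) (q : Y ⟶ X) (y : Y), q y = x ∧ Split q u) :
    ∀ x : X, ∃ U : X.Opens, x ∈ U ∧
      ∃ r : (Scheme.Modules.pullback U.ι).obj V ⟶ (Scheme.Modules.pullback U.ι).obj F,
        (Scheme.Modules.pullback U.ι).map u ≫ r = 𝟙 _ := by
  intro x
  obtain ⟨Y, q, y, hyx, hsplit⟩ := h x
  obtain ⟨U, hU, n, hxU, ⟨efree⟩⟩ := QCoh.exists_affine_free hV x
  let A := F.restrict hU.fromSpec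
  let B := V.restrict hU.fromSpec
  have hA : Coh.IsQCoh A := QCoh.isQCoh_restrict hU.fromSpec hF
  have hB : Coh.IsQCoh B := QCoh.isQCoh_restrict hU.fromSpec (QCoh.isQCoh_of_isFinLocFree hV)
  haveI : IsIso A.fromTildeΓ := (isQuasicoherent_iff_isIso_fromTildeΓ _).1 hA
  haveI : IsIso B.fromTildeΓ := (isQuasicoherent_iff_isIso_fromTildeΓ _).1 hB
  let u' : A ⟶ B := (Scheme.Modules.restrictFunctor hU.fromSpec).map u
  let φ := moduleSpecΓFunctor.map u'
  let eU : Arrow.mk ((Scheme.Modules.pullback hU.fromSpec).map u) ≅ Arrow.mk ((tilde.functor Γ(X, U)).map φ) :=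
    ((Functor.mapArrowFunctor _ _).mapIso (Scheme.Modules.restrictFunctorIsoPullback hU.fromSpec)).symm.app (Arrow.mk u) ≪≫
      (Arrow.isoMk (asIso A.fromTildeΓ) (asIso B.fromTildeΓ) (tilde.adjunction.counit.naturality u').symm).symm
  haveI : Module.Finite Γ(X, U) (moduleSpecΓFunctor.obj A) :=
    haveI := QCoh.finite_of_isFT hF hFt hU
    Module.Finite.equiv (QCoh.chartEquiv hU F)
  obtain ⟨l⟩ := QCoh.exists_linearEquiv_of_freeIso efree
  haveI : Module.Free Γ(X, U) (moduleSpecΓFunctor.obj B) := Module.Free.of_equiv l.symm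
  haveI : Module.Finite Γ(X, U) (moduleSpecΓFunctor.obj B) := Module.Finite.equiv l.symm
  -- the point
  obtain ⟨W, hyW, r, hr⟩ := hsplit y
  haveI := IsSplitMono.mk' ⟨r, hr⟩
  haveI := isSplitMono_of_arrowIso (compArrow W.ι q u)
  let K := Y.residueField y
  let t : Spec K ⟶ (W : Scheme.{u}) := IsOpenImmersion.lift W.ι (Y.fromSpecResidueField y) (by
    rw [Scheme.Opens.range_ι, Scheme.range_fromSpecResidueField]
    exact Set.singleton_subset_iff.2 hyW)
  let τ : Spec K ⟶ Spec Γ(X, U) := IsOpenImmersion.lift hU.fromSpec (Y.fromSpecResidueField y ≫ q) (by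
    rw [hU.range_fromSpec]
    rintro _ ⟨o, rfl⟩
    rw [Scheme.Hom.comp_apply, Scheme.fromSpecResidueField_apply, hyx]
    exact hxU)
  have hτ : τ ≫ hU.fromSpec = Y.fromSpecResidueField y ≫ q := IsOpenImmersion.lift_fac _ _ _
  haveI := split_of_factor t (W.ι ≫ q) (Spec.map (Spec.preimage τ) ≫ hU.fromSpec)
    (by rw [Spec.map_preimage, hτ, ← Category.assoc, IsOpenImmersion.lift_fac]) u
  let eK : Arrow.mk ((Scheme.Modules.pullback (Spec.map (Spec.preimage τ) ≫ hU.fromSpec)).map u) ≅
      Arrow.mk ((tilde.functor K).map ((ModuleCat.extendScalars (Spec.preimage τ).hom).map φ)) :=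
    (compArrow _ _ u).symm ≪≫ (Scheme.Modules.pullback (Spec.map (Spec.preimage τ))).mapArrow.mapIso eU ≪≫
      ((Functor.mapArrowFunctor _ _).mapIso (QCoh.tildePullbackIso (Spec.preimage τ))).app (Arrow.mk φ)
  haveI := isSplitMono_of_arrowIso eK
  have hinj : Function.Injective ((ModuleCat.extendScalars (Spec.preimage τ).hom).map φ).hom := by
    haveI : Mono ((ModuleCat.extendScalars (Spec.preimage τ).hom).map φ) :=
      (tilde.functor K).mono_of_mono_map (inferInstance : Mono _)
    exact (ModuleCat.mono_iff_injective _).1 this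
  letI : Field K := inferInstanceAs (Field (Y.residueField y))
  letI : Algebra Γ(X, U) K := (Spec.preimage τ).hom.toAlgebra
  have hker : RingHom.ker (algebraMap Γ(X, U) K) = (hU.primeIdealOf ⟨x, hxU⟩).asIdeal := by
    have hpt : τ (IsLocalRing.closedPoint K) = hU.primeIdealOf ⟨x, hxU⟩ := by
      refine hU.fromSpec.isOpenEmbedding.injective ?_
      refine Eq.trans ?_ (hU.fromSpec_primeIdealOf ⟨x, hxU⟩).symm
      show hU.fromSpec (τ _) = x
      rw [← Scheme.Hom.comp_apply, hτ, Scheme.Hom.comp_apply, Scheme.fromSpecResidueField_apply, hyx]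
    rw [← hpt]
    conv_rhs => rw [← Spec.map_preimage τ]
    show RingHom.ker (Spec.preimage τ).hom = (IsLocalRing.maximalIdeal K).comap (Spec.preimage τ).hom
    rw [IsLocalRing.isField_iff_maximalIdeal_eq.1 (Field.toIsField K), RingHom.ker_eq_comap_bot]
  obtain ⟨g, hg, hsplitA⟩ := exists_split_near φ.hom (hU.primeIdealOf ⟨x, hxU⟩).asIdeal K hker hinj
  let c : Γ(X, U) ⟶ CommRingCat.of (Localization.Away g) := CommRingCat.ofHom (algebraMap Γ(X, U) _)
  have hgu := IsLocalization.Away.algebraMap_isUnit (S := Localization.Away g) g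
  haveI : IsSplitMono ((ModuleCat.extendScalars c.hom).map φ) := by
    letI : Algebra Γ(X, U) (CommRingCat.of (Localization.Away g)) := c.hom.toAlgebra
    obtain ⟨s, hs⟩ := hsplitA (CommRingCat.of (Localization.Away g)) (show IsUnit (c.hom g) from hgu)
    exact IsSplitMono.mk' ⟨ModuleCat.ofHom s, ModuleCat.hom_ext hs⟩
  let eg : Arrow.mk ((Scheme.Modules.pullback (Spec.map c ≫ hU.fromSpec)).map u) ≅
      Arrow.mk ((tilde.functor _).map ((ModuleCat.extendScalars c.hom).map φ)) :=
    (compArrow _ _ u).symm ≪≫ (Scheme.Modules.pullback (Spec.map c)).mapArrow.mapIso eU ≪≫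
      ((Functor.mapArrowFunctor _ _).mapIso (QCoh.tildePullbackIso c)).app (Arrow.mk φ)
  haveI : IsSplitMono ((Scheme.Modules.pullback (Spec.map c ≫ hU.fromSpec)).map u) :=
    isSplitMono_of_arrowIso eg.symm
  let q₀ := Spec.map c ≫ hU.fromSpec
  haveI : IsOpenImmersion (Spec.map c) := IsOpenImmersion.of_isLocalization (S := Localization.Away g) g
  haveI : IsOpenImmersion q₀ := inferInstanceAs (IsOpenImmersion (_ ≫ _))
  refine ⟨q₀.opensRange, ?_, ?_⟩
  · obtain ⟨o, ho⟩ : hU.primeIdealOf ⟨x, hxU⟩ ∈ Set.range (Spec.map c) := by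
      show hU.primeIdealOf ⟨x, hxU⟩ ∈ Set.range (PrimeSpectrum.comap (algebraMap Γ(X, U) (Localization.Away g)))
      rw [PrimeSpectrum.localization_away_comap_range _ g]
      exact hg
    refine ⟨o, ?_⟩
    show hU.fromSpec (Spec.map c o) = x
    rw [ho, hU.fromSpec_primeIdealOf ⟨x, hxU⟩]
  · haveI := split_of_factor q₀.isoOpensRange.inv q₀ q₀.opensRange.ι (Scheme.Hom.isoOpensRange_inv_comp q₀) u
    exact ⟨retraction _, IsSplitMono.id _⟩

open CategoryTheory CategoryTheory.Limits AlgebraicGeometry in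
/-- Let f : X → S be a morphism of schemes and u : F → V a morphism of O_X-modules with F quasi-coherent
of finite type and V finite locally free. The following are equivalent: (a) u is a locally split
monomorphism, i.e. every point of X has an open neighbourhood U such that the restriction of u to U
has a left inverse; (b) for every point s of S the pullback of u to the fibre X_s = X ×_S Spec κ(s)
is a locally split monomorphism on X_s; (c) for every point s of S the pullback of u to the
geometric fibre X ×_S Spec k̄, k̄ an algebraic closure of κ(s), is a locally split monomorphism.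
Restrictions to opens and to fibres are written as module pullbacks along the corresponding
immersions/projections. (In the published statement X and S are schemes in a terminology where
schemes are separated preschemes; the proof is local on X and on S, so this row assumes no
separatedness.) -/
theorem result {X S : Scheme.{u}} (f : X ⟶ S) {F V : X.Modules} (u : F ⟶ V)
    (hF : Coh.IsQCoh F) (hFt : CohB1.IsFT F) (hV : FlatMod.IsFinLocFree V) :
    [ ∀ x : X, ∃ U : X.Opens, x ∈ U ∧
        ∃ r : (Scheme.Modules.pullback U.ι).obj V ⟶ (Scheme.Modules.pullback U.ι).obj F,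
          (Scheme.Modules.pullback U.ι).map u ≫ r = 𝟙 _,
      ∀ (s : S) (x : f.fiber s), ∃ U : (f.fiber s).Opens, x ∈ U ∧
        ∃ r : (Scheme.Modules.pullback U.ι).obj ((Scheme.Modules.pullback (f.fiberι s)).obj V) ⟶
            (Scheme.Modules.pullback U.ι).obj ((Scheme.Modules.pullback (f.fiberι s)).obj F),
          (Scheme.Modules.pullback U.ι).map ((Scheme.Modules.pullback (f.fiberι s)).map u) ≫ r = 𝟙 _,
      ∀ (s : S) (x : ↑(pullback f (Spec.map (CommRingCat.ofHom (algebraMap (S.residueField s)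
            (AlgebraicClosure (S.residueField s)))) ≫ S.fromSpecResidueField s))),
        ∃ U : Scheme.Opens _, x ∈ U ∧
        ∃ r : (Scheme.Modules.pullback U.ι).obj ((Scheme.Modules.pullback (pullback.fst f
              (Spec.map (CommRingCat.ofHom (algebraMap (S.residueField s) (AlgebraicClosure (S.residueField s)))) ≫
                S.fromSpecResidueField s))).obj V) ⟶
            (Scheme.Modules.pullback U.ι).obj ((Scheme.Modules.pullback (pullback.fst f
              (Spec.map (CommRingCat.ofHom (algebraMap (S.residueField s) (AlgebraicClosure (S.residueField s)))) ≫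
                S.fromSpecResidueField s))).obj F),
          (Scheme.Modules.pullback U.ι).map ((Scheme.Modules.pullback (pullback.fst f
              (Spec.map (CommRingCat.ofHom (algebraMap (S.residueField s) (AlgebraicClosure (S.residueField s)))) ≫
                S.fromSpecResidueField s))).map u) ≫ r = 𝟙 _ ].TFAE := by
  tfae_have 1 → 2 := fun h s => split_of_split (f.fiberι s) u h
  tfae_have 1 → 3 := fun h s => split_of_split (pullback.fst f
    (Spec.map (CommRingCat.ofHom (algebraMap (S.residueField s) (AlgebraicClosure (S.residueField s)))) ≫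
      S.fromSpecResidueField s)) u h
  tfae_have 2 → 1 := fun h => split_of_points u hF hFt hV fun x =>
    ⟨_, f.fiberι (f x), f.asFiber x, f.fiberι_asFiber x, h (f x)⟩
  tfae_have 3 → 1 := fun h => split_of_points u hF hFt hV fun x => by
    obtain ⟨o, ho, -⟩ := Scheme.exists_preimage_of_isPullback
      (IsPullback.of_hasPullback f (Spec.map (CommRingCat.ofHom (algebraMap (S.residueField (f x))
        (AlgebraicClosure (S.residueField (f x))))) ≫ S.fromSpecResidueField (f x)))
      x (IsLocalRing.closedPoint _) (by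
        rw [Scheme.Hom.comp_apply]
        exact (Scheme.fromSpecResidueField_apply _ _).symm)
    exact ⟨_, _, o, ho, h (f x)⟩
  tfae_finish

end Groth.Agent.S14618
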