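import Groth.Statements.S14643
import Groth.Agent.AGStr.ActDescend

set_option autoImplicit false
universe u
open CategoryTheory MonoidalCategory CartesianMonoidalCategory MonObj GrpObj AlgebraicGeometry CategoryTheory.Limits
open AlgGrp

namespace Groth.Agent.S14643

/-- Over a field k, let G be a smooth k-group scheme of finite type acting on a variety X (a separated,
geometrically integral k-scheme of finite type). Let n : N → G be the kernel of the action: a closed
subgroup scheme such that, for every k-scheme T, a T-point of G factors through N exactly when it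
acts as the identity on all points of X over T-schemes. Let π : G → Q be a homomorphism onto a
k-group scheme of finite type which is flat and surjective with kernel N (the quotient G/N). Then
there is a unique action of Q on X inducing the given one along π; this action of Q is faithful (a
T-point of Q acting as the identity on all points of X over T-schemes is the unit); and X is
homogeneous under G (surjective graph morphism (g, x) ↦ (x, g·x)) if and only if it is homogeneous
under Q, and almost homogeneous under G (dominant graph morphism) if and only if it is almost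
homogeneous under Q. -/
theorem result (k : Type u) [Field k]
    (G N Q X : Over (Spec (CommRingCat.of k))) [GrpObj G] [Smooth G.hom] [QuasiCompact G.hom]
    [IsSeparated X.hom] [LocallyOfFiniteType X.hom] [QuasiCompact X.hom] [GeometricallyIntegral X.hom] (a : AlgGrp.Action G X)
    [GrpObj N] (n : N ⟶ G) [IsMonHom n] [IsClosedImmersion n.left]
    (hN : ∀ (T : Over (Spec (CommRingCat.of k))) (g : T ⟶ G),
      (∃ m : T ⟶ N, m ≫ n = g) ↔
        ∀ (T' : Over (Spec (CommRingCat.of k))) (s : T' ⟶ T) (x : T' ⟶ X), CartesianMonoidalCategory.lift (s ≫ g) x ≫ a.act = x)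
    [GrpObj Q] [LocallyOfFiniteType Q.hom] [QuasiCompact Q.hom] (π : G ⟶ Q) [IsMonHom π] [Flat π.left] [Surjective π.left]
    (hker : AlgGrp.IsKernel n π) :
    (∃! b : AlgGrp.Action Q X, (π ▷ X) ≫ b.act = a.act) ∧
    ∀ b : AlgGrp.Action Q X, (π ▷ X) ≫ b.act = a.act →
      (∀ (T : Over (Spec (CommRingCat.of k))) (q : T ⟶ Q),
        (∀ (T' : Over (Spec (CommRingCat.of k))) (s : T' ⟶ T) (x : T' ⟶ X), CartesianMonoidalCategory.lift (s ≫ q) x ≫ b.act = x) → q = 1) ∧
      (Surjective (CartesianMonoidalCategory.lift (CartesianMonoidalCategory.snd G X) a.act).left ↔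
        Surjective (CartesianMonoidalCategory.lift (CartesianMonoidalCategory.snd Q X) b.act).left) ∧
      (IsDominant (CartesianMonoidalCategory.lift (CartesianMonoidalCategory.snd G X) a.act).left ↔
        IsDominant (CartesianMonoidalCategory.lift (CartesianMonoidalCategory.snd Q X) b.act).left) := by
  haveI : QuasiCompact π.left := AGStr.quasiCompact_left π
  obtain ⟨h1, h2, h3⟩ := AGStr.cover_whiskerRight π X
  haveI := h1; haveI := h2; haveI := h3
  have hn : ∀ (T : Over (Spec (CommRingCat.of k))) (m : T ⟶ N) (x : T ⟶ X), lift (m ≫ n) x ≫ a.act = x :=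
    fun T m x => by simpa using (hN T (m ≫ n)).mp ⟨m, rfl⟩ T (𝟙 T) x
  obtain ⟨b, hb⟩ := AGStr.exists_action_desc n π a hker hn
  have hfac : ∀ b : AlgGrp.Action Q X, (π ▷ X) ≫ b.act = a.act →
      lift (snd G X) a.act = (π ▷ X) ≫ lift (snd Q X) b.act := fun b hb => by
    apply CartesianMonoidalCategory.hom_ext <;> simp [hb]
  refine ⟨⟨b, hb, fun b' hb' => ?_⟩, fun b hb => ⟨fun T q hq => ?_, ?_, ?_⟩⟩
  · have e : b'.act = b.act := by
      haveI := AGStr.epi_left (π ▷ X)
      rw [← cancel_epi (π ▷ X), hb', hb]
    cases b; cases b'; cases e; rfl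
  · let w := Limits.pullback.fst q.left π.left
    let T' : Over (Spec (CommRingCat.of k)) := Over.mk (w ≫ T.hom)
    let t : T' ⟶ T := Over.homMk w rfl
    let g : T' ⟶ G := Over.homMk (Limits.pullback.snd q.left π.left) (by
      show Limits.pullback.snd q.left π.left ≫ G.hom = w ≫ T.hom
      rw [← Over.w π, ← Limits.pullback.condition_assoc, Over.w q])
    have hg : g ≫ π = t ≫ q := Over.OverMorphism.ext Limits.pullback.condition.symm
    haveI : Flat t.left := inferInstanceAs (Flat (Limits.pullback.fst q.left π.left))
    haveI : Surjective t.left := inferInstanceAs (Surjective (Limits.pullback.fst q.left π.left))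
    haveI : QuasiCompact t.left := inferInstanceAs (QuasiCompact (Limits.pullback.fst q.left π.left))
    haveI := AGStr.epi_left t
    obtain ⟨m, hm⟩ := (hN T' g).mpr fun T'' s x => by
      rw [← hb, lift_whiskerRight_assoc, Category.assoc, hg, ← Category.assoc]
      exact hq T'' (s ≫ t) x
    rw [← cancel_epi t, ← hg, ← hm, Category.assoc, hker.w, ← Category.assoc, comp_toUnit, MonObj.comp_one]
    rfl
  · rw [hfac b hb, Over.comp_left]
    exact ⟨fun h => Surjective.of_comp (π ▷ X).left _, fun h => inferInstance⟩
  · rw [hfac b hb, Over.comp_left]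
    refine ⟨fun h => IsDominant.of_comp (π ▷ X).left _, fun h => inferInstance⟩

end Groth.Agent.S14643
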