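import Groth.Statements.S14652
import Groth.Agent.ReesVal95.Basic

set_option autoImplicit false
universe u
open FiltBl

namespace Groth.Agent.S14652

/-- Let A be a Noetherian integrally closed domain with fraction field K, let v_1, …, v_s be finitely
many valuations on K with values in ℤ ∪ {∞} (written additively) that are non-negative on A, and let
r_i = p_i / q_i be positive rationals (p_i, q_i positive integers). Let F be the filtration of
ideals of A given by F^k = {x ∈ A | q_i · v_i(x) ≥ k · p_i for every i}. Then the Rees algebra ⊕_{k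
≥ 0} F^k X^k ⊆ A[X] is an integrally closed domain (it need not be Noetherian). -/
theorem result (A K : Type u) [CommRing A] [IsDomain A]
    [IsNoetherianRing A] [IsIntegrallyClosed A] [Field K] [Algebra A K] [IsFractionRing A K]
    (ι : Type) [Finite ι] (v : ι → AddValuation K (WithTop ℤ))
    (hv : ∀ (i : ι) (x : A), 0 ≤ v i (algebraMap A K x)) (p q : ι → ℕ) (hp : ∀ i, 0 < p i)
    (hq : ∀ i, 0 < q i) (𝓕 : FiltBl.IdealFiltration A)
    (hF : ∀ (k : ℕ) (x : A), x ∈ 𝓕.F k ↔
      ∀ i, ((k * p i : ℕ) : WithTop ℤ) ≤ (q i : WithTop ℤ) * v i (algebraMap A K x)) :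
    IsIntegrallyClosed 𝓕.rees := by
  classical
  have hne : ∀ i, (q i : WithTop ℤ) ≠ 0 := fun i => by exact_mod_cast (hq i).ne'
  have hmono : ∀ i, ∀ x y : WithTop ℤ, x ≤ y → (q i : WithTop ℤ) * x ≤ (q i : WithTop ℤ) * y := by
    intro i x y h
    cases y with
    | top => rw [WithTop.mul_top (hne i)]; exact le_top
    | coe y =>
      cases x with
      | top => exact absurd h (not_le.2 (WithTop.coe_lt_top _))
      | coe x =>
        rw [← WithTop.coe_natCast, ← WithTop.coe_mul, ← WithTop.coe_mul, WithTop.coe_le_coe]
        exact mul_le_mul_of_nonneg_left (WithTop.coe_le_coe.1 h) (Int.natCast_nonneg _)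
  have hadd : ∀ i, ∀ x y : WithTop ℤ, (q i : WithTop ℤ) * (x + y) = (q i : WithTop ℤ) * x + (q i : WithTop ℤ) * y := by
    intro i x y
    cases x with
    | top => rw [WithTop.top_add, WithTop.mul_top (hne i), WithTop.top_add]
    | coe x =>
      cases y with
      | top => rw [WithTop.add_top, WithTop.mul_top (hne i), WithTop.add_top]
      | coe y =>
        rw [← WithTop.coe_natCast, ← WithTop.coe_add, ← WithTop.coe_mul, ← WithTop.coe_mul, ← WithTop.coe_mul,
          ← WithTop.coe_add, mul_add]
  let w : ι → AddValuation A (WithTop ℤ) := fun i =>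
    AddValuation.of (fun a => (q i : WithTop ℤ) * v i (algebraMap A K a))
      (by rw [map_zero, AddValuation.map_zero]; exact WithTop.mul_top (hne i))
      (by rw [map_one, AddValuation.map_one, mul_zero])
      (fun a b => by
        rw [map_add]
        refine le_trans ?_ (hmono i _ _ (AddValuation.map_add (v i) _ _))
        rcases le_total (v i (algebraMap A K a)) (v i (algebraMap A K b)) with h | h
        · rw [min_eq_left h]; exact min_le_left _ _
        · rw [min_eq_right h]; exact min_le_right _ _)
      (fun a b => by rw [map_mul, AddValuation.map_mul, hadd])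
  exact ReesVal95.isIntegrallyClosed_rees 𝓕 w p fun n x => hF n x

end Groth.Agent.S14652
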