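import Groth.Statements.S14655
import Groth.Agent.PStalk95.Gor
import Groth.Agent.LC.LiaisonLocal

set_option autoImplicit false
universe u
open FiltBl

namespace Groth.Agent.S14655

open AlgebraicGeometry in
/-- Let A be a Noetherian ℕ-graded commutative ring which is a Cohen–Macaulay ring. Then the scheme Proj
A is Cohen–Macaulay: every local ring of Proj A is a Cohen–Macaulay local ring. -/
theorem result (A : Type u) [CommRing A]
    (𝒜 : ℕ → AddSubgroup A) [GradedRing 𝒜] [LocCoh.IsCohenMacaulayRing A] (x : Proj 𝒜) :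
    LocCoh.IsCohenMacaulayLocalRing ((Proj 𝒜).presheaf.stalk x) := by
  obtain ⟨p, _, hp, ⟨e⟩, n, hn, u, hu, hup⟩ := PStalk95.exists_point A 𝒜 x
  haveI := (PStalk95.cm_aux hp hn hu hup
    (LocCoh.IsCohenMacaulayRing.isCohenMacaulayLocalRing_localization p)).1
  haveI := e.symm.isLocalRing
  exact @LC.Liaison.isCMLocal_of_ringEquiv _ _ _ _ _ _ (isNoetherianRing_of_ringEquiv _ e.symm) e.symm

end Groth.Agent.S14655
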