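import Groth.Statements.S14670
import Mathlib
import Groth.Agent.FlatLoc6.Miracle
import Groth.Agent.RegLoc6.Normal

set_option autoImplicit false
universe u
open CAlg

namespace Groth.Agent.S14670

theorem flat_of_CM (R S : Type u) [CommRing R] [CommRing S]
    [IsRegularLocalRing R] [IsDomain S] [Algebra R S] [Module.Finite R S]
    (hinj : Function.Injective (algebraMap R S))
    (hCM : ∀ (q : Ideal S) [q.IsMaximal], LocCoh.IsCohenMacaulayLocalRing (Localization.AtPrime q)) :
    Module.Flat R S := by
  haveI : IsDomain R := hinj.isDomain
  haveI : IsIntegrallyClosed R := RegLoc6.isIntegrallyClosed_of_isRegularLocalRing R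
  haveI : FaithfulSMul R S := (faithfulSMul_iff_algebraMap_injective R S).mpr hinj
  haveI : IsNoetherianRing S := IsNoetherianRing.of_finite R S
  haveI : Algebra.IsIntegral R S := Algebra.IsIntegral.of_finite R S
  refine Module.flat_of_isLocalized_maximal (R := R) (S := S) S
    (fun P => Localization.AtPrime P) (fun P => Algebra.linearMap S (Localization.AtPrime P))
    fun q _ => ?_
  set m := IsLocalRing.maximalIdeal R
  have hover : q.comap (algebraMap R S) = m :=
    IsLocalRing.eq_maximalIdeal (Ideal.isMaximal_comap_of_isIntegral_of_isMaximal q)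
  haveI : q.LiesOver m := ⟨hover.symm⟩
  let B := Localization.AtPrime q
  haveI : IsLocalHom (algebraMap R B) := by
    constructor
    intro r hr
    by_contra hr'
    have : algebraMap R S r ∈ q := hover.ge (show r ∈ m from hr')
    rw [IsScalarTower.algebraMap_apply R S B] at hr
    exact (IsLocalization.AtPrime.isUnit_to_map_iff B q _).mp hr this
  refine FlatLoc6.flat_of_isCM (A := R) (B := B) (M := B) (hCM q).supportDim_eq_depth ?_
  have hzero : ∀ P : Ideal S, P.IsPrime → m.map (algebraMap R S) ≤ P → P.IsMaximal := fun P hP hle => by
    haveI : (P.comap (algebraMap R S)).IsMaximal := by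
      have : P.comap (algebraMap R S) = m :=
        ((IsLocalRing.maximalIdeal.isMaximal R).eq_of_le
          (Ideal.IsPrime.ne_top (hP.comap _)) (Ideal.map_le_iff_le_comap.mp hle)).symm
      rw [this]
      exact IsLocalRing.maximalIdeal.isMaximal R
    exact Ideal.isMaximal_of_isIntegral_of_isMaximal_comap P this
  haveI : (q.map (Ideal.Quotient.mk (m.map (algebraMap R S)))).IsPrime :=
    Ideal.map_isPrime_of_surjective Ideal.Quotient.mk_surjective (by
      rw [Ideal.mk_ker]; exact Ideal.map_le_iff_le_comap.mpr hover.ge)
  haveI : Ring.KrullDimLE 0 (S ⧸ m.map (algebraMap R S)) := by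
    refine Ring.KrullDimLE.mk₀ fun P hP => ?_
    haveI := hzero (P.comap (Ideal.Quotient.mk _)) (hP.comap _) (by
      intro x hx
      rw [Ideal.mem_comap, Ideal.Quotient.eq_zero_iff_mem.mpr hx]
      exact P.zero_mem)
    rw [← Ideal.map_comap_of_surjective _ Ideal.Quotient.mk_surjective P]
    exact Ideal.IsMaximal.map_of_surjective_of_ker_le Ideal.Quotient.mk_surjective
      (by rw [Ideal.mk_ker]; intro x hx
          rw [Ideal.mem_comap, Ideal.Quotient.eq_zero_iff_mem.mpr hx]; exact P.zero_mem)
  have hh := Ideal.height_eq_height_add_of_liesOver_of_hasGoingDown m q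
  rw [Ideal.height_eq_zero_iff.mpr (Ideal.mem_minimalPrimes_of_krullDimLE_zero
    (q.map (Ideal.Quotient.mk (m.map (algebraMap R S))))), add_zero] at hh
  set I : Ideal B := m.map (algebraMap R B) with hI
  haveI : Ring.KrullDimLE 0 (B ⧸ I) := by
    refine Ring.KrullDimLE.mk₀ fun P hP => ?_
    have hkey : P.comap (Ideal.Quotient.mk I) = IsLocalRing.maximalIdeal B := by
      refine le_antisymm (IsLocalRing.le_maximalIdeal (hP.comap _).ne_top) ?_
      haveI := hP.comap (Ideal.Quotient.mk I)
      have hle : (P.comap (Ideal.Quotient.mk I)).comap (algebraMap S B) ≤ q := by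
        exact (Ideal.comap_mono (IsLocalRing.le_maximalIdeal (hP.comap _).ne_top)).trans_eq
          (Localization.AtPrime.comap_maximalIdeal (I := q))
      have hmle : m.map (algebraMap R S) ≤
          (P.comap (Ideal.Quotient.mk I)).comap (algebraMap S B) := by
        rw [Ideal.map_le_iff_le_comap]
        intro r hr
        rw [Ideal.mem_comap, Ideal.mem_comap, Ideal.mem_comap, ← IsScalarTower.algebraMap_apply,
          Ideal.Quotient.eq_zero_iff_mem.mpr (Ideal.mem_map_of_mem (algebraMap R B) hr)]
        exact P.zero_mem
      have heq := (hzero _ inferInstance hmle).eq_of_le (Ideal.IsMaximal.ne_top ‹_›) hle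
      exact (Localization.AtPrime.map_eq_maximalIdeal (I := q)).ge.trans
        ((Ideal.map_mono heq.ge).trans Ideal.map_comap_le)
    rw [← Ideal.map_comap_of_surjective _ Ideal.Quotient.mk_surjective P, hkey]
    exact Ideal.IsMaximal.map_of_surjective_of_ker_le Ideal.Quotient.mk_surjective
      (by rw [Ideal.mk_ker]; exact IsLocalRing.map_maximalIdeal_le _)
  have hI1 : I ≠ ⊤ := fun h => (IsLocalRing.maximalIdeal.isMaximal B).ne_top
    (top_le_iff.mp (h ▸ IsLocalRing.map_maximalIdeal_le _))
  haveI : Nontrivial (B ⧸ I) := Ideal.Quotient.nontrivial_iff.mpr hI1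
  rw [Module.supportDim_self_eq_ringKrullDim,
    Module.supportDim_eq_of_equiv (Submodule.quotEquivOfEq (FlatLoc6.mN R B B) I
      (by show I • (⊤ : Submodule B B) = I; rw [Ideal.smul_eq_mul, Ideal.mul_top])),
    Module.supportDim_quotient_eq_ringKrullDim,
    ringKrullDimZero_iff_ringKrullDim_eq_zero.mp ‹Ring.KrullDimLE 0 (B ⧸ I)›, add_zero, IsLocalization.AtPrime.ringKrullDim_eq_height q B, hh,
    IsLocalRing.maximalIdeal_height_eq_ringKrullDim]


/-- Let R be a regular local ring and S an integral domain containing R as a subring over which it is a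
finitely generated module, such that the localization of S at each of its maximal ideals is a
Cohen–Macaulay local ring. Then S is a flat R-module. (The published statement does not require S to
be a domain; in that generality it fails — for a discrete valuation ring R with residue field κ the
ring R × κ contains R diagonally, is finite over R with Cohen–Macaulay localizations, and is not
flat — and the printed argument needs every maximal ideal of S to have height dim R, which holds
when S is a domain by going down.) -/
theorem result (R S : Type u) [CommRing R] [CommRing S]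
    [IsRegularLocalRing R] [IsDomain S] [Algebra R S] [Module.Finite R S]
    (hinj : Function.Injective (algebraMap R S))
    (hCM : ∀ (q : Ideal S) [q.IsMaximal], LocCoh.IsCohenMacaulayLocalRing (Localization.AtPrime q)) :
    Module.Flat R S := by
  exact flat_of_CM R S hinj hCM

end Groth.Agent.S14670
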