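import Mathlib
import Groth.Statements.S14692
-- import your own Groth.Agent.* helpers here

set_option autoImplicit false
universe u
open CAlg

namespace Groth.Agent.S14692

theorem pow_sub_bound {p : ℕ} (hp : 1 ≤ p) (n s : ℕ) : ∀ i, s + i ≤ n →
    p ^ (s + i) ≤ p ^ s + i * (p ^ (n - 1) * (p - 1))
  | 0, _ => by simp
  | i + 1, h => by
    have ih := pow_sub_bound hp n s i (by omega)
    have h1 : p ^ (s + i) * (p - 1) ≤ p ^ (n - 1) * (p - 1) :=
      Nat.mul_le_mul_right _ (Nat.pow_le_pow_right hp (by omega))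
    have h2 : p ^ (s + i) * (p - 1) + p ^ (s + i) = p ^ (s + (i + 1)) := by
      rw [← add_assoc, pow_succ, ← Nat.mul_succ, Nat.succ_eq_add_one, Nat.sub_add_cancel hp]
    rw [Nat.succ_mul]
    omega

/-- Divisibility of the middle binomial terms. -/
theorem exists_binom {R : Type u} [CommRing R] {p : ℕ} (hp : p.Prime) (n j : ℕ) (ϖ : R)
    (hj : ϖ ^ (p ^ (n - 1) * (p - 1) * (j + 1)) ∣ (p : R)) (k : ℕ) (hk0 : k ≠ 0) (hk : k < p ^ n) :
    (ϖ ^ (j * p ^ n + 1) ∣ ((p ^ n).choose k : R) * ϖ ^ (j * k)) ∧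
      (ϖ ^ ((j + 1) * p ^ n) ∣ ((p ^ n).choose k : R) * ϖ ^ ((j + 1) * k)) := by
  set s := k.factorization p
  set X := p ^ (n - 1) * (p - 1)
  have hsk : p ^ s ≤ k := Nat.le_of_dvd (Nat.pos_of_ne_zero hk0) (Nat.ordProj_dvd k p)
  have hsn : s < n := (Nat.pow_lt_pow_iff_right hp.one_lt).mp (hsk.trans_lt hk)
  have hC : p ^ (n - s) ∣ (p ^ n).choose k := by
    rw [← Nat.factorization_choose_prime_pow hp hk.le hk0]
    exact Nat.ordProj_dvd _ _
  have hd : ϖ ^ (X * (j + 1) * (n - s)) ∣ ((p ^ n).choose k : R) := by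
    rw [pow_mul]
    refine (pow_dvd_pow_of_dvd hj _).trans ?_
    rw [← Nat.cast_pow]
    exact Nat.cast_dvd_cast hC
  have hb := pow_sub_bound hp.one_le n s (n - s) (by omega)
  rw [show s + (n - s) = n by omega] at hb
  replace hb : p ^ n ≤ p ^ s + (n - s) * X := hb
  have hX : 1 ≤ (n - s) * X :=
    Nat.one_le_iff_ne_zero.mpr (Nat.mul_ne_zero (by omega)
      (Nat.mul_ne_zero (pow_ne_zero _ hp.ne_zero) (by have := hp.two_le; omega)))
  constructor
  · refine (pow_dvd_pow ϖ (?_ : j * p ^ n + 1 ≤ X * (j + 1) * (n - s) + j * k)).trans ?_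
    · nlinarith [Nat.mul_le_mul_left j hb, Nat.mul_le_mul_left j hsk]
    · rw [pow_add]; exact mul_dvd_mul_right hd _
  · refine (pow_dvd_pow ϖ (?_ : (j + 1) * p ^ n ≤ X * (j + 1) * (n - s) + (j + 1) * k)).trans ?_
    · nlinarith [Nat.mul_le_mul_left (j + 1) hb, Nat.mul_le_mul_left (j + 1) hsk]
    · rw [pow_add]; exact mul_dvd_mul_right hd _

theorem one_add_pow_split {S : Type u} [CommRing S] {q : ℕ} (hq : q ≠ 0) (a : S) :
    (1 + a) ^ q = 1 + a ^ q + ∑ k ∈ Finset.Ico 1 q, (q.choose k : S) * a ^ k := by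
  rw [add_comm 1 a, add_pow]
  simp only [one_pow, mul_one]
  rw [Finset.sum_range_succ, Finset.range_eq_Ico,
    Finset.sum_eq_sum_Ico_succ_bot (Nat.pos_of_ne_zero hq)]
  simp only [Nat.choose_self, Nat.choose_zero_right, Nat.cast_one, pow_zero, mul_one, zero_add]
  simp only [mul_comm]
  ring

theorem one_add_pow_mod {R S : Type u} [CommRing R] [CommRing S] [Algebra R S] {p : ℕ}
    (hp : p.Prime) (n j : ℕ) (ϖ : R) (hj : ϖ ^ (p ^ (n - 1) * (p - 1) * (j + 1)) ∣ (p : R)) (a : S) :
    (∃ d : ℕ → R, (1 + algebraMap R S ϖ ^ j * a) ^ (p ^ n) = 1 + algebraMap R S ϖ ^ (j * p ^ n) * a ^ (p ^ n) +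
      algebraMap R S ϖ ^ (j * p ^ n + 1) * ∑ k ∈ Finset.Ico 1 (p ^ n), algebraMap R S (d k) * a ^ k) ∧
    (∃ d : ℕ → R, (1 + algebraMap R S ϖ ^ (j + 1) * a) ^ (p ^ n) = 1 + algebraMap R S ϖ ^ ((j + 1) * p ^ n) *
      (a ^ (p ^ n) + ∑ k ∈ Finset.Ico 1 (p ^ n), algebraMap R S (d k) * a ^ k)) := by
  have hq : p ^ n ≠ 0 := pow_ne_zero _ hp.ne_zero
  have hh : ∀ k ∈ Finset.Ico 1 (p ^ n), (ϖ ^ (j * p ^ n + 1) ∣ ((p ^ n).choose k : R) * ϖ ^ (j * k)) ∧
      (ϖ ^ ((j + 1) * p ^ n) ∣ ((p ^ n).choose k : R) * ϖ ^ ((j + 1) * k)) := fun k hk =>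
    exists_binom hp n j ϖ hj k (by have := (Finset.mem_Ico.mp hk).1; omega) (Finset.mem_Ico.mp hk).2
  classical
  constructor
  · choose d hd using fun k hk => (hh k hk).1
    refine ⟨fun k => if hk : k ∈ Finset.Ico 1 (p ^ n) then d k hk else 0, ?_⟩
    rw [one_add_pow_split hq, mul_pow, ← pow_mul, Finset.mul_sum]
    congr 1
    refine Finset.sum_congr rfl fun k hk => ?_
    have h := congrArg (algebraMap R S) (hd k hk)
    simp only [map_mul, map_pow, map_natCast] at h
    simp only [dif_pos hk]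
    rw [mul_pow, ← pow_mul, ← mul_assoc, h]
    ring
  · choose d hd using fun k hk => (hh k hk).2
    refine ⟨fun k => if hk : k ∈ Finset.Ico 1 (p ^ n) then d k hk else 0, ?_⟩
    rw [one_add_pow_split hq, mul_pow, ← pow_mul, mul_add, Finset.mul_sum, add_assoc]
    congr 2
    refine Finset.sum_congr rfl fun k hk => ?_
    have h := congrArg (algebraMap R S) (hd k hk)
    simp only [map_mul, map_pow, map_natCast] at h
    simp only [dif_pos hk]
    rw [mul_pow, ← pow_mul, ← mul_assoc, h]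
    ring


/-- Let R be a discrete valuation ring of characteristic zero and residue characteristic p, with
uniformizer π and a primitive p^n-th root of unity ζ (n ≥ 1), and A a Noetherian integrally closed
domain which is a faithfully flat R-algebra, in which πA is a prime ideal and every element that is
a unit modulo π is a unit (as when A is π-adically complete, or local). Let f, g be units of A, j a
natural number with π^{p^{n−1}(p−1)(j+1)} dividing p (that is, j is less than the valuation of ζ −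
1, so that the polynomials ((1 + π^{j}T)^{p^n} − 1)/π^{jp^n} and ((1 + π^{j+1}T)^{p^n} −
1)/π^{(j+1)p^n} have coefficients in R), and f₀ ∈ A with f·g^{p^n} = 1 + π^{j p^n}·f₀; suppose j is
maximal with this property: there is no unit g' of A with f·g'^{p^n} ≡ 1 modulo π^{(j+1)p^n}.
Suppose moreover that the algebra L = A[1/π][Z]/(Z^{p^n} − f) is an integral domain (the
μ_{p^n}-torsor Z^{p^n} = f is connected on the generic fibre) and that, B denoting the integral
closure of A in L (the normalization of Spec A in that cover), the ideal πB is radical (the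
normalization has reduced special fibre). Then f₀ is not congruent modulo πA to a p^n-th power. (The
published statement phrases the hypothesis on j as: the class of the torsor Z^{p^n} = f lies in
H¹(Spec A, G_{π^j,n}) and not in H¹(Spec A, G_{π^{j+1},n}); the conditions on g and g' are its
ring-theoretic form, which is the first assertion of the same lemma; A is there factorial and
π-adically complete, or normal local, which this row keeps only through the consequences used:
integrally closed, and units lift modulo π.) -/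
theorem result
    (R : Type u) [CommRing R] [IsDomain R] [IsDiscreteValuationRing R] [CharZero R]
    (p : ℕ) [Fact p.Prime] [CharP (IsLocalRing.ResidueField R) p] (ϖ : R) (hϖ : Irreducible ϖ)
    (n : ℕ) (hn : 0 < n) (ζ : R) (hζ : IsPrimitiveRoot ζ (p ^ n))
    (A : Type u) [CommRing A] [IsDomain A] [IsNoetherianRing A] [IsIntegrallyClosed A] [Algebra R A]
    [Module.FaithfullyFlat R A]
    (hprime : (Ideal.span {algebraMap R A ϖ}).IsPrime)
    (hlift : ∀ a : A, IsUnit (Ideal.Quotient.mk (Ideal.span {algebraMap R A ϖ}) a) → IsUnit a)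
    (f g : Aˣ) (j : ℕ) (hj : ϖ ^ (p ^ (n - 1) * (p - 1) * (j + 1)) ∣ (p : R)) (f₀ : A)
    (hfg : (f : A) * (g : A) ^ (p ^ n) = 1 + (algebraMap R A ϖ) ^ (j * p ^ n) * f₀)
    (hmax : ∀ (g' : Aˣ) (c : A), (f : A) * (g' : A) ^ (p ^ n) ≠ 1 + (algebraMap R A ϖ) ^ ((j + 1) * p ^ n) * c)
    [IsDomain (AdjoinRoot (Polynomial.X ^ (p ^ n) - Polynomial.C (algebraMap A (Localization.Away (algebraMap R A ϖ)) (f : A))))]
    (hred : (Ideal.span {algebraMap A (integralClosure A (AdjoinRoot (Polynomial.X ^ (p ^ n) - Polynomial.C (algebraMap A (Localization.Away (algebraMap R A ϖ)) (f : A))))) (algebraMap R A ϖ)}).IsRadical)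
    (g₀ : A) : f₀ - g₀ ^ (p ^ n) ∉ Ideal.span {(algebraMap R A ϖ)} := by
  intro hmem
  have hp : p.Prime := Fact.out
  have hq : p ^ n ≠ 0 := pow_ne_zero _ hp.ne_zero
  set π := algebraMap R A ϖ with hπ
  obtain ⟨t, ht⟩ := Ideal.mem_span_singleton'.mp hmem
  obtain ⟨d, hd⟩ := (one_add_pow_mod (S := A) hp n j ϖ hj g₀).1
  set c : A := ∑ k ∈ Finset.Ico 1 (p ^ n), algebraMap R A (d k) * g₀ ^ k
  have heq : (f : A) * (g : A) ^ (p ^ n) = (1 + π ^ j * g₀) ^ (p ^ n) + π ^ (j * p ^ n + 1) * (t - c) := by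
    rw [hd, hfg, pow_succ π (j * p ^ n)]
    linear_combination π ^ (j * p ^ n) * ht.symm
  have hu : IsUnit (1 + π ^ j * g₀) := by
    apply hlift
    have h1 : IsUnit (Ideal.Quotient.mk (Ideal.span {π}) ((f : A) * (g : A) ^ (p ^ n))) :=
      ((f.isUnit).mul (g.isUnit.pow _)).map _
    rw [heq, map_add, map_pow, map_mul _ (π ^ (j * p ^ n + 1)),
      Ideal.Quotient.eq_zero_iff_mem.mpr (Ideal.mem_span_singleton.mpr (dvd_pow_self π (Nat.succ_ne_zero _))),
      zero_mul, add_zero] at h1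
    exact (isUnit_pow_iff hq).mp h1
  obtain ⟨h, hh⟩ := hu
  let g₁ : Aˣ := g * h⁻¹
  obtain ⟨c₁, hc₁⟩ : ∃ c₁ : A, (f : A) * (g₁ : A) ^ (p ^ n) = 1 + π ^ (j * p ^ n + 1) * c₁ := by
    refine ⟨(t - c) * ((h⁻¹ : Aˣ) : A) ^ (p ^ n), ?_⟩
    rw [Units.val_mul, mul_pow, ← mul_assoc, heq, ← hh, add_mul, ← mul_pow, Units.mul_inv, one_pow,
      mul_assoc]
  set Aπ := Localization.Away π
  set P := Polynomial.X ^ (p ^ n) - Polynomial.C (algebraMap A Aπ (f : A)) with hP
  set L := AdjoinRoot P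
  have hπu : IsUnit (algebraMap A L π) := by
    rw [IsScalarTower.algebraMap_apply A Aπ L]
    exact (IsLocalization.Away.algebraMap_isUnit π).map _
  have hπL : algebraMap A L π = algebraMap R L ϖ := (IsScalarTower.algebraMap_apply R A L ϖ).symm
  obtain ⟨v, hv⟩ := hπu
  set Z : L := AdjoinRoot.root P * algebraMap A L (g₁ : A) with hZ
  have hZq : Z ^ (p ^ n) = 1 + algebraMap A L π ^ (j * p ^ n + 1) * algebraMap A L c₁ := by
    have hr : AdjoinRoot.root P ^ (p ^ n) = algebraMap A L (f : A) := by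
      have h0 := AdjoinRoot.eval₂_root P
      simp only [hP, Polynomial.eval₂_sub, Polynomial.eval₂_X_pow, Polynomial.eval₂_C, sub_eq_zero] at h0
      rw [h0, IsScalarTower.algebraMap_apply A Aπ L, AdjoinRoot.algebraMap_eq]
    rw [hZ, mul_pow, hr, ← map_pow, ← map_mul, hc₁, map_add, map_one, map_mul, map_pow]
  set w : L := (Z - 1) * ((v⁻¹ : Lˣ) : L) ^ j with hw
  have hvv : algebraMap A L π ^ j * ((v⁻¹ : Lˣ) : L) ^ j = 1 := by
    rw [← mul_pow, ← hv, Units.mul_inv, one_pow]
  have hZw : Z = 1 + algebraMap A L π ^ j * w := by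
    rw [hw, mul_left_comm, hvv]; ring
  obtain ⟨e, he⟩ := (one_add_pow_mod (S := L) hp n j ϖ hj w).1
  rw [← hπL, ← hZw, hZq] at he
  have hwq : w ^ (p ^ n) = algebraMap A L π * (algebraMap A L c₁ -
      ∑ k ∈ Finset.Ico 1 (p ^ n), algebraMap R L (e k) * w ^ k) := by
    refine ((v.isUnit.pow (j * p ^ n)).mul_right_inj).mp ?_
    rw [hv, pow_succ] at *
    linear_combination -he
  have hwint : IsIntegral A w := by
    let Q : Polynomial A := Polynomial.C π * (Polynomial.C c₁ -
      ∑ k ∈ Finset.Ico 1 (p ^ n), Polynomial.C (algebraMap R A (e k)) * Polynomial.X ^ k)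
    refine ⟨Polynomial.X ^ (p ^ n) - Q, Polynomial.monic_X_pow_sub ?_, ?_⟩
    · refine lt_of_le_of_lt ((Polynomial.degree_mul_le _ _).trans (add_le_add Polynomial.degree_C_le le_rfl)) ?_
      rw [zero_add]
      refine lt_of_le_of_lt (Polynomial.degree_sub_le _ _) (max_lt ?_ ?_)
      · exact lt_of_le_of_lt Polynomial.degree_C_le (by exact_mod_cast Nat.pos_of_ne_zero hq)
      · refine lt_of_le_of_lt (Polynomial.degree_sum_le _ _) ((Finset.sup_lt_iff ?_).mpr fun k hk => ?_)
        · exact WithBot.bot_lt_coe _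
        · exact lt_of_le_of_lt (Polynomial.degree_C_mul_X_pow_le _ _)
            (by exact_mod_cast (Finset.mem_Ico.mp hk).2)
    · show Polynomial.eval₂ (algebraMap A L) w _ = 0
      simp only [Q, Polynomial.eval₂_sub, Polynomial.eval₂_mul, Polynomial.eval₂_C,
        Polynomial.eval₂_finsetSum, Polynomial.eval₂_X_pow]
      rw [hwq, sub_eq_zero]
      simp only [← IsScalarTower.algebraMap_apply]
  set B := integralClosure A L
  let wB : B := ⟨w, hwint⟩
  have hwmem : wB ∈ Ideal.span {algebraMap A B π} := by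
    refine hred ⟨p ^ n, Ideal.mem_span_singleton'.mpr ⟨algebraMap A B c₁ -
      ∑ k ∈ Finset.Ico 1 (p ^ n), algebraMap A B (algebraMap R A (e k)) * wB ^ k, ?_⟩⟩
    apply Subtype.ext
    push_cast
    rw [mul_comm, show (wB : L) = w from rfl, hwq]
    simp only [← IsScalarTower.algebraMap_apply]
    rfl
  obtain ⟨uB, huB⟩ := Ideal.mem_span_singleton'.mp hwmem
  have hwu : w = (uB : L) * algebraMap A L π := (congrArg Subtype.val huB).symm
  obtain ⟨e', he'⟩ := (one_add_pow_mod (S := L) hp n j ϖ hj (uB : L)).2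
  set y : L := (uB : L) ^ (p ^ n) + ∑ k ∈ Finset.Ico 1 (p ^ n), algebraMap R L (e' k) * (uB : L) ^ k
  have hyint : IsIntegral A y := by
    refine IsIntegral.add (uB.2.pow _) (IsIntegral.sum _ fun k _ => IsIntegral.mul ?_ (uB.2.pow _))
    rw [IsScalarTower.algebraMap_apply R A L]
    exact isIntegral_algebraMap
  rw [← hπL, show (1 : L) + algebraMap A L π ^ (j + 1) * (uB : L) = Z by rw [hZw, hwu]; ring, hZq] at he'
  obtain ⟨m, hm⟩ : ∃ m, p ^ n = m + 1 := ⟨p ^ n - 1, by omega⟩
  have hy : algebraMap A L c₁ = algebraMap A L π ^ m * y := by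
    refine ((v.isUnit.pow (j * p ^ n + 1)).mul_right_inj).mp ?_
    rw [show (j + 1) * p ^ n = j * p ^ n + 1 + m by rw [Nat.succ_mul]; omega, pow_add] at he'
    rw [hv]
    linear_combination he'
  -- descend to `A`
  have hinj : Function.Injective (algebraMap Aπ L) := by
    rw [AdjoinRoot.algebraMap_eq]
    have : IsDomain Aπ := IsLocalization.isDomain_localization
      (powers_le_nonZeroDivisors_of_noZeroDivisors fun hπ0 => hprime.ne_top <| by
        exfalso
        have : Function.Injective (algebraMap R A) := FaithfulSMul.algebraMap_injective R A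
        exact hϖ.ne_zero (this (by rw [map_zero]; exact hπ0)))
    exact AdjoinRoot.of.injective_of_degree_ne_zero (by
      rw [hP, Polynomial.degree_X_pow_sub_C (Nat.pos_of_ne_zero hq)]; exact_mod_cast hq)
  have hπ0 : π ≠ 0 := fun h0 => hϖ.ne_zero (FaithfulSMul.algebraMap_injective R A (by rw [map_zero]; exact h0))
  obtain ⟨z, hz⟩ : ∃ z : Aπ, algebraMap A Aπ π ^ m * z = algebraMap A Aπ c₁ := by
    obtain ⟨i, hi⟩ := IsLocalization.Away.algebraMap_isUnit (S := Aπ) π
    exact ⟨((i⁻¹ : Aπˣ) : Aπ) ^ m * algebraMap A Aπ c₁, by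
      rw [← mul_assoc, ← mul_pow, ← hi, Units.mul_inv, one_pow, one_mul]⟩
  have hzint : IsIntegral A z := by
    refine (isIntegral_algHom_iff (IsScalarTower.toAlgHom A Aπ L) hinj).mp ?_
    have : IsScalarTower.toAlgHom A Aπ L z = y := by
      refine ((v.isUnit.pow m).mul_right_inj).mp ?_
      rw [hv, ← hy, IsScalarTower.toAlgHom_apply, IsScalarTower.algebraMap_apply A Aπ L π, ← map_pow,
        ← map_mul, hz, ← IsScalarTower.algebraMap_apply]
    rwa [this]
  let K := FractionRing A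
  let κ : Aπ →ₐ[A] K := IsLocalization.liftAlgHom (M := Submonoid.powers π) (f := Algebra.ofId A K)
    fun s => by
      obtain ⟨_, i, rfl⟩ := s
      exact (isUnit_iff_ne_zero.mpr <| (map_ne_zero_iff _ (IsFractionRing.injective A K)).mpr (pow_ne_zero _ hπ0))
  obtain ⟨a, ha⟩ := (IsIntegrallyClosed.isIntegral_iff (R := A) (K := K)).mp (hzint.map κ)
  have hca : π ^ m * a = c₁ := by
    apply IsFractionRing.injective A K
    have h := congrArg κ hz
    rw [map_mul, map_pow, AlgHom.commutes, AlgHom.commutes, ← ha] at h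
    rw [map_mul, map_pow]
    exact h
  refine hmax g₁ a ?_
  rw [hc₁, ← hca, show (j + 1) * p ^ n = j * p ^ n + 1 + m by rw [Nat.succ_mul]; omega, pow_add π (j * p ^ n + 1)]
  ring

end Groth.Agent.S14692
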