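import Groth.Statements.S14695
import Groth.Agent.NonAbLib.IsomNormal
-- import your own Groth.Agent.* helpers here

set_option autoImplicit false
universe u
open CategoryTheory AlgebraicGeometry
open NonAbH1

namespace Groth.Agent.S14695

/-- In the case where the morphism Y → X is the identity of X: let X be a normal integral scheme
(integral, with every local ring an integrally closed domain), G and G' X-group schemes which are
finite and flat over X, and g : G → G' a homomorphism which becomes an isomorphism after base change
to the spectrum of the function field of X. If an fppf G-torsor P over X becomes trivial after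
extension of the structure group along g — there is an fppf G'-torsor P' over X with a g-equivariant
X-morphism P → P', and P' has a section over X — then P has a section over X. (The published
statement takes G, G' commutative and all schemes Noetherian, allows also composition with the
pull-back along a morphism Y → X admitting a rational section, and is phrased as injectivity of
H¹(X, G) → H¹(Y, G'_Y); this row is the case where Y → X is the identity of X, as the trivial-kernel
assertion the argument establishes, for which commutativity and the Noetherian condition are not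
needed.) -/
theorem result {X : Scheme.{u}} [IsIntegral X]
    (hX : Pi1.IsNormalScheme X) (G G' : Over X) [GrpObj G] [GrpObj G']
    [IsFinite G.hom] [Flat G.hom] [IsFinite G'.hom] [Flat G'.hom]
    (g : G ⟶ G') [IsMonHom g]
    (hg : IsIso ((Over.pullback (X.fromSpecStalk (genericPoint X))).map g))
    (P : Over X) (a : AlgGrp.Action G P) (hP : NonAbH1.IsTorsorFor Scheme.fppfPrecoverage a)
    (P' : Over X) (a' : AlgGrp.Action G' P') (hP' : NonAbH1.IsTorsorFor Scheme.fppfPrecoverage a')
    (hpush : NonAbH1.IsPushforwardAlongSch g a a') (htriv : NonAbH1.HasSectionOver P' (𝟙 X)) :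
    NonAbH1.HasSectionOver P (𝟙 X) := by
  open MonoidalCategory CartesianMonoidalCategory Limits GrpSchLib.TopDescent MonObj in
  obtain ⟨hPf, -, -⟩ := NonAbLib.finite_flat_torsor (NonAbLib.torsor_mono NonAbLib.fppf_le_fpqc hP)
  have : IsFinite P.hom := hPf
  let j := X.fromSpecStalk (genericPoint X)
  let T : Over X := Over.mk j
  obtain ⟨f, hf⟩ := hpush
  have hf' : ∀ {Z : Over X} (c : Z ⟶ G) (x : Z ⟶ P),
      (lift c x ≫ a.act) ≫ f = lift (c ≫ g) (x ≫ f) ≫ a'.act := fun c x => by
    rw [Category.assoc, hf, comp_lift_assoc, lift_fst_assoc, lift_snd_assoc]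
  obtain ⟨s, hs⟩ := htriv
  let y : T ⟶ P' := Over.homMk (j ≫ s) (by rw [Category.assoc, hs, Category.comp_id]; rfl)
  -- points over the generic point lift along the homomorphism
  let gη : pullback G.hom j ⟶ pullback G'.hom j := ((Over.pullback j).map g).left
  have : IsIso gη := (Over.forget _).map_isIso ((Over.pullback j).map g)
  have hgη : gη ≫ pullback.fst G'.hom j = pullback.fst G.hom j ≫ g.left := ActBC.pullback_map_left_fst j g
  have hgη' : gη ≫ pullback.snd G'.hom j = pullback.snd G.hom j := Over.w ((Over.pullback j).map g)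
  have hex : ∀ {Z : Over X} (t : Z ⟶ T) (d : Z ⟶ G'), ∃ c : Z ⟶ G, c ≫ g = d := fun {Z} t d => by
    let k : Z.left ⟶ pullback G'.hom j := pullback.lift d.left t.left ((Over.w d).trans (Over.w t).symm)
    have hk : inv gη ≫ pullback.fst G.hom j ≫ g.left = pullback.fst G'.hom j := by
      rw [← hgη, IsIso.inv_hom_id_assoc]
    have hk' : inv gη ≫ pullback.snd G.hom j = pullback.snd G'.hom j := by
      rw [← hgη', IsIso.inv_hom_id_assoc]
    refine ⟨Over.homMk (k ≫ inv gη ≫ pullback.fst G.hom j) ?_, Over.OverMorphism.ext ?_⟩
    · simp only [Category.assoc, pullback.condition]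
      rw [reassoc_of% hk']
      exact (pullback.lift_snd_assoc _ _ _ _).trans (Over.w t)
    · show (k ≫ inv gη ≫ pullback.fst G.hom j) ≫ g.left = d.left
      rw [Category.assoc, Category.assoc, hk]
      exact pullback.lift_fst _ _ _
  have hinj : ∀ {Z : Over X} (_ : Z ⟶ T) (c c' : Z ⟶ G), c ≫ g = c' ≫ g → c = c' := fun {Z} t c c' h => by
    have e : (pullback.lift c.left t.left ((Over.w c).trans (Over.w t).symm) : Z.left ⟶ pullback G.hom j) =
        (pullback.lift c'.left t.left ((Over.w c').trans (Over.w t).symm) : Z.left ⟶ pullback G.hom j) := by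
      rw [← cancel_mono gη]
      refine pullback.hom_ext ?_ ?_
      · simp only [Category.assoc, hgη, pullback.lift_fst_assoc]
        exact congrArg CommaMorphism.left h
      · simp only [Category.assoc, hgη', pullback.lift_snd]
    refine Over.OverMorphism.ext ?_
    have := congrArg (· ≫ pullback.fst G.hom j) e
    simpa only [pullback.lift_fst] using this
  -- the point of P over the generic point
  let d := NonAbLib.tdiv hP'.1 (fst T P ≫ y) (snd T P ≫ f)
  obtain ⟨c, hc⟩ := hex (fst T P) d
  let z : T ⊗ P ⟶ P := lift c (snd T P) ≫ a.act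
  have hz : z ≫ f = fst T P ≫ y := by rw [hf', hc, NonAbLib.tdiv_act]
  have hloc : HasLocSec Scheme.fpqcTopology (T ◁ toUnit P) :=
    (SchTorsor.hasLocSec_toUnit (NonAbLib.locTriv_mono NonAbLib.fppf_le_fpqc hP.2)).whiskerLeft T
  obtain ⟨χ, -, -⟩ := hloc.existsUnique_desc z fun Z u v huv => by
    have h1 : u ≫ fst T P = v ≫ fst T P := by simpa using congrArg (· ≫ fst T (𝟙_ _)) huv
    obtain ⟨k, hk⟩ := SchTorsor.exists_div hP.1 (u ≫ z) (v ≫ z)
    have h2 : lift (k ≫ g) (v ≫ z ≫ f) ≫ a'.act = v ≫ z ≫ f := by
      rw [← Category.assoc v z f, ← hf', hk, Category.assoc, hz, reassoc_of% h1, Category.assoc, hz]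
    have h3 : k ≫ g = 1 := SchTorsor.act_free hP'.1 (h2.trans (SchTorsor.one_act_pt a' _).symm)
    have h4 : k = 1 := hinj (u ≫ fst T P) _ _ (by rw [h3, MonObj.one_comp])
    rw [← hk, h4, SchTorsor.one_act_pt]
  obtain ⟨σ, hσ, -⟩ := SchTorsor.exists_section_of_normal hX P.hom ((ρ_ T).inv ≫ χ).left (Over.w ((ρ_ T).inv ≫ χ))
  exact ⟨σ, hσ⟩

end Groth.Agent.S14695
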