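import Groth.Statements.S14698
import Groth.Agent.Triage.ZMTBirPt
import Groth.Agent.SurfInt.AffineBoundary
import Groth.Agent.SurfInt.Curve

set_option autoImplicit false
set_option backward.isDefEq.respectTransparency false
set_option backward.isDefEq.respectTransparency.types false
set_option linter.style.haveILetI false
attribute [-instance] CategoryTheory.catToReflQuiver
universe u
open CategoryTheory CategoryTheory.Limits AlgebraicGeometry
open Resolve

namespace Groth.Agent.S14698

open Groth.Agent TopologicalSpace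

theorem isIso_stalkMap_of_restrict {X Y : Scheme.{u}} (f : X ⟶ Y) (U : Y.Opens) (h : IsIso (f ∣_ U)) {x : X}
    (hx : f x ∈ U) : IsIso (f.stalkMap x) :=
  ((MorphismProperty.isomorphisms CommRingCat).arrow_mk_iso_iff (morphismRestrictStalkMap f U ⟨x, hx⟩)).1
    (by haveI := h; exact (inferInstance : IsIso ((f ∣_ U).stalkMap ⟨x, hx⟩)))

/-- Birational morphisms to normal schemes are isomorphisms on stalks at quasi-finite points. -/
theorem isIso_stalkMap_qf {X Y : Scheme.{u}} [IsIntegral X] [IsIntegral Y] (f : X ⟶ Y) [LocallyOfFiniteType f]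
    [IsSeparated f] [QuasiCompact f] (hgen : f (genericPoint X) = genericPoint Y)
    (hbir : IsIso (f.stalkMap (genericPoint X))) (x : X) (hx : f.QuasiFiniteAt x)
    (hy : IsIntegrallyClosed (Y.presheaf.stalk (f x))) : IsIso (f.stalkMap x) := by
  obtain ⟨V, hV, hxV⟩ : ∃ V : Y.Opens, IsAffineOpen V ∧ f x ∈ V := by
    obtain ⟨_, ⟨V, hV, rfl⟩, hxV, -⟩ := Y.isBasis_affineOpens.exists_subset_of_mem_open
      (Set.mem_univ (f x)) isOpen_univ
    exact ⟨V, hV, hxV⟩
  haveI : IsAffine (V : Scheme.{u}) := hV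
  haveI : Nonempty (f ⁻¹ᵁ V : Scheme.{u}) := ⟨⟨x, hxV⟩⟩
  haveI : Nonempty (V : Scheme.{u}) := ⟨⟨f x, hxV⟩⟩
  haveI : IsIntegral (f ⁻¹ᵁ V : Scheme.{u}) := isIntegral_of_isOpenImmersion (f ⁻¹ᵁ V).ι
  haveI : IsIntegral (V : Scheme.{u}) := isIntegral_of_isOpenImmersion V.ι
  have hgX : (f ⁻¹ᵁ V).ι (genericPoint (f ⁻¹ᵁ V : Scheme.{u})) = genericPoint X :=
    genericPoint_eq_of_isOpenImmersion _
  have hgY : V.ι (genericPoint (V : Scheme.{u})) = genericPoint Y := genericPoint_eq_of_isOpenImmersion _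
  have hgen' : (f ∣_ V) (genericPoint (f ⁻¹ᵁ V : Scheme.{u})) = genericPoint (V : Scheme.{u}) :=
    V.ι.isOpenEmbedding.injective (by
      rw [hgY, ← Scheme.Hom.comp_apply, morphismRestrict_ι, Scheme.Hom.comp_apply, hgX, hgen])
  have hbir' : IsIso ((f ∣_ V).stalkMap (genericPoint (f ⁻¹ᵁ V : Scheme.{u}))) :=
    ((MorphismProperty.isomorphisms CommRingCat).arrow_mk_iso_iff (morphismRestrictStalkMap f V _)).2 (by
      show IsIso (f.stalkMap ((f ⁻¹ᵁ V).ι (genericPoint (f ⁻¹ᵁ V : Scheme.{u}))))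
      rw [hgX]; exact hbir)
  have hqf : (f ∣_ V).QuasiFiniteAt ⟨x, hxV⟩ := by
    have h : f.QuasiFiniteAt ((f ⁻¹ᵁ V).ι ⟨x, hxV⟩) := hx
    rw [← Scheme.Hom.quasiFiniteAt_comp_iff_of_isOpenImmersion, ← morphismRestrict_ι,
      Scheme.Hom.quasiFiniteAt_comp_iff] at h
    exact h
  have hy' : IsIntegrallyClosed ((V : Scheme.{u}).presheaf.stalk ((f ∣_ V) ⟨x, hxV⟩)) := by
    have he : V.ι ((f ∣_ V) ⟨x, hxV⟩) = f x := by
      rw [← Scheme.Hom.comp_apply, morphismRestrict_ι]; rfl
    have h2 : IsIntegrallyClosed (Y.presheaf.stalk (V.ι ((f ∣_ V) ⟨x, hxV⟩))) := by rw [he]; exact hy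
    exact .of_equiv (asIso (V.ι.stalkMap ((f ∣_ V) ⟨x, hxV⟩))).commRingCatIsoToRingEquiv
  exact ((MorphismProperty.isomorphisms CommRingCat).arrow_mk_iso_iff (morphismRestrictStalkMap f V ⟨x, hxV⟩)).1
    (Triage.ZMTBirPt.isIso_stalkMap (f ∣_ V) hgen' hbir' ⟨x, hxV⟩ hqf hy')

/-- Let k be an algebraically closed field and X an integral normal scheme of dimension two admitting a
closed immersion into some P^n_k over k. Let φ : Y → X be a k-morphism from an integral scheme Y of
dimension two with all local rings regular, itself admitting a closed immersion into some P^m_k over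
k, which restricts to an isomorphism over an open subset U of X with finite complement. Then for
every point x of X at which the local ring is not regular, the fibre φ⁻¹(x) (with the topology
induced from Y) is nonempty and every irreducible component of it has dimension one: such a
desingularization is a monoidal model. (The published statement takes φ an isomorphism exactly over
the complement of the singular points; this row allows any open U with finite complement over which
φ is an isomorphism.) -/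
theorem result (k : Type u) [Field k] [IsAlgClosed k] (X : Scheme.{u}) [X.Over (Spec (CommRingCat.of k))]
    [IsIntegral X] (hdim : topologicalKrullDim X = 2)
    (hproj : ∃ (n : ℕ) (ι : X ⟶ CohB1.ProjSpace n k), IsClosedImmersion ι ∧ ι ≫ CohB1.ProjSpace.toSpec n k = (X ↘ (Spec (CommRingCat.of k))))
    (hnorm : Pi1.IsNormalScheme X) (U : X.Opens) (hU : ((U : Set X)ᶜ).Finite)
    (Y : Scheme.{u}) (φ : Y ⟶ X) [IsIntegral Y] (hdimY : topologicalKrullDim Y = 2)
    (hregY : ∀ y : Y, IsRegularLocalRing (Y.presheaf.stalk y))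
    (hprojY : ∃ (n : ℕ) (ι : Y ⟶ CohB1.ProjSpace n k), IsClosedImmersion ι ∧ ι ≫ CohB1.ProjSpace.toSpec n k = φ ≫ (X ↘ (Spec (CommRingCat.of k))))
    (hisoY : IsIso (φ ∣_ U))
    (x : X) (hx : ¬ IsRegularLocalRing (X.presheaf.stalk x)) :
    (φ.base ⁻¹' ({x} : Set X)).Nonempty ∧
      ∀ Z ∈ irreducibleComponents ↥(φ.base ⁻¹' ({x} : Set X)), topologicalKrullDim ↥Z = 1 := by
  set f := X ↘ Spec (CommRingCat.of k)
  obtain ⟨m, ι, hι, hιe⟩ := hproj
  obtain ⟨m', ι', hι', hι'e⟩ := hprojY
  haveI : IsProper f := SurfInt.isProper_of_projective k hι hιe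
  letI : Y.Over (Spec (CommRingCat.of k)) := ⟨φ ≫ f⟩
  haveI : IsProper (φ ≫ f) := SurfInt.isProper_of_projective (X := Y) k hι' hι'e
  haveI : IsProper φ := IsProper.of_comp φ f
  haveI : IsLocallyNoetherian X := LocallyOfFiniteType.isLocallyNoetherian f
  haveI : IsLocallyNoetherian Y := LocallyOfFiniteType.isLocallyNoetherian (φ ≫ f)
  haveI : CompactSpace Y := QuasiCompact.compactSpace_of_compactSpace (φ ≫ f)
  haveI : IsNoetherian Y := {}
  haveI : JacobsonSpace X := LocallyOfFiniteType.jacobsonSpace f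
  haveI := hisoY
  have hxU : x ∉ U := fun h => hx (by
    obtain ⟨z, hz⟩ := (Scheme.homeoOfIso (asIso (φ ∣_ U))).surjective ⟨x, h⟩
    have he : φ z.1 = x := (morphismRestrict_base_coe φ U z).symm.trans (congrArg Subtype.val hz)
    haveI := isIso_stalkMap_of_restrict φ U hisoY (x := z.1) z.2
    haveI := hregY z.1
    rw [← he]
    exact IsRegularLocalRing.of_ringEquiv (asIso (φ.stalkMap z.1)).symm.commRingCatIsoToRingEquiv)
  have hcl : IsClosed ({x} : Set X) := by
    haveI : Finite ↥((U : Set X)ᶜ) := hU.to_subtype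
    haveI : JacobsonSpace ↥((U : Set X)ᶜ) :=
      JacobsonSpace.of_isClosedEmbedding U.2.isClosed_compl.isClosedEmbedding_subtypeVal
    have h := U.2.isClosed_compl.isClosedEmbedding_subtypeVal.isClosedMap {⟨x, hxU⟩}
      (isClosed_discrete _)
    simpa using h
  have hUne : (U : Set X).Nonempty := by
    by_contra h
    rw [Set.not_nonempty_iff_eq_empty] at h
    rw [h, Set.compl_empty, Set.finite_univ_iff] at hU
    haveI : Finite X := hU
    obtain ⟨x0⟩ := (inferInstance : Nonempty X)
    haveI : Subsingleton X := ⟨fun a b => by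
      obtain ⟨z, ha, hb⟩ := nonempty_preirreducible_inter (isOpen_discrete {a}) (isOpen_discrete {b})
        ⟨a, rfl⟩ ⟨b, rfl⟩
      exact ha.symm.trans hb⟩
    have h0 := SurfInt.dim_singleton_le_zero x0
    rw [(Subsingleton.eq_univ_of_nonempty ⟨x0, rfl⟩ : ({x0} : Set X) = Set.univ),
      (Homeomorph.Set.univ X).isHomeomorph.topologicalKrullDim_eq] at h0
    exact absurd (hdim.symm.trans_le h0) (by decide)
  haveI : Nonempty (φ ⁻¹ᵁ U : Scheme.{u}) := by
    obtain ⟨z, -⟩ := (Scheme.homeoOfIso (asIso (φ ∣_ U))).surjective ⟨_, hUne.some_mem⟩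
    exact ⟨z⟩
  have hgU : genericPoint Y ∈ φ ⁻¹ᵁ U :=
    ((genericPoint_spec (Y : Type u)).mem_open_set_iff (φ ⁻¹ᵁ U).2).2
      (let ⟨z⟩ := (inferInstance : Nonempty (φ ⁻¹ᵁ U : Scheme.{u})); ⟨z.1, Set.mem_univ _, z.2⟩)
  have hbir := isIso_stalkMap_of_restrict φ U hisoY (x := genericPoint Y) hgU
  have hrange : Set.range φ = Set.univ := by
    have h1 : (U : Set X) ⊆ Set.range φ := fun y hy => by
      obtain ⟨z, hz⟩ := (Scheme.homeoOfIso (asIso (φ ∣_ U))).surjective ⟨y, hy⟩
      exact ⟨z.1, (morphismRestrict_base_coe φ U z).symm.trans (congrArg Subtype.val hz)⟩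
    have h2 := (U.2.dense hUne).mono h1
    rw [← φ.isClosedMap.isClosed_range.closure_eq, h2.closure_eq]
  have hgen : φ (genericPoint Y) = genericPoint X := by
    have h := (genericPoint_spec (Y : Type u)).image φ.continuous
    rw [Set.image_univ, hrange, closure_univ] at h
    exact h.eq (genericPoint_spec (X : Type u))
  have hFcl : IsClosed (φ ⁻¹' ({x} : Set X)) := hcl.preimage φ.continuous
  refine ⟨Set.nonempty_iff_ne_empty.2 fun h => ?_, fun Z hZ => ?_⟩
  · obtain ⟨y, hy⟩ := hrange.ge (Set.mem_univ x)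
    exact Set.eq_empty_iff_forall_notMem.1 h y hy
  have hZcl : IsClosed Z := isClosed_of_mem_irreducibleComponents Z hZ
  let e := hFcl.isClosedEmbedding_subtypeVal
  set T : Set Y := Subtype.val '' Z
  have hT : IsClosed T := e.isClosedMap Z hZcl
  have hTi : IsIrreducible T := hZ.1.image _ continuous_subtype_val.continuousOn
  rw [(e.isEmbedding.homeomorphImage Z).isHomeomorph.topologicalKrullDim_eq]
  obtain ⟨η, hη⟩ := QuasiSober.sober hTi hT
  have hηT : η ∈ T := hη.mem
  have hTη : closure ({η} : Set Y) = T := hη.def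
  have hnot : ∀ y ∈ T, φ y = x := fun y ⟨w, _, hw⟩ => hw ▸ w.2
  refine le_antisymm ?_ ?_
  · show topologicalKrullDim ↥T ≤ 1
    rw [← hTη]
    refine SurfInt.dim_closure_le_one hdimY fun h => hxU ?_
    rw [← hnot η hηT, h]
    exact hgU
  · by_contra hlt
    have hsing : ∀ y ∈ T, y = η := fun y hy => by
      by_contra hne
      have hT0 : topologicalKrullDim ↥(closure ({η} : Set Y)) ≤ ((0 : ℕ) : WithBot ℕ∞) := by
        rw [hTη]
        exact HilbPoly.le_of_lt_succ (lt_of_not_ge hlt)
      have hy' : η ∉ closure ({y} : Set Y) := fun h => hne ((specializes_iff_mem_closure.2 h).antisymm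
        (specializes_iff_mem_closure.2 (hTη.ge hy))).eq
      have h1 := HilbPoly.dim_lt_closure (n := 0) hT0 isClosed_closure
        (closure_minimal (Set.singleton_subset_iff.2 (hTη.ge hy)) isClosed_closure) hy'
      haveI : Nonempty (IrreducibleCloseds ↥(closure ({y} : Set Y))) :=
        ⟨⟨closure {⟨y, subset_closure rfl⟩}, isIrreducible_singleton.closure, isClosed_closure⟩⟩
      exact absurd (lt_of_le_of_lt Order.krullDim_nonneg h1) (lt_irrefl _)
    have hZs : Z = {⟨η, hnot η hηT⟩} := by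
      refine Set.eq_singleton_iff_unique_mem.2 ⟨?_, fun w hw => Subtype.ext (hsing _ ⟨w, hw, rfl⟩)⟩
      obtain ⟨w, hw, he⟩ := hηT
      exact (show w = ⟨η, hnot η ⟨w, hw, he⟩⟩ from Subtype.ext he) ▸ hw
    haveI : NoetherianSpace ↥(φ ⁻¹' ({x} : Set X)) := inferInstance
    have hopen : IsOpen ({⟨η, hnot η hηT⟩} : Set ↥(φ ⁻¹' ({x} : Set X))) := by
      have hfin := (NoetherianSpace.finite_irreducibleComponents (α := ↥(φ ⁻¹' ({x} : Set X)))).sdiff (t := {Z})
      have hc : IsClosed (⋃₀ (irreducibleComponents ↥(φ ⁻¹' ({x} : Set X)) \ {Z})) :=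
        Set.sUnion_eq_biUnion ▸ hfin.isClosed_biUnion fun W hW => isClosed_of_mem_irreducibleComponents W hW.1
      convert hc.isOpen_compl using 1
      ext w
      refine ⟨?_, fun hw => ?_⟩
      · rintro rfl ⟨W, ⟨hW, hne⟩, hwW⟩
        exact hne (le_antisymm (hZ.2 hW.1 (hZs.le.trans (Set.singleton_subset_iff.2 hwW)))
          (hZs.le.trans (Set.singleton_subset_iff.2 hwW)))
      · by_contra hne
        refine hw ⟨irreducibleComponent w, ⟨irreducibleComponent_mem_irreducibleComponents w, fun h => ?_⟩,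
          mem_irreducibleComponent⟩
        exact hne ((hZs.le (h ▸ mem_irreducibleComponent)))
    have hqf : φ.QuasiFiniteAt η := by
      obtain rfl : x = φ η := (hnot η hηT).symm
      rw [Scheme.Hom.quasiFiniteAt_iff_isOpen_singleton_asFiber, ← (φ.fiberHomeo (φ η)).isOpen_image]
      simpa [Scheme.Hom.asFiber] using hopen
    obtain rfl : φ η = x := hnot η hηT
    haveI := isIso_stalkMap_qf φ hgen hbir η hqf (hnorm _).2
    haveI := hregY η
    exact hx (IsRegularLocalRing.of_ringEquiv (asIso (φ.stalkMap η)).symm.commRingCatIsoToRingEquiv)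

end Groth.Agent.S14698
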