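import Groth.Statements.S14702
import Groth.Agent.OmegaTop.Surface
import Groth.Agent.OmegaTop.Main
import Groth.Agent.CIntLib.BirForms
import Groth.Agent.Lib.PnDualQCoh

set_option autoImplicit false
set_option linter.style.haveILetI false
universe u
open CategoryTheory CategoryTheory.Limits AlgebraicGeometry
open ProjDual

namespace Groth.Agent.S14702

/-- Let k be an algebraically closed field and X an integral closed subscheme of P^N_k of dimension two
which is a local complete intersection (every local ring is a complete intersection) with only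
finitely many non-regular points; let U ⊆ X be the open subset of regular points. Let (ω, t) be a
dualizing sheaf for X: ω coherent, t a k-linear form on H^2(X, ω), and for every coherent F and
every k-linear form ψ on H^2(X, F) there is exactly one φ : F → ω with ψ = t ∘ H^2(φ). Then the
restriction of ω to U is isomorphic to ω_U, a second exterior power of the sheaf of differentials
Ω_{U/k} (existence of an isomorphism of O_U-modules; the published statement also asserts an unnamed
isomorphism). -/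
theorem result (k : Type u) [Field k] [IsAlgClosed k] (N : ℕ)
    (X : Scheme.{u}) [X.Over (Spec (CommRingCat.of k))] [IsIntegral X] (hdim : topologicalKrullDim X = 2)
    (ι : X ⟶ CohB1.ProjSpace N k) [IsClosedImmersion ι] (hι : ι ≫ CohB1.ProjSpace.toSpec N k = X ↘ (Spec (CommRingCat.of k)))
    (hlci : ∀ x : X, Pi1.IsCompleteIntersection (X.presheaf.stalk x))
    (U : X.Opens) (hUreg : ∀ x : X, x ∈ U ↔ IsRegularLocalRing (X.presheaf.stalk x)) (hU : ((U : Set X)ᶜ).Finite)
    (ω : X.Modules) (hωcoh : Coh.IsCoh ω) (t : Coh.HH X ω 2 →ₗ[k] k)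
    (hdual : ∀ F : X.Modules, Coh.IsCoh F → ∀ ψ : Coh.HH X F 2 →ₗ[k] k,
        ∃! φ : F ⟶ ω, ∀ x : Coh.HH X F 2,
          ψ x = t (Sheaf.H.map ((SheafOfModules.toSheaf X.ringCatSheaf).map φ) 2 x))
    (W : (U : Scheme.{u}).Modules) (hW : ExtPow.IsExtPow 2 (Omega.sheaf (U.ι ≫ (X ↘ (Spec (CommRingCat.of k))))) W) :
    Nonempty ((Scheme.Modules.restrictFunctor U.ι).obj ω ≅ W) := by
  let f := X ↘ Spec (CommRingCat.of k)
  haveI := Groth.Agent.PnCoh.Chow.isProper_toSpec N k
  haveI : IsProper f := by show IsProper (X ↘ _); rw [← hι]; infer_instance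
  haveI : IsNoetherian X :=
    { __ := LocallyOfFiniteType.isLocallyNoetherian f
      __ := QuasiCompact.compactSpace_of_compactSpace f }
  have hgenU : genericPoint X ∈ U := by
    by_contra h
    have h0 := (Groth.Agent.VarDim.closedPoint_iff_deg_eq_zero f _).1
      (Groth.Agent.OmegaTop.isClosed_singleton_of_finite f U.2.isClosed_compl hU h)
    rw [Groth.Agent.VarDim.topologicalKrullDim_eq_deg_genericPoint f, h0] at hdim
    norm_num at hdim
  haveI : Nonempty (U : Scheme.{u}) := ⟨⟨_, hgenU⟩⟩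
  haveI : IsIntegral (U : Scheme.{u}) := isIntegral_of_isOpenImmersion U.ι
  haveI : Smooth (U.ι ≫ f) := Groth.Agent.CIntLib.smooth_of_regular _ fun x => by
    haveI : IsRegularLocalRing (X.presheaf.stalk (U.ι x)) := (hUreg _).1 x.2
    exact IsRegularLocalRing.of_ringEquiv (asIso (U.ι.stalkMap x)).commRingCatIsoToRingEquiv
  have hdimU : topologicalKrullDim (U : Scheme.{u}) = (2 : ℕ) := by
    show topologicalKrullDim (U : Set X) = _
    rw [Groth.Agent.VarDim.topologicalKrullDim_opens_eq_iSup_deg f U]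
    refine Eq.trans ?_ ((Groth.Agent.VarDim.topologicalKrullDim_eq_deg_genericPoint f).symm.trans hdim)
    refine le_antisymm (iSup_le fun z => ?_) (le_iSup_of_le ⟨genericPoint X, hgenU⟩ le_rfl)
    exact_mod_cast Groth.Agent.VarDim.deg_le_of_specializes f (genericPoint_specializes _)
  haveI : SmoothOfRelativeDimension 2 (U.ι ≫ f) :=
    Groth.Agent.OmegaTop.smoothOfRelativeDimension_of_dim _ 2 hdimU
  obtain ⟨V, hVU, hbad, tr, hL⟩ := Groth.Agent.OmegaTop.exists_isRDualOver_pushforward 2 le_rfl hdim ι hι U hU W hW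
  have hω : Canon.IsRDualOver k X 2 ω t := by
    refine ⟨hωcoh.1, fun F hF => Groth.Agent.PnDual.bijective_of_ftSub hF fun M hM => ?_⟩
    have hMc : Coh.IsCoh M.toModules :=
      ⟨Groth.Agent.QCoh.isQCoh_of_ftOn hF hM, Groth.Agent.QCoh.isFT_of_ftOn hF hM⟩
    refine Function.bijective_iff_existsUnique _ |>.2 fun ψ => ?_
    obtain ⟨φ, hφ, hu⟩ := hdual _ hMc ψ
    exact ⟨φ, LinearMap.ext fun x => (hφ x).symm, fun φ' hφ' => hu φ' fun x => (LinearMap.congr_fun hφ' x).symm⟩
  obtain ⟨⟨ρ, hρ, -⟩, hiso⟩ := Groth.Agent.CanonDual.existsUnique_hom_isIso hω hL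
  haveI := hiso ρ hρ
  let j := X.homOfLE hVU
  have hj : j.opensRange = U.ι ⁻¹ᵁ V := X.opensRange_homOfLE hVU
  have hs : j.opensRange = U.ι ⁻¹ᵁ V.ι.opensRange := by rw [Scheme.Opens.opensRange_ι]; exact hj
  have hωV : Groth.Agent.ParaFX.SectBij V.ι ω :=
    Groth.Agent.ParaFX.sectBij_of_iso _ (asIso ρ) (Groth.Agent.ParaFX.sectBij_pushforward V.ι _)
  haveI : IsLocallyNoetherian (U : Scheme.{u}) := isLocallyNoetherian_of_isOpenImmersion U.ι
  have hWs : Groth.Agent.ParaFX.SectBij j W :=
    Groth.Agent.OmegaTop.isIso_unit_restrict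
      (Groth.Agent.CanonDual.isInvertible_of_isTopDiff (U.ι ≫ f) 2 hW) (U.ι ⁻¹ᵁ V)
      (fun x hx => Groth.Agent.OmegaTop.two_le_depth (U.ι ≫ f) 2 le_rfl hdimU (hbad x hx)) j hj
  exact Groth.Agent.ParaFX.nonempty_iso_of_restrict j
    (Groth.Agent.ParaFX.sectBij_restrict V.ι U.ι j hs hωV) hWs
    (((Scheme.Modules.restrictFunctorComp j U.ι).app ω).symm ≪≫
      (Scheme.Modules.restrictFunctorCongr (X.homOfLE_ι hVU)).app ω ≪≫
      (Scheme.Modules.restrictFunctor V.ι).mapIso (asIso ρ).symm ≪≫
      Groth.Agent.ParaFX.restrictPushforward V.ι _)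

end Groth.Agent.S14702
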