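import Groth.Statements.S14703
import Groth.Agent.SurfInt.AffineBoundary
import Groth.Agent.SurfInt.InterCM
import Groth.Agent.SurfInt.SectionDeg
import Groth.Agent.SurfInt.Curve
import Groth.Agent.SurfInt.Degrees
import Groth.Agent.ArSurfBase.CodimOne
import Groth.Agent.ArSurfBase.FibreDiv
import Groth.Agent.ArSurfBase.Inter
import Groth.Agent.ArSurfBase.PullIdeal
import Groth.Agent.H23.RedSub
import Groth.Agent.PicClLib.Basic

set_option autoImplicit false
set_option backward.isDefEq.respectTransparency false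
set_option backward.isDefEq.respectTransparency.types false
set_option linter.style.haveILetI false
attribute [-instance] CategoryTheory.catToReflQuiver
universe u
open CategoryTheory CategoryTheory.Limits AlgebraicGeometry
open Surf

namespace Groth.Agent.S14703

open Groth.Agent SurfInt IsLocalRing Groth.Agent.CDivEq ArSurfBase

/-- The stalk of a prime divisor at its generic point is the maximal ideal. -/
theorem stk_genericPoint {Y : Scheme.{u}} [IsLocallyNoetherian Y] (J : Y.IdealSheafData) [IsIntegral J.subscheme]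
    (hJ : BlowUp.IsEffCartierIdeal J) (hreg : ∀ y : Y, IsRegularLocalRing (Y.presheaf.stalk y))
    (hd : ringKrullDim (Y.presheaf.stalk (J.subschemeι (genericPoint ↥J.subscheme))) = 1) (W : Y.affineOpens)
    (hW : J.subschemeι (genericPoint ↥J.subscheme) ∈ W.1) : stk J W hW = maximalIdeal _ := by
  set η := J.subschemeι (genericPoint ↥J.subscheme)
  haveI := hreg η
  haveI := (RegUFD.ufd (Y.presheaf.stalk η)).1
  haveI := (RegUFD.ufd (Y.presheaf.stalk η)).2
  haveI := CDiv6.isDVR_of_dim_eq_one _ hd
  obtain ⟨g, hg, hgen⟩ := CDivEq.exists_gen _ hJ W hW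
  have hne : stk J W hW ≠ ⊤ := (CDivEq.mem_support_iff _ W hW).1 (by
    rw [← J.range_subschemeι]; exact ⟨_, rfl⟩)
  have hrad : (stk J W hW).IsRadical := by
    have h1 : (J.ideal W).radical = J.ideal W :=
      Ideal.radical_eq_iff.2 (H23.RedSub.isRadical_of_isReduced_subscheme W)
    letI := Y.presheaf.algebra_section_stalk (U := W.1) ⟨η, hW⟩
    haveI := W.2.isLocalization_stalk ⟨η, hW⟩
    show ((J.ideal W).map (algebraMap Γ(Y, W.1) _)).IsRadical
    rw [← Ideal.radical_eq_iff, ← IsLocalization.map_radical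
      (W.2.primeIdealOf ⟨η, hW⟩).asIdeal.primeCompl, h1]
  obtain ⟨ϖ, hϖ⟩ := IsDiscreteValuationRing.exists_irreducible (Y.presheaf.stalk η)
  have hbot : stk J W hW ≠ ⊥ := by
    rw [hgen, Ne, Ideal.span_singleton_eq_bot]
    exact nonZeroDivisors.ne_zero hg
  obtain ⟨n, hn⟩ := IsDiscreteValuationRing.ideal_eq_span_pow_irreducible hbot hϖ
  rw [hn, ← Ideal.span_singleton_pow, ← hϖ.maximalIdeal_eq] at hne hrad ⊢
  rcases n with _ | n
  · simp at hne
  · exact le_antisymm (Ideal.pow_le_self (Nat.succ_ne_zero n))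
      fun a ha => hrad ⟨n + 1, Ideal.pow_mem_pow ha _⟩

/-- Pullbacks from a point are trivial. -/
theorem nonempty_pullback_point {X Z : Scheme.{u}} (g : Z ⟶ X) {M : X.Modules} (hM : PicF.IsInvertible M)
    {x : X} (hg : ∀ z, g z = x) : Nonempty ((Scheme.Modules.pullback g).obj M ≅ Coh.structureModule Z) := by
  obtain ⟨U, hx, ⟨e⟩⟩ := hM x
  have hr : Set.range g ⊆ Set.range U.ι := by
    rintro _ ⟨z, rfl⟩
    rw [Scheme.Opens.range_ι, hg z]
    exact hx
  let g' := IsOpenImmersion.lift U.ι g hr
  have h : g' ≫ U.ι = g := IsOpenImmersion.lift_fac _ _ _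
  obtain ⟨e'⟩ := PicClLib.nonempty_pullback_structureModule g'
  exact ⟨(Scheme.Modules.pullbackCongr h).symm.app M ≪≫ ((Scheme.Modules.pullbackComp g' U.ι).app M).symm ≪≫
    (Scheme.Modules.pullback g').mapIso (((Scheme.Modules.restrictFunctorIsoPullback U.ι).app M).symm ≪≫ e) ≪≫ e'⟩

theorem pair_prod_pow (k : Type u) [Field k] {Y : Scheme.{u}} [Y.Over (Spec (CommRingCat.of k))]
    [IsProper (Y ↘ Spec (CommRingCat.of k))] (hdim : topologicalKrullDim Y ≤ ((2 : ℕ) : WithBot ℕ∞))
    {ι : Type*} (S : Finset ι) (I : ι → Y.IdealSheafData) (hI : ∀ i, BlowUp.IsEffCartierIdeal (I i)) (m : ι → ℕ)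
    {B : Y.Modules} (hB : PicF.IsInvertible B) :
    BlowUp.IsEffCartierIdeal (∏ i ∈ S, I i ^ m i) ∧
    SurfInt.pair k (ClSub.idealMod (∏ i ∈ S, I i ^ m i)) B =
      ∑ i ∈ S, (m i : ℤ) * SurfInt.pair k (ClSub.idealMod (I i)) B := by
  classical
  have hmul : ∀ {P Q : Y.IdealSheafData}, BlowUp.IsEffCartierIdeal P → BlowUp.IsEffCartierIdeal Q →
      SurfInt.pair k (ClSub.idealMod (P * Q)) B =
        SurfInt.pair k (ClSub.idealMod P) B + SurfInt.pair k (ClSub.idealMod Q) B := fun {P Q} hP hQ => by
    rw [pair_congr k (nonempty_idealMod_mul hP hQ).some (Iso.refl B),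
      pair_tensor_left k hdim (isInvertible_idealMod hP) (isInvertible_idealMod hQ) hB]
  have hone : SurfInt.pair k (ClSub.idealMod (1 : Y.IdealSheafData)) B = 0 := by
    have h := hmul (P := 1) (Q := 1) isEffCartier_one isEffCartier_one
    rw [one_mul] at h
    omega
  have hpow : ∀ (i : ι) (n : ℕ), SurfInt.pair k (ClSub.idealMod (I i ^ n)) B = (n : ℤ) * SurfInt.pair k (ClSub.idealMod (I i)) B :=
    fun i n => by
      induction n with
      | zero => rw [pow_zero, hone]; simp
      | succ n ih => rw [pow_succ, hmul (isEffCartier_pow (hI i) n) (hI i), ih]; push_cast; ring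
  induction S using Finset.induction with
  | empty => exact ⟨by rw [Finset.prod_empty]; exact isEffCartier_one, by rw [Finset.prod_empty, hone, Finset.sum_empty]⟩
  | @insert a S ha ih =>
    rw [Finset.prod_insert ha, Finset.sum_insert ha]
    exact ⟨ModPairLib.isEffCartier_mul (isEffCartier_pow (hI a) _) ih.1,
      by rw [hmul (isEffCartier_pow (hI a) _) ih.1, hpow, ih.2]⟩

/-- A point of a surface with one-dimensional local ring is the generic point of a curve. -/
theorem isCurvePt_of_dim_one (k : Type u) [Field k] {Y : Scheme.{u}} [Y.Over (Spec (CommRingCat.of k))]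
    [LocallyOfFiniteType (Y ↘ Spec (CommRingCat.of k))] [IsIntegral Y] (hdim : topologicalKrullDim Y = 2)
    {y : Y} (hy : ringKrullDim (Y.presheaf.stalk y) = 1) : IsCurvePt y := by
  refine le_antisymm (dim_closure_le_one hdim fun h => ?_) ?_
  · subst h
    rw [ringKrullDim_eq_zero_of_isField (F := Y.presheaf.stalk (genericPoint Y)) (Field.toIsField Y.functionField)] at hy
    exact zero_ne_one hy
  · by_contra hlt
    have h0 : topologicalKrullDim ↥(closure ({y} : Set Y)) ≤ ((0 : ℕ) : WithBot ℕ∞) :=
      HilbPoly.le_of_lt_succ (lt_of_not_ge hlt)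
    have hcl : IsClosed ({y} : Set Y) := by
      refine closure_subset_iff_isClosed.1 fun z hz => ?_
      by_contra hne
      have hy' : y ∉ closure ({z} : Set Y) := fun h => hne
        ((specializes_iff_mem_closure.2 h).antisymm (specializes_iff_mem_closure.2 hz)).eq
      have h1 := HilbPoly.dim_lt_closure (n := 0) h0 isClosed_closure
        (closure_minimal (Set.singleton_subset_iff.2 hz) isClosed_closure) hy'
      haveI : Nonempty (TopologicalSpace.IrreducibleCloseds ↥(closure ({z} : Set Y))) :=
        ⟨⟨closure {⟨z, subset_closure rfl⟩}, isIrreducible_singleton.closure, isClosed_closure⟩⟩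
      exact absurd (lt_of_le_of_lt Order.krullDim_nonneg h1) (lt_irrefl _)
    have h2 := le_ringKrullDim_stalk k hcl isClosed_univ (IrreducibleSpace.isIrreducible_univ _) (Set.mem_univ y)
      (n := 2) ((Homeomorph.Set.univ Y).isHomeomorph.topologicalKrullDim_eq.trans hdim)
    rw [hy] at h2
    exact absurd h2 (by decide)

/-- Let k be an algebraically closed field, X an integral scheme of dimension two admitting a closed
immersion into some P^n_k over k, and U ⊆ X open with finite complement. Let φ : Y → X be a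
k-morphism from an integral scheme of dimension two with all local rings regular, itself admitting a
closed immersion into some projective space over k, restricting to an isomorphism over U; let μ_1,
…, μ_s be distinct integral one-dimensional closed subschemes of Y, each mapped to a point, such
that every integral one-dimensional closed subscheme of Y mapped to a point has the support of one
of them. Let D be an effective Cartier divisor on X (an ideal sheaf I_D locally generated by one
nonzerodivisor) and D̃ an effective Cartier divisor on Y whose support contains no μ_j and whose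
ideal agrees with the inverse-image ideal φ⁻¹I_D · O_Y on every affine open contained in φ⁻¹(U) —
the strict transform of D. Then there are natural numbers γ_1, …, γ_s such that φ⁻¹I_D · O_Y =
I_{D̃} · ∏_j I_{μ_j}^{γ_j} (the total transform is the strict transform plus Σ γ_j μ_j) and Σ_j (μ_i
· μ_j) γ_j = -(D̃ · μ_i) for every i (the total transform meets every μ_i with intersection number
zero), where (A · B) = χ(O_Y) - χ(I_A) - χ(I_B) + χ(I_A ⊗ I_B) (packaged as FGA.intNum). (The
published statement writes the coefficient vector as γ = -d⁻¹ (D̃ · μ), with d = (μ_i · μ_j), for a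
locally principal divisor on a normal surface and a resolution that is an isomorphism exactly off
the singular points with exceptional fibres of pure dimension one; this row states the linear system
d γ = -(D̃ · μ), for effective Cartier divisors, any resolution that is an isomorphism over an open
subset with finite complement, and X not assumed normal.) -/
theorem result (k : Type u) [Field k] [IsAlgClosed k] (X : Scheme.{u}) [X.Over (Spec (CommRingCat.of k))]
    [IsIntegral X] (hdim : topologicalKrullDim X = 2)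
    (hproj : ∃ (n : ℕ) (ι : X ⟶ CohB1.ProjSpace n k), IsClosedImmersion ι ∧ ι ≫ CohB1.ProjSpace.toSpec n k = (X ↘ (Spec (CommRingCat.of k))))
    (U : X.Opens) (hU : ((U : Set X)ᶜ).Finite)
    (Y : Scheme.{u}) (φ : Y ⟶ X) [IsIntegral Y] (hdimY : topologicalKrullDim Y = 2)
    (hregY : ∀ y : Y, IsRegularLocalRing (Y.presheaf.stalk y))
    (hprojY : ∃ (n : ℕ) (ι : Y ⟶ CohB1.ProjSpace n k), IsClosedImmersion ι ∧ ι ≫ CohB1.ProjSpace.toSpec n k = φ ≫ (X ↘ (Spec (CommRingCat.of k))))
    (hiso : IsIso (φ ∣_ U))
    (s : ℕ) (μ : Fin s → Y.IdealSheafData) (hμint : ∀ j, IsIntegral (μ j).subscheme)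
    (hμdim : ∀ j, topologicalKrullDim ((μ j).support : Set Y) = 1)
    (hμpt : ∀ j, ∃ x : X, φ.base '' ((μ j).support : Set Y) = {x})
    (hμinj : Function.Injective fun j => ((μ j).support : Set Y))
    (hμall : ∀ E : Y.IdealSheafData, IsIntegral E.subscheme → topologicalKrullDim (E.support : Set Y) = 1 →
      (∃ x : X, φ.base '' (E.support : Set Y) = {x}) → ∃ j, (E.support : Set Y) = (μ j).support)
    (D : X.IdealSheafData) (hD : FGA.IsEffCartier D) (Dt : Y.IdealSheafData) (hDt : FGA.IsEffCartier Dt)
    (hDtexc : ∀ j, ¬ ((μ j).support : Set Y) ⊆ Dt.support)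
    (hDtU : ∀ W : Y.affineOpens, (W : Y.Opens) ≤ φ ⁻¹ᵁ U → Dt.ideal W = (D.comap φ).ideal W) :
    letI : Y.Over (Spec (CommRingCat.of k)) := ⟨φ ≫ (X ↘ (Spec (CommRingCat.of k)))⟩
    ∃ γ : Fin s → ℕ, D.comap φ = Dt * ∏ j : Fin s, μ j ^ γ j ∧
      ∀ i : Fin s, (∑ j : Fin s, FGA.intNum k Y 2 ![ClSub.idealMod (μ i), ClSub.idealMod (μ j)] (Coh.structureModule Y) * (γ j : ℤ)) =
        - FGA.intNum k Y 2 ![ClSub.idealMod Dt, ClSub.idealMod (μ i)] (Coh.structureModule Y) := by
  classical
  set f := X ↘ Spec (CommRingCat.of k)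
  obtain ⟨m, ι, hι, hιe⟩ := hproj
  obtain ⟨m', ι', hι', hι'e⟩ := hprojY
  haveI : IsProper f := SurfInt.isProper_of_projective k hι hιe
  letI : Y.Over (Spec (CommRingCat.of k)) := ⟨φ ≫ f⟩
  haveI : IsProper (Y ↘ Spec (CommRingCat.of k)) := SurfInt.isProper_of_projective (X := Y) k hι' hι'e
  haveI : IsProper (φ ≫ f) := ‹IsProper (Y ↘ Spec (CommRingCat.of k))›
  haveI : IsProper φ := IsProper.of_comp φ f
  haveI := CurveCohLib.isNoetherian_of_proper (k := k) (X := Y)
  haveI : JacobsonSpace X := LocallyOfFiniteType.jacobsonSpace f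
  haveI := hiso
  have hd2 : topologicalKrullDim Y ≤ ((2 : ℕ) : WithBot ℕ∞) := hdimY.le
  have hUne : (U : Set X).Nonempty := by
    by_contra h
    rw [Set.not_nonempty_iff_eq_empty] at h
    rw [h, Set.compl_empty, Set.finite_univ_iff] at hU
    haveI : Finite X := hU
    obtain ⟨x0⟩ := (inferInstance : Nonempty X)
    haveI : Subsingleton X := ⟨fun a b => by
      obtain ⟨z, ha, hb⟩ := nonempty_preirreducible_inter (isOpen_discrete {a}) (isOpen_discrete {b})
        ⟨a, rfl⟩ ⟨b, rfl⟩
      exact ha.symm.trans hb⟩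
    have h0 := SurfInt.dim_singleton_le_zero x0
    rw [(Subsingleton.eq_univ_of_nonempty ⟨x0, rfl⟩ : ({x0} : Set X) = Set.univ),
      (Homeomorph.Set.univ X).isHomeomorph.topologicalKrullDim_eq] at h0
    exact absurd (hdim.symm.trans_le h0) (by decide)
  have hrange : closure (Set.range φ) = Set.univ := by
    have h1 : (U : Set X) ⊆ Set.range φ := fun y hy => by
      obtain ⟨z, hz⟩ := (Scheme.homeoOfIso (asIso (φ ∣_ U))).surjective ⟨y, hy⟩
      exact ⟨z.1, (morphismRestrict_base_coe φ U z).symm.trans (congrArg Subtype.val hz)⟩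
    exact ((U.2.dense hUne).mono h1).closure_eq
  have hgen : φ (genericPoint Y) = genericPoint X := by
    have h := (genericPoint_spec (Y : Type u)).image φ.continuous
    rw [Set.image_univ, hrange] at h
    exact h.eq (genericPoint_spec (X : Type u))
  let T := D.comap φ
  have hT : BlowUp.IsEffCartierIdeal T :=
    isEffCartier_comap_of_not_mem φ (isEffCartierIdeal_of_fga hD)
      (by rw [hgen]; exact genericPoint_notMem_support (isEffCartierIdeal_of_fga hD))
  let η : Fin s → Y := fun j => (μ j).subschemeι (genericPoint ↥(μ j).subscheme)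
  have hμcl : ∀ j, ((μ j).support : Set Y) = closure {η j} := fun j => by
    haveI := hμint j
    rw [← (μ j).range_subschemeι]
    exact range_eq_closure_genericPoint _
  have hηinj : Function.Injective η := fun i j h => hμinj (by simp only [hμcl, h])
  have hμc : ∀ j, BlowUp.IsEffCartierIdeal (μ j) := fun j =>
    haveI := hμint j
    isEffCartier_curve k hdimY hregY (μ j) (hμdim j)
  have hcp : ∀ j, IsCurvePt (η j) := fun j => by
    unfold IsCurvePt
    rw [← hμcl, hμdim]; rfl
  have hηd : ∀ j, ringKrullDim (Y.presheaf.stalk (η j)) = 1 := fun j => ringKrullDim_stalk_curvePt hdimY (hcp j)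
  have hexp : ∀ j, ∃ n : ℕ, ∀ (W : Y.affineOpens) (hW : η j ∈ W.1), stk T W hW = maximalIdeal _ ^ n := fun j => by
    haveI := hregY (η j)
    haveI := (RegUFD.ufd (Y.presheaf.stalk (η j))).1
    haveI := (RegUFD.ufd (Y.presheaf.stalk (η j))).2
    haveI := CDiv6.isDVR_of_dim_eq_one _ (hηd j)
    obtain ⟨W, hW⟩ := exists_affine (η j)
    obtain ⟨g, hg, hgW⟩ := CDivEq.exists_gen T hT W hW
    obtain ⟨ϖ, hϖ⟩ := IsDiscreteValuationRing.exists_irreducible (Y.presheaf.stalk (η j))
    obtain ⟨n, hn⟩ := IsDiscreteValuationRing.ideal_eq_span_pow_irreducible (s := stk T W hW) (by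
      rw [hgW, Ne, Ideal.span_singleton_eq_bot]; exact nonZeroDivisors.ne_zero hg) hϖ
    exact ⟨n, fun W' hW' => by
      rw [stk_congr T W' W hW' hW, hn, ← Ideal.span_singleton_pow, ← hϖ.maximalIdeal_eq]⟩
  choose γ hγ using hexp
  have hprod : ∀ {B : Y.Modules}, PicF.IsInvertible B → _ := fun {B} hB =>
    pair_prod_pow k hd2 Finset.univ μ hμc γ hB
  have hDt' := isEffCartierIdeal_of_fga hDt
  have hR : BlowUp.IsEffCartierIdeal (Dt * ∏ j, μ j ^ γ j) :=
    ModPairLib.isEffCartier_mul hDt' (hprod InvX.isInvertible_structureModule).1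
  have hoff : ∀ (y : Y) (W : Y.affineOpens) (hy : y ∈ W.1) (j : Fin s), ringKrullDim (Y.presheaf.stalk y) = 1 →
      y ≠ η j → stk (μ j ^ γ j) W hy = ⊤ := fun y W hy j hd hne => by
    rw [stk_pow, stk_eq_top_of_notMem _ _ _ fun h => hne ?_, Ideal.top_pow]
    have hy1 := isCurvePt_of_dim_one k hdimY hd
    have hmem : y ∈ closure ({η j} : Set Y) := (hμcl j).le h
    by_contra hne'
    have hnot : η j ∉ closure ({y} : Set Y) := fun h' => hne'
      ((specializes_iff_mem_closure.2 hmem).antisymm (specializes_iff_mem_closure.2 h')).eq.symm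
    have h1 := HilbPoly.dim_lt_closure (n := 1) (hcp j).le isClosed_closure
      (closure_minimal (Set.singleton_subset_iff.2 hmem) isClosed_closure) hnot
    exact absurd (hy1.symm.trans_lt h1) (lt_irrefl _)
  have hTeq : T = Dt * ∏ j, μ j ^ γ j := by
    refine eq_of_stk_codim_one hregY hT hR fun y W hy hd => ?_
    rw [stk_mul, stk_prod]
    by_cases hex : ∃ j, y = η j
    · obtain ⟨j, rfl⟩ := hex
      haveI := hμint j
      rw [Finset.prod_eq_single j (fun i _ hij => (hoff (η j) W hy i hd fun h => hij (hηinj h).symm).trans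
          Ideal.one_eq_top.symm) (fun h => absurd (Finset.mem_univ j) h),
        stk_pow, stk_genericPoint (μ j) (hμc j) hregY hd W hy, hγ j W hy,
        stk_eq_top_of_notMem Dt W hy fun h => hDtexc j (by
          rw [hμcl]; exact closure_minimal (Set.singleton_subset_iff.2 h) Dt.support.isClosed), Ideal.top_mul]
    · push Not at hex
      rw [Finset.prod_eq_one fun i _ => (hoff y W hy i hd (hex i)).trans Ideal.one_eq_top.symm, mul_one]
      have hyU : φ y ∈ U := by
        by_contra hyU
        have hc := isCurvePt_of_dim_one k hdimY hd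
        have hxcl : IsClosed ({φ y} : Set X) := isClosed_singleton_of_finite_closed U.2.isClosed_compl hU hyU
        obtain ⟨j, hj⟩ := hμall (VarBase.clIdeal y) (isIntegral_clIdeal y)
          (by rw [← Scheme.IdealSheafData.range_subschemeι, VarBase.range_clIdeal]; exact hc)
          ⟨φ y, by
            rw [← Scheme.IdealSheafData.range_subschemeι, VarBase.range_clIdeal]
            refine le_antisymm ((image_closure_subset_closure_image φ.continuous).trans ?_)
              (Set.singleton_subset_iff.2 ⟨y, subset_closure rfl, rfl⟩)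
            rw [Set.image_singleton, hxcl.closure_eq]⟩
        rw [← Scheme.IdealSheafData.range_subschemeι, VarBase.range_clIdeal, hμcl] at hj
        have g1 : IsGenericPoint y (closure ({y} : Set Y)) := rfl
        have g2 : IsGenericPoint (η j) (closure ({y} : Set Y)) := hj.symm
        exact hex j (g1.eq g2)
      obtain ⟨W', hW', hyW', hWU⟩ := exists_isAffineOpen_mem_and_subset (X := Y) (x := y) (U := φ ⁻¹ᵁ U) hyU
      rw [stk_congr T W ⟨W', hW'⟩ hy hyW', stk_congr Dt W ⟨W', hW'⟩ hy hyW', stk, stk,
        hDtU ⟨W', hW'⟩ hWU]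
  refine ⟨γ, hTeq, fun i => ?_⟩
  haveI := hμint i
  have hIμ := fun j => isInvertible_idealMod (hμc j)
  have hzero : SurfInt.pair k (ClSub.idealMod T) (ClSub.idealMod (μ i)) = 0 := by
    rw [SurfInt.pair_comm, pair_ideal_left k (μ i) (isInvertible_idealMod hT), neg_eq_zero]
    letI : (μ i).subscheme.Over (Spec (CommRingCat.of k)) :=
      ⟨(μ i).subschemeι ≫ (Y ↘ Spec (CommRingCat.of k))⟩
    rw [SurfInt.curveDeg_eq_deg k (μ i) (AmpleVan.isCoh_invertible (isInvertible_idealMod hT)).1 rfl]
    obtain ⟨e1⟩ := nonempty_pullback_idealMod φ D (isEffCartierIdeal_of_fga hD) hT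
    obtain ⟨x, hx⟩ := hμpt i
    obtain ⟨e2⟩ := nonempty_pullback_point ((μ i).subschemeι ≫ φ)
      (isInvertible_idealMod (isEffCartierIdeal_of_fga hD)) (x := x) fun z => by
        have h : (μ i).subschemeι z ∈ ((μ i).support : Set Y) := by
          rw [← (μ i).range_subschemeι]; exact ⟨z, rfl⟩
        exact (hx.le ⟨_, h, rfl⟩ : _)
    have e : (Scheme.Modules.pullback (μ i).subschemeι).obj (ClSub.idealMod T) ≅
        Coh.structureModule (μ i).subscheme :=
      (Scheme.Modules.pullback (μ i).subschemeι).mapIso e1.symm ≪≫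
        (Scheme.Modules.pullbackComp (μ i).subschemeι φ).app _ ≪≫ e2
    unfold Curv2.deg
    rw [euler_congr k e]
    simp
  rw [hTeq, pair_congr k (nonempty_idealMod_mul hDt' (hprod (hIμ i)).1).some (Iso.refl _),
    pair_tensor_left k hd2 (isInvertible_idealMod hDt') (isInvertible_idealMod (hprod (hIμ i)).1) (hIμ i),
    (hprod (hIμ i)).2] at hzero
  have hs : ∀ j, FGA.intNum k Y 2 ![ClSub.idealMod (μ i), ClSub.idealMod (μ j)] (Coh.structureModule Y) * (γ j : ℤ) =
      (γ j : ℤ) * SurfInt.pair k (ClSub.idealMod (μ j)) (ClSub.idealMod (μ i)) := fun j => by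
    rw [intNum_eq_pair k hd2 (hIμ i) (hIμ j), SurfInt.pair_comm, mul_comm]
  rw [Finset.sum_congr rfl fun j _ => hs j, intNum_eq_pair k hd2 (isInvertible_idealMod hDt') (hIμ i)]
  linarith

end Groth.Agent.S14703
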