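import Groth.Statements.S14717
import Groth.Agent.SSQuot66.Finset

set_option autoImplicit false
universe u
open CategoryTheory MonoidalCategory CartesianMonoidalCategory MonObj GrpObj AlgebraicGeometry Topology
open GIT

namespace Groth.Agent.S14717

/-- Let k be a field of characteristic zero, G a connected reductive algebraic group over k (affine,
smooth, with connected reductive geometric fibre) acting by σ on a finite-type k-scheme X (not
necessarily separated), and L a G-linearised line bundle on X, taken in total-space form (a line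
bundle V → X with a linear atlas and a fibrewise-linear lifting of the action; sections of L^n are
the weight-n functions on V, invariant sections those fixed by the lifted action, X_s the locus over
which s does not vanish identically on the fibre). Let x_1, …, x_m be finitely many semi-stable
points of X. Then there is an invariant section s of some L^n, n ≥ 1, such that X_s is an affine
open containing all the x_i; if moreover all the x_i are stable (no condition on stabilisers), s can
be chosen so that the action of G on X_s is closed. (The published statement is for any reductive G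
in any characteristic; this row is the characteristic-zero case with G connected. L is taken in
total-space form.) -/
theorem result (k : Type u) [Field k] [CharZero k]
    (G X : Over (Spec (CommRingCat.of k))) [GrpObj G] (hG : Red.IsReductive G)
    [LocallyOfFiniteType X.hom] [QuasiCompact X.hom]
    (a : AlgGrp.Action G X) (B : GLinSh.LinBun G a)
    (s : Finset X.left) (hs : ∀ x ∈ s, B.IsSemistablePt x) :
    ∃ (n : ℕ) (f : Γ(B.V.left, ⊤)) (Uf : X.left.Opens), 1 ≤ n ∧ B.IsInvSection n f ∧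
      (Uf : Set X.left) = GLinSh.nonvanishing B.π f ∧ IsAffineOpen Uf ∧ (∀ x ∈ s, x ∈ Uf) ∧
      ((∀ x ∈ s, B.IsStablePt x) → GLinSh.ClosedOrbitsOn a Uf) := by
  classical
  obtain ⟨A, _, _, α, hα, h1, -, ⟨e⟩⟩ := AffQuot66.exists_integral_model hG
  have := AffQuot66.isAffineHom_of_model e
  obtain ⟨U, hU, hUinv⟩ : ∃ U : X.left.Opens, (U : Set X.left) = B.ssLocus ∧
      a.act.left ⁻¹ᵁ U = (snd G X).left ⁻¹ᵁ U := by
    choose n f hn hf hxf Z hZ hZa using fun x : B.ssLocus => x.2
    refine ⟨⨆ x, Z x, ?_, ?_⟩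
    · rw [TopologicalSpace.Opens.coe_iSup]
      refine Set.ext fun z => ⟨fun hz => ?_, fun hz => Set.mem_iUnion.2 ⟨⟨z, hz⟩, (hZ _).ge (hxf ⟨z, hz⟩)⟩⟩
      obtain ⟨x, hx⟩ := Set.mem_iUnion.1 hz
      exact ⟨n x, f x, hn x, hf x, (hZ x).le hx, Z x, hZ x, hZa x⟩
    · rw [Scheme.Hom.preimage_iSup, Scheme.Hom.preimage_iSup]
      exact iSup_congr fun x => SSQuot66.preimage_nonvanishing (hf x).2 (hZ x)
  obtain ⟨aU, haU⟩ := AffAct66.exists_restrict a U hUinv
  obtain ⟨C⟩ := SSQuot66.exists_coords B e hα h1 hU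
  obtain ⟨Y, φ, j, T, hloc, -, -, -, -, -, hT⟩ := SSQuot66.exists_ssQuot e hα h1 C hU rfl haU
  have hTcov : ∀ y : Y.left, ∃ i, y ∈ T i := by
    intro y
    by_contra hne
    rcases isEmpty_or_nonempty C.J with hJ | ⟨⟨i⟩⟩
    · obtain ⟨x, -⟩ := hloc.surjective e hα h1 y
      obtain ⟨i, -⟩ := (C.cover x.1).mp (hU.le x.2)
      exact hJ.false i
    · exact hne ((hT i).2.2.2 y)
  have hSfin : (U.ι.base ⁻¹' (s : Set X.left)).Finite :=
    s.finite_toSet.preimage U.ι.isOpenEmbedding.injective.injOn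
  by_cases hall : ∀ x ∈ s, B.IsStablePt x
  · obtain ⟨Us, hUs, hUsinv⟩ : ∃ U : X.left.Opens, (U : Set X.left) = B.sLocus ∧
        a.act.left ⁻¹ᵁ U = (snd G X).left ⁻¹ᵁ U := by
      choose n f hn hf hxf Z hZ hZa hcl using fun x : B.sLocus => x.2
      refine ⟨⨆ x, Z x, ?_, ?_⟩
      · rw [TopologicalSpace.Opens.coe_iSup]
        refine Set.ext fun z => ⟨fun hz => ?_, fun hz => Set.mem_iUnion.2 ⟨⟨z, hz⟩, (hZ _).ge (hxf ⟨z, hz⟩)⟩⟩
        obtain ⟨x, hx⟩ := Set.mem_iUnion.1 hz
        exact ⟨n x, f x, hn x, hf x, (hZ x).le hx, Z x, hZ x, hZa x, hcl x⟩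
      · rw [Scheme.Hom.preimage_iSup, Scheme.Hom.preimage_iSup]
        exact iSup_congr fun x => SSQuot66.preimage_nonvanishing (hf x).2 (hZ x)
    have hle : Us ≤ U := fun z hz => by
      obtain ⟨n, f, hn, hf, hzf, Z, hZ, hZa, -⟩ := hUs.le hz
      exact hU.ge ⟨n, f, hn, hf, hzf, Z, hZ, hZa⟩
    obtain ⟨aS, haS⟩ := AffAct66.exists_restrict a Us hUsinv
    obtain ⟨Yt, φs, -, hpre, hgeom⟩ := SSQuot66.exists_sLocus_quot hG hU rfl haU Y φ
      (hloc.isUnivCatQuot e hα h1).1 Us hUs hle aS _ rfl haS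
    obtain ⟨n, f, Z, hn, hf, hZ, hZa, hS, hZO⟩ := SSQuot66.exists_section_finite (jU := Over.homMk U.ι rfl) rfl haU
      hloc C hU T (fun i => (hT i).1) (fun i => (hT i).2.2.1) hTcov Yt hSfin fun x hx =>
        hpre.ge (show U.ι.base x ∈ Us from hUs.ge (hall _ hx))
    refine ⟨n, f, Z, hn, hf, hZ, hZa, fun x hx => hS ⟨x, hU.ge (hs x hx)⟩ hx, fun _ => ?_⟩
    have : IsOpenImmersion (Over.homMk Us.ι rfl : Over.mk (Us.ι ≫ X.hom) ⟶ X).left :=
      inferInstanceAs (IsOpenImmersion Us.ι)
    refine SSQuot66.closedOrbitsOn_mono ?_ (SSQuot66.closedOrbitsOn_of_isClosedAction (Z := Us) haS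
      Us.range_ι (GITQuot.isClosedAction hgeom.1))
    intro z hz
    obtain ⟨x, rfl, hx⟩ := hZO z hz
    exact hpre.le hx
  · obtain ⟨n, f, Z, hn, hf, hZ, hZa, hS, -⟩ := SSQuot66.exists_section_finite (jU := Over.homMk U.ι rfl) rfl haU
      hloc C hU T (fun i => (hT i).1) (fun i => (hT i).2.2.1) hTcov ⊤ hSfin fun _ _ => trivial
    exact ⟨n, f, Z, hn, hf, hZ, hZa, fun x hx => hS ⟨x, hU.ge (hs x hx)⟩ hx, fun h => absurd h hall⟩

end Groth.Agent.S14717
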