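import Groth.Statements.S14718
import Groth.Agent.LinBunPull66.Locus
import Groth.Agent.AmpleX.Generated
import Groth.Agent.AmpleX.Separated
import Groth.Agent.GITQuot.Orbit
-- import your own Groth.Agent.* helpers here

set_option autoImplicit false
universe u
open CategoryTheory MonoidalCategory CartesianMonoidalCategory MonObj GrpObj AlgebraicGeometry Topology
open GIT

namespace Groth.Agent.S14718

/-- Let k be a field, G a group scheme over k acting by σ on a k-scheme X, φ : X → Y an invariant
k-morphism (φ ∘ σ = φ ∘ p₂) which is affine, and M an ample invertible sheaf on Y. Then there is a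
G-linearised line bundle L on X, taken in total-space form, with X = X^ss(L): every point x has an
invariant section s of some L^n, n ≥ 1, with s(x) ≠ 0 and X_s affine. If moreover (Y, φ) is a
geometric quotient of X by G, then X = X^s(L) for the same L (the action of G on those X_s is
closed; no condition on stabilisers). (The published statement assumes G reductive, X of finite type
and (Y, φ) a categorical quotient with Y quasi-projective; this row keeps only what the construction
uses: φ invariant and affine, M ample. L is taken in total-space form.) -/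
theorem result (k : Type u) [Field k]
    (G X Y : Over (Spec (CommRingCat.of k))) [GrpObj G]
    (a : AlgGrp.Action G X) (φ : X ⟶ Y) (hφ : GIT.IsInvariant a φ) [IsAffineHom φ.left]
    (M : Y.left.Modules) (hM : CohB1.IsAmple M) :
    ∃ B : GLinSh.LinBun G a, B.ssLocus = Set.univ ∧ (GIT.IsGeomQuot a φ → B.sLocus = Set.univ) := by
  haveI : CompactSpace Y.left := hM.2.1
  haveI : Y.left.IsSeparated := Groth.Agent.AmpleX.isSeparated_of_isAmple hM
  obtain ⟨n, -, κ, _, σ, hU, -, hcov⟩ := Groth.Agent.AmpleX.exists_cover_genLocus hM
  obtain ⟨W, p, hp, c, hc⟩ :=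
    Groth.Agent.LinBunPull66.exists_coords (Groth.Agent.InvX.isInvertible_tensorPow hM.1 n) σ
  haveI := hp
  have hU' : ∀ l, IsAffineOpen (c.U l) := fun l => (hc l).symm ▸ hU l
  have hcov' : ∀ y, ∃ l, y ∈ c.U l := fun y => (hcov y).imp fun l hl => (hc l).symm ▸ hl
  refine ⟨Groth.Agent.LinBunPull66.bundle a φ p hφ c hU' hcov', Set.eq_univ_of_forall fun x => ?_,
    fun hq => Set.eq_univ_of_forall fun x => ?_⟩
  all_goals
    obtain ⟨l, hl⟩ := hcov' (φ.left x)
    refine ⟨1, _, le_rfl, Groth.Agent.LinBunPull66.isInvSection a φ hφ c hU' hcov' l, ?_,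
      Groth.Agent.LinBunPull66.Xo φ p c l,
      Groth.Agent.LinBunPull66.nonvanishing_fV a φ hφ c hU' hcov' l, ?_⟩
  · exact (Groth.Agent.LinBunPull66.nonvanishing_fV a φ hφ c hU' hcov' l) ▸ hl
  · exact (hU' l).preimage φ.left
  · exact (Groth.Agent.LinBunPull66.nonvanishing_fV a φ hφ c hU' hcov' l) ▸ hl
  · exact ⟨(hU' l).preimage φ.left, fun Ω _ _ T e f _ =>
      (Groth.Agent.GITQuot.isClosedAction hq Ω T e f).preimage continuous_subtype_val⟩

end Groth.Agent.S14718
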