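import Groth.Statements.S14744
import Groth.Agent.AGStr.Chev.Image

set_option autoImplicit false
universe u
open CategoryTheory MonoidalCategory CartesianMonoidalCategory MonObj GrpObj AlgebraicGeometry
open AlgGrp

namespace Groth.Agent.S14744

/-- Over an algebraically closed field k, a smooth connected k-group scheme of finite type M whose only
global functions are the constants (an anti-affine group variety; the largest anti-affine subgroup
of any group variety is of this kind) is divisible: for every n ≥ 1 the n-th power map M → M is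
surjective. -/
theorem result (k : Type u) [Field k] [IsAlgClosed k]
    (M : Over (Spec (CommRingCat.of k))) [GrpObj M] [Smooth M.hom] [QuasiCompact M.hom] [ConnectedSpace ↥M.left]
    (hM : Function.Bijective ((Scheme.ΓSpecIso (CommRingCat.of k)).inv ≫ M.hom.appTop).hom)
    (n : ℕ) (hn : 0 < n) :
    Surjective ((𝟙 M) ^ n).left := by
  have hM' := (Groth.Agent.GrpSchLib.AntiAffine.bijective_appTop_iff M.hom).mp hM
  have hcomm : ∀ {T : Over (Spec (CommRingCat.of k))} (a b : T ⟶ M), a * b = b * a := fun a b => by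
    simpa using Groth.Agent.GrpSchLib.AntiAffine.commute hM' (𝟙 M) (by simp [MonObj.one_eq_one]) a b
  let φ : M ⟶ M := (𝟙 M) ^ n
  haveI : IsMonHom φ := by
    constructor
    · simp [φ, MonObj.comp_pow, MonObj.one_eq_one]
    · rw [MonObj.mul_eq_mul]
      simp only [φ, MonObj.comp_pow, MonObj.comp_mul, tensorHom_fst, tensorHom_snd, Category.comp_id]
      exact Commute.mul_pow (hcomm _ _) n
  haveI : IsSeparated M.hom := Groth.Agent.GrpSchLib.AntiAffine.isSeparated_grp M
  haveI : QuasiCompact φ.left := Groth.Agent.AGStr.quasiCompact_left φ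
  obtain ⟨S, _, j, p, hj, hp, hpj, hjc, hker, hqc, hs⟩ := Groth.Agent.GrpSchLib.DomHom.exists_schImage φ
  haveI := hj; haveI := hp; haveI := hjc; haveI := hs
  have hnS : AlgGrp.IsNormalHom j := fun T g s => ⟨s, by rw [hcomm g, mul_inv_cancel_right]⟩
  obtain ⟨T, _, t, _, ht, hk, _, hTl, hTq, hTsm, hTc⟩ := Groth.Agent.AGStr.QuotAlgClosed.exists_quotGrp M S j hnS
  obtain ⟨hts, htf, -, -⟩ := ht
  haveI := hts; haveI := htf; haveI := hTl; haveI := hTq
  haveI := hTsm inferInstance; haveI := hTc inferInstance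
  have hφt : φ ≫ t = 1 := by
    rw [← hpj, Category.assoc, hk.w, ← Category.assoc, comp_toUnit]
    rfl
  obtain ⟨L, _, l, Q, _, q, _, _, hLa, _, _, -, _, hqs, hqf, hkl, hQp, hQs, hQc⟩ :=
    Groth.Agent.AGStr.Chev.exists_chevalley T
  haveI := hLa; haveI := hqs; haveI := hqf; haveI := hQp; haveI := hQs; haveI := hQc
  haveI : GeometricallyIntegral Q.hom := Groth.Agent.AGStr.geometricallyIntegral_of_proper Q
  haveI : Surjective ((𝟙 Q) ^ n : Q ⟶ Q).left := Groth.Agent.AVMulN.surjective_pow n hn
  haveI : Surjective (t ≫ q).left := inferInstanceAs (Surjective (t.left ≫ q.left))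
  have hpt : ∀ y : Groth.Agent.AGStr.Chev.pts k k ⟶ Q, y = 1 := by
    intro y
    obtain ⟨y', rfl⟩ := Groth.Agent.AGStr.Chev.point_lift ((𝟙 Q) ^ n : Q ⟶ Q) y
    obtain ⟨g, rfl⟩ := Groth.Agent.AGStr.Chev.point_lift (t ≫ q) y'
    rw [MonObj.comp_pow, Category.comp_id, ← MonObj.pow_comp, show g ^ n = g ≫ φ by simp [φ, MonObj.comp_pow],
      Category.assoc, ← Category.assoc φ, hφt, MonObj.one_comp, MonObj.comp_one]
  have hq1 : t ≫ q = 1 := by
    haveI : IsReduced M.left := Groth.Agent.GrpSchLib.isReduced_of_smooth_field M.hom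
    exact Groth.Agent.AGStr.Chev.hom_ext_points fun r => (hpt _).trans (hpt _).symm
  let r : M ⟶ L := hkl.lift t (toUnit M) hq1
  have hr : r ≫ l = t := hkl.lift_fst _ _ _
  have ht1 : t = 1 := by
    rw [← hr, Groth.Agent.GrpSchLib.AntiAffine.eq_const_of_isAffine hM' r η[M], Category.assoc, Category.assoc,
      hr, IsMonHom.one_hom]
    rfl
  let s : M ⟶ S := hk.lift (𝟙 M) (toUnit M) ((Category.id_comp t).trans ht1)
  haveI : Surjective (s.left ≫ j.left) := by
    rw [← Over.comp_left, show s ≫ j = 𝟙 M from hk.lift_fst _ _ _, Over.id_left]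
    infer_instance
  haveI : Surjective j.left := Surjective.of_comp s.left j.left
  show Surjective φ.left
  rw [← hpj, Over.comp_left]
  infer_instance

end Groth.Agent.S14744
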