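import Groth.Statements.S14751
import Groth.Agent.AGStr.ProperAffine
import Groth.Agent.GrpSchLib.AntiAffineHom

set_option autoImplicit false
universe u
open CategoryTheory CategoryTheory.Limits MonoidalCategory CartesianMonoidalCategory MonObj GrpObj AlgebraicGeometry
open AlgGrp

namespace Groth.Agent.S14751

/-- Over an algebraically closed field k let G be a group variety (smooth connected k-group scheme of
finite type), i : N → G an affine closed subgroup scheme which is the kernel of a flat surjective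
homomorphism π : G → Q, and j : A → G an abelian subvariety (a smooth connected proper closed
subgroup scheme) with A · N = G, that is, the multiplication A × N → G is surjective. Then the
multiplication A × N → G is a homomorphism and an isogeny (surjective with finite kernel), and so is
the composite A → G → Q. (In the published statement N is the largest connected affine normal
subgroup variety and Q = G/N the Albanese quotient; only the listed properties are used.) -/
theorem result (k : Type u) [Field k] [IsAlgClosed k]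
    (G N A Q : Over (Spec (CommRingCat.of k))) [GrpObj G] [GrpObj N] [GrpObj A] [GrpObj Q]
    [Smooth G.hom] [QuasiCompact G.hom] [ConnectedSpace ↥G.left]
    (i : N ⟶ G) [IsMonHom i] [IsClosedImmersion i.left] [IsAffine N.left]
    (π : G ⟶ Q) [IsMonHom π] [Flat π.left] [Surjective π.left] (hker : AlgGrp.IsKernel i π)
    (j : A ⟶ G) [IsMonHom j] [IsClosedImmersion j.left] [Smooth A.hom] [ConnectedSpace ↥A.left] [IsProper A.hom]
    (hsurj : Surjective ((j ⊗ₘ i) ≫ μ[G]).left) :
    IsMonHom ((j ⊗ₘ i) ≫ μ[G]) ∧ SGA7.IsIsogenyOver ((j ⊗ₘ i) ≫ μ[G]) ∧ SGA7.IsIsogenyOver (j ≫ π) := by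
  haveI : LocallyOfFiniteType G.hom := inferInstance
  haveI := AGStr.geometricallyIntegral_of_proper A
  have hO : Function.Bijective A.hom.appTop := H23.Rigid.bijective_appTop A.hom
  have hc : ∀ (T : Over (Spec (CommRingCat.of k))) (x : T ⟶ A) (g : T ⟶ G), (x ≫ j) * g = g * (x ≫ j) :=
    fun T x g => GrpSchLib.AntiAffine.commute hO j ((IsMonHom.one_hom j).trans (MonObj.one_eq_one _)) x g
  have hp : ∀ (T : Over (Spec (CommRingCat.of k))) (p : T ⟶ A ⊗ N),
      p ≫ (j ⊗ₘ i) ≫ μ[G] = (p ≫ fst A N ≫ j) * (p ≫ snd A N ≫ i) := fun T p => by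
    rw [Hom.mul_def, ← Category.assoc]
    congr 1
    ext <;> simp
  have hmul : ∀ (T : Over (Spec (CommRingCat.of k))) (p q : T ⟶ A ⊗ N),
      (p * q) ≫ (j ⊗ₘ i) ≫ μ[G] = (p ≫ (j ⊗ₘ i) ≫ μ[G]) * (q ≫ (j ⊗ₘ i) ≫ μ[G]) := by
    intro T p q
    have e1 : (p * q) ≫ fst A N = (p ≫ fst A N) * (q ≫ fst A N) := MonObj.mul_comp _ _ _
    have e2 : (p * q) ≫ snd A N = (p ≫ snd A N) * (q ≫ snd A N) := MonObj.mul_comp _ _ _
    rw [hp, hp, hp, ← Category.assoc, e1, ← Category.assoc (p * q), e2]
    simp only [← Category.assoc, MonObj.mul_comp]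
    exact Commute.mul_mul_mul_comm (hc T (q ≫ fst A N) _) _ _
  have hhom : IsMonHom ((j ⊗ₘ i) ≫ μ[G]) := by
    refine ⟨?_, ?_⟩
    · have h1 := hmul (𝟙_ _) η[A ⊗ N] η[A ⊗ N]
      rw [MonObj.one_eq_one, _root_.one_mul] at h1
      rw [MonObj.one_eq_one, MonObj.one_eq_one]
      exact left_eq_mul.mp h1
    · have h1 := hmul ((A ⊗ N) ⊗ (A ⊗ N)) (fst _ _) (snd _ _)
      rw [Hom.mul_def, lift_fst_snd, Category.id_comp, Hom.mul_def] at h1
      rw [h1]
      congr 1
  have hfac : (j ⊗ₘ i) ≫ μ[G] ≫ π = fst A N ≫ j ≫ π := by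
    have h1 := hp (A ⊗ N) (𝟙 _)
    simp only [Category.id_comp] at h1
    rw [← Category.assoc, h1, MonObj.mul_comp, Category.assoc (snd A N), hker.w, ← Category.assoc (snd A N),
      comp_toUnit, Category.assoc]
    exact _root_.mul_one _
  refine ⟨hhom, ⟨hsurj, fun M m hm => ?_⟩, ⟨?_, fun M m hm => ?_⟩⟩
  · have h0 := hm.w
    rw [hp, MonObj.one_eq_one, MonObj.comp_one] at h0
    have h1 : (m ≫ fst A N) ≫ j = (m ≫ snd A N)⁻¹ ≫ i := by
      rw [Category.assoc, GrpObj.inv_comp, Category.assoc]
      exact eq_inv_of_mul_eq_one_left h0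
    refine AGStr.isFinite_inter (a := m ≫ fst A N) (b := (m ≫ snd A N)⁻¹) (j := j) (i := i)
      (IsPullback.of_isLimit' ⟨h1⟩ (Limits.PullbackCone.IsLimit.mk _
        (fun s => hm.lift (lift s.fst s.snd⁻¹) (toUnit _) ?_) (fun s => ?_) (fun s => ?_) (fun s l hl1 hl2 => ?_)))
    · rw [hp, lift_fst_assoc, lift_snd_assoc, GrpObj.inv_comp, s.condition, mul_inv_cancel]
      rfl
    · rw [← Category.assoc, hm.lift_fst, lift_fst]
    · rw [GrpObj.comp_inv, ← Category.assoc, hm.lift_fst, lift_snd, _root_.inv_inv]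
    · apply hm.hom_ext
      · rw [hm.lift_fst]
        apply CartesianMonoidalCategory.hom_ext
        · rw [lift_fst, Category.assoc, hl1]
        · rw [GrpObj.comp_inv] at hl2
          rw [lift_snd, Category.assoc, ← hl2, _root_.inv_inv]
      · exact toUnit_unique _ _
  · haveI := hsurj
    haveI : Surjective ((j ⊗ₘ i) ≫ μ[G] ≫ π).left := by
      rw [← Category.assoc, Over.comp_left]; infer_instance
    haveI : Surjective ((fst A N).left ≫ (j ≫ π).left) := by
      rw [← Over.comp_left, ← hfac]; infer_instance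
    exact Surjective.of_comp (fst A N).left (j ≫ π).left
  · have h0 := hm.w
    rw [← Category.assoc] at h0
    refine AGStr.isFinite_inter (a := m) (b := hker.lift (m ≫ j) (toUnit M) h0) (j := j) (i := i)
      (IsPullback.of_bot (h₂₁ := i) (v₂₁ := toUnit N) (v₂₂ := π) ?_ (hker.lift_fst _ _ _).symm hker)
    rw [toUnit_unique (_ ≫ toUnit N) (toUnit M)]
    exact hm.flip.flip

end Groth.Agent.S14751
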