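import Groth.Statements.S14754
import Groth.Agent.AGStr.SplitSeq

set_option autoImplicit false
universe u
open CategoryTheory CategoryTheory.Limits MonoidalCategory CartesianMonoidalCategory MonObj GrpObj AlgebraicGeometry
open AlgGrp

namespace Groth.Agent.S14754

/-- Over an algebraically closed field k, every exact sequence of split tori splits: if K, G, Q are
split tori over k, i : K → G a closed subgroup scheme which is the kernel of a flat surjective
homomorphism π : G → Q, then π has a section which is a homomorphism. -/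
theorem result (k : Type u) [Field k] [IsAlgClosed k]
    (K G Q : Over (Spec (CommRingCat.of k))) [GrpObj K] [GrpObj G] [GrpObj Q] (nK nG nQ : ℕ)
    (hK : Red.IsSplitTorusWith (Fin nK → ℤ) K) (hG : Red.IsSplitTorusWith (Fin nG → ℤ) G)
    (hQ : Red.IsSplitTorusWith (Fin nQ → ℤ) Q)
    (i : K ⟶ G) [IsMonHom i] [IsClosedImmersion i.left]
    (π : G ⟶ Q) [IsMonHom π] [Flat π.left] [Surjective π.left] (hker : AlgGrp.IsKernel i π) :
    ∃ s : Q ⟶ G, IsMonHom s ∧ s ≫ π = 𝟙 Q := by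
  obtain ⟨dK⟩ := GrpSchLib.AffineHopf.nonempty_DS_iso k (Fin nK → ℤ)
  obtain ⟨dG⟩ := GrpSchLib.AffineHopf.nonempty_DS_iso k (Fin nG → ℤ)
  obtain ⟨dQ⟩ := GrpSchLib.AffineHopf.nonempty_DS_iso k (Fin nQ → ℤ)
  obtain ⟨eK'⟩ := hK
  obtain ⟨eG'⟩ := hG
  obtain ⟨eQ'⟩ := hQ
  let eK := eK' ≪≫ dK.symm
  let eG := eG' ≪≫ dG.symm
  let eQ := eQ' ≪≫ dQ.symm
  haveI := eK.inv.hom.isMonHom_hom
  haveI := eG.hom.hom.isMonHom_hom
  haveI := eG.inv.hom.isMonHom_hom
  haveI := eQ.hom.hom.isMonHom_hom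
  haveI hKiso : IsIso eK.inv.hom.hom := ((Grp.forget _).mapIso eK).isIso_inv
  haveI hGiso : IsIso eG.inv.hom.hom := ((Grp.forget _).mapIso eG).isIso_inv
  haveI hQiso : IsIso eQ.hom.hom.hom := ((Grp.forget _).mapIso eQ).isIso_hom
  haveI : IsIso eG.inv.hom.hom.left := ((Over.forget _).mapIso ((Grp.forget _).mapIso eG)).isIso_inv
  haveI : IsIso eQ.hom.hom.hom.left := ((Over.forget _).mapIso ((Grp.forget _).mapIso eQ)).isIso_hom
  let π' := eG.inv.hom.hom ≫ π ≫ eQ.hom.hom.hom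
  let i' := eK.inv.hom.hom ≫ i ≫ eG.hom.hom.hom
  haveI : Flat π'.left := by simp only [π', Over.comp_left]; infer_instance
  haveI : Surjective π'.left := by simp only [π', Over.comp_left]; infer_instance
  have hker' : AlgGrp.IsKernel i' π' := by
    refine IsPullback.of_iso hker ((Grp.forget _).mapIso eK) ((Grp.forget _).mapIso eG) (Iso.refl _)
      ((Grp.forget _).mapIso eQ) ?_ ?_ ?_ ?_
    · show i ≫ eG.hom.hom.hom = eK.hom.hom.hom ≫ eK.inv.hom.hom ≫ i ≫ eG.hom.hom.hom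
      exact (((Grp.forget _).mapIso eK).hom_inv_id_assoc _).symm
    · exact toUnit_unique _ _
    · show π ≫ eQ.hom.hom.hom = eG.hom.hom.hom ≫ eG.inv.hom.hom ≫ π ≫ eQ.hom.hom.hom
      exact (((Grp.forget _).mapIso eG).hom_inv_id_assoc _).symm
    · show η[Q] ≫ eQ.hom.hom.hom = 𝟙 _ ≫ η[_]
      rw [Category.id_comp, IsMonHom.one_hom]
  obtain ⟨s, hs, hsπ⟩ := AGStr.exists_section (k := k) i' π' hker'
  haveI := hs
  refine ⟨eQ.hom.hom.hom ≫ s ≫ eG.inv.hom.hom, inferInstance, ?_⟩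
  rw [← cancel_mono eQ.hom.hom.hom, Category.id_comp, Category.assoc, Category.assoc, Category.assoc]
  show eQ.hom.hom.hom ≫ s ≫ π' = _
  rw [hsπ, Category.comp_id]

end Groth.Agent.S14754
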