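import Groth.Statements.S14756
import Groth.Agent.AGStr.Chev.Image

set_option autoImplicit false
universe u
open CategoryTheory CategoryTheory.Limits MonoidalCategory CartesianMonoidalCategory MonObj GrpObj AlgebraicGeometry
open AlgGrp

namespace Groth.Agent.S14756

/-- Over an algebraically closed field k let e → K → G → Q → e be an exact sequence of k-group schemes
of finite type with G smooth (i : K → G a closed subgroup scheme, kernel of the flat surjective
homomorphism π : G → Q), and let G_lin ⊆ G and Q_lin ⊆ Q be the largest smooth connected affine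
normal closed subgroup schemes (every other such subgroup factors through them). Then π maps G_lin
into Q_lin and the induced homomorphism G_lin → Q_lin is surjective. (The published proposition is
stated for all algebraic groups G; for the semidirect product of α_p by the multiplicative group
acting by scaling, with K = α_p, the largest smooth connected affine normal subgroup of G is trivial
while that of Q = G_m is everything, so G is taken smooth here, the case in which the published
proof's use of the Chevalley quotient G/G_lin being proper is valid. The published proposition also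
treats unipotent and solvable parts of linear groups and the finite index of K_lin in G_lin ∩ K;
only this assertion is stated.) -/
theorem result (k : Type u) [Field k] [IsAlgClosed k]
    (K G Q : Over (Spec (CommRingCat.of k))) [GrpObj K] [GrpObj G] [GrpObj Q]
    [QuasiCompact K.hom] [LocallyOfFiniteType K.hom] [Smooth G.hom] [QuasiCompact G.hom] [QuasiCompact Q.hom] [LocallyOfFiniteType Q.hom]
    (i : K ⟶ G) [IsMonHom i] [IsClosedImmersion i.left]
    (π : G ⟶ Q) [IsMonHom π] [Flat π.left] [Surjective π.left] (hker : AlgGrp.IsKernel i π)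
    (NG : Over (Spec (CommRingCat.of k))) [GrpObj NG] (iG : NG ⟶ G) [IsMonHom iG] [IsClosedImmersion iG.left]
    [Smooth NG.hom] [ConnectedSpace ↥NG.left] [IsAffine NG.left] (hNG : AlgGrp.IsNormalHom iG)
    (hNGmax : ∀ (N' : Over (Spec (CommRingCat.of k))) [GrpObj N'] (i' : N' ⟶ G) [IsMonHom i'] [IsClosedImmersion i'.left]
      [Smooth N'.hom] [ConnectedSpace ↥N'.left] [IsAffine N'.left], AlgGrp.IsNormalHom i' → ∃ f : N' ⟶ NG, f ≫ iG = i')
    (NQ : Over (Spec (CommRingCat.of k))) [GrpObj NQ] (iQ : NQ ⟶ Q) [IsMonHom iQ] [IsClosedImmersion iQ.left]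
    [Smooth NQ.hom] [ConnectedSpace ↥NQ.left] [IsAffine NQ.left] (hNQ : AlgGrp.IsNormalHom iQ)
    (hNQmax : ∀ (N' : Over (Spec (CommRingCat.of k))) [GrpObj N'] (i' : N' ⟶ Q) [IsMonHom i'] [IsClosedImmersion i'.left]
      [Smooth N'.hom] [ConnectedSpace ↥N'.left] [IsAffine N'.left], AlgGrp.IsNormalHom i' → ∃ f : N' ⟶ NQ, f ≫ iQ = i') :
    ∃ f : NG ⟶ NQ, f ≫ iQ = iG ≫ π ∧ Surjective f.left := by
  haveI : Smooth Q.hom := Groth.Agent.GrpSchLib.smooth_of_quotient π
  obtain ⟨S, _, j, p, _, _, _, _, _, hpj, hSs, hSc, hSa⟩ := Groth.Agent.AGStr.Chev.exists_image_affine (iG ≫ π)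
  haveI := hSs; haveI := hSc; haveI := hSa
  have hnS := Groth.Agent.AGStr.Chev.isNormalHom_image iG hNG π j p hpj
  obtain ⟨f', hf'⟩ := hNQmax S j hnS
  obtain ⟨T, _, t, _, ht, hk, _, hTl, hTq, -, -⟩ := Groth.Agent.AGStr.QuotAlgClosed.exists_quotGrp Q S j hnS
  obtain ⟨hts, htf, -, -⟩ := ht
  haveI := hts; haveI := htf; haveI := hTl; haveI := hTq
  haveI : Surjective (π ≫ t).left := inferInstanceAs (Surjective (π.left ≫ t.left))
  haveI : Flat (π ≫ t).left := inferInstanceAs (Flat (π.left ≫ t.left))
  have h1 : iG ≫ π ≫ t = 1 := by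
    rw [← Category.assoc, ← hpj, Category.assoc, hk.w, ← Category.assoc, comp_toUnit]
    rfl
  have h2 := Groth.Agent.AGStr.Chev.eq_one_of_affPart iG hNGmax (π ≫ t) h1 (iQ ≫ t)
  obtain ⟨g, hg⟩ : ∃ g : NQ ⟶ S, g ≫ j = iQ := ⟨hk.lift iQ (toUnit _) h2, hk.lift_fst _ _ _⟩
  refine ⟨p ≫ f', by rw [Category.assoc, hf', hpj], ?_⟩
  haveI : Mono iQ := (Over.forget _).mono_of_mono_map (inferInstanceAs (Mono iQ.left))
  haveI : Mono j := (Over.forget _).mono_of_mono_map (inferInstanceAs (Mono j.left))
  haveI : IsIso f' := ⟨g, by rw [← cancel_mono j, Category.assoc, hg, hf', Category.id_comp],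
    by rw [← cancel_mono iQ, Category.assoc, hf', hg, Category.id_comp]⟩
  haveI : IsIso f'.left := (Over.forget _).map_isIso f'
  exact inferInstanceAs (Surjective (p.left ≫ f'.left))

end Groth.Agent.S14756
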