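import Groth.Statements.S14759
import Groth.Agent.AGStr.Infinitesimal
import Groth.Agent.AGStr.InfQuotient
import Groth.Agent.AGStr.IsogFactor

set_option autoImplicit false
universe u
open CategoryTheory CategoryTheory.Limits MonoidalCategory CartesianMonoidalCategory MonObj GrpObj AlgebraicGeometry
open AlgGrp

namespace Groth.Agent.S14759

/-- Over a field k, every isogeny φ : G → H of k-group schemes of finite type (a surjective homomorphism
with finite kernel) factors as φ = χ ∘ ψ with ψ : G → Q a purely inseparable isogeny (its kernel is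
connected) followed by a separable isogeny χ : Q → H (its kernel is etale over k). (The published
definition of isogeny asks only for a finite kernel and an image of finite index in H; this row
takes φ surjective, which is the same notion when H is connected.) -/
theorem result (k : Type u) [Field k]
    (G H : Over (Spec (CommRingCat.of k))) [GrpObj G] [GrpObj H]
    [QuasiCompact G.hom] [LocallyOfFiniteType G.hom] [QuasiCompact H.hom] [LocallyOfFiniteType H.hom]
    (φ : G ⟶ H) [IsMonHom φ] (hφ : SGA7.IsIsogenyOver φ) :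
    ∃ (Q : Over (Spec (CommRingCat.of k))) (_ : GrpObj Q) (ψ : G ⟶ Q) (χ : Q ⟶ H),
      IsMonHom ψ ∧ IsMonHom χ ∧ ψ ≫ χ = φ ∧ SGA7.IsIsogenyOver ψ ∧ SGA7.IsIsogenyOver χ ∧
      (∀ (N : Over (Spec (CommRingCat.of k))) (n : N ⟶ G), AlgGrp.IsKernel n ψ → ConnectedSpace ↥N.left) ∧
      (∀ (N : Over (Spec (CommRingCat.of k))) (n : N ⟶ Q), AlgGrp.IsKernel n χ → Etale N.hom) := by
  haveI := GrpSchLib.AntiAffine.isSeparated_grp H
  obtain ⟨N, _, n, hn, hnc, hnn, hnk⟩ := GrpSchLib.exists_kernel φ
  haveI := hn; haveI := hnc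
  haveI : IsFinite N.hom := hφ.2 N n hnk
  obtain ⟨D, _, d, hd, hdo, hdc, hdn, hDf, hDu, hDn, hDr⟩ := AGStr.exists_infinitesimal n hnn
  haveI := hd; haveI := hdo; haveI := hdc; haveI := hdn; haveI := hDf; haveI := hDu
  haveI : IsClosedImmersion (d ≫ n).left := by rw [Over.comp_left]; infer_instance
  obtain ⟨Q, _, q, hq, hqs, hqf, hqfin, hqp, hQl, hQc, hp, hc⟩ :=
    AGStr.exists_quotient_infinitesimal G D (d ≫ n) hDn
  haveI := hq; haveI := hqs; haveI := hqf; haveI := hqfin; haveI := hqp; haveI := hQl; haveI := hQc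
  haveI : Mono (d ≫ n) := (Over.forget _).mono_of_mono_map (inferInstanceAs (Mono (d ≫ n).left))
  -- the kernel of the quotient map
  have hkD : AlgGrp.IsKernel (d ≫ n) q := by
    have h0 : ∀ (T : Over (Spec (CommRingCat.of k))) (g : T ⟶ G), g ≫ q = 1 ↔ ∃ h : T ⟶ D, h ≫ d ≫ n = g := by
      intro T g
      rw [show (1 : T ⟶ Q) = (1 : T ⟶ G) ≫ q from (MonObj.one_comp q).symm, eq_comm, hc T 1 g]
      simp [eq_comm]
    have hx : ∀ s : Limits.PullbackCone q η[Q], s.fst ≫ q = 1 := fun s => by
      have := s.condition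
      rw [toUnit_unique s.snd (toUnit _)] at this
      exact this.trans rfl
    refine IsPullback.of_isLimit' ⟨((h0 D (d ≫ n)).mpr ⟨𝟙 D, Category.id_comp _⟩).trans rfl⟩
      (Limits.PullbackCone.IsLimit.mk _ (fun s => ((h0 _ s.fst).mp (hx s)).choose)
        (fun s => ((h0 _ s.fst).mp (hx s)).choose_spec) (fun s => toUnit_unique _ _) (fun s l h1 _ => ?_))
    rw [← cancel_mono (d ≫ n), h1]
    exact (((h0 _ s.fst).mp (hx s)).choose_spec).symm
  obtain ⟨χ, ⟨hχ, hχh⟩, -⟩ := FpqcDescLib.exists_unique_hom hp hc φ (by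
    rw [Category.assoc, hnk.w, ← Category.assoc, comp_toUnit]; rfl)
  haveI := hχh
  have hDsub : Subsingleton D.left := ⟨fun x y => d.left.isOpenEmbedding.injective (by
    have hx : d.left x ∈ Set.range d.left := ⟨x, rfl⟩
    have hy : d.left y ∈ Set.range d.left := ⟨y, rfl⟩
    rw [hDr (IsLocalRing.closedPoint k)] at hx hy
    exact hx.trans hy.symm)⟩
  haveI := GrpSchLib.AntiAffine.isSeparated_grp Q
  haveI : Surjective (q.left ≫ χ.left) := by rw [← Over.comp_left, hχ]; exact hφ.1
  refine ⟨Q, inferInstance, q, χ, inferInstance, inferInstance, hχ, ⟨inferInstance, fun M m hm => ?_⟩,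
    ⟨Surjective.of_comp q.left χ.left, fun M m hm => ?_⟩, fun M m hm => ?_, fun M m hm => ?_⟩
  · haveI : IsIso (hm.isoIsPullback _ _ hkD).hom.left :=
      ((Over.forget _).mapIso (hm.isoIsPullback _ _ hkD)).isIso_hom
    rw [← Over.w (hm.isoIsPullback _ _ hkD).hom]
    infer_instance
  rotate_left
  · haveI : IsIso (hm.isoIsPullback _ _ hkD).hom.left :=
      ((Over.forget _).mapIso (hm.isoIsPullback _ _ hkD)).isIso_hom
    haveI : Subsingleton M.left := (hm.isoIsPullback _ _ hkD).hom.left.homeomorph.injective.subsingleton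
    haveI : Nonempty M.left := ⟨(hm.lift η[G] (𝟙 _) (by rw [IsMonHom.one_hom q, Category.id_comp])).left
      (IsLocalRing.closedPoint k)⟩
    exact { toPreconnectedSpace := ⟨Set.subsingleton_univ.isPreconnected⟩, toNonempty := inferInstance }
  all_goals
    obtain ⟨M', _, m', hm', hm'c, -, hm'k⟩ := GrpSchLib.exists_kernel χ
    haveI := hm'; haveI := hm'c
    haveI : IsIso (hm.isoIsPullback _ _ hm'k).hom.left :=
      ((Over.forget _).mapIso (hm.isoIsPullback _ _ hm'k)).isIso_hom
    rw [← Over.w (hm.isoIsPullback _ _ hm'k).hom]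
    obtain ⟨hfin, het⟩ := AGStr.finite_etale_of_kernel n q m' d hnk hkD hm'k hχ hDsub
    infer_instance

end Groth.Agent.S14759
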