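import Groth.Statements.S14763
import Groth.Agent.AGStr.Chev.RosDecomp
import Groth.Agent.AVIsog3.Basic

set_option autoImplicit false
universe u
open CategoryTheory CategoryTheory.Limits MonoidalCategory CartesianMonoidalCategory MonObj GrpObj AlgebraicGeometry
open AlgGrp

namespace Groth.Agent.S14763

/-- Over an algebraically closed field k let G be a commutative group variety (smooth connected
commutative k-group scheme of finite type) written as an extension 0 → L → G → A → 0 of an abelian
variety by its largest connected affine subgroup: i : L → G a smooth connected affine closed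
subgroup scheme, kernel of a flat surjective homomorphism π : G → A onto an abelian variety A
(proper, smooth, connected). Then the following are equivalent: (a) for some d ≥ 1 there is a
homomorphism s : A → G with π ∘ s equal to multiplication by d on A (the class of the extension is
killed by d: its pullback along multiplication by d splits); (b) there is an abelian subvariety A'
of G (a smooth connected proper closed subgroup scheme) with A' · L = G, that is, the multiplication
A' × L → G is surjective. (The published statement phrases (a) as the class of G having finite order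
in the group of extension classes and (b) as G being isogenous to L × A; the published proof passes
through exactly the two conditions stated here.) -/
theorem result (k : Type u) [Field k] [IsAlgClosed k]
    (G L A : Over (Spec (CommRingCat.of k))) [GrpObj G] [GrpObj L] [GrpObj A] [IsCommMonObj G]
    [Smooth G.hom] [QuasiCompact G.hom] [ConnectedSpace ↥G.left]
    (i : L ⟶ G) [IsMonHom i] [IsClosedImmersion i.left] [IsAffine L.left] [Smooth L.hom] [ConnectedSpace ↥L.left]
    (π : G ⟶ A) [IsMonHom π] [Flat π.left] [Surjective π.left] (hker : AlgGrp.IsKernel i π)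
    [IsProper A.hom] [Smooth A.hom] [ConnectedSpace ↥A.left] :
    (∃ d : ℕ, 0 < d ∧ ∃ s : A ⟶ G, IsMonHom s ∧ s ≫ π = (𝟙 A) ^ d) ↔
      (∃ (A' : Over (Spec (CommRingCat.of k))) (_ : GrpObj A') (j : A' ⟶ G), IsMonHom j ∧ IsClosedImmersion j.left ∧
        Smooth A'.hom ∧ ConnectedSpace ↥A'.left ∧ IsProper A'.hom ∧ Surjective ((j ⊗ₘ i) ≫ μ[G]).left) := by
  haveI : IsSeparated G.hom := Groth.Agent.GrpSchLib.AntiAffine.isSeparated_grp G
  haveI : GeometricallyIntegral A.hom := Groth.Agent.AGStr.geometricallyIntegral_of_proper A
  haveI : IsCommMonObj A := isCommMonObj_of_isProper_of_geometricallyIntegral A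
  constructor
  · rintro ⟨d, hd, s, hs, hsd⟩
    haveI := hs
    haveI : QuasiCompact s.left := Groth.Agent.AGStr.quasiCompact_left s
    obtain ⟨S, _, j, p, hj, hp, hpj, hjc, hkp, -, hps⟩ := Groth.Agent.GrpSchLib.DomHom.exists_schImage s
    haveI := hj; haveI := hp; haveI := hjc; haveI := hps
    haveI : IsReduced A.left := Groth.Agent.GrpSchLib.isReduced_of_smooth_field A.hom
    haveI : IsSchemeTheoreticallyDominant p.left := (isSchemeTheoreticallyDominant_iff _).mpr hkp
    haveI : IsReduced S.left := Groth.Agent.Triage.SchDense.isReduced_of_isReduced p.left inferInstance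
    haveI : LocallyOfFiniteType S.hom := by rw [← Over.w j]; infer_instance
    haveI : QuasiCompact S.hom := by rw [← Over.w j]; infer_instance
    haveI : Smooth S.hom := Groth.Agent.GrpSchLib.smooth_of_perfectField_of_isReduced S
    haveI : ConnectedSpace S.left := Groth.Agent.FBaseLib.connectedSpace_of_surjective p.left
    haveI : IsProper S.hom := by
      haveI : IsSeparated S.hom := Groth.Agent.GrpSchLib.AntiAffine.isSeparated_grp S
      haveI : UniversallyClosed (p.left ≫ S.hom) := by rw [Over.w]; infer_instance
      haveI : UniversallyClosed S.hom := UniversallyClosed.of_comp_surjective p.left S.hom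
      exact ⟨⟩
    refine ⟨S, inferInstance, j, hj, hjc, inferInstance, inferInstance, inferInstance, ?_⟩
    haveI : IsMonHom ((j ⊗ₘ i) ≫ μ[G]) :=
      Groth.Agent.AGStr.Chev.isMonHom_mul j i fun x y => Commute.all _ _
    haveI : LocallyOfFiniteType (S ⊗ L).hom :=
      inferInstanceAs (LocallyOfFiniteType (CategoryTheory.Limits.pullback.fst S.hom L.hom ≫ S.hom))
    haveI : QuasiCompact L.hom := inferInstance
    haveI : QuasiCompact (S ⊗ L).hom :=
      inferInstanceAs (QuasiCompact (CategoryTheory.Limits.pullback.fst S.hom L.hom ≫ S.hom))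
    haveI : Surjective ((𝟙 A) ^ d : A ⟶ A).left := Groth.Agent.AVMulN.surjective_pow d hd
    refine Groth.Agent.AGStr.Chev.surjective_of_points _ fun g => ?_
    obtain ⟨y, hy⟩ := Groth.Agent.AGStr.Chev.point_lift ((𝟙 A) ^ d : A ⟶ A) (g ≫ π)
    have hl : (g * (y ≫ s)⁻¹) ≫ π = toUnit _ ≫ η[A] := by
      rw [MonObj.mul_comp, GrpObj.inv_comp, Category.assoc, hsd, hy, mul_inv_cancel]; rfl
    refine ⟨lift (y ≫ p) (hker.lift _ (toUnit _) hl), ?_⟩
    rw [MonObj.mul_eq_mul, MonObj.comp_mul, MonObj.comp_mul, lift_map_assoc, lift_map_assoc, lift_fst, lift_snd,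
      hker.lift_fst, Category.assoc, hpj, mul_comm, inv_mul_cancel_right]
  · rintro ⟨B, _, j, hj, hjc, hBs, hBc, hBp, hsurj⟩
    haveI := hj; haveI := hjc; haveI := hBs; haveI := hBc; haveI := hBp; haveI := hsurj
    haveI : GeometricallyIntegral B.hom := Groth.Agent.AGStr.geometricallyIntegral_of_proper B
    haveI : IsSeparated A.hom := inferInstance
    obtain ⟨K, _, κ, _, _, -, hK⟩ := Groth.Agent.GrpSchLib.exists_kernel (j ≫ π)
    haveI : LocallyOfFiniteType K.hom := by rw [← Over.w κ]; infer_instance
    haveI : IsProper K.hom := by rw [← Over.w κ]; infer_instance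
    haveI : IsFinite K.hom := by
      have hκ : (κ ≫ j) ≫ π = toUnit K ≫ η[A] := by rw [Category.assoc]; exact hK.w
      let b : K ⟶ L := hker.lift (κ ≫ j) (toUnit K) hκ
      haveI : IsClosedImmersion (b.left ≫ i.left) := by
        rw [← Over.comp_left, show b ≫ i = κ ≫ j from hker.lift_fst _ _ _]
        exact inferInstanceAs (IsClosedImmersion (κ.left ≫ j.left))
      haveI : IsClosedImmersion b.left := IsClosedImmersion.of_comp b.left i.left
      haveI : IsAffineHom K.hom := by rw [← Over.w b]; infer_instance
      exact IsFinite.iff_isProper_and_isAffineHom.mpr ⟨inferInstance, inferInstance⟩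
    haveI : IsFinite (j ≫ π).left := by
      refine Groth.Agent.AGStr.Chev.isFinite_of_finite_ker (j ≫ π) ?_
      haveI : IsFinite (toUnit K).left := by
        rw [show (toUnit K).left = K.hom by rw [← Over.w (toUnit K)]; rfl]; infer_instance
      refine ((Groth.Agent.AGStr.Chev.finite_points_of_isFinite (toUnit K) (toUnit _)).image (fun x => x ≫ κ)).subset ?_
      intro g hg
      exact ⟨hK.lift g (toUnit _) (hg.trans rfl), toUnit_unique _ _, hK.lift_fst _ _ _⟩
    haveI : Surjective (j ≫ π).left := by
      refine Groth.Agent.AGStr.Chev.surjective_of_points _ fun y => ?_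
      obtain ⟨g, rfl⟩ := Groth.Agent.AGStr.Chev.point_lift π y
      haveI : LocallyOfFiniteType (B ⊗ L).hom :=
        inferInstanceAs (LocallyOfFiniteType (CategoryTheory.Limits.pullback.fst B.hom L.hom ≫ B.hom))
      obtain ⟨x, rfl⟩ := Groth.Agent.AGStr.Chev.point_lift ((j ⊗ₘ i) ≫ μ[G]) g
      refine ⟨x ≫ fst B L, ?_⟩
      rw [MonObj.mul_eq_mul, MonObj.comp_mul, MonObj.comp_mul, tensorHom_fst, tensorHom_snd, MonObj.mul_comp,
        Category.assoc x (snd B L ≫ i) π, Category.assoc (snd B L) i π, hker.w, ← Category.assoc (snd B L),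
        comp_toUnit, ← Category.assoc x (toUnit _), comp_toUnit, show toUnit _ ≫ η[A] = 1 from rfl, _root_.mul_one]
      simp only [Category.assoc]
    obtain ⟨n, g, hn, hg, -, hgf⟩ := Groth.Agent.AVIsog3.exists_quasiInverse (j ≫ π)
    haveI := hg
    exact ⟨n, hn, g ≫ j, inferInstance, by rw [Category.assoc, hgf]⟩

end Groth.Agent.S14763
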