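import Groth.Statements.S14764
import Groth.Agent.AGStr.Chev.RosDecomp
import Groth.Agent.S5797

set_option autoImplicit false
universe u
open CategoryTheory CategoryTheory.Limits MonoidalCategory CartesianMonoidalCategory MonObj GrpObj AlgebraicGeometry
open AlgGrp

namespace Groth.Agent.S14764

/-- Over an algebraically closed field k let G be a group variety (smooth connected k-group scheme of
finite type), i : G_lin → G its largest smooth connected affine normal closed subgroup scheme, j : D
→ G its largest anti-affine closed subgroup scheme G_ant (global functions the constants; every such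
subgroup factors through it), and i_D : D_lin → D the largest smooth connected affine normal closed
subgroup scheme of D. Then D_lin is contained in G_lin (i_D ∘ j factors through i) and has finite
index in the scheme-theoretic intersection D ∩ G_lin, in the sense that D_lin and D ×_G G_lin have
the same dimension; equivalently D_lin is the reduced identity component of D ∩ G_lin. -/
theorem result (k : Type u) [Field k] [IsAlgClosed k]
    (G : Over (Spec (CommRingCat.of k))) [GrpObj G] [Smooth G.hom] [QuasiCompact G.hom] [ConnectedSpace ↥G.left]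
    (N : Over (Spec (CommRingCat.of k))) [GrpObj N] (i : N ⟶ G) [IsMonHom i] [IsClosedImmersion i.left]
    [Smooth N.hom] [ConnectedSpace ↥N.left] [IsAffine N.left] (hN : AlgGrp.IsNormalHom i)
    (hNmax : (∀ (N' : Over (Spec (CommRingCat.of k))) [GrpObj N'] (i' : N' ⟶ G) [IsMonHom i'] [IsClosedImmersion i'.left]
      [Smooth N'.hom] [ConnectedSpace ↥N'.left] [IsAffine N'.left], AlgGrp.IsNormalHom i' → ∃ f : N' ⟶ N, f ≫ i = i'))
    (D : Over (Spec (CommRingCat.of k))) [GrpObj D] (j : D ⟶ G) [IsMonHom j] [IsClosedImmersion j.left]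
    (hD : Function.Bijective ((Scheme.ΓSpecIso (CommRingCat.of k)).inv ≫ D.hom.appTop).hom)
    (hDmax : ∀ (M' : Over (Spec (CommRingCat.of k))) [GrpObj M'] (j' : M' ⟶ G) [IsMonHom j'] [IsClosedImmersion j'.left],
      Function.Bijective ((Scheme.ΓSpecIso (CommRingCat.of k)).inv ≫ M'.hom.appTop).hom → ∃ f : M' ⟶ D, f ≫ j = j')
    (ND : Over (Spec (CommRingCat.of k))) [GrpObj ND] (iD : ND ⟶ D) [IsMonHom iD] [IsClosedImmersion iD.left]
    [Smooth ND.hom] [ConnectedSpace ↥ND.left] [IsAffine ND.left] (hND : AlgGrp.IsNormalHom iD)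
    (hNDmax : (∀ (N' : Over (Spec (CommRingCat.of k))) [GrpObj N'] (i' : N' ⟶ D) [IsMonHom i'] [IsClosedImmersion i'.left]
      [Smooth N'.hom] [ConnectedSpace ↥N'.left] [IsAffine N'.left], AlgGrp.IsNormalHom i' → ∃ f : N' ⟶ ND, f ≫ iD = i')) :
    (∃ g : ND ⟶ N, g ≫ i = iD ≫ j) ∧
      topologicalKrullDim ↥ND.left = topologicalKrullDim ↥(pullback j.left i.left) := by
  have hD' := (Groth.Agent.GrpSchLib.AntiAffine.bijective_appTop_iff D.hom).mp hD
  haveI : LocallyOfFiniteType D.hom := by rw [← Over.w j]; infer_instance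
  haveI : QuasiCompact D.hom := by rw [← Over.w j]; infer_instance
  haveI : Smooth D.hom := Groth.Agent.GrpSchLib.AntiAffineSmooth.smooth hD'
  obtain ⟨L, _, l, Q, _, q, _, _, _, _, _, hln, _, _, _, hk, hQp, _, _⟩ := Groth.Agent.AGStr.Chev.exists_chevalley G
  haveI := hQp
  obtain ⟨b, hb⟩ := hNmax L l hln
  obtain ⟨c, hc⟩ := Groth.Agent.AGStr.Chev.exists_factor_kernel l q hk (iD ≫ j)
  have hg : (c ≫ b) ≫ i = iD ≫ j := by rw [Category.assoc, hb, hc]
  refine ⟨⟨c ≫ b, hg⟩, ?_⟩
  -- the intersection as a subgroup of `D`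
  let P : Over (Spec (CommRingCat.of k)) := pullback j i
  let π : P ⟶ D := pullback.fst j i
  haveI : Mono i := (Over.forget _).mono_of_mono_map (inferInstanceAs (Mono i.left))
  haveI : Mono π := inferInstance
  have hpl : IsPullback π.left (pullback.snd j i).left j.left i.left := (IsPullback.of_hasPullback j i).map (Over.forget _)
  haveI : IsClosedImmersion π.left := MorphismProperty.of_isPullback hpl.flip ‹IsClosedImmersion i.left›
  haveI : IsClosedImmersion (pullback.snd j i).left := MorphismProperty.of_isPullback hpl ‹IsClosedImmersion j.left›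
  haveI : IsAffine P.left := isAffine_of_isAffineHom (pullback.snd j i).left
  have hpmem : ∀ {T : Over (Spec (CommRingCat.of k))} (d : T ⟶ D), (∃ y : T ⟶ N, y ≫ i = d ≫ j) → ∃ z : T ⟶ P, z ≫ π = d :=
    fun d ⟨y, hy⟩ => ⟨pullback.lift d y hy.symm, pullback.lift_fst _ _ _⟩
  obtain ⟨e, he⟩ := hpmem η[D] ⟨η[N], by rw [IsMonHom.one_hom, IsMonHom.one_hom]⟩
  obtain ⟨μ', hμ'⟩ := hpmem ((fst P P ≫ π) * (snd P P ≫ π))
    ⟨(fst P P ≫ pullback.snd j i) * (snd P P ≫ pullback.snd j i), by
      rw [MonObj.mul_comp, MonObj.mul_comp, Category.assoc, Category.assoc, Category.assoc, Category.assoc,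
        ← pullback.condition]⟩
  obtain ⟨v, hv⟩ := hpmem π⁻¹ ⟨(pullback.snd j i)⁻¹, by rw [GrpObj.inv_comp, GrpObj.inv_comp, ← pullback.condition]⟩
  obtain ⟨str, hπ⟩ := Groth.Agent.GrpSchLib.exists_grpObj_of_mono π e he μ' hμ' v hv
  letI := str
  haveI := hπ
  haveI : IsSeparated D.hom := Groth.Agent.GrpSchLib.AntiAffine.isSeparated_grp D
  haveI : ConnectedSpace D.left := Groth.Agent.GrpSchLib.AntiAffine.connectedSpace_of_bijective hD'
  obtain ⟨C, _, m, _, _, hCs, hCc, -, hCa, hCn, -, F, hF⟩ := Groth.Agent.AGStr.Chev.exists_core π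
  haveI := hCs; haveI := hCc; haveI := hCa inferInstance
  haveI : IsClosedImmersion (m ≫ π).left := inferInstanceAs (IsClosedImmersion (m.left ≫ π.left))
  have hn : AlgGrp.IsNormalHom (m ≫ π) := fun T x y => ⟨y, by
    have := Groth.Agent.GrpSchLib.AntiAffine.commute hD' (𝟙 D) (by simp [MonObj.one_eq_one]) (y ≫ m ≫ π) x
    simp only [Category.comp_id] at this
    rw [← this, mul_inv_cancel_right]⟩
  obtain ⟨u, hu⟩ := hNDmax C (m ≫ π) hn
  haveI : IsSeparated ND.hom := Groth.Agent.GrpSchLib.AntiAffine.isSeparated_grp ND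
  haveI : IsClosedImmersion u.left := by
    haveI : IsClosedImmersion (u.left ≫ iD.left) := by rw [← Over.comp_left, hu]; infer_instance
    exact IsClosedImmersion.of_comp u.left iD.left
  obtain ⟨z, hz⟩ := hpmem iD ⟨c ≫ b, hg⟩
  haveI : IsClosedImmersion z.left := by
    haveI : IsClosedImmersion (z.left ≫ π.left) := by rw [← Over.comp_left, hz]; infer_instance
    exact IsClosedImmersion.of_comp z.left π.left
  have hP : topologicalKrullDim P.left = topologicalKrullDim (pullback j.left i.left : Scheme.{u}) :=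
    (IsHomeomorph.topologicalKrullDim_eq _ hpl.isoPullback.hom.homeomorph.isHomeomorph)
  rw [← hP]
  refine le_antisymm z.left.isClosedEmbedding.isInducing.topologicalKrullDim_le ?_
  -- `P` is covered by finitely many translates of its core
  haveI : LocallyOfFiniteType P.hom := by rw [← Over.w π]; infer_instance
  let Y : ULift.{u} F → Set P.left := fun a => Set.range (m ≫ Groth.Agent.AGStr.Chev.transl a.down.1).left
  have hiso : ∀ a : Groth.Agent.AGStr.Chev.pts k k ⟶ P, IsClosedImmersion (m ≫ Groth.Agent.AGStr.Chev.transl a).left := fun a => by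
    haveI : IsIso (Groth.Agent.AGStr.Chev.transl a).left := ⟨(Groth.Agent.AGStr.Chev.transl a⁻¹).left,
      by rw [← Over.comp_left, Groth.Agent.AGStr.Chev.transl_comp, inv_mul_cancel, Groth.Agent.AGStr.Chev.transl_one]; rfl,
      by rw [← Over.comp_left, Groth.Agent.AGStr.Chev.transl_comp, mul_inv_cancel, Groth.Agent.AGStr.Chev.transl_one]; rfl⟩
    exact inferInstanceAs (IsClosedImmersion (m.left ≫ (Groth.Agent.AGStr.Chev.transl a).left))
  have hY : ∀ a, IsClosed (Y a) := fun a =>
    haveI := hiso a.down.1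
    (m ≫ Groth.Agent.AGStr.Chev.transl a.down.1).left.isClosedEmbedding.isClosed_range
  have hcov : ⋃ a, Y a = Set.univ := by
    by_contra hne
    obtain ⟨w, hw⟩ := (Set.ne_univ_iff_exists_notMem _).mp hne
    obtain ⟨g, hg'⟩ := Groth.Agent.AGStr.Chev.point_exists_mem (X := P) (Z := (⋃ a, Y a)ᶜ)
      (isClosed_iUnion_of_finite hY).isOpen_compl.isLocallyClosed ⟨w, hw⟩
    obtain ⟨a, ha, g₀, hg₀⟩ := hF g
    refine hg' (Set.mem_iUnion.mpr ⟨⟨⟨a, ha⟩⟩, g₀.left (IsLocalRing.closedPoint k), ?_⟩)
    rw [← Scheme.Hom.comp_apply, ← Over.comp_left, ← Category.assoc, Groth.Agent.AGStr.Chev.comp_transl,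
      Groth.Agent.AGStr.Chev.cst_self, hg₀]
  rw [Groth.Agent.S5797.result P.left _ Y hY hcov]
  refine iSup_le fun a => ?_
  haveI := hiso a.down.1
  have h1 : topologicalKrullDim C.left = topologicalKrullDim (Y a) :=
    IsHomeomorph.topologicalKrullDim_eq _ (Homeomorph.isHomeomorph
      (m ≫ Groth.Agent.AGStr.Chev.transl a.down.1).left.isClosedEmbedding.isEmbedding.toHomeomorph)
  rw [← h1]
  exact u.left.isClosedEmbedding.isInducing.topologicalKrullDim_le

end Groth.Agent.S14764
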