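import Groth.Statements.S1481
import Mathlib

set_option autoImplicit false
universe u
open FlatMor

namespace Groth.Agent.S1481

open AlgebraicGeometry CategoryTheory Limits in
/-- Let f : X → S, y a point of X with image t, Y the closure of y, s a point of S and x a point of Y
over s which is generic in an irreducible component of the fibre of Y over s (fibres as subspaces).
Then there are a valuation ring R and a morphism g : Spec R → S sending the generic point to t and
the closed point to s, such that, writing X' for the base change with projections g' : X' → X and f'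
: X' → Spec R, there is a point y' of X' over the generic point with g' y' = y which is generic in
an irreducible component of the generic fibre of g'⁻¹(Y), and a point x' in the closure of y' over
the closed point with g' x' = x which is generic in an irreducible component of the special fibre of
the closure of y'. -/
theorem result {X S : Scheme.{u}} (f : X ⟶ S) (y : X) (s : S) (x : X)
    (hx : x ∈ closure ({y} : Set ↑X)) (hxs : f x = s)
    (hgen : ∃ C ∈ irreducibleComponents ↑(closure ({y} : Set ↑X) ∩ f ⁻¹' {s}), IsGenericPoint (⟨x, hx, hxs⟩ : ↑(closure ({y} : Set ↑X) ∩ f ⁻¹' {s})) C) :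
    ∃ (R : Type u) (_ : CommRing R) (_ : IsDomain R) (_ : ValuationRing R) (g : Spec (CommRingCat.of R) ⟶ S),
      g (⊥ : PrimeSpectrum R) = f y ∧ g (IsLocalRing.closedPoint R) = s ∧
      ∃ (y' : ↑(pullback f g)) (hy't : pullback.snd f g y' = (⊥ : PrimeSpectrum R)) (hy'Y : pullback.fst f g y' ∈ closure ({y} : Set ↑X)),
        pullback.fst f g y' = y ∧
        (∃ C ∈ irreducibleComponents ↑((pullback.fst f g) ⁻¹' closure ({y} : Set ↑X) ∩ (pullback.snd f g) ⁻¹' {(⊥ : PrimeSpectrum R)}),
          IsGenericPoint (⟨y', hy'Y, hy't⟩ : ↑((pullback.fst f g) ⁻¹' closure ({y} : Set ↑X) ∩ (pullback.snd f g) ⁻¹' {(⊥ : PrimeSpectrum R)})) C) ∧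
        ∃ (x' : ↑(pullback f g)) (hx' : x' ∈ closure ({y'} : Set ↑(pullback f g))) (hx's : pullback.snd f g x' = IsLocalRing.closedPoint R),
          pullback.fst f g x' = x ∧
          ∃ C ∈ irreducibleComponents ↑(closure ({y'} : Set ↑(pullback f g)) ∩ (pullback.snd f g) ⁻¹' {IsLocalRing.closedPoint R}),
            IsGenericPoint (⟨x', hx', hx's⟩ : ↑(closure ({y'} : Set ↑(pullback f g)) ∩ (pullback.snd f g) ⁻¹' {IsLocalRing.closedPoint R})) C := by
  subst hxs
  have h : y ⤳ x := specializes_iff_mem_closure.2 hx
  -- the valuation rings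
  let r : X.presheaf.stalk x ⟶ X.residueField y := X.presheaf.stalkSpecializes h ≫ X.residue y
  obtain ⟨A, hA, hA_local⟩ := IsLocalRing.exists_factor_valuationRing r.hom
  let R : ValuationSubring (S.residueField (f y)) := A.comap (f.residueFieldMap y).hom
  let rS : S.presheaf.stalk (f x) ⟶ S.residueField (f y) :=
    S.presheaf.stalkSpecializes (h.map f.continuous) ≫ S.residue (f y)
  have hrS : f.stalkMap x ≫ r = rS ≫ f.residueFieldMap y := by
    simp only [r, rS, Category.assoc, Scheme.residue_residueFieldMap]
    exact (Scheme.Hom.stalkSpecializes_stalkMap_assoc f y x h (X.residue y)).symm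
  have hR : ∀ a, rS.hom a ∈ R := fun a => by
    show (f.residueFieldMap y).hom (rS.hom a) ∈ A
    have e : (f.residueFieldMap y).hom (rS.hom a) = r.hom ((f.stalkMap x).hom a) :=
      (congr($(hrS).hom a)).symm
    rw [e]
    exact hA _
  let σA : X.presheaf.stalk x ⟶ CommRingCat.of A := CommRingCat.ofHom (r.hom.codRestrict A.toSubring hA)
  let σR : S.presheaf.stalk (f x) ⟶ CommRingCat.of R := CommRingCat.ofHom (rS.hom.codRestrict R.toSubring hR)
  let φ : CommRingCat.of R ⟶ CommRingCat.of A :=
    CommRingCat.ofHom (((f.residueFieldMap y).hom.comp R.subtype).codRestrict A.toSubring fun a => a.2)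
  have hσ : σR ≫ φ = f.stalkMap x ≫ σA := by
    ext a
    exact (congr($(hrS).hom a)).symm
  let g : Spec (CommRingCat.of R) ⟶ S := Spec.map σR ≫ S.fromSpecStalk (f x)
  let l : Spec (CommRingCat.of A) ⟶ X := Spec.map σA ≫ X.fromSpecStalk x
  have hlg : l ≫ f = Spec.map φ ≫ g := by
    simp only [l, g, Category.assoc]
    rw [← Spec.map_comp_assoc, hσ, Spec.map_comp, Category.assoc, Scheme.SpecMap_stalkMap_fromSpecStalk]
  let j : Spec (S.residueField (f y)) ⟶ Spec (CommRingCat.of R) := Spec.map (CommRingCat.ofHom R.subtype)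
  have hj : j ≫ g = S.fromSpecResidueField (f y) := by
    simp only [j, g]
    rw [← Spec.map_comp_assoc]
    show Spec.map rS ≫ S.fromSpecStalk (f x) = _
    rw [Spec.map_comp, Category.assoc, Scheme.SpecMap_stalkSpecializes_fromSpecStalk]
    rfl
  have hjbot : ∀ p, j p = (⊥ : PrimeSpectrum R) := fun p => PrimeSpectrum.ext (by
    show Ideal.comap R.subtype (p.asIdeal) = ⊥
    rw [eq_bot_iff]
    intro a ha
    have hp : p.asIdeal = ⊥ := (Ideal.eq_bot_or_top p.asIdeal).resolve_right p.2.ne_top
    rw [Ideal.mem_comap, hp, Ideal.mem_bot] at ha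
    exact Subtype.ext ha)
  haveI : IsLocalHom φ.hom := ⟨fun a ha => by
    obtain ⟨b, hb⟩ := ha.exists_right_inv
    have ha0 : (a : S.residueField (f y)) ≠ 0 := fun h0 => by
      apply zero_ne_one (α := A)
      rw [← hb, show φ.hom a = 0 from Subtype.ext (by simp [φ, h0]), zero_mul]
    refine IsUnit.of_mul_eq_one (b := (⟨(a : S.residueField (f y))⁻¹, ?_⟩ : R))
      (Subtype.ext (mul_inv_cancel₀ ha0))
    show (f.residueFieldMap y).hom (a : S.residueField (f y))⁻¹ ∈ A
    have hb' : (f.residueFieldMap y).hom (a : S.residueField (f y)) * (b : X.residueField y) = 1 :=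
      congrArg Subtype.val hb
    rw [map_inv₀, ← eq_inv_of_mul_eq_one_right hb']
    exact b.2⟩
  have hgs : g (IsLocalRing.closedPoint R) = f x := by
    have h1 : Spec.map φ (IsLocalRing.closedPoint A) = IsLocalRing.closedPoint R := by
      exact IsLocalRing.comap_closedPoint φ.hom
    rw [← h1, ← Scheme.Hom.comp_apply, ← hlg, Scheme.Hom.comp_apply]
    congr 1
    show (Spec.map σA ≫ X.fromSpecStalk x) (IsLocalRing.closedPoint A) = x
    rw [Scheme.Hom.comp_apply, show Spec.map σA (IsLocalRing.closedPoint A) = IsLocalRing.closedPoint (X.presheaf.stalk x)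
      from IsLocalRing.comap_closedPoint (S := A) (r.hom.codRestrict A.toSubring hA), X.fromSpecStalk_closedPoint]
  -- the points over the generic and closed points of `A`
  let L : Spec (CommRingCat.of A) ⟶ pullback f g := pullback.lift l (Spec.map φ) hlg
  let iA : Spec (X.residueField y) ⟶ Spec (CommRingCat.of A) := Spec.map (CommRingCat.ofHom A.subtype)
  let ηA : Spec (CommRingCat.of A) := iA (IsLocalRing.closedPoint (X.residueField y))
  have hiAl : iA ≫ l = X.fromSpecResidueField y := by
    simp only [iA, l]
    rw [← Spec.map_comp_assoc]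
    show Spec.map r ≫ X.fromSpecStalk x = _
    rw [Spec.map_comp, Category.assoc, Scheme.SpecMap_stalkSpecializes_fromSpecStalk]
    rfl
  have hiAφ : iA ≫ Spec.map φ = Spec.map (f.residueFieldMap y) ≫ j := by
    simp only [iA, j, ← Spec.map_comp]
    rfl
  let y' := L ηA
  let x₀ := L (IsLocalRing.closedPoint A)
  have hy'y : pullback.fst f g y' = y := by
    show (iA ≫ L ≫ pullback.fst f g) _ = y
    rw [pullback.lift_fst, hiAl, X.fromSpecResidueField_apply]
  have hy't : pullback.snd f g y' = (⊥ : PrimeSpectrum R) := by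
    show (iA ≫ L ≫ pullback.snd f g) _ = _
    rw [pullback.lift_snd, hiAφ, Scheme.Hom.comp_apply, hjbot]
  have hy'Y : pullback.fst f g y' ∈ closure ({y} : Set ↑X) := hy'y.symm ▸ subset_closure rfl
  have hx₀ : pullback.fst f g x₀ = x := by
    show (L ≫ pullback.fst f g) _ = x
    rw [pullback.lift_fst]
    show (Spec.map σA ≫ X.fromSpecStalk x) (IsLocalRing.closedPoint A) = x
    rw [Scheme.Hom.comp_apply, show Spec.map σA (IsLocalRing.closedPoint A) = IsLocalRing.closedPoint (X.presheaf.stalk x)
      from IsLocalRing.comap_closedPoint (S := A) (r.hom.codRestrict A.toSubring hA), X.fromSpecStalk_closedPoint]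
  have hy'x₀ : y' ⤳ x₀ := (IsLocalRing.specializes_closedPoint (R := A) ηA).map L.continuous
  have hsR : ∀ z : ↑(pullback f g), x₀ = z → pullback.snd f g z = IsLocalRing.closedPoint R := by
    rintro z rfl
    have e : (pullback.fst f g ≫ f) x₀ = (pullback.snd f g ≫ g) x₀ := by rw [pullback.condition]
    have h1 : Spec.map φ (IsLocalRing.closedPoint A) = pullback.snd f g x₀ := by
      show _ = (L ≫ pullback.snd f g) _
      rw [pullback.lift_snd]
    rw [← h1]
    exact IsLocalRing.comap_closedPoint φ.hom
  refine ⟨R, inferInstance, inferInstance, inferInstance, g, ?_, hgs, y', hy't, hy'Y, hy'y, ?_, ?_⟩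
  · rw [← hjbot (IsLocalRing.closedPoint (S.residueField (f y))), ← Scheme.Hom.comp_apply, hj,
      S.fromSpecResidueField_apply]
  · -- `y'` is generic in its fibre
    let J : pullback f (S.fromSpecResidueField (f y)) ⟶ pullback f g :=
      pullback.map f _ f g (𝟙 X) j (𝟙 S) (by simp) (by simp [hj])
    have hJ : ∀ z : ↑(pullback f g), pullback.snd f g z = (⊥ : PrimeSpectrum R) → z ∈ Set.range J := by
      intro z hz
      rw [Scheme.Pullback.range_map]
      exact ⟨⟨_, rfl⟩, ⟨IsLocalRing.closedPoint (S.residueField (f y)), (hjbot _).trans hz.symm⟩⟩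
    have hall : ∀ z : ↑(pullback f g), pullback.fst f g z ∈ closure ({y} : Set ↑X) →
        pullback.snd f g z = (⊥ : PrimeSpectrum R) → y' ⤳ z := by
      intro z hz₁ hz₂
      obtain ⟨a, rfl⟩ := hJ z hz₂
      obtain ⟨b, hb⟩ := hJ y' hy't
      have e : J ≫ pullback.fst f g = pullback.fst f (S.fromSpecResidueField (f y)) :=
        (pullback.lift_fst _ _ _).trans (Category.comp_id _)
      rw [← hb]
      refine Specializes.map ?_ J.continuous
      rw [← (pullback.fst f (S.fromSpecResidueField (f y))).isEmbedding.toIsInducing.specializes_iff, ← e,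
        Scheme.Hom.comp_apply, Scheme.Hom.comp_apply, hb, hy'y]
      exact specializes_iff_mem_closure.2 hz₁
    have hgen' : IsGenericPoint (⟨y', hy'Y, hy't⟩ :
        ↑((pullback.fst f g) ⁻¹' closure ({y} : Set ↑X) ∩ (pullback.snd f g) ⁻¹' {(⊥ : PrimeSpectrum R)})) Set.univ :=
      isGenericPoint_iff_specializes.2 fun z => iff_of_true ((subtype_specializes_iff _ _).2 (hall z z.2.1 z.2.2)) trivial
    exact ⟨Set.univ, ⟨hgen'.isIrreducible, fun _ _ _ => Set.subset_univ _⟩, hgen'⟩
  · -- a component of the special fibre through `x₀`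
    let W : Set ↑(pullback f g) :=
      closure ({y'} : Set ↑(pullback f g)) ∩ (pullback.snd f g) ⁻¹' {IsLocalRing.closedPoint R}
    have hWc : IsClosed W := isClosed_closure.inter
      ((IsLocalRing.isClosed_singleton_closedPoint R).preimage (pullback.snd f g).continuous)
    haveI : QuasiSober W := hWc.isClosedEmbedding_subtypeVal.quasiSober
    let w₀ : W := ⟨x₀, hy'x₀.mem_closure, hsR x₀ rfl⟩
    let C := irreducibleComponent w₀
    let hCirr : IsIrreducible C := isIrreducible_irreducibleComponent
    have hC : IsGenericPoint hCirr.genericPoint C := by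
      have := hCirr.isGenericPoint_genericPoint_closure
      rwa [isClosed_irreducibleComponent.closure_eq] at this
    let w := hCirr.genericPoint
    have hw : (w : ↑(pullback f g)) ⤳ x₀ :=
      (subtype_specializes_iff _ _).1 (hC.specializes (mem_irreducibleComponent (x := w₀)))
    refine ⟨w, w.2.1, w.2.2, ?_, C, irreducibleComponent_mem_irreducibleComponents w₀, hC⟩
    -- its image is a generalisation of `x` in the fibre
    have h1 : pullback.fst f g w ⤳ x := hx₀ ▸ hw.map (pullback.fst f g).continuous
    have h2 : y ⤳ pullback.fst f g w := by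
      have h2' := (specializes_iff_mem_closure.2 w.2.1).map (pullback.fst f g).continuous
      rwa [hy'y] at h2'
    have h3 : f (pullback.fst f g w) = f x := by
      rw [← Scheme.Hom.comp_apply, pullback.condition, Scheme.Hom.comp_apply, w.2.2, hgs]
    obtain ⟨C₀, hC₀, hgen₀⟩ := hgen
    let z : ↑(closure ({y} : Set ↑X) ∩ f ⁻¹' {f x}) := ⟨pullback.fst f g w, h2.mem_closure, h3⟩
    have h4 : C₀ ⊆ closure {z} := by
      rw [← hgen₀.def]
      exact closure_minimal (Set.singleton_subset_iff.2 ((subtype_specializes_iff z _).2 h1).mem_closure) isClosed_closure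
    have h5 : closure {z} ⊆ C₀ := hC₀.2 isIrreducible_singleton.closure h4
    have h6 := (subtype_specializes_iff _ z).1 (hgen₀.specializes (h5 (subset_closure rfl)))
    exact (h1.antisymm h6).eq

end Groth.Agent.S1481
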