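import Groth.Statements.S14811
import Groth.Agent.Pic13Lib.BaseNum

set_option autoImplicit false
set_option linter.style.haveILetI false
set_option backward.isDefEq.respectTransparency false
set_option backward.isDefEq.respectTransparency.types false
universe u
open CategoryTheory CategoryTheory.Limits AlgebraicGeometry
open Pic13

namespace Groth.Agent.S14811

/-- Let X be a proper scheme over a field k, L an invertible O_X-module and k ⊆ E an arbitrary field
extension. Then L is numerically trivial on X (degree 0 on every closed subscheme of X which is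
integral of dimension one) if and only if the pullback of L to X_E = X ×_k Spec E is numerically
trivial on X_E regarded as a scheme over E. -/
theorem result (k : Type u) [Field k] (X : Scheme.{u})
    [X.Over (Spec (CommRingCat.of k))] [IsProper (X ↘ Spec (CommRingCat.of k))] (L : X.Modules) (hL : PicF.IsInvertible L)
    (E : Type u) [Field E] [Algebra k E] :
    Pic13.IsNumEquivZero k X L ↔
      @Pic13.IsNumEquivZero E _ (pullback (X ↘ Spec (CommRingCat.of k)) (Spec.map (CommRingCat.ofHom (algebraMap k E))))
        ⟨pullback.snd (X ↘ Spec (CommRingCat.of k)) (Spec.map (CommRingCat.ofHom (algebraMap k E)))⟩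
        ((Scheme.Modules.pullback (pullback.fst (X ↘ Spec (CommRingCat.of k)) (Spec.map (CommRingCat.ofHom (algebraMap k E))))).obj L) := by
  let φ := Spec.map (CommRingCat.ofHom (algebraMap k E))
  letI : (pullback (X ↘ Spec (CommRingCat.of k)) φ).Over (Spec (CommRingCat.of E)) :=
    ⟨pullback.snd (X ↘ Spec (CommRingCat.of k)) φ⟩
  haveI : IsProper (pullback (X ↘ Spec (CommRingCat.of k)) φ ↘ Spec (CommRingCat.of E)) :=
    inferInstanceAs (IsProper (pullback.snd (X ↘ Spec (CommRingCat.of k)) φ))
  have hpb := IsPullback.of_hasPullback (X ↘ Spec (CommRingCat.of k)) φ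
  exact ⟨fun h => (Pic13Lib.NumTriv.baseChange _ hpb ⟨hL, h⟩).2,
    fun h => Pic13Lib.numTriv_of_baseChange _ hpb hL h⟩

end Groth.Agent.S14811
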