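import Groth.Statements.S14819
import Groth.Agent.PicFRel.RootDescent

set_option autoImplicit false
universe u
open CategoryTheory CategoryTheory.Limits AlgebraicGeometry
open PicF

namespace Groth.Agent.S14819

set_option backward.isDefEq.respectTransparency false
set_option backward.isDefEq.respectTransparency.types false
open Groth.Agent.H23.PicMul in

/-- Let X be an integral Noetherian scheme which is normal (all local rings integrally closed domains)
and whose ring of global functions Γ(X, O_X) is a field of characteristic p > 0; let L be an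
invertible O_X-module of exact order d in Pic(X), i.e. L^{⊗d} ≅ O_X with d ≥ 1 and L^{⊗i} not
isomorphic to O_X for 0 < i < d, and suppose p divides d. Let X' be a connected scheme such that
every unit of Γ(X', O_{X'}) has a p-th root. Then no finite étale morphism f : X' → X (a finite
étale covering of X by X') satisfies f^*L ≅ O_{X'}. -/
theorem result (X X' : Scheme.{u})
    [IsIntegral X] [IsNoetherian X] (hnorm : Pi1.IsNormalScheme X)
    (hfield : IsField (Γ(X, ⊤) : Type u)) (p : ℕ) [Fact (Nat.Prime p)] [CharP (Γ(X, ⊤) : Type u) p]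
    (L : X.Modules) (hL : PicF.IsInvertible L) (d : ℕ) (hd : 0 < d)
    (hord : Nonempty (CohB1.tensorPow L d ≅ Coh.structureModule X))
    (hmin : ∀ i : ℕ, 0 < i → i < d → IsEmpty (CohB1.tensorPow L i ≅ Coh.structureModule X))
    (hpd : p ∣ d) [ConnectedSpace X']
    (hroot : ∀ u : (Γ(X', ⊤) : Type u), IsUnit u → ∃ v : (Γ(X', ⊤) : Type u), v ^ p = u)
    (f : X' ⟶ X) [IsFinite f] [Etale f] :
    IsEmpty ((Scheme.Modules.pullback f).obj L ≅ Coh.structureModule X') := by
  refine ⟨fun e => ?_⟩
  obtain ⟨m, rfl⟩ := hpd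
  have hp1 : 1 < p := (Fact.out : p.Prime).one_lt
  have hm : 0 < m := Nat.pos_of_ne_zero (by rintro rfl; simp at hd)
  have hM := isInvertible_tensorPow hL m
  have hpow : Groth.Agent.H23.TrivBasic.Triv (CohB1.tensorPow (CohB1.tensorPow L m) p) := cl_eq_iff.1 (by
    rw [cl_tensorPow, cl_tensorPow, ← pow_mul, mul_comm, ← cl_tensorPow]
    exact cl_eq_iff.2 hord)
  have hpull : Groth.Agent.H23.TrivBasic.Triv ((Scheme.Modules.pullback f).obj (CohB1.tensorPow L m)) :=
    cl_eq_iff.1 (by
      show PicF.pullCl f (PicF.cl (CohB1.tensorPow L m)) = 1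
      rw [cl_tensorPow, pullCl_pow, show PicF.pullCl f (PicF.cl L) = 1 from cl_eq_iff.2 ⟨e⟩, one_pow])
  obtain ⟨φ⟩ := Groth.Agent.PicFRel.RootDescent.triv_of_pullback hnorm p hroot f _ hM hpow hpull
  exact (hmin m hm (lt_mul_of_one_lt_left hm hp1)).false φ


end Groth.Agent.S14819
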