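import Groth.Statements.S14864
import Mathlib

set_option autoImplicit false
universe u
open CAlg

namespace Groth.Agent.S14864

open WittVector in
theorem topologies (p : ℕ) [Fact p.Prime] (R : Type*) [CommRing R] (hp : IsNilpotent (p : R)) :
    (∀ n : ℕ, ∃ m : ℕ, (RingHom.ker (constantCoeff : WittVector p R →+* R)) ^ m ≤ Ideal.span {(p : WittVector p R)} ^ n) ∧
      (∀ n : ℕ, ∃ m : ℕ, Ideal.span {(p : WittVector p R)} ^ m ≤ (RingHom.ker (constantCoeff : WittVector p R →+* R)) ^ n) ∧
        ∀ n : ℕ, ∃ m : ℕ, Ideal.span {(p : WittVector p R)} ^ m ≤ RingHom.ker (truncate (p := p) (R := R) n) := by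
  obtain ⟨e, he⟩ := hp
  set I := RingHom.ker (constantCoeff : WittVector p R →+* R) with hI
  set P := Ideal.span {(p : WittVector p R)} with hP
  have hV : ∀ x ∈ I, ∃ y, x = verschiebung y := fun x hx => by
    refine ⟨x.shift 1, ?_⟩
    have := eq_iterate_verschiebung (n := 1) (x := x) fun i hi => by
      obtain rfl : i = 0 := by omega
      exact hx
    simpa using this
  have hsq : I * I ≤ P * I := Ideal.mul_le.mpr fun a ha b hb => by
    obtain ⟨x, rfl⟩ := hV a ha
    obtain ⟨y, rfl⟩ := hV b hb
    rw [← verschiebung_mul_frobenius, frobenius_verschiebung,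
      show x * (y * (p : WittVector p R)) = p • (x * y) by rw [nsmul_eq_mul]; ring,
      map_nsmul, nsmul_eq_mul]
    exact Ideal.mul_mem_mul (Ideal.mem_span_singleton_self _) (verschiebung_coeff_zero (x * y))
  have hIp : ∀ k : ℕ, I ^ (k + 1) ≤ P ^ k := by
    intro k
    induction k with
    | zero => simp
    | succ k ih =>
      calc I ^ (k + 1 + 1) = I ^ k * (I * I) := by ring
        _ ≤ I ^ k * (P * I) := Ideal.mul_mono le_rfl hsq
        _ = P * I ^ (k + 1) := by ring
        _ ≤ P * P ^ k := Ideal.mul_mono le_rfl ih
        _ = P ^ (k + 1) := by ring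
  have hpe : (p : WittVector p R) ^ e ∈ I := by
    show constantCoeff ((p : WittVector p R) ^ e) = 0
    rw [map_pow, map_natCast, he]
  have hPe : P ^ e ≤ I := by
    rw [hP, Ideal.span_singleton_pow, Ideal.span_le, Set.singleton_subset_iff]
    exact hpe
  refine ⟨fun n => ⟨n + 1, hIp n⟩, fun n => ⟨e * n, by rw [pow_mul]; exact Ideal.pow_right_mono hPe n⟩,
    fun n => ?_⟩
  suffices h : ∀ n : ℕ, ∀ y : WittVector p R, ∀ i < n, ((p : WittVector p R) ^ (e * n) * y).coeff i = 0 by
    refine ⟨e * n, ?_⟩
    rw [hP, Ideal.span_singleton_pow]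
    intro z hz
    obtain ⟨y, rfl⟩ := Ideal.mem_span_singleton.mp hz
    exact (mem_ker_truncate n _).mpr (h n y)
  intro n
  induction n with
  | zero => intro y i hi; omega
  | succ n ih =>
    intro y i hi
    have h1 := eq_iterate_verschiebung (ih y)
    set w := ((p : WittVector p R) ^ (e * n) * y).shift n
    have h2 : (p : WittVector p R) ^ (e * (n + 1)) * y =
        verschiebung^[n] ((p : WittVector p R) ^ e * w) := by
      have hlin : ∀ (j : ℕ) (c : ℕ) (z : WittVector p R),
          (verschiebung^[j]) ((c : WittVector p R) * z) = (c : WittVector p R) * (verschiebung^[j]) z := by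
        intro j c z
        induction j with
        | zero => rfl
        | succ j ihj =>
          rw [Function.iterate_succ_apply', Function.iterate_succ_apply', ihj,
            ← nsmul_eq_mul, map_nsmul, nsmul_eq_mul]
      conv_rhs => rw [← Nat.cast_pow, hlin, Nat.cast_pow, ← h1]
      ring
    rw [h2]
    rcases Nat.lt_succ_iff_lt_or_eq.mp hi with hi' | rfl
    · exact iterate_verschiebung_coeff_eq_zero _ hi'
    · have := iterate_verschiebung_coeff ((p : WittVector p R) ^ e * w) i 0
      rw [Nat.zero_add] at this
      rw [this]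
      exact (Ideal.mul_mem_right w I hpe : (p : WittVector p R) ^ e * w ∈ I)


/-- Let p be a prime and R a commutative ring in which p is nilpotent; write W = W(R) for the p-typical
Witt vectors, I ⊆ W for the kernel of the projection onto the zeroth component, and I_n ⊆ W for the
kernel of the truncation W → W_n(R). The p-adic topology on W equals its I-adic topology — every
power of the ideal pW contains some power of I and every power of I contains some power of pW — and
this common topology is finer than the V-adic one: every I_n contains some power of pW. -/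
theorem result (p : ℕ) [Fact p.Prime] (R : Type u) [CommRing R]
    (hp : IsNilpotent (p : R)) :
    (∀ n : ℕ, ∃ m : ℕ, (RingHom.ker (WittVector.constantCoeff : WittVector p R →+* R)) ^ m ≤ Ideal.span {(p : WittVector p R)} ^ n) ∧
      (∀ n : ℕ, ∃ m : ℕ, Ideal.span {(p : WittVector p R)} ^ m ≤ (RingHom.ker (WittVector.constantCoeff : WittVector p R →+* R)) ^ n) ∧
        ∀ n : ℕ, ∃ m : ℕ, Ideal.span {(p : WittVector p R)} ^ m ≤ RingHom.ker (WittVector.truncate (p := p) (R := R) n) := by
  exact topologies p R hp

end Groth.Agent.S14864
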