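import Groth.Statements.S14875
import Groth.Agent.PLieLib.Ideals

set_option autoImplicit false
universe u v
open PLie

namespace Groth.Agent.S14875

/-- Elements of a subalgebra acting nilpotently are orthogonal to its normaliser. -/
theorem killing_eq_zero {k : Type u} [Field k] {L : Type v} [LieRing L] [LieAlgebra k L] [Module.Finite k L]
    (U : LieSubalgebra k L) (hU : ∀ x ∈ U, IsNilpotent (LieAlgebra.ad k L x))
    {u h : L} (hu : u ∈ U) (hh : h ∈ U.normalizer) : killingForm k L u h = 0 := by
  have hnil : LieModule.IsNilpotent U L := (LieModule.isNilpotent_iff_forall' (R := k)).2 fun x => hU x x.2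
  obtain ⟨N, hN⟩ := (LieModule.isNilpotent_iff k U L).1 hnil
  let C := LieModule.lowerCentralSeries k U L
  have hstab : ∀ j, ∀ m ∈ C j, ⁅h, m⁆ ∈ C j := by
    intro j
    induction j with
    | zero => intro m _; simp [C]
    | succ j ih =>
      intro m hm
      simp only [C, LieModule.lowerCentralSeries_succ] at hm ⊢
      rw [← LieSubmodule.mem_toSubmodule, LieSubmodule.lieIdeal_oper_eq_linear_span'] at hm
      induction hm using Submodule.span_induction with
      | mem z hz =>
        obtain ⟨x, -, m', hm', rfl⟩ := hz
        change ⁅h, ⁅(x : L), m'⁆⁆ ∈ _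
        rw [leibniz_lie]
        exact add_mem
          (LieSubmodule.lie_mem_lie (LieSubmodule.mem_top (⟨⁅h, (x : L)⁆, LieSubalgebra.mem_normalizer_iff U h |>.1 hh x x.2⟩ : U)) hm')
          (LieSubmodule.lie_mem_lie (LieSubmodule.mem_top x) (ih m' hm'))
      | zero => simp
      | add a b _ _ ha hb => rw [lie_add]; exact add_mem ha hb
      | smul c a _ ha => rw [lie_smul]; exact SMulMemClass.smul_mem c ha
  let T : Module.End k L := LieAlgebra.ad k L u * LieAlgebra.ad k L h
  have hT : ∀ (j : ℕ) (m : L), (T ^ j) m ∈ C j := by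
    intro j
    induction j with
    | zero => intro m; simp [C]
    | succ j ih =>
      intro m
      rw [pow_succ', Module.End.mul_apply]
      change ⁅u, ⁅h, (T ^ j) m⁆⁆ ∈ _
      simp only [C, LieModule.lowerCentralSeries_succ]
      exact LieSubmodule.lie_mem_lie (LieSubmodule.mem_top (⟨u, hu⟩ : U)) (hstab j _ (ih m))
  have hT0 : IsNilpotent T := ⟨N, LinearMap.ext fun m => by simpa [C, hN] using hT N m⟩
  exact (LieModule.traceForm_apply_apply k L L u h).trans
    (LinearMap.isNilpotent_trace_of_isNilpotent hT0).eq_zero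

/-- Let `L` be a finite-dimensional Lie algebra over a field of characteristic `p` equipped with a
`p`-mapping `φ`, whose Killing form is non-degenerate. Let `U` and `H` be Lie subalgebras of `L`
such that `H` is the normaliser of `U`, `U` is the set of elements of `H` that lie in the solvable
radical of `H` and are `p`-nilpotent, and the orthogonal of `U` for the Killing form is closed under
the bracket. Then `U` is the orthogonal of `H` for the Killing form. (The published statement is for
the Lie algebra of a reductive group over a field of characteristic `p` with its canonical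
`p`-structure; this row states it for any finite-dimensional Lie algebra with a `p`-mapping.) -/
theorem result
    (k : Type u) [Field k] (p : ℕ) [Fact p.Prime] [CharP k p]
    (L : Type v) [LieRing L] [LieAlgebra k L] [Module.Finite k L]
    (φ : PLie.PMap k p L) (hκ : (killingForm k L).Nondegenerate)
    (U H : LieSubalgebra k L) (hH : H = U.normalizer)
    (hU : ∀ x : L, x ∈ U ↔ ∃ hx : x ∈ H, (⟨x, hx⟩ : ↥H) ∈ LieAlgebra.radical k ↥H ∧ PLie.IsPNilpotent φ x)
    (hperp : ∀ a b : L, (∀ y ∈ U, killingForm k L a y = 0) → (∀ y ∈ U, killingForm k L b y = 0) →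
      ∀ y ∈ U, killingForm k L ⁅a, b⁆ y = 0) :
    ∀ x : L, x ∈ U ↔ ∀ h ∈ H, killingForm k L h x = 0 := by
  let B : LinearMap.BilinForm k L := killingForm k L
  have hrefl : B.IsRefl := (LieModule.traceForm_isSymm k L L).isRefl
  have hnil : ∀ x ∈ U, IsNilpotent (LieAlgebra.ad k L x) := fun x hx => by
    obtain ⟨_, -, m, hm⟩ := (hU x).1 hx
    exact ⟨p ^ m, by rw [← Groth.Agent.PLieLib.ad_iterate φ m x, hm, map_zero]⟩
  have hUH : ∀ u ∈ U, ∀ h ∈ H, killingForm k L u h = 0 := fun u hu h hh =>
    killing_eq_zero U hnil hu (hH ▸ hh)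
  intro x
  refine ⟨fun hx h hh => (LieModule.traceForm_comm k L L h x).trans (hUH x hx h hh), fun hx => ?_⟩
  have hdd := LinearMap.BilinForm.orthogonal_orthogonal (B := B) hκ hrefl U.toSubmodule
  have key : ∀ z, (∀ y ∈ U, killingForm k L z y = 0) → z ∈ H := by
    intro z hz
    rw [hH, LieSubalgebra.mem_normalizer_iff]
    intro y hy
    rw [← LieSubalgebra.mem_toSubmodule, ← hdd, LinearMap.BilinForm.mem_orthogonal_iff]
    intro b hb
    rw [LinearMap.BilinForm.mem_orthogonal_iff] at hb
    have hb' : ∀ y ∈ U, killingForm k L b y = 0 := fun y hy =>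
      (LieModule.traceForm_comm k L L b y).trans (hb y hy)
    show killingForm k L b ⁅z, y⁆ = 0
    rw [killingForm, ← LieModule.traceForm_apply_lie_apply]
    exact hperp b z hb' hz y hy
  rw [← LieSubalgebra.mem_toSubmodule, ← hdd, LinearMap.BilinForm.mem_orthogonal_iff]
  intro b hb
  rw [LinearMap.BilinForm.mem_orthogonal_iff] at hb
  exact hx b (key b fun y hy => (LieModule.traceForm_comm k L L b y).trans (hb y hy))

end Groth.Agent.S14875
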