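import Groth.Statements.S14886
import Groth.Agent.AlgGrpQ.Torsor

set_option autoImplicit false
universe u
open CategoryTheory MonoidalCategory CartesianMonoidalCategory MonObj GrpObj AlgebraicGeometry CategoryTheory.Limits
open AlgGrp

namespace Groth.Agent.S14886

/-- Over an algebraically closed field k of characteristic zero, let G be a connected algebraic group (a
smooth connected k-group scheme of finite type) and H an algebraic subgroup (a smooth closed
subgroup scheme, j : H → G). Let π : G → B be the quotient of G by H (a geometric quotient for the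
action h·g = g·h⁻¹ which is a principal H-bundle: (h, g) ↦ (g·h⁻¹, g) is an isomorphism H × G ≅ G
×_B G and π is flat). Let X and Y be varieties (reduced, separated, of finite type over k) with
H-actions, in each of which every finite set of points lies in an affine open subset, and let qX : G
× X → QX, qY : G × Y → QY and qXY : G × (X × Y) → QXY be the associated bundles G_H(X), G_H(Y) and
G_H(X × Y): geometric quotients (invariant, surjective, open, fibre-pair map surjective on points,
sections = invariant sections) which are principal H-bundles, for the actions h·(g, x) = (g·h⁻¹,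
h·x), h·(g, y) = (g·h⁻¹, h·y) and h·(g, x, y) = (g·h⁻¹, h·x, h·y), with QX, QY, QXY varieties over B
= G/H through pX, pY, pXY satisfying p ∘ q = π ∘ pr₁. Let fX : QXY → QX and fY : QXY → QY be the
morphisms over B induced by the projections, fX ∘ qXY = qX ∘ (id × pr₁) and fY ∘ qXY = qY ∘ (id ×
pr₂). Then the square formed by fX, fY, pX, pY is cartesian: G_H(X × Y) is the fibre product of
G_H(X) and G_H(Y) over G/H. -/
theorem result (k : Type u) [Field k] [IsAlgClosed k] [CharZero k]
    (G H : Over (Spec (CommRingCat.of k))) [GrpObj G] [Smooth G.hom] [QuasiCompact G.hom]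
    [ConnectedSpace ↥G.left] [GrpObj H] (j : H ⟶ G) [IsMonHom j] [IsClosedImmersion j.left] [Smooth H.hom]
    (B : Over (Spec (CommRingCat.of k))) [LocallyOfFiniteType B.hom] [QuasiCompact B.hom] [IsSeparated B.hom] [IsReduced B.left]
    (r : AlgGrp.Action H G) (hr : ∀ (T : Over (Spec (CommRingCat.of k))) (h : T ⟶ H) (g : T ⟶ G),
      lift h g ≫ r.act = g * (h ≫ j)⁻¹)
    (π : G ⟶ B) (hπinv : GIT.IsInvariant r π)
    (hπ : (Function.Surjective π.left.base ∧ IsOpenMap π.left.base ∧
      Function.Surjective (GIT.PsiY r π hπinv).base ∧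
      (∀ U : B.left.Opens, Function.Injective (π.left.app U) ∧
        Set.range (π.left.app U) = {f | GIT.IsInvSection r π U f}) ∧
      IsIso (GIT.PsiY r π hπinv) ∧ Flat π.left))
    (X Y : Over (Spec (CommRingCat.of k))) [LocallyOfFiniteType X.hom] [QuasiCompact X.hom] [IsSeparated X.hom] [IsReduced X.left] [LocallyOfFiniteType Y.hom] [QuasiCompact Y.hom] [IsSeparated Y.hom] [IsReduced Y.left]
    (hFX : ∀ F : Finset ↥X.left, ∃ U : X.left.Opens, IsAffineOpen U ∧ (↑F : Set ↥X.left) ⊆ (U : Set ↥X.left))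
    (hFY : ∀ F : Finset ↥Y.left, ∃ U : Y.left.Opens, IsAffineOpen U ∧ (↑F : Set ↥Y.left) ⊆ (U : Set ↥Y.left))
    (aX : AlgGrp.Action H X) (aY : AlgGrp.Action H Y)
    (b : AlgGrp.Action H (G ⊗ X))
    (hb : ∀ (T : Over (Spec (CommRingCat.of k))) (h : T ⟶ H) (g : T ⟶ G) (x : T ⟶ X),
      lift h (lift g x) ≫ b.act = lift (g * (h ≫ j)⁻¹) (lift h x ≫ aX.act))
    (c : AlgGrp.Action H (G ⊗ Y))
    (hc : ∀ (T : Over (Spec (CommRingCat.of k))) (h : T ⟶ H) (g : T ⟶ G) (x : T ⟶ Y),
      lift h (lift g x) ≫ c.act = lift (g * (h ≫ j)⁻¹) (lift h x ≫ aY.act))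
    (d : AlgGrp.Action H (G ⊗ (X ⊗ Y)))
    (hd : ∀ (T : Over (Spec (CommRingCat.of k))) (h : T ⟶ H) (g : T ⟶ G) (x : T ⟶ X) (y : T ⟶ Y),
      lift h (lift g (lift x y)) ≫ d.act = lift (g * (h ≫ j)⁻¹) (lift (lift h x ≫ aX.act) (lift h y ≫ aY.act)))
    (QX QY QXY : Over (Spec (CommRingCat.of k))) [LocallyOfFiniteType QX.hom] [QuasiCompact QX.hom] [IsSeparated QX.hom] [IsReduced QX.left] [LocallyOfFiniteType QY.hom] [QuasiCompact QY.hom] [IsSeparated QY.hom] [IsReduced QY.left] [LocallyOfFiniteType QXY.hom] [QuasiCompact QXY.hom] [IsSeparated QXY.hom] [IsReduced QXY.left]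
    (qX : G ⊗ X ⟶ QX) (hqXinv : GIT.IsInvariant b qX) (hqX : (Function.Surjective qX.left.base ∧ IsOpenMap qX.left.base ∧
      Function.Surjective (GIT.PsiY b qX hqXinv).base ∧
      (∀ U : QX.left.Opens, Function.Injective (qX.left.app U) ∧
        Set.range (qX.left.app U) = {f | GIT.IsInvSection b qX U f}) ∧
      IsIso (GIT.PsiY b qX hqXinv) ∧ Flat qX.left))
    (qY : G ⊗ Y ⟶ QY) (hqYinv : GIT.IsInvariant c qY) (hqY : (Function.Surjective qY.left.base ∧ IsOpenMap qY.left.base ∧
      Function.Surjective (GIT.PsiY c qY hqYinv).base ∧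
      (∀ U : QY.left.Opens, Function.Injective (qY.left.app U) ∧
        Set.range (qY.left.app U) = {f | GIT.IsInvSection c qY U f}) ∧
      IsIso (GIT.PsiY c qY hqYinv) ∧ Flat qY.left))
    (qXY : G ⊗ (X ⊗ Y) ⟶ QXY) (hqXYinv : GIT.IsInvariant d qXY) (hqXY : (Function.Surjective qXY.left.base ∧ IsOpenMap qXY.left.base ∧
      Function.Surjective (GIT.PsiY d qXY hqXYinv).base ∧
      (∀ U : QXY.left.Opens, Function.Injective (qXY.left.app U) ∧
        Set.range (qXY.left.app U) = {f | GIT.IsInvSection d qXY U f}) ∧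
      IsIso (GIT.PsiY d qXY hqXYinv) ∧ Flat qXY.left))
    (pX : QX ⟶ B) (hpX : qX ≫ pX = fst G X ≫ π) (pY : QY ⟶ B) (hpY : qY ≫ pY = fst G Y ≫ π)
    (pXY : QXY ⟶ B) (hpXY : qXY ≫ pXY = fst G (X ⊗ Y) ≫ π)
    (fX : QXY ⟶ QX) (hfX : qXY ≫ fX = (G ◁ fst X Y) ≫ qX) (hfXp : fX ≫ pX = pXY)
    (fY : QXY ⟶ QY) (hfY : qXY ≫ fY = (G ◁ snd X Y) ≫ qY) (hfYp : fY ≫ pY = pXY) :
    IsPullback fX.left fY.left pX.left pY.left := by
  obtain ⟨hsπ, -, -, -, hiπ, hfπ⟩ := hπ
  obtain ⟨hsX, -, -, -, hiX, hlX⟩ := hqX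
  obtain ⟨hsY, -, -, -, hiY, hlY⟩ := hqY
  obtain ⟨hsXY, -, -, -, hiXY, hlXY⟩ := hqXY
  have : Surjective π.left := ⟨hsπ⟩
  have : Surjective qX.left := ⟨hsX⟩
  have : Surjective qY.left := ⟨hsY⟩
  have : Surjective qXY.left := ⟨hsXY⟩
  have hqc : ∀ {P Q : Over (Spec (CommRingCat.of k))} (q : P ⟶ Q) [QuasiCompact P.hom] [IsSeparated Q.hom],
      QuasiCompact q.left := fun {P Q} q _ _ =>
    have : QuasiCompact (q.left ≫ Q.hom) := by rw [Over.w]; infer_instance
    QuasiCompact.of_comp q.left Q.hom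
  have ht : ∀ (U V : Over (Spec (CommRingCat.of k))) [QuasiCompact U.hom] [QuasiCompact V.hom],
      QuasiCompact (U ⊗ V).hom := fun U V _ _ => by
    rw [Over.tensorObj_hom]; infer_instance
  have := ht G X
  have := ht G Y
  have := ht X Y
  have := ht G (X ⊗ Y)
  have := hqc π
  have := hqc qX
  have := hqc qY
  have := hqc qXY
  have sX := Groth.Agent.AlgGrpQ.Torsor.isPullback_of_equivariant (c := r) hqXinv hπinv (fst G X) pX
    (Groth.Agent.AlgGrpQ.Torsor.equivariant_of_points r _ fun T h z => by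
      rw [hr, show z = lift (z ≫ fst G X) (z ≫ snd G X) from
        CartesianMonoidalCategory.hom_ext _ _ (lift_fst _ _).symm (lift_snd _ _).symm,
        ← Category.assoc, hb, lift_fst, lift_fst]) hpX
  have sY := Groth.Agent.AlgGrpQ.Torsor.isPullback_of_equivariant (c := r) hqYinv hπinv (fst G Y) pY
    (Groth.Agent.AlgGrpQ.Torsor.equivariant_of_points r _ fun T h z => by
      rw [hr, show z = lift (z ≫ fst G Y) (z ≫ snd G Y) from
        CartesianMonoidalCategory.hom_ext _ _ (lift_fst _ _).symm (lift_snd _ _).symm,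
        ← Category.assoc, hc, lift_fst, lift_fst]) hpY
  have sXY := Groth.Agent.AlgGrpQ.Torsor.isPullback_of_equivariant (c := r) hqXYinv hπinv
    (fst G (X ⊗ Y)) pXY
    (Groth.Agent.AlgGrpQ.Torsor.equivariant_of_points r _ fun T h z => by
      rw [hr, show z = lift (z ≫ fst G (X ⊗ Y))
          (lift (z ≫ snd G (X ⊗ Y) ≫ fst X Y) (z ≫ snd G (X ⊗ Y) ≫ snd X Y)) by
        apply CartesianMonoidalCategory.hom_ext
        · simp
        · apply CartesianMonoidalCategory.hom_ext <;> simp,
        ← Category.assoc, hd, lift_fst, lift_fst]) hpXY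
  have wB : fX.left ≫ pX.left = fY.left ≫ pY.left := by
    rw [← Over.comp_left, ← Over.comp_left, hfXp, hfYp]
  let M : Scheme.{u} := Limits.pullback pX.left pY.left
  let pM : M ⟶ B.left := pullback.fst _ _ ≫ pX.left
  let ψ : QXY.left ⟶ M := pullback.lift fX.left fY.left wB
  let ψ' : (G ⊗ (X ⊗ Y)).left ⟶ Limits.pullback pM π.left :=
    pullback.lift (qXY.left ≫ ψ) (fst G (X ⊗ Y)).left (by
      have e : fX.left ≫ pX.left = pXY.left := congrArg CommaMorphism.left hfXp
      rw [← sXY.w, Category.assoc, ← Category.assoc ψ, pullback.lift_fst, e])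
  have sq : IsPullback ψ' qXY.left (pullback.fst pM π.left) ψ := by
    refine IsPullback.of_right ?_ (pullback.lift_fst _ _ _) (IsPullback.of_hasPullback pM π.left).flip
    rw [show ψ' ≫ pullback.snd pM π.left = (fst G (X ⊗ Y)).left from pullback.lift_snd _ _ _,
      show ψ ≫ pM = pXY.left from (pullback.lift_fst_assoc _ _ _ _).trans (congrArg CommaMorphism.left hfXp)]
    exact sXY.flip
  have : IsIso ψ' := by
    let T : Over (Spec (CommRingCat.of k)) := Over.mk (pullback.snd pM π.left ≫ G.hom)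
    let g : T ⟶ G := Over.homMk (pullback.snd pM π.left) rfl
    let zX' := sX.lift (pullback.fst pM π.left ≫ pullback.fst pX.left pY.left) (pullback.snd pM π.left) (by
      rw [Category.assoc]; exact pullback.condition)
    let zY' := sY.lift (pullback.fst pM π.left ≫ pullback.snd pX.left pY.left) (pullback.snd pM π.left) (by
      rw [Category.assoc, ← pullback.condition]; exact pullback.condition)
    let zX : T ⟶ G ⊗ X := Over.homMk zX' (by
      show zX' ≫ (G ⊗ X).hom = pullback.snd pM π.left ≫ G.hom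
      rw [← Over.w (fst G X), ← Category.assoc, sX.lift_snd])
    let zY : T ⟶ G ⊗ Y := Over.homMk zY' (by
      show zY' ≫ (G ⊗ Y).hom = pullback.snd pM π.left ≫ G.hom
      rw [← Over.w (fst G Y), ← Category.assoc, sY.lift_snd])
    have hX1 : zX ≫ fst G X = g := Over.OverMorphism.ext (sX.lift_snd _ _ _)
    have hY1 : zY ≫ fst G Y = g := Over.OverMorphism.ext (sY.lift_snd _ _ _)
    let w : T ⟶ G ⊗ (X ⊗ Y) := lift g (lift (zX ≫ snd G X) (zY ≫ snd G Y))
    have hwX : w ≫ (G ◁ fst X Y) = zX := by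
      rw [lift_whiskerLeft, lift_fst, ← hX1]
      exact CartesianMonoidalCategory.hom_ext _ _ (lift_fst _ _) (lift_snd _ _)
    have hwY : w ≫ (G ◁ snd X Y) = zY := by
      rw [lift_whiskerLeft, lift_snd, ← hY1]
      exact CartesianMonoidalCategory.hom_ext _ _ (lift_fst _ _) (lift_snd _ _)
    refine ⟨w.left, ?_, ?_⟩
    · let τ : G ⊗ (X ⊗ Y) ⟶ T := Over.homMk ψ' (by
        show ψ' ≫ pullback.snd pM π.left ≫ G.hom = _
        rw [← Category.assoc, pullback.lift_snd, Over.w])
      have hτg : τ ≫ g = fst G (X ⊗ Y) := Over.OverMorphism.ext (pullback.lift_snd _ _ _)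
      have hτX : τ ≫ zX = G ◁ fst X Y := by
        refine Over.OverMorphism.ext (sX.hom_ext ?_ ?_)
        · show (ψ' ≫ zX') ≫ qX.left = (G ◁ fst X Y).left ≫ qX.left
          rw [Category.assoc, sX.lift_fst, ← Category.assoc, pullback.lift_fst, Category.assoc,
            pullback.lift_fst, ← Over.comp_left, hfX, Over.comp_left]
        · show (ψ' ≫ zX') ≫ (fst G X).left = (G ◁ fst X Y).left ≫ (fst G X).left
          rw [Category.assoc, sX.lift_snd, pullback.lift_snd, ← Over.comp_left, whiskerLeft_fst]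
      have hτY : τ ≫ zY = G ◁ snd X Y := by
        refine Over.OverMorphism.ext (sY.hom_ext ?_ ?_)
        · show (ψ' ≫ zY') ≫ qY.left = (G ◁ snd X Y).left ≫ qY.left
          rw [Category.assoc, sY.lift_fst, ← Category.assoc, pullback.lift_fst, Category.assoc,
            pullback.lift_snd, ← Over.comp_left, hfY, Over.comp_left]
        · show (ψ' ≫ zY') ≫ (fst G Y).left = (G ◁ snd X Y).left ≫ (fst G Y).left
          rw [Category.assoc, sY.lift_snd, pullback.lift_snd, ← Over.comp_left, whiskerLeft_fst]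
      have : τ ≫ w = 𝟙 _ := by
        simp only [w, comp_lift, ← Category.assoc, hτg, hτX, hτY]
        apply CartesianMonoidalCategory.hom_ext
        · simp
        · apply CartesianMonoidalCategory.hom_ext <;> simp
      exact congrArg CommaMorphism.left this
    · apply pullback.hom_ext
      · rw [Category.assoc, pullback.lift_fst, Category.id_comp]
        apply pullback.hom_ext
        · rw [Category.assoc, Category.assoc, pullback.lift_fst, ← Over.comp_left, hfX, ← Over.comp_left,
            ← Category.assoc, hwX, Over.comp_left]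
          exact sX.lift_fst _ _ _
        · rw [Category.assoc, Category.assoc, pullback.lift_snd, ← Over.comp_left, hfY, ← Over.comp_left,
            ← Category.assoc, hwY, Over.comp_left]
          exact sY.lift_fst _ _ _
      · rw [Category.assoc, pullback.lift_snd, Category.id_comp, ← Over.comp_left, lift_fst]
        rfl
  have : IsIso ψ := MorphismProperty.of_isPullback_of_descendsAlong
    (P := MorphismProperty.isomorphisms Scheme.{u}) (Q := @Surjective ⊓ @Flat ⊓ @QuasiCompact) sq
    (MorphismProperty.of_isPullback (P := @Surjective ⊓ @Flat ⊓ @QuasiCompact)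
      (IsPullback.of_hasPullback pM π.left).flip ⟨⟨inferInstance, inferInstance⟩, inferInstance⟩) ‹IsIso ψ'›
  exact IsPullback.of_iso_pullback ⟨wB⟩ (asIso ψ) (pullback.lift_fst _ _ _) (pullback.lift_snd _ _ _)

end Groth.Agent.S14886
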