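import Mathlib
import Groth.Statements.S14891
-- import your own Groth.Agent.* helpers here

set_option autoImplicit false
universe u
open CAlg

namespace Groth.Agent.S14891


open MvPolynomial IsLocalRing

section Independence

variable {K L Γ₀ Γ₁ : Type u} [Field K] [Field L] [Algebra K L]
  [LinearOrderedCommGroupWithZero Γ₀] [LinearOrderedCommGroupWithZero Γ₁]
  (vK : Valuation K Γ₀) (vL : Valuation L Γ₁) [vK.HasExtension vL]

/-- A polynomial in elements with algebraically independent residues has the value of its largest
coefficient. -/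
theorem exists_value_aeval {κ : Type u} (y : κ → vL.valuationSubring)
    (hy : AlgebraicIndependent (ResidueField vK.valuationSubring) fun j => residue _ (y j))
    (q : MvPolynomial κ K) (hq : q ≠ 0) :
    ∃ c : K, c ≠ 0 ∧ vL (aeval (fun j => (y j : L)) q) = vL (algebraMap K L c) := by
  classical
  obtain ⟨b₀, hb₀, hmax⟩ :=
    Finset.exists_max_image q.support (fun b => vK (q.coeff b)) (support_nonempty.mpr hq)
  have hc₀ : q.coeff b₀ ≠ 0 := mem_support_iff.mp hb₀
  have hmem : ∀ b ∈ q.support, vK (q.coeff b / q.coeff b₀) ≤ 1 := fun b hb => by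
    rw [map_div₀]
    exact (div_le_one₀ (zero_lt_iff.mpr ((vK.ne_zero_iff).mpr hc₀))).mpr (hmax b hb)
  let r : MvPolynomial κ vK.valuationSubring :=
    ∑ b : q.support, monomial (b : κ →₀ ℕ) ⟨q.coeff b / q.coeff b₀, hmem b b.2⟩
  have hrcoeff : ((r.coeff b₀ : vK.valuationSubring) : K) = 1 := by
    simp only [r, coeff_sum, coeff_monomial]
    rw [Finset.sum_eq_single ⟨b₀, hb₀⟩ (fun b _ hb => if_neg fun h => hb (Subtype.ext h))
      (fun h => absurd (Finset.mem_univ _) h), if_pos rfl]
    exact div_self hc₀
  have hr : MvPolynomial.map (algebraMap vK.valuationSubring K) r =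
      C (q.coeff b₀)⁻¹ * q := by
    conv_rhs => arg 2; rw [q.as_sum]
    rw [Finset.mul_sum, ← Finset.sum_coe_sort q.support]
    simp only [r, map_sum, MvPolynomial.map_monomial, C_mul_monomial]
    exact Finset.sum_congr rfl fun b _ => congrArg _ (by
      show q.coeff b / q.coeff b₀ = _
      rw [div_eq_inv_mul])
  let z : vL.valuationSubring := aeval y r
  have hzL : (z : L) = algebraMap K L (q.coeff b₀)⁻¹ * aeval (fun j => (y j : L)) q := by
    have h1 : (z : L) = aeval (fun j => (y j : L)) (MvPolynomial.map (algebraMap vK.valuationSubring K) r) := by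
      rw [aeval_map_algebraMap]
      exact (aeval_algebraMap_apply L y r).symm
    rw [h1, hr, map_mul, aeval_C]
  have hzres : residue _ z ≠ 0 := by
    have h1 : residue _ z = aeval (fun j => residue _ (y j))
        (MvPolynomial.map (residue vK.valuationSubring) r) := by
      show residue _ z = aeval _ (MvPolynomial.map
        (algebraMap vK.valuationSubring (ResidueField vK.valuationSubring)) r)
      rw [aeval_map_algebraMap]
      exact (aeval_algebraMap_apply (ResidueField vL.valuationSubring) y r).symm
    rw [h1]
    intro h0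
    have h2 := congrArg (fun p => p.coeff b₀) (hy.eq_zero_of_aeval_eq_zero _ h0)
    simp only [coeff_map, coeff_zero] at h2
    rw [show r.coeff b₀ = 1 from Subtype.ext hrcoeff, map_one] at h2
    exact one_ne_zero h2
  have hv : vL (z : L) = 1 :=
    (Valuation.integer.integers vL).one_of_isUnit ((residue_ne_zero_iff_isUnit z).mp hzres)
  refine ⟨q.coeff b₀, hc₀, ?_⟩
  rw [hzL, map_inv₀, map_mul, map_inv₀] at hv
  exact ((inv_mul_eq_one₀ ((vL.ne_zero_iff).mpr (by simpa using hc₀))).mp hv).symm

/-- Elements with independent value classes together with lifts of independent residues are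
algebraically independent. -/
theorem algebraicIndependent_sum {ι κ : Type u} (u : ι → Lˣ)
    (hu : LinearIndependent ℤ fun i => (QuotientAddGroup.mk (Additive.ofMul (u i)) :
      Additive Lˣ ⧸ Subgroup.toAddSubgroup
        (vL.valuationSubring.unitGroup ⊔ (Units.map (algebraMap K L).toMonoidHom).range)))
    (y : κ → vL.valuationSubring)
    (hy : AlgebraicIndependent (ResidueField vK.valuationSubring) fun j => residue _ (y j)) :
    AlgebraicIndependent K (Sum.elim (fun i => (u i : L)) (fun j => (y j : L))) := by
  classical
  rw [algebraicIndependent_iff]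
  intro p hp
  by_contra hp0
  let P := sumAlgEquiv K ι κ p
  have hP0 : P ≠ 0 := (map_ne_zero_iff _ (sumAlgEquiv K ι κ).injective).mpr hp0
  let Y := aeval (R := K) fun j => (y j : L)
  have heval : aeval (Sum.elim (fun i => (u i : L)) (fun j => (y j : L))) p =
      eval₂ Y.toRingHom (fun i => (u i : L)) P := by
    have h : (aeval (Sum.elim (fun i => (u i : L)) (fun j => (y j : L)))).toRingHom =
        (eval₂Hom Y.toRingHom (fun i => (u i : L))).comp (sumAlgEquiv K ι κ).toRingHom := by
      refine MvPolynomial.ringHom_ext (fun r => ?_) (fun i => ?_)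
      · simp [Y]
      · rcases i with i | i <;> simp [Y]
    exact RingHom.congr_fun h p
  rw [heval, eval₂_eq] at hp
  -- values of the terms
  let w : (ι →₀ ℕ) → Lˣ := fun a => ∏ i ∈ a.support, u i ^ a i
  have hw : ∀ a, (∏ i ∈ a.support, (u i : L) ^ a i) = (w a : L) := fun a => by
    simp only [w, Units.coe_prod, Units.val_pow_eq_pow_val]
  simp only [hw] at hp
  choose! c hc0 hc using fun a (ha : a ∈ P.support) =>
    exists_value_aeval vK vL y hy (P.coeff a) (mem_support_iff.mp ha)
  have hval : ∀ a ∈ P.support, vL (Y (P.coeff a) * w a) = vL (algebraMap K L (c a) * w a) :=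
    fun a ha => by rw [map_mul, hc a ha, ← map_mul]
  have hne : ∀ a ∈ P.support, vL (Y (P.coeff a) * w a) ≠ 0 := fun a ha => by
    rw [hval a ha]
    exact (vL.ne_zero_iff).mpr (mul_ne_zero (by simpa using hc0 a ha) (w a).ne_zero)
  have hinj : ∀ a ∈ P.support, ∀ a' ∈ P.support,
      vL (Y (P.coeff a) * w a) = vL (Y (P.coeff a') * w a') → a = a' := by
    intro a ha a' ha' h
    rw [hval a ha, hval a' ha'] at h
    let e : ∀ b, b ∈ P.support → Lˣ := fun b hb =>
      Units.map (algebraMap K L).toMonoidHom (Units.mk0 (c b) (hc0 b hb))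
    have hmem : e a ha * w a / (e a' ha' * w a') ∈ vL.valuationSubring.unitGroup := by
      rw [Valuation.mem_unitGroup_iff, Units.val_div_eq_div_val, map_div₀, Units.val_mul,
        Units.val_mul]
      show vL (algebraMap K L (c a) * w a) / vL (algebraMap K L (c a') * w a') = 1
      rw [h, div_self]
      rw [← hval a' ha']
      exact hne a' ha'
    have hmem' : w a / w a' ∈
        vL.valuationSubring.unitGroup ⊔ (Units.map (algebraMap K L).toMonoidHom).range := by
      have h1 : w a / w a' = (e a ha * w a / (e a' ha' * w a')) * (e a' ha' / e a ha) := by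
        rw [mul_div_mul_comm, mul_comm (e a ha / e a' ha'), mul_assoc, div_mul_div_cancel,
          div_self', mul_one]
      rw [h1]
      exact mul_mem (Subgroup.mem_sup_left hmem)
        (Subgroup.mem_sup_right (div_mem ⟨_, rfl⟩ ⟨_, rfl⟩))
    have hclass : ∀ b, (QuotientAddGroup.mk (Additive.ofMul (w b)) :
        Additive Lˣ ⧸ Subgroup.toAddSubgroup
          (vL.valuationSubring.unitGroup ⊔ (Units.map (algebraMap K L).toMonoidHom).range)) =
        Finsupp.linearCombination ℤ (fun i => (QuotientAddGroup.mk (Additive.ofMul (u i)) :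
          Additive Lˣ ⧸ Subgroup.toAddSubgroup
            (vL.valuationSubring.unitGroup ⊔ (Units.map (algebraMap K L).toMonoidHom).range)))
          (b.mapRange (fun n : ℕ => (n : ℤ)) rfl) := by
      intro b
      rw [Finsupp.linearCombination_apply, Finsupp.sum_mapRange_index]
      · simp only [w, ofMul_prod, ofMul_pow, QuotientAddGroup.mk_sum, QuotientAddGroup.mk_nsmul,
          natCast_zsmul, Finsupp.sum]
      · exact fun i => zero_smul ℤ _
    have h0 : (QuotientAddGroup.mk (Additive.ofMul (w a)) :
        Additive Lˣ ⧸ Subgroup.toAddSubgroup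
          (vL.valuationSubring.unitGroup ⊔ (Units.map (algebraMap K L).toMonoidHom).range)) =
        QuotientAddGroup.mk (Additive.ofMul (w a')) := by
      rw [← sub_eq_zero, ← QuotientAddGroup.mk_sub, QuotientAddGroup.eq_zero_iff]
      exact hmem'
    rw [hclass, hclass] at h0
    exact Finsupp.mapRange_injective _ rfl Nat.cast_injective (hu h0)
  obtain ⟨a₀, ha₀, hmax⟩ := Finset.exists_max_image P.support
    (fun a => vL (Y (P.coeff a) * w a)) (support_nonempty.mpr hP0)
  have hlt : ∀ a ∈ P.support \ {a₀}, vL (Y (P.coeff a) * w a) < vL (Y (P.coeff a₀) * w a₀) := by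
    intro a ha
    rw [Finset.mem_sdiff, Finset.mem_singleton] at ha
    exact lt_of_le_of_ne (hmax a ha.1) fun h => ha.2 (hinj a ha.1 a₀ ha₀ h)
  have h1 := vL.map_sum_eq_of_lt ha₀ hlt
  rw [show (∑ a ∈ P.support, Y (P.coeff a) * (w a : L)) = 0 from hp, map_zero] at h1
  exact hne a₀ ha₀ h1.symm

end Independence

/-- Let L/K be an extension of valued fields, i.e. v_L is a valuation on L whose restriction to K is
equivalent to v_K. Write E for the rational rank of the quotient of value groups |L^×|/|K^×| — here
the rank of the abelian group L^× modulo the subgroup generated by the units of the valuation ring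
of v_L and the image of K^× — and F for the transcendence degree of the residue field of v_L over
that of v_K. Then E + F ≤ tr.deg(L/K) (an inequality of cardinals). -/
theorem result
    {K L Γ₀ Γ₁ : Type u} [Field K] [Field L] [Algebra K L]
    [LinearOrderedCommGroupWithZero Γ₀] [LinearOrderedCommGroupWithZero Γ₁]
    (vK : Valuation K Γ₀) (vL : Valuation L Γ₁) [vK.HasExtension vL] :
    Module.rank ℤ (Additive Lˣ ⧸ Subgroup.toAddSubgroup
        (vL.valuationSubring.unitGroup ⊔ (Units.map (algebraMap K L).toMonoidHom).range)) +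
      Algebra.trdeg (IsLocalRing.ResidueField vK.valuationSubring)
        (IsLocalRing.ResidueField vL.valuationSubring) ≤ Algebra.trdeg K L := by
  classical
  obtain ⟨s, hs, hli⟩ := exists_set_linearIndependent ℤ (Additive Lˣ ⧸ Subgroup.toAddSubgroup
    (vL.valuationSubring.unitGroup ⊔ (Units.map (algebraMap K L).toMonoidHom).range))
  obtain ⟨t, ht⟩ := exists_isTranscendenceBasis (IsLocalRing.ResidueField vK.valuationSubring)
    (IsLocalRing.ResidueField vL.valuationSubring)
  rw [← hs, ← ht.cardinalMk_eq_trdeg]
  choose u hu using fun i : s => QuotientAddGroup.mk_surjective i.1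
  choose y hy using fun j : t => IsLocalRing.residue_surjective (R := vL.valuationSubring) j.1
  refine le_trans (le_of_eq ?_)
    (algebraicIndependent_sum vK vL (fun i => (u i).toMul) ?_ y ?_).cardinalMk_le_trdeg
  · simp
  · convert hli using 1 <;> first | rfl | (funext i; exact hu i)
  · convert ht.1 using 1
    funext j
    exact hy j

end Groth.Agent.S14891
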