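import Mathlib
import Groth.Statements.S14896
-- import your own Groth.Agent.* helpers here

set_option autoImplicit false
universe u
open CAlg

namespace Groth.Agent.S14896

/-- Let L/K be a finite extension of valued fields, v_L extending v_K, with K° = the valuation ring of
v_K having finite spectrum (finite height), and L° the valuation ring of v_L. If L° is local-étale
over K°, i.e. L° is the localization at a prime ideal of some étale K°-algebra B compatibly with the
K°-algebra structures, then L° is étale over K°. (For valued fields of finite height 'unramified' in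
the local-étale sense is thus the same as K° → L° étale; the published lemma phrases the hypothesis
as 'L/K unramified'.) -/
theorem result
    {K L Γ₀ Γ₁ : Type u} [Field K] [Field L] [Algebra K L] [FiniteDimensional K L]
    [LinearOrderedCommGroupWithZero Γ₀] [LinearOrderedCommGroupWithZero Γ₁]
    (vK : Valuation K Γ₀) (vL : Valuation L Γ₁) [vK.HasExtension vL]
    [Finite (PrimeSpectrum vK.valuationSubring)]
    (B : Type u) [CommRing B] [Algebra vK.valuationSubring B] [Algebra.Etale vK.valuationSubring B]
    [Algebra B vL.valuationSubring] [IsScalarTower vK.valuationSubring B vL.valuationSubring]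
    (P : Ideal B) [P.IsPrime] [IsLocalization.AtPrime vL.valuationSubring P] :
    Algebra.Etale vK.valuationSubring vL.valuationSubring := by
  classical
  let A := vK.valuationSubring
  let Lo := vL.valuationSubring
  haveI : Finite (PrimeSpectrum B) := Algebra.QuasiFinite.finite_primeSpectrum A B
  cases nonempty_fintype (PrimeSpectrum B)
  have hex : ∀ Q : PrimeSpectrum B, ∃ g, g ∉ P ∧ (¬ Q.asIdeal ≤ P → g ∈ Q.asIdeal) := by
    intro Q
    by_cases h : Q.asIdeal ≤ P
    · exact ⟨1, fun h1 => ‹P.IsPrime›.ne_top ((Ideal.eq_top_iff_one P).2 h1), fun hn => (hn h).elim⟩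
    · obtain ⟨g, hgQ, hgP⟩ := SetLike.not_le_iff_exists.1 h
      exact ⟨g, hgP, fun _ => hgQ⟩
  choose g hgP hgQ using hex
  have hgP' : (∏ Q, g Q) ∉ P := fun h => by
    obtain ⟨Q, -, hQ⟩ := ‹P.IsPrime›.prod_mem_iff.1 h
    exact hgP Q hQ
  have hdvd : ∀ s ∉ P, ∃ n : ℕ, s ∣ (∏ Q, g Q) ^ n := by
    intro s hs
    have : (∏ Q, g Q) ∈ (Ideal.span {s}).radical := by
      rw [Ideal.radical_eq_sInf, Submodule.mem_sInf]
      rintro J ⟨hsJ, hJ⟩
      refine Ideal.mem_of_dvd J (Finset.dvd_prod_of_mem g (Finset.mem_univ ⟨J, hJ⟩)) (hgQ ⟨J, hJ⟩ fun hle => ?_)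
      exact hs (hle (hsJ (Ideal.mem_span_singleton_self s)))
    obtain ⟨n, hn⟩ := this
    exact ⟨n, Ideal.mem_span_singleton.1 hn⟩
  haveI : IsLocalization.Away (∏ Q, g Q) Lo := by
    refine IsLocalization.Away.mk _ (IsLocalization.map_units Lo (⟨_, hgP'⟩ : P.primeCompl)) (fun z => ?_) ?_
    · obtain ⟨⟨b, s⟩, hb⟩ := IsLocalization.surj P.primeCompl z
      obtain ⟨n, c, hc⟩ := hdvd _ s.2
      exact ⟨n, b * c, by rw [← map_pow, hc, map_mul, ← mul_assoc, hb, map_mul]⟩
    · intro a b hab
      obtain ⟨s, hs⟩ := (IsLocalization.eq_iff_exists P.primeCompl Lo).1 hab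
      obtain ⟨n, c, hc⟩ := hdvd _ s.2
      exact ⟨n, by linear_combination a * hc - b * hc + c * hs⟩
  haveI : Algebra.Etale B Lo := Algebra.Etale.of_isLocalizationAway (∏ Q, g Q)
  exact Algebra.Etale.comp A B Lo

end Groth.Agent.S14896
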