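import Groth.Statements.S14901

import Groth.Agent.VarBase.GenDrop
import Groth.Agent.VarDim.Fibre
import Groth.Agent.VarDim.Top
import Groth.Agent.FibDim.Comp

set_option autoImplicit false
set_option linter.style.haveILetI false
set_option linter.unusedSectionVars false
set_option backward.isDefEq.respectTransparency false
set_option backward.isDefEq.respectTransparency.types false
universe u
open MovLem

namespace Groth.Agent.S14901

open CategoryTheory AlgebraicGeometry Groth.Agent.VarBase Topology Groth.Agent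

theorem rd_eq_fdeg {X Y : Scheme.{u}} (f : X ⟶ Y) [LocallyOfFiniteType f] (x : X) :
    FibDim.rd f x = VarDim.fdeg f x :=
  (VarDim.deg_fiber f (f x) (f.asFiber x)).trans (congrArg (VarDim.fdeg f) (f.fiberι_asFiber x))

theorem rd_eq_deg {k : Type u} [Field k] {X : Scheme.{u}} (p : X ⟶ Spec (CommRingCat.of k))
    [LocallyOfFiniteType p] (x : X) : FibDim.rd p x = VarDim.deg p x := by
  have h : VarDim.deg (𝟙 (Spec (CommRingCat.of k))) (p x) = 0 :=
    (VarDim.closedPoint_iff_deg_eq_zero _ (p x)).1 Set.subsingleton_singleton.isClosed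
  rw [rd_eq_fdeg, VarDim.deg_eq_add p (𝟙 _) (Category.comp_id p) x, h, zero_add]

open AlgebraicGeometry CategoryTheory in
/-- Let k be a field, let S and X be separated k-schemes of finite type that are locally equidimensional
(all irreducible components passing through a given point have the same dimension), let f : S → X be
a k-morphism and Z ⊆ X a closed subset. Let d be the dimension of the image f(S), as a subspace of
X. If every point s of S with f(s) ∈ Z satisfies dim O_{S,s} ≥ d + 1 (equivalently: the closed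
subset f⁻¹(Z) of S has local codimension at least d + 1 at each of its points), then f⁻¹(Z) is
empty. -/
theorem result (k : Type u) [Field k] (S X : Scheme.{u})
    (pS : S ⟶ Spec (CommRingCat.of k)) (pX : X ⟶ Spec (CommRingCat.of k))
    [IsSeparated pS] [LocallyOfFiniteType pS] [QuasiCompact pS]
    [IsSeparated pX] [LocallyOfFiniteType pX] [QuasiCompact pX]
    (hS : ∀ (s : S) (A B : Set S), A ∈ irreducibleComponents (S : Type u) → B ∈ irreducibleComponents (S : Type u) →
      s ∈ A → s ∈ B → topologicalKrullDim A = topologicalKrullDim B)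
    (hX : ∀ (x : X) (A B : Set X), A ∈ irreducibleComponents (X : Type u) → B ∈ irreducibleComponents (X : Type u) →
      x ∈ A → x ∈ B → topologicalKrullDim A = topologicalKrullDim B)
    (f : S ⟶ X) (hf : f ≫ pX = pS) (Z : Set X) (hZ : IsClosed Z)
    (h : ∀ s : S, f.base s ∈ Z →
      topologicalKrullDim (Set.range f.base) + 1 ≤ ringKrullDim (S.presheaf.stalk s)) :
    f.base ⁻¹' Z = ∅ := by
  haveI : LocallyOfFiniteType f := by
    have : LocallyOfFiniteType (f ≫ pX) := by rw [hf]; infer_instance
    exact locallyOfFiniteType_of_comp f pX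
  haveI : IsLocallyNoetherian X := LocallyOfFiniteType.isLocallyNoetherian pX
  haveI : IsLocallyNoetherian S := LocallyOfFiniteType.isLocallyNoetherian pS
  haveI : QuasiCompact (f ≫ pX) := by rw [hf]; infer_instance
  haveI : QuasiCompact f := QuasiCompact.of_comp f pX
  refine Set.eq_empty_iff_forall_notMem.2 fun s₀ hs₀ => ?_
  obtain ⟨s, -, hss, hfs, hmax⟩ := FibDim.exists_max_rd f (Z := Set.univ) (x := s₀) trivial
  have hsmax : ∀ z, z ⤳ s → f.base z = f.base s → z = s := fun z hz he => by
    by_contra hne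
    have h1 := hmax z trivial (hz.trans hss) (he.trans hfs)
    have h2 := FibDim.rd_lt f hz hne he
    omega
  have hdimfib : FlatMor.fibreDimAt f s = ((FibDim.rd f s : ℕ∞) : WithBot ℕ∞) := by
    obtain ⟨z, hz, he, he', -⟩ := FibDim.exists_fibreDimAt_eq f s
    rw [he', hsmax z hz he]
  have hdim := h s (show f.base s ∈ Z by rw [hfs]; exact hs₀)
  obtain ⟨η, hηs, hηmax, hcd⟩ := DimFormula.exists_maximal_cd_eq_codim s
  rw [DimFormula.ringKrullDim_stalk, ← hcd] at hdim
  have hrd : FibDim.rd f η ≤ FibDim.rd f s := by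
    have h1 := hηs.mem_closed (FibDim.isClosed_le_fibreDimAt f (FibDim.rd f η))
      (GenDrop.fibreDimAt_of_maximal f hηmax).ge
    rw [Set.mem_setOf_eq, hdimfib] at h1
    exact_mod_cast h1
  have h1 := (DimFormula.cd_formula pS hηs).1
  rw [rd_eq_deg, rd_eq_deg, VarDim.deg_eq_add f pX hf s, VarDim.deg_eq_add f pX hf η, ← rd_eq_fdeg,
    ← rd_eq_fdeg, show pS s = pS η from Subsingleton.elim _ _, DimFormula.cd_self] at h1
  set ξ := f.base η
  haveI : LocallyOfFinitePresentation f := LocallyOfFinitePresentation.iff_locallyOfFiniteType.2 ‹_›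
  have hC : IsLocallyConstructible (f.base '' Set.univ ∪ (closure {ξ})ᶜ) := by
    refine (f.isLocallyConstructible_image IsLocallyConstructible.univ).union ?_
    have := FibDim.isLocallyConstructible_inter (X := X) (isClosed_closure (s := {ξ})).isOpen_compl isClosed_univ
    rwa [Set.inter_univ] at this
  obtain ⟨U, hUsub, hU, hξU⟩ := mem_nhds_iff.1 (FibDim.mem_nhds_of_generizations hC (y := ξ) fun t ht => by
    by_cases h2 : t ∈ closure {ξ}
    · rw [(ht.antisymm (specializes_iff_mem_closure.2 h2)).eq]
      exact Or.inl ⟨η, trivial, rfl⟩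
    · exact Or.inr h2)
  have hsub : U ∩ closure {ξ} ⊆ Set.range f.base := by
    rintro t ⟨htU, htc⟩
    rcases hUsub htU with ⟨w, -, hw⟩ | h2
    · exact ⟨w, hw⟩
    · exact absurd htc h2
  have hle : ((VarDim.deg pX ξ : ℕ∞) : WithBot ℕ∞) ≤ topologicalKrullDim (Set.range f.base) := by
    refine le_trans ?_ ((Topology.IsEmbedding.inclusion hsub).isInducing.topologicalKrullDim_le)
    rw [FibDim.topologicalKrullDim_locClosed_eq_iSup_deg pX hU isClosed_closure]
    exact le_iSup (fun z : ↥(U ∩ closure {ξ}) => ((VarDim.deg pX z : ℕ∞) : WithBot ℕ∞)) ⟨ξ, hξU, subset_closure rfl⟩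
  have h2 : DimFormula.cd η s ≤ VarDim.deg pX ξ := by
    have h1' : DimFormula.cd η s + (VarDim.deg pX (f.base s) + FibDim.rd f s) ≤
      0 + (VarDim.deg pX ξ + FibDim.rd f η) := h1
    omega
  have h3 : (topologicalKrullDim (Set.range f.base) + 1 : WithBot ℕ∞) ≤ ((VarDim.deg pX ξ : ℕ∞) : WithBot ℕ∞) :=
    hdim.trans (by exact_mod_cast h2)
  have h4 : (((VarDim.deg pX ξ + 1 : ℕ) : ℕ∞) : WithBot ℕ∞) ≤ ((VarDim.deg pX ξ : ℕ∞) : WithBot ℕ∞) := by
    refine le_trans ?_ h3
    push_cast
    exact add_le_add hle le_rfl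
  have h5 : VarDim.deg pX ξ + 1 ≤ VarDim.deg pX ξ := by exact_mod_cast h4
  omega

end Groth.Agent.S14901
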