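import Groth.Statements.S14928
import Groth.Agent.LimMor.Approx
import Groth.Agent.H84PerfApprox.Basic

set_option autoImplicit false
universe u
open CategoryTheory CategoryTheory.Limits AlgebraicGeometry
open PerfSch

namespace Groth.Agent.S14928

section

open Opposite TopologicalSpace
open Groth.Agent
open Groth.Agent.H84PerfApprox (base exists_toBase exists_perfection' isReduced_of_isPerfect)

set_option backward.isDefEq.respectTransparency false
set_option backward.isDefEq.respectTransparency.types false

theorem final (p : ℕ) [Fact p.Prime] (X : Scheme.{u})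
    [FrobSch.IsCharP X p] [CompactSpace X] [QuasiSeparatedSpace X] [FrobSch.IsPerfect X p]
    (hc : ∀ (J : Type u) [SmallCategory J] [IsCofiltered J] (F : J ⥤ Scheme.{u})
      [∀ j, FrobSch.IsCharP (F.obj j) p] (c : Cone F) [FrobSch.IsCharP c.pt p], IsLimit c →
      (∀ ⦃i j : J⦄ (a : i ⟶ j), IsAffineHom (F.map a)) →
      (∀ j, FrobSch.IsPerfect (F.obj j) p ∧ CompactSpace (F.obj j) ∧ QuasiSeparatedSpace (F.obj j)) →
      FrobSch.IsPerfect c.pt p → CompactSpace c.pt → QuasiSeparatedSpace c.pt →
      (∀ g : c.pt ⟶ X, ∃ (j : J) (gj : F.obj j ⟶ X), c.π.app j ≫ gj = g) ∧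
      (∀ (j : J) (g g' : F.obj j ⟶ X), c.π.app j ≫ g = c.π.app j ≫ g' →
        ∃ (k : J) (a : k ⟶ j), F.map a ≫ g = F.map a ≫ g')) :
    ∃ (X0 : Scheme.{u}) (s : X0 ⟶ base.{u} p) (_ : LocallyOfFinitePresentation s)
      (_ : CompactSpace X0) (_ : QuasiSeparatedSpace X0) (π : X ⟶ X0), FrobSch.IsPerfection π p := by
  haveI : FrobSch.IsCharP (base.{u} p) p := FrobSch.isCharP_Spec _ p
  -- an affine morphism to a scheme of finite type over the prime field
  obtain ⟨T₀, g₀, hT₀, hg₀⟩ := LimMor.exists_affine_toFTZ X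
  obtain ⟨b⟩ := exists_toBase p X
  let q : base.{u} p ⟶ LimMor.specZ.{u} := LimMor.toZ _
  haveI hqci : IsClosedImmersion q := by
    have : q = Spec.map (CommRingCat.ofHom ((ULift.ringEquiv.symm : ZMod p ≃+* ULift.{u} (ZMod p)).toRingHom.comp
        ((Int.castRingHom (ZMod p)).comp (ULift.ringEquiv : ULift.{u} ℤ ≃+* ℤ).toRingHom))) :=
      specULiftZIsTerminal.hom_ext _ _
    rw [this]
    refine IsClosedImmersion.spec_of_surjective _ fun x => ?_
    obtain ⟨z, hz⟩ := ZMod.intCast_surjective x.down
    exact ⟨⟨z⟩, ULift.ext _ _ hz⟩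
  have hb : ∀ {Y : Scheme.{u}} (a a' : Y ⟶ base.{u} p), a = a' := fun a a' =>
    (cancel_mono q).1 (specULiftZIsTerminal.hom_ext _ _)
  let T : Scheme.{u} := pullback (LimMor.toZ T₀) q
  let sT : T ⟶ base.{u} p := pullback.snd _ _
  let g : X ⟶ T := pullback.lift g₀ b (specULiftZIsTerminal.hom_ext _ _)
  haveI : IsAffineHom g := by
    haveI : IsAffineHom (g ≫ pullback.fst (LimMor.toZ T₀) q) := by rw [pullback.lift_fst]; exact hg₀
    exact IsAffineHom.of_comp g (pullback.fst (LimMor.toZ T₀) q)
  haveI := hT₀.compact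
  haveI := hT₀.lft
  haveI : LocallyOfFiniteType sT := inferInstanceAs (LocallyOfFiniteType (pullback.snd _ _))
  haveI : CompactSpace T := QuasiCompact.compactSpace_of_compactSpace (pullback.fst (LimMor.toZ T₀) q)
  haveI : IsNoetherianRing (ULift.{u} (ZMod p)) := isNoetherianRing_of_ringEquiv (ZMod p) ULift.ringEquiv.symm
  haveI : IsLocallyNoetherian T := LocallyOfFiniteType.isLocallyNoetherian sT
  haveI : QuasiSeparatedSpace T := inferInstance
  haveI : FrobSch.IsCharP T p := FrobSch.IsCharP.of_hom sT p
  -- the stages and their perfections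
  let J := (LimMor.FTSub g)ᵒᵖ
  let D : J ⥤ Scheme.{u} := LimMor.sys g
  haveI hDp : ∀ i : LimMor.FTSub g, FrobSch.IsCharP i.sch p := fun i => FrobSch.IsCharP.of_hom i.π p
  choose P hP π s hπ hs hext using fun i : LimMor.FTSub g => exists_perfection' p i.sch
  haveI := hP
  haveI hπa : ∀ i, IsAffineHom (π i) := fun i => H9Misc.PerfSchLib.isAffineHom p (hπ i)
  choose κ hκ using fun i : LimMor.FTSub g => ((hπ i).2 X ‹_›).2 i.k
  change ∀ i, κ i ≫ π i = i.k at hκ
  choose tr htr using fun (i j : LimMor.FTSub g) (h : i ≤ j) =>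
    ((hπ i).2 (P j) (hπ j).1).2 (π j ≫ LimMor.FTSub.trans h)
  change ∀ i j h, tr i j h ≫ π i = π j ≫ LimMor.FTSub.trans h at htr
  have huni : ∀ (i : LimMor.FTSub g) {Y : Scheme.{u}} [FrobSch.IsCharP Y p], FrobSch.IsPerfect Y p →
      ∀ {a b : Y ⟶ P i}, a ≫ π i = b ≫ π i → a = b := fun i Y _ hY _ _ e => ((hπ i).2 Y hY).1 e
  have hκtr : ∀ i j h, κ j ≫ tr i j h = κ i := fun i j h => huni i ‹_› (by
    rw [Category.assoc, htr, ← Category.assoc, hκ, hκ, LimMor.FTSub.k_trans])
  let F : J ⥤ Scheme.{u} :=
    { obj := fun i => P i.unop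
      map := fun {a b} f => tr b.unop a.unop (leOfHom f.unop)
      map_id := fun a => huni a.unop (hπ a.unop).1 (by
        rw [htr, Category.id_comp]
        exact (congrArg (π a.unop ≫ ·) (D.map_id a)).trans (Category.comp_id _))
      map_comp := fun {a b c} f f' => huni c.unop (hπ a.unop).1 (by
        rw [htr, Category.assoc, htr, ← Category.assoc (tr _ _ _), htr, Category.assoc]
        exact congrArg (π a.unop ≫ ·) (D.map_comp f f')) }
  let c : Cone F :=
    { pt := X
      π := { app := fun i => κ i.unop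
             naturality := fun i j f => (Category.id_comp _).trans (hκtr _ _ _).symm } }
  obtain ⟨hlim⟩ := LimMor.nonempty_isLimit_sysCone (f := g)
  haveI : IsIso (FrobSch.frob X p) := ‹_›
  let sX : X ⟶ X := inv (FrobSch.frob X p)
  have hFs : ∀ i, FrobSch.frob (P i) p ≫ s i = 𝟙 _ := fun i => by
    haveI : IsIso (FrobSch.frob (P i) p) := (hπ i).1
    rw [← cancel_mono (FrobSch.frob (P i) p), Category.assoc, hs, Category.comp_id, Category.id_comp]
  have hscomm : ∀ i, sX ≫ κ i = κ i ≫ s i := fun i => by
    rw [← cancel_epi (FrobSch.frob X p), IsIso.hom_inv_id_assoc, ← Category.assoc, FrobSch.frob_comp,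
      Category.assoc, hFs, Category.comp_id]
  have hscomm' : ∀ i j h, s j ≫ tr i j h = tr i j h ≫ s i := fun i j h => by
    haveI : IsIso (FrobSch.frob (P i) p) := (hπ i).1
    rw [← cancel_mono (FrobSch.frob (P i) p), Category.assoc, Category.assoc, hs, Category.comp_id,
      ← FrobSch.frob_comp, ← Category.assoc, hs, Category.id_comp]
  let sn : ∀ i, ℕ → (P i ⟶ P i) := fun i n => (fun g : P i ⟶ P i => g ≫ s i)^[n] (𝟙 _)
  let xn : ℕ → (X ⟶ X) := fun n => (fun g : X ⟶ X => g ≫ sX)^[n] (𝟙 _)
  have sn_succ : ∀ i n, sn i (n + 1) = sn i n ≫ s i := fun i n => Function.iterate_succ_apply' _ _ _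
  have xn_succ : ∀ n, xn (n + 1) = xn n ≫ sX := fun n => Function.iterate_succ_apply' _ _ _
  have hxn : ∀ n i, xn n ≫ κ i = κ i ≫ sn i n := fun n i => by
    induction n with
    | zero => exact (Category.id_comp _).trans (Category.comp_id _).symm
    | succ n ih => rw [xn_succ, sn_succ, Category.assoc, hscomm, ← Category.assoc, ih, Category.assoc]
  have hsn : ∀ n i j h, sn j n ≫ tr i j h = tr i j h ≫ sn i n := fun n i j h => by
    induction n with
    | zero => exact (Category.id_comp _).trans (Category.comp_id _).symm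
    | succ n ih => rw [sn_succ, sn_succ, Category.assoc, hscomm', ← Category.assoc, ih, Category.assoc]
  -- the limit
  let coneAt : Cone F → ℕ → Cone D := fun d n =>
    { pt := d.pt
      π := { app := fun i => d.π.app i ≫ sn i.unop n ≫ π i.unop
             naturality := fun i j f => by
              refine (Category.id_comp _).trans ?_
              rw [← d.w f]
              show (_ ≫ tr j.unop i.unop (leOfHom f.unop)) ≫ sn j.unop n ≫ π j.unop =
                (_ ≫ sn i.unop n ≫ π i.unop) ≫ LimMor.FTSub.trans (leOfHom f.unop)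
              rw [Category.assoc, Category.assoc, Category.assoc, ← htr, ← Category.assoc (sn i.unop n), hsn,
                Category.assoc] } }
  have hlift : ∀ (d : Cone F) (n : ℕ) (i : LimMor.FTSub g),
      hlim.lift (coneAt d n) ≫ i.k = d.π.app (op i) ≫ sn i n ≫ π i := fun d n i => hlim.fac (coneAt d n) (op i)
  have key : ∀ (d : Cone F) (n : ℕ), hlim.lift (coneAt d 0) ≫ xn n = hlim.lift (coneAt d n) := fun d n => by
    induction n with
    | zero => exact Category.comp_id _
    | succ n ih =>
      rw [← cancel_mono (FrobSch.frob X p), xn_succ, ← Category.assoc, ih, Category.assoc,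
        IsIso.inv_hom_id, Category.comp_id]
      refine hlim.hom_ext fun j => ?_
      show _ ≫ j.unop.k = (_ ≫ FrobSch.frob X p) ≫ j.unop.k
      rw [Category.assoc, FrobSch.frob_comp, ← Category.assoc, hlift, hlift, Category.assoc, Category.assoc,
        sn_succ, Category.assoc, ← FrobSch.frob_comp (p := p) (f := π j.unop), reassoc_of% (hs j.unop)]
  let hF : IsLimit c :=
    { lift := fun d => hlim.lift (coneAt d 0)
      fac := fun d i => by
        refine hext i.unop fun n => ?_
        show (hlim.lift (coneAt d 0) ≫ κ i.unop) ≫ sn i.unop n ≫ π i.unop = d.π.app i ≫ sn i.unop n ≫ π i.unop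
        rw [Category.assoc, ← reassoc_of% (hxn n i.unop), hκ, ← Category.assoc, key, hlift]
      uniq := fun d m hm => hlim.hom_ext fun i => by
        show m ≫ i.unop.k = hlim.lift (coneAt d 0) ≫ i.unop.k
        rw [hlift, ← hκ, ← Category.assoc, show m ≫ κ i.unop = d.π.app i from hm i]
        exact congrArg (_ ≫ ·) (Category.id_comp _).symm }
  haveI : ∀ i : J, FrobSch.IsCharP (F.obj i) p := fun i => hP i.unop
  haveI : FrobSch.IsCharP c.pt p := ‹FrobSch.IsCharP X p›
  haveI haffF : ∀ {i j : J} (a : i ⟶ j), IsAffineHom (F.map a) := fun {i j} a => by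
    haveI : IsAffineHom (tr j.unop i.unop (leOfHom a.unop) ≫ π j.unop) := by rw [htr]; infer_instance
    exact IsAffineHom.of_comp (tr j.unop i.unop (leOfHom a.unop)) (π j.unop)
  haveI hcpt : ∀ i : LimMor.FTSub g, CompactSpace i.sch := fun i => QuasiCompact.compactSpace_of_compactSpace i.π
  haveI hqs : ∀ i : LimMor.FTSub g, QuasiSeparatedSpace i.sch := fun i => quasiSeparatedSpace_of_quasiSeparated i.π
  haveI hcptP : ∀ i : J, CompactSpace (F.obj i) := fun i => QuasiCompact.compactSpace_of_compactSpace (π i.unop)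
  obtain ⟨hsurj, -⟩ := hc J F c hF (fun _ _ a => haffF a)
    (fun i => ⟨(hπ i.unop).1, hcptP i, quasiSeparatedSpace_of_quasiSeparated (π i.unop)⟩)
    ‹_› ‹CompactSpace X› ‹QuasiSeparatedSpace X›
  obtain ⟨j, r, hr⟩ := hsurj (𝟙 X)
  change κ j.unop ≫ r = 𝟙 X at hr
  -- the retraction is a morphism over `T` at a later stage
  let t : F ⟶ (Functor.const J).obj (base.{u} p) :=
    { app := fun i => π i.unop ≫ i.unop.π ≫ sT
      naturality := fun i i' a => hb _ _ }
  obtain ⟨k, a, hk⟩ := Scheme.exists_hom_comp_eq_comp_of_locallyOfFiniteType F t sT c hF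
    (i := j) (r ≫ g) (π j.unop ≫ j.unop.π) (hb _ _) (hb _ _) (by
      show κ j.unop ≫ r ≫ g = κ j.unop ≫ π j.unop ≫ j.unop.π
      rw [reassoc_of% hr, reassoc_of% (hκ j.unop), LimMor.FTSub.k_π])
  let i := k.unop
  let r' : P i ⟶ X := F.map a ≫ r
  have hr' : κ i ≫ r' = 𝟙 X := by
    show κ i ≫ tr _ _ _ ≫ r = _
    rw [reassoc_of% (hκtr j.unop i (leOfHom a.unop)), hr]
  have hr'T : r' ≫ g = π i ≫ i.π := by
    show (F.map a ≫ r) ≫ g = _
    rw [Category.assoc]
    refine hk.trans ?_
    show tr _ _ _ ≫ π j.unop ≫ j.unop.π = _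
    rw [← Category.assoc, htr, Category.assoc, LimMor.FTSub.trans_π]
  haveI : IsReduced (P i) := isReduced_of_isPerfect p (hπ i).1
  haveI : IsDominant (κ i) := by
    obtain ⟨hπi, hπu, hπs⟩ := MorLib.isUnivHomeo_iff.1 (H9Misc.PerfSchLib.isUnivHomeo (hπ i))
    haveI := hπi
    haveI := hπu
    have hinj : Function.Injective (π i) := (π i).injective
    have hind : Topology.IsInducing (π i) :=
      (Topology.IsClosedEmbedding.of_continuous_injective_isClosedMap (π i).continuous hinj
        (π i).isClosedMap).isInducing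
    refine ⟨fun x => (hind.closure_eq_preimage_closure_image _).symm ▸ ?_⟩
    show π i x ∈ closure (π i '' Set.range (κ i))
    rw [← Set.range_comp, show ((π i) ∘ (κ i)) = (i.k : X → i.sch) by rw [← hκ i]; rfl]
    exact IsDominant.denseRange (f := i.k) (π i x)
  have hret : r' ≫ κ i = 𝟙 (P i) := huni i (hπ i).1 (by
    rw [Category.id_comp, Category.assoc, hκ]
    refine ext_of_isDominant_of_isSeparated i.π ?_ (κ i) ?_
    · rw [Category.assoc, i.k_π, hr'T]
    · rw [reassoc_of% hr', hκ])
  have hXP : FrobSch.IsPerfection i.k p := by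
    refine ⟨‹_›, fun Y _ hY => ⟨fun a b e => ?_, fun f => ?_⟩⟩
    · have : a ≫ κ i = b ≫ κ i := huni i hY (by rw [Category.assoc, Category.assoc, hκ]; exact e)
      have := congrArg (· ≫ r') this
      simpa only [Category.assoc, hr', Category.comp_id] using this
    · obtain ⟨l, hl⟩ := ((hπ i).2 Y hY).2 f
      refine ⟨l ≫ r', ?_⟩
      show (l ≫ r') ≫ i.k = f
      rw [← hκ, Category.assoc, reassoc_of% hret]
      exact hl
  exact ⟨i.sch, i.π ≫ sT, LocallyOfFinitePresentation.iff_locallyOfFiniteType.2 inferInstance, hcpt i, hqs i,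
    i.k, hXP⟩

end

/-- Let p be a prime and X a quasi-compact quasi-separated perfect scheme of characteristic p (absolute
Frobenius an isomorphism). Assume X is perfectly finitely presented over the prime field in the
sense of the compactness condition: for every small cofiltered diagram (Z_i) of quasi-compact
quasi-separated perfect schemes of characteristic p with affine transition morphisms, and every
limit cone over it whose vertex Z is a quasi-compact quasi-separated perfect scheme of
characteristic p, the natural map colim_i Hom(Z_i, X) → Hom(Z, X) is bijective — every morphism Z ⟶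
X factors through the projection to some Z_i, and two morphisms Z_i ⟶ X with the same composite Z ⟶
X have the same composite Z_k ⟶ X for some transition morphism Z_k ⟶ Z_i. Then X admits a model: a
scheme X_0 together with a morphism X_0 ⟶ Spec F_p which is locally of finite presentation, X_0
quasi-compact and quasi-separated, and a morphism π : X ⟶ X_0 which is a perfection (every morphism
from a perfect scheme of characteristic p to X_0 factors uniquely through π). (The published
statement is for a perfectly finitely presented morphism X ⟶ Y of quasi-compact quasi-separated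
perfect schemes and produces a morphism of finite presentation X_0 ⟶ Y with perfection X ⟶ Y; this
row is the case where the base is the spectrum of the prime field, with perfect finite presentation
taken in its compactness form.) -/
theorem result (p : ℕ) [Fact p.Prime] (X : Scheme.{u})
    [FrobSch.IsCharP X p] [CompactSpace X] [QuasiSeparatedSpace X] [FrobSch.IsPerfect X p]
    (hc : ∀ (J : Type u) [SmallCategory J] [IsCofiltered J] (F : J ⥤ Scheme.{u})
      [∀ j, FrobSch.IsCharP (F.obj j) p] (c : Cone F) [FrobSch.IsCharP c.pt p], IsLimit c →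
      (∀ ⦃i j : J⦄ (a : i ⟶ j), IsAffineHom (F.map a)) →
      (∀ j, FrobSch.IsPerfect (F.obj j) p ∧ CompactSpace (F.obj j) ∧ QuasiSeparatedSpace (F.obj j)) →
      FrobSch.IsPerfect c.pt p → CompactSpace c.pt → QuasiSeparatedSpace c.pt →
      (∀ g : c.pt ⟶ X, ∃ (j : J) (gj : F.obj j ⟶ X), c.π.app j ≫ gj = g) ∧
      (∀ (j : J) (g g' : F.obj j ⟶ X), c.π.app j ≫ g = c.π.app j ≫ g' →
        ∃ (k : J) (a : k ⟶ j), F.map a ≫ g = F.map a ≫ g')) :
    ∃ (X0 : Scheme.{u}) (s : X0 ⟶ Spec (CommRingCat.of (ULift.{u} (ZMod p)))) (_ : LocallyOfFinitePresentation s)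
      (_ : CompactSpace X0) (_ : QuasiSeparatedSpace X0) (π : X ⟶ X0), FrobSch.IsPerfection π p := by
  exact final p X hc

end Groth.Agent.S14928
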