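import Groth.Statements.S14990
import Groth.Agent.Growth22.BertLin.Jets
import Groth.Agent.Growth22.BertLin.Glue
import Groth.Agent.Lib.CurveDualPrep
import Groth.Agent.PnCoh.Chow.DevInput
import Groth.Agent.BertiniAff.Quot
-- import your own Groth.Agent.* helpers here

set_option autoImplicit false
universe u
open CategoryTheory CategoryTheory.Limits AlgebraicGeometry
open Variety

namespace Groth.Agent.S14990

set_option linter.style.haveILetI false
set_option linter.unusedSectionVars false
set_option maxHeartbeats 1000000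
set_option backward.isDefEq.respectTransparency false
set_option backward.isDefEq.respectTransparency.types false
/-- Let k be an algebraically closed field, Y a scheme smooth and of finite type over k, L an invertible
O_Y-module, s_1, …, s_m global sections of L (morphisms O_Y ⟶ L) such that at every closed point p
the span of the s_i maps onto L_p/m_p^2 L_p, and f a further global section of L. Then the zero
scheme of f + Σ c_i s_i is smooth over k for all c outside the zero set of some nonzero polynomial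
in m variables. (The published hypothesis is stated at every point of Y; it can only hold at closed
points, which is where the argument uses it, so this row asks it at closed points.) -/
theorem result (k : Type u) [Field k] [IsAlgClosed k]
    (Y : Scheme.{u}) [Y.Over (Spec (CommRingCat.of k))] [Smooth (Y ↘ Spec (CommRingCat.of k))]
    [QuasiCompact (Y ↘ Spec (CommRingCat.of k))]
    (L : Y.Modules) (hL : FlatMod.IsFinLocFreeOfRank 1 L) (m : ℕ)
    (s : Fin m → (Coh.structureModule Y ⟶ L)) (f : Coh.structureModule Y ⟶ L)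
    (hjet : ∀ p : Y, IsClosed ({p} : Set Y) → ∀ l : ↥(L.presheaf.stalk p), ∃ c : Fin m → k,
      (L.presheaf.germ ⊤ p trivial)
          (PicF2.secVal L (∑ i : Fin m, Formal.smulMod k (Coh.structureModule Y) (c i) ≫ s i) ⊤) - l ∈
        (IsLocalRing.maximalIdeal ↥(Y.presheaf.stalk p)) ^ 2 •
          (⊤ : Submodule ↥(Y.presheaf.stalk p) ↥(L.presheaf.stalk p))) :
    ∃ q : MvPolynomial (Fin m) k, q ≠ 0 ∧ ∀ c : Fin m → k, MvPolynomial.eval c q ≠ 0 →
      Smooth ((PicF2.zeroScheme L (f + ∑ i : Fin m, Formal.smulMod k (Coh.structureModule Y) (c i) ≫ s i)).subschemeι ≫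
        (Y ↘ Spec (CommRingCat.of k))) := by
  have hL' : PicF.IsInvertible L := Groth.Agent.CurveDuality.isInvertible_of_rank_one hL
  haveI : JacobsonSpace Y := LocallyOfFiniteType.jacobsonSpace (Y ↘ Spec (CommRingCat.of k))
  refine Groth.Agent.Growth22.BertLin.exists_poly_smooth hL' _ fun U => ?_
  letI := Groth.Agent.Growth22.BertLin.algU k U.1
  intro hstd e he
  choose x hx using fun i => he.exists_coord le_rfl (Groth.Agent.ZeroSchX.sv (s i) U.1)
  obtain ⟨φ, hφ⟩ := he.exists_coord le_rfl (Groth.Agent.ZeroSchX.sv f U.1)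
  simp only [Groth.Agent.AModX.res_self] at hx hφ
  have hsvc : ∀ c : Fin m → k, Groth.Agent.ZeroSchX.sv (∑ i : Fin m, Formal.smulMod k (Coh.structureModule Y) (c i) ≫ s i) U.1 =
      (∑ i, Groth.Agent.Growth22.BertLin.kMap k U.1 (c i) * x i) • e :=
    fun c => Groth.Agent.Growth22.BertLin.sv_combination s c U.1 x hx
  have hjet' : ∀ v : Ideal Γ(Y, U.1), v.IsMaximal → ∀ l : Γ(Y, U.1),
      ∃ c : ULift.{u} (Fin m) → k, (∑ i, c i • x i.down) - l ∈ v ^ 2 := by
    intro v hv l
    let p : Y := U.2.fromSpec ⟨v, hv.isPrime⟩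
    have hpU : p ∈ (U.1 : Set Y) := U.2.range_fromSpec ▸ Set.mem_range_self _
    have hv' : U.2.primeIdealOf ⟨p, hpU⟩ = ⟨v, hv.isPrime⟩ :=
      U.2.fromSpec.isOpenEmbedding.injective (U.2.fromSpec_primeIdealOf ⟨p, hpU⟩)
    have hclosed : IsClosed ({p} : Set Y) := by
      have h1 : (show ↥(Spec Γ(Y, U.1)) from ⟨v, hv.isPrime⟩) ∈ closedPoints ↥(Spec Γ(Y, U.1)) :=
        (PrimeSpectrum.isClosed_singleton_iff_isMaximal _).2 hv
      rw [← U.2.fromSpec.isOpenEmbedding.preimage_closedPoints] at h1
      exact h1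
    obtain ⟨c, hc⟩ := hjet p hclosed (L.presheaf.germ U.1 p hpU (l • e))
    refine ⟨fun i => c i.down, ?_⟩
    set a : Γ(Y, U.1) := (∑ i : ULift.{u} (Fin m), c i.down • x i.down) - l with ha
    have hsum : (∑ i : ULift.{u} (Fin m), c i.down • x i.down) =
        ∑ i, Groth.Agent.Growth22.BertLin.kMap k U.1 (c i) * x i := by
      rw [← Equiv.ulift.symm.sum_comp]
      rfl
    have h1 : (L.presheaf.germ ⊤ p trivial)
          (PicF2.secVal L (∑ i : Fin m, Formal.smulMod k (Coh.structureModule Y) (c i) ≫ s i) ⊤) -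
        L.presheaf.germ U.1 p hpU (l • e) = L.presheaf.germ U.1 p hpU (a • e) := by
      rw [ha, hsum, sub_smul, map_sub, ← hsvc c]
      congr 1
      exact (congrArg (L.presheaf.germ U.1 p hpU) (Groth.Agent.ZeroSchX.res_sv _ (le_top : U.1 ≤ ⊤))).symm.trans
        (L.presheaf.germ_res_apply (homOfLE (le_top : U.1 ≤ ⊤)) p hpU _) |>.symm
    rw [h1, Groth.Agent.QCoh.germ_smul'] at hc
    have hb := Groth.Agent.PnCoh.Chow.bijective_germ_smul_of_frame he (x := p) hpU
    have h2 : Y.presheaf.germ U.1 p hpU a ∈ IsLocalRing.maximalIdeal (Y.presheaf.stalk p) ^ 2 := by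
      have htop : (⊤ : Submodule (Y.presheaf.stalk p) (L.presheaf.stalk p)) =
          Submodule.span (Y.presheaf.stalk p) {L.presheaf.germ U.1 p hpU e} :=
        (Submodule.eq_top_iff'.2 fun z => Submodule.mem_span_singleton.2 (hb.2 z)).symm
      rw [htop] at hc
      obtain ⟨q, hq, hqe⟩ := Submodule.mem_smul_span_singleton.1 hc
      rwa [← hb.1 hqe]
    letI := TopCat.Presheaf.algebra_section_stalk Y.presheaf (U := U.1) ⟨p, hpU⟩
    haveI := U.2.isLocalization_stalk ⟨p, hpU⟩
    have hmax : IsLocalRing.maximalIdeal (Y.presheaf.stalk p) =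
        v.map (algebraMap Γ(Y, U.1) (Y.presheaf.stalk p)) := by
      rw [← IsLocalization.AtPrime.map_eq_maximalIdeal (U.2.primeIdealOf ⟨p, hpU⟩).asIdeal (Y.presheaf.stalk p), hv']
    rw [hmax, ← Ideal.map_pow] at h2
    change algebraMap Γ(Y, U.1) (Y.presheaf.stalk p) a ∈ _ at h2
    obtain ⟨t, ht, hta⟩ := (IsLocalization.algebraMap_mem_map_algebraMap_iff
      (U.2.primeIdealOf ⟨p, hpU⟩).asIdeal.primeCompl (Y.presheaf.stalk p) (I := v ^ 2) (x := a)).1 h2
    have htv : t ∉ v := by
      have : t ∉ (U.2.primeIdealOf ⟨p, hpU⟩).asIdeal := ht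
      rwa [hv'] at this
    obtain ⟨r, i, hi, hri⟩ := hv.exists_inv htv
    have h3 : a = r ^ 2 * t * (t * a) + (i * (2 - i)) * a := by
      linear_combination (-a * (r * t + 1 - i)) * hri
    have h4 : a ∈ v := by
      rcases hv.isPrime.mem_or_mem (Ideal.pow_le_self two_ne_zero hta) with h | h
      · exact absurd h htv
      · exact h
    rw [h3]
    refine add_mem (Ideal.mul_mem_left _ _ hta) ?_
    rw [pow_two]
    exact Ideal.mul_mem_mul (Ideal.mul_mem_right _ _ hi) h4
  rcases subsingleton_or_nontrivial Γ(Y, U.1) with hsub | hnt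
  · exact ⟨1, one_ne_zero, fun c _ h _ => Subsingleton.elim _ _⟩
  obtain ⟨ι, σ, _, _, ⟨P⟩⟩ := hstd.out
  haveI : Algebra.IsStandardSmoothOfRelativeDimension P.dimension k Γ(Y, U.1) :=
    P.isStandardSmoothOfRelativeDimension rfl
  let b := Module.Free.chooseBasis Γ(Y, U.1) (Ω[Γ(Y, U.1)⁄k])
  have hcard : Fintype.card (Module.Free.ChooseBasisIndex Γ(Y, U.1) (Ω[Γ(Y, U.1)⁄k])) = P.dimension := by
    rw [← Module.finrank_eq_card_chooseBasisIndex, Groth.Agent.BertiniAff.finrank_kaehler P.dimension]
  obtain ⟨g, hg0, hg⟩ := Groth.Agent.Growth22.BertLin.exists_poly_of_jets (k := k) b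
    (by rw [hcard]; exact (Groth.Agent.SmoothDim.ringKrullDim_eq k Γ(Y, U.1) P.dimension).le)
    (σ := ULift.{u} (Fin m)) (fun i => x i.down) φ hjet'
  refine ⟨MvPolynomial.rename Equiv.ulift g,
    (map_ne_zero_iff _ (MvPolynomial.rename_injective _ Equiv.ulift.injective)).2 hg0, fun c hc h hh => ?_⟩
  rw [MvPolynomial.eval_rename] at hc
  have key := hg (c ∘ Equiv.ulift) hc
  have hh' : h = φ + ∑ i : ULift.{u} (Fin m), (c ∘ Equiv.ulift) i • x i.down := by
    refine he.coord_unique le_rfl ?_
    simp only [Groth.Agent.AModX.res_self]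
    rw [← hh, Groth.Agent.Growth22.BertLin.sv_add, hφ, hsvc c, add_smul]
    congr 2
    rw [← Equiv.ulift.symm.sum_comp]
    rfl
  rw [hh']
  exact key

end Groth.Agent.S14990
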