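import Groth.Statements.S1500
import Groth.Agent.RelPC13.AmpleFam.Basic
import Groth.Agent.SurfInt.DivSection
import Groth.Agent.SurfInt.Ideal

set_option autoImplicit false
universe u
open FlatMor

namespace Groth.Agent.S1500

open AlgebraicGeometry CategoryTheory Limits in
/-- Let D_1, …, D_m be effective Cartier divisors on X (ideal sheaves locally generated by a
nonzerodivisor) with empty common support, and L_1, …, L_m invertible O_X-modules with L_i ample on
the open complement of D_i. Then X has an ample family of invertible modules. -/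
theorem result {X : Scheme.{u}} {m : ℕ} (D : Fin m → X.IdealSheafData)
    (hD : ∀ i, BlowUp.IsEffCartierIdeal (D i)) (hcap : ⋂ i, ((D i).support : Set ↑X) = ∅)
    (L : Fin m → X.Modules) (hL : ∀ i, PicF.IsInvertible (L i)) (hamp : ∀ i, CohB1.IsAmple ((L i).restrict (Scheme.Opens.ι (D i).support.compl))) :
    MoreMor.HasAmpleFamily X := by
  choose N hN hNinv using fun i => Groth.Agent.H23.PicInv.exists_inverse (Groth.Agent.SurfInt.isInvertible_idealMod (hD i))
  have hinv : ∀ i, ClSub.IsInverseOf (N i) (ClSub.idealMod (D i)) := fun i =>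
    ⟨(Groth.Agent.H23.PicMul.comm (N i) (ClSub.idealMod (D i))).some ≪≫ (hNinv i).some⟩
  choose s hs using fun i => Groth.Agent.SurfInt.exists_divisor_section (D i) (hD i) (hN i) (hinv i)
  refine Groth.Agent.RelPC13.AmpleFam.hasAmpleFamily_of_pieces N hN s (fun i => (D i).support.compl)
    (fun i => TopologicalSpace.Opens.ext (Set.ext fun x => ((hs i x)).symm)) (fun x => ?_) L hL hamp
  by_contra h
  push Not at h
  have : x ∈ ⋂ i, ((D i).support : Set ↑X) := Set.mem_iInter.2 fun i => by
    have := h i
    exact not_not.1 this
  rw [hcap] at this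
  exact this

end Groth.Agent.S1500
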