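import Groth.Statements.S15003
import Groth.Agent.S10881
import Groth.Agent.MdlA1.UnrCount
-- import your own Groth.Agent.* helpers here

set_option autoImplicit false
universe u
open CategoryTheory CategoryTheory.Limits AlgebraicGeometry
open Harb

namespace Groth.Agent.S15003

/-- Let k be an algebraically closed field and let π : Y → X be a finite, surjective and unramified
k-morphism of smooth varieties over k (X and Y integral, separated and of finite type over k with
all local rings regular) which sends the generic point of Y to the generic point of X, so that the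
function field k(X) embeds in k(Y). Then for every closed point p of X the fibre π⁻¹(p) consists of
exactly deg π points, where deg π = [k(Y) : k(X)] is the degree of that field extension. -/
theorem result (k : Type u) [Field k] [IsAlgClosed k]
    (X Y : Scheme.{u}) [X.Over (Spec (CommRingCat.of k))] [Y.Over (Spec (CommRingCat.of k))]
    [IsIntegral X] [IsIntegral Y]
    [IsSeparated (X ↘ (Spec (CommRingCat.of k)))] [LocallyOfFiniteType (X ↘ (Spec (CommRingCat.of k)))]
    [QuasiCompact (X ↘ (Spec (CommRingCat.of k)))]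
    [IsSeparated (Y ↘ (Spec (CommRingCat.of k)))] [LocallyOfFiniteType (Y ↘ (Spec (CommRingCat.of k)))]
    [QuasiCompact (Y ↘ (Spec (CommRingCat.of k)))]
    (hregX : ∀ x : X, IsRegularLocalRing (X.presheaf.stalk x))
    (hregY : ∀ y : Y, IsRegularLocalRing (Y.presheaf.stalk y))
    (π : Y ⟶ X) (hπ : π ≫ (X ↘ (Spec (CommRingCat.of k))) = (Y ↘ (Spec (CommRingCat.of k))))
    [AlgebraicGeometry.IsFinite π] [AlgebraicGeometry.Surjective π] [AlgebraicGeometry.FormallyUnramified π]
    (e : π.base (genericPoint Y) = genericPoint X) (p : X) (hp : IsClosed ({p} : Set X)) :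
    Nat.card {q : Y // π.base q = p} =
      Models.homDegree (X.presheaf.stalkSpecializes (specializes_of_eq e) ≫ π.stalkMap (genericPoint Y)).hom := by
  haveI : IsLocallyNoetherian X := LocallyOfFiniteType.isLocallyNoetherian (X ↘ Spec (CommRingCat.of k))
  haveI : IsLocallyNoetherian Y := LocallyOfFiniteType.isLocallyNoetherian (Y ↘ Spec (CommRingCat.of k))
  haveI : Flat π := by
    refine Groth.Agent.S10881.result π hregY hregX fun Z hZ => ?_
    have hZu : Z = Set.univ := by
      rw [irreducibleComponents_eq_singleton] at hZ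
      exact hZ
    subst hZu
    rw [Set.image_univ, π.surjective.range_eq, closure_univ, irreducibleComponents_eq_singleton]
    rfl
  obtain ⟨U, hU, hpU, -⟩ := exists_isAffineOpen_mem_and_subset (X := X) (x := p) (U := ⊤) trivial
  have hξ : genericPoint X ∈ U := ((genericPoint_spec X).mem_open_set_iff U.isOpen).2 ⟨p, trivial, hpU⟩
  have hV : IsAffineOpen (π ⁻¹ᵁ U) := hU.preimage π
  have hη : genericPoint Y ∈ π ⁻¹ᵁ U := by show π.base (genericPoint Y) ∈ U; rw [e]; exact hξ
  haveI : Nonempty U := ⟨⟨p, hpU⟩⟩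
  haveI : Nonempty (π ⁻¹ᵁ U : Y.Opens) := ⟨⟨_, hη⟩⟩
  letI := (π.app U).hom.toAlgebra
  haveI : Module.Finite Γ(X, U) Γ(Y, π ⁻¹ᵁ U) := IsFinite.finite_app π U hU
  haveI : Module.Flat Γ(X, U) Γ(Y, π ⁻¹ᵁ U) := by
    have h := π.flat_appLE hU hV le_rfl
    rw [Scheme.Hom.appLE_eq_app] at h
    exact h
  haveI : Algebra.FormallyUnramified Γ(X, U) Γ(Y, π ⁻¹ᵁ U) := by
    have h := HasRingHomProperty.appLE (P := @AlgebraicGeometry.FormallyUnramified) π inferInstance ⟨U, hU⟩
      ⟨π ⁻¹ᵁ U, hV⟩ le_rfl
    rw [Scheme.Hom.appLE_eq_app] at h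
    exact h
  haveI := functionField_isFractionRing_of_isAffineOpen X U hU
  haveI := functionField_isFractionRing_of_isAffineOpen Y (π ⁻¹ᵁ U) hV
  let ψ : X.functionField →+* Y.functionField :=
    (X.presheaf.stalkSpecializes (specializes_of_eq e) ≫ π.stalkMap (genericPoint Y)).hom
  letI := ψ.toAlgebra
  letI : Algebra Γ(X, U) Y.functionField :=
    ((algebraMap Γ(Y, π ⁻¹ᵁ U) Y.functionField).comp (π.app U).hom).toAlgebra
  haveI : IsScalarTower Γ(X, U) Γ(Y, π ⁻¹ᵁ U) Y.functionField := .of_algebraMap_eq fun _ => rfl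
  haveI : IsScalarTower Γ(X, U) X.functionField Y.functionField := .of_algebraMap_eq fun a => by
    show Y.presheaf.germ (π ⁻¹ᵁ U) (genericPoint Y) hη (π.app U a) =
      (X.presheaf.stalkSpecializes (specializes_of_eq e) ≫ π.stalkMap (genericPoint Y))
        (X.presheaf.germ U (genericPoint X) hξ a)
    rw [CommRingCat.comp_apply, TopCat.Presheaf.germ_stalkSpecializes_apply, Scheme.Hom.germ_stalkMap_apply]
  haveI : FaithfulSMul Γ(X, U) Γ(Y, π ⁻¹ᵁ U) := by
    rw [faithfulSMul_iff_algebraMap_injective]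
    intro a b h
    apply IsFractionRing.injective Γ(X, U) X.functionField
    apply (algebraMap X.functionField Y.functionField).injective
    rw [← IsScalarTower.algebraMap_apply, ← IsScalarTower.algebraMap_apply,
      IsScalarTower.algebraMap_apply _ Γ(Y, π ⁻¹ᵁ U), h, ← IsScalarTower.algebraMap_apply]
  obtain ⟨m, hm⟩ : ∃ m : PrimeSpectrum Γ(X, U), hU.fromSpec m = p := by
    show p ∈ Set.range hU.fromSpec
    rw [hU.range_fromSpec]; exact hpU
  have hmax : m.asIdeal.IsMaximal := by
    rw [← PrimeSpectrum.isClosed_singleton_iff_isMaximal]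
    have h1 : ({m} : Set (PrimeSpectrum Γ(X, U))) = hU.fromSpec ⁻¹' {p} := by
      ext z
      exact ⟨fun h => by rw [Set.mem_singleton_iff] at h; subst h; exact hm,
        fun h => hU.fromSpec.isOpenEmbedding.injective (h.trans hm.symm)⟩
    rw [h1]
    exact hp.preimage hU.fromSpec.continuous
  let φ := ((Scheme.ΓSpecIso (CommRingCat.of k)).inv ≫ (X ↘ Spec (CommRingCat.of k)).appLE ⊤ U le_top).hom
  letI := φ.toAlgebra
  haveI : Algebra.FiniteType k Γ(X, U) :=
    ((X ↘ Spec (CommRingCat.of k)).finiteType_appLE (isAffineOpen_top _) hU le_top).comp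
      (RingHom.FiniteType.of_surjective _ (ConcreteCategory.bijective_of_isIso (Scheme.ΓSpecIso _).inv).2)
  haveI : IsAlgClosed m.asIdeal.ResidueField := by
    letI : Field (Γ(X, U) ⧸ m.asIdeal) := Ideal.Quotient.field _
    haveI : Module.Finite k (Γ(X, U) ⧸ m.asIdeal) := finite_of_finite_type_of_isJacobsonRing k _
    have e1 := RingEquiv.ofBijective _ (IsAlgClosed.algebraMap_bijective_of_isIntegral (k := k) (K := Γ(X, U) ⧸ m.asIdeal))
    exact IsAlgClosed.of_ringEquiv k _ (e1.trans
      (RingEquiv.ofBijective _ m.asIdeal.bijective_algebraMap_quotient_residueField))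
  refine Eq.trans ?_ (Groth.Agent.MdlA1.natCard_over_maximal (A := Γ(X, U)) (B := Γ(Y, π ⁻¹ᵁ U)) (K := X.functionField) (L := Y.functionField) m)
  refine Nat.card_congr (Equiv.symm (Equiv.ofBijective
    (fun Q => ⟨hV.fromSpec Q.1, ?_⟩) ⟨?_, ?_⟩))
  · obtain ⟨Q, hQ⟩ := Q
    show π.base (hV.fromSpec Q) = p
    rw [← Scheme.Hom.comp_apply, ← IsAffineOpen.SpecMap_appLE_fromSpec π hU hV le_rfl, Scheme.Hom.appLE_eq_app,
      Scheme.Hom.comp_apply]
    exact (congrArg hU.fromSpec hQ).trans hm
  · intro a b h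
    have h' := congrArg (fun z => z.1) h
    exact Subtype.ext (hV.fromSpec.isOpenEmbedding.injective h')
  · rintro ⟨q, hq⟩
    obtain ⟨Q, hQ⟩ : q ∈ Set.range hV.fromSpec := by
      rw [hV.range_fromSpec]; show π.base q ∈ U; rw [hq]; exact hpU
    refine ⟨⟨Q, hU.fromSpec.isOpenEmbedding.injective ?_⟩, Subtype.ext hQ⟩
    rw [hm, ← hq, ← hQ, ← Scheme.Hom.comp_apply, ← IsAffineOpen.SpecMap_appLE_fromSpec π hU hV le_rfl,
      Scheme.Hom.appLE_eq_app, Scheme.Hom.comp_apply]
    rfl

end Groth.Agent.S15003
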