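import Groth.Statements.S15043
import Groth.Agent.H84RootTower.Compose
-- import your own Groth.Agent.* helpers here

set_option autoImplicit false
open CategoryTheory AlgebraicGeometry
universe u
open Quiet

namespace Groth.Agent.S15043

/-- Over a scheme `X` of prime characteristic `p`, the composite of quasi-etale morphisms `g : Z ⟶ Y`
and `f : Y ⟶ X` (each locally on its source an extraction of `p`-th roots followed by an etale
morphism) is quasi-etale. -/
theorem result (p : ℕ) [Fact p.Prime] {X Y Z : Scheme.{u}} [FrobSch.IsCharP X p]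
    (f : Y ⟶ X) (g : Z ⟶ Y) (hf : Quiet.IsQuiet p f) (hg : Quiet.IsQuiet p g) :
    Quiet.IsQuiet p (g ≫ f) := by
  open CategoryTheory AlgebraicGeometry Limits in
  · intro z
    obtain ⟨V, Y1, r, e, hy, hr, he, hre⟩ := hf (g z)
    obtain ⟨V2, Y2, r2, e2, hz, hr2, he2, hre2⟩ := hg z
    haveI := he
    haveI := he2
    haveI : FrobSch.IsCharP Y1 p := FrobSch.IsCharP.of_hom e p
    haveI : FrobSch.IsCharP Y p := FrobSch.IsCharP.of_hom f p
    obtain ⟨U, hyU, hU', n, hn⟩ := hr (r ⟨g z, hy⟩)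
    letI := (r.app U.1).hom.toAlgebra
    let A := Γ(Y1, U.1)
    let B := Γ((V : Scheme.{u}), r ⁻¹ᵁ U.1)
    have hA : (p : A) = 0 := FrobSch.natCast_eq_zero_app Y1 p U.1
    haveI : Nonempty ↥(r ⁻¹ᵁ U.1) := ⟨⟨⟨g z, hy⟩, hyU⟩⟩
    haveI : CharP B p :=
      haveI : FrobSch.IsCharP (V : Scheme.{u}) p := FrobSch.IsCharP.of_hom V.ι p
      (CharP.charP_iff_prime_eq_zero Fact.out).2 (FrobSch.natCast_eq_zero_app _ p _)
    have hU : IsAffineOpen U.1 := U.2
    let a : Spec A ⟶ X := hU.fromSpec ≫ e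
    let b : Spec B ⟶ Y := hU'.fromSpec ≫ V.ι
    haveI : Etale a := inferInstance
    let ι := Spec.map (CommRingCat.ofHom (algebraMap A B))
    have hab : ι ≫ a = b ≫ f := by
      have h1 : Spec.map (r.app U.1) ≫ hU.fromSpec = hU'.fromSpec ≫ r := by
        rw [Scheme.Hom.app_eq_appLE]
        exact IsAffineOpen.SpecMap_appLE_fromSpec r hU hU' le_rfl
      change Spec.map (r.app U.1) ≫ hU.fromSpec ≫ e = (hU'.fromSpec ≫ V.ι) ≫ f
      rw [reassoc_of% h1, hre, Category.assoc]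
    have hι : Quiet.IsPthRoot p ι := by
      intro x
      have H : IsPullback hU'.fromSpec ι r hU.fromSpec := by
        refine (IsOpenImmersion.isPullback ι hU'.fromSpec hU.fromSpec r ?_ ?_).flip
        · change hU'.fromSpec ≫ r = Spec.map (r.app U.1) ≫ hU.fromSpec
          rw [Scheme.Hom.app_eq_appLE]
          exact (IsAffineOpen.SpecMap_appLE_fromSpec r hU hU' le_rfl).symm
        · rw [IsAffineOpen.opensRange_fromSpec, IsAffineOpen.opensRange_fromSpec]
      exact Quiet5.isPthRoot_of_isPullback H hr x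
    let W := pullback e2 b
    let O2 := (pullback.fst e2 b).opensRange
    have hO2 : Quiet.IsPthRoot p (r2 ∣_ O2) :=
      Quiet5.isPthRoot_of_isPullback (isPullback_morphismRestrict r2 O2).flip hr2
    obtain ⟨W', j, e', he', hsq⟩ := H84RootTower.exists_etale_descent hn hA (pullback.snd e2 b)
    haveI := he'
    haveI : FrobSch.IsCharP W p := FrobSch.IsCharP.of_hom (pullback.snd e2 b ≫ b) p
    haveI : FrobSch.IsCharP W' p := FrobSch.IsCharP.of_hom (e' ≫ a) p
    have hj : Quiet.IsPthRoot p j := Quiet5.isPthRoot_of_isPullback hsq.flip hι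
    let c := (pullback.fst e2 b).isoOpensRange
    let V3 := V2.ι ''ᵁ (r2 ⁻¹ᵁ O2)
    let d := (V2.ι.isoImage (r2 ⁻¹ᵁ O2))
    haveI : FrobSch.IsCharP (O2 : Scheme.{u}) p := FrobSch.IsCharP.of_hom c.inv p
    have hroot : Quiet.IsPthRoot p (d.inv ≫ ((r2 ∣_ O2) ≫ c.inv) ≫ j) := by
      haveI : FrobSch.IsCharP ((r2 ⁻¹ᵁ O2 : (V2 : Scheme.{u}).Opens) : Scheme.{u}) p :=
        FrobSch.IsCharP.of_hom (r2 ∣_ O2) p
      exact H84RootTower.isPthRoot_comp (H84RootTower.isPthRoot_of_isIso _)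
        (H84RootTower.isPthRoot_comp (H84RootTower.isPthRoot_comp hO2 (H84RootTower.isPthRoot_of_isIso _)) hj)
    refine ⟨V3, W', _, e' ≫ a, ?_, hroot, inferInstance, ?_⟩
    · refine ⟨⟨z, hz⟩, ?_, rfl⟩
      change r2 ⟨z, hz⟩ ∈ Set.range (pullback.fst e2 b)
      rw [Scheme.Pullback.range_fst]
      change e2 (r2 ⟨z, hz⟩) ∈ Set.range b
      rw [show e2 (r2 ⟨z, hz⟩) = g z from congr($(hre2) ⟨z, hz⟩)]
      have h1 : (⟨g z, hy⟩ : V) ∈ Set.range hU'.fromSpec := by rw [IsAffineOpen.range_fromSpec]; exact hyU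
      obtain ⟨w, hw⟩ := h1
      exact ⟨w, congr(V.ι $hw)⟩
    · have h1 : j ≫ e' ≫ a = pullback.snd e2 b ≫ b ≫ f := by
        rw [reassoc_of% hsq.w, hab]
      simp only [Category.assoc]
      rw [h1, ← pullback.condition_assoc, Scheme.Hom.isoOpensRange_inv_comp_assoc, morphismRestrict_ι_assoc,
        reassoc_of% hre2]
      exact (Scheme.Hom.isoImage_inv_ι_assoc V2.ι _ _)

end Groth.Agent.S15043
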