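import Groth.Statements.S15056
import Groth.Agent.H84Misc.AlgHomKer
import Mathlib.RingTheory.LocalRing.Basic
import Mathlib.FieldTheory.IsAlgClosed.AlgebraicClosure
import Mathlib.RingTheory.FiniteType
import Mathlib.RingTheory.Ideal.Operations

set_option autoImplicit false
universe u
open scoped TensorProduct
open FrobAlg

namespace Groth.Agent.S15056

/-- Let p be a prime number, R a Noetherian ring of characteristic p and A a finitely generated
commutative Hopf algebra over R (an affine algebraic R-group G = Spec A). The n-fold relative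
Frobenius of G is the trivial homomorphism exactly when a^(p^n) = 0 for every a in the augmentation
ideal; G has finite Frobenius height when this holds for some n. Then G has finite Frobenius height
if and only if A is a finite R-module and, for every algebraically closed field K and every ring
homomorphism R → K, the base change K ⊗_R A is a local ring (G is finite over R with connected
geometric fibres). -/
theorem result (p : ℕ) [Fact p.Prime] (R : Type u) [CommRing R] [CharP R p]
    [IsNoetherianRing R] (A : Type u) [CommRing A] [HopfAlgebra R A] [Algebra.FiniteType R A] :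
    (∃ n : ℕ, ∀ a : A, Bialgebra.counitAlgHom R A a = 0 → a ^ p ^ n = 0) ↔
      (Module.Finite R A ∧ ∀ (K : Type u) [Field K] [IsAlgClosed K] [Algebra R K], IsLocalRing (K ⊗[R] A)) := by
  constructor
  · rintro ⟨N, hN⟩
    have hnil : ∀ a : A, IsNilpotent (a - algebraMap R A (Bialgebra.counitAlgHom R A a)) := fun a =>
      ⟨p ^ N, hN _ (by rw [map_sub, AlgHom.commutes, Algebra.algebraMap_self, RingHom.id_apply, sub_self])⟩
    have hint : Algebra.IsIntegral R A := ⟨fun a => by
      have h0 : IsIntegral R (a - algebraMap R A (Bialgebra.counitAlgHom R A a)) :=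
        IsIntegral.of_pow (n := p ^ N) (pow_pos (Nat.Prime.pos Fact.out) N)
          (by rw [hN _ (by rw [map_sub, AlgHom.commutes, Algebra.algebraMap_self, RingHom.id_apply, sub_self])]
              exact isIntegral_zero)
      have h1 : IsIntegral R (algebraMap R A (Bialgebra.counitAlgHom R A a)) := isIntegral_algebraMap
      simpa using h0.add h1⟩
    refine ⟨Algebra.IsIntegral.finite, fun K _ _ _ => ?_⟩
    let ev : K ⊗[R] A →ₐ[K] K :=
      Algebra.TensorProduct.lift (AlgHom.id K K) ((Algebra.ofId R K).comp (Bialgebra.counitAlgHom R A)) fun _ _ => Commute.all _ _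
    have hker : ∀ t : K ⊗[R] A, IsNilpotent (t - algebraMap K (K ⊗[R] A) (ev t)) := by
      intro t
      induction t using TensorProduct.induction_on with
      | zero => simp
      | tmul c a =>
        have h1 : c ⊗ₜ[R] a - algebraMap K (K ⊗[R] A) (ev (c ⊗ₜ[R] a)) =
            c ⊗ₜ[R] (1 : A) * ((1 : K) ⊗ₜ[R] (a - algebraMap R A (Bialgebra.counitAlgHom R A a))) := by
          simp only [ev, Algebra.TensorProduct.lift_tmul, AlgHom.id_apply, AlgHom.comp_apply,
            Algebra.TensorProduct.algebraMap_apply, Algebra.algebraMap_self, RingHom.id_apply,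
            TensorProduct.tmul_sub]
          rw [mul_sub, Algebra.TensorProduct.tmul_mul_tmul, Algebra.TensorProduct.tmul_mul_tmul, one_mul, mul_one, one_mul,
            Algebra.algebraMap_eq_smul_one, TensorProduct.tmul_smul, TensorProduct.smul_tmul', Algebra.ofId_apply,
            mul_comm, ← Algebra.smul_def]
        rw [h1]
        exact (Commute.all _ _).isNilpotent_mul_left ((hnil a).map Algebra.TensorProduct.includeRight)
      | add x y hx hy =>
        rw [map_add, map_add, add_sub_add_comm]
        exact (Commute.all _ _).isNilpotent_add hx hy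
    have hnt : Nontrivial (K ⊗[R] A) := ev.toRingHom.domain_nontrivial
    refine IsLocalRing.of_isUnit_or_isUnit_one_sub_self fun t => ?_
    by_cases h : ev t = 0
    · refine Or.inr (IsNilpotent.isUnit_one_sub ?_)
      simpa [h] using hker t
    · refine Or.inl ?_
      have hu : IsUnit (algebraMap K (K ⊗[R] A) (ev t)) := (IsUnit.mk0 _ h).map _
      have := IsNilpotent.isUnit_add_left_of_commute (hker t) hu (Commute.all _ _)
      rwa [add_sub_cancel] at this
  · rintro ⟨hfin, hloc⟩
    have : IsNoetherianRing A := Algebra.FiniteType.isNoetherianRing R A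
    have hle : RingHom.ker (Bialgebra.counitAlgHom R A) ≤ nilradical A := by
      rw [nilradical_eq_sInf]
      refine le_sInf fun P (hP : P.IsPrime) a ha => ?_
      let q := P.comap (algebraMap R A)
      let K := AlgebraicClosure (FractionRing (R ⧸ q))
      let : Algebra R K := ((algebraMap (FractionRing (R ⧸ q)) K).comp
        ((algebraMap (R ⧸ q) (FractionRing (R ⧸ q))).comp (Ideal.Quotient.mk q))).toAlgebra
      have hkerK : RingHom.ker (algebraMap R K) = q := by
        ext r
        rw [RingHom.mem_ker, RingHom.algebraMap_toAlgebra, RingHom.comp_apply,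
          map_eq_zero_iff _ (algebraMap (FractionRing (R ⧸ q)) K).injective, RingHom.comp_apply,
          map_eq_zero_iff _ (IsFractionRing.injective _ _), Ideal.Quotient.eq_zero_iff_mem]
      obtain ⟨f, hf⟩ : ∃ f : A →ₐ[R] K, RingHom.ker f.toRingHom = P := by
        have : Algebra.IsIntegral R A := inferInstance
        exact Groth.Agent.H84Misc.exists_algHom_ker_eq R A K P (hkerK.trans rfl)
      have hloc' := hloc K
      have hmax : ∀ g : A →ₐ[R] K, ∀ z : K ⊗[R] A, z ∈ IsLocalRing.maximalIdeal (K ⊗[R] A) ↔
          Algebra.TensorProduct.lift (AlgHom.id K K) g (fun _ _ => Commute.all _ _) z = 0 := by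
        intro g z
        have hs : Function.Surjective (Algebra.TensorProduct.lift (AlgHom.id K K) g fun _ _ => Commute.all _ _) :=
          fun c => ⟨c ⊗ₜ[R] 1, by simp⟩
        rw [← IsLocalRing.eq_maximalIdeal (RingHom.ker_isMaximal_of_surjective _ hs)]
        exact RingHom.mem_ker
      have h1 := (hmax f ((1 : K) ⊗ₜ[R] a)).symm.trans (hmax ((Algebra.ofId R K).comp (Bialgebra.counitAlgHom R A)) _)
      rw [RingHom.mem_ker] at ha
      rw [← hf, RingHom.mem_ker]
      simpa [ha] using h1
    obtain ⟨N, hN⟩ := Ideal.exists_pow_le_of_le_radical_of_fg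
      (show _ ≤ (⊥ : Ideal A).radical from hle.trans_eq rfl)
      (IsNoetherian.noetherian (RingHom.ker (Bialgebra.counitAlgHom R A)))
    refine ⟨N, fun a ha => ?_⟩
    have h1 : a ^ N = 0 := by simpa using hN (Ideal.pow_mem_pow (RingHom.mem_ker.2 ha) N)
    exact pow_eq_zero_of_le (Nat.lt_pow_self (Nat.Prime.one_lt Fact.out)).le h1

end Groth.Agent.S15056
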