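import Groth.Statements.S15094
import Groth.Agent.H75.FrobPow
import Groth.Agent.H75.Descend
import Groth.Agent.TameExt51.Sch

set_option autoImplicit false
universe u
open CategoryTheory CategoryTheory.Limits AlgebraicGeometry
open scoped Groth.Agent.H23.PicMul TopologicalSpace
open KodV

namespace Groth.Agent.S15094

/-- Let k be an algebraically closed field of characteristic p > 0, X a smooth proper integral scheme
over k, and L an invertible O_X-module with tensor inverse L⁻¹. If H⁰(X, (L⁻¹)^{⊗p^n} ⊗ Ω¹_{X/k}) =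
0 for every n ≥ 1 and H¹(X, (L⁻¹)^{⊗p^{n₀}}) = 0 for some n₀, then H¹(X, L⁻¹) = 0. (The published
statement says smooth projective variety over a field of characteristic p; smooth, proper and
integral over an algebraically closed field is assumed here, the setting of the proposition it is
deduced from.) -/
theorem result (k : Type u) [Field k] [IsAlgClosed k] (p : ℕ) [Fact p.Prime] [CharP k p]
    (X : Scheme.{u}) [X.Over (Spec (CommRingCat.of k))] [IsProper (X ↘ (Spec (CommRingCat.of k)))] [Smooth (X ↘ (Spec (CommRingCat.of k)))] [IsIntegral X]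
    (L Linv : X.Modules) (hL : PicF.IsInvertible L) (hLinv : ClSub.IsInverseOf Linv L)
    (h0 : ∀ n : ℕ, 1 ≤ n → Subsingleton (Coh.HH X (CohB1.tensorMod (CohB1.tensorPow Linv (p ^ n)) (Omega.sheaf (X ↘ (Spec (CommRingCat.of k))))) 0))
    (h1 : ∃ n₀ : ℕ, Subsingleton (Coh.HH X (CohB1.tensorPow Linv (p ^ n₀)) 1)) :
    Subsingleton (Coh.HH X Linv 1) := by
  haveI : FrobSch.IsCharP X p := FrobSch.IsCharP.of_hom (X ↘ Spec (CommRingCat.of k)) p
  have hXn : Pi1.IsNormalScheme X :=
    Groth.Agent.TameExt51.isNormalScheme_of_smooth (X ↘ Spec (CommRingCat.of k))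
  have hLi := Groth.Agent.H75.isInvertible_inverse hL hLinv
  have hiso : ∀ n : ℕ, Nonempty (CohB1.tensorPow (CohB1.tensorPow Linv (p ^ n)) p ≅ CohB1.tensorPow Linv (p ^ (n + 1))) := by
    intro n
    refine Groth.Agent.H23.PicMul.cl_eq_iff.1 ?_
    rw [Groth.Agent.H23.PicMul.cl_tensorPow, Groth.Agent.H23.PicMul.cl_tensorPow, Groth.Agent.H23.PicMul.cl_tensorPow,
      ← pow_mul, pow_succ]
  obtain ⟨n₀, hn₀⟩ := h1
  have hdesc : ∀ j n : ℕ, n + j = n₀ → Subsingleton (Coh.HH X (CohB1.tensorPow Linv (p ^ n)) 1) := by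
    intro j
    induction j with
    | zero => rintro n rfl; exact hn₀
    | succ j ih =>
      intro n hn
      obtain ⟨e⟩ := hiso n
      exact Groth.Agent.H75.FrobPow.subsingleton_HH_one_of_pow p hXn (Groth.Agent.InvX.isInvertible_tensorPow hLi _)
        (Groth.Agent.QCoh.subsingleton_HH_of_iso ((Groth.Agent.AmpleVan.tw _).mapIso e).symm 0 (h0 (n + 1) n.succ_pos))
        (Groth.Agent.QCoh.subsingleton_HH_of_iso e.symm 1 (ih (n + 1) (by omega)))
  have h := hdesc n₀ 0 (zero_add _)
  obtain ⟨e⟩ : Nonempty (CohB1.tensorPow Linv (p ^ 0) ≅ Linv) := Groth.Agent.H23.PicMul.cl_eq_iff.1 (by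
    rw [Groth.Agent.H23.PicMul.cl_tensorPow, pow_zero, pow_one])
  exact Groth.Agent.QCoh.subsingleton_HH_of_iso e 1 h

end Groth.Agent.S15094
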