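import Groth.Statements.S15098
import Groth.Agent.SurfInt.Ample
import Groth.Agent.SurfInt.Connected
import Groth.Agent.GrpSchLib.SmoothRegular
-- import your own Groth.Agent.* helpers here

set_option autoImplicit false
set_option backward.isDefEq.respectTransparency false
set_option backward.isDefEq.respectTransparency.types false
set_option linter.style.haveILetI false
attribute [-instance] CategoryTheory.catToReflQuiver
universe u
open CategoryTheory CategoryTheory.Limits AlgebraicGeometry TopologicalSpace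
open Surf

namespace Groth.Agent.S15098

/-- Let k be an algebraically closed field, X a smooth projective surface over k (integral, proper and
smooth, of dimension 2) and D an effective Cartier divisor on X, given by its ideal sheaf I_D, which
is numerically positive: (D·D) > 0 and (D·Γ) ≥ 0 for every integral curve Γ ⊆ X, that is χ(O_Γ ⊗
I_D) − χ(O_Γ) ≤ 0. Then D is numerically connected: whenever D = D₁ + D₂ with D₁, D₂ non-zero
effective Cartier divisors (I_D = I_{D₁}·I_{D₂} with both ideal sheaves different from O_X), (D₁·D₂)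
> 0. Intersection numbers of divisors are computed on their ideal sheaves: (D₁·D₂) = χ(O_X) −
χ(I_{D₁}) − χ(I_{D₂}) + χ(I_{D₁} ⊗ I_{D₂}). (The published lemma sits in a positive-characteristic
setting; its argument does not use the characteristic, so none is assumed here.) -/
theorem result (k : Type u) [Field k] [IsAlgClosed k]
    (X : Scheme.{u}) [X.Over (Spec (CommRingCat.of k))] [IsProper (X ↘ (Spec (CommRingCat.of k)))]
    [Smooth (X ↘ (Spec (CommRingCat.of k)))] [IsIntegral X] (hdim : topologicalKrullDim X = 2)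
    (D : X.IdealSheafData) (hD : FGA.IsEffCartier D)
    (hpos : 0 < FGA.intNum k X 2 ![(ClSub.idealMod D), (ClSub.idealMod D)] (Coh.structureModule X))
    (hnef : ∀ Γ : X.IdealSheafData, IsIntegral Γ.subscheme → topologicalKrullDim (Γ.support : Set X) = 1 →
      Curv2.euler k X (CohB1.tensorMod (ClSub.quotMod Γ) (ClSub.idealMod D)) - Curv2.euler k X (ClSub.quotMod Γ) ≤ 0)
    (D₁ D₂ : X.IdealSheafData) (hD₁ : FGA.IsEffCartier D₁) (hD₂ : FGA.IsEffCartier D₂)
    (hne₁ : D₁ ≠ ⊤) (hne₂ : D₂ ≠ ⊤) (hsum : D = D₁ * D₂) :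
    0 < FGA.intNum k X 2 ![(ClSub.idealMod D₁), (ClSub.idealMod D₂)] (Coh.structureModule X) := by
  haveI := CurveCohLib.isNoetherian_of_proper (k := k) (X := X)
  have hreg := fun x => GrpSchLib.isRegularLocalRing_stalk_of_smooth (X ↘ Spec (CommRingCat.of k)) x
  obtain ⟨H, hH⟩ := SurfInt.exists_isAmple k hdim hreg
  have hd : topologicalKrullDim X ≤ (2 : ℕ) := hdim.le
  have hi := SurfInt.isInvertible_idealMod hD
  have hi₁ := SurfInt.isInvertible_idealMod hD₁
  have hi₂ := SurfInt.isInvertible_idealMod hD₂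
  rw [SurfInt.intNum_eq_pair k hd hi hi] at hpos
  rw [SurfInt.intNum_eq_pair k hd hi₁ hi₂]
  obtain ⟨e⟩ := SurfInt.nonempty_idealMod_mul hD₁ hD₂
  subst hsum
  have hneg : ∀ E : X.IdealSheafData, BlowUp.IsEffCartierIdeal E → E ≠ ⊤ →
      0 ≤ -SurfInt.curveDeg k E (ClSub.idealMod (D₁ * D₂)) := fun E hE hne => by
    rw [neg_nonneg]
    exact SurfInt.curveDeg_nonpos_of_curves k hi hnef (SurfInt.dim_support_effCartier k hdim hE hne).le
  have h1 := hneg D₁ hD₁ hne₁
  have h2 := hneg D₂ hD₂ hne₂
  rw [← SurfInt.pair_ideal_left k D₁ hi, SurfInt.pair_congr k (Iso.refl _) e,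
    SurfInt.pair_tensor_right k hd hi₁ hi₁ hi₂] at h1
  rw [← SurfInt.pair_ideal_left k D₂ hi, SurfInt.pair_congr k (Iso.refl _) e,
    SurfInt.pair_tensor_right k hd hi₂ hi₁ hi₂,
    SurfInt.pair_comm k (ClSub.idealMod D₂) (ClSub.idealMod D₁)] at h2
  rw [SurfInt.pair_congr k e e, SurfInt.pair_tensor_left k hd hi₁ hi₂ (InvX.isInvertible_tensorMod hi₁ hi₂),
    SurfInt.pair_tensor_right k hd hi₁ hi₁ hi₂, SurfInt.pair_tensor_right k hd hi₂ hi₁ hi₂,
    SurfInt.pair_comm k (ClSub.idealMod D₂) (ClSub.idealMod D₁)] at hpos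
  have hH1 : SurfInt.pair k (ClSub.idealMod D₁) H < 0 := by
    rw [SurfInt.pair_ideal_left k D₁ hH.1, neg_lt_zero]
    exact SurfInt.curveDeg_pos_of_ample k hH (SurfInt.dim_support_effCartier k hdim hD₁ hne₁)
  have hH2 : SurfInt.pair k (ClSub.idealMod D₂) H < 0 := by
    rw [SurfInt.pair_ideal_left k D₂ hH.1, neg_lt_zero]
    exact SurfInt.curveDeg_pos_of_ample k hH (SurfInt.dim_support_effCartier k hdim hD₂ hne₂)
  by_contra hz
  rw [not_lt] at hz
  rcases hz.lt_or_eq with hz | hz
  · have hx : 0 < SurfInt.pair k (ClSub.idealMod D₁) (ClSub.idealMod D₁) := by linarith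
    have := SurfInt.hodge_ineq k hd hH hi₁ hi₂ hx
    rcases (show 0 < SurfInt.pair k (ClSub.idealMod D₁) (ClSub.idealMod D₁) +
        SurfInt.pair k (ClSub.idealMod D₁) (ClSub.idealMod D₂) ∨
        0 < SurfInt.pair k (ClSub.idealMod D₁) (ClSub.idealMod D₂) +
        SurfInt.pair k (ClSub.idealMod D₂) (ClSub.idealMod D₂) by omega) with h | h <;> nlinarith
  · rcases (show 0 < SurfInt.pair k (ClSub.idealMod D₁) (ClSub.idealMod D₁) ∨
        0 < SurfInt.pair k (ClSub.idealMod D₂) (ClSub.idealMod D₂) by omega) with hx | hy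
    · have := SurfInt.hodge_index k hd hH hi₁ hi₂ hx hz
      exact SurfInt.false_of_isotropic k hd hH hi₁ hi₂ hx hz (by linarith) hH1 hH2
    · have hz' := (SurfInt.pair_comm k (ClSub.idealMod D₂) (ClSub.idealMod D₁)).trans hz
      have := SurfInt.hodge_index k hd hH hi₂ hi₁ hy hz'
      exact SurfInt.false_of_isotropic k hd hH hi₂ hi₁ hy hz' (by linarith) hH2 hH1

end Groth.Agent.S15098
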