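import Groth.Statements.S15108
import Groth.Agent.CentralPair.PrimeOrder
import Groth.Agent.CentralPair.Section
import Groth.Agent.Obs28.Unip.Torus

set_option backward.isDefEq.respectTransparency false
set_option backward.isDefEq.respectTransparency.types false

set_option autoImplicit false
universe u
open CategoryTheory CategoryTheory.Limits MonoidalCategory CartesianMonoidalCategory MonObj GrpObj AlgebraicGeometry
open GrpSch

namespace Groth.Agent.S15108

/-- Let k be an algebraically closed field and 1 → G_m → G → K → 1 a theta group over k: u : G_m → G and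
v : G → K are homomorphisms of k-group schemes forming a sequence exact for the fppf topology (u ≫ v
trivial, G a pseudo-torsor over K under G_m acting by right translations through u, v acquiring
sections fppf-locally on K), with K commutative and u(G_m) central in G. If K is finite of prime
order ℓ — K is k-isomorphic to Spec B for a k-algebra B of dimension ℓ over k, ℓ a prime number,
possibly the characteristic — then G is commutative: g h = h g for all points g, h of G with values
in any k-scheme T. -/
theorem result (k : Type u) [Field k] [IsAlgClosed k]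
    (G K : Over (Spec (CommRingCat.of k))) [GrpObj G] [GrpObj K] [IsCommMonObj K]
    (u : Red.Gm (Spec (CommRingCat.of k)) ⟶ G) (v : G ⟶ K) (hex : NonAbH1.IsExactSeq Scheme.fppfPrecoverage u v)
    (hcentral : ∀ (T : Over (Spec (CommRingCat.of k))) (g : T ⟶ G) (t : T ⟶ Red.Gm (Spec (CommRingCat.of k))), g * (t ≫ u) = (t ≫ u) * g)
    (B : Type u) [CommRing B] [Algebra k B] [Module.Finite k B] (ℓ : ℕ) (hℓ : ℓ.Prime)
    (hB : Module.finrank k B = ℓ)
    (e : K.left ≅ Spec (CommRingCat.of B)) (he : e.hom ≫ Spec.map (CommRingCat.ofHom (algebraMap k B)) = K.hom) :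
    ∀ (T : Over (Spec (CommRingCat.of k))) (g h : T ⟶ G), g * h = h * g := by
  haveI : IsAffine K.left := IsAffine.of_isIso e.hom
  obtain ⟨A, _, _, ⟨i⟩⟩ := GrpSchLib.AffineHopf.exists_hopf K
  let i₀ : GrpSchLib.AffineHopf.sp k A ≅ K := (Grp.forget _).mapIso i
  let c : Spec (CommRingCat.of A) ≅ Spec (CommRingCat.of B) := (Over.forget _).mapIso i₀ ≪≫ e
  obtain ⟨φ, hφ⟩ := Spec.map_surjective c.hom
  haveI : IsIso (Spec.map φ) := hφ ▸ c.isIso_hom
  haveI : IsIso φ := by
    haveI : IsIso (Scheme.Spec.map φ.op) := inferInstanceAs (IsIso (Spec.map φ))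
    haveI := Spec.fullyFaithful.isIso_of_isIso_map φ.op
    exact isIso_of_op φ
  have hk : ∀ r : k, φ.hom (algebraMap k B r) = algebraMap k A r := by
    have h : CommRingCat.ofHom (algebraMap k B) ≫ φ = CommRingCat.ofHom (algebraMap k A) := by
      apply Spec.map_injective
      rw [Spec.map_comp, hφ]
      show (i₀.hom.left ≫ e.hom) ≫ Spec.map (CommRingCat.ofHom (algebraMap k B)) = _
      rw [Category.assoc, he, Over.w i₀.hom]
      rfl
    exact fun r => RingHom.congr_fun (congrArg CommRingCat.Hom.hom h) r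
  let eAB : B ≃ₐ[k] A := AlgEquiv.ofRingEquiv (f := (asIso φ).commRingCatIsoToRingEquiv) hk
  haveI : Module.Finite k A := Module.Finite.equiv eAB.toLinearEquiv
  have hA : Module.finrank k A = ℓ := eAB.toLinearEquiv.finrank_eq.symm.trans hB
  obtain ⟨a⟩ := GrpSchLib.AffineHopf.nonempty_DS_iso k ℤ
  have h0 := CentralPair.isCentralExt_of_isExactSeq hex (fun T x y => mul_comm x y) hcentral
  obtain ⟨hsm, -⟩ := (Obs28.Unip.exists_coord k).2
  haveI : Smooth (Red.Gm (Spec (CommRingCat.of k))).hom := hsm
  refine CentralPair.comm_of_prime_order hℓ hA (h0.transport a i.symm) fun ε hnil => ?_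
  obtain ⟨-, -, -, hpb, R, hR, hsec⟩ := hex
  rw [Scheme.fppfPrecoverage_eq_inf] at hR
  obtain ⟨⟨hsurj, hflat⟩, -, -⟩ := hR
  haveI : Algebra.FiniteType k A := inferInstance
  obtain ⟨Y, g₀, hg₀, x, -⟩ := hsurj (i₀.hom.left ⟨RingHom.ker ε.toRingHom, RingHom.ker_isPrime _⟩)
  rcases hg₀ with @⟨S', r, hr⟩
  haveI : Flat r := hflat hr
  obtain ⟨σ, hσ⟩ := hsec r hr
  haveI : IsIso i₀.inv.left := ((Over.forget _).mapIso i₀.symm).isIso_hom
  refine CentralPair.exists_section_of_torsor (v := v ≫ i₀.inv) (m := (G ◁ u) ≫ μ[G]) ε hnil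
    (hpb.of_iso (Iso.refl _) (Iso.refl _) (Iso.refl _) i₀.symm (by simp) (by simp) (by simp) (by simp))
    (r ≫ i₀.inv.left) x σ (by
      show σ ≫ v.left ≫ i₀.inv.left = _
      rw [← Category.assoc]
      exact congrArg (· ≫ i₀.inv.left) hσ)

end Groth.Agent.S15108
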