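import Groth.Statements.S15121
-- import your own Groth.Agent.* helpers here

set_option autoImplicit false
universe u v w
open InvQ

namespace Groth.Agent.S15121

/-- Let k be a field of characteristic zero and A a commutative k-algebra graded by a finitely generated
free abelian group Λ (the character group of a torus acting on Spec A) whose grading monoid is
positive: if the pieces of degrees w and −w are both non-zero then w = 0. Let δ be a locally
nilpotent k-derivation of A (an action of the additive group) that is homogeneous of degree d, with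
the piece of degree d equal to zero (the graded condition on the Lie algebra weight). Suppose that
no maximal ideal of A contains both all graded pieces of non-zero degree and the image of δ (every
torus-fixed closed point has trivial stabiliser under the additive group). Then δ has a homogeneous
slice: some s of degree −d with δ s = 1. (The published statement is for the coordinate ring of an
affine variety over an algebraically closed field of characteristic zero and concludes moreover that
the quotient map by the additive group is a trivial principal bundle, which follows from the slice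
by a standard argument not restated here; this row keeps the algebraic content, for any such graded
algebra.) -/
theorem result
    (k : Type u) [Field k] [CharZero k]
    (A : Type v) [CommRing A] [Algebra k A]
    (Λ : Type w) [AddCommGroup Λ] [DecidableEq Λ] [Module.Free ℤ Λ] [Module.Finite ℤ Λ]
    (𝒜 : Λ → Submodule k A) [GradedAlgebra 𝒜]
    (hpos : ∀ w : Λ, 𝒜 w ≠ ⊥ → 𝒜 (-w) ≠ ⊥ → w = 0)
    (δ : Derivation k A A) (hnil : ∀ a : A, ∃ n : ℕ, ((δ : A →ₗ[k] A) ^ n) a = 0)
    (d : Λ) (hhom : ∀ (w : Λ) (a : A), a ∈ 𝒜 w → δ a ∈ 𝒜 (w + d)) (hd : 𝒜 d = ⊥)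
    (hfix : ∀ m : Ideal A, m.IsMaximal → (∀ w : Λ, w ≠ 0 → (𝒜 w : Set A) ⊆ m) → ¬ (Set.range δ ⊆ m)) :
    ∃ s ∈ 𝒜 (-d), δ s = 1 := by
  classical
  have hz : ∀ {w : Λ} {x y : A}, w ≠ 0 → x ∈ 𝒜 w → y ∈ 𝒜 (-w) → x * y = 0 := by
    intro w x y hw hx hy
    by_contra hne
    refine hw (hpos w (fun h => hne ?_) fun h => hne ?_)
    · rw [h, Submodule.mem_bot] at hx
      rw [hx, MulZeroClass.zero_mul]
    · rw [h, Submodule.mem_bot] at hy
      rw [hy, MulZeroClass.mul_zero]
  have h0mul : ∀ x y : A, GradedRing.proj 𝒜 0 (x * y) = GradedRing.proj 𝒜 0 x * GradedRing.proj 𝒜 0 y := by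
    intro x y
    induction x using DirectSum.Decomposition.inductionOn 𝒜 with
    | zero => simp
    | @homogeneous i a =>
      induction y using DirectSum.Decomposition.inductionOn 𝒜 with
      | zero => simp
      | @homogeneous j b =>
        rw [GradedRing.proj_apply, GradedRing.proj_apply, GradedRing.proj_apply]
        by_cases hi : i = 0
        · subst hi
          rw [DirectSum.decompose_of_mem_same 𝒜 a.2]
          by_cases hj : j = 0
          · subst hj
            rw [DirectSum.decompose_of_mem_same 𝒜 b.2,
              DirectSum.decompose_of_mem_same 𝒜 (by simpa using SetLike.mul_mem_graded a.2 b.2)]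
          · rw [DirectSum.decompose_of_mem_ne 𝒜 b.2 hj, MulZeroClass.mul_zero,
              DirectSum.decompose_of_mem_ne 𝒜 (SetLike.mul_mem_graded a.2 b.2) (by simpa using hj)]
        · rw [DirectSum.decompose_of_mem_ne 𝒜 a.2 hi, MulZeroClass.zero_mul]
          by_cases hij : i + j = 0
          · rw [hz hi a.2 ((eq_neg_of_add_eq_zero_right hij) ▸ b.2)]
            simp
          · rw [DirectSum.decompose_of_mem_ne 𝒜 (SetLike.mul_mem_graded a.2 b.2) hij]
      | add p q hp hq => simp only [mul_add, map_add, hp, hq]
    | add p q hp hq => simp only [add_mul, map_add, hp, hq]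
  have hδ : ∀ x : A, GradedRing.proj 𝒜 0 (δ x) = δ (GradedRing.proj 𝒜 (-d) x) := by
    intro x
    induction x using DirectSum.Decomposition.inductionOn 𝒜 with
    | zero => simp
    | @homogeneous i a =>
      rw [GradedRing.proj_apply, GradedRing.proj_apply]
      by_cases hi : i = -d
      · subst hi
        rw [DirectSum.decompose_of_mem_same 𝒜 a.2, DirectSum.decompose_of_mem_same 𝒜 (by simpa using hhom _ _ a.2)]
      · rw [DirectSum.decompose_of_mem_ne 𝒜 a.2 hi, map_zero,
          DirectSum.decompose_of_mem_ne 𝒜 (hhom _ _ a.2) fun h => hi (eq_neg_of_add_eq_zero_left h)]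
    | add p q hp hq => simp only [map_add, hp, hq]
  let J : Ideal A := Ideal.span (Set.range δ ∪ ⋃ w ∈ {w : Λ | w ≠ 0}, (𝒜 w : Set A))
  have hJ : J = ⊤ := by
    by_contra hne
    obtain ⟨m, hm, hle⟩ := Ideal.exists_le_maximal J hne
    exact hfix m hm (fun w hw a ha => hle (Ideal.subset_span (Or.inr (Set.mem_biUnion hw ha))))
      fun a ha => hle (Ideal.subset_span (Or.inl ha))
  have key : ∀ x ∈ J, ∃ s ∈ 𝒜 (-d), δ s = GradedRing.proj 𝒜 0 x := by
    intro x hx
    induction hx using Submodule.span_induction with
    | mem y hy =>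
      rcases hy with ⟨b, rfl⟩ | hy
      · exact ⟨GradedRing.proj 𝒜 (-d) b, by rw [GradedRing.proj_apply]; exact SetLike.coe_mem _, (hδ b).symm⟩
      · obtain ⟨w, hw, ha⟩ := Set.mem_iUnion₂.1 hy
        exact ⟨0, Submodule.zero_mem _, by rw [map_zero, GradedRing.proj_apply, DirectSum.decompose_of_mem_ne 𝒜 ha hw]⟩
    | zero => exact ⟨0, Submodule.zero_mem _, by simp⟩
    | add p q _ _ hp hq =>
      obtain ⟨s, hs, hs'⟩ := hp
      obtain ⟨t, ht, ht'⟩ := hq
      exact ⟨s + t, Submodule.add_mem _ hs ht, by rw [map_add, map_add, hs', ht']⟩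
    | smul c p _ hp =>
      obtain ⟨s, hs, hs'⟩ := hp
      have hc : GradedRing.proj 𝒜 0 c ∈ 𝒜 0 := by rw [GradedRing.proj_apply]; exact SetLike.coe_mem _
      refine ⟨GradedRing.proj 𝒜 0 c * s, by simpa using SetLike.mul_mem_graded hc hs, ?_⟩
      have hd0 : δ (GradedRing.proj 𝒜 0 c) = 0 := by
        have := hhom _ _ hc
        rwa [zero_add, hd, Submodule.mem_bot] at this
      rw [Derivation.leibniz, hd0, smul_zero, add_zero, smul_eq_mul, smul_eq_mul, hs', h0mul]
  obtain ⟨s, hs, hs'⟩ := key 1 (hJ ▸ Submodule.mem_top)
  refine ⟨s, hs, hs'.trans ?_⟩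
  rw [GradedRing.proj_apply, DirectSum.decompose_of_mem_same 𝒜 SetLike.GradedOne.one_mem]

end Groth.Agent.S15121
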