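import Groth.Statements.S15123
import Groth.Agent.CTor66.Decomp

open TensorProduct Groth.Agent

set_option autoImplicit false
universe u v w
open InvQ

namespace Groth.Agent.S15123

/-- Let k be an algebraically closed field of characteristic zero, Λ a finitely generated free abelian
group and k[Λ] its group algebra, the coordinate Hopf algebra of the torus with character group Λ.
Let R be a reduced finitely generated commutative k-algebra with a multiplicative coaction of k[Λ]
(an action of the torus on the affine variety Spec R), and suppose the grading monoid is positive: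
if R has a non-zero eigenvector of weight w and one of weight −w then w = 0. Then for every k-point
x of Spec R, the orbit of x is closed if and only if x is a fixed point. (The published statement
also asserts that the fixed-point subvariety is affine and is a good quotient for the action; only
the description of the closed orbits is stated here.) -/
theorem result
    (k : Type u) [Field k] [IsAlgClosed k] [CharZero k]
    (Λ : Type v) [AddCommGroup Λ] [Module.Free ℤ Λ] [Module.Finite ℤ Λ]
    (R : Type w) [CommRing R] [Algebra k R] [Algebra.FiniteType k R] [IsReduced R]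
    [HopfRep.Comod k (AddMonoidAlgebra k Λ) R] [GLin.IsCoactAlg k (AddMonoidAlgebra k Λ) R]
    (hpos : ∀ w : Λ, HopfRep.eigenspace k (AddMonoidAlgebra k Λ) R (AddMonoidAlgebra.single w 1) ≠ ⊥ →
      HopfRep.eigenspace k (AddMonoidAlgebra k Λ) R (AddMonoidAlgebra.single (-w) 1) ≠ ⊥ → w = 0)
    (x : R →ₐ[k] k) :
    GLin.IsClosedOrbit k (AddMonoidAlgebra k Λ) x ↔ GLin.IsFixedPt k (AddMonoidAlgebra k Λ) x := by
  classical
  let θ := GLin.orbitHom k (AddMonoidAlgebra k Λ) x
  have hwt : ∀ {l : Λ} {r : R}, r ∈ CTor66.wt (k := k) l → θ r = AddMonoidAlgebra.single l (x r) := by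
    intro l r hr
    have hr' : HopfRep.Comod.coact (k := k) (A := AddMonoidAlgebra k Λ) r = r ⊗ₜ[k] AddMonoidAlgebra.single l (1 : k) := hr
    simp only [θ, GLin.orbitHom, AlgHom.comp_apply, GLin.coactAlgHom_apply, hr', Algebra.TensorProduct.map_tmul,
      AlgHom.id_apply]
    simp [AddMonoidAlgebra.smul_single]
  constructor
  · intro hcl
    let χ : R →+* k :=
      { toFun := fun r => x (CTor66.pr (k := k) (0 : Λ) r)
        map_one' := by
          rw [CTor66.pr_of_mem (CTor66.mem_invariants.1 (Subalgebra.one_mem _)), if_pos rfl, map_one]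
        map_mul' := fun a b => by
          have h1 : a * b - CTor66.pr (k := k) (0 : Λ) a * CTor66.pr (k := k) (0 : Λ) b ∈ CTor66.fixIdeal k Λ R := by
            have : a * b - CTor66.pr (k := k) (0 : Λ) a * CTor66.pr (k := k) (0 : Λ) b =
                (a - CTor66.pr (k := k) (0 : Λ) a) * b + CTor66.pr (k := k) (0 : Λ) a * (b - CTor66.pr (k := k) (0 : Λ) b) := by
              ring
            rw [this]
            exact Ideal.add_mem _ (Ideal.mul_mem_right _ _ (CTor66.sub_pr_mem a))
              (Ideal.mul_mem_left _ _ (CTor66.sub_pr_mem b))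
          have h2 := CTor66.pr_fixIdeal hpos h1
          rw [map_sub, CTor66.pr_of_mem (CTor66.mul_mem_wt (CTor66.pr_mem 0 a) (CTor66.pr_mem 0 b)),
            if_pos (add_zero _), sub_eq_zero] at h2
          rw [h2, map_mul]
        map_zero' := by simp
        map_add' := fun a b => by simp }
    have hker : RingHom.ker θ.toRingHom ≤ RingHom.ker χ := by
      intro r hr
      obtain ⟨f, hf, hrs, -⟩ := CTor66.exists_decomp (k := k) (Λ := Λ) r
      have h0 : θ r = 0 := hr
      rw [hrs, map_finsuppSum, Finsupp.sum, Finset.sum_congr rfl fun l _ => hwt (hf l)] at h0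
      have h1 := congrArg (CTor66.cf (k := k) (0 : Λ)) h0
      rw [map_sum, map_zero] at h1
      show x (CTor66.pr (k := k) (0 : Λ) r) = 0
      rw [CTor66.pr_eq hf hrs]
      simp only [CTor66.cf, LinearMap.comp_apply] at h1
      by_cases h : (0 : Λ) ∈ f.support
      · simpa [Finsupp.single_apply, Finset.sum_ite_eq', h] using h1
      · simp [Finsupp.notMem_support_iff.1 h]
    haveI : (RingHom.ker χ).IsPrime := RingHom.ker_isPrime χ
    have hmem : (⟨RingHom.ker χ, inferInstance⟩ : PrimeSpectrum R) ∈ Set.range (PrimeSpectrum.comap θ.toRingHom) := by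
      have hcl' : IsClosed (Set.range (PrimeSpectrum.comap θ.toRingHom)) := hcl
      rw [← hcl'.closure_eq, PrimeSpectrum.closure_range_comap]
      exact hker
    obtain ⟨P, hP⟩ := hmem
    refine AlgHom.ext fun r => ?_
    obtain ⟨f, hf, hrs, -⟩ := CTor66.exists_decomp (k := k) (Λ := Λ) r
    subst hrs
    rw [map_finsuppSum, map_finsuppSum]
    refine Finsupp.sum_congr fun l _ => ?_
    show θ (f l) = _
    rw [hwt (hf l)]
    by_cases hl : l = 0
    · subst hl
      rfl
    · have h1 : f l ∈ (PrimeSpectrum.comap θ.toRingHom P).asIdeal := by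
        rw [hP]
        show x (CTor66.pr (k := k) (0 : Λ) (f l)) = 0
        rw [CTor66.pr_of_mem (hf l), if_neg hl, map_zero]
      have h2 : θ (f l) ∈ P.asIdeal := h1
      rw [hwt (hf l)] at h2
      have h3 : x (f l) = 0 := by
        by_contra hne
        refine P.isPrime.ne_top (Ideal.eq_top_of_isUnit_mem _ h2
          (IsUnit.of_mul_eq_one (AddMonoidAlgebra.single (-l) (x (f l))⁻¹) ?_))
        rw [AddMonoidAlgebra.single_mul_single, add_neg_cancel, mul_inv_cancel₀ hne]
        rfl
      rw [h3, AddMonoidAlgebra.single_zero]
      simp [h3]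
  · intro hfix
    show IsClosed (Set.range (PrimeSpectrum.comap θ.toRingHom))
    have e : θ.toRingHom = (algebraMap k (AddMonoidAlgebra k Λ)).comp x.toRingHom :=
      congrArg AlgHom.toRingHom hfix
    rw [e, PrimeSpectrum.comap_comp, Set.range_comp]
    refine (PrimeSpectrum.isClosedEmbedding_comap_of_surjective _ _ fun c => ⟨algebraMap k R c, x.commutes c⟩).isClosedMap _ ?_
    haveI : Subsingleton (PrimeSpectrum k) := inferInstance
    rcases Set.Subsingleton.eq_empty_or_singleton (Set.subsingleton_of_subsingleton
      (s := Set.range (PrimeSpectrum.comap (algebraMap k (AddMonoidAlgebra k Λ))))) with h | ⟨p, h⟩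
    · rw [h]; exact isClosed_empty
    · rw [h]; exact isClosed_singleton


end Groth.Agent.S15123
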