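import Groth.Statements.S15138
import Groth.Agent.ResSurf.RatFinite
import Groth.Agent.CompleteNagata.Global
import Groth.Agent.NagataLib.Localization

set_option autoImplicit false
universe u
open CategoryTheory CategoryTheory.Limits AlgebraicGeometry
open Resolve

namespace Groth.Agent.S15138

/-- Let A → B be a finite injective ring map between excellent Noetherian normal domains of Krull
dimension two (the affine form of a finite surjective morphism of two-dimensional excellent normal
integral schemes), let K ⊆ L be the induced extension of fraction fields, and assume that the degree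
[L : K] is a unit in A. If B has rational singularities, in the sense that its localization at every
maximal ideal of height two defines a rational singularity (every proper morphism onto the spectrum
from an integral normal scheme which is an isomorphism over a nonempty open has H^1 of the structure
sheaf zero), then A has rational singularities in the same sense. (The published statement is for
schemes; the property is local on the target and a finite morphism is affine, so this row is its
affine form.) -/
theorem result (A B : Type u) [CommRing A] [CommRing B]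
    [IsDomain A] [IsDomain B] [IsNoetherianRing A] [IsNoetherianRing B] [IsIntegrallyClosed A] [IsIntegrallyClosed B]
    (hAe : EGA4.IsExcellent A) (hBe : EGA4.IsExcellent B) (hA2 : ringKrullDim A = 2) (hB2 : ringKrullDim B = 2)
    [Algebra A B] [Module.Finite A B] (hinj : Function.Injective (algebraMap A B))
    (K L : Type u) [Field K] [Field L] [Algebra A K] [IsFractionRing A K] [Algebra B L] [IsFractionRing B L]
    [Algebra K L] [Algebra A L] [IsScalarTower A K L] [IsScalarTower A B L]
    (hdeg : IsUnit ((Module.finrank K L : ℕ) : A))
    (hB : ∀ (n : Ideal B) [n.IsMaximal], ringKrullDim (Localization.AtPrime n) = 2 →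
      Curv2.IsRationalSing (Localization.AtPrime n))
    (m : Ideal A) [m.IsMaximal] (hm : ringKrullDim (Localization.AtPrime m) = 2) :
    Curv2.IsRationalSing (Localization.AtPrime m) := by
  classical
  let Am := Localization.AtPrime m
  let M : Submonoid B := Algebra.algebraMapSubmonoid B m.primeCompl
  let B' := Localization M
  have hM : M ≤ nonZeroDivisors B := by
    rintro _ ⟨t, ht, rfl⟩
    exact mem_nonZeroDivisors_iff_ne_zero.2 ((map_ne_zero_iff _ hinj).2 fun h => ht (h ▸ m.zero_mem))
  have hm' : m.primeCompl ≤ nonZeroDivisors A := m.primeCompl_le_nonZeroDivisors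
  haveI : IsDomain B' := IsLocalization.isDomain_of_le_nonZeroDivisors _ hM
  haveI : IsIntegrallyClosed B' := isIntegrallyClosed_of_isLocalization B' M hM
  haveI : IsNoetherianRing B' := IsLocalization.isNoetherianRing M B' inferInstance
  letI : Algebra Am B' := localizationAlgebra m.primeCompl B
  haveI : IsScalarTower A Am B' := IsScalarTower.of_algebraMap_eq' (IsLocalization.map_comp _).symm
  haveI : IsLocalizedModule m.primeCompl (IsScalarTower.toAlgHom A B B').toLinearMap :=
    isLocalizedModule_iff_isLocalization.2 inferInstance
  haveI : Module.Finite Am B' :=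
    Module.Finite.of_isLocalizedModule m.primeCompl (Rₚ := Am) (IsScalarTower.toAlgHom A B B').toLinearMap
  have hinj' : Function.Injective (algebraMap Am B') :=
    IsLocalization.map_injective_of_injective' m.primeCompl B (f := algebraMap A B) (Rₘ := Am) B' (N := M)
      (Submonoid.le_comap_map _) (fun h => nonZeroDivisors.ne_zero (hM h) rfl) hinj
  -- fraction fields
  letI : Algebra Am K := (IsLocalization.lift (M := m.primeCompl) (g := algebraMap A K)
    fun t => isUnit_iff_ne_zero.2 ((map_ne_zero_iff _ (IsFractionRing.injective A K)).2
      (nonZeroDivisors.ne_zero (hm' t.2)))).toAlgebra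
  haveI : IsScalarTower A Am K := IsScalarTower.of_algebraMap_eq' (IsLocalization.lift_comp _).symm
  haveI : IsFractionRing Am K := IsFractionRing.isFractionRing_of_isDomain_of_isLocalization m.primeCompl Am K
  letI : Algebra B' L := (IsLocalization.lift (M := M) (g := algebraMap B L)
    fun t => isUnit_iff_ne_zero.2 ((map_ne_zero_iff _ (IsFractionRing.injective B L)).2
      (nonZeroDivisors.ne_zero (hM t.2)))).toAlgebra
  haveI : IsScalarTower B B' L := IsScalarTower.of_algebraMap_eq' (IsLocalization.lift_comp _).symm
  haveI : IsFractionRing B' L := IsFractionRing.isFractionRing_of_isDomain_of_isLocalization M B' L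
  letI : Algebra Am L := ((algebraMap K L).comp (algebraMap Am K)).toAlgebra
  haveI : IsScalarTower Am K L := IsScalarTower.of_algebraMap_eq' rfl
  haveI : IsScalarTower Am B' L := IsScalarTower.of_algebraMap_eq' (by
    refine IsLocalization.ringHom_ext m.primeCompl (RingHom.ext fun a => ?_)
    show algebraMap K L (algebraMap Am K (algebraMap A Am a)) = algebraMap B' L (algebraMap Am B' (algebraMap A Am a))
    rw [← IsScalarTower.algebraMap_apply A Am K, ← IsScalarTower.algebraMap_apply A Am B',
      IsScalarTower.algebraMap_apply A B B', ← IsScalarTower.algebraMap_apply B B' L,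
      ← IsScalarTower.algebraMap_apply A K L, ← IsScalarTower.algebraMap_apply A B L])
  haveI : Algebra.IsIntegral Am B' := Algebra.IsIntegral.of_finite Am B'
  haveI : Algebra.IsIntegral A B := Algebra.IsIntegral.of_finite A B
  have hd : ringKrullDim B' ≤ 2 :=
    (Order.krullDim_le_of_strictMono (PrimeSpectrum.comap (algebraMap B B'))
      (Monotone.strictMono_of_injective (fun _ _ h => Ideal.comap_mono h)
        (PrimeSpectrum.localization_comap_injective B' M))).trans hB2.le
  have hB' : ∀ (n : Ideal B') [n.IsMaximal], ringKrullDim (Localization.AtPrime n) = 2 →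
      Curv2.IsRationalSing (Localization.AtPrime n) := by
    intro n _ hn
    let n₀ := n.comap (algebraMap B B')
    haveI : n₀.IsPrime := Ideal.IsPrime.comap _
    have hcomap : n₀.comap (algebraMap A B) = m := by
      haveI := Ideal.isMaximal_comap_of_isIntegral_of_isMaximal (R := Am) n
      rw [show n₀.comap (algebraMap A B) = (n.comap (algebraMap Am B')).comap (algebraMap A Am) by
        rw [Ideal.comap_comap, Ideal.comap_comap, ← IsScalarTower.algebraMap_eq, ← IsScalarTower.algebraMap_eq],
        IsLocalRing.eq_maximalIdeal (‹(n.comap (algebraMap Am B')).IsMaximal›)]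
      exact IsLocalization.AtPrime.comap_maximalIdeal Am m
    haveI : n₀.IsMaximal := Ideal.isMaximal_of_isIntegral_of_isMaximal_comap (R := A) n₀ (by rw [hcomap]; infer_instance)
    haveI : IsLocalization.AtPrime (Localization.AtPrime n) n₀ :=
      IsLocalization.isLocalization_isLocalization_atPrime_isLocalization M (Localization.AtPrime n) n
    let e : Localization.AtPrime n₀ ≃+* Localization.AtPrime n :=
      (IsLocalization.algEquiv n₀.primeCompl _ _).toRingEquiv
    exact Groth.Agent.ResSurf.RatLocal.isRationalSing_of_equiv e
      (hB n₀ ((ringKrullDim_eq_of_ringEquiv e).trans hn))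
  have hNB : CAlg.IsNagata B' := Groth.Agent.NagataLib.isNagata_of_isLocalization
    (Groth.Agent.CompleteNagata.isNagata_of_isQuasiExcellent B ⟨hBe.1, hBe.2.2.1, hBe.2.2.2⟩) M B'
  intro X f hf hX hXn hU
  obtain ⟨U, hU, hi⟩ := hU
  letI : X.Over (Spec (CommRingCat.of Am)) := ⟨f⟩
  haveI : IsProper (X ↘ Spec (CommRingCat.of Am)) := hf
  haveI := hX
  haveI : IsIso ((X ↘ Spec (CommRingCat.of Am)) ∣_ U) := hi
  refine subsingleton_of_forall_eq 0 fun x => ?_
  have h0 := Groth.Agent.ResSurf.RatFinite.main hNB hd hinj' K L hB' X hXn U hU x
  have hu : IsUnit ((Module.finrank K L : ℕ) : Am) := by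
    have := hdeg.map (algebraMap A Am)
    rwa [map_natCast] at this
  obtain ⟨v, hv⟩ := hu
  rw [← hv] at h0
  calc x = (↑v⁻¹ : Am) • ((v : Am) • x) := by rw [smul_smul, Units.inv_mul, one_smul]
    _ = 0 := by rw [h0, smul_zero]

end Groth.Agent.S15138
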