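import Groth.Statements.S15142
import Groth.Agent.S15138
import Groth.Agent.ResSurf.RegularRational
import Groth.Agent.EGA41Lib.IntDim
import Mathlib.FieldTheory.Galois.IsGaloisGroup
import Mathlib.RingTheory.Invariant.Basic
import Mathlib.RingTheory.DedekindDomain.IntegralClosure

set_option autoImplicit false
universe u
open CategoryTheory CategoryTheory.Limits AlgebraicGeometry
open Resolve

namespace Groth.Agent.S15142

/-- Let R be a Noetherian domain, let A be an excellent Noetherian regular domain of Krull dimension two
(all localizations at primes are regular local rings) which is essentially of finite type over R,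
and suppose a finite group G acts on A through ring automorphisms that commute with the R-action. If
the order of G is a unit in A, then the ring of invariants A^G has rational singularities: its
localization at every maximal ideal of height two defines a rational singularity (every proper
morphism onto the spectrum from an integral normal scheme which is an isomorphism over a nonempty
open has H^1 of the structure sheaf zero). (The published statement does not assume the ring of
invariants excellent; its argument passes through the finite extension A^G ⊆ A of two-dimensional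
excellent normal domains of degree dividing the order of G, and this row carries the excellence of
A^G as a hypothesis.) -/
theorem result (R A : Type u) [CommRing R] [IsDomain R]
    [IsNoetherianRing R] [CommRing A] [IsDomain A] [IsNoetherianRing A] [Algebra R A] [Algebra.EssFiniteType R A]
    (hAe : EGA4.IsExcellent A) (hA2 : ringKrullDim A = 2)
    (hreg : ∀ (p : Ideal A) [p.IsPrime], IsRegularLocalRing (Localization.AtPrime p))
    (G : Type u) [Group G] [Finite G] [MulSemiringAction G A] [SMulCommClass G R A]
    (hG : IsUnit ((Nat.card G : ℕ) : A))
    (hGe : EGA4.IsExcellent (FixedPoints.subring A G))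
    (m : Ideal (FixedPoints.subring A G)) [m.IsMaximal] (hm : ringKrullDim (Localization.AtPrime m) = 2) :
    Curv2.IsRationalSing (Localization.AtPrime m) := by
  classical
  haveI : IsNoetherianRing (FixedPoints.subring A G) := hGe.1
  -- replace `G` by its image in the automorphisms of `A`
  let φ : G →* RingAut A := MulSemiringAction.toRingAut G A
  let H : Subgroup (RingAut A) := φ.range
  haveI : Finite H := Set.finite_range φ |>.to_subtype
  have hdvd : Nat.card H ∣ Nat.card G := Subgroup.card_range_dvd φ
  let A₀ := FixedPoints.subring A G
  have hfix : ∀ (h : H) (a : A₀), h • (a : A) = a := by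
    rintro ⟨_, g, rfl⟩ a
    exact a.2 g
  haveI : IsGaloisGroup H A₀ A :=
    { faithful := inferInstance
      commutes := ⟨fun h a x => by
        show h • ((a : A) * x) = (a : A) * (h • x)
        rw [smul_mul', hfix]⟩
      isInvariant := ⟨fun x hx => ⟨⟨x, fun g => hx ⟨φ g, g, rfl⟩⟩, rfl⟩⟩ }
  haveI : Algebra.IsInvariant A₀ A H := IsGaloisGroup.isInvariant
  haveI : Algebra.IsIntegral A₀ A := Algebra.IsInvariant.isIntegral A₀ A H
  have hinj : Function.Injective (algebraMap A₀ A) := Subtype.val_injective
  haveI : FaithfulSMul A₀ A := (faithfulSMul_iff_algebraMap_injective A₀ A).2 hinj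
  haveI : IsIntegrallyClosed A := IsIntegrallyClosed.of_localization_maximal fun p _ _ =>
    haveI := hreg p
    RegLoc6.isIntegrallyClosed_of_isRegularLocalRing _
  -- fraction fields
  let K := FractionRing A₀
  let L := FractionRing A
  letI : Algebra K L := FractionRing.liftAlgebra A₀ L
  letI : MulSemiringAction H L := IsFractionRing.mulSemiringAction H A L
  haveI : IsGaloisGroup H K L := IsGaloisGroup.to_isFractionRing H A₀ A K L
  haveI : IsGalois K L := IsGaloisGroup.isGalois H K L
  haveI : FiniteDimensional K L := IsGaloisGroup.finiteDimensional H K L
  haveI : IsIntegrallyClosed A₀ := (isIntegrallyClosed_iff K).2 fun {x} hx => by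
    have hx' : IsIntegral A (algebraMap K L x) := (hx.algebraMap (B := L)).tower_top
    obtain ⟨a, ha⟩ := IsIntegrallyClosedIn.isIntegral_iff.1 hx'
    haveI : SMulCommClass H K L := IsGaloisGroup.commutes
    have hafix : ∀ h : H, h • a = a := fun h => IsFractionRing.injective A L <| by
      calc algebraMap A L (h • a) = h • algebraMap A L a := algebraMap.smul' h a L
        _ = algebraMap A L a := by rw [ha, smul_algebraMap]
    obtain ⟨a₀, rfl⟩ := Algebra.IsInvariant.isInvariant (A := A₀) (G := H) a hafix
    refine ⟨a₀, (algebraMap K L).injective ?_⟩
    rw [← ha, ← IsScalarTower.algebraMap_apply, ← IsScalarTower.algebraMap_apply]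
  haveI : IsIntegralClosure A A₀ L := IsIntegralClosure.of_isIntegrallyClosed A A₀ L
  haveI : Module.Finite A₀ A := IsIntegralClosure.finite A₀ K L A
  -- the degree is a unit
  have hd : Module.finrank K L = Nat.card H := (IsGaloisGroup.card_eq_finrank H K L).symm
  have hdeg : IsUnit ((Module.finrank K L : ℕ) : A₀) := by
    have h1 : IsUnit (algebraMap A₀ A (Nat.card H : A₀)) := by
      rw [map_natCast]
      exact isUnit_of_dvd_unit (Nat.cast_dvd_cast hdvd) hG
    rw [hd]
    exact IsLocalHom.map_nonunit _ h1
  exact S15138.result A₀ A hGe hAe ((EGA41Lib.ringKrullDim_eq_of_integral hinj).symm.trans hA2) hA2 hinj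
    K L hdeg (fun n _ hn => by
      haveI := hreg n
      exact ResSurf.isRationalSing_of_regular _ hn) m hm

end Groth.Agent.S15142
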