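import Groth.Statements.S15156
import Groth.Agent.BunLib68.Slope
import Groth.Agent.BunLib68.TF.Beta
import Groth.Agent.LS17.NefH1.Rel
-- import your own Groth.Agent.* helpers here

set_option autoImplicit false
open CategoryTheory CategoryTheory.Limits AlgebraicGeometry
open VBCurve

namespace Groth.Agent.S15156

set_option linter.style.haveILetI false
set_option linter.unusedVariables false
open Groth.Agent Groth.Agent.CurveBundle Groth.Agent.CurveSlope Groth.Agent.CurveStable Groth.Agent.BunLib68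

/-- Let X be a smooth proper integral curve of genus at least 2 over the complex numbers with an
involution σ ≠ id over the complex numbers, and (E, φ) a σ-linearized finite locally free module of
rank r ≥ 1: φ : σ^*E ≅ E with φ ∘ σ^*φ equal to the canonical identification σ^*σ^*E ≅ E. A
submodule F ⊂ E is σ-invariant when the composite σ^*F → σ^*E → E factors through F. Then (E, φ) is
semistable with respect to σ-invariant finite locally free submodules (deg F · r ≤ deg E · rk F for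
each such F of positive rank) if and only if E is slope-semistable (the same inequality for every
finite locally free submodule of positive rank); degrees are χ − rank · χ(O). -/
theorem result
    (X : Scheme.{0}) [X.Over (Spec (CommRingCat.of ℂ))] [IsIntegral X] [IsProper (X ↘ Spec (CommRingCat.of ℂ))] [Smooth (X ↘ Spec (CommRingCat.of ℂ))]
    (hdim : topologicalKrullDim X = 1) (hg : 2 ≤ Curv2.genus ℂ X)
    (σ : X ⟶ X) (hσS : σ ≫ (X ↘ Spec (CommRingCat.of ℂ)) = X ↘ Spec (CommRingCat.of ℂ)) (hσ : σ ≫ σ = 𝟙 X) (hσ1 : σ ≠ 𝟙 X)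
    (r : ℕ) (hr : 0 < r) (E : X.Modules) (hE : FlatMod.IsFinLocFreeOfRank r E)
    (φ : (Scheme.Modules.pullback σ).obj E ≅ E)
    (hφ : (Scheme.Modules.pullback σ).map φ.hom ≫ φ.hom =
      (Scheme.Modules.pullbackComp σ σ).hom.app E ≫ (Scheme.Modules.pullbackCongr hσ).hom.app E ≫
        (Scheme.Modules.pullbackId X).hom.app E) :
    (∀ (F : X.Modules) (r' : ℕ) (i : F ⟶ E), Mono i → 0 < r' → FlatMod.IsFinLocFreeOfRank r' F →
      (∃ j : (Scheme.Modules.pullback σ).obj F ⟶ F, j ≫ i = (Scheme.Modules.pullback σ).map i ≫ φ.hom) →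
      Curv2.deg ℂ X F r' * (r : ℤ) ≤ Curv2.deg ℂ X E r * (r' : ℤ)) ↔
    (∀ (F : X.Modules) (r' : ℕ) (i : F ⟶ E), Mono i → 0 < r' → FlatMod.IsFinLocFreeOfRank r' F →
      Curv2.deg ℂ X F r' * (r : ℤ) ≤ Curv2.deg ℂ X E r * (r' : ℤ)) := by
  constructor
  swap
  · exact fun h F r' i hi hr' hF _ => h F r' i hi hr' hF
  intro hinv F r' i hi hr' hF
  haveI := isLocallyNoetherian' ℂ (X := X)
  have hEf := isFinLocFree_of_rank hE
  obtain ⟨E₁, i₁, hi₁, hpos, hE₁, hQ, hss₁, hall, hquot, -⟩ := exists_destab ℂ hdim.le hEf (by rw [rk_eq hE]; exact hr)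
  haveI := hi₁
  haveI : IsIso σ := ⟨σ, hσ, hσ⟩
  let Φ := Scheme.Modules.pullback σ
  let η : Φ ⋙ Φ ≅ 𝟭 X.Modules := Scheme.Modules.pullbackComp σ σ ≪≫ Scheme.Modules.pullbackCongr hσ ≪≫
    Scheme.Modules.pullbackId X
  haveI : Φ.IsEquivalence := (CategoryTheory.Equivalence.mk Φ Φ η.symm η).isEquivalence_functor
  haveI : Mono (Φ.map i₁) := inferInstance
  have hP1 := TF.isFinLocFreeOfRank_pullback σ (isFinLocFreeOfRank_rk hE₁)
  have hPf := isFinLocFree_of_rank hP1
  have hrP : rk (Φ.obj E₁) = rk E₁ := rk_eq hP1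
  have hdP : dg ℂ (Φ.obj E₁) = dg ℂ E₁ := by
    unfold dg
    rw [hrP, LS17.NefH1.euler_pullback_iso ℂ σ hσS (coh_of_free ℂ hE₁).1]
  let a : Φ.obj E₁ ⟶ E := Φ.map i₁ ≫ φ.hom
  haveI : Mono a := mono_comp _ _
  have hg : a ≫ cokernel.π i₁ = 0 := by
    by_contra hne
    obtain ⟨I, π, j, hj, hπ, hfac, hK, hI, hrk, hdg, hp, -⟩ := exists_decomp ℂ hdim.le hPf hQ (a ≫ cokernel.π i₁)
    have h1 := hall (kernel (a ≫ cokernel.π i₁)) (kernel.ι _ ≫ a) (mono_comp _ _) hK
    have h2 := hquot I j hj hI (hp hne)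
    have hrk' : (rk E₁ : ℤ) = (rk (kernel (a ≫ cokernel.π i₁)) : ℤ) + (rk I : ℤ) := by
      rw [← hrP]; exact_mod_cast hrk
    rw [hdP] at hdg
    rw [hrk', hdg] at h1 h2
    linarith
  have hS := shortExact_cokernel_of_mono i₁
  have h := hinv E₁ (rk E₁) i₁ hi₁ hpos (isFinLocFreeOfRank_rk hE₁) ⟨hS.exact.lift a hg, hS.exact.lift_f a hg⟩
  haveI := hi
  have hFf := isFinLocFree_of_rank hF
  have h' := hall F i hi hFf
  rw [deg_eq_dg ℂ (isFinLocFreeOfRank_rk hE₁), deg_eq_dg ℂ hE] at h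
  rw [rk_eq hF] at h'
  rw [deg_eq_dg ℂ hF, deg_eq_dg ℂ hE]
  have hp' : (0 : ℤ) < rk E₁ := by exact_mod_cast hpos
  have ha := mul_le_mul_of_nonneg_left h' (Int.natCast_nonneg r)
  have hb := mul_le_mul_of_nonneg_left h (Int.natCast_nonneg r')
  refine le_of_mul_le_mul_right ?_ hp'
  linear_combination ha + hb

end Groth.Agent.S15156
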