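import Groth.Statements.S15181
import Groth.Agent.BddFinBirat.Coord
import Groth.Agent.S15602

set_option backward.isDefEq.respectTransparency false
set_option backward.isDefEq.respectTransparency.types false

set_option autoImplicit false
universe u
open CategoryTheory MonoidalCategory CartesianMonoidalCategory MonObj GrpObj AlgebraicGeometry
open BddFin

namespace Groth.Agent.S15181

/-- Let K be a field, G a K-group scheme isomorphic (as a group scheme) to 𝔾_a or to 𝔾_m, and X an
integral separated K-scheme of finite type with an action of G that is not the trivial action. Then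
X is birational over K to ℙ¹ × Y for some K-variety Y: there are an integral K-scheme Y locally of
finite type, a non-empty open subscheme U of X and an open subscheme V of the affine line over Y,
with U and V isomorphic over K. -/
theorem result
    (K : Type u) [Field K] (G X : Over (Spec (CommRingCat.of K))) [GrpObj G]
    (hG : Nonempty (Grp.mk G ≅ Grp.mk (Red.Ga (Spec (CommRingCat.of K)))) ∨
      Nonempty (Grp.mk G ≅ Grp.mk (Red.Gm (Spec (CommRingCat.of K)))))
    [IsIntegral X.left] [LocallyOfFiniteType X.hom] [QuasiCompact X.hom] [IsSeparated X.hom]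
    (a : AlgGrp.Action G X) (ha : a.act ≠ snd G X) :
    ∃ (Y : Over (Spec (CommRingCat.of K))) (_ : IsIntegral Y.left) (_ : LocallyOfFiniteType Y.hom)
      (U : X.left.Opens) (V : (𝔸(ULift.{u} (Fin 1); Y.left)).Opens), (U : Set X.left).Nonempty ∧
      Nonempty (Over.mk (U.ι ≫ X.hom) ≅
        Over.mk (V.ι ≫ (𝔸(ULift.{u} (Fin 1); Y.left) ↘ Y.left) ≫ Y.hom)) := by
  let R := ULift.{u} ℤ
  let : Algebra R K := ((algebraMap ℤ K).comp (ULift.ringEquiv.toRingHom)).toAlgebra
  rcases hG with ⟨⟨b⟩⟩ | ⟨⟨b⟩⟩
  · obtain ⟨e1⟩ := GrpSchLib.AffineHopf.nonempty_bc_iso (Limits.IsTerminal.from specULiftZIsTerminal (Spec (CommRingCat.of K)))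
      (Spec.map (CommRingCat.ofHom (algebraMap R K))) (specULiftZIsTerminal.hom_ext _ _) Red.GaZ
    obtain ⟨e2⟩ := GrpSchLib.AffineHopf.nonempty_bc_sp (R := R) K (SymmetricAlgebra R R)
    let j := (Grp.forget _).mapIso ((b.trans e1).trans e2)
    haveI : IsAffine G.left := @IsAffine.of_isIso _ _ ((Over.forget _).mapIso j).hom (Iso.isIso_hom _) (isAffine_Spec _)
    obtain ⟨-, ⟨ψ⟩⟩ := Groth.Agent.S15602.aux R K
    let φ₀ : Polynomial K ≃ₐ[K] GrpSchLib.Kunneth.Fn G := ψ.trans (GrpSchLib.LineGroups.fnEquiv j)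
    haveI : Smooth G.hom := BddFinBirat.smooth_of_equiv φ₀
    obtain ⟨φ, L, he, ht, hop⟩ := BddFinBirat.exists_coord_Ga φ₀
    refine BddFinBirat.splitting_of_coord a ha L (Or.inl he) (fun F _ _ g₁ h => BddFinBirat.injective_Ga φ L ht F g₁ h)
      (fun F _ _ θ hε hcoc hnt => BddFinBirat.isSplitBy_add (fun f => ?_) (fun f => ?_) hnt)
    · have := hε f
      rwa [he, map_zero] at this
    · have h := hcoc (Polynomial.taylorAlgHom (RatFunc.X : RatFunc F)).toRingHom (Polynomial.taylor_injective _)
        (fun c => Polynomial.taylor_C _ c) ?_ f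
      · exact h
      · show algebraMap _ _ (Polynomial.taylor RatFunc.X Polynomial.X) = _
        rw [Polynomial.taylor_X, map_add, RatFunc.algebraMap_X, RatFunc.algebraMap_C, hop]
  · obtain ⟨e⟩ := GrpSchLib.AffineHopf.nonempty_DS_iso K ℤ
    let j := (Grp.forget _).mapIso (b.trans e.symm)
    haveI : IsAffine G.left := @IsAffine.of_isIso _ _ ((Over.forget _).mapIso j).hom (Iso.isIso_hom _) (isAffine_Spec _)
    let φ : LaurentPolynomial K ≃ₐ[K] GrpSchLib.Kunneth.Fn G := ((AddMonoidAlgebra.toMultiplicativeAlgEquiv K K ℤ).trans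
      (GrpSchLib.LineGroups.spEquiv (k := K) _)).trans (GrpSchLib.LineGroups.fnEquiv j)
    haveI : Smooth G.hom := BddFinBirat.smooth_of_equiv φ
    obtain ⟨w, L, hw, he, ht, hop⟩ := BddFinBirat.exists_coord_Gm φ
    refine BddFinBirat.splitting_of_coord a ha L (Or.inr he) (fun F _ _ g₁ h => BddFinBirat.injective_Gm φ L hw ht F g₁ h)
      (fun F _ _ θ hε hcoc hnt => BddFinBirat.isSplitBy_mul (fun f => ?_) (fun f => ?_) hnt)
    · have := hε f
      rwa [he, map_one] at this
    · have h := hcoc (Polynomial.compRingHom (Polynomial.C (RatFunc.X : RatFunc F) * Polynomial.X))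
        (BddFinBirat.injective_comp_C_mul_X RatFunc.X_ne_zero) (fun c => Polynomial.C_comp) ?_ f
      · exact h
      · rw [Polynomial.coe_compRingHom_apply, Polynomial.X_comp, map_mul, RatFunc.algebraMap_X, RatFunc.algebraMap_C,
          hop, mul_comm]

end Groth.Agent.S15181
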