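import Groth.Statements.S1522

import Groth.Agent.VarBase.NonspecialLine
import Groth.Agent.CurveCohLib.Nonspecial

set_option autoImplicit false
set_option linter.style.haveILetI false
set_option linter.unusedSectionVars false
set_option backward.isDefEq.respectTransparency false
set_option backward.isDefEq.respectTransparency.types false
universe u
open CategoryTheory CategoryTheory.Limits AlgebraicGeometry
open Variety

namespace Groth.Agent.S1522

open Groth.Agent

/-- On a proper curve over an algebraically closed field with g the dimension of H^1 of the structure
sheaf, every invertible module of degree at least 2g - 1 has H^1 equal to zero. -/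
theorem result (k : Type u) [Field k] [IsAlgClosed k] (X : Scheme.{u}) [X.Over (Spec (CommRingCat.of k))]
    [IsIntegral X] [IsProper (X ↘ (Spec (CommRingCat.of k)))] (hdim : topologicalKrullDim X = 1)
    (L : X.Modules) (hL : PicF.IsInvertible L)
    (hdeg : 2 * (Curv2.genus k X : ℤ) - 1 ≤ Curv2.deg k X L 1) :
    Subsingleton (Coh.HH X L 1) := by
  haveI := CurveCohLib.isNoetherian_of_proper (k := k) (X := X)
  have hO := CurveCohLib.Nonspecial.euler_structure k hdim (VarBase.NonspecialLine.h0_eq_one k)
  refine CurveCohLib.Nonspecial.h1_of_euler k hdim (CurveDeg.isCoh_of_isInvertible hL)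
    (fun φ hφ => CurveCohLib.Nonspecial.section_of_sub k (CurveDeg.isCoh_of_isInvertible hL) hL (𝟙 L) φ hφ) ?_
  unfold Curv2.deg at hdeg
  push_cast at hdeg
  omega

end Groth.Agent.S1522
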