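import Groth.Statements.S15225
import Groth.Agent.BunLib68.Higgs
import Groth.Agent.CurveFF.Canonical
-- import your own Groth.Agent.* helpers here

set_option autoImplicit false
open CategoryTheory CategoryTheory.Limits AlgebraicGeometry MonoidalCategory
open VBCurve

namespace Groth.Agent.S15225

set_option linter.style.haveILetI false
set_option linter.unusedVariables false
set_option backward.isDefEq.respectTransparency false
open Groth.Agent Groth.Agent.CurveBundle Groth.Agent.CurveSlope Groth.Agent.CurveStable Groth.Agent.BunLib68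

/-- Let X be a smooth proper integral curve over ℂ of genus at least 2 which is non-hyperelliptic (no
invertible module of degree 2 has two independent global sections), K a module isomorphic to its
sheaf of differentials, and E a slope-stable finite locally free module of rank 2 and degree 0 or 1
(degrees are χ(−) minus rank times χ(O_X)). Call E very stable when every O_X-linear map α : E → E ⊗
K with α ∘ α = 0 (the composite E → E ⊗ K → (E ⊗ K) ⊗ K) is zero; for rank 2 this is the absence of
non-zero nilpotent K-valued endomorphisms. Then E fails to be very stable exactly when E has a line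
subbundle L, i.e. an invertible submodule whose quotient E/L is invertible, together with a non-zero
O_X-linear map E/L → L ⊗ K. (With det E = Λ and L the dual of a line bundle L₀ the space of such
maps is H^0(K ⊗ L₀^{-2} ⊗ Λ^{-1}), which is how the criterion is usually written.) -/
theorem result
    (X : Scheme.{0}) [X.Over (Spec (CommRingCat.of ℂ))] [IsIntegral X]
    [IsProper (X ↘ Spec (CommRingCat.of ℂ))] [Smooth (X ↘ Spec (CommRingCat.of ℂ))]
    (hdim : topologicalKrullDim X = 1) (hg : 2 ≤ Curv2.genus ℂ X)
    (hnh : ∀ M : X.Modules, PicF.IsInvertible M → Curv2.deg ℂ X M 1 = 2 →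
      Module.finrank ℂ (Coh.HH X M 0) ≤ 1)
    (K : X.Modules) (eK : K ≅ Omega.sheaf (X ↘ Spec (CommRingCat.of ℂ)))
    (E : X.Modules) (hE : FlatMod.IsFinLocFreeOfRank 2 E)
    (hdegE : Curv2.deg ℂ X E 2 = 0 ∨ Curv2.deg ℂ X E 2 = 1)
    (hst : ModFun.IsSlopeStable ℂ X E 2) :
    (¬ ∀ α : E ⟶ CohB1.tensorMod E K,
        α ≫ (CohB1.sheafifyMod X).map
          (MonoidalCategoryStruct.whiskerRight (C := CohB1.PMod X) α.val (CohB1.toPMod K)) = 0 → α = 0) ↔
      ∃ (L : X.Modules) (j : L ⟶ E), PicF.IsInvertible L ∧ Mono j ∧ PicF.IsInvertible (cokernel j) ∧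
        ∃ β : cokernel j ⟶ CohB1.tensorMod L K, β ≠ 0 := by
  haveI := isLocallyNoetherian' ℂ (X := X)
  have hKi : PicF.IsInvertible K :=
    H23.PicMul.isInvertible_of_iso eK.symm (CurveFF.isInvertible_Ωm ℂ X hdim)
  have hKf := isFinLocFree_of_rank (InvEnd.isFinLocFreeOfRank_one hKi)
  constructor
  · intro hnot
    push Not at hnot
    obtain ⟨α, hα, hne⟩ := hnot
    replace hα : α ≫ CurveHiggs.twist K α = 0 := hα
    have hEf := isFinLocFree_of_rank hE
    have hEK := CurveHiggs.isFinLocFree_twist hKi hEf
    obtain ⟨I, π, j, hj, hπ, hfac, hkf, hI, hr, -, hpos, -⟩ := exists_decomp ℂ hdim.le hEf hEK α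
    haveI := hj
    haveI := hπ
    have hI1 := hpos hne
    rw [rk_eq hE] at hr
    have hker : rk (kernel α) ≠ 0 := fun h0 => by
      haveI : Mono α := Preadditive.mono_of_kernel_zero ((isZero_of_rk_zero hkf h0).eq_of_src _ _)
      haveI := CurveHiggs.mono_twist hKf α
      exact hne ((cancel_mono (CurveHiggs.twist K α)).1 (hα.trans zero_comp.symm))
    let d : cokernel (kernel.ι α) ⟶ CohB1.tensorMod E K := cokernel.desc _ α (kernel.condition α)
    haveI : Mono d := inferInstanceAs (Mono (Abelian.factorThruCoimage α))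
    have hd : cokernel.π (kernel.ι α) ≫ d = α := cokernel.π_desc _ _ _
    have hw : kernel.ι α ≫ π = 0 := by
      rw [← cancel_mono j, Category.assoc, hfac, kernel.condition, zero_comp]
    have he : IsIso (cokernel.desc _ π hw) := by
      have hcomp : cokernel.desc _ π hw ≫ j = d := by
        rw [← cancel_epi (cokernel.π (kernel.ι α)), ← Category.assoc, cokernel.π_desc, hfac, hd]
      haveI : Mono (cokernel.desc _ π hw) := mono_of_mono_fac hcomp
      haveI : Epi (cokernel.desc _ π hw) := epi_of_epi_fac (cokernel.π_desc _ π hw)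
      exact isIso_of_mono_of_epi _
    have hkey : d ≫ CurveHiggs.twist K (cokernel.π (kernel.ι α)) = 0 := by
      haveI := CurveHiggs.mono_twist hKf d
      rw [← cancel_mono (CurveHiggs.twist K d), Category.assoc, ← CurveHiggs.twist_comp, hd,
        ← cancel_epi (cokernel.π (kernel.ι α)), ← Category.assoc, hd, hα, zero_comp, comp_zero]
    obtain ⟨β, hβ⟩ := CurveHiggs.exists_lift hKf (kernel.ι α) _ (cokernel.condition _)
      (shortExact_cokernel_of_mono _) d hkey
    refine ⟨kernel α, kernel.ι α, ?_, inferInstance, ?_, β, fun h0 => ?_⟩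
    · have h1 : rk (kernel α) = 1 := by omega
      exact CurveDuality.isInvertible_of_rank_one (h1 ▸ isFinLocFreeOfRank_rk hkf)
    · have h1 : rk I = 1 := by omega
      exact H23.PicMul.isInvertible_of_iso (asIso (cokernel.desc _ π hw)).symm
        (CurveDuality.isInvertible_of_rank_one (h1 ▸ isFinLocFreeOfRank_rk hI))
    · rw [h0, zero_comp] at hβ
      exact hne (by rw [← hd, ← hβ, comp_zero])
  · rintro ⟨L, j, hL, hj, -, β, hβ⟩ hall
    haveI := hj
    haveI := CurveHiggs.mono_twist hKf j
    refine hβ ((cancel_mono (CurveHiggs.twist K j)).1 ((cancel_epi (cokernel.π j)).1 ?_))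
    refine (hall (cokernel.π j ≫ β ≫ CurveHiggs.twist K j) ?_).trans (by rw [zero_comp, comp_zero])
    show (cokernel.π j ≫ β ≫ CurveHiggs.twist K j) ≫ CurveHiggs.twist K (cokernel.π j ≫ β ≫ CurveHiggs.twist K j) = 0
    simp only [Category.assoc]
    rw [← CurveHiggs.twist_comp, ← Category.assoc j, cokernel.condition, zero_comp, CurveHiggs.twist_zero,
      comp_zero, comp_zero]

end Groth.Agent.S15225
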