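import Groth.Statements.S15226
import Groth.Agent.BunLib68.Higgs
import Groth.Agent.CurveFF.Canonical
-- import your own Groth.Agent.* helpers here

set_option autoImplicit false
open CategoryTheory CategoryTheory.Limits AlgebraicGeometry MonoidalCategory
open VBCurve

namespace Groth.Agent.S15226

set_option linter.style.haveILetI false
set_option linter.unusedVariables false
set_option backward.isDefEq.respectTransparency false
open Groth.Agent Groth.Agent.CurveBundle Groth.Agent.CurveSlope Groth.Agent.CurveStable Groth.Agent.BunLib68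

/-- Let X be a smooth proper integral curve over ℂ of genus at least 2 which is non-hyperelliptic, K a
module isomorphic to its sheaf of differentials, and E a slope-stable finite locally free module of
rank 2 and degree 0 or 1 which is very stable: every O_X-linear α : E → E ⊗ K with α ∘ α = 0 (as a
map E → (E ⊗ K) ⊗ K) vanishes. Let L be an invertible module occurring as a line subbundle of E of
maximal degree (a monomorphism L → E with invertible quotient exists, and every invertible module
mapping monomorphically into E has degree at most deg L). Then for every non-zero s : L → E and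
every non-zero t : E → L ⊗ K the composite L → E → L ⊗ K is non-zero; in other words the pairing
Hom(L, E) × Hom(E, L ⊗ K) → Hom(L, L ⊗ K) ≅ H^0(K) vanishes on no pair of non-zero elements. -/
theorem result
    (X : Scheme.{0}) [X.Over (Spec (CommRingCat.of ℂ))] [IsIntegral X]
    [IsProper (X ↘ Spec (CommRingCat.of ℂ))] [Smooth (X ↘ Spec (CommRingCat.of ℂ))]
    (hdim : topologicalKrullDim X = 1) (hg : 2 ≤ Curv2.genus ℂ X)
    (hnh : ∀ M : X.Modules, PicF.IsInvertible M → Curv2.deg ℂ X M 1 = 2 →
      Module.finrank ℂ (Coh.HH X M 0) ≤ 1)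
    (K : X.Modules) (eK : K ≅ Omega.sheaf (X ↘ Spec (CommRingCat.of ℂ)))
    (E : X.Modules) (hE : FlatMod.IsFinLocFreeOfRank 2 E)
    (hdegE : Curv2.deg ℂ X E 2 = 0 ∨ Curv2.deg ℂ X E 2 = 1)
    (hst : ModFun.IsSlopeStable ℂ X E 2)
    (hvs : ∀ α : E ⟶ CohB1.tensorMod E K,
        α ≫ (CohB1.sheafifyMod X).map
          (MonoidalCategoryStruct.whiskerRight (C := CohB1.PMod X) α.val (CohB1.toPMod K)) = 0 → α = 0)
    (L : X.Modules) (hL : PicF.IsInvertible L)
    (hmax : ∃ j : L ⟶ E, Mono j ∧ PicF.IsInvertible (cokernel j) ∧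
      ∀ (M : X.Modules) (i : M ⟶ E), PicF.IsInvertible M → Mono i → Curv2.deg ℂ X M 1 ≤ Curv2.deg ℂ X L 1)
    (s : L ⟶ E) (hs : s ≠ 0) (t : E ⟶ CohB1.tensorMod L K) (ht : t ≠ 0) :
    s ≫ t ≠ 0 := by
  haveI := isLocallyNoetherian' ℂ (X := X)
  have hKi : PicF.IsInvertible K :=
    H23.PicMul.isInvertible_of_iso eK.symm (CurveFF.isInvertible_Ωm ℂ X hdim)
  have hKf := isFinLocFree_of_rank (InvEnd.isFinLocFreeOfRank_one hKi)
  intro h0
  obtain ⟨j, hj, -, -⟩ := hmax
  have hLf := isFinLocFree_of_rank (InvEnd.isFinLocFreeOfRank_one hL)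
  haveI : Mono s := CurveSection.mono_of_ne_zero ℂ hdim.le hLf (rk_eq (InvEnd.isFinLocFreeOfRank_one hL))
    (isFinLocFree_of_rank hE) s hs
  haveI := CurveHiggs.mono_twist hKf s
  refine ht ((cancel_mono (CurveHiggs.twist K s)).1 ((hvs (t ≫ CurveHiggs.twist K s) ?_).trans zero_comp.symm))
  show (t ≫ CurveHiggs.twist K s) ≫ CurveHiggs.twist K (t ≫ CurveHiggs.twist K s) = 0
  rw [Category.assoc, ← CurveHiggs.twist_comp, ← Category.assoc s, h0, zero_comp, CurveHiggs.twist_zero,
    comp_zero]

end Groth.Agent.S15226
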