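import Groth.Statements.S15227
import Groth.Agent.BunLib68.Secant
import Groth.Agent.Lib.CurveEnd
-- import your own Groth.Agent.* helpers here

set_option autoImplicit false
open CategoryTheory CategoryTheory.Limits AlgebraicGeometry MonoidalCategory
open VBCurve

namespace Groth.Agent.S15227

set_option linter.style.haveILetI false
set_option linter.unusedVariables false
open scoped H23.PicMul
open Groth.Agent Groth.Agent.BunLib68 Groth.Agent.JacTheta

/-- Let X be a smooth proper integral curve over ℂ of genus g ≥ 3 which is non-hyperelliptic, K a module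
isomorphic to its sheaf of differentials, and N an invertible module of degree g − 1 with H^0(N) =
0, so that the complete linear system of K ⊗ N maps X to a projective space of dimension 2g − 3 as a
curve of degree 3g − 3. An effective divisor D of degree d, recorded through its invertible ideal
sheaf I ⊂ O_X (of degree −d), is a d-secant when its linear span has dimension d − 2, i.e. h^0(I ⊗ K
⊗ N) = h^0(K ⊗ N) − d + 1. Then there is no (g − 1)-secant: no invertible ideal I ⊂ O_X of degree 1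
− g satisfies h^0(I ⊗ K ⊗ N) + (g − 2) = h^0(K ⊗ N). -/
theorem result
    (X : Scheme.{0}) [X.Over (Spec (CommRingCat.of ℂ))] [IsIntegral X]
    [IsProper (X ↘ Spec (CommRingCat.of ℂ))] [Smooth (X ↘ Spec (CommRingCat.of ℂ))]
    (hdim : topologicalKrullDim X = 1) (hg : 2 ≤ Curv2.genus ℂ X)
    (hnh : ∀ M : X.Modules, PicF.IsInvertible M → Curv2.deg ℂ X M 1 = 2 →
      Module.finrank ℂ (Coh.HH X M 0) ≤ 1)
    (K : X.Modules) (eK : K ≅ Omega.sheaf (X ↘ Spec (CommRingCat.of ℂ)))
    (g : ℕ) (hg3 : 3 ≤ g) (hgen : Curv2.genus ℂ X = g)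
    (N : X.Modules) (hN : PicF.IsInvertible N) (hdN : Curv2.deg ℂ X N 1 = (g : ℤ) - 1)
    (h0 : Module.finrank ℂ (Coh.HH X N 0) = 0) :
    ¬ ∃ (I : X.Modules) (ι : I ⟶ Coh.structureModule X),
        PicF.IsInvertible I ∧ Mono ι ∧ Curv2.deg ℂ X I 1 = -((g : ℤ) - 1) ∧
        Module.finrank ℂ (Coh.HH X (CohB1.tensorMod I (CohB1.tensorMod K N)) 0) + (g - 2) =
          Module.finrank ℂ (Coh.HH X (CohB1.tensorMod K N) 0) := by
  haveI := Secant.geomConn (k := ℂ) hdim
  subst hgen
  have hK := Secant.cl_K (k := ℂ) hdim eK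
  rintro ⟨I, ι, hI, hι, hdI, hcond⟩
  have hKN : PicF.cl (CohB1.tensorMod K N) = ((can ℂ hdim * lb N hN : LB X) : PicF.Cl X) := by
    rw [H23.PicMul.cl_tensor, hK, Units.val_mul, lb_val]
  have hIKN : PicF.cl (CohB1.tensorMod I (CohB1.tensorMod K N)) =
      ((can ℂ hdim * (lb I hI * lb N hN) : LB X) : PicF.Cl X) := by
    rw [mul_left_comm, H23.PicMul.cl_tensor, hKN, Units.val_mul (lb I hI), lb_val]
  rw [← hh_cl, ← hh_cl, hIKN, hKN] at hcond
  rw [← dgr_cl, ← lb_val I hI] at hdI
  rw [← dgr_cl, ← lb_val N hN] at hdN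
  rw [← hh_cl, ← lb_val N hN] at h0
  have hM : dgr ℂ ((lb I hI * lb N hN : LB X) : PicF.Cl X) = 0 := by
    rw [dgr_mul hdim, hdI, hdN]; ring
  have h1 := (hh_of_dgr_gt (k := ℂ) hdim (can ℂ hdim * lb N hN) (by
    rw [dgr_mul hdim, dgr_can hdim, hdN]; omega)).2
  rw [dgr_mul hdim, dgr_can hdim, hdN] at h1
  have h2 := Secant.residual_eq (k := ℂ) hdim _ hM (by omega)
  have h3 := Secant.hh_pos_of_ideal (k := ℂ) hdim hI ι (fun hz => by
    subst hz
    haveI := hι
    exact CurveEnd.not_isZero I 1 Nat.one_pos (InvEnd.isFinLocFreeOfRank_one hI) (IsZero.of_mono_zero I (Coh.structureModule X)))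
  rw [inv_eq_of_mul_eq_one_right h2] at h3
  omega

end Groth.Agent.S15227
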