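import Groth.Statements.S15228
import Groth.Agent.BunLib68.Secant
import Groth.Agent.Lib.CurveEnd
-- import your own Groth.Agent.* helpers here

set_option autoImplicit false
open CategoryTheory CategoryTheory.Limits AlgebraicGeometry MonoidalCategory
open VBCurve

namespace Groth.Agent.S15228

set_option linter.style.haveILetI false
set_option linter.unusedVariables false
open scoped H23.PicMul
open Groth.Agent Groth.Agent.BunLib68 Groth.Agent.JacTheta

/-- Let X be a smooth proper integral curve over ℂ of genus g ≥ 3 which is non-hyperelliptic, K a module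
isomorphic to its sheaf of differentials, and N an invertible module of degree g with h^0(N) ≤ 1, so
that the complete linear system of K ⊗ N maps X to a projective space of dimension 2g − 2 as a curve
of degree 3g − 2. An effective divisor D of degree d, recorded through its invertible ideal sheaf I
⊂ O_X (of degree −d), is a d-secant when its linear span has dimension d − 2, i.e. h^0(I ⊗ K ⊗ N) =
h^0(K ⊗ N) − d + 1. Then X has exactly one g-secant: some invertible ideal I ⊂ O_X of degree −g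
satisfies h^0(I ⊗ K ⊗ N) + (g − 1) = h^0(K ⊗ N), and any two such ideals are equal as subobjects of
O_X (an isomorphism between them commutes with the inclusions). -/
theorem result
    (X : Scheme.{0}) [X.Over (Spec (CommRingCat.of ℂ))] [IsIntegral X]
    [IsProper (X ↘ Spec (CommRingCat.of ℂ))] [Smooth (X ↘ Spec (CommRingCat.of ℂ))]
    (hdim : topologicalKrullDim X = 1) (hg : 2 ≤ Curv2.genus ℂ X)
    (hnh : ∀ M : X.Modules, PicF.IsInvertible M → Curv2.deg ℂ X M 1 = 2 →
      Module.finrank ℂ (Coh.HH X M 0) ≤ 1)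
    (K : X.Modules) (eK : K ≅ Omega.sheaf (X ↘ Spec (CommRingCat.of ℂ)))
    (g : ℕ) (hg3 : 3 ≤ g) (hgen : Curv2.genus ℂ X = g)
    (N : X.Modules) (hN : PicF.IsInvertible N) (hdN : Curv2.deg ℂ X N 1 = (g : ℤ))
    (h0 : Module.finrank ℂ (Coh.HH X N 0) ≤ 1) :
    (∃ (I : X.Modules) (ι : I ⟶ Coh.structureModule X),
        PicF.IsInvertible I ∧ Mono ι ∧ Curv2.deg ℂ X I 1 = -((g : ℤ)) ∧
        Module.finrank ℂ (Coh.HH X (CohB1.tensorMod I (CohB1.tensorMod K N)) 0) + (g - 1) =
          Module.finrank ℂ (Coh.HH X (CohB1.tensorMod K N) 0)) ∧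
      ∀ (I I' : X.Modules) (ι : I ⟶ Coh.structureModule X) (ι' : I' ⟶ Coh.structureModule X),
        (PicF.IsInvertible I ∧ Mono ι ∧ Curv2.deg ℂ X I 1 = -((g : ℤ)) ∧
        Module.finrank ℂ (Coh.HH X (CohB1.tensorMod I (CohB1.tensorMod K N)) 0) + (g - 1) =
          Module.finrank ℂ (Coh.HH X (CohB1.tensorMod K N) 0)) →
        (PicF.IsInvertible I' ∧ Mono ι' ∧ Curv2.deg ℂ X I' 1 = -((g : ℤ)) ∧
        Module.finrank ℂ (Coh.HH X (CohB1.tensorMod I' (CohB1.tensorMod K N)) 0) + (g - 1) =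
          Module.finrank ℂ (Coh.HH X (CohB1.tensorMod K N) 0)) →
        ∃ φ : I' ≅ I, φ.hom ≫ ι = ι' := by
  haveI := Secant.geomConn (k := ℂ) hdim
  subst hgen
  have hK := Secant.cl_K (k := ℂ) hdim eK
  have hKN : PicF.cl (CohB1.tensorMod K N) = ((can ℂ hdim * lb N hN : LB X) : PicF.Cl X) := by
    rw [H23.PicMul.cl_tensor, hK, Units.val_mul, lb_val]
  rw [← dgr_cl, ← lb_val N hN] at hdN
  rw [← hh_cl, ← lb_val N hN] at h0
  have h1 := (hh_of_dgr_gt (k := ℂ) hdim (can ℂ hdim * lb N hN) (by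
    rw [dgr_mul hdim, dgr_can hdim, hdN]; omega)).2
  rw [dgr_mul hdim, dgr_can hdim, hdN] at h1
  have hne : ∀ {I : X.Modules} (ι : I ⟶ Coh.structureModule X), PicF.IsInvertible I → Mono ι → ι ≠ 0 := by
    intro I ι hI hι hz
    subst hz
    exact CurveEnd.not_isZero I 1 Nat.one_pos (InvEnd.isFinLocFreeOfRank_one hI) (IsZero.of_mono_zero I (Coh.structureModule X))
  refine ⟨?_, ?_⟩
  · have h2 := rr (k := ℂ) hdim (lb N hN)
    obtain ⟨I, ι, hI, hι, hIc⟩ := Secant.exists_ideal (k := ℂ) hdim (lb N hN) (by omega)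
    refine ⟨I, ι, hI, hι, ?_, ?_⟩
    · rw [← dgr_cl, hIc, dgr_inv hdim, hdN]
    · have hc : PicF.cl (CohB1.tensorMod I (CohB1.tensorMod K N)) = (can ℂ hdim : PicF.Cl X) := by
        rw [H23.PicMul.cl_tensor, hKN, hIc, ← Units.val_mul, mul_left_comm, inv_mul_cancel, mul_one]
      rw [← hh_cl, ← hh_cl, hc, hKN, hh_can_zero hdim]
      omega
  · intro I I' ι ι' hs hs'
    have key : ∀ (I : X.Modules) (hI : PicF.IsInvertible I), Curv2.deg ℂ X I 1 = -((Curv2.genus ℂ X : ℕ) : ℤ) →
        Module.finrank ℂ (Coh.HH X (CohB1.tensorMod I (CohB1.tensorMod K N)) 0) + (Curv2.genus ℂ X - 1) =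
          Module.finrank ℂ (Coh.HH X (CohB1.tensorMod K N) 0) →
        PicF.cl I = (((lb N hN)⁻¹ : LB X) : PicF.Cl X) := by
      intro I hI hdI hcond
      have hIKN : PicF.cl (CohB1.tensorMod I (CohB1.tensorMod K N)) =
          ((can ℂ hdim * (lb I hI * lb N hN) : LB X) : PicF.Cl X) := by
        rw [mul_left_comm, H23.PicMul.cl_tensor, hKN, Units.val_mul (lb I hI), lb_val]
      rw [← hh_cl, ← hh_cl, hIKN, hKN] at hcond
      rw [← dgr_cl, ← lb_val I hI] at hdI
      have h2 := Secant.residual_eq (k := ℂ) hdim (lb I hI * lb N hN)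
        (by rw [dgr_mul hdim, hdI, hdN]; ring) (by omega)
      rw [← lb_val I hI, eq_inv_of_mul_eq_one_left h2]
    exact Secant.ideal_unique (k := ℂ) hdim _ h0 ι ι' (key I hs.1 hs.2.2.1 hs.2.2.2)
      (key I' hs'.1 hs'.2.2.1 hs'.2.2.2) (hne ι hs.1 hs.2.1) (hne ι' hs'.1 hs'.2.1)

end Groth.Agent.S15228
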