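import Groth.Statements.S15240
import Groth.Agent.Obs28.ActPts
import Groth.Agent.Obs28.Unip.Main
import Groth.Agent.Obs28.Primes

set_option autoImplicit false
set_option linter.style.haveILetI false
universe u
open CategoryTheory CategoryTheory.Limits MonoidalCategory CartesianMonoidalCategory MonObj GrpObj AlgebraicGeometry
open AGF
open Groth.Agent.Obs28 Groth.Agent.GrpSchLib.Kunneth Groth.Agent

namespace Groth.Agent.S15240

/-- Let k be an algebraically closed field, B a connected solvable affine algebraic group over k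
(affine, smooth, connected, solvable k-group scheme) acting on a complete k-scheme X (separated, of
finite type and proper over k) with finitely many orbits (finitely many subsets of X arise as images
of orbit maps of k-points), and Y a separated k-scheme of finite type on which B acts trivially.
Then every closed irreducible subset Z of X ×_k Y which is stable under the translations by all
k-points of B (acting on the first factor) is of the form V × W: there are a B-stable closed
irreducible subset V of X and a closed irreducible subset W of Y with Z equal to the set of points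
whose two projections lie in V and in W. -/
theorem result (k : Type u) [Field k] [IsAlgClosed k]
    (B X Y : Over (Spec (CommRingCat.of k))) [GrpObj B] [IsAffine B.left] [Smooth B.hom] [ConnectedSpace ↥B.left]
    (hsolv : Red.IsSolvableGrp B)
    [IsProper X.hom]
    [IsSeparated Y.hom] [LocallyOfFiniteType Y.hom] [QuasiCompact Y.hom]
    (a : AlgGrp.Action B X)
    (hfin : Set.Finite {S : Set ↥X.left | ∃ x : 𝟙_ (Over (Spec (CommRingCat.of k))) ⟶ X, S = Set.range ⇑(a.orbitMap x).left.base})
    (Z : Set ↥(X ⊗ Y).left) (hZc : IsClosed Z) (hZi : IsIrreducible Z)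
    (hZs : ∀ b : 𝟙_ (Over (Spec (CommRingCat.of k))) ⟶ B,
      ⇑(CartesianMonoidalCategory.lift (CartesianMonoidalCategory.toUnit (X ⊗ Y) ≫ b) (𝟙 (X ⊗ Y)) ≫
          (α_ B X Y).inv ≫ (a.act ▷ Y)).left.base '' Z ⊆ Z) :
    ∃ (V : Set ↥X.left) (W : Set ↥Y.left), IsClosed V ∧ IsIrreducible V ∧ IsClosed W ∧ IsIrreducible W ∧
      (∀ b : 𝟙_ (Over (Spec (CommRingCat.of k))) ⟶ B,
        ⇑(CartesianMonoidalCategory.lift (CartesianMonoidalCategory.toUnit X ≫ b) (𝟙 X) ≫ a.act).left.base '' V ⊆ V) ∧
      Z = ⇑(CartesianMonoidalCategory.fst X Y).left.base ⁻¹' V ∩ ⇑(CartesianMonoidalCategory.snd X Y).left.base ⁻¹' W := by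
  classical
  haveI : IrreducibleSpace B.left := by
    haveI := Unip.isIntegral_grp (G := B)
    infer_instance
  haveI : LocallyOfFiniteType (X ⊗ Y).hom :=
    inferInstanceAs (LocallyOfFiniteType (Limits.pullback.fst X.hom Y.hom ≫ X.hom))
  let O : Obs28.Rat X → Set X.left := fun x => Set.range (a.orbitMap (ActPts.sec x)).left.base
  have horb : ∀ (b : Obs28.Rat B) x, b ≫ a.orbitMap (ActPts.sec x) = CartesianMonoidalCategory.lift b x ≫ a.act :=
    fun b x => by rw [ActPts.comp_orbitMap, ActPts.toUnit_sec]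
  let F := {S : Set X.left | ∃ x : Obs28.Rat X, S = O x}
  have hF : F.Finite := hfin.subset fun S ⟨x, hx⟩ => ⟨_, hx⟩
  obtain ⟨z₀, -⟩ := exists_rat (X := X ⊗ Y) hZi.nonempty hZc.isLocallyClosed
  haveI : Nonempty (Obs28.Rat X) := ⟨z₀ ≫ fst X Y⟩
  choose! r hr using fun S (hS : S ∈ F) => (hS : ∃ x : Obs28.Rat X, S = O x)
  have hmove : ∀ (b : Obs28.Rat B) (z : Obs28.Rat (X ⊗ Y)), ptx z ∈ Z →
      ptx (CartesianMonoidalCategory.lift (CartesianMonoidalCategory.lift b (z ≫ fst X Y) ≫ a.act) (z ≫ snd X Y)) ∈ Z := by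
    intro b z hz
    have h1 := hZs (ActPts.sec b) ⟨ptx z, hz, rfl⟩
    rw [← ptx_comp] at h1
    convert h1 using 2
    rw [← Category.assoc, comp_lift, Category.comp_id, ← Category.assoc z (toUnit (X ⊗ Y)) (ActPts.sec b),
      toUnit_unique (z ≫ toUnit (X ⊗ Y)) (toUnit _), ActPts.toUnit_sec]
    have e : CartesianMonoidalCategory.lift b z ≫ (α_ B X Y).inv =
        CartesianMonoidalCategory.lift (CartesianMonoidalCategory.lift b (z ≫ fst X Y)) (z ≫ snd X Y) := by
      apply CartesianMonoidalCategory.hom_ext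
      · apply CartesianMonoidalCategory.hom_ext <;> simp
      · simp
    rw [reassoc_of% e, lift_whiskerRight]
  let W : Set X.left → Set Y.left := fun S =>
    (CartesianMonoidalCategory.lift (Obs28.cst (r S)) (𝟙 Y)).left.base ⁻¹' Z
  have hW : ∀ S, IsClosed (W S) := fun S =>
    hZc.preimage (CartesianMonoidalCategory.lift (Obs28.cst (r S)) (𝟙 Y)).left.base.hom.continuous
  have hWmem : ∀ S (y : Obs28.Rat Y), ptx y ∈ W S ↔ ptx (CartesianMonoidalCategory.lift (r S) y) ∈ Z := fun S y => by
    show (CartesianMonoidalCategory.lift (Obs28.cst (r S)) (𝟙 Y)).left.base (ptx y) ∈ Z ↔ _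
    rw [← ptx_comp, comp_lift, comp_cst, cst_pt, Category.comp_id]
  let T : Set X.left → Set (X ⊗ Y).left := fun S =>
    (fst X Y).left.base ⁻¹' closure S ∩ (snd X Y).left.base ⁻¹' W S
  have hT : ∀ S, IsClosed (T S) := fun S =>
    (isClosed_closure.preimage (fst X Y).left.base.hom.continuous).inter
      ((hW S).preimage (snd X Y).left.base.hom.continuous)
  have hTZ : ∀ S ∈ F, T S ⊆ Z := fun S hS => by
    refine ActPts.subset_of_rat hZc (hT S).isLocallyClosed fun z hz => ?_
    have hw : ptx (z ≫ snd X Y) ∈ W S := hz.2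
    rw [hWmem] at hw
    let m : X ⟶ X ⊗ Y := CartesianMonoidalCategory.lift (𝟙 X) (Obs28.cst (z ≫ snd X Y))
    have hm : ∀ x : Obs28.Rat X, x ≫ m = CartesianMonoidalCategory.lift x (z ≫ snd X Y) := fun x => by
      simp only [m, comp_lift, comp_cst, cst_pt, Category.comp_id]
    have hsub : closure S ⊆ m.left.base ⁻¹' Z := by
      refine closure_minimal ?_ (hZc.preimage m.left.base.hom.continuous)
      rw [hr S hS]
      refine ActPts.range_subset _ (hZc.preimage m.left.base.hom.continuous) fun b => ?_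
      rw [Set.mem_preimage, ← ptx_comp, hm, horb]
      have := hmove b _ hw
      rwa [lift_fst, lift_snd] at this
    have h1 := hsub hz.1
    rw [Set.mem_preimage, show (fst X Y).left.base (ptx z) = ptx (z ≫ fst X Y) from rfl, ← ptx_comp, hm,
      lift_comp_fst_snd] at h1
    exact h1
  have hcov : Z ⊆ ⋃ S ∈ F, T S := by
    refine ActPts.subset_of_rat (hF.isClosed_biUnion fun S _ => hT S) hZc.isLocallyClosed fun z hz => ?_
    have hSF : O (z ≫ fst X Y) ∈ F := ⟨_, rfl⟩
    refine Set.mem_iUnion₂.mpr ⟨_, hSF, ?_, ?_⟩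
    · refine subset_closure ?_
      show ptx (z ≫ fst X Y) ∈ O (z ≫ fst X Y)
      refine ⟨ptx (1 : Obs28.Rat B), ?_⟩
      rw [← ptx_comp, horb, ActPts.act_one]
    · rw [Set.mem_preimage, ← ptx_comp, hWmem]
      have hmem : ptx (r (O (z ≫ fst X Y))) ∈ O (z ≫ fst X Y) := by
        have h0 : ptx (r (O (z ≫ fst X Y))) ∈ O (r (O (z ≫ fst X Y))) :=
          ⟨ptx (1 : Obs28.Rat B), by rw [← ptx_comp, horb, ActPts.act_one]⟩
        rwa [← hr _ hSF] at h0
      obtain ⟨x, hx⟩ := hmem
      obtain ⟨b, hb⟩ := exists_rat (X := B)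
        (Z := (a.orbitMap (ActPts.sec (z ≫ fst X Y))).left.base ⁻¹' {ptx (r (O (z ≫ fst X Y)))}) ⟨x, hx⟩
        ((ActPts.isClosed_ptx _).preimage (a.orbitMap _).left.base.hom.continuous).isLocallyClosed
      rw [Set.mem_preimage, Set.mem_singleton_iff, ← ptx_comp] at hb
      rw [← ActPts.rat_ext hb, horb]
      exact hmove b z hz
  obtain ⟨z, hz, hzT⟩ : ∃ S, S ∈ hF.toFinset.image T ∧ Z ⊆ S :=
    isIrreducible_iff_sUnion_isClosed.mp hZi (hF.toFinset.image T)
      (fun S hS => by obtain ⟨S', -, rfl⟩ := Finset.mem_image.mp hS; exact hT S')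
      (fun x hx => by
        obtain ⟨S, hS, hxS⟩ := Set.mem_iUnion₂.mp (hcov hx)
        exact Set.mem_sUnion.mpr ⟨T S, by simpa using ⟨S, hS, rfl⟩, hxS⟩)
  obtain ⟨S, hS', rfl⟩ := Finset.mem_image.mp hz
  have hS : S ∈ F := hF.mem_toFinset.mp hS'
  have heq : Z = T S := le_antisymm hzT (hTZ S hS)
  refine ⟨closure S, W S, isClosed_closure, ?_, hW S, ?_, fun b => ?_, heq⟩
  · refine IsIrreducible.closure ?_
    rw [hr S hS]
    show IsIrreducible (Set.range _)
    rw [← Set.image_univ]
    exact (IrreducibleSpace.isIrreducible_univ _).image _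
      (a.orbitMap _).left.base.hom.continuous.continuousOn
  · have h1 : W S = closure ((snd X Y).left.base '' Z) := by
      refine le_antisymm (ActPts.subset_of_rat isClosed_closure (hW S).isLocallyClosed fun y hy => ?_)
        (closure_minimal ?_ (hW S))
      · refine subset_closure ⟨ptx (CartesianMonoidalCategory.lift (r S) y), (hWmem S y).mp hy, ?_⟩
        rw [← ptx_comp, lift_snd]
      · rintro _ ⟨w, hw, rfl⟩
        exact ((heq ▸ hw : w ∈ T S)).2
    rw [h1]
    exact (hZi.image _ (snd X Y).left.base.hom.continuous.continuousOn).closure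
  · have hc := (CartesianMonoidalCategory.lift (CartesianMonoidalCategory.toUnit X ≫ b) (𝟙 X) ≫ a.act).left.base.hom.continuous
    refine (Set.image_subset_iff).mpr (closure_minimal ?_ (isClosed_closure.preimage hc))
    rw [hr S hS]
    refine ActPts.range_subset _ (isClosed_closure.preimage hc) fun c => subset_closure ?_
    refine ⟨ptx ((CartesianMonoidalCategory.toUnit _ ≫ b) * c), ?_⟩
    rw [← ptx_comp, ← ptx_comp, horb, horb, ActPts.act_mul]
    congr 1
    rw [← Category.assoc _ _ a.act, comp_lift, Category.comp_id, ← Category.assoc,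
      toUnit_unique (_ ≫ CartesianMonoidalCategory.toUnit X) (CartesianMonoidalCategory.toUnit _)]

end Groth.Agent.S15240
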