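import Groth.Statements.S15252
import Groth.Agent.LefGeo.Plane
import Groth.Agent.S14372
import Mathlib.Analysis.Complex.Polynomial.Basic

set_option autoImplicit false
open Fano

namespace Groth.Agent.S15252

/-- Let X be a smooth cubic hypersurface in projective 4-space over ℂ and let L₁, L₂ be two distinct
lines on X which meet. Then there is a finite set G of points of L₁ such that every line on X
meeting both L₁ and L₂ passes through a point of G. Here X is given by a cubic form f in five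
variables satisfying the Jacobian smoothness condition at every nonzero zero, a line on X is a
2-dimensional subspace of ℂ^5 on which f vanishes, two lines meet when the subspaces intersect
non-trivially, and a point of L₁ is a 1-dimensional subspace of it. (The published statement also
covers two disjoint lines; this row assumes that L₁ and L₂ meet.) -/
theorem result
    (f : MvPolynomial (Fin 5) ℂ) (hf : f.IsHomogeneous 3)
    (hsm : ∀ u : Fin 5 → ℂ, u ≠ 0 → MvPolynomial.eval u f = 0 →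
      ∃ i : Fin 5, MvPolynomial.eval u (MvPolynomial.pderiv i f) ≠ 0)
    (L₁ L₂ : Submodule ℂ (Fin 5 → ℂ)) (h₁ : Module.finrank ℂ ↥L₁ = 2) (h₂ : Module.finrank ℂ ↥L₂ = 2)
    (hf₁ : ∀ u ∈ L₁, MvPolynomial.eval u f = 0) (hf₂ : ∀ u ∈ L₂, MvPolynomial.eval u f = 0)
    (hne : L₁ ≠ L₂) (hmeet : L₁ ⊓ L₂ ≠ ⊥) :
    ∃ G : Set (Submodule ℂ (Fin 5 → ℂ)), G.Finite ∧ (∀ g ∈ G, Module.finrank ℂ ↥g = 1 ∧ g ≤ L₁) ∧
      ∀ L : Submodule ℂ (Fin 5 → ℂ), Module.finrank ℂ ↥L = 2 → (∀ u ∈ L, MvPolynomial.eval u f = 0) →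
        L ⊓ L₁ ≠ ⊥ → L ⊓ L₂ ≠ ⊥ → ∃ g ∈ G, g ≤ L := by
  classical
  open LefGeo in open MvPolynomial in
  have hsupinf := Submodule.finrank_sup_add_finrank_inf_eq L₁ L₂
  have hP0 : Module.finrank ℂ ↥(L₁ ⊓ L₂) = 1 := by
    have hle : Module.finrank ℂ ↥(L₁ ⊓ L₂) ≤ 2 := h₁ ▸ Submodule.finrank_mono inf_le_left
    have hne0 : Module.finrank ℂ ↥(L₁ ⊓ L₂) ≠ 0 := fun h => hmeet (Submodule.finrank_eq_zero.1 h)
    have hne2 : Module.finrank ℂ ↥(L₁ ⊓ L₂) ≠ 2 := fun h => hne <|
      (Submodule.eq_of_le_of_finrank_eq (inf_le_left : L₁ ⊓ L₂ ≤ L₁) (by omega)).symm.trans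
        (Submodule.eq_of_le_of_finrank_eq (inf_le_right : L₁ ⊓ L₂ ≤ L₂) (by omega))
    omega
  have hsup3 : Module.finrank ℂ ↥(L₁ ⊔ L₂) = 3 := by linarith
  obtain ⟨p, hp, hp0⟩ := Submodule.exists_mem_ne_zero_of_ne_bot hmeet
  have hspanP : L₁ ⊓ L₂ = Submodule.span ℂ {p} :=
    (Submodule.eq_of_le_of_finrank_eq ((Submodule.span_singleton_le_iff_mem _ _).2 hp)
      (by rw [finrank_span_singleton hp0, hP0])).symm
  have hline : ∀ {L : Submodule ℂ (Fin 5 → ℂ)}, p ∈ L → Module.finrank ℂ ↥L = 2 →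
      ∃ a, L = Submodule.span ℂ (Set.range ![p, a]) ∧ LinearIndependent ℂ ![p, a] := by
    intro L hpL hL
    obtain ⟨a, haL, ha⟩ : ∃ a ∈ L, a ∉ Submodule.span ℂ {p} := by
      by_contra hc
      push Not at hc
      have := Submodule.finrank_mono (show L ≤ Submodule.span ℂ {p} from hc)
      rw [hL, finrank_span_singleton hp0] at this
      omega
    have hli : LinearIndependent ℂ ![p, a] := by
      rw [LinearIndependent.pair_iff' hp0]
      intro c hc
      exact ha (hc ▸ Submodule.smul_mem _ c (Submodule.mem_span_singleton_self p))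
    refine ⟨a, (Submodule.eq_of_le_of_finrank_eq (Submodule.span_le.2 ?_) ?_).symm, hli⟩
    · rintro _ ⟨i, rfl⟩; fin_cases i
      · exact hpL
      · exact haL
    · rw [finrank_span_eq_card hli, hL, Fintype.card_fin]
  obtain ⟨a, hL1, -⟩ := hline hp.1 h₁
  obtain ⟨b, hL2, -⟩ := hline hp.2 h₂
  set u : Fin 3 → Fin (4 + 1) → ℂ := ![p, a, b] with hu
  have hL1' : ∀ s : Fin 3 → ℂ, s 2 = 0 → ∑ i, s i • u i ∈ L₁ := fun s hs => by
    rw [hL1, Submodule.mem_span_range_iff_exists_fun]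
    exact ⟨![s 0, s 1], by simp [u, Fin.sum_univ_three, hs]⟩
  have hL2' : ∀ s : Fin 3 → ℂ, s 1 = 0 → ∑ i, s i • u i ∈ L₂ := fun s hs => by
    rw [hL2, Submodule.mem_span_range_iff_exists_fun]
    exact ⟨![s 0, s 2], by simp [u, Fin.sum_univ_three, hs]⟩
  have hsup : L₁ ⊔ L₂ = Submodule.span ℂ (Set.range u) := by
    refine le_antisymm (sup_le ?_ ?_) (Submodule.span_le.2 ?_)
    · rw [hL1]; refine Submodule.span_le.2 ?_
      rintro _ ⟨i, rfl⟩; fin_cases i
      · exact Submodule.subset_span ⟨0, rfl⟩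
      · exact Submodule.subset_span ⟨1, rfl⟩
    · rw [hL2]; refine Submodule.span_le.2 ?_
      rintro _ ⟨i, rfl⟩; fin_cases i
      · exact Submodule.subset_span ⟨0, rfl⟩
      · exact Submodule.subset_span ⟨2, rfl⟩
    · rintro _ ⟨i, rfl⟩; fin_cases i
      · exact Submodule.mem_sup_left hp.1
      · exact Submodule.mem_sup_left (by rw [hL1]; exact Submodule.subset_span ⟨1, rfl⟩)
      · exact Submodule.mem_sup_right (by rw [hL2]; exact Submodule.subset_span ⟨1, rfl⟩)
  obtain ⟨l, hl⟩ := LefGeo.cubic_two_lines (LefGeo.restrict_isHomogeneous u hf)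
    (fun s hs => by rw [LefGeo.eval_restrict]; exact hf₂ _ (hL2' s hs))
    (fun s hs => by rw [LefGeo.eval_restrict]; exact hf₁ _ (hL1' s hs))
  -- a point of the line cut out by `l` on `L₁`
  obtain ⟨s₀, hs₀, hs₀0, hs₀l⟩ := LefGeo.exists_zero_on_plane l
    (Submodule.span ℂ (Set.range ![(Pi.single 0 1 : Fin 3 → ℂ), Pi.single 1 1])) (by
      rw [finrank_span_eq_card]
      · simp
      · rw [Fintype.linearIndependent_iff]
        intro g hg i
        fin_cases i
        · simpa [Fin.sum_univ_two] using congrFun hg 0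
        · simpa [Fin.sum_univ_two] using congrFun hg 1)
  have hs₀2 : s₀ 2 = 0 := by
    obtain ⟨g, rfl⟩ := (Submodule.mem_span_range_iff_exists_fun ℂ).1 hs₀
    simp [Fin.sum_univ_two]
  set q := ∑ i, s₀ i • u i
  have hli : LinearIndependent ℂ u := by
    rw [linearIndependent_iff_card_eq_finrank_span, Set.finrank, ← hsup, Fintype.card_fin]
    exact hsup3.symm
  have hq0 : q ≠ 0 := fun h => hs₀0 (funext fun i => Fintype.linearIndependent_iff.1 hli s₀ h i)
  refine ⟨{L₁ ⊓ L₂, Submodule.span ℂ {q}}, Set.toFinite _, ?_, fun L hL hLf hL₁ hL₂ => ?_⟩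
  · intro g hg
    rcases hg with rfl | rfl
    · exact ⟨hP0, inf_le_left⟩
    · exact ⟨finrank_span_singleton hq0, (Submodule.span_singleton_le_iff_mem _ _).2 (hL1' s₀ hs₀2)⟩
  by_cases hpL : p ∈ L
  · exact ⟨_, Or.inl rfl, by rw [hspanP, Submodule.span_singleton_le_iff_mem]; exact hpL⟩
  obtain ⟨x₁, hx₁, hx₁0⟩ := Submodule.exists_mem_ne_zero_of_ne_bot hL₁
  obtain ⟨x₂, hx₂, hx₂0⟩ := Submodule.exists_mem_ne_zero_of_ne_bot hL₂
  have hind : LinearIndependent ℂ ![x₁, x₂] := by
    rw [LinearIndependent.pair_iff' hx₁0]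
    intro c hc
    have hmem : x₂ ∈ L₁ ⊓ L₂ := ⟨hc ▸ L₁.smul_mem c hx₁.2, hx₂.2⟩
    rw [hspanP, Submodule.mem_span_singleton] at hmem
    obtain ⟨e, he⟩ := hmem
    refine hpL ?_
    have he0 : e ≠ 0 := fun h => hx₂0 (by rw [← he, h, zero_smul])
    rw [show p = e⁻¹ • x₂ by rw [← he, smul_smul, inv_mul_cancel₀ he0, one_smul]]
    exact L.smul_mem _ hx₂.1
  have hLspan : L = Submodule.span ℂ (Set.range ![x₁, x₂]) := by
    refine (Submodule.eq_of_le_of_finrank_eq (Submodule.span_le.2 ?_) ?_).symm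
    · rintro _ ⟨i, rfl⟩; fin_cases i
      · exact hx₁.1
      · exact hx₂.1
    · rw [finrank_span_eq_card hind, hL, Fintype.card_fin]
  have hLle : L ≤ Submodule.span ℂ (Set.range u) := by
    rw [hLspan, ← hsup]
    refine Submodule.span_le.2 ?_
    rintro _ ⟨i, rfl⟩; fin_cases i
    · exact Submodule.mem_sup_left hx₁.2
    · exact Submodule.mem_sup_right hx₂.2
  obtain ⟨t₁, ht₁⟩ := (Submodule.mem_span_range_iff_exists_fun ℂ).1 (hLle hx₁.1)
  obtain ⟨t₂, ht₂⟩ := (Submodule.mem_span_range_iff_exists_fun ℂ).1 (hLle hx₂.1)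
  let T := Submodule.span ℂ (Set.range ![t₁, t₂])
  have hTL : ∀ t ∈ T, ∑ i, t i • u i ∈ L := by
    intro t ht
    induction ht using Submodule.span_induction with
    | mem x hx =>
      obtain ⟨i, rfl⟩ := hx; fin_cases i
      · exact ht₁.symm ▸ hx₁.1
      · exact ht₂.symm ▸ hx₂.1
    | zero => simp
    | add x y _ _ hx hy => simpa [add_smul, Finset.sum_add_distrib] using L.add_mem hx hy
    | smul c x _ hx => simpa [mul_smul, ← Finset.smul_sum] using L.smul_mem c hx
  have hTli : LinearIndependent ℂ ![t₁, t₂] := by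
    refine LinearIndependent.of_comp (Fintype.linearCombination ℂ u) ?_
    convert hind using 1
    funext i; fin_cases i <;> simp [Fintype.linearCombination_apply, ht₁, ht₂]
  have hTd : Module.finrank ℂ ↥T = 2 := by simp [T, finrank_span_eq_card hTli]
  have hcases : ∀ (w : Fin 3 → ℂ), (∀ t ∈ T, MvPolynomial.eval t (LefGeo.linForm w) = 0) → w ≠ 0 →
      ∀ t : Fin 3 → ℂ, MvPolynomial.eval t (LefGeo.linForm w) = 0 → t ∈ T := by
    intro w hw hw0 t ht
    let φ : (Fin 3 → ℂ) →ₗ[ℂ] ℂ := Fintype.linearCombination ℂ w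
    have hφ : ∀ t, φ t = MvPolynomial.eval t (LefGeo.linForm w) := fun t => by
      simp [φ, Fintype.linearCombination_apply, LefGeo.eval_linForm, dotProduct, mul_comm]
    have hle : T ≤ LinearMap.ker φ := fun t ht => by rw [LinearMap.mem_ker, hφ]; exact hw t ht
    have h := LinearMap.finrank_range_add_finrank_ker φ
    have hr : Module.finrank ℂ ↥(LinearMap.range φ) ≠ 0 := fun h0 => by
      obtain ⟨i, hi⟩ := Function.ne_iff.1 hw0
      have : φ (Pi.single i 1) ∈ LinearMap.range φ := ⟨_, rfl⟩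
      rw [Submodule.finrank_eq_zero.1 h0, Submodule.mem_bot] at this
      exact hi (by simpa [φ, Fintype.linearCombination_apply, Pi.single_apply] using this)
    have hk := Submodule.finrank_mono hle
    rw [Module.finrank_fin_fun] at h
    rw [Submodule.eq_of_le_of_finrank_eq hle (by omega)]
    rw [LinearMap.mem_ker, hφ]; exact ht
  have hlin : ∀ j : Fin 3, LefGeo.linForm (Pi.single j (1 : ℂ)) = MvPolynomial.X j := fun j => by
    simp [LefGeo.linForm, Pi.single_apply, apply_ite MvPolynomial.C]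
  have hvan := LefGeo.vanish_or_vanish_of_mul ![t₁, t₂] (MvPolynomial.X 1) (MvPolynomial.X 2 * LefGeo.linForm l)
    (fun t ht => by rw [← hl, LefGeo.eval_restrict]; exact hLf _ (hTL t ht))
  have hp' : ∀ t : Fin 3 → ℂ, t = Pi.single 0 1 → ∑ i, t i • u i = p := fun t ht => by
    simp [ht, u, Fin.sum_univ_three]
  rcases hvan with h | h
  · refine absurd ?_ hpL
    rw [← hp' _ rfl]
    refine hTL _ (hcases (Pi.single 1 1) (by rw [hlin]; exact h) (by simp) _ (by simp [hlin]))
  rcases LefGeo.vanish_or_vanish_of_mul ![t₁, t₂] _ _ h with h | h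
  · refine absurd ?_ hpL
    rw [← hp' _ rfl]
    refine hTL _ (hcases (Pi.single 2 1) (by rw [hlin]; exact h) (by simp) _ (by simp [hlin]))
  refine ⟨_, Or.inr rfl, (Submodule.span_singleton_le_iff_mem _ _).2 (hTL s₀ ?_)⟩
  refine hcases l h (fun hl0 => ?_) s₀ hs₀l
  have hzero : LefGeo.restrict u f = 0 := by rw [hl, hl0]; simp [LefGeo.linForm]
  have := Groth.Agent.S14372.result ℂ 4 3 (by norm_num) f hf (L₁ ⊔ L₂)
    (fun v hv => (LefGeo.restrict_eq_zero_iff u f).1 hzero v (hsup ▸ hv))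
    (fun v hv hv0 => hsm v hv0 ((LefGeo.restrict_eq_zero_iff u f).1 hzero v (hsup ▸ hv)))
  have h3 : 2 * 3 ≤ 4 + 1 := hsup3 ▸ this
  omega

end Groth.Agent.S15252
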