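import Mathlib
import Groth.Agent.ValCompl.Core
import Groth.Statements.S15284
-- import your own Groth.Agent.* helpers here

set_option autoImplicit false
set_option linter.style.haveILetI false
universe u
open CAlg

namespace Groth.Agent.S15284

open UniformSpace

theorem dense_integer {K Γ₀ : Type u} [Field K] [LinearOrderedCommGroupWithZero Γ₀] [hK : Valued K Γ₀]
    (x : Completion K) : ∃ k : K, Valued.v (x - (k : Completion K)) ≤ 1 := by
  have ho : IsOpen {y : Completion K | Valued.v (x - y) ≤ 1} :=
    (Valued.isOpen_integer (Completion K)).preimage (continuous_const.sub continuous_id)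
  exact Completion.denseRange_coe.exists_mem_open ho ⟨x, by simp⟩

theorem map_integer {K L Γ₀ Γ₁ : Type u} [Field K] [Field L] [Algebra K L]
    [LinearOrderedCommGroupWithZero Γ₀] [LinearOrderedCommGroupWithZero Γ₁]
    [hK : Valued K Γ₀] [hL : Valued L Γ₁] [hK.v.HasExtension hL.v] (hc : Continuous (algebraMap K L))
    {x : Completion K} (hx : Valued.v x ≤ 1) :
    Valued.v (Completion.mapRingHom (algebraMap K L) hc x) ≤ 1 := by
  have hcl : IsClosed ((Completion.mapRingHom (algebraMap K L) hc) ⁻¹' {y : Completion L | Valued.v y ≤ 1}) :=
    (Valued.isClosed_integer (Completion L)).preimage Completion.continuous_map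
  have hop : IsOpen {y : Completion K | Valued.v y ≤ 1} := Valued.isOpen_integer (Completion K)
  have hd : {y : Completion K | Valued.v y ≤ 1} ⊆
      closure ({y : Completion K | Valued.v y ≤ 1} ∩ Set.range ((↑) : K → Completion K)) :=
    Completion.denseRange_coe.open_subset_closure_inter hop
  refine (hcl.closure_subset_iff.mpr ?_) (hd hx)
  rintro _ ⟨hy, k, rfl⟩
  show Valued.v _ ≤ 1
  rw [Completion.mapRingHom_coe hc,
    Valued.valuedCompletion_apply, Valuation.HasExtension.val_map_le_one_iff hK.v hL.v]
  rwa [Set.mem_setOf_eq, Valued.valuedCompletion_apply] at hy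

theorem exists_mul_pow_le {K Γ₀ : Type u} [Field K] [LinearOrderedCommGroupWithZero Γ₀] [hK : Valued K Γ₀]
    [hK.v.RankOne] : ∃ w : K, w ≠ 0 ∧ Valued.v w < 1 ∧
      ∀ x : Completion K, ∃ n : ℕ, Valued.v (x * (w : Completion K) ^ n) ≤ 1 := by
  obtain ⟨w, hw0, hw⟩ := Valuation.RankOne.exists_val_lt (v := hK.v) (one_ne_zero (α := NNReal))
  have hw1 : Valued.v w < 1 := by
    rw [← Valuation.restrict_lt_one_iff, ← (Valuation.RankOne.strictMono hK.v).lt_iff_lt, map_one]
    exact hw
  refine ⟨w, hw0, hw1, fun x => ?_⟩
  obtain ⟨r, hr⟩ := Valued.exists_coe_eq_v x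
  have hr' : Valued.v x = Valued.v r := hr
  have key : ∃ n : ℕ, Valued.v (r * w ^ n) ≤ 1 := by
    set c := Valuation.RankOne.hom hK.v (hK.v.restrict r) with hc
    rcases eq_or_ne c 0 with h0 | h0
    · exact ⟨0, by
        rw [← Valuation.restrict_le_one_iff, ← (Valuation.RankOne.strictMono hK.v).le_iff_le, map_one,
          pow_zero, mul_one, ← hc, h0]
        exact zero_le_one⟩
    obtain ⟨n, hn⟩ := exists_pow_lt_of_lt_one (inv_pos.mpr (pos_iff_ne_zero.mpr h0)) hw
    refine ⟨n, ?_⟩
    rw [← Valuation.restrict_le_one_iff, ← (Valuation.RankOne.strictMono hK.v).le_iff_le, map_one, map_mul,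
      map_mul, map_pow, map_pow, ← hc]
    have h1 := mul_le_mul_of_nonneg_left hn.le (zero_le (a := c))
    rwa [mul_inv_cancel₀ h0] at h1
  obtain ⟨n, hn⟩ := key
  refine ⟨n, ?_⟩
  rw [map_mul, map_pow, hr', Valued.valuedCompletion_apply, ← map_pow, ← map_mul]
  exact hn

/-- Let L/K be a finite extension of valued fields of height one — rank-one valuations v_K and v_L, v_L
extending v_K up to equivalence, each field with its valuation topology and K → L continuous — with
valuation rings K° ⊆ L°; let K̂, L̂ be the completions with the extended valuations and K̂°, L̂°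
their valuation rings. Then K° → L° is étale if and only if L/K is separable and the homomorphism K̂
→ L̂ induced on completions restricts to an étale homomorphism K̂° → L̂°. (For finite extensions of
valued fields of finite height, 'unramified' is the same as the map of valuation rings being étale;
the published statement says 'unramified' on both sides.) -/
theorem result
    {K L Γ₀ Γ₁ : Type u} [Field K] [Field L] [Algebra K L] [FiniteDimensional K L]
    [LinearOrderedCommGroupWithZero Γ₀] [LinearOrderedCommGroupWithZero Γ₁]
    [hK : Valued K Γ₀] [hL : Valued L Γ₁] [hK.v.RankOne] [hL.v.RankOne] [hK.v.HasExtension hL.v]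
    (hc : Continuous (algebraMap K L)) :
    Algebra.Etale hK.v.valuationSubring hL.v.valuationSubring ↔
      (Algebra.IsSeparable K L ∧
        ∃ ψ : (Valued.v : Valuation (UniformSpace.Completion K) Γ₀).valuationSubring →+*
            (Valued.v : Valuation (UniformSpace.Completion L) Γ₁).valuationSubring,
          (∀ x, (ψ x : UniformSpace.Completion L) =
              UniformSpace.Completion.mapRingHom (algebraMap K L) hc (x : UniformSpace.Completion K)) ∧
          ψ.Etale) := by
  classical
  let A := hK.v.valuationSubring
  let B := hL.v.valuationSubring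
  let A' := (Valued.v : Valuation (Completion K) Γ₀).valuationSubring
  let B' := (Valued.v : Valuation (Completion L) Γ₁).valuationSubring
  let φ := Completion.mapRingHom (algebraMap K L) hc
  letI algKL' : Algebra (Completion K) (Completion L) := φ.toAlgebra
  letI algKLc : Algebra K (Completion L) := ((algebraMap L (Completion L)).comp (algebraMap K L)).toAlgebra
  haveI := IsScalarTower.of_algebraMap_eq (R := K) (S := L) (A := Completion L) fun _ => rfl
  haveI := IsScalarTower.of_algebraMap_eq (R := K) (S := Completion K) (A := Completion L) fun k =>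
    (Completion.mapRingHom_coe hc k).symm
  let ι : A →+* A' :=
    ((algebraMap K (Completion K)).comp (algebraMap A K)).codRestrict A'.toSubring fun a => by
      show Valued.v (((a : K)) : Completion K) ≤ 1
      rw [Valued.valuedCompletion_apply]
      exact a.2
  letI : Algebra A A' := ι.toAlgebra
  letI : Algebra A (Completion K) := ((algebraMap K (Completion K)).comp (algebraMap A K)).toAlgebra
  haveI := IsScalarTower.of_algebraMap_eq (R := A) (S := K) (A := Completion K) fun _ => rfl
  haveI := IsScalarTower.of_algebraMap_eq (R := A) (S := A') (A := Completion K) fun _ => rfl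
  let ψ₀ : A' →+* B' :=
    (φ.comp (algebraMap A' (Completion K))).codRestrict B'.toSubring fun a => map_integer hc a.2
  letI : Algebra A' B' := ψ₀.toAlgebra
  letI : Algebra A' (Completion L) := (φ.comp (algebraMap A' (Completion K))).toAlgebra
  haveI := IsScalarTower.of_algebraMap_eq (R := A') (S := Completion K) (A := Completion L) fun _ => rfl
  haveI := IsScalarTower.of_algebraMap_eq (R := A') (S := B') (A := Completion L) fun _ => rfl
  have hA' : Function.Injective (algebraMap A' (Completion K)) := Subtype.coe_injective
  have hB' : Function.Injective (algebraMap B' (Completion L)) := Subtype.coe_injective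
  have hBL : ∀ x : L, (∃ b : B', algebraMap B' (Completion L) b = algebraMap L (Completion L) x) ↔
      ∃ b : B, algebraMap B L b = x := by
    intro x
    constructor
    · rintro ⟨⟨b, hb⟩, hbx⟩
      refine ⟨⟨x, ?_⟩, rfl⟩
      have hb' : Valued.v b ≤ 1 := hb
      change b = (x : Completion L) at hbx
      rw [hbx, Valued.valuedCompletion_apply] at hb'
      exact hb'
    · rintro ⟨b, rfl⟩
      refine ⟨⟨((b : L) : Completion L), ?_⟩, rfl⟩
      show Valued.v (((b : L)) : Completion L) ≤ 1
      rw [Valued.valuedCompletion_apply]
      exact b.2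
  have hdense : ∀ x : Completion K, ∃ (k : K) (a : A'),
      algebraMap A' (Completion K) a = x - algebraMap K (Completion K) k := fun x => by
    obtain ⟨k, hk⟩ := dense_integer x
    exact ⟨k, ⟨x - (k : Completion K), hk⟩, rfl⟩
  have hloc : ∀ a : A, IsUnit (algebraMap A A' a) → IsUnit a := by
    intro a ha
    obtain ⟨c, hc'⟩ := ha.exists_right_inv
    have h1 : Valued.v (((a : K)) : Completion K) * Valued.v (c : Completion K) = 1 := by
      rw [← map_mul]
      exact (congrArg Valued.v (congrArg Subtype.val hc')).trans (map_one _)
    rw [Valued.valuedCompletion_apply] at h1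
    refine (Valuation.Integers.isUnit_iff_valuation_eq_one (Valuation.integer.integers hK.v)).mpr ?_
    refine le_antisymm a.2 ?_
    calc (1 : Γ₀) = Valued.v (a : K) * Valued.v (c : Completion K) := h1.symm
      _ ≤ Valued.v (a : K) * 1 := mul_le_mul_right c.2 _
      _ = _ := mul_one _
  have hsurj : Function.Surjective (Groth.Agent.ValCompl.proj (K := K) (L := L) (K' := Completion K)
      (L' := Completion L)) := by
    letI : NormedField K := Valued.toNormedField K Γ₀
    letI : NontriviallyNormedField (Completion K) := NontriviallyNormedField.ofNormNeOne (by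
      obtain ⟨w, hw0, hw, -⟩ := exists_mul_pow_le (K := K)
      refine ⟨(w : Completion K), ?_, ?_⟩
      · exact fun h => hw0 ((algebraMap K (Completion K)).injective (h.trans (map_zero _).symm))
      · rw [Completion.norm_coe]
        exact ne_of_lt (Valued.toNormedField.norm_lt_one_iff.mpr hw))
    haveI : ContinuousSMul (Completion K) (Completion L) :=
      continuousSMul_of_algebraMap _ _ Completion.continuous_map
    let R := LinearMap.range (Groth.Agent.ValCompl.proj (K := K) (L := L) (K' := Completion K)
      (L' := Completion L)).toLinearMap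
    have hR : IsClosed (R : Set (Completion L)) := Submodule.closed_of_finiteDimensional R
    intro y
    have hsub : Set.range ((↑) : L → Completion L) ⊆ (R : Set (Completion L)) := by
      rintro _ ⟨l, rfl⟩
      exact ⟨1 ⊗ₜ[K] l, by
        show Groth.Agent.ValCompl.proj (1 ⊗ₜ[K] l) = _
        rw [Groth.Agent.ValCompl.proj_tmul, map_one, one_mul]
        rfl⟩
    exact (hR.closure_subset_iff.mpr hsub) (Completion.denseRange_coe.closure_eq.ge trivial)
  obtain ⟨w, hw0, hw1, hwn⟩ := exists_mul_pow_le (K := K)
  let ϖ : A' := ⟨(w : Completion K), by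
    show Valued.v (w : Completion K) ≤ 1
    rw [Valued.valuedCompletion_apply]
    exact hw1.le⟩
  have hϖ0 : algebraMap A' (Completion K) ϖ ≠ 0 := fun h =>
    hw0 ((algebraMap K (Completion K)).injective (h.trans (map_zero _).symm))
  have hϖ : ∀ x : Completion K, ∃ (n : ℕ) (a : A'),
      algebraMap A' (Completion K) a = x * algebraMap A' (Completion K) ϖ ^ n := fun x => by
    obtain ⟨n, hn⟩ := hwn x
    exact ⟨n, ⟨_, hn⟩, rfl⟩
  have main : ∀ [Algebra.IsSeparable K L], Algebra.Etale A B ↔ Algebra.Etale A' B' := fun {_} =>
    Groth.Agent.ValCompl.etale_iff (K := K) (L := L) (K' := Completion K) (L' := Completion L)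
      hA' hB' hBL hdense hsurj ϖ hϖ0 hϖ hloc
  constructor
  · intro h
    haveI : Algebra.Etale A B := h
    haveI : Algebra.IsSeparable K L := by
      haveI : Algebra.FormallyUnramified B L :=
        Algebra.FormallyUnramified.of_isLocalization (nonZeroDivisors B)
      haveI : Algebra.FormallyUnramified A L := Algebra.FormallyUnramified.comp A B L
      haveI : Algebra.FormallyUnramified K L := Algebra.FormallyUnramified.of_restrictScalars A K L
      exact Algebra.FormallyUnramified.isSeparable K L
    haveI : Algebra.Etale A' B' := main.mp h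
    exact ⟨inferInstance, ψ₀, fun x => rfl, RingHom.etale_algebraMap.mpr inferInstance⟩
  · rintro ⟨hs, ψ, hψ, hψe⟩
    haveI := hs
    have : ψ = ψ₀ := RingHom.ext fun x => Subtype.ext (hψ x)
    exact main.mpr (RingHom.etale_algebraMap.mp (show ψ₀.Etale from this ▸ hψe))

end Groth.Agent.S15284
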