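import Groth.Statements.S15330
import Groth.Agent.BunLib68.Higgs
-- import your own Groth.Agent.* helpers here

set_option autoImplicit false
open CategoryTheory AlgebraicGeometry CategoryTheory.Limits
open VBCurve

namespace Groth.Agent.S15330

set_option linter.style.haveILetI false
set_option linter.unusedVariables false
set_option backward.isDefEq.respectTransparency false
set_option backward.isDefEq.respectTransparency.types false
open Groth.Agent.CurveBundle Groth.Agent.CurveSlope Groth.Agent.CurveStable Groth.Agent.CurveHiggs Groth.Agent.BunLib68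

/-- Let X be a smooth proper integral curve over the complex numbers, L an invertible module on X, and
(E, φ_E), (F, φ_F) two L-valued Higgs bundles on X of the same rank r ≥ 1 and the same degree d
(degree = χ − rank · χ(O)), each semistable: deg G · r ≤ d · s for every finite locally free
submodule G of rank s ≥ 1 to which the Higgs field restricts. Let E_0 ⊂ E_1 ⊂ … ⊂ E_n = E with E_0 =
0 and F = F_0 ⊃ F_1 ⊃ … ⊃ F_n = 0 be chains of finite locally free submodules to which the Higgs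
fields restrict, of ranks with rk E_i + rk F_i = r, which are opposite: E_{i+1}/E_i ≅ F_i/F_{i+1} as
O-modules for i < n. Then every E_i of positive rank and every F_i of positive rank has slope d/r,
that is deg · r = d · rank, and is semistable for its restricted Higgs field; and each graded piece
E_{i+1}/E_i of positive rank is finite locally free of rank rk E_{i+1} − rk E_i, of slope d/r, and
semistable for every Higgs field on it compatible with that of E_{i+1} along the projection. (The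
published statement indexes the second chain so that F_i/F_{i+1} matches E_i/E_{i−1} and takes the
isomorphisms of graded pieces as Higgs bundles; here they are assumed as O-modules only, together
with the rank bookkeeping rk E_i + rk F_i = r that they imply.) -/
theorem result
    (X : Scheme.{0}) [X.Over (Spec (CommRingCat.of ℂ))] [IsIntegral X]
    [IsProper (X ↘ Spec (CommRingCat.of ℂ))] [Smooth (X ↘ Spec (CommRingCat.of ℂ))]
    (hdim : topologicalKrullDim X = 1)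
    (L : X.Modules) (hL : PicF.IsInvertible L) (r : ℕ) (hr : 0 < r) (d : ℤ)
    (E : X.Modules) (hE : FlatMod.IsFinLocFreeOfRank r E) (φE : E ⟶ CohB1.tensorMod E L)
    (hEd : Curv2.deg ℂ X E r = d)
    (hEss : (∀ (G : X.Modules) (s : ℕ) (j : G ⟶ E) (χ : G ⟶ CohB1.tensorMod G L), Mono j → 0 < s →
        FlatMod.IsFinLocFreeOfRank s G →
        χ ≫ (CohB1.sheafifyMod X).map (MonoidalCategoryStruct.whiskerRight (C := CohB1.PMod X) j.val (CohB1.toPMod L)) = j ≫ φE →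
        Curv2.deg ℂ X G s * (r : ℤ) ≤ Curv2.deg ℂ X E r * (s : ℤ)))
    (F : X.Modules) (hF : FlatMod.IsFinLocFreeOfRank r F) (φF : F ⟶ CohB1.tensorMod F L)
    (hFd : Curv2.deg ℂ X F r = d)
    (hFss : (∀ (G : X.Modules) (s : ℕ) (j : G ⟶ F) (χ : G ⟶ CohB1.tensorMod G L), Mono j → 0 < s →
        FlatMod.IsFinLocFreeOfRank s G →
        χ ≫ (CohB1.sheafifyMod X).map (MonoidalCategoryStruct.whiskerRight (C := CohB1.PMod X) j.val (CohB1.toPMod L)) = j ≫ φF →
        Curv2.deg ℂ X G s * (r : ℤ) ≤ Curv2.deg ℂ X F r * (s : ℤ)))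
    (n : ℕ)
    (Es : ℕ → X.Modules) (rE : ℕ → ℕ) (hEs : ∀ i, FlatMod.IsFinLocFreeOfRank (rE i) (Es i))
    (ιE : ∀ i, Es i ⟶ E) (hιE : ∀ i, Mono (ιE i))
    (ψE : ∀ i, Es i ⟶ CohB1.tensorMod (Es i) L)
    (hψE : ∀ i, ψE i ≫ (CohB1.sheafifyMod X).map (MonoidalCategoryStruct.whiskerRight (C := CohB1.PMod X) (ιE i).val (CohB1.toPMod L)) = ιE i ≫ φE)
    (a : ∀ i, Es i ⟶ Es (i + 1)) (ha : ∀ i, a i ≫ ιE (i + 1) = ιE i)
    (hE0 : IsZero (Es 0)) (hEn : IsIso (ιE n))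
    (Fs : ℕ → X.Modules) (rF : ℕ → ℕ) (hFs : ∀ i, FlatMod.IsFinLocFreeOfRank (rF i) (Fs i))
    (ιF : ∀ i, Fs i ⟶ F) (hιF : ∀ i, Mono (ιF i))
    (ψF : ∀ i, Fs i ⟶ CohB1.tensorMod (Fs i) L)
    (hψF : ∀ i, ψF i ≫ (CohB1.sheafifyMod X).map (MonoidalCategoryStruct.whiskerRight (C := CohB1.PMod X) (ιF i).val (CohB1.toPMod L)) = ιF i ≫ φF)
    (b : ∀ i, Fs (i + 1) ⟶ Fs i) (hb : ∀ i, b i ≫ ιF i = ιF (i + 1))
    (hF0 : IsIso (ιF 0)) (hFn : IsZero (Fs n))
    (hrk : ∀ i, i ≤ n → rE i + rF i = r)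
    (hopp : ∀ i, i < n → Nonempty (cokernel (a i) ≅ cokernel (b i))) :
    (∀ i, i ≤ n → 0 < rE i →
      Curv2.deg ℂ X (Es i) (rE i) * (r : ℤ) = d * (rE i : ℤ) ∧
      (∀ (G : X.Modules) (s : ℕ) (j : G ⟶ (Es i)) (χ : G ⟶ CohB1.tensorMod G L), Mono j → 0 < s →
        FlatMod.IsFinLocFreeOfRank s G →
        χ ≫ (CohB1.sheafifyMod X).map (MonoidalCategoryStruct.whiskerRight (C := CohB1.PMod X) j.val (CohB1.toPMod L)) = j ≫ ψE i →
        Curv2.deg ℂ X G s * (rE i : ℤ) ≤ Curv2.deg ℂ X (Es i) (rE i) * (s : ℤ))) ∧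
    (∀ i, i ≤ n → 0 < rF i →
      Curv2.deg ℂ X (Fs i) (rF i) * (r : ℤ) = d * (rF i : ℤ) ∧
      (∀ (G : X.Modules) (s : ℕ) (j : G ⟶ (Fs i)) (χ : G ⟶ CohB1.tensorMod G L), Mono j → 0 < s →
        FlatMod.IsFinLocFreeOfRank s G →
        χ ≫ (CohB1.sheafifyMod X).map (MonoidalCategoryStruct.whiskerRight (C := CohB1.PMod X) j.val (CohB1.toPMod L)) = j ≫ ψF i →
        Curv2.deg ℂ X G s * (rF i : ℤ) ≤ Curv2.deg ℂ X (Fs i) (rF i) * (s : ℤ))) ∧
    (∀ i, i < n → rE i < rE (i + 1) →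
      FlatMod.IsFinLocFreeOfRank (rE (i + 1) - rE i) (cokernel (a i)) ∧
      Curv2.deg ℂ X (cokernel (a i)) (rE (i + 1) - rE i) * (r : ℤ) = d * ((rE (i + 1) - rE i : ℕ) : ℤ) ∧
      ∀ (φ' : cokernel (a i) ⟶ CohB1.tensorMod (cokernel (a i)) L),
        cokernel.π (a i) ≫ φ' = ψE (i + 1) ≫ (CohB1.sheafifyMod X).map (MonoidalCategoryStruct.whiskerRight (C := CohB1.PMod X) (cokernel.π (a i)).val (CohB1.toPMod L)) →
        (∀ (G : X.Modules) (s : ℕ) (j : G ⟶ cokernel (a i)) (χ : G ⟶ CohB1.tensorMod G L), Mono j → 0 < s →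
        FlatMod.IsFinLocFreeOfRank s G →
        χ ≫ (CohB1.sheafifyMod X).map (MonoidalCategoryStruct.whiskerRight (C := CohB1.PMod X) j.val (CohB1.toPMod L)) = j ≫ φ' →
        Curv2.deg ℂ X G s * ((rE (i + 1) - rE i : ℕ) : ℤ) ≤ Curv2.deg ℂ X (cokernel (a i)) (rE (i + 1) - rE i) * (s : ℤ))) := by
  haveI := isLocallyNoetherian' ℂ (X := X)
  have hLf := isFinLocFree_of_rank (Groth.Agent.InvEnd.isFinLocFreeOfRank_one hL)
  have hEp := pss_of ℂ hE φE hEss
  have hFp := pss_of ℂ hF φF hFss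
  have hEf := fun i => isFinLocFree_of_rank (hEs i)
  have hFf := fun i => isFinLocFree_of_rank (hFs i)
  have hEc := fun i => coh_of_free ℂ (hEf i)
  have hFc := fun i => coh_of_free ℂ (hFf i)
  haveI := hιE
  haveI := hιF
  haveI : ∀ i, Mono (a i) := fun i => mono_of_mono_fac (ha i)
  haveI : ∀ i, Mono (b i) := fun i => mono_of_mono_fac (hb i)
  have hsum : ∀ i, i ≤ n → dg ℂ (Es i) + dg ℂ (Fs i) = d := by
    intro i
    induction i with
    | zero =>
      intro _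
      haveI := hF0
      rw [dg_eq_zero_of_isZero ℂ hE0, zero_add, dg_congr ℂ (asIso (ιF 0)), ← deg_eq_dg ℂ hF, hFd]
    | succ i ih =>
      intro hi
      obtain ⟨e⟩ := hopp i (by omega)
      have c1 : Coh.IsCoh (cokernel (a i)) := Groth.Agent.QCoh.isCoh_cokernel (hEc i).1 (hEc (i + 1)) (a i)
      have c2 : Coh.IsCoh (cokernel (b i)) := Groth.Agent.QCoh.isCoh_cokernel (hFc (i + 1)).1 (hFc i) (b i)
      have d1 := dg_add ℂ _ _ _ (shortExact_cokernel_of_mono (a i)) (hEc i) (hEc (i + 1)) c1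
      have d2 := dg_add ℂ _ _ _ (shortExact_cokernel_of_mono (b i)) (hFc (i + 1)) (hFc i) c2
      rw [dg_congr ℂ e] at d1
      have := ih (by omega)
      omega
  have hEF : ∀ i, i ≤ n → dg ℂ (Es i) * (r : ℤ) = d * (rE i : ℤ) ∧ dg ℂ (Fs i) * (r : ℤ) = d * (rF i : ℤ) := by
    intro i hi
    have h1 := hEp (Es i) (ιE i) inferInstance (hEf i) ⟨ψE i, hψE i⟩
    have h2 := hFp (Fs i) (ιF i) inferInstance (hFf i) ⟨ψF i, hψF i⟩
    rw [← deg_eq_dg ℂ hE, hEd, rk_eq hE, rk_eq (hEs i)] at h1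
    rw [← deg_eq_dg ℂ hF, hFd, rk_eq hF, rk_eq (hFs i)] at h2
    have h3 : (rE i : ℤ) + rF i = r := by exact_mod_cast hrk i hi
    have h4 : (dg ℂ (Es i) + dg ℂ (Fs i)) * (r : ℤ) = d * ((rE i : ℤ) + rF i) := by rw [hsum i hi, h3]
    constructor <;> linarith
  have hr' : (0 : ℤ) < r := by exact_mod_cast hr
  -- semistability of a member of a chain
  have hsub : ∀ {T : X.Modules} (φT : T ⟶ (DCoh.tensorBi.obj T).obj L), FlatMod.IsFinLocFreeOfRank r T →
      dg ℂ T = d → PSS ℂ L φT → ∀ {V : X.Modules} (v : V ⟶ T) (χV : V ⟶ (DCoh.tensorBi.obj V).obj L),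
      Mono v → χV ≫ twist L v = v ≫ φT → dg ℂ V * (r : ℤ) = d * (rk V : ℤ) → PSS ℂ L χV := by
    intro T φT hT hdT hp V v χV hv hχV heq G j hj hG hj'
    haveI := hv
    haveI := hj
    have h1 := hp G (j ≫ v) (mono_comp _ _) hG (inv_comp hχV hj')
    rw [rk_eq hT, hdT] at h1
    have h2 := mul_le_mul_of_nonneg_right h1 (Int.natCast_nonneg (rk V))
    refine le_of_mul_le_mul_right ?_ hr'
    linear_combination h2 - (rk G : ℤ) * heq
  have hEdg : dg ℂ E = d := by rw [← deg_eq_dg ℂ hE, hEd]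
  have hFdg : dg ℂ F = d := by rw [← deg_eq_dg ℂ hF, hFd]
  have hEps : ∀ i, i ≤ n → PSS ℂ L (ψE i) := fun i hi =>
    hsub φE hE hEdg hEp (ιE i) (ψE i) inferInstance (hψE i) (by rw [rk_eq (hEs i)]; exact (hEF i hi).1)
  refine ⟨fun i hi hpos => ⟨by rw [deg_eq_dg ℂ (hEs i)]; exact (hEF i hi).1,
      fun G s j χ hj hs hG hχ => deg_le_of_pss ℂ (hEs i) (hEps i hi) G s j χ hj hG hχ⟩,
    fun i hi hpos => ⟨by rw [deg_eq_dg ℂ (hFs i)]; exact (hEF i hi).2,
      fun G s j χ hj hs hG hχ => deg_le_of_pss ℂ (hFs i) (hsub φF hF hFdg hFp (ιF i) (ψF i) inferInstance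
        (hψF i) (by rw [rk_eq (hFs i)]; exact (hEF i hi).2)) G s j χ hj hG hχ⟩,
    fun i hi hlt => ?_⟩
  have hinv : Inv L (ψE (i + 1)) (a i) := by
    refine ⟨ψE i, ?_⟩
    haveI := mono_twist hLf (ιE (i + 1))
    rw [← cancel_mono (twist L (ιE (i + 1))), Category.assoc, ← twist_comp, ha i, Category.assoc]
    refine (hψE i).trans ?_
    rw [← ha i, Category.assoc]
    exact congrArg (a i ≫ ·) (hψE (i + 1)).symm
  obtain ⟨e1, -⟩ := hEF i (by omega)
  obtain ⟨e2, -⟩ := hEF (i + 1) (by omega)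
  have heq : dg ℂ (Es i) * (rk (Es (i + 1)) : ℤ) = dg ℂ (Es (i + 1)) * (rk (Es i) : ℤ) := by
    rw [rk_eq (hEs i), rk_eq (hEs (i + 1))]
    refine mul_right_cancel₀ hr'.ne' ?_
    linear_combination (rE (i + 1) : ℤ) * e1 - (rE i : ℤ) * e2
  obtain ⟨hQ, hrQ, hdQ, hsl, hps⟩ := quotient_of_pss ℂ hdim.le hL (hEf (i + 1))
    (by rw [rk_eq (hEs (i + 1))]; omega) (ψE (i + 1)) (hEps (i + 1) (by omega)) (a i) (hEf i) hinv heq
  rw [rk_eq (hEs i), rk_eq (hEs (i + 1))] at hrQ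
  have hrk' : rk (cokernel (a i)) = rE (i + 1) - rE i := by omega
  have hQr : FlatMod.IsFinLocFreeOfRank (rE (i + 1) - rE i) (cokernel (a i)) := hrk' ▸ isFinLocFreeOfRank_rk hQ
  refine ⟨hQr, ?_, fun φ' hφ' G s j χ hj hs hG hχ => deg_le_of_pss ℂ hQr (hps φ' hφ') G s j χ hj hG hχ⟩
  rw [deg_eq_dg ℂ hQr]
  have e3 : ((rE (i + 1) - rE i : ℕ) : ℤ) = (rE (i + 1) : ℤ) - rE i := by omega
  rw [e3]
  linear_combination (-(r : ℤ)) * hdQ + e2 - e1

end Groth.Agent.S15330
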