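import Groth.Statements.S15339
import Groth.Agent.BunLib68.Weil
import Groth.Agent.BunLib68.Higgs
-- import your own Groth.Agent.* helpers here

set_option autoImplicit false
universe u
open CategoryTheory CategoryTheory.Limits AlgebraicGeometry
open VBCurve

namespace Groth.Agent.S15339

set_option linter.style.haveILetI false
set_option linter.unusedVariables false
set_option backward.isDefEq.respectTransparency false
set_option backward.isDefEq.respectTransparency.types false
open Groth.Agent.CurveBundle Groth.Agent.CurveSlope Groth.Agent.CurveStable Groth.Agent.BunLib68 Groth.Agent.BunLib68.KS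

/-- Let X be a smooth proper integral curve (integral, smooth and proper of dimension one) over an
algebraically closed field k and L an invertible O_X-module. Then L is finite in the sense of Weil:
there are two distinct polynomials P ≠ Q with natural-number coefficients such that P(L) ≅ Q(L),
where P(L) denotes the direct sum over i of P_i copies of the i-th tensor power L^{⊗ i} (L^{⊗ 0} =
O_X) if and only if L^{⊗ m} ≅ O_X for some m > 0. -/
theorem result (k : Type u) [Field k] [IsAlgClosed k] (X : Scheme.{u}) [X.Over (Spec (CommRingCat.of k))]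
    [IsIntegral X] [IsProper (X ↘ Spec (CommRingCat.of k))] [Smooth (X ↘ Spec (CommRingCat.of k))]
    (hdim : topologicalKrullDim X = 1)
    (L : X.Modules) (hL : PicF.IsInvertible L) :
    (∃ P Q : Polynomial ℕ, P ≠ Q ∧ Nonempty ((∐ fun i : Fin (P.natDegree + 1) => ∐ fun _ : Fin (P.coeff ↑i) => CohB1.tensorPow L ↑i) ≅
      (∐ fun i : Fin (Q.natDegree + 1) => ∐ fun _ : Fin (Q.coeff ↑i) => CohB1.tensorPow L ↑i))) ↔
    ∃ m : ℕ, 0 < m ∧ Nonempty (CohB1.tensorPow L m ≅ Coh.structureModule X) := by
  classical
  have hLf := isFinLocFree_of_rank (Groth.Agent.InvEnd.isFinLocFreeOfRank_one hL)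
  haveI := isLocallyNoetherian' k (X := X)
  have hpi := fun m => Groth.Agent.InvX.isInvertible_tensorPow hL m
  have hind : ∀ m, IsIndec (CohB1.tensorPow L m) := by
    intro m
    have h1 := Groth.Agent.InvEnd.isFinLocFreeOfRank_one (hpi m)
    have hf := isFinLocFree_pow hLf m
    refine ⟨hf, fun hz => ?_, fun A B he => ?_⟩
    · have := rk_eq h1
      rw [rk_eq_zero_of_isZero hz] at this
      omega
    · obtain ⟨e⟩ := he
      have hAB : FlatMod.IsFinLocFree (A ⊞ B) := Groth.Agent.H23.PullPush.isFinLocFree_of_iso e hf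
      have hA := isFinLocFree_retract k hdim.le hAB biprod.inl biprod.fst biprod.inl_fst
      have hB := isFinLocFree_retract k hdim.le hAB biprod.inr biprod.snd biprod.inr_snd
      have hr := rk_biprod hAB
      rw [← rk_congr e, rk_eq h1] at hr
      rcases isZero_or_pos k hA with h | h
      · exact Or.inl h
      · rcases isZero_or_pos k hB with h' | h'
        · exact Or.inr h'
        · omega
  constructor
  · intro h
    obtain ⟨S, hS⟩ := tpFin_of_isWeil k hdim hLf h
    have hmem : ∀ m : Fin (S.card + 1), mk (CohB1.tensorPow L (m : ℕ)) ∈ S := fun m =>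
      hS (m : ℕ) _ (by rw [cls_indec k hdim (hind (m : ℕ))]; exact Multiset.mem_singleton_self _)
    obtain ⟨a, b, hne, hab⟩ := Fintype.exists_ne_map_eq_of_card_lt
      (fun m : Fin (S.card + 1) => (⟨_, hmem m⟩ : S)) (by simp)
    have hab' : mk (CohB1.tensorPow L (a : ℕ)) = mk (CohB1.tensorPow L (b : ℕ)) := congrArg Subtype.val hab
    have key : ∀ a b : ℕ, a < b → mk (CohB1.tensorPow L a) = mk (CohB1.tensorPow L b) →
        ∃ m : ℕ, 0 < m ∧ Nonempty (CohB1.tensorPow L m ≅ Coh.structureModule X) := by
      intro a b hlt hab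
      obtain ⟨e⟩ := mk_eq_iff.1 hab
      obtain ⟨f⟩ := nonempty_pow_add L (b - a) a
      rw [show b - a + a = b by omega] at f
      exact ⟨b - a, by omega, nonempty_iso_one_of_absorb (hpi a) (f.symm ≪≫ e.symm)⟩
    rcases lt_or_gt_of_ne (fun h => hne (Fin.ext h) : (a : ℕ) ≠ b) with h | h
    · exact key _ _ h hab'
    · exact key _ _ h hab'.symm
  · rintro ⟨m, hm, ⟨e⟩⟩
    refine isWeil_of_tpFin k hdim hLf ⟨(Finset.range m).image fun i => mk (CohB1.tensorPow L i), fun i c hc => ?_⟩
    rw [cls_indec k hdim (hind i), Multiset.mem_singleton] at hc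
    subst hc
    induction i using Nat.strong_induction_on with
    | _ i ih =>
      rcases Nat.lt_or_ge i m with h | h
      · exact Finset.mem_image.2 ⟨i, Finset.mem_range.2 h, rfl⟩
      · obtain ⟨f⟩ := nonempty_pow_add L (i - m) m
        rw [show i - m + m = i by omega] at f
        rw [mk_eq_iff.2 ⟨f ≪≫ isoR _ e ≪≫ (Groth.Agent.H23.PicMul.unit _).some⟩]
        exact ih (i - m) (by omega)

end Groth.Agent.S15339
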