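import Groth.Statements.S15362
import Mathlib
import Groth.Agent.LangLib.Semilinear

set_option autoImplicit false
universe u v w
open CAlg

namespace Groth.Agent.S15362

theorem surjective_sub (p : ℕ) [Fact p.Prime]
    (L : Type*) [Field L] [IsAlgClosed L] [CharP L p]
    (R : Type*) [CommRing R] [Algebra L R] [Algebra.IsIntegral L R] [ExpChar R p]
    (M : Type*) [AddCommGroup M] [Module R M] [Module.FinitePresentation R M]
    (φ : M →ₛₗ[frobenius R p] M) :
    Function.Surjective fun m : M => φ m - m := by
  classical
  intro w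
  obtain ⟨k, g, hg⟩ := Submodule.fg_iff_exists_fin_generating_family.mp
    (Module.Finite.fg_top (R := R) (M := M))
  have hrep : ∀ x : M, ∃ c : Fin k → R, ∑ i, c i • g i = x := fun x =>
    (Submodule.mem_span_range_iff_exists_fun R).mp (hg ▸ Submodule.mem_top)
  choose a ha using fun i => hrep (φ (g i))
  obtain ⟨c, hc⟩ := hrep w
  let gens : Finset R := (Finset.univ.image fun x : Fin k × Fin k => a x.1 x.2) ∪ Finset.univ.image c
  let R₀ := Algebra.adjoin L (gens : Set R)
  haveI : Module.Finite L R₀ := Algebra.finite_adjoin_of_finite_of_isIntegral gens.finite_toSet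
    (fun x _ => Algebra.IsIntegral.isIntegral x)
  letI : Module L M := Module.compHom M (algebraMap L R)
  haveI : IsScalarTower L R M := ⟨fun l r m => by
    rw [Algebra.smul_def, mul_smul]; rfl⟩
  let Φ : (Fin k → R₀) →ₗ[L] M :=
    { toFun := fun r => ∑ i, (r i : R) • g i
      map_add' := fun r s => by simp [add_smul, Finset.sum_add_distrib]
      map_smul' := fun l r => by simp [Finset.smul_sum, smul_assoc] }
  let V := LinearMap.range Φ
  have hφV : ∀ x ∈ V, φ x ∈ V := by
    rintro _ ⟨r, rfl⟩
    refine ⟨fun j => ⟨∑ i : Fin k, (r i : R) ^ p * a i j, sum_mem fun i _ => mul_mem (pow_mem (r i).2 p)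
      (Algebra.subset_adjoin (by simp [gens]))⟩, ?_⟩
    simp only [Φ, LinearMap.coe_mk, AddHom.coe_mk, map_sum, LinearMap.map_smulₛₗ, frobenius_def,
      Finset.sum_smul, mul_smul]
    rw [Finset.sum_comm]
    exact Finset.sum_congr rfl fun i _ => by rw [← Finset.smul_sum, ha]
  let F : V →+ V :=
    { toFun := fun x => ⟨φ x, hφV x x.2⟩
      map_zero' := Subtype.ext (by simp)
      map_add' := fun x y => Subtype.ext (by simp) }
  obtain ⟨x, hx⟩ := LangLib.exists_sub_eq (k := L) p F (fun l v => Subtype.ext (by
    show φ (l • (v : M)) = l ^ p • φ (v : M)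
    rw [← algebraMap_smul R l (v : M), LinearMap.map_smulₛₗ, frobenius_def, ← map_pow, algebraMap_smul]))
    ⟨w, ⟨fun i => ⟨c i, Algebra.subset_adjoin (by simp [gens])⟩, by simp [Φ, hc]⟩⟩
  exact ⟨x, congrArg Subtype.val hx⟩


/-- For an algebraically closed field L of characteristic p > 0, a commutative L-algebra R integral over
L, and a finitely presented R-module M carrying an additive endomorphism φ with φ(r·m) = r^p·φ(m)
for r ∈ R, m ∈ M, the map m ↦ φ(m) − m is onto. (R is taken of exponential characteristic p so that
its Frobenius is a ring endomorphism; for a non-zero L-algebra this is automatic.) -/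
theorem result (p : ℕ) [Fact p.Prime]
    (L : Type u) [Field L] [IsAlgClosed L] [CharP L p]
    (R : Type v) [CommRing R] [Algebra L R] [Algebra.IsIntegral L R] [ExpChar R p]
    (M : Type w) [AddCommGroup M] [Module R M] [Module.FinitePresentation R M]
    (φ : M →ₛₗ[frobenius R p] M) :
    Function.Surjective fun m : M => φ m - m := by
  classical
  exact surjective_sub p L R M φ

end Groth.Agent.S15362
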