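import Groth.Statements.S15385
import Groth.Agent.ZH85.StackCount.FinitePts

set_option autoImplicit false
set_option linter.style.haveILetI false
universe u
open StackCount

namespace Groth.Agent.S15385

open CategoryTheory AlgebraicGeometry in
/-- Let k be a finite field and G a finite etale group scheme over k (in particular affine over k, so
that every G-torsor is a scheme). For every finite field extension k' of k, the point count of the
classifying stack B(G) over k' — the sum, over the isomorphism classes of the groupoid of
etale-locally trivial G-torsors over Spec k', of the inverse orders of their automorphism groups —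
equals 1. The finiteness of that groupoid (finitely many classes, finite automorphism groups) is
carried as a hypothesis. -/
theorem result (k : Type u) [Field k] [Finite k]
    (G : Over (Spec (CommRingCat.of k))) [GrpObj G] [IsFinite G.hom] [Etale G.hom]
    (k' : Type u) [Field k'] [Algebra k k'] [Module.Finite k k']
    (h : StkCnt.IsEssFinite (StkCnt.pts (AlgSt.BG Scheme.etalePrecoverage G) k')) :
    StkCnt.ptCount (AlgSt.BG Scheme.etalePrecoverage G) k' h = 1 := by
  haveI : IsScalarTower k k' (AlgebraicClosure k') := inferInstance
  haveI : Smooth G.hom := inferInstance
  haveI : IsAffineHom G.hom := inferInstance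
  haveI := Groth.Agent.ZH85.StackCount.finite_points_of_isFinite (Y := G) (AlgebraicClosure k')
  haveI : LocallyOfFiniteType (MonoidalCategory.tensorUnit (Over (Spec (CommRingCat.of k)))).hom :=
    inferInstanceAs (LocallyOfFiniteType (𝟙 _))
  letI : Group (SGA7.pt (K := k) (AlgebraicClosure k') ⟶ G) := CategoryTheory.Hom.group
  refine (Groth.Agent.ZH85.StackCount.ptCount_eq_mass (AlgebraicClosure k') h).trans ?_
  let e : Groth.Agent.ZH85.StackCount.FrobPair k (AlgSt.trivAction G) k' (AlgebraicClosure k') ≃
      (SGA7.pt (K := k) (AlgebraicClosure k') ⟶ G) :=
    { toFun := fun p => p.g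
      invFun := fun g => ⟨g, CartesianMonoidalCategory.toUnit _, CartesianMonoidalCategory.toUnit_unique _ _⟩
      left_inv := fun p => Groth.Agent.ZH85.StackCount.FrobPair.ext rfl (CartesianMonoidalCategory.toUnit_unique _ _)
      right_inv := fun g => rfl }
  haveI := Finite.of_equiv _ e.symm
  rw [Groth.Agent.ZH85.StackCount.mass_of_finite, Nat.card_congr e]
  exact div_self (Nat.cast_ne_zero.2 Nat.card_pos.ne')

end Groth.Agent.S15385
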