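import Groth.Statements.S15389
import Groth.Agent.DualOv79.Hens
import Groth.Agent.DualOv79.HOne
import Groth.Agent.DualNorm79.Main
import Groth.Agent.GmField79.Leray
import Groth.Agent.GmNorm.Sheaf
import Groth.Agent.BigSiteLib.BC

set_option autoImplicit false
universe u
open TateGlob

namespace Groth.Agent.S15389

open CategoryTheory AlgebraicGeometry in
/-- Let K be a global function field with finite constant field Fq, k'/K a finite separable extension, S
a nonempty finite set of places of K, O_S the ring of S-integers and O' the integral closure of O_S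
in k' (the ring of S'-integers of k', S' the places above S), and suppose O' is finite etale over
O_S, i.e. no place outside S ramifies in k'. Let R = R_{O'/O_S}(𝔾_m) be the Weil restriction of the
multiplicative group, as the abelian sheaf on the big fppf site of Spec O_S given by the direct
image of 𝔾_m along Spec O' → Spec O_S, and R^ its dual sheaf (internal Hom into 𝔾_m). Then for every
place v of K not in S, H^1(O_v, R^) = 0, where O_v is the valuation ring of the completion K_v and
the group is the fppf cohomology of the restriction of R^ to Spec O_v. (The published statement is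
for any global field, with S also containing the archimedean places; this row is the function-field
case.) -/
theorem result (Fq : Type u) [Field Fq] [Finite Fq] (K : Type u) [Field K] [Algebra (RatFunc Fq) K] [FunctionField Fq K]
    [Algebra Fq K] [IsScalarTower Fq (RatFunc Fq) K]
    (k' : Type u) [Field k'] [Algebra K k'] [FiniteDimensional K k'] [Algebra.IsSeparable K k']
    (S : Set (FunFld.Place Fq K)) (hS : S.Finite) (hne : S.Nonempty)
    [Algebra (AdFn.SInt S) k'] [IsScalarTower (AdFn.SInt S) K k']
    (O' : Type u) [CommRing O'] [Algebra (AdFn.SInt S) O'] [Algebra O' k'] [IsScalarTower (AdFn.SInt S) O' k']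
    [IsIntegralClosure O' (AdFn.SInt S) k']
    [IsFinite (Spec.map (CommRingCat.ofHom (algebraMap (AdFn.SInt S) O')))]
    [Etale (Spec.map (CommRingCat.ofHom (algebraMap (AdFn.SInt S) O')))]
    (v : FunFld.Place Fq K) (hv : v ∉ S) :
    Subsingleton (AdFn.HInt Scheme.fppfPrecoverage S
      (CGrpSh2.dualSh Scheme.fppfPrecoverage
        (CGrpSh3.pushGm Scheme.fppfPrecoverage (Spec.map (CommRingCat.ofHom (algebraMap (AdFn.SInt S) O'))))) 1 hv) := by
  letI : Algebra (AdFn.SInt S) (AdFn.Ov v) := (AdFn.SInt.toOv S hv).toAlgebra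
  haveI : HenselianLocalRing (AdFn.Ov v) := Groth.Agent.DualOv79.henselianLocalRing_Ov v
  haveI : Module.Finite (AdFn.SInt S) O' :=
    RingHom.finite_algebraMap.1 ((IsFinite.SpecMap_iff (CommRingCat.ofHom (algebraMap (AdFn.SInt S) O'))).1 inferInstance)
  set f := Spec.map (CommRingCat.ofHom (algebraMap (AdFn.SInt S) O'))
  let A := TensorProduct (AdFn.SInt S) (AdFn.Ov v) O'
  let f' : Spec (CommRingCat.of A) ⟶ Spec (CommRingCat.of (AdFn.Ov v)) :=
    Spec.map (CommRingCat.ofHom Algebra.TensorProduct.includeLeftRingHom)
  let g' : Spec (CommRingCat.of A) ⟶ Spec (CommRingCat.of O') :=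
    Spec.map (CommRingCat.ofHom Algebra.TensorProduct.includeRight.toRingHom)
  let g : Spec (CommRingCat.of (AdFn.Ov v)) ⟶ Spec (CommRingCat.of (AdFn.SInt S)) :=
    Spec.map (CommRingCat.ofHom (algebraMap (AdFn.SInt S) (AdFn.Ov v)))
  have hsq : IsPullback g' f' f g :=
    (isPullback_SpecMap_of_isPushout _ _ _ _
      (CommRingCat.isPushout_tensorProduct (AdFn.SInt S) (AdFn.Ov v) O')).flip
  haveI := Groth.Agent.DualNorm79.isIso_dualNormMap (f := f) (CGrpSh2.Gm Scheme.fppfPrecoverage (Spec (CommRingCat.of O')))
    (Groth.Agent.GmNorm.normMap f) (Groth.Agent.GmNorm.isNormMap_normMap f)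
  let φ := CGrpSh3.dualNormMap Scheme.fppfPrecoverage f (Groth.Agent.GmNorm.normMap f)
    (CGrpSh2.Gm Scheme.fppfPrecoverage (Spec (CommRingCat.of O')))
  let e := (BigSite.pullBig Scheme.fppfPrecoverage g AddCommGrpCat.{u + 1}).mapIso (asIso φ).symm ≪≫
    (Groth.Agent.BigSiteLib.pushPullIso hsq Scheme.fppfPrecoverage AddCommGrpCat.{u + 1}).app _
  have h0 := Groth.Agent.GmField79.subsingleton_H_one_pushBig Scheme.fppfPrecoverage f' _
    (Groth.Agent.DualOv79.subsingleton_H_one_dualGm (AdFn.Ov v) A g')
  refine subsingleton_of_forall_eq 0 fun x => ?_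
  have hx : Sheaf.H.map e.inv 1 (Sheaf.H.map e.hom 1 x) = x := by
    rw [← Sheaf.H.map_comp_apply, e.hom_inv_id, Sheaf.H.map_id_apply]
  rw [← hx, h0.elim (Sheaf.H.map e.hom 1 x) 0, map_zero]

end Groth.Agent.S15389
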