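import Groth.Statements.S15390
import Groth.Agent.DualOv79.Hens
import Groth.Agent.DualOv79.PiTwoFinal

set_option autoImplicit false
universe u
open TateGlob

namespace Groth.Agent.S15390

open CategoryTheory AlgebraicGeometry in
/-- Let K be a global function field with finite constant field Fq, k'/K a finite separable extension, S
a set of places of K, O_S the ring of S-integers and O' the integral closure of O_S in k' (the
S'-integers of k', S' the places above S), and suppose O' is finite etale over O_S, i.e. no place
outside S ramifies in k'. Let R = R_{O'/O_S}(𝔾_m) be the Weil restriction of the multiplicative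
group, as the abelian sheaf on the big fppf site of Spec O_S given by the direct image of 𝔾_m along
Spec O' → Spec O_S, and R^ its dual sheaf (internal Hom into 𝔾_m). Then the restriction map H^2(Ô_S,
R^) → ∏_{v ∉ S} H^2(O_v, R^), Ô_S = ∏_{v ∉ S} O_v, is injective: a class over Ô_S restricting to
zero over every O_v, v ∉ S, is zero. (The published statement is over any global field, with S also
containing the archimedean places; this row is the function-field case. The published statement is
for the Weil restriction of a product of n copies of 𝔾_m; this row is the case n = 1.) -/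
theorem result (Fq : Type u) [Field Fq] [Finite Fq] (K : Type u) [Field K] [Algebra (RatFunc Fq) K] [FunctionField Fq K]
    [Algebra Fq K] [IsScalarTower Fq (RatFunc Fq) K]
    (k' : Type u) [Field k'] [Algebra K k'] [FiniteDimensional K k'] [Algebra.IsSeparable K k']
    (S : Set (FunFld.Place Fq K))
    [Algebra (AdFn.SInt S) k'] [IsScalarTower (AdFn.SInt S) K k']
    (O' : Type u) [CommRing O'] [Algebra (AdFn.SInt S) O'] [Algebra O' k'] [IsScalarTower (AdFn.SInt S) O' k']
    [IsIntegralClosure O' (AdFn.SInt S) k']
    [IsFinite (Spec.map (CommRingCat.ofHom (algebraMap (AdFn.SInt S) O')))]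
    [Etale (Spec.map (CommRingCat.ofHom (algebraMap (AdFn.SInt S) O')))]
    (x : AdFn.HOHat Scheme.fppfPrecoverage S
      (CGrpSh2.dualSh Scheme.fppfPrecoverage
        (CGrpSh3.pushGm Scheme.fppfPrecoverage (Spec.map (CommRingCat.ofHom (algebraMap (AdFn.SInt S) O'))))) 2)
    (hx : ∀ (v : FunFld.Place Fq K) (hv : v ∉ S), AdFn.ohatRes Scheme.fppfPrecoverage S
      (CGrpSh2.dualSh Scheme.fppfPrecoverage
        (CGrpSh3.pushGm Scheme.fppfPrecoverage (Spec.map (CommRingCat.ofHom (algebraMap (AdFn.SInt S) O'))))) 2 hv x = 0) :
    x = 0 := by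
  letI : Algebra (AdFn.SInt S) (AdFn.OHat S) := (AdFn.SInt.toOHat S).toAlgebra
  haveI : ∀ w : {w : FunFld.Place Fq K // w ∉ S}, HenselianLocalRing (AdFn.Ov w.1) := fun w =>
    Groth.Agent.DualOv79.henselianLocalRing_Ov w.1
  refine Groth.Agent.DualOv79.eq_zero_of_factors (fun w : {w : FunFld.Place Fq K // w ∉ S} => AdFn.Ov w.1)
    (AdFn.SInt S) O' x fun w => ?_
  have h := hx w.1 w.2
  exact Groth.Agent.DualOv79.hMap_iso_injective
    (HRes.pullIso Scheme.fppfPrecoverage _ (AdFn.ohatResHom S w.2)) h

end Groth.Agent.S15390
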