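import Groth.Statements.S15397
import Groth.Agent.GGen.Wedge
import Groth.Agent.GeomField.GlobalFunctions
import Groth.Agent.AVTors.Torsion
-- import your own Groth.Agent.* helpers here

set_option autoImplicit false
universe u
open CategoryTheory CategoryTheory.Limits MonoidalCategory CartesianMonoidalCategory MonObj GrpObj AlgebraicGeometry
open AbVar

set_option linter.style.haveILetI false
set_option backward.isDefEq.respectTransparency false
set_option backward.isDefEq.respectTransparency.types false

namespace Groth.Agent.S15397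

/-- Let k be an algebraically closed field of characteristic zero, A an abelian variety over k (a proper
smooth k-group scheme with geometrically connected fibres), and E a finite locally free O_A-module
of rank r which is generically globally generated: there are a non-empty open subset U of A and a
family of global sections s_j : O_A → E such that the induced map from the direct sum of copies of
O_A to E is an epimorphism after restriction to U. Assume that r is smaller than the dimension over
k of H^0(A, E), and let D be a determinant of E, that is an r-th exterior power of E. Then the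
multiplication map on global sections Γ(A, E) ⊗ Γ(A, D) → Γ(A, E ⊗ D), written as the canonical map
from the global sections of the sectionwise tensor product presheaf (the tensor being over the ring
of global functions Γ(A, O_A)) to the global sections of its sheafification, is not injective. -/
theorem result (k : Type u) [Field k] [IsAlgClosed k] [CharZero k]
    (A : Over (Spec (CommRingCat.of k))) [GrpObj A] [IsProper A.hom] [Smooth A.hom] [GeometricallyConnected A.hom]
    (E : A.left.Modules) (r : ℕ) (hE : FlatMod.IsFinLocFreeOfRank r E)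
    (hgen : ∃ (U : A.left.Opens) (J : Type u) (s : J → (Coh.structureModule A.left ⟶ E)),
      (U : Set ↥A.left).Nonempty ∧ Epi ((Scheme.Modules.restrictFunctor U.ι).map (Sigma.desc s)))
    (hlt : r < @Module.finrank k (Coh.HH A.left E 0) _ _ (@Coh.moduleOver k _ A.left ⟨A.hom⟩ E 0))
    (D : A.left.Modules) (hD : ExtPow.IsExtPow r E D) :
    ¬ Function.Injective
      ((toSheafify (Opens.grothendieckTopology ↥A.left) (CohB1.tensorPre E D).presheaf).app (Opposite.op ⊤)) := by
  classical
  haveI := AVTors.geometricallyIntegral_of_smooth A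
  haveI : IsIntegral A.left := GeometricallyIntegral.isIntegral_of_subsingleton A.hom
  letI : A.left.Over (Spec (CommRingCat.of k)) := ⟨A.hom⟩
  haveI : IsProper (A.left ↘ Spec (CommRingCat.of k)) := (inferInstance : IsProper A.hom)
  haveI : GeometricallyConnected (A.left ↘ Spec (CommRingCat.of k)) := (inferInstance : GeometricallyConnected A.hom)
  haveI : GeometricallyReduced (A.left ↘ Spec (CommRingCat.of k)) :=
    GrpSchLib.IsogenyFibre.geometricallyReduced_of_smooth' A.hom
  letI : Algebra k Γ(A.left, ⊤) := GeomField.globalAlgebra k A.left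
  have h1 : Module.finrank k Γ(A.left, ⊤) = 1 := GeomField.finrank_globalFunctions_eq_one k A.left
  letI : Field Γ(A.left, ⊤) := (GeomField.isField_globalFunctions k A.left).toField
  -- sections and zeroth cohomology
  letI : Module k Γ(E, ⊤) := Module.compHom _ (algebraMap k Γ(A.left, ⊤))
  haveI : IsScalarTower k Γ(A.left, ⊤) Γ(E, ⊤) := IsScalarTower.of_algebraMap_smul fun _ _ => rfl
  let e : Coh.HH A.left E 0 ≃+ Γ(E, ⊤) := Sheaf.H.equiv₀ (Coh.toAb E) isTerminalTop
  have he : ∀ (c : Coh.Γtop A.left) (x : Coh.HH A.left E 0),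
      e (c • x) = (show Γ(A.left, ⊤) from c) • e x := by
    intro c x
    refine (show e (c • x) = _ from
      (Sheaf.H.equiv₀_naturality isTerminalTop (Coh.smulAb E c) x).symm).trans ?_
    show (show Γ(A.left, ⊤) from Coh.resTop A.left (Opposite.op ⊤) c) • e x = _
    congr 1
    show (A.left.presheaf.map (homOfLE le_top).op).hom c = c
    rw [show (homOfLE le_top).op = 𝟙 (Opposite.op (⊤ : A.left.Opens)) from rfl, A.left.presheaf.map_id]
    rfl
  let eL : Coh.HH A.left E 0 ≃ₗ[k] Γ(E, ⊤) := { e with map_smul' := fun c x => he _ x }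
  have hr : r < Module.finrank Γ(A.left, ⊤) Γ(E, ⊤) := by
    have := Module.finrank_mul_finrank k Γ(A.left, ⊤) Γ(E, ⊤)
    rw [h1, _root_.one_mul] at this
    rw [this, ← eL.finrank_eq]
    exact hlt
  obtain ⟨g, b, hb⟩ := GGen.exists_generic_basis hE hgen
  have hli : LinearIndependent Γ(A.left, ⊤) g := by
    rw [Fintype.linearIndependent_iff]
    intro c hc i
    have hK := congrArg (E.presheaf.germ ⊤ (genericPoint A.left) trivial).hom hc
    rw [map_sum, map_zero] at hK
    have hz := Fintype.linearIndependent_iff.1 b.linearIndependent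
      (fun j => A.left.presheaf.germ ⊤ (genericPoint A.left) trivial (c j))
      ((Finset.sum_congr rfl fun j _ => by
        rw [hb]; exact (QCoh.germ_smul' E (U := ⊤) (hx := trivial) (c j) (g j)).symm).trans hK) i
    haveI : Nonempty (⊤ : A.left.Opens) := ⟨⟨genericPoint A.left, trivial⟩⟩
    exact (map_eq_zero_iff _ (germ_injective_of_isIntegral A.left (U := ⊤) (genericPoint A.left) trivial)).1 hz
  obtain ⟨s₀, hs₀⟩ : ∃ s₀ : Γ(E, ⊤), s₀ ∉ Submodule.span Γ(A.left, ⊤) (Set.range g) := by
    by_contra h
    push Not at h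
    rw [← finrank_top, ← (Submodule.eq_top_iff'.2 h), finrank_span_eq_card hli, Fintype.card_fin] at hr
    exact lt_irrefl _ hr
  let s : Fin (r + 1) → Γ(E, ⊤) := Fin.cons s₀ g
  have hs : LinearIndependent Γ(A.left, ⊤) s := linearIndependent_finCons.2 ⟨hli, hs₀⟩
  choose d hd using fun i : Fin (r + 1) => GGen.exists_wedge hD (Fin.removeNth i s)
  have hd0 : d 0 ≠ 0 := by
    intro h0
    obtain ⟨_, ⟨V, hV, rfl⟩, hηV, -⟩ :=
      A.left.isBasis_affineOpens.exists_subset_of_mem_open (Set.mem_univ (genericPoint A.left)) isOpen_univ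
    refine GGen.wedge_basis_ne_zero hD ⟨V, hV⟩ hηV g b hb ?_
    have h2 := hd 0 ⟨V, hV⟩
    rw [h0, map_zero, show Fin.removeNth 0 s = g from Fin.removeNth_zero (α := fun _ => Γ(E, ⊤)) s] at h2
    exact h2.symm
  -- the kernel element
  let t : (CohB1.tensorPre E D).obj (Opposite.op ⊤) :=
    ∑ i : Fin (r + 1), (-1 : ℤ) ^ (i : ℕ) • KFlatLib.tm (P := CohB1.toPMod E) (Q := CohB1.toPMod D) (s i) (d i)
  intro hinj
  obtain ⟨f, hf⟩ : ∃ f : Γ(E, ⊤) →ₗ[Γ(A.left, ⊤)] Γ(A.left, ⊤), ∀ i, f (s i) = if i = 0 then 1 else 0 := by
    obtain ⟨f, hf⟩ := LinearMap.exists_extend ((Finsupp.lapply (0 : Fin (r + 1))).comp hs.repr)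
    refine ⟨f, fun i => ?_⟩
    have h4 : (⟨s i, Submodule.subset_span ⟨i, rfl⟩⟩ : Submodule.span Γ(A.left, ⊤) (Set.range s)).1 = s i := rfl
    rw [← h4, ← Submodule.subtype_apply, ← LinearMap.comp_apply, hf, LinearMap.comp_apply,
      LinearIndependent.repr_eq_single hs i _ rfl]
    simp [Finsupp.single_apply]
  let T : (CohB1.tensorPre E D).obj (Opposite.op ⊤) →+ Γ(D, ⊤) :=
    ((TensorProduct.lid Γ(A.left, ⊤) Γ(D, ⊤)).toLinearMap ∘ₗ LinearMap.rTensor Γ(D, ⊤) f).toAddMonoidHom
  have hT : ∀ (a : Γ(E, ⊤)) (c : Γ(D, ⊤)),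
      T (KFlatLib.tm (P := CohB1.toPMod E) (Q := CohB1.toPMod D) a c) = f a • c := fun a c => rfl
  refine hd0 ?_
  have ht : t = 0 := by
    refine hinj ?_
    refine Eq.trans ?_ (map_zero _).symm
    refine Eq.trans (map_sum _ _ _) ?_
    refine Eq.trans (Finset.sum_congr rfl fun i _ => map_zsmul _ _ _) ?_
    exact GGen.sum_tmul_eq_zero hD hE s d hd
  have h3 := congrArg T ht
  rw [map_zero, map_sum] at h3
  rw [← h3, Finset.sum_eq_single (0 : Fin (r + 1))]
  · rw [map_zsmul, hT, hf, if_pos rfl, one_smul, Fin.val_zero, pow_zero, one_smul]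
  · intro i _ hi
    rw [map_zsmul, hT, hf, if_neg hi, zero_smul, smul_zero]
  · exact fun h => absurd (Finset.mem_univ _) h

end Groth.Agent.S15397
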