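import Groth.Statements.S15405
import Groth.Agent.ASBunK.TypePic
import Groth.Agent.CurveBC.Coh

set_option autoImplicit false
set_option backward.isDefEq.respectTransparency false
set_option backward.isDefEq.respectTransparency.types false
universe u
open CategoryTheory CategoryTheory.Limits AlgebraicGeometry
open ASBun

namespace Groth.Agent.S15405

open W4c1astiltbs12 in
/-- Let X be proper over a field k, K an algebraic closure of k such that X_K is connected, and π : X_K
→ X the projection; assume the Picard group laws on X and on X_K and that pullback of invertible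
classes along π is multiplicative. Suppose that Pic(X_K) is infinite cyclic, generated by the class
of an invertible module L; that J is an invertible O_X-module with π^*J ≅ L^{⊗r} for some r ≥ 1; and
that there is an indecomposable finite locally free O_X-module (nonzero, and in any direct-sum
decomposition one summand is zero) whose pullback to X_K is isomorphic to L^{⊕d} for some d. Then:
(a) every indecomposable finite locally free O_X-module E whose pullback to X_K is a finite direct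
sum of invertible modules is isomorphic to M ⊗ J_a, where 0 ≤ j < r, M is an indecomposable finite
locally free O_X-module with π^*M ≅ (L^{⊗j})^{⊕d} for some d, a is an integer and J_a is an
invertible O_X-module whose class in Pic(X) is the a-th power of the class of J; (b) the integers a
and j in such an expression are determined by E. (The published statement takes r to be the least
such integer, the period, and leaves the connectedness of X_K implicit; the argument treats
invertible modules on X_K as indecomposable, whence that hypothesis, and does not use the minimality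
of r.) -/
theorem result (k : Type u) [Field k] {X : Scheme.{u}}
    (p : X ⟶ Spec (CommRingCat.of k)) [IsProper p] (K : Type u) [Field K] [Algebra k K] [IsAlgClosure k K]
    [ConnectedSpace ↥(W4bk4gw11416.baseChange p K)]
    [PicGrp.Law X] [PicGrp.Law (W4bk4gw11416.baseChange p K)] (hπ : PicGrp.PullMul (proj p K))
    (L : (W4bk4gw11416.baseChange p K).Modules) (hL : PicF.IsInvertible L)
    (e : PicLoc.PicSet (W4bk4gw11416.baseChange p K) ≃* Multiplicative ℤ)
    (he : e (PicGrp.cls L hL) = Multiplicative.ofAdd 1)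
    (r : ℕ) (hr : 1 ≤ r) (J : X.Modules) (hJ : PicF.IsInvertible J)
    (hJL : Nonempty (bcMod p K J ≅ CohB1.tensorPow L r))
    (hML : ∃ (M₁ : X.Modules) (d₁ : ℕ), FlatMod.IsFinLocFree M₁ ∧
      (¬ IsZero M₁ ∧ ∀ A B : X.Modules, Nonempty (M₁ ≅ A ⊞ B) → IsZero A ∨ IsZero B) ∧
      Nonempty (bcMod p K M₁ ≅ pow L d₁))
    (E : X.Modules) (hE : FlatMod.IsFinLocFree E)
    (hEi : (¬ IsZero E ∧ ∀ A B : X.Modules, Nonempty (E ≅ A ⊞ B) → IsZero A ∨ IsZero B))
    (n : ℕ) (Ls : Fin n → (W4bk4gw11416.baseChange p K).Modules) (hLs : ∀ i, PicF.IsInvertible (Ls i))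
    (hEs : Nonempty (bcMod p K E ≅ ∐ Ls)) :
    (∃ (a : ℤ) (j : ℕ), j < r ∧ ∃ (M : X.Modules) (d : ℕ) (Ja : X.Modules) (hJa : PicF.IsInvertible Ja),
      FlatMod.IsFinLocFree M ∧ (¬ IsZero M ∧ ∀ A B : X.Modules, Nonempty (M ≅ A ⊞ B) → IsZero A ∨ IsZero B) ∧
      Nonempty (bcMod p K M ≅ pow (CohB1.tensorPow L j) d) ∧
      PicGrp.cls Ja hJa = PicGrp.cls J hJ ^ a ∧ Nonempty (E ≅ CohB1.tensorMod M Ja)) ∧
    (∀ (a a' : ℤ) (j j' : ℕ) (M M' : X.Modules) (d d' : ℕ) (Ja Ja' : X.Modules)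
      (hJa : PicF.IsInvertible Ja) (hJa' : PicF.IsInvertible Ja'),
      j < r → j' < r →
      (¬ IsZero M ∧ ∀ A B : X.Modules, Nonempty (M ≅ A ⊞ B) → IsZero A ∨ IsZero B) → (¬ IsZero M' ∧ ∀ A B : X.Modules, Nonempty (M' ≅ A ⊞ B) → IsZero A ∨ IsZero B) →
      Nonempty (bcMod p K M ≅ pow (CohB1.tensorPow L j) d) → Nonempty (bcMod p K M' ≅ pow (CohB1.tensorPow L j') d') →
      PicGrp.cls Ja hJa = PicGrp.cls J hJ ^ a → PicGrp.cls Ja' hJa' = PicGrp.cls J hJ ^ a' →
      Nonempty (E ≅ CohB1.tensorMod M Ja) → Nonempty (E ≅ CohB1.tensorMod M' Ja') → a = a' ∧ j = j') := by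
  haveI := ASBunK.isLocallyNoetherian_of_proper k p
  have hexp : ∀ (Q : (W4bk4gw11416.baseChange p K).Modules) (hQ : PicF.IsInvertible Q),
      ∃ z : ℤ, PicGrp.cls Q hQ = PicGrp.cls L hL ^ z := fun Q hQ =>
    ⟨Multiplicative.toAdd (e (PicGrp.cls Q hQ)), e.injective (by
      rw [map_zpow, he, ← ofAdd_zsmul, smul_eq_mul, mul_one, ofAdd_toAdd])⟩
  have hinj : ∀ z z' : ℤ, PicGrp.cls L hL ^ z = PicGrp.cls L hL ^ z' → z = z' := fun z z' h => by
    have := congrArg e h
    rw [map_zpow, map_zpow, he, ← ofAdd_zsmul, ← ofAdd_zsmul, smul_eq_mul, smul_eq_mul, mul_one, mul_one] at this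
    exact Multiplicative.ofAdd.injective this
  have hJc : ∀ (a : ℤ) (Ja : X.Modules) (hJa : PicF.IsInvertible Ja), PicGrp.cls Ja hJa = PicGrp.cls J hJ ^ a →
      PicGrp.pullHom (proj p K) hπ (PicGrp.cls Ja hJa) = PicGrp.cls L hL ^ ((r : ℤ) * a) := by
    intro a Ja hJa h
    rw [h, map_zpow, PicGrp.pullHom_cls, zpow_mul, zpow_natCast]
    refine congrArg (· ^ a) (Subtype.ext ?_)
    rw [PicGrp.cls_pow_val]
    exact (PicGrp.cl_eq_cl_iff _ _).2 hJL
  have hpow : ∀ j : ℕ, ∃ (N : (W4bk4gw11416.baseChange p K).Modules) (hN : PicF.IsInvertible N),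
      PicGrp.cls N hN = PicGrp.cls L hL ^ (j : ℤ) ∧ Nonempty (CohB1.tensorPow L j ≅ N) := fun j => by
    obtain ⟨N, hN, hNc⟩ := PicGrp.exists_eq_cls (PicGrp.cls L hL ^ j)
    refine ⟨N, hN, by rw [zpow_natCast, hNc], (PicGrp.cl_eq_cl_iff _ _).1 ?_⟩
    rw [← PicGrp.cls_pow_val hL, hNc]
    rfl
  choose N hN hNc hNi using hpow
  have hpos : ∀ (V : X.Modules), Coh.IsCoh V → ¬ IsZero V → ∀ (Q : (W4bk4gw11416.baseChange p K).Modules) (c : ℕ),
      Nonempty (bcMod p K V ≅ pow Q c) → 0 < c := fun V hV hV0 Q c ⟨i⟩ => Nat.pos_of_ne_zero fun h => hV0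
    (ASBunK.isZero_of_bcMod k p K hV (by subst h; exact (ASBunK.decOfIso i).isZero))
  refine ⟨?_, ?_⟩
  · obtain ⟨M₁, d₁, hM₁, hM₁i, ⟨iM₁⟩⟩ := hML
    have hd₁ := hpos M₁ (CurveDeg.isCoh_of_isFinLocFree hM₁) hM₁i.1 L d₁ ⟨iM₁⟩
    have hT : ∀ j : ℕ, ∃ (T : X.Modules) (D : ℕ), FlatMod.IsFinLocFree T ∧ 0 < D ∧
        Nonempty (bcMod p K T ≅ pow (CohB1.tensorPow L j) D) := fun j => by
      induction j with
      | zero =>
        exact ⟨Coh.structureModule X, 1, SBBundle.isFinLocFree_of_isInvertible (PicLoc.isInvertible_structureModule X),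
          one_pos, ⟨CurveBC.unitIso _ ≪≫ (coproductUniqueIso fun _ : Fin 1 =>
            Coh.structureModule (W4bk4gw11416.baseChange p K)).symm⟩⟩
      | succ j ih =>
        obtain ⟨T, D, hT, hD, ⟨iT⟩⟩ := ih
        exact ⟨CohB1.tensorMod T M₁, D * d₁, SBBundle.isFinLocFree_tensorMod hT hM₁, Nat.mul_pos hD hd₁,
          ASBunK.nonempty_bc_tensor iT iM₁ (Iso.refl _)⟩
    have hG : ∀ j : ℕ, ∃ (G : X.Modules) (d : ℕ), FlatMod.IsFinLocFree G ∧ ASBunK.Indec G ∧ 0 < d ∧
        Nonempty (bcMod p K G ≅ pow (N j) d) := fun j => by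
      obtain ⟨T, D, hT, hD, ⟨iT⟩⟩ := hT j
      obtain ⟨G, c, s, hG, hR, -, hs, -, eG⟩ := ASBunK.exists_indec_of_type k p K
        (ASBunK.indec_of_isInvertible_connected (hN j)) (CurveDeg.isCoh_of_isFinLocFree hT) hD
        ((ASBunK.decOfIso iT).mapIso fun _ => (hNi j).some).iso
      exact ⟨G, s, ASBunK.isFinLocFree_of_isRetr hR hT, hG, hs, eG⟩
    choose G d hGf hGi hd hGt using hG
    choose z hz using fun i => hexp (Ls i) (hLs i)
    have hr0 : (r : ℤ) ≠ 0 := by omega
    let jj : Fin n → ℕ := fun i => (z i % (r : ℤ)).toNat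
    have hjj : ∀ i, ((jj i : ℕ) : ℤ) = z i % (r : ℤ) := fun i => Int.toNat_of_nonneg (Int.emod_nonneg _ hr0)
    have hJa : ∀ i, ∃ (Ja : X.Modules) (hJa : PicF.IsInvertible Ja),
        PicGrp.cls Ja hJa = PicGrp.cls J hJ ^ (z i / (r : ℤ)) := fun i =>
      let ⟨Ja, hJa, h⟩ := PicGrp.exists_eq_cls (PicGrp.cls J hJ ^ (z i / (r : ℤ)))
      ⟨Ja, hJa, h.symm⟩
    choose Ja hJa hJac using hJa
    have hW : ∀ i, FlatMod.IsFinLocFree (CohB1.tensorMod (G (jj i)) (Ja i)) ∧
        ASBunK.Indec (CohB1.tensorMod (G (jj i)) (Ja i)) ∧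
        Nonempty (bcMod p K (CohB1.tensorMod (G (jj i)) (Ja i)) ≅ pow (Ls i) (d (jj i))) := fun i =>
      ASBunK.indec_tensor k p K hπ (hN _) (hLs i) (hGf _) (hGi _) (hJa i) (hd _) (hGt _).some (by
        rw [hJc _ _ (hJa i) (hJac i), hNc, ← zpow_add, hjj, hz i, Int.emod_add_mul_ediv])
    obtain ⟨i, hEW⟩ := ASBunK.exists_iso_of_absSplit k p K (CurveDeg.isCoh_of_isFinLocFree hE) hEi
      (ASBunK.decOfIso hEs.some) (fun i => CohB1.tensorMod (G (jj i)) (Ja i))
      (fun i => CurveDeg.isCoh_of_isFinLocFree (hW i).1) (fun i => (hW i).2.1) (fun i => d (jj i))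
      (fun i => hd _) (fun i => (hW i).2.2)
    refine ⟨z i / (r : ℤ), jj i, ?_, G (jj i), d (jj i), Ja i, hJa i, hGf _, hGi _, ?_, hJac i, hEW⟩
    · have h1 := Int.emod_lt_of_pos (z i) (show (0 : ℤ) < r by omega)
      have h2 := hjj i
      omega
    · exact ⟨((ASBunK.decOfIso (hGt (jj i)).some).mapIso fun _ => (hNi (jj i)).some.symm).iso⟩
  · intro a a' j j' M M' d d' Ja Ja' hJa hJa' hj hj' hMi hM'i eM eM' hac hac' hE1 hE2
    obtain ⟨V, hV, hVc⟩ := PicGrp.exists_eq_cls (PicGrp.cls L hL ^ ((j : ℤ) + r * a))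
    obtain ⟨V', hV', hV'c⟩ := PicGrp.exists_eq_cls (PicGrp.cls L hL ^ ((j' : ℤ) + r * a'))
    obtain ⟨t⟩ := ASBunK.type_tensor k p K hπ (hN j) hV hJa
      ((ASBunK.decOfIso eM.some).mapIso fun _ => (hNi j).some).iso (by rw [hJc a Ja hJa hac, hNc, ← zpow_add, hVc])
    obtain ⟨t'⟩ := ASBunK.type_tensor k p K hπ (hN j') hV' hJa'
      ((ASBunK.decOfIso eM'.some).mapIso fun _ => (hNi j').some).iso (by
        rw [hJc a' Ja' hJa' hac', hNc, ← zpow_add, hV'c])
    obtain ⟨hdd, hVV⟩ := ASBunK.mult_eq_of_type k p K hV hV' (CurveDeg.isCoh_of_isFinLocFree hE)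
      ((Scheme.Modules.pullback (proj p K)).mapIso hE1.some ≪≫ t)
      ((Scheme.Modules.pullback (proj p K)).mapIso hE2.some ≪≫ t')
    have hd : 0 < d := Nat.pos_of_ne_zero fun h => hEi.1 (ASBunK.isZero_of_bcMod k p K
      (CurveDeg.isCoh_of_isFinLocFree hE) (by
        subst h
        exact (ASBunK.decOfIso ((Scheme.Modules.pullback (proj p K)).mapIso hE1.some ≪≫ t)).isZero))
    have := (PicGrp.cls_eq_cls_iff hV hV').2 (hVV hd)
    rw [← hVc, ← hV'c] at this
    have hq := hinj _ _ this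
    have ha : a = a' := by
      by_contra hne
      rcases lt_or_gt_of_ne hne with hlt | hlt
      · have : (r : ℤ) * (a + 1) ≤ r * a' := Int.mul_le_mul_of_nonneg_left (by omega) (by omega)
        rw [mul_add, mul_one] at this
        omega
      · have : (r : ℤ) * (a' + 1) ≤ r * a := Int.mul_le_mul_of_nonneg_left (by omega) (by omega)
        rw [mul_add, mul_one] at this
        omega
    subst ha
    exact ⟨rfl, by omega⟩

end Groth.Agent.S15405
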