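import Groth.Statements.S15409
import Groth.Agent.ASBunK.TypePic
import Groth.Agent.CurveBC.Coh

set_option autoImplicit false
set_option backward.isDefEq.respectTransparency false
set_option backward.isDefEq.respectTransparency.types false
universe u
open CategoryTheory CategoryTheory.Limits AlgebraicGeometry
open ASBun

namespace Groth.Agent.S15409

open W4c1astiltbs12 in
/-- Let X be proper over a field k with k ≅ H⁰(X, O_X), K an algebraic closure of k with X_K connected
and projection π : X_K → X; assume the Picard group laws on X and X_K with pullback along π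
multiplicative, that Pic(X_K) is infinite cyclic generated by the class of an invertible module L,
and that J is an invertible O_X-module whose pullback to X_K has class the r-th power of the class
of L, r ≥ 1. Let j and a be integers and N, N' invertible O_{X_K}-modules with classes (cls L)^j and
(cls L)^{j'} where either j' = −j or j' = j + a·r. If W, W' are indecomposable finite locally free
O_X-modules (nonzero, and in any direct-sum decomposition one summand is zero) with π^*W ≅ N^{⊕d}
and π^*W' ≅ N'^{⊕d'}, then d = d': the rank of the indecomposable absolutely isotypical sheaf of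
type L^{⊗j} depends only on ±j modulo r. (The published statement phrases this for the sheaves
W_{L^{⊗j}}, whose existence for every j it assumes through an indecomposable absolutely isotypical
sheaf of type L; here the two sheaves are given, and r need not be minimal.) -/
theorem result (k : Type u) [Field k] {X : Scheme.{u}}
    (p : X ⟶ Spec (CommRingCat.of k)) [IsProper p] (hO : IsIso p.appTop) (K : Type u) [Field K] [Algebra k K] [IsAlgClosure k K]
    [ConnectedSpace ↥(W4bk4gw11416.baseChange p K)]
    [PicGrp.Law X] [PicGrp.Law (W4bk4gw11416.baseChange p K)] (hπ : PicGrp.PullMul (proj p K))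
    (L : (W4bk4gw11416.baseChange p K).Modules) (hL : PicF.IsInvertible L)
    (e : PicLoc.PicSet (W4bk4gw11416.baseChange p K) ≃* Multiplicative ℤ)
    (he : e (PicGrp.cls L hL) = Multiplicative.ofAdd 1)
    (r : ℕ) (hr : 1 ≤ r) (J : X.Modules) (hJ : PicF.IsInvertible J)
    (hJL : PicGrp.cls (bcMod p K J) (PicLoc.isInvertible_pullback (proj p K) hJ) = PicGrp.cls L hL ^ r)
    (j a j' : ℤ) (hj' : j' = -j ∨ j' = j + a * r)
    (N N' : (W4bk4gw11416.baseChange p K).Modules) (hN : PicF.IsInvertible N) (hN' : PicF.IsInvertible N')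
    (hNj : PicGrp.cls N hN = PicGrp.cls L hL ^ j) (hN'j : PicGrp.cls N' hN' = PicGrp.cls L hL ^ j')
    (W W' : X.Modules) (hW : FlatMod.IsFinLocFree W) (hW' : FlatMod.IsFinLocFree W')
    (hWi : (¬ IsZero W ∧ ∀ A B : X.Modules, Nonempty (W ≅ A ⊞ B) → IsZero A ∨ IsZero B)) (hW'i : (¬ IsZero W' ∧ ∀ A B : X.Modules, Nonempty (W' ≅ A ⊞ B) → IsZero A ∨ IsZero B))
    (d d' : ℕ) (eW : Nonempty (bcMod p K W ≅ pow N d)) (eW' : Nonempty (bcMod p K W' ≅ pow N' d')) :
    d = d' := by
  letI : X.Over (Spec (CommRingCat.of k)) := ⟨p⟩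
  haveI : IsProper (X ↘ Spec (CommRingCat.of k)) := inferInstanceAs (IsProper p)
  letI : (W4bk4gw11416.baseChange (X ↘ Spec (CommRingCat.of k)) K).Over (Spec (CommRingCat.of K)) :=
    ⟨W4bk4gw11416.baseChangeTo p K⟩
  haveI := ASBunK.isLocallyNoetherian_of_proper k p
  have hWc := CurveDeg.isCoh_of_isFinLocFree hW
  have hW'c := CurveDeg.isCoh_of_isFinLocFree hW'
  have hpos : ∀ (V : X.Modules), Coh.IsCoh V → ¬ IsZero V → ∀ (Q : (W4bk4gw11416.baseChange p K).Modules) (c : ℕ),
      Nonempty (bcMod p K V ≅ pow Q c) → 0 < c := fun V hV hV0 Q c ⟨i⟩ => Nat.pos_of_ne_zero fun h => hV0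
    (ASBunK.isZero_of_bcMod k p K hV (by subst h; exact (ASBunK.decOfIso i).isZero))
  have hd := hpos W hWc hWi.1 N d eW
  have hd' := hpos W' hW'c hW'i.1 N' d' eW'
  rcases hj' with h | h
  · have hK := ASBunK.exists_smul_id_structure_bc (X := X) k K rfl hO
    have hK0 := (ASBunK.indec_of_isInvertible_connected
      (PicLoc.isInvertible_structureModule (W4bk4gw11416.baseChange p K))).id_ne_zero
    have hmul : PicGrp.cls N hN * PicGrp.cls N' hN' = 1 := by
      rw [hNj, hN'j, h, ← zpow_add, add_neg_cancel, zpow_zero]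
    obtain ⟨i1⟩ := (PicGrp.cls_mul_cls_eq_one_iff hN hN').1 hmul
    obtain ⟨i2⟩ := (PicGrp.cls_mul_cls_eq_one_iff hN' hN).1 ((mul_comm _ _).trans hmul)
    exact Nat.dvd_antisymm
      (ASBunK.dvd_of_dual k K rfl hW hW'c hWi (ASBunK.exists_smul_id_of_structure K hK hN)
        (ASBunK.indec_of_isInvertible_connected hN).id_ne_zero i1 hK hK0 hd eW.some eW'.some)
      (ASBunK.dvd_of_dual k K rfl hW' hWc hW'i (ASBunK.exists_smul_id_of_structure K hK hN')
        (ASBunK.indec_of_isInvertible_connected hN').id_ne_zero i2 hK hK0 hd' eW'.some eW.some)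
  · obtain ⟨Ja, hJa, hJac⟩ := PicGrp.exists_eq_cls (PicGrp.cls J hJ ^ a)
    obtain ⟨hf, hWJi, ⟨iWJ⟩⟩ := ASBunK.indec_tensor k p K hπ hN hN' hW hWi hJa hd eW.some (by
      rw [← hJac, map_zpow, PicGrp.pullHom_cls, hJL, hNj, hN'j, h, ← zpow_natCast, ← zpow_mul, ← zpow_add,
        mul_comm (r : ℤ) a])
    exact (ASBunK.mult_eq_of_indec k p K hN' (CurveDeg.isCoh_of_isFinLocFree hf) hW'c hWJi hW'i iWJ eW'.some).1

end Groth.Agent.S15409
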