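import Groth.Statements.S15439
import Groth.Agent.AlgEqLib.Graph
import Groth.Agent.ArSurfBase.Proper
import Mathlib.AlgebraicGeometry.AlgClosed.Basic
-- import your own Groth.Agent.* helpers here

set_option autoImplicit false
universe u
open AlgEqCyc

namespace Groth.Agent.S15439

open AlgebraicGeometry CategoryTheory CategoryTheory.Limits in
/-- Let k be an algebraically closed field, X a scheme over k and C₁, …, Cₙ finitely many closed
subschemes of X, given as closed immersions ιᵢ : Cᵢ → X over k, such that each Cᵢ is smooth over k,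
projective over k, integral and of dimension one and such that the union of the ιᵢ(Cᵢ) is a
connected subset of X. Then for any two k-rational points P and Q of X lying on this union, the
zero-cycles [P] and [Q] on X are algebraically equivalent: [P] − [Q] lies in the subgroup of cycles
on X generated by the elementary algebraically trivial ones. (The published statement speaks of a
connected curve whose irreducible components are smooth and integral and of two of its points,
inside an ambient smooth projective scheme over an algebraically closed field of characteristic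
zero; this row takes any finite family of such curves with connected union in any k-scheme X, k
algebraically closed, and k-rational points.) -/
theorem result (k : Type u) [Field k]
    [IsAlgClosed k] (X : Scheme.{u}) [DecidableEq ↥X] (p : X ⟶ Spec (CommRingCat.of k)) (n : ℕ)
    (C : Fin n → Scheme.{u}) (q : (i : Fin n) → (C i ⟶ Spec (CommRingCat.of k)))
    (ι : (i : Fin n) → (C i ⟶ X)) (hι : ∀ i, IsClosedImmersion (ι i)) (hq : ∀ i, ι i ≫ p = q i)
    (hs : ∀ i, Smooth (q i)) (hpr : ∀ i, Neron.IsProjectiveOver k (Over.mk (q i)))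
    (hint : ∀ i, IsIntegral (C i)) (hd : ∀ i, topologicalKrullDim ↥(C i) = 1)
    (hconn : _root_.IsConnected (⋃ i, Set.range ⇑(ι i)))
    (P Q : Spec (CommRingCat.of k) ⟶ X) (hP : P ≫ p = 𝟙 _) (hQ : Q ≫ p = 𝟙 _)
    (hPC : P (IsLocalRing.closedPoint k) ∈ ⋃ i, Set.range ⇑(ι i))
    (hQC : Q (IsLocalRing.closedPoint k) ∈ ⋃ i, Set.range ⇑(ι i)) :
    AlgEqCyc.IsAlgEquiv p (Function.locallyFinsuppWithin.single (P (IsLocalRing.closedPoint k)) (1 : ℤ))
      (Function.locallyFinsuppWithin.single (Q (IsLocalRing.closedPoint k)) (1 : ℤ)) := by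
  classical
  have hprop : ∀ i, IsProper (q i) := fun i => Groth.Agent.ArSurfBase.isProper_of_isProjectiveOver (hpr i)
  let E : ↥X → ↥X → Prop := fun a b => AlgEqCyc.IsAlgEquiv p
    (Function.locallyFinsuppWithin.single a (1 : ℤ)) (Function.locallyFinsuppWithin.single b (1 : ℤ))
  have hE : ∀ i (a b : ↥(C i)), IsClosed ({a} : Set ↥(C i)) → IsClosed ({b} : Set ↥(C i)) →
      E (ι i a) (ι i b) := by
    intro i a b ha hb
    haveI := hint i; haveI := hι i; haveI := hprop i
    have h := Groth.Agent.AlgEqLib.isElemAlgTriv_single_sub_single p (q i) (ι i) (hq i) (hs i) (hpr i) (hd i)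
      (pointOfClosedPoint (q i) a ha) (pointOfClosedPoint (q i) b hb)
      (pointOfClosedPoint_comp _ _ _) (pointOfClosedPoint_comp _ _ _)
    rw [pointOfClosedPoint_apply, pointOfClosedPoint_apply] at h
    exact AddSubgroup.subset_closure h
  have hEsymm : ∀ {a b}, E a b → E b a := fun {a b} h => by
    show _ ∈ algTriv p
    rw [← neg_sub]
    exact neg_mem h
  have hEtrans : ∀ {a b c}, E a b → E b c → E a c := fun {a b c} h h' => by
    show _ ∈ algTriv p
    rw [← sub_add_sub_cancel _ (Function.locallyFinsuppWithin.single b (1 : ℤ))]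
    exact add_mem h h'
  have hclosed : ∀ (R : Spec (CommRingCat.of k) ⟶ X), R ≫ p = 𝟙 _ → ∀ i (a : ↥(C i)),
      ι i a = R (IsLocalRing.closedPoint k) → IsClosed ({a} : Set ↥(C i)) := by
    intro R hR i a ha
    haveI := hι i; haveI := hprop i
    let Z := pullback R (ι i)
    haveI : IsClosedImmersion (pullback.fst R (ι i)) := inferInstance
    obtain ⟨z, -, hz⟩ := Scheme.Pullback.exists_preimage_pullback (f := R) (g := ι i) _ a ha.symm
    let e : Z ⟶ Spec (CommRingCat.of k) := pullback.fst R (ι i)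
    have he : e = pullback.snd R (ι i) ≫ q i := by
      rw [← hq i, ← Category.assoc, ← pullback.condition, Category.assoc, hR, Category.comp_id]
    haveI : IsProper (pullback.snd R (ι i) ≫ q i) := he ▸ inferInstance
    haveI : IsProper (pullback.snd R (ι i)) := IsProper.of_comp (pullback.snd R (ι i)) (q i)
    have hz' : ({a} : Set ↥(C i)) = Set.range (pullback.snd R (ι i)) := by
      refine Set.eq_of_subset_of_subset (Set.singleton_subset_iff.2 ⟨z, hz⟩) ?_
      rintro _ ⟨w, rfl⟩
      haveI : Subsingleton ↥Z := (pullback.fst R (ι i)).isClosedEmbedding.injective.subsingleton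
      rw [Set.mem_singleton_iff, Subsingleton.elim w z, hz]
    rw [hz']
    exact (pullback.snd R (ι i)).isClosedMap.isClosed_range
  obtain ⟨i₀, a₀, ha₀⟩ := Set.mem_iUnion.1 hPC
  obtain ⟨j₀, b₀, hb₀⟩ := Set.mem_iUnion.1 hQC
  let G : Fin n → Prop := fun i => ∀ a : ↥(C i), IsClosed ({a} : Set ↥(C i)) → E (ι i₀ a₀) (ι i a)
  have hG₀ : G i₀ := fun a ha => hE i₀ a₀ a (hclosed P hP i₀ a₀ ha₀) ha
  let U : Set ↥X := ⋃ i : {i // G i}, Set.range ⇑(ι i.1)
  let V : Set ↥X := ⋃ i : {i // ¬ G i}, Set.range ⇑(ι i.1)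
  have hcl : ∀ i, IsClosed (Set.range ⇑(ι i)) := fun i => by
    haveI := hι i; exact (ι i).isClosedEmbedding.isClosed_range
  have hUc : IsClosed U := isClosed_iUnion_of_finite fun i => hcl _
  have hVc : IsClosed V := isClosed_iUnion_of_finite fun i => hcl _
  have hGall : ∀ i, G i := by
    intro i
    by_contra hi
    have hne : ((⋃ i, Set.range ⇑(ι i)) ∩ (U ∩ V)).Nonempty := by
      refine isPreconnected_closed_iff.1 hconn.isPreconnected U V hUc hVc ?_ ?_ ?_
      · refine Set.iUnion_subset fun j => ?_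
        by_cases hj : G j
        · exact fun x hx => Or.inl (Set.mem_iUnion.2 ⟨⟨j, hj⟩, hx⟩)
        · exact fun x hx => Or.inr (Set.mem_iUnion.2 ⟨⟨j, hj⟩, hx⟩)
      · exact ⟨_, hPC, Set.mem_iUnion.2 ⟨⟨i₀, hG₀⟩, a₀, ha₀⟩⟩
      · haveI := hint i
        exact ⟨_, Set.mem_iUnion.2 ⟨i, genericPoint ↥(C i), rfl⟩, Set.mem_iUnion.2 ⟨⟨i, hi⟩, genericPoint ↥(C i), rfl⟩⟩
    obtain ⟨x, -, hxU, hxV⟩ := hne
    obtain ⟨⟨u, hu⟩, a, hax⟩ := Set.mem_iUnion.1 hxU
    obtain ⟨⟨v, hv⟩, hxv⟩ := Set.mem_iUnion.1 hxV
    haveI := hι u; haveI := hι v; haveI := hprop u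
    haveI := LocallyOfFiniteType.jacobsonSpace (q u)
    obtain ⟨a', ha'v, ha'⟩ := nonempty_inter_closedPoints (Z := ι u ⁻¹' Set.range ⇑(ι v))
      ⟨a, show ι u a ∈ Set.range ⇑(ι v) from hax ▸ hxv⟩ ((hcl v).preimage (ι u).continuous).isLocallyClosed
    obtain ⟨b', hb'⟩ := ha'v
    have hb'c : IsClosed ({b'} : Set ↥(C v)) := by
      have h1 : IsClosed ({ι u a'} : Set ↥X) := by
        rw [← Set.image_singleton]
        exact (ι u).isClosedEmbedding.isClosedMap _ (mem_closedPoints_iff.1 ha')
      have h2 : ({b'} : Set ↥(C v)) = ι v ⁻¹' {ι u a'} := by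
        ext z
        simp only [Set.mem_singleton_iff, Set.mem_preimage, ← hb', (ι v).isClosedEmbedding.injective.eq_iff]
      exact h2 ▸ h1.preimage (ι v).continuous
    refine hv fun b hb => hEtrans (hu a' (mem_closedPoints_iff.1 ha')) ?_
    rw [← hb']
    exact hE v b' b hb'c hb
  have h := hGall j₀ b₀ (hclosed Q hQ j₀ b₀ hb₀)
  rw [ha₀, hb₀] at h
  exact h

end Groth.Agent.S15439
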