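import Groth.Statements.S15465
import Mathlib.CategoryTheory.Abelian.Refinements
-- import your own Groth.Agent.* helpers here

set_option autoImplicit false
universe v u
open HomAlg

namespace Groth.Agent.S15465

open CategoryTheory CategoryTheory.Limits in
/-- In an abelian category let 0 → A₂ → B₂ → C₂ → 0 (maps i₂, π₂), 0 → A₁ → A₂ → A₃ → 0 (maps i₁, p₁)
and 0 → C₁ → C₂ → C₃ → 0 (maps j, q) be short exact sequences, let α = i₁ ≫ i₂ : A₁ → B₂ and β = π₂
≫ q : B₂ → C₃, and let K = ker β / im α be the homology object of the complex A₁ → B₂ → C₃. Let f :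
A₃ → K be the map induced by i₂ (the unique map whose composite with p₁ is the homology class of the
cycle i₂) and g : K → C₁ the map induced by π₂ (the unique map whose composite with j is the map K →
C₂ induced by π₂). Then 0 → A₃ → K → C₁ → 0, with maps f and g, is a short exact sequence. (The
hypotheses w, h₂, h₃ are consequences of i₂ ≫ π₂ = 0, carried so that the maps can be named; the
published statement assumes in addition that the category has enough injective objects, which plays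
no role in this assertion.) -/
theorem result
    {C : Type u} [Category.{v} C] [Abelian C] {A₁ A₂ A₃ B₂ C₁ C₂ C₃ : C}
    (i₁ : A₁ ⟶ A₂) (p₁ : A₂ ⟶ A₃) (wA : i₁ ≫ p₁ = 0) (hA : (ShortComplex.mk i₁ p₁ wA).ShortExact)
    (i₂ : A₂ ⟶ B₂) (π₂ : B₂ ⟶ C₂) (wB : i₂ ≫ π₂ = 0) (hB : (ShortComplex.mk i₂ π₂ wB).ShortExact)
    (j : C₁ ⟶ C₂) (q : C₂ ⟶ C₃) (wC : j ≫ q = 0) (hC : (ShortComplex.mk j q wC).ShortExact)
    (w : (i₁ ≫ i₂) ≫ (π₂ ≫ q) = 0) (h₂ : i₂ ≫ (π₂ ≫ q) = 0) (h₃ : (i₁ ≫ i₂) ≫ π₂ = 0)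
    (f : A₃ ⟶ (CategoryTheory.ShortComplex.mk (i₁ ≫ i₂) (π₂ ≫ q) w).homology)
    (g : (CategoryTheory.ShortComplex.mk (i₁ ≫ i₂) (π₂ ≫ q) w).homology ⟶ C₁)
    (hf : p₁ ≫ f = (CategoryTheory.ShortComplex.mk (i₁ ≫ i₂) (π₂ ≫ q) w).liftCycles i₂ h₂ ≫ (CategoryTheory.ShortComplex.mk (i₁ ≫ i₂) (π₂ ≫ q) w).homologyπ)
    (hg : g ≫ j = (CategoryTheory.ShortComplex.mk (i₁ ≫ i₂) (π₂ ≫ q) w).homologyι ≫ (CategoryTheory.ShortComplex.mk (i₁ ≫ i₂) (π₂ ≫ q) w).descOpcycles π₂ h₃) :
    ∃ wfg : f ≫ g = 0, (ShortComplex.mk f g wfg).ShortExact := by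
  have hj : Mono j := hC.mono_f
  have hi₁ : Mono i₁ := hA.mono_f
  have hi₂ : Mono i₂ := hB.mono_f
  have hp : Epi p₁ := hA.epi_g
  have hπ : Epi π₂ := hB.epi_g
  let S := ShortComplex.mk (i₁ ≫ i₂) (π₂ ≫ q) w
  have hgπ : ∀ {T : C} (z : T ⟶ S.cycles), (z ≫ S.homologyπ) ≫ g ≫ j = (z ≫ S.iCycles) ≫ π₂ := fun z => by
    rw [hg, Category.assoc, Category.assoc, ShortComplex.homology_π_ι_assoc, ShortComplex.p_descOpcycles]
  have wfg : f ≫ g = 0 := by
    rw [← cancel_mono j, ← cancel_epi p₁, zero_comp, comp_zero, Category.assoc, reassoc_of% hf, ← Category.assoc,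
      hgπ, ShortComplex.liftCycles_i, wB]
  have hlift : ∀ {T : C} (x : T ⟶ S.homology), ∃ (T' : C) (e : T' ⟶ T) (_ : Epi e) (z : T' ⟶ S.cycles),
      e ≫ x = z ≫ S.homologyπ := fun x => surjective_up_to_refinements_of_epi S.homologyπ x
  have hex : (ShortComplex.mk f g wfg).Exact := by
    rw [ShortComplex.exact_iff_exact_up_to_refinements]
    intro T x (hx : x ≫ g = 0)
    obtain ⟨T', e, he, z, hz⟩ := hlift x
    have h0 : (z ≫ S.iCycles) ≫ π₂ = 0 := by rw [← hgπ, ← hz, Category.assoc, reassoc_of% hx, zero_comp, comp_zero]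
    refine ⟨T', e, he, hB.exact.lift (z ≫ S.iCycles) h0 ≫ p₁, ?_⟩
    show e ≫ x = (hB.exact.lift (z ≫ S.iCycles) h0 ≫ p₁) ≫ f
    rw [hz, Category.assoc, hf, ← Category.assoc]
    congr 1
    rw [← cancel_mono S.iCycles, Category.assoc, ShortComplex.liftCycles_i]
    exact (hB.exact.lift_f _ h0).symm
  have hmono : Mono f := Preadditive.mono_of_cancel_zero _ fun {T} x hx => by
    obtain ⟨T', e, he, a, ha⟩ := surjective_up_to_refinements_of_epi p₁ x
    have h0 : a ≫ S.liftCycles i₂ h₂ ≫ S.homologyπ = 0 := by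
      rw [← hf, ← reassoc_of% ha, hx, comp_zero]
    obtain ⟨T'', e', he', b, hb⟩ := (ShortComplex.exact_of_g_is_cokernel
      (ShortComplex.mk S.toCycles S.homologyπ S.toCycles_comp_homologyπ)
      S.homologyIsCokernel).exact_up_to_refinements (a ≫ S.liftCycles i₂ h₂)
      (show (a ≫ S.liftCycles i₂ h₂) ≫ S.homologyπ = 0 by rw [Category.assoc, h0])
    replace hb : e' ≫ a ≫ S.liftCycles i₂ h₂ = b ≫ S.toCycles := hb
    have h1 : e' ≫ a = b ≫ i₁ := by
      rw [← cancel_mono i₂]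
      have := congrArg (fun t => t ≫ S.iCycles) hb
      simp only [Category.assoc, ShortComplex.toCycles_i, ShortComplex.liftCycles_i] at this
      rw [Category.assoc, Category.assoc]
      exact this
    rw [← cancel_epi e, ← cancel_epi e', comp_zero, comp_zero, ha, ← Category.assoc, h1, Category.assoc, wA, comp_zero]
  have hepi : Epi g := by
    rw [epi_iff_surjective_up_to_refinements]
    intro T y
    obtain ⟨T', e, he, z, hz⟩ := surjective_up_to_refinements_of_epi π₂ (y ≫ j)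
    have hzq : z ≫ π₂ ≫ q = 0 := by rw [← reassoc_of% hz, wC, comp_zero, comp_zero]
    refine ⟨T', e, he, S.liftCycles z hzq ≫ S.homologyπ, ?_⟩
    refine (cancel_mono j).1 ((Category.assoc _ _ _).trans (hz.trans ?_))
    refine (congrArg (· ≫ π₂) (S.liftCycles_i z hzq)).symm.trans
      ((hgπ (S.liftCycles z hzq)).symm.trans ?_)
    exact (Category.assoc _ _ _).symm
  exact ⟨wfg, ⟨hex⟩⟩

end Groth.Agent.S15465
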