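import Groth.Statements.S15466
import Groth.Agent.DSites.Nine.Sections
-- import your own Groth.Agent.* helpers here

set_option autoImplicit false
universe v u
open HomAlg

namespace Groth.Agent.S15466

open CategoryTheory CategoryTheory.Limits in
/-- In an abelian category let 0 → A₂ → B₂ → C₂ → 0 (maps i₂, π₂), 0 → A₁ → A₂ → A₃ → 0 (maps i₁, p₁)
and 0 → C₁ → C₂ → C₃ → 0 (maps j, q) be short exact sequences, α = i₁ ≫ i₂, β = π₂ ≫ q, K = ker β /
im α, and let f : A₃ → K and g : K → C₁ be the maps induced by i₂ and π₂ (pinned by their defining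
squares), so that 0 → A₃ → K → C₁ → 0 is short exact. Sending a section s of g to the subobject B₁
of B₂ obtained by pulling the image of s back along ker β → K and then including ker β into B₂ is a
bijection from the sections of g (equivalently, the splittings of that sequence) onto the subobjects
B₁ of B₂ that complete the data to a 3 × 3 diagram with exact rows and columns: there are maps A₁ →
B₁ → C₁ over i₁ ≫ i₂ and under π₂ forming a short exact sequence, and maps A₃ → B₂/B₁ → C₃ under i₂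
and over π₂ ≫ q forming a short exact sequence. (The hypotheses w, h₂, h₃ are consequences of i₂ ≫
π₂ = 0, carried so that the maps can be named; the published statement assumes in addition that the
category has enough injective objects, which plays no role here.) -/
theorem result
    {C : Type u} [Category.{v} C] [Abelian C] {A₁ A₂ A₃ B₂ C₁ C₂ C₃ : C}
    (i₁ : A₁ ⟶ A₂) (p₁ : A₂ ⟶ A₃) (wA : i₁ ≫ p₁ = 0) (hA : (ShortComplex.mk i₁ p₁ wA).ShortExact)
    (i₂ : A₂ ⟶ B₂) (π₂ : B₂ ⟶ C₂) (wB : i₂ ≫ π₂ = 0) (hB : (ShortComplex.mk i₂ π₂ wB).ShortExact)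
    (j : C₁ ⟶ C₂) (q : C₂ ⟶ C₃) (wC : j ≫ q = 0) (hC : (ShortComplex.mk j q wC).ShortExact)
    (w : (i₁ ≫ i₂) ≫ (π₂ ≫ q) = 0) (h₂ : i₂ ≫ (π₂ ≫ q) = 0) (h₃ : (i₁ ≫ i₂) ≫ π₂ = 0)
    (f : A₃ ⟶ (CategoryTheory.ShortComplex.mk (i₁ ≫ i₂) (π₂ ≫ q) w).homology)
    (g : (CategoryTheory.ShortComplex.mk (i₁ ≫ i₂) (π₂ ≫ q) w).homology ⟶ C₁)
    (hf : p₁ ≫ f = (CategoryTheory.ShortComplex.mk (i₁ ≫ i₂) (π₂ ≫ q) w).liftCycles i₂ h₂ ≫ (CategoryTheory.ShortComplex.mk (i₁ ≫ i₂) (π₂ ≫ q) w).homologyπ)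
    (hg : g ≫ j = (CategoryTheory.ShortComplex.mk (i₁ ≫ i₂) (π₂ ≫ q) w).homologyι ≫ (CategoryTheory.ShortComplex.mk (i₁ ≫ i₂) (π₂ ≫ q) w).descOpcycles π₂ h₃) :
    (∀ B₁ : Subobject B₂,
      (∃ (a : A₁ ⟶ (B₁ : C)) (c : (B₁ : C) ⟶ C₁) (wac : a ≫ c = 0)
         (a' : A₃ ⟶ cokernel B₁.arrow) (c' : cokernel B₁.arrow ⟶ C₃) (wac' : a' ≫ c' = 0),
         a ≫ B₁.arrow = i₁ ≫ i₂ ∧ c ≫ j = B₁.arrow ≫ π₂ ∧ (ShortComplex.mk a c wac).ShortExact ∧
         p₁ ≫ a' = i₂ ≫ cokernel.π B₁.arrow ∧ cokernel.π B₁.arrow ≫ c' = π₂ ≫ q ∧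
         (ShortComplex.mk a' c' wac').ShortExact) ↔
      ∃ s : C₁ ⟶ (CategoryTheory.ShortComplex.mk (i₁ ≫ i₂) (π₂ ≫ q) w).homology, s ≫ g = 𝟙 C₁ ∧
        (Subobject.map (CategoryTheory.ShortComplex.mk (i₁ ≫ i₂) (π₂ ≫ q) w).iCycles).obj ((Subobject.pullback (CategoryTheory.ShortComplex.mk (i₁ ≫ i₂) (π₂ ≫ q) w).homologyπ).obj (imageSubobject s)) = B₁) ∧
    (∀ s s' : C₁ ⟶ (CategoryTheory.ShortComplex.mk (i₁ ≫ i₂) (π₂ ≫ q) w).homology, s ≫ g = 𝟙 C₁ → s' ≫ g = 𝟙 C₁ →
      (Subobject.map (CategoryTheory.ShortComplex.mk (i₁ ≫ i₂) (π₂ ≫ q) w).iCycles).obj ((Subobject.pullback (CategoryTheory.ShortComplex.mk (i₁ ≫ i₂) (π₂ ≫ q) w).homologyπ).obj (imageSubobject s)) = (Subobject.map (CategoryTheory.ShortComplex.mk (i₁ ≫ i₂) (π₂ ≫ q) w).iCycles).obj ((Subobject.pullback (CategoryTheory.ShortComplex.mk (i₁ ≫ i₂) (π₂ ≫ q) w).homologyπ).obj (imageSubobject s')) → s = s') := by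
  have hj : Mono j := hC.mono_f
  have hq : Epi q := hC.epi_g
  have hπ : Epi π₂ := hB.epi_g
  have hi₁ : Mono i₁ := hA.mono_f
  have hi₂ : Mono i₂ := hB.mono_f
  have hp : Epi p₁ := hA.epi_g
  let S := ShortComplex.mk (i₁ ≫ i₂) (π₂ ≫ q) w
  have hgπ : ∀ {T : C} (z : T ⟶ S.cycles), (z ≫ S.homologyπ) ≫ g ≫ j = (z ≫ S.iCycles) ≫ π₂ := fun z => by
    rw [hg, Category.assoc, Category.assoc, ShortComplex.homology_π_ι_assoc, ShortComplex.p_descOpcycles]
  have htoi : S.toCycles ≫ S.iCycles = i₁ ≫ i₂ := S.toCycles_i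
  refine ⟨fun B₁ => ⟨?_, ?_⟩, fun s s' hs hs' h => Groth.Agent.DSites.Nine.sub_injective (S := S) s s' hs hs' h⟩
  · rintro ⟨a, c, wac, a', c', wac', ha, hc, hac, -, -, -⟩
    have hce : Epi c := hac.epi_g
    let z : (B₁ : C) ⟶ S.cycles := S.liftCycles B₁.arrow (show B₁.arrow ≫ π₂ ≫ q = 0 by
      rw [← reassoc_of% hc, wC, comp_zero])
    have hzi : z ≫ S.iCycles = B₁.arrow := S.liftCycles_i _ _
    have haz : a ≫ z = S.toCycles := by
      rw [← cancel_mono S.iCycles, Category.assoc, hzi, ha, htoi]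
    have h0 : a ≫ z ≫ S.homologyπ = 0 := by
      rw [reassoc_of% haz, ShortComplex.toCycles_comp_homologyπ]
    let s : C₁ ⟶ S.homology := hac.exact.desc (z ≫ S.homologyπ) h0
    have hcs : c ≫ s = z ≫ S.homologyπ := hac.exact.g_desc (z ≫ S.homologyπ) h0
    have hsg : s ≫ g = 𝟙 C₁ := by
      rw [← cancel_epi c, ← cancel_mono j, reassoc_of% hcs, Category.assoc, Category.assoc, Category.comp_id, hc,
        ← Category.assoc z, hgπ z, hzi]
    have : Mono s := SplitMono.mono ⟨g, hsg⟩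
    refine ⟨s, hsg, ?_⟩
    apply le_antisymm
    · obtain ⟨z', t, hz', ht⟩ := Groth.Agent.DSites.Nine.exists_rep_sub s
      have hfac : B₁.Factors (Groth.Agent.DSites.Nine.sub S s).arrow := by
        obtain ⟨T, e, he, v, hv⟩ := surjective_up_to_refinements_of_epi c t
        replace hv : e ≫ t = v ≫ c := hv
        have hd : (e ≫ z' - v ≫ z) ≫ S.homologyπ = 0 := by
          rw [Preadditive.sub_comp, Category.assoc, ht, reassoc_of% hv, hcs, Category.assoc, sub_self]
        obtain ⟨T', e', he', b, hb⟩ := Groth.Agent.DSites.Nine.exists_boundary _ hd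
        refine Groth.Agent.DSites.Nine.factors_of_epi B₁ _ (e' ≫ e)
          ((Subobject.factors_iff B₁ _).2 ⟨b ≫ a + e' ≫ v, ?_⟩)
        have := congrArg (fun x => x ≫ S.iCycles) hb
        simp only [Preadditive.comp_sub, Preadditive.sub_comp, Category.assoc, hzi, hz', htoi] at this
        show (b ≫ a + e' ≫ v) ≫ B₁.arrow = (e' ≫ e) ≫ _
        rw [Preadditive.add_comp, Category.assoc, Category.assoc, Category.assoc, ha, ← this, sub_add_cancel]
      exact Subobject.le_of_comm (B₁.factorThru _ hfac) (B₁.factorThru_arrow _ hfac)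
    · have hfac : (Groth.Agent.DSites.Nine.sub S s).Factors B₁.arrow :=
        (Groth.Agent.DSites.Nine.factors_sub s _).2 ⟨z, c, hzi, hcs.symm⟩
      exact Subobject.le_of_comm (Subobject.factorThru _ _ hfac) (Subobject.factorThru_arrow _ _ hfac)
  · rintro ⟨s, hsg, hB₁⟩
    have : Mono s := SplitMono.mono ⟨g, hsg⟩
    subst hB₁
    let B := Groth.Agent.DSites.Nine.sub S s
    obtain ⟨z, t, hz, ht⟩ := Groth.Agent.DSites.Nine.exists_rep_sub (S := S) s
    replace hz : z ≫ S.iCycles = B.arrow := hz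
    have hfa : B.Factors (i₁ ≫ i₂) := (Groth.Agent.DSites.Nine.factors_sub s _).2
      ⟨S.toCycles, 0, htoi, by rw [ShortComplex.toCycles_comp_homologyπ, zero_comp]⟩
    let a : A₁ ⟶ (B : C) := B.factorThru _ hfa
    have ha : a ≫ B.arrow = i₁ ≫ i₂ := B.factorThru_arrow _ hfa
    have hc : t ≫ j = B.arrow ≫ π₂ := by
      rw [← hz, ← hgπ z, ht, Category.assoc, reassoc_of% hsg]
    have hamono : Mono a := mono_of_mono_fac ha
    have wac : a ≫ t = 0 := by
      rw [← cancel_mono j, Category.assoc, hc, reassoc_of% ha, wB, comp_zero, zero_comp]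
    have hte : Epi t := by
      rw [epi_iff_surjective_up_to_refinements]
      intro T y
      obtain ⟨T', e, he, z', hz'⟩ := surjective_up_to_refinements_of_epi S.homologyπ (y ≫ s)
      have hx : B.Factors (z' ≫ S.iCycles) :=
        (Groth.Agent.DSites.Nine.factors_sub s _).2 ⟨z', e ≫ y, rfl, by rw [Category.assoc, ← hz']⟩
      refine ⟨T', e, he, B.factorThru _ hx, ?_⟩
      rw [← cancel_mono j, Category.assoc, Category.assoc, hc, Subobject.factorThru_arrow_assoc, ← hgπ z', ← hz',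
        Category.assoc, Category.assoc, reassoc_of% hsg]
    have hactEx : (ShortComplex.mk a t wac).Exact := by
      rw [ShortComplex.exact_iff_exact_up_to_refinements]
      intro T x (hx : x ≫ t = 0)
      obtain ⟨T', e, he, b, hb⟩ := Groth.Agent.DSites.Nine.exists_boundary (S := S) (x ≫ z)
        (by rw [Category.assoc, ht, reassoc_of% hx, zero_comp])
      refine ⟨T', e, he, b, ?_⟩
      show e ≫ x = b ≫ a
      have := congrArg (fun y => y ≫ S.iCycles) hb
      simp only [Category.assoc] at this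
      rw [← cancel_mono B.arrow, Category.assoc, Category.assoc, ha, ← hz]
      exact this.trans (congrArg (b ≫ ·) htoi)
    let cm := cokernel.π B.arrow
    have hcm : (ShortComplex.mk B.arrow cm (cokernel.condition _)).Exact :=
      ShortComplex.exact_of_g_is_cokernel _ (cokernelIsCokernel B.arrow)
    have ha'0 : i₁ ≫ i₂ ≫ cm = 0 := by
      rw [← Category.assoc, ← ha, Category.assoc, cokernel.condition, comp_zero]
    let a' : A₃ ⟶ cokernel B.arrow := hA.exact.desc (i₂ ≫ cm) ha'0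
    have ha' : p₁ ≫ a' = i₂ ≫ cm := hA.exact.g_desc _ _
    have hc'0 : B.arrow ≫ π₂ ≫ q = 0 := by rw [← reassoc_of% hc, wC, comp_zero]
    let c' : cokernel B.arrow ⟶ C₃ := cokernel.desc _ (π₂ ≫ q) hc'0
    have hc' : cm ≫ c' = π₂ ≫ q := cokernel.π_desc _ _ _
    have wac' : a' ≫ c' = 0 := by
      rw [← cancel_epi p₁, reassoc_of% ha', hc', comp_zero, h₂]
    refine ⟨a, t, wac, a', c', wac', ha, hc, ShortComplex.ShortExact.mk' hactEx hamono hte, ha', hc',
      ShortComplex.ShortExact.mk' ?_ ?_ (epi_of_epi_fac hc')⟩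
    · rw [ShortComplex.exact_iff_exact_up_to_refinements]
      intro T x (hx : x ≫ c' = 0)
      obtain ⟨T', e, he, y, hy⟩ := surjective_up_to_refinements_of_epi cm x
      replace hy : e ≫ x = y ≫ cm := hy
      have hy0 : (y ≫ π₂) ≫ q = 0 := by
        rw [Category.assoc, ← hc', ← reassoc_of% hy, hx, comp_zero]
      let u := hC.exact.lift (y ≫ π₂) hy0
      have hu : u ≫ j = y ≫ π₂ := hC.exact.lift_f (y ≫ π₂) hy0
      obtain ⟨T'', e', he', v, hv⟩ := surjective_up_to_refinements_of_epi t u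
      replace hv : e' ≫ u = v ≫ t := hv
      have hd : (e' ≫ y - v ≫ B.arrow) ≫ π₂ = 0 := by
        rw [Preadditive.sub_comp, Category.assoc, Category.assoc, ← hu, ← hc, reassoc_of% hv, sub_self]
      let w' := hB.exact.lift (e' ≫ y - v ≫ B.arrow) hd
      have hw' : w' ≫ i₂ = e' ≫ y - v ≫ B.arrow := hB.exact.lift_f _ hd
      refine ⟨T'', e' ≫ e, inferInstance, w' ≫ p₁, ?_⟩
      show (e' ≫ e) ≫ x = (w' ≫ p₁) ≫ a'
      rw [Category.assoc, hy, Category.assoc, ha', reassoc_of% hw', Preadditive.sub_comp, Category.assoc,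
        Category.assoc, cokernel.condition, comp_zero, sub_zero]
    · exact Preadditive.mono_of_cancel_zero _ fun {T} x (hx : x ≫ a' = 0) => by
        obtain ⟨T', e, he, b, hb⟩ := surjective_up_to_refinements_of_epi p₁ x
        replace hb : e ≫ x = b ≫ p₁ := hb
        have hb0 : (b ≫ i₂) ≫ cm = 0 := by
          rw [Category.assoc, ← ha', ← reassoc_of% hb, hx, comp_zero]
        let u := hcm.lift (b ≫ i₂) hb0
        have hu : u ≫ B.arrow = b ≫ i₂ := hcm.lift_f _ hb0
        have hut : u ≫ t = 0 := by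
          rw [← cancel_mono j, Category.assoc, hc, reassoc_of% hu, wB, comp_zero, zero_comp]
        obtain ⟨T'', e', he', v, hv⟩ := hactEx.exact_up_to_refinements u hut
        replace hv : e' ≫ u = v ≫ a := hv
        have hbv : e' ≫ b = v ≫ i₁ := by
          rw [← cancel_mono i₂, Category.assoc, Category.assoc, ← hu, reassoc_of% hv, ha]
        rw [← cancel_epi e, ← cancel_epi e', comp_zero, comp_zero, hb, reassoc_of% hbv, wA, comp_zero]

end Groth.Agent.S15466
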