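import Mathlib
import Groth.Agent.S17853
import Groth.Statements.S15499
-- import your own Groth.Agent.* helpers here

set_option autoImplicit false
set_option linter.style.haveILetI false
open Polynomial LaurentPolynomial
open scoped TensorProduct
universe u
open CAlg

namespace Groth.Agent.S15499

/-- Let S = Spec R be a smooth connected affine complex variety, so that R is a finitely generated
smooth ℂ-algebra and an integral domain, and let F be a locally free sheaf of finite rank on the
projective line over S, presented by its two standard charts: a finitely generated projective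
R[X]-module P on the affine line over S, a finitely generated projective R[X]-module P' on the chart
at infinity, and an identification of their base changes to R[X, X⁻¹] that is additive, bijective
and semilinear over the R-algebra involution X ↦ X⁻¹. Then S is covered by basic open sets D(g_1),
…, D(g_n) such that F restricted to the affine line over each D(g_i) is free: the localisation of P
at g_i is a free module over the localisation of R[X] at g_i. -/
theorem result
    (R : Type u) [CommRing R] [IsDomain R] [Algebra ℂ R] [Algebra.FiniteType ℂ R]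
    [Algebra.Smooth ℂ R]
    (P : Type u) [AddCommGroup P] [Module R[X] P] [Module.Finite R[X] P]
    [Module.Projective R[X] P]
    (P' : Type u) [AddCommGroup P'] [Module R[X] P'] [Module.Finite R[X] P']
    [Module.Projective R[X] P']
    (e : R[T;T⁻¹] ⊗[R[X]] P ≃+ R[T;T⁻¹] ⊗[R[X]] P')
    (he : ∀ (a : R[T;T⁻¹]) (m : R[T;T⁻¹] ⊗[R[X]] P),
      e (a • m) = LaurentPolynomial.invert a • e m) :
    ∃ (n : ℕ) (g : Fin n → R), Ideal.span (Set.range g) = ⊤ ∧
      ∀ i, Module.Free (Localization.Away (Polynomial.C (g i) : R[X]))
        (LocalizedModule (Submonoid.powers (Polynomial.C (g i) : R[X])) P) := by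
  classical
  let L : (R[T;T⁻¹] ⊗[R[X]] P) →ₛₗ[(LaurentPolynomial.invert (R := R)).toRingEquiv.toRingHom]
      (R[T;T⁻¹] ⊗[R[X]] P') :=
    { toFun := e, map_add' := e.map_add, map_smul' := he }
  obtain ⟨P₀, _, _, ⟨φ⟩⟩ := (Groth.Agent.S17853.result R P).mpr
    ⟨P', inferInstance, inferInstance, inferInstance, inferInstance, L, e.bijective⟩
  haveI hfin : Module.Finite R[X] (R[X] ⊗[R] P₀) := Module.Finite.equiv φ
  haveI hproj : Module.Projective R[X] (R[X] ⊗[R] P₀) := Module.Projective.of_equiv φ
  haveI : Module.Projective R (R[X] ⊗[R] P₀) := by
    obtain ⟨s, hs⟩ := Module.projective_lifting_property (Finsupp.linearCombination R[X] (id : R[X] ⊗[R] P₀ → _))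
      LinearMap.id (Finsupp.linearCombination_id_surjective R[X] _)
    exact Module.Projective.of_split (s.restrictScalars R)
      ((Finsupp.linearCombination R[X] (id : R[X] ⊗[R] P₀ → _)).restrictScalars R)
      (LinearMap.ext fun x => LinearMap.congr_fun hs x)
  let incl : P₀ →ₗ[R] R[X] ⊗[R] P₀ := TensorProduct.mk R R[X] P₀ 1
  let ev : R[X] ⊗[R] P₀ →ₗ[R] P₀ :=
    (TensorProduct.lid R P₀).toLinearMap ∘ₗ (Polynomial.lcoeff R 0).rTensor P₀
  haveI : Module.Projective R P₀ := Module.Projective.of_split incl ev (LinearMap.ext fun x => by
    simp [incl, ev])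
  haveI : Module.FaithfullyFlat R R[X] := inferInstance
  haveI : Module.Finite R P₀ := Module.Finite.of_finite_tensorProduct_of_faithfullyFlat R[X]
  have htop : Ideal.span {r : R | Module.Free (Localization.Away r) (LocalizedModule.Away r P₀)} = ⊤ := by
    by_contra h
    obtain ⟨m, hm, hle⟩ := Ideal.exists_le_maximal _ h
    haveI : Module.FinitePresentation R P₀ := Module.finitePresentation_of_projective R P₀
    haveI : Module.Free (Localization.AtPrime m) (LocalizedModule m.primeCompl P₀) :=
      Module.free_of_flat_of_isLocalRing
    obtain ⟨r, hr, hfree, -⟩ := Module.FinitePresentation.exists_free_localizedModule_powers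
      m.primeCompl (LocalizedModule.mkLinearMap m.primeCompl P₀) (Localization.AtPrime m)
    exact hr (hle (Ideal.subset_span hfree))
  obtain ⟨F, hF, hF'⟩ := (Ideal.span_eq_top_iff_finite _).mp htop
  refine ⟨F.card, fun i => (F.equivFin.symm i : R), ?_, fun i => ?_⟩
  · rw [← hF']
    congr 1
    ext x
    constructor
    · rintro ⟨i, rfl⟩
      exact (F.equivFin.symm i).2
    · exact fun hx => ⟨F.equivFin ⟨x, hx⟩, by simp⟩
  · set r := (F.equivFin.symm i : R)
    haveI : Module.Free (Localization.Away r) (LocalizedModule.Away r P₀) := hF (F.equivFin.symm i).2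
    let S := Localization.Away (Polynomial.C r : R[X])
    letI : Algebra (Localization.Away r) S := (Localization.awayMap (Polynomial.C : R →+* R[X]) r).toAlgebra
    haveI : IsScalarTower R (Localization.Away r) S := IsScalarTower.of_algebraMap_eq fun a => by
      rw [RingHom.algebraMap_toAlgebra, Localization.awayMap, IsLocalization.Away.map, IsLocalization.map_eq]
      exact IsScalarTower.algebraMap_apply R R[X] S a
    haveI : Module.Free (Localization.Away r) (Localization.Away r ⊗[R] P₀) :=
      Module.Free.of_equiv (LocalizedModule.equivTensorProduct (Submonoid.powers r) P₀)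
    haveI : Module.Free S (S ⊗[R] P₀) :=
      Module.Free.of_equiv (TensorProduct.AlgebraTensorModule.cancelBaseChange R (Localization.Away r) S S P₀)
    haveI : Module.Free S (S ⊗[R[X]] (R[X] ⊗[R] P₀)) :=
      Module.Free.of_equiv (TensorProduct.AlgebraTensorModule.cancelBaseChange R R[X] S S P₀).symm
    exact Module.Free.of_equiv (((LocalizedModule.equivTensorProduct (Submonoid.powers (Polynomial.C r : R[X])) P).trans
      (TensorProduct.AlgebraTensorModule.congr (LinearEquiv.refl S S) φ)).symm)

end Groth.Agent.S15499
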