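import Groth.Statements.S15515
import Groth.Agent.PD70.ClosedExt
import Groth.Agent.BunLib68.Free

set_option linter.style.haveILetI false

set_option autoImplicit false
universe u
open CategoryTheory AlgebraicGeometry
open ProjDual

namespace Groth.Agent.S15515

/-- (iii) ⇒ (i): let k be a field and X a k-scheme of dimension n with a closed immersion ι into P^N_k
over k. Let (ω, t) be a dualizing sheaf for X: ω is a coherent O_X-module and t : H^n(X, ω) → k a
k-linear map such that for every coherent F and every k-linear form ψ on H^n(X, F) there is exactly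
one φ : F → ω with ψ = t ∘ H^n(φ). Suppose that for every coherent O_X-module F and every i ≤ n, the
group Ext^i(F, ω) in the category of all O_X-modules (the Ext instance is the stated hypothesis; it
holds) vanishes if and only if H^(n-i)(X, F) vanishes. Then the local ring of X at every closed
point is Cohen–Macaulay of Krull dimension n. (The published statement assumes X connected and that
the duality maps Ext^i(F, ω) → H^(n-i)(X, F)' are bijective for all i and F, and concludes that X is
Cohen–Macaulay; the weaker vanishing hypothesis used here suffices for the published proof, which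
also yields the dimension of the local rings at closed points.) -/
theorem result
    (k : Type u) [Field k] (N n : ℕ) (X : Scheme.{u}) [X.Over (Spec (CommRingCat.of k))]
    (ι : X ⟶ CohB1.ProjSpace N k) [IsClosedImmersion ι]
    (hι : ι ≫ CohB1.ProjSpace.toSpec N k = X ↘ Spec (CommRingCat.of k))
    (hn : topologicalKrullDim ↥X = n) [HasExt.{u} X.Modules]
    (ω : X.Modules) (hω : Coh.IsCoh ω) (t : Coh.HH X ω n →ₗ[k] k)
    (hdual : ∀ F : X.Modules, Coh.IsCoh F → ∀ ψ : Coh.HH X F n →ₗ[k] k,
        ∃! φ : F ⟶ ω, ∀ x : Coh.HH X F n,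
          ψ x = t (Sheaf.H.map ((SheafOfModules.toSheaf X.ringCatSheaf).map φ) n x))
    (h : ∀ F : X.Modules, Coh.IsCoh F → ∀ i : ℕ, i ≤ n →
        (Subsingleton (Abelian.Ext F ω i) ↔ Subsingleton (Coh.HH X F (n - i)))) :
    ∀ x : X, IsClosed ({x} : Set ↥X) →
      LocCoh.IsCohenMacaulayLocalRing (X.presheaf.stalk x) ∧ ringKrullDim (X.presheaf.stalk x) = n := by
  intro x hx
  haveI := Pic13Lib.isNoetherian ι
  refine (PD70.isCM_iff_le_depth hn x).2 ?_
  rcases n with _ | b
  · exact bot_le
  obtain ⟨m₀, hm⟩ := PD70.hvan_of_duality ι hι hω h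
  have hO := BunLib68.isFinLocFree_one (X := X)
  have := (PD70.hvan_closed_iff ι (CurveDeg.isCoh_of_isFinLocFree hO) b).1 ⟨m₀, fun m hmm j hj => by
    obtain ⟨c⟩ := H23.PicMul.comm (Coh.structureModule X) (Pic13Lib.hyp ι (-m))
    let e := c ≪≫ AmpleVan.twUnit.app (Pic13Lib.hyp ι (-m))
    have this := hm m hmm j (by omega) (by omega)
    refine ((Sheaf.functorH _ j).mapIso ((SheafOfModules.toSheaf X.ringCatSheaf).mapIso e)).addCommGroupIsoToAddEquiv.toEquiv.subsingleton_congr.2 ?_
    exact this⟩ x hx
  rw [← Hensel.depth_congr (RefX.unitStalk x)] at this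
  rw [Nat.cast_add, Nat.cast_one]
  exact Order.add_one_le_of_lt this

end Groth.Agent.S15515
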