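import Groth.Statements.S1552

import Groth.Agent.VarBase.DimOne.Shrink
import Groth.Agent.VarBase.DimOne.Pull

set_option autoImplicit false
set_option linter.style.haveILetI false
set_option linter.unusedSectionVars false
set_option backward.isDefEq.respectTransparency false
set_option backward.isDefEq.respectTransparency.types false
universe u
open CategoryTheory CategoryTheory.Limits AlgebraicGeometry
open Variety

namespace Groth.Agent.S1552

open Groth.Agent.VarBase.DimOne Groth.Agent.AModX Groth.Agent.InvX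

theorem exists_frame_near_fibre {X Y : Scheme.{u}} (f : X ⟶ Y) [IsFinite f] {L : X.Modules}
    (hL : PicF.IsInvertible L) (y : Y) :
    ∃ W : Y.Opens, y ∈ W ∧ ∃ e : Γ(L, f ⁻¹ᵁ W), IsFrame e := by
  obtain ⟨_, ⟨V₀, hV₀, rfl⟩, hyV₀, -⟩ :=
    Y.isBasis_affineOpens.exists_subset_of_mem_open (Set.mem_univ y) isOpen_univ
  have hd : ∀ x ∈ f ⁻¹' {y}, ∀ x' ∈ f ⁻¹' {y}, x ⤳ x' → x = x' := by
    intro x hx x' hx' h
    have := (f.isDiscrete_preimage_singleton y).1
    have h' : (⟨x, hx⟩ : f ⁻¹' {y}) ⤳ ⟨x', hx'⟩ := (subtype_specializes_iff _ _).2 h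
    exact congrArg Subtype.val h'.eq
  obtain ⟨O, s, hFO, hs⟩ := Groth.Agent.InvUfdLib.exists_frame_finset hL (hV₀.preimage f) (f ⁻¹' {y})
    (f.finite_preimage_singleton y)
    (fun x (hx : f x = y) => show f x ∈ V₀ from hx ▸ hyV₀) hd
  have hZ : IsClosed (f '' ((O : Set X)ᶜ)) := f.isClosedMap _ O.isOpen.isClosed_compl
  let W : Y.Opens := ⟨(f '' ((O : Set X)ᶜ))ᶜ, hZ.isOpen_compl⟩
  have hle : f ⁻¹ᵁ W ≤ O := fun x hx => not_not.1 fun h => hx ⟨x, h, rfl⟩
  refine ⟨W, ?_, res L hle s, hs.res hle⟩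
  rintro ⟨x, hx, rfl⟩
  exact hx (hFO rfl)

/-- Let f : X → Y be finite, and V ⊆ Y an open over which f is an isomorphism, with Y minus V a discrete
space. Then every invertible O_X-module is isomorphic to the pullback of an invertible O_Y-module. -/
theorem result {X Y : Scheme.{u}} (f : X ⟶ Y) [IsFinite f]
    (V : Y.Opens) (hV : IsIso (f ∣_ V)) (hdisc : DiscreteTopology ((V : Set Y)ᶜ : Set Y))
    (L : X.Modules) (hL : PicF.IsInvertible L) :
    ∃ N : Y.Modules, PicF.IsInvertible N ∧ Nonempty ((Scheme.Modules.pullback f).obj N ≅ L) := by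
  haveI := hV
  have hW : ∀ y : Y, ∃ W : Y.Opens, y ∈ W ∧ (∀ z ∈ W, z ∉ V → z = y) ∧
      ∃ e : Γ(L, f ⁻¹ᵁ W), IsFrame e := fun y => by
    obtain ⟨W, hyW, e, he⟩ := exists_frame_near_fibre f hL y
    obtain ⟨W₀, hyW₀, hW₀⟩ : ∃ W₀ : Y.Opens, y ∈ W₀ ∧ ∀ z ∈ W₀, z ∉ V → z = y := by
      by_cases hy : y ∈ V
      · exact ⟨V, hy, fun z hz hzV => absurd hz hzV⟩
      · exact exists_isolating hdisc hy
    exact ⟨W ⊓ W₀, ⟨hyW, hyW₀⟩, fun z hz => hW₀ z hz.2, _, he.res (f.preimage_mono inf_le_left)⟩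
  choose W hyW hWV e he using hW
  let P := (Scheme.Modules.pushforward f).obj L
  obtain ⟨N, φ, E, hN, hE, hφE, -⟩ := exists_glue P V W (fun y => ⟨y, hyW y⟩)
    (fun i j hij z hz => by_contra fun hzV => hij ((hWV i z hz.1 hzV).symm.trans (hWV j z hz.2 hzV)))
    (fun y => e y) fun y =>
      isFrame_pushforward f inf_le_right (f.preimage_mono inf_le_left) (he y)
  refine ⟨N, hN, nonempty_pullback_iso f φ W (fun x => ⟨f x, hyW _⟩) E hE fun y => ?_⟩
  rw [hφE]
  exact he y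

end Groth.Agent.S1552
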