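import Groth.Statements.S1553

import Groth.Agent.VarBase.GenDrop

set_option autoImplicit false
set_option linter.style.haveILetI false
set_option linter.unusedSectionVars false
set_option backward.isDefEq.respectTransparency false
set_option backward.isDefEq.respectTransparency.types false
universe u
open CategoryTheory CategoryTheory.Limits AlgebraicGeometry
open Variety

namespace Groth.Agent.S1553

open CategoryTheory AlgebraicGeometry Groth.Agent.VarBase

/-- Let f : X → Y be locally of finite type, x a point with image y such that the local ring of Y at y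
is Noetherian, and d a natural number such that at the generic points η of the irreducible
components of X passing through x we have f(η) ≠ y and local fibre dimension d. Then the local
dimension at x of the fibre over y is at most d + dim O_{Y,y} - 1 (written additively). -/
theorem result {X Y : Scheme.{u}} (f : X ⟶ Y) [LocallyOfFiniteType f]
    (x : X) [IsNoetherianRing (Y.presheaf.stalk (f.base x))] (d : ℕ)
    (hgen : ∀ Z ∈ irreducibleComponents (X : Type u), x ∈ Z → ∀ η : X, IsGenericPoint η Z →
      f.base η ≠ f.base x ∧ FlatMor.fibreDimAt f η = d) :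
    FlatMor.fibreDimAt f x + 1 ≤ (d : WithBot ℕ∞) + ringKrullDim (Y.presheaf.stalk (f.base x)) := by
  obtain ⟨z, hzx, hfz, he, -⟩ := FibDim.exists_fibreDimAt_eq f x
  obtain ⟨Z, η, hZ, hη, hηz, hzZ, hmax⟩ := GenDrop.exists_component z
  obtain ⟨hne, hd⟩ := hgen Z hZ ((hη.def ▸ isClosed_closure : IsClosed Z).stableUnderSpecialization hzx hzZ) η hη
  rw [GenDrop.fibreDimAt_of_maximal f hmax] at hd
  have hdd : FibDim.rd f η = d := by exact_mod_cast hd
  have key : IsNoetherianRing (Y.presheaf.stalk (f z)) := by rw [hfz]; infer_instance
  have := @GenDrop.rd_add_one_le _ _ f _ η z hηz (fun h => hne (h.trans hfz)) key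
  rw [hdd] at this
  have e : ringKrullDim (Y.presheaf.stalk (f z)) = ringKrullDim (Y.presheaf.stalk (f x)) := by rw [hfz]
  rw [he, ← e]
  exact_mod_cast this

end Groth.Agent.S1553
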