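import Groth.Statements.S15530
import Groth.Agent.DRHyp.PnHodge

set_option autoImplicit false
universe u
open Coherent

namespace Groth.Agent.S15530

open CategoryTheory AlgebraicGeometry in
/-- For a ring A, n ≥ 1 and an O-module L on projective n-space P^n_A which is a p-th exterior power of
the sheaf of relative differentials of P^n_A over A, the cohomology group H^q(P^n_A, L) = H^q(P^n_A,
Ω^p) is zero unless 0 ≤ p = q ≤ n, i.e. it vanishes when p ≠ q or n < p. -/
theorem result (A : Type u) [CommRing A] (n : ℕ) (hn : 1 ≤ n)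
    [QuasiSeparated (CohB1.ProjSpace.toSpec n A)] (p : ℕ) (L : (CohB1.ProjSpace n A).Modules)
    (hL : ExtPow.IsExtPow p (Omega.sheaf (CohB1.ProjSpace.toSpec n A)) L) (q : ℕ) (h : p ≠ q ∨ n < p) :
    Subsingleton (Coh.HH (CohB1.ProjSpace n A) L q) := by
  letI := MvPolynomial.gradedAlgebra (σ := Fin (n + 1)) (R := A)
  haveI : QuasiSeparated (Groth.Agent.PnCoh.toSpecR (Fin (n + 1)) A) :=
    ‹QuasiSeparated (CohB1.ProjSpace.toSpec n A)›
  have hM : Coh.IsQCoh L := Groth.Agent.DRHyp.PnHodge.isQCoh_of_charts hL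
  obtain ⟨φ, hφ⟩ := hL
  exact Groth.Agent.DRHyp.PnHodge.subsingleton_HH (ι := Fin (n + 1)) (R := A) φ hφ hM q
    (h.imp_right fun h => by rw [Fintype.card_fin]; omega)

end Groth.Agent.S15530
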