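import Groth.Statements.S1554

import Groth.Agent.VarBase.GenDrop

set_option autoImplicit false
set_option linter.style.haveILetI false
set_option linter.unusedSectionVars false
set_option backward.isDefEq.respectTransparency false
set_option backward.isDefEq.respectTransparency.types false
universe u
open CategoryTheory CategoryTheory.Limits AlgebraicGeometry
open Variety

namespace Groth.Agent.S1554

open CategoryTheory AlgebraicGeometry Groth.Agent.VarBase

/-- Let f : X → Y be locally of finite type, x a point with image y such that the local ring of Y at y
is Noetherian of dimension at most one, and d a natural number such that the local fibre dimension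
is d at the generic points of the irreducible components of X passing through x. Then the local
dimension at x of the fibre over y equals d. -/
theorem result {X Y : Scheme.{u}} (f : X ⟶ Y) [LocallyOfFiniteType f]
    (x : X) [IsNoetherianRing (Y.presheaf.stalk (f.base x))] (hdimY : ringKrullDim (Y.presheaf.stalk (f.base x)) ≤ 1) (d : ℕ)
    (hgen : ∀ Z ∈ irreducibleComponents (X : Type u), x ∈ Z → ∀ η : X, IsGenericPoint η Z → FlatMor.fibreDimAt f η = d) :
    FlatMor.fibreDimAt f x = d := by
  refine le_antisymm ?_ ?_
  · rw [FibDim.fibreDimAt_le_iff]
    intro z hzx hfz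
    obtain ⟨Z, η, hZ, hη, hηz, hzZ, hmax⟩ := GenDrop.exists_component z
    have hd := hgen Z hZ ((hη.def ▸ isClosed_closure : IsClosed Z).stableUnderSpecialization hzx hzZ) η hη
    rw [GenDrop.fibreDimAt_of_maximal f hmax] at hd
    have hdd : FibDim.rd f η = d := by exact_mod_cast hd
    by_cases hne : f η = f z
    · exact (FibDim.rd_le_of_specializes f hηz hne).trans hdd.le
    · have key : IsNoetherianRing (Y.presheaf.stalk (f z)) := by rw [hfz]; infer_instance
      have h1 := @GenDrop.rd_add_one_le _ _ f _ η z hηz hne key
      have e : ringKrullDim (Y.presheaf.stalk (f z)) = ringKrullDim (Y.presheaf.stalk (f x)) := by rw [hfz]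
      have h2 := h1.trans (add_le_add le_rfl (e.le.trans hdimY))
      rw [hdd] at h2
      have h3 : FibDim.rd f z + 1 ≤ d + 1 := by exact_mod_cast h2
      omega
  · obtain ⟨Z, η, hZ, hη, hηx, hxZ, hmax⟩ := GenDrop.exists_component x
    have hd := hgen Z hZ hxZ η hη
    exact hηx.mem_closed (FibDim.isClosed_le_fibreDimAt f d) hd.ge

end Groth.Agent.S1554
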