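import Groth.Statements.S15540
import Groth.Agent.CIntLib.ExtPowPull
import Groth.Agent.OmegaUniv.Universal
import Groth.Agent.Synt29.OmegaStalk
import Groth.Agent.S9370
import Groth.Agent.S9776

set_option autoImplicit false
universe u
open OmegaSh

namespace Groth.Agent.S15540

open CategoryTheory AlgebraicGeometry in
/-- For a commutative square of schemes g ≫ f = f' ≫ h with f : X → S and f' : X' → S' quasi-separated
and g : X' → X, h : S' → S étale, and an O_X-module L which is a p-th exterior power of the sheaf of
differentials Ω_{X/S}, the pulled-back module g^*L is a p-th exterior power of Ω_{X'/S'}. (The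
published statement is that the canonical map g^*Ω^p_{X/S} → Ω^p_{X'/S'} is an isomorphism; only the
resulting identification of g^*Ω^p_{X/S} as an exterior power is stated here. The published
statement is for arbitrary morphisms; quasi-separatedness of f and f′ is assumed here.) -/
theorem result (X S X' S' : Scheme.{u}) (f : X ⟶ S) (f' : X' ⟶ S')
    (g : X' ⟶ X) (h : S' ⟶ S) (w : g ≫ f = f' ≫ h) [Etale g] [Etale h] [QuasiSeparated f]
    [QuasiSeparated f'] (p : ℕ) (L : X.Modules) (hL : ExtPow.IsExtPow p (Omega.sheaf f) L) :
    ExtPow.IsExtPow p (Omega.sheaf f') ((Scheme.Modules.pullback g).obj L) := by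
  have hu := Groth.Agent.OmegaUniv.isUniversal_dOmega f
  obtain ⟨c, hc, -⟩ := Groth.Agent.S9370.result f f' g h (w).symm _ _ hu _ _
    (Groth.Agent.OmegaUniv.isUniversal_dOmega f')
  have := Groth.Agent.S9776.result f f' g h w _ _ hu _ _
    (Groth.Agent.OmegaUniv.isUniversal_dOmega f') c hc
  exact Groth.Agent.CIntLib.isExtPow_of_iso_left p
    (Groth.Agent.CIntLib.isExtPow_pullback g p (Groth.Agent.Synt29.OmegaStalk.isQCoh_of_isUniversal hu) hL)
    (CategoryTheory.asIso c)

end Groth.Agent.S15540
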