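import Groth.Statements.S15541
import Groth.Agent.H84RootTower.Frob
import Groth.Agent.H84RootTower.Scheme
import Groth.Agent.Quiet5.Syntomic
-- import your own Groth.Agent.* helpers here

set_option autoImplicit false
universe u
open FrobSch

namespace Groth.Agent.S15541

open CategoryTheory AlgebraicGeometry in
/-- For a prime p, a scheme S of characteristic p and a morphism f : X → S which is smooth of relative
dimension d, the relative Frobenius F_{X/S} : X → X^{(p)} is syntomic (the published assertion is
'finite syntomic'; finiteness of the relative Frobenius of a morphism locally of finite type is a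
separate known result and is not restated; the assertion about the trace maps Θ on de Rham complexes
is not stated here). -/
theorem result (p : ℕ) [Fact p.Prime] (S X : Scheme.{u})
    [FrobSch.IsCharP S p] (f : X ⟶ S) (d : ℕ) [SmoothOfRelativeDimension d f] :
    Synt.IsSyntomicMor (FrobSch.relFrob f p) := by
  open CategoryTheory AlgebraicGeometry Limits in
  · have this0 := Synt29.hasRingHomProperty_isSyntomicMor.{u}
    haveI hloc : IsZariskiLocalAtSource
      (fun {X Y : Scheme.{u}} (f : X ⟶ Y) => Synt.IsSyntomicMor f : MorphismProperty Scheme.{u}) := by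
      exact @HasRingHomProperty.instIsZariskiLocalAtSource _ _ this0
    haveI : FrobSch.IsCharP X p := FrobSch.IsCharP.of_hom f p
    choose V hV U hU hxU e hst using SmoothOfRelativeDimension.exists_isStandardSmoothOfRelativeDimension (n := d) (f := f)
    have h := IsZariskiLocalAtSource.iff_of_iSup_eq_top
      (P := (fun {X Y : Scheme.{u}} (f : X ⟶ Y) => Synt.IsSyntomicMor f : MorphismProperty Scheme.{u}))
      (f := FrobSch.relFrob f p) U
      (top_le_iff.1 fun y _ => TopologicalSpace.Opens.mem_iSup.2 ⟨y, hxU y⟩)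
    refine h.2 fun x => ?_
    have hfx : f x ∈ V x := e x (hxU x)
    haveI : Nonempty ↥(V x) := ⟨⟨f x, hfx⟩⟩
    haveI : Nonempty ↥(U x) := ⟨⟨x, hxU x⟩⟩
    haveI hA : CharP Γ(S, V x) p := (CharP.charP_iff_prime_eq_zero Fact.out).2 (FrobSch.natCast_eq_zero_app S p _)
    haveI hB : CharP Γ(X, U x) p := (CharP.charP_iff_prime_eq_zero Fact.out).2 (FrobSch.natCast_eq_zero_app X p _)
    letI : Algebra Γ(S, V x) Γ(X, U x) := (f.appLE (V x) (U x) (e x)).hom.toAlgebra
    haveI : Algebra.IsStandardSmoothOfRelativeDimension d Γ(S, V x) Γ(X, U x) := hst x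
    let g := H84RootTower.str Γ(S, V x) Γ(X, U x)
    have hg : g ≫ (hV x).fromSpec = (hU x).fromSpec ≫ f := (hV x).SpecMap_appLE_fromSpec f (hU x) (e x)
    let j : FrobSch.frobTwist g p ⟶ FrobSch.frobTwist f p :=
      pullback.map g (FrobSch.frob _ p) f (FrobSch.frob S p) (hU x).fromSpec (hV x).fromSpec (hV x).fromSpec hg
        (FrobSch.frob_comp p (hV x).fromSpec)
    haveI : IsOpenImmersion j := Scheme.pullback_map_isOpenImmersion _ _ _ _ _ _ _ _ _
    have hfac : (U x).ι ≫ FrobSch.relFrob f p = (hU x).isoSpec.hom ≫ (FrobSch.relFrob g p ≫ j) := by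
      apply pullback.hom_ext
      · simp only [Category.assoc, j, pullback.lift_fst, FrobSch.relFrob_fst, FrobSch.relFrob_fst_assoc]
        rw [FrobSch.frob_comp p (hU x).fromSpec, IsAffineOpen.isoSpec_hom_fromSpec_assoc]
      · simp only [Category.assoc, j, pullback.lift_snd, FrobSch.relFrob_snd, FrobSch.relFrob_snd_assoc]
        rw [hg, IsAffineOpen.isoSpec_hom_fromSpec_assoc]
    have hrt := H84RootTower.isRootTower_relFrob (p := p) (A := Γ(S, V x)) (C := Γ(X, U x)) (n := d)
    letI := (FrobAlg.relFrob p Γ(S, V x) Γ(X, U x)).toAlgebra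
    have hs := Quiet5.isSyntomic_of_isRootTower p (Fact.out : p.Prime).ne_zero d _ _ hrt
    have hSpec : Synt.IsSyntomicMor (FrobSch.relFrob g p ≫ j) := by
      refine Quiet5.isSyntomicMor_comp ?_ (S9699.result j)
      rw [← Category.comp_id (FrobSch.relFrob g p), ← (H84RootTower.twistIso Γ(S, V x) Γ(X, U x)).hom_inv_id,
        ← Category.assoc, H84RootTower.relFrob_Spec]
      refine Quiet5.isSyntomicMor_comp ?_ (S9699.result _)
      exact (HasRingHomProperty.Spec_iff
        (P := (fun {X Y : Scheme.{u}} (f : X ⟶ Y) => Synt.IsSyntomicMor f : MorphismProperty Scheme.{u}))).2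
        (Synt29.ringHomIsSyntomic_algebraMap.2 hs)
    show Synt.IsSyntomicMor ((U x).ι ≫ FrobSch.relFrob f p)
    rw [hfac]
    exact Quiet5.isSyntomicMor_comp (S9699.result _) hSpec

end Groth.Agent.S15541
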