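import Groth.Statements.S15548
import Mathlib
import Groth.Agent.TorBridge.KerNat

set_option autoImplicit false
universe u
open CategoryTheory
open CAlg

namespace Groth.Agent.S15548

open CategoryTheory Groth.Agent.TorBridge in
theorem exists_tor_map_eq_zero (R : Type u) [CommRing R] [IsNoetherianRing R] (I : Ideal R)
    (M : Type u) [AddCommGroup M] [Module R M] [Module.Finite R M] (n : ℕ) :
    ∃ m : ℕ, n ≤ m ∧ ∀ h : I ^ m ≤ I ^ n,
      ((CategoryTheory.Tor (ModuleCat.{u} R) 1).obj (ModuleCat.of R M)).map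
        (ModuleCat.ofHom (Submodule.factor h)) = 0 := by
  obtain ⟨r, q, hq⟩ := Module.Finite.exists_fin' R M
  let K := LinearMap.ker q
  obtain ⟨c, hc⟩ := Ideal.exists_pow_inf_eq_pow_smul I K
  refine ⟨n + c, by omega, fun h => ?_⟩
  let S : ShortComplex (ModuleCat.{u} R) :=
    ShortComplex.mk (ModuleCat.ofHom K.subtype) (ModuleCat.ofHom q) (ModuleCat.hom_ext (by
      ext x; exact x.2))
  have hS : S.ShortExact :=
    { exact := (ShortComplex.ShortExact.moduleCat_exact_iff_function_exact _).2 q.exact_subtype_ker_map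
      mono_f := (ModuleCat.mono_iff_injective _).2 K.subtype_injective
      epi_g := (ModuleCat.epi_iff_surjective _).2 hq }
  haveI : Module.Flat R S.X₂ := inferInstanceAs (Module.Flat R (Fin r → R))
  let g : ModuleCat.of R (R ⧸ I ^ (n + c)) ⟶ ModuleCat.of R (R ⧸ I ^ n) :=
    ModuleCat.ofHom (Submodule.factor h)
  refine ModuleCat.hom_ext (LinearMap.ext fun z => ?_)
  refine KerNat.θ_injective hS _ ?_
  refine Eq.trans ?_ (map_zero (KerNat.θ hS (ModuleCat.of R (R ⧸ I ^ n))).hom).symm
  refine (congrArg (fun φ => φ.hom z) (KerNat.θ_natural hS g) :).trans ?_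
  show g.hom.lTensor K ((KerNat.θ hS _).hom z) = 0
  set w := (KerNat.θ hS (ModuleCat.of R (R ⧸ I ^ (n + c)))).hom z
  have hw : K.subtype.rTensor (R ⧸ I ^ (n + c)) w = 0 := (KerNat.θ_range hS _ w).mpr ⟨z, rfl⟩
  clear_value w
  let e := TensorProduct.tensorQuotEquivQuotSMul K (I ^ (n + c))
  obtain ⟨k, hk⟩ : ∃ k : K, w = k ⊗ₜ Ideal.Quotient.mk (I ^ (n + c)) 1 := by
    obtain ⟨k, hk⟩ := Submodule.Quotient.mk_surjective _ (e w)
    refine ⟨k, e.injective ?_⟩
    rw [← hk, TensorProduct.tensorQuotEquivQuotSMul_tmul_mk, one_smul]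
  subst hk
  rw [LinearMap.rTensor_tmul] at hw
  have h1 : (k : Fin r → R) ∈ I ^ (n + c) • (⊤ : Submodule R (Fin r → R)) := by
    have := congrArg (TensorProduct.tensorQuotEquivQuotSMul (Fin r → R) (I ^ (n + c))) hw
    rw [map_zero, TensorProduct.tensorQuotEquivQuotSMul_tmul_mk, one_smul,
      Submodule.Quotient.mk_eq_zero] at this
    exact this
  have h2 : (k : Fin r → R) ∈ I ^ (n + c) • ⊤ ⊓ K := ⟨h1, k.2⟩
  rw [hc (n + c) (by omega), show n + c - c = n by omega] at h2
  have h3 : k ∈ I ^ n • (⊤ : Submodule R K) := by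
    refine (Submodule.mem_smul_top_iff (I ^ n) K k).mpr ?_
    exact Submodule.smul_mono le_rfl inf_le_right h2
  rw [LinearMap.lTensor_tmul]
  show k ⊗ₜ[R] Submodule.factor h (Ideal.Quotient.mk (I ^ (n + c)) 1) = 0
  refine (TensorProduct.tensorQuotEquivQuotSMul K (I ^ n)).injective ?_
  rw [map_zero]
  show TensorProduct.tensorQuotEquivQuotSMul K (I ^ n) (k ⊗ₜ[R] Ideal.Quotient.mk (I ^ n) 1) = 0
  rw [TensorProduct.tensorQuotEquivQuotSMul_tmul_mk, one_smul, Submodule.Quotient.mk_eq_zero]
  exact h3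


/-- Let R be a Noetherian commutative ring, I an ideal of R and M a finitely generated R-module. Then
for every natural number n there is m ≥ n such that the map Tor_1^R(M, R/I^m) → Tor_1^R(M, R/I^n)
induced by the projection R/I^m → R/I^n is the zero map. Here Tor_1^R(M, -) is the first left
derived functor of M ⊗_R - (derived in the second variable). -/
theorem result (R : Type u) [CommRing R] [IsNoetherianRing R] (I : Ideal R)
    (M : Type u) [AddCommGroup M] [Module R M] [Module.Finite R M] (n : ℕ) :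
    ∃ m : ℕ, n ≤ m ∧ ∀ h : I ^ m ≤ I ^ n,
      ((CategoryTheory.Tor (ModuleCat.{u} R) 1).obj (ModuleCat.of R M)).map
        (ModuleCat.ofHom (Submodule.factor h)) = 0 := by
  exact exists_tor_map_eq_zero R I M n

end Groth.Agent.S15548
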