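import Groth.Statements.S15559
import Groth.Agent.LimSm.Flat
import Groth.Agent.ConsPropLib.Approx
import Groth.Agent.H84PerfPic.Main

set_option autoImplicit false
universe u
open CategoryTheory AlgebraicGeometry
open FrobSch

namespace Groth.Agent.S15559

section

open CategoryTheory CategoryTheory.Limits AlgebraicGeometry Opposite
open Groth.Agent Groth.Agent.MorLib Groth.Agent.ConsPropLib

set_option backward.isDefEq.respectTransparency false
set_option backward.isDefEq.respectTransparency.types false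

variable {p : ℕ} [Fact p.Prime] {Y₀ : Scheme.{u}} [FrobSch.IsCharP Y₀ p]

/-- Every leg of the limit of the Frobenius tower is a perfection. -/
theorem bijective_leg {c : Cone (H9Misc.PerfSchLib.tower p Y₀)} [FrobSch.IsCharP c.pt p]
    (hP : FrobSch.IsPerfection (XP := c.pt) (X := Y₀) (c.π.app (op (ULift.up 0))) p)
    (hπn : ∀ n, (c.π.app (op (ULift.up (n + 1))) : c.pt ⟶ Y₀) ≫ FrobSch.frob Y₀ p = c.π.app (op (ULift.up n)))
    (n : ℕ) (T : Scheme.{u}) [FrobSch.IsCharP T p] (hT : FrobSch.IsPerfect T p) :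
    (c.π.app (op (ULift.up n)) : c.pt ⟶ Y₀) ≫ H84FrobPow.pw (p := p) Y₀ n = c.π.app (op (ULift.up 0)) ∧
    Function.Bijective (fun g : T ⟶ c.pt => g ≫ (c.π.app (op (ULift.up n)) : c.pt ⟶ Y₀)) := by
  have h0 : (c.π.app (op (ULift.up n)) : c.pt ⟶ Y₀) ≫ H84FrobPow.pw (p := p) Y₀ n = c.π.app (op (ULift.up 0)) := by
    induction n with
    | zero => exact Category.comp_id _
    | succ n ih => rw [H84FrobPow.pw_succ, H84FrobPow.pw_comp, ← Category.assoc, hπn, ih]
  haveI := H84PerfPic.isIso_pw (p := p) hT n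
  refine ⟨h0, fun a b e => (hP.2 T hT).1 ?_, fun (h : T ⟶ Y₀) => ?_⟩
  · show a ≫ _ = b ≫ _
    rw [← h0, ← Category.assoc, ← Category.assoc]
    exact congrArg (· ≫ _) e
  · obtain ⟨g, hg⟩ := (hP.2 T hT).2 (h ≫ H84FrobPow.pw (p := p) Y₀ n)
    refine ⟨g, ?_⟩
    change g ≫ _ = _ at hg
    rw [← h0, ← Category.assoc, ← H84FrobPow.pw_comp (p := p) (Y := Y₀) (g ≫ (c.π.app (op (ULift.up n)) : c.pt ⟶ Y₀)), ← H84FrobPow.pw_comp (p := p) h] at hg
    exact (cancel_epi _).1 hg

theorem final (p : ℕ) [Fact p.Prime]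
    {X Y Z Y₀ Z₀ : Scheme.{u}} [FrobSch.IsCharP X p] [FrobSch.IsCharP Y p] [FrobSch.IsCharP Z p]
    [FrobSch.IsCharP Y₀ p] [FrobSch.IsCharP Z₀ p]
    [CompactSpace ↥X] [QuasiSeparatedSpace ↥X] [CompactSpace ↥Y] [QuasiSeparatedSpace ↥Y]
    (hX : FrobSch.IsPerfect X p)
    (g₀ : Y₀ ⟶ X) [Flat g₀] [LocallyOfFinitePresentation g₀] [QuasiCompact g₀] [QuasiSeparated g₀]
    (πY : Y ⟶ Y₀) (hY : FrobSch.IsPerfection πY p)
    (f₀ : Z₀ ⟶ Y) [Flat f₀] [LocallyOfFinitePresentation f₀] [QuasiCompact f₀] [QuasiSeparated f₀]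
    (πZ : Z ⟶ Z₀) (hZ : FrobSch.IsPerfection πZ p) :
    ∃ (W₀ : Scheme.{u}) (h₀ : W₀ ⟶ X) (ϖ : Z ⟶ W₀),
      Flat h₀ ∧ LocallyOfFinitePresentation h₀ ∧ QuasiCompact h₀ ∧ QuasiSeparated h₀ ∧
        FrobSch.IsPerfection ϖ p ∧ ϖ ≫ h₀ = πZ ≫ f₀ ≫ πY ≫ g₀ ∧
          (Surjective g₀ → Surjective f₀ → Surjective h₀) := by
  haveI : CompactSpace Y₀ := QuasiCompact.compactSpace_of_compactSpace g₀
  haveI : QuasiSeparatedSpace Y₀ := quasiSeparatedSpace_of_quasiSeparated g₀
  obtain ⟨c, hc, hcp, hP, hπn, -⟩ := H84PerfApprox.exists_tower_perfection p Y₀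
  haveI := hcp
  obtain ⟨E, hE⟩ := H9Misc.PerfSchLib.exists_iso p hY hP
  let D := H9Misc.PerfSchLib.tower p Y₀
  haveI : ∀ i, CompactSpace (D.obj i) := fun _ => ‹CompactSpace Y₀›
  haveI : ∀ i, QuasiSeparatedSpace (D.obj i) := fun _ => ‹QuasiSeparatedSpace Y₀›
  haveI : ∀ {i j} (f : i ⟶ j), IsAffineHom (D.map f) := fun {i j} f => inferInstance
  let f : Z₀ ⟶ c.pt := f₀ ≫ E.hom
  haveI : Flat f := inferInstanceAs (Flat (f₀ ≫ E.hom))
  haveI : LocallyOfFinitePresentation f := inferInstanceAs (LocallyOfFinitePresentation (f₀ ≫ E.hom))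
  haveI : QuasiCompact f := inferInstanceAs (QuasiCompact (f₀ ≫ E.hom))
  haveI : QuasiSeparated f := inferInstanceAs (QuasiSeparated (f₀ ≫ E.hom))
  haveI : MorphismProperty.RespectsIso (@Flat : MorphismProperty Scheme.{u}) :=
    MorphismProperty.IsStableUnderBaseChange.respectsIso
  obtain ⟨m, X₁, fm, gm, hm⟩ := hasModel hc f
  haveI := hm.qc
  haveI := hm.qs
  haveI := hm.lfp
  obtain ⟨j, φ, hj⟩ := Desc.descend D c hc m (P := @Flat) (Q := @LocallyOfFinitePresentation) LimSm.core_flat fm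
    hm.lfp (Desc.of_two @Flat hm.sq (IsPullback.of_hasPullback _ _) inferInstance)
  have hM := hm.pushed φ
  obtain ⟨n, rfl⟩ : ∃ n : ℕ, j = op (ULift.up n) := ⟨j.unop.down, rfl⟩
  let W₀ := pullback fm (D.map φ)
  let fj : W₀ ⟶ Y₀ := pullback.snd fm (D.map φ)
  let gj : Z₀ ⟶ W₀ := hm.push φ
  let πn : c.pt ⟶ Y₀ := c.π.app (op (ULift.up n))
  have hsq : IsPullback gj f fj πn := hM.sq
  haveI : Flat fj := hj
  haveI : LocallyOfFinitePresentation fj := hM.lfp
  haveI : QuasiCompact fj := hM.qc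
  haveI : QuasiSeparated fj := hM.qs
  haveI := H84PerfPic.isIso_pw (p := p) hX n
  have h0 := (bijective_leg hP hπn n c.pt hP.1).1
  refine ⟨W₀, fj ≫ g₀ ≫ H84FrobPow.pw (p := p) X n, πZ ≫ gj, inferInstance, inferInstance, inferInstance,
    inferInstance, ⟨hZ.1, fun T _ hT => ⟨fun a b e => ?_, fun h => ?_⟩⟩, ?_, fun _ _ => ?_⟩
  · have hab : (a ≫ πZ) ≫ gj = (b ≫ πZ) ≫ gj := by simpa only [Category.assoc] using e
    refine (hZ.2 T hT).1 (hsq.hom_ext hab ((bijective_leg hP hπn n T hT).2.1 ?_))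
    show ((a ≫ πZ) ≫ f) ≫ πn = ((b ≫ πZ) ≫ f) ≫ πn
    rw [Category.assoc, Category.assoc (b ≫ πZ), ← hsq.w, ← Category.assoc, hab, Category.assoc]
  · obtain ⟨y, hy⟩ := (bijective_leg hP hπn n T hT).2.2 (h ≫ fj)
    obtain ⟨z, hz⟩ := (hZ.2 T hT).2 (hsq.lift h y hy.symm)
    refine ⟨z, ?_⟩
    show z ≫ πZ ≫ gj = h
    rw [← Category.assoc, show z ≫ πZ = _ from hz, IsPullback.lift_fst]
  · rw [Category.assoc, reassoc_of% hsq.w, ← hE, ← H84FrobPow.pw_comp (p := p) g₀ n, reassoc_of% h0]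
    simp only [f, Category.assoc]
  · rename_i hg hf
    haveI := hg
    haveI := hf
    haveI : Surjective fj := by
      obtain ⟨-, hu, hs⟩ := MorLib.isUnivHomeo_iff.1 (H84FrobPow.isUnivHomeo_pw (p := p) Y₀ n)
      haveI := hu
      haveI : Surjective (c.π.app (op (ULift.up 0)) : c.pt ⟶ Y₀) := H9Misc.PerfSchLib.surjective p (XP := c.pt) (X := Y₀) _ hP
      refine ⟨fun y => ?_⟩
      obtain ⟨w, hw⟩ := (c.π.app (op (ULift.up 0)) : c.pt ⟶ Y₀).surjective (H84FrobPow.pw (p := p) Y₀ n y)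
      obtain ⟨z, hz⟩ := f.surjective w
      refine ⟨gj z, (H84FrobPow.pw (p := p) Y₀ n).injective ?_⟩
      rw [← Scheme.Hom.comp_apply gj, hsq.w, Scheme.Hom.comp_apply, hz, ← Scheme.Hom.comp_apply, h0]
      exact hw
    infer_instance

end

/-- Call a morphism V → U of quasi-compact quasi-separated perfect schemes of characteristic p flat of
finite presentation in the perfect sense when it factors as V → V₀ → U with V → V₀ a perfection map
(V perfect and universal for morphisms from perfect schemes of characteristic p into V₀) and V₀ → U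
flat, locally of finite presentation, quasi-compact and quasi-separated; faithfully flat of finite
presentation when moreover V₀ → U is surjective. If Z → Y and Y → X are flat of finite presentation
in the perfect sense, so is the composite Z → X, and it is faithfully flat of finite presentation
when both are. Here the data are given as Y₀ → X with perfection map Y → Y₀ and Z₀ → Y with
perfection map Z → Z₀, and the conclusion produces W₀ → X with a perfection map Z → W₀ over X. (The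
published proposition is stated for pro-objects of perfections of schemes of finite type over a
perfect field and also for morphisms flat of profinite presentation; this row is its case of
schemes, which its proof treats first, with the base field replaced by characteristic p.) -/
theorem result (p : ℕ) [Fact p.Prime]
    {X Y Z Y₀ Z₀ : Scheme.{u}} [FrobSch.IsCharP X p] [FrobSch.IsCharP Y p] [FrobSch.IsCharP Z p]
    [FrobSch.IsCharP Y₀ p] [FrobSch.IsCharP Z₀ p]
    [CompactSpace ↥X] [QuasiSeparatedSpace ↥X] [CompactSpace ↥Y] [QuasiSeparatedSpace ↥Y]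
    [CompactSpace ↥Z] [QuasiSeparatedSpace ↥Z] (hX : FrobSch.IsPerfect X p)
    (g₀ : Y₀ ⟶ X) [Flat g₀] [LocallyOfFinitePresentation g₀] [QuasiCompact g₀] [QuasiSeparated g₀]
    (πY : Y ⟶ Y₀) (hY : FrobSch.IsPerfection πY p)
    (f₀ : Z₀ ⟶ Y) [Flat f₀] [LocallyOfFinitePresentation f₀] [QuasiCompact f₀] [QuasiSeparated f₀]
    (πZ : Z ⟶ Z₀) (hZ : FrobSch.IsPerfection πZ p) :
    ∃ (W₀ : Scheme.{u}) (h₀ : W₀ ⟶ X) (ϖ : Z ⟶ W₀),
      Flat h₀ ∧ LocallyOfFinitePresentation h₀ ∧ QuasiCompact h₀ ∧ QuasiSeparated h₀ ∧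
        FrobSch.IsPerfection ϖ p ∧ ϖ ≫ h₀ = πZ ≫ f₀ ≫ πY ≫ g₀ ∧
          (Surjective g₀ → Surjective f₀ → Surjective h₀) := by
  exact final p hX g₀ πY hY f₀ πZ hZ

end Groth.Agent.S15559
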