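import Groth.Statements.S15599
import Groth.Agent.Obs28.RadMain

set_option autoImplicit false
set_option linter.style.haveILetI false
universe u
open CategoryTheory MonoidalCategory CartesianMonoidalCategory MonObj GrpObj AlgebraicGeometry
open AGF
open Groth.Agent

namespace Groth.Agent.S15599

/-- Let k be an algebraically closed field and G a smooth affine k-group scheme, not necessarily
connected, whose unipotent radical is trivial: every smooth connected normal closed subgroup scheme
of G containing no non-trivial subtorus is trivial. Let N ⟶ G be a smooth closed normal subgroup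
scheme, not necessarily connected. Then N has the same property: every smooth connected closed
subgroup scheme of N which is normal in N and contains no non-trivial subtorus is trivial.
Reductivity, in this sense allowing disconnected groups, passes to smooth normal subgroups. (The
published statement is over an arbitrary field, with reductivity defined after extension to an
algebraic closure; this row is the algebraically closed case.) -/
theorem result (k : Type u) [Field k] [IsAlgClosed k]
    (G N : Over (Spec (CommRingCat.of k))) [GrpObj G] [GrpObj N] [IsAffine G.left] [Smooth G.hom]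
    (j : N ⟶ G) [IsMonHom j] (hj : IsClosedImmersion j.left) [Smooth N.hom] (hN : AlgGrp.IsNormalHom j)
    (hG : ∀ (U : Over (Spec (CommRingCat.of k))) [GrpObj U] (i : U ⟶ G) [IsMonHom i], IsClosedImmersion i.left → Smooth U.hom →
        ConnectedSpace ↥U.left → AlgGrp.IsNormalHom i → Red.HasNoSubtorus k U → Red.IsTrivialGrp U) :
    ∀ (U : Over (Spec (CommRingCat.of k))) [GrpObj U] (i : U ⟶ N) [IsMonHom i], IsClosedImmersion i.left → Smooth U.hom →
        ConnectedSpace ↥U.left → AlgGrp.IsNormalHom i → Red.HasNoSubtorus k U → Red.IsTrivialGrp U := by
  intro U _ iU _ hiU hUs hUc hUn hU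
  haveI := hj
  haveI := hUs
  haveI : IsAffine N.left := Obs28.isAffine_of_closed j
  obtain ⟨R, _, r, hr, hmax⟩ := Obs28.RadM.exists_max (G := N)
  obtain ⟨f, hf⟩ := hmax U iU ⟨‹_›, hiU, hUs, hUc, hUn, hU⟩
  have h := Obs28.RadM.isUN_comp_normal j hN hr hmax
  haveI := h.hom
  have hR : IsIso R.hom := hG R (r ≫ j) h.closed h.smooth h.connected h.normal h.noSub
  haveI : IsClosedImmersion (f.left ≫ r.left) := by rw [← Over.comp_left, hf]; exact hiU
  haveI := hr.closed
  haveI : IsClosedImmersion f.left := IsClosedImmersion.of_comp f.left r.left
  haveI : IsIso R.hom := hR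
  haveI : IsClosedImmersion (f.left ≫ R.hom) := inferInstance
  haveI : IsClosedImmersion U.hom := by rw [← Over.w f]; infer_instance
  haveI : Surjective U.hom :=
    ⟨fun x => ⟨η[U].left x, by rw [← Scheme.Hom.comp_apply, Over.w η[U]]; rfl⟩⟩
  haveI : IsReduced (Spec (CommRingCat.of k)) := inferInstance
  exact isIso_of_isClosedImmersion_of_surjective U.hom

end Groth.Agent.S15599
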