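import Groth.Statements.S15601
import Groth.Agent.AlgGrpQ.Kolchin

set_option autoImplicit false
universe u v
open HopfRep

namespace Groth.Agent.S15601

open Groth.Agent.ComodLib Groth.Agent.AlgGrpQ WithConv

/-- Let k be an algebraically closed field and G = Spec A a smooth connected affine k-group: A is a
finitely generated commutative Hopf algebra over k which is reduced and has no idempotents other
than 0 and 1. Suppose G is solvable, i.e. the group G(k) of k-algebra maps A → k under convolution
is solvable. Then the derived group of G is unipotent: every element of the commutator subgroup of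
G(k) acts in every finite-dimensional A-comodule by an operator u with u − 1 nilpotent. (Stated over
an algebraically closed field, where the derived group is determined by the commutators of k-points;
the case of a general field reduces to this one.) -/
theorem result (k : Type u) [Field k] [IsAlgClosed k]
    (A : Type v) [CommRing A] [HopfAlgebra k A] [Algebra.FiniteType k A] [IsReduced A]
    (hconn : ∀ e : A, IsIdempotentElem e → e = 0 ∨ e = 1)
    [Group.IsSolvable (WithConv (A →ₐ[k] k))]
    (g : WithConv (A →ₐ[k] k)) (hg : g ∈ commutator (WithConv (A →ₐ[k] k)))
    (V : Type v) [AddCommGroup V] [Module k V] [HopfRep.Comod k A V] [Module.Finite k V] :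
    IsNilpotent (HopfRep.Comod.act k A V g.ofConv - 1) := by
  have hT := isTrigonalizable_of_solvable k A hconn
  obtain ⟨F, hmono, hsub, hm, hr⟩ := exists_flag hT V
  have h0 : F 0 = ⊥ := Submodule.finrank_eq_zero.mp (hr 0 (Nat.zero_le _))
  refine isNilpotent_of_mem_fil (F := F) h0 hm ?_
  have hle : commutator (WithConv (A →ₐ[k] k)) ≤ filSubgroup (rho k A V) hmono (rho_mem_fil_zero hsub) 1 := by
    rw [commutator_def, Subgroup.commutator_le]
    exact fun a _ b _ => commutator_mem_of_sub_mem
      (sub_mem_fil_one_of_full hmono hm hr (rho_mem_fil_zero hsub a) (rho_mem_fil_zero hsub b))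
  exact hle hg

end Groth.Agent.S15601
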