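import Groth.Statements.S15606
import Groth.Agent.AlgGrpQ.GaQuot
import Groth.Agent.GrpSchLib.AffineHopf
import Groth.Agent.AlgSpLib.DescendLocally
import Mathlib.RingTheory.Bialgebra.SymmetricAlgebra
import Mathlib.RingTheory.Bialgebra.TensorProduct
import Mathlib.RingTheory.HopfAlgebra.TensorProduct

set_option autoImplicit false
universe u
open CategoryTheory MonoidalCategory CartesianMonoidalCategory MonObj GrpObj AlgebraicGeometry
open AlgGrp

namespace Groth.Agent.S15606

open Groth.Agent
open scoped TensorProduct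
open GrpSchLib.AffineHopf

theorem key (k : Type u) [Field k]
    (H : Over (Spec (CommRingCat.of k))) [GrpObj H] [IsAffine H.left] [Smooth H.hom]
    (f : sp k (SymmetricAlgebra k k) ⟶ H) [IsMonHom f] [IsFinite f.left] [Surjective f.left] :
    Nonempty (Grp.mk H ≅ Grp.mk (sp k (SymmetricAlgebra k k))) := by
  obtain ⟨ψ, hψ⟩ := AlgGrpQ.exists_polyEquiv k
  obtain ⟨B, _, _, ⟨eH⟩⟩ := exists_hopf H
  let eHi : H ⟶ sp k B := eH.inv.hom.hom
  let eHh : sp k B ⟶ H := eH.hom.hom.hom
  haveI : IsMonHom eHi := inferInstanceAs (IsMonHom eH.inv.hom.hom)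
  haveI : IsIso eHi.left := ((Over.forget _).mapIso ((Grp.forget _).mapIso eH.symm)).isIso_hom
  haveI : IsIso eHh.left := ((Over.forget _).mapIso ((Grp.forget _).mapIso eH)).isIso_hom
  let g : sp k (SymmetricAlgebra k k) ⟶ sp k B := f ≫ eHi
  haveI : IsMonHom g := inferInstanceAs (IsMonHom (f ≫ eHi))
  obtain ⟨φ, hφ⟩ := exists_bialgHom g
  haveI : IsIso eHi.left := ((Over.forget _).mapIso ((Grp.forget _).mapIso eH.symm)).isIso_hom
  have hgl : Spec.map (CommRingCat.ofHom (φ : B →ₐ[k] SymmetricAlgebra k k).toRingHom) =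
      f.left ≫ eHi.left := by
    rw [← Over.comp_left]
    exact (congrArg Over.Hom.left hφ).symm
  haveI : IsFinite eHi.left := MorphismProperty.of_isIso @IsFinite _
  haveI : Surjective eHi.left := MorphismProperty.of_isIso @Surjective _
  haveI hsurj : Surjective (Spec.map (CommRingCat.ofHom (φ : B →ₐ[k] SymmetricAlgebra k k).toRingHom)) := by
    rw [hgl]
    exact inferInstanceAs (Surjective (f.left ≫ eHi.left))
  have hfin : (φ : B →ₐ[k] SymmetricAlgebra k k).toRingHom.Finite := by
    have : IsFinite (Spec.map (CommRingCat.ofHom (φ : B →ₐ[k] SymmetricAlgebra k k).toRingHom)) := by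
      rw [hgl]
      exact inferInstanceAs (IsFinite (f.left ≫ eHi.left))
    rwa [IsFinite.SpecMap_iff] at this
  haveI : IsReduced H.left := AlgSpLib.isReduced_of_smooth H.hom
  haveI : IsOpenImmersion eHh.left := MorphismProperty.of_isIso @IsOpenImmersion _
  haveI : IsReduced (Spec (CommRingCat.of B)) := (isReduced_of_isOpenImmersion eHh.left : IsReduced (sp k B).left)
  haveI : _root_.IsReduced B := (affine_isReduced_iff (CommRingCat.of B)).mp inferInstance
  have hinj : Function.Injective φ := (injective_iff_map_eq_zero φ).mpr fun b hb => by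
    refine (nilpotent_iff_mem_prime.mpr fun P hP => ?_ : IsNilpotent b).eq_zero
    obtain ⟨Q, hQ⟩ := hsurj.surj ⟨P, hP⟩
    have : b ∈ (PrimeSpectrum.comap (φ : B →ₐ[k] SymmetricAlgebra k k).toRingHom Q).asIdeal := by
      show φ b ∈ Q.asIdeal
      rw [hb]; exact zero_mem _
    rwa [show PrimeSpectrum.comap (φ : B →ₐ[k] SymmetricAlgebra k k).toRingHom Q = ⟨P, hP⟩ from hQ] at this
  obtain ⟨θ⟩ := AlgGrpQ.nonempty_bialgEquiv_of_injective_to_Ga ψ hψ φ hinj (by
    by_contra! hall
    have h1 : (algebraMap k (Polynomial k)).Finite := by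
      have h2 : (ψ.symm.toAlgHom.toRingHom.comp (φ : B →ₐ[k] SymmetricAlgebra k k).toRingHom).Finite :=
        (RingHom.Finite.of_surjective _ ψ.symm.surjective).comp hfin
      have e : ψ.symm.toAlgHom.toRingHom.comp (φ : B →ₐ[k] SymmetricAlgebra k k).toRingHom =
          (algebraMap k (Polynomial k)).comp (Bialgebra.counitAlgHom k B).toRingHom := RingHom.ext fun b => by
        obtain ⟨c, hc⟩ := Submodule.mem_span_singleton.mp (hall b)
        have hc' : c = Coalgebra.counit (R := k) b := by
          have := congrArg (Coalgebra.counit (R := k)) hc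
          rwa [map_smul, Bialgebra.counit_one, smul_eq_mul, _root_.mul_one, CoalgHomClass.counit_comp_apply] at this
        show ψ.symm (φ b) = algebraMap k _ (Coalgebra.counit (R := k) b)
        rw [← hc, ← Algebra.algebraMap_eq_smul_one, AlgEquiv.commutes, hc']
      rw [e] at h2
      exact h2.of_comp_finite
    haveI : Module.Finite k (Polynomial k) := RingHom.finite_algebraMap.mp h1
    exact Polynomial.not_isField k ((Algebra.IsIntegral.isField_iff_isField (algebraMap k (Polynomial k)).injective).mp (Field.toIsField k)))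
  exact ⟨eH.symm.trans (spIso θ)⟩

set_option backward.isDefEq.respectTransparency false in
theorem bc' (R S T C : Type u) [CommRing R] [CommRing S] [CommRing T] [CommRing C] [Algebra R S] [HopfAlgebra R T]
    [HopfAlgebra S C] (e : C ≃ₐc[S] S ⊗[R] T) :
    Nonempty (Grp.mk (Red.bc (Spec.map (CommRingCat.ofHom (algebraMap R S))) (sp R T)) ≅ Grp.mk (sp S C)) := by
  obtain ⟨e2⟩ := nonempty_bc_sp (R := R) S T
  exact ⟨e2.trans (spIso e)⟩

/-- Additive case. Let k be a field, H an affine smooth connected k-group scheme, and f a homomorphism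
from the additive group over k to H which is finite and surjective (an isogeny onto H). Then H is
isomorphic, as a k-group scheme, to the additive group. In particular every quotient of the additive
group by a finite k-subgroup scheme is isomorphic to the additive group over k itself, for any field
k. -/
theorem result (k : Type u) [Field k]
    (H : Over (Spec (CommRingCat.of k))) [GrpObj H] [IsAffine H.left] [Smooth H.hom] [ConnectedSpace ↥H.left]
    (f : Red.Ga (Spec (CommRingCat.of k)) ⟶ H) [IsMonHom f] [IsFinite f.left] [Surjective f.left] :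
    Nonempty (Grp.mk H ≅ Grp.mk (Red.Ga (Spec (CommRingCat.of k)))) := by
  let R := ULift.{u} ℤ
  let : Algebra R k := ((algebraMap ℤ k).comp (ULift.ringEquiv.toRingHom)).toAlgebra
  obtain ⟨e1⟩ := nonempty_bc_iso (Limits.IsTerminal.from specULiftZIsTerminal (Spec (CommRingCat.of k)))
    (Spec.map (CommRingCat.ofHom (algebraMap R k))) (specULiftZIsTerminal.hom_ext _ _) Red.GaZ
  obtain ⟨θ⟩ := AlgGrpQ.nonempty_bialgEquiv_baseChange R k
  obtain ⟨e2⟩ := bc' R k _ _ θ
  let eC := (e1.trans e2).symm
  let f' := eC.hom.hom.hom ≫ f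
  haveI : IsMonHom f' := inferInstanceAs (IsMonHom (eC.hom.hom.hom ≫ f))
  haveI : IsIso eC.hom.hom.hom.left := ((Over.forget _).mapIso ((Grp.forget _).mapIso eC)).isIso_hom
  haveI : IsFinite f'.left := inferInstanceAs (IsFinite (eC.hom.hom.hom.left ≫ f.left))
  haveI : Surjective f'.left := inferInstanceAs (Surjective (eC.hom.hom.hom.left ≫ f.left))
  obtain ⟨e⟩ := key k H f'
  exact ⟨e.trans eC⟩

end Groth.Agent.S15606
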