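import Groth.Statements.S15607
import Groth.Agent.AlgGrpQ.GmIsogeny
import Groth.Agent.AlgSpLib.DescendLocally
import Groth.Agent.GrpSchLib.SmoothReduced
import Groth.Agent.CAlgOdd.GLChar
import Mathlib.AlgebraicGeometry.Morphisms.Smooth

set_option autoImplicit false
universe u
open CategoryTheory MonoidalCategory CartesianMonoidalCategory MonObj GrpObj AlgebraicGeometry
open AlgGrp

namespace Groth.Agent.S15607

open Groth.Agent GrpSchLib.AffineHopf TensorProduct

set_option backward.isDefEq.respectTransparency false in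
theorem key (k : Type u) [Field k] (A : Type u) [CommRing A] [HopfAlgebra k A] [Smooth (sp k A).hom]
    [ConnectedSpace ↥(sp k A).left] (f : sp k A ⟶ sp k (MonoidAlgebra k (Multiplicative ℤ))) [IsMonHom f]
    [IsFinite f.left] [Surjective f.left] :
    Nonempty (Grp.mk (sp k A) ≅ Grp.mk (sp k (MonoidAlgebra k (Multiplicative ℤ)))) := by
  obtain ⟨ψ, rfl⟩ := exists_bialgHom f
  have hS : (algebraMap k A).Smooth :=
    (HasRingHomProperty.Spec_iff (P := @Smooth)).mp ‹Smooth (sp k A).hom›
  haveI : Algebra.Smooth k A := RingHom.smooth_algebraMap.mp hS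
  haveI : Algebra.FiniteType k A := inferInstance
  haveI : _root_.IsReduced A := by
    haveI : IsReduced (sp k A).left := GrpSchLib.isReduced_of_smooth_field (sp k A).hom
    haveI : IsReduced (Spec (CommRingCat.of A)) := ‹IsReduced (sp k A).left›
    exact (affine_isReduced_iff (CommRingCat.of A)).mp ‹_›
  let K := AlgebraicClosure k
  haveI : _root_.IsReduced (K ⊗[k] A) := by
    haveI : Smooth (Spec.map (CommRingCat.ofHom (algebraMap K (K ⊗[k] A)))) :=
      (HasRingHomProperty.Spec_iff (P := @Smooth)).mpr (RingHom.smooth_algebraMap.mpr inferInstance)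
    haveI : IsReduced (Spec (CommRingCat.of (K ⊗[k] A))) :=
      GrpSchLib.isReduced_of_smooth_field (Spec.map (CommRingCat.ofHom (algebraMap K (K ⊗[k] A))))
    exact (affine_isReduced_iff (CommRingCat.of (K ⊗[k] A))).mp ‹_›
  haveI : ConnectedSpace (PrimeSpectrum A) := ‹ConnectedSpace ↥(sp k A).left›
  have hinj : Function.Injective ψ := (injective_iff_map_eq_zero ψ).mpr fun b hb => by
    haveI hs : Surjective (Spec.map (CommRingCat.ofHom (ψ : MonoidAlgebra k (Multiplicative ℤ) →ₐ[k] A).toRingHom)) :=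
      ‹Surjective (spMap (ψ : MonoidAlgebra k (Multiplicative ℤ) →ₐ[k] A)).left›
    refine (nilpotent_iff_mem_prime.mpr fun P hP => ?_ : IsNilpotent b).eq_zero
    obtain ⟨Q, hQ⟩ := hs.surj ⟨P, hP⟩
    have : b ∈ (PrimeSpectrum.comap (ψ : MonoidAlgebra k (Multiplicative ℤ) →ₐ[k] A).toRingHom Q).asIdeal := by
      show ψ b ∈ Q.asIdeal
      rw [hb]; exact zero_mem _
    rwa [show PrimeSpectrum.comap (ψ : MonoidAlgebra k (Multiplicative ℤ) →ₐ[k] A).toRingHom Q = ⟨P, hP⟩ from hQ] at this
  have hfin : (ψ : MonoidAlgebra k (Multiplicative ℤ) →ₐ[k] A).toRingHom.Finite := by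
    have : IsFinite (Spec.map (CommRingCat.ofHom (ψ : MonoidAlgebra k (Multiplicative ℤ) →ₐ[k] A).toRingHom)) :=
      ‹IsFinite (spMap (ψ : MonoidAlgebra k (Multiplicative ℤ) →ₐ[k] A)).left›
    rwa [IsFinite.SpecMap_iff] at this
  obtain ⟨θ⟩ := AlgGrpQ.GmIsogeny.nonempty_bialgEquiv (fun e he => CAlgOdd.GLChar.eq_zero_or_one_of_isIdempotentElem he)
    ψ hinj hfin
  exact ⟨spIso θ⟩

/-- Multiplicative case. Let k be a field, H a smooth connected k-group scheme, and f a homomorphism
from H to the multiplicative group over k which is finite and surjective (an isogeny). Then H is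
isomorphic, as a k-group scheme, to the multiplicative group: a smooth connected k-group isogenous
to the multiplicative group over k is the split one-dimensional torus. -/
theorem result (k : Type u) [Field k]
    (H : Over (Spec (CommRingCat.of k))) [GrpObj H] [Smooth H.hom] [ConnectedSpace ↥H.left]
    (f : H ⟶ Red.Gm (Spec (CommRingCat.of k))) [IsMonHom f] [IsFinite f.left] [Surjective f.left] :
    Nonempty (Grp.mk H ≅ Grp.mk (Red.Gm (Spec (CommRingCat.of k)))) := by
  obtain ⟨eZ⟩ := nonempty_DS_iso k ℤ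
  haveI : IsAffine (Red.Gm (Spec (CommRingCat.of k))).left := by
    haveI : IsAffine (sp k (MonoidAlgebra k (Multiplicative ℤ))).left := isAffine_Spec _
    haveI : IsIso eZ.inv.hom.hom.left := ((Over.forget _).mapIso ((Grp.forget _).mapIso eZ.symm)).isIso_hom
    exact IsAffine.of_isIso eZ.inv.hom.hom.left
  haveI : IsAffine H.left := isAffine_of_isAffineHom f.left
  obtain ⟨A, _, _, ⟨eH⟩⟩ := exists_hopf H
  let g := eH.hom.hom.hom ≫ f ≫ eZ.inv.hom.hom
  haveI : IsMonHom eH.hom.hom.hom := eH.hom.hom.isMonHom_hom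
  haveI : IsMonHom eZ.inv.hom.hom := eZ.inv.hom.isMonHom_hom
  haveI : IsMonHom g := inferInstanceAs (IsMonHom (eH.hom.hom.hom ≫ f ≫ eZ.inv.hom.hom))
  haveI : IsIso eH.hom.hom.hom.left := ((Over.forget _).mapIso ((Grp.forget _).mapIso eH)).isIso_hom
  haveI : IsIso eZ.inv.hom.hom.left := ((Over.forget _).mapIso ((Grp.forget _).mapIso eZ.symm)).isIso_hom
  haveI : IsFinite g.left := inferInstanceAs (IsFinite (eH.hom.hom.hom.left ≫ f.left ≫ eZ.inv.hom.hom.left))
  haveI : Surjective g.left := inferInstanceAs (Surjective (eH.hom.hom.hom.left ≫ f.left ≫ eZ.inv.hom.hom.left))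
  haveI : Smooth (sp k A).hom := by rw [← Over.w eH.hom.hom.hom]; infer_instance
  haveI : ConnectedSpace ↥(sp k A).left :=
    (Scheme.homeoOfIso ((Over.forget _).mapIso ((Grp.forget _).mapIso eH))).connectedSpace_iff.mpr ‹ConnectedSpace ↥H.left›
  obtain ⟨e⟩ := key k A g
  exact ⟨eH.symm.trans (e.trans eZ)⟩

end Groth.Agent.S15607
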