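import Groth.Statements.S15609
import Groth.Agent.AlgGrpQ.InfTrivial
import Groth.Agent.GrpSchLib.KernelGrp
import Groth.Agent.GrpSchLib.AntiAffineHom
import Mathlib.FieldTheory.IsAlgClosed.AlgebraicClosure

set_option autoImplicit false
universe u
open CategoryTheory MonoidalCategory CartesianMonoidalCategory MonObj GrpObj AlgebraicGeometry
open AlgGrp

namespace Groth.Agent.S15609

open Groth.Agent

/-- The implication (ii) ⇒ (i). Let k be a field and f : G ⟶ G' a homomorphism of k-group schemes of
finite type. Suppose that f is injective on K-points for every algebraically closed field K over k,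
and that f is injective on tangent spaces at the identity: every point of G with values in the dual
numbers k[ε] which restricts to the identity at ε = 0 and is sent by f to the identity point of G'
is itself the identity point. Then f has trivial kernel: it is a monomorphism. (The published
statement assumes G smooth; this implication does not use it.) -/
theorem result (k : Type u) [Field k]
    (G G' : Over (Spec (CommRingCat.of k))) [GrpObj G] [GrpObj G'] [LocallyOfFiniteType G.hom] [QuasiCompact G.hom]
    [LocallyOfFiniteType G'.hom] [QuasiCompact G'.hom] (f : G ⟶ G') [IsMonHom f]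
    (hgeom : ∀ (K : Type u) [Field K] [IsAlgClosed K] [Algebra k K],
      Function.Injective (fun g : (Over.mk (Spec.map (CommRingCat.ofHom (algebraMap k K)))) ⟶ G => g ≫ f))
    (htan : ∀ g : (Over.mk (Spec.map (CommRingCat.ofHom (algebraMap k (DualNumber k))))) ⟶ G,
      (∀ x : 𝟙_ (Over (Spec (CommRingCat.of k))) ⟶ (Over.mk (Spec.map (CommRingCat.ofHom (algebraMap k (DualNumber k))))), x ≫ g = η[G]) →
        g ≫ f = toUnit _ ≫ η[G'] → g = toUnit _ ≫ η[G]) :
    Mono f := by
  haveI : IsSeparated G'.hom := GrpSchLib.AntiAffine.isSeparated_grp G'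
  obtain ⟨N, _, i, _, _, -, hk⟩ := GrpSchLib.exists_kernel f
  haveI : LocallyOfFiniteType N.hom := by rw [← Over.w i]; infer_instance
  haveI : Mono i.left := inferInstance
  haveI : Mono i := Over.mono_of_mono_left i
  have hone : ∀ {T : Over (Spec (CommRingCat.of k))}, (toUnit T ≫ η[G]) = (1 : T ⟶ G) := fun {T} => by
    rw [MonObj.one_eq_one, MonObj.comp_one]
  have hif : ∀ {T : Over (Spec (CommRingCat.of k))} (n : T ⟶ N), (n ≫ i) ≫ f = 1 := fun {T} n => by
    rw [Category.assoc, hk.w, ← Category.assoc, MonObj.one_eq_one, MonObj.comp_one]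
  haveI hopen : IsOpenImmersion η[N].left := AlgGrpQ.isOpenImmersion_unit_of_tangent fun g hg => by
    rw [← cancel_mono i, Category.assoc, IsMonHom.one_hom i]
    refine htan (g ≫ i) (fun x => ?_) ?_
    · rw [← Category.assoc, hg x, IsMonHom.one_hom i]
    · rw [hif, MonObj.one_eq_one, MonObj.comp_one]
  haveI : Surjective η[N].left := ⟨fun p => by
    let K := AlgebraicClosure (N.left.residueField p)
    obtain ⟨ρ, hρ⟩ := Spec.map_surjective (N.left.fromSpecResidueField p ≫ N.hom)
    letI : Algebra k K := ((algebraMap (N.left.residueField p) K).comp ρ.hom).toAlgebra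
    let x : Over.mk (Spec.map (CommRingCat.ofHom (algebraMap k K))) ⟶ N :=
      Over.homMk (Spec.map (CommRingCat.ofHom (algebraMap (N.left.residueField p) K)) ≫ N.left.fromSpecResidueField p) (by
        show _ = Spec.map _
        rw [Category.assoc, ← hρ, ← Spec.map_comp]
        rfl)
    have hx : x = toUnit _ ≫ η[N] := by
      rw [← cancel_mono i, Category.assoc, IsMonHom.one_hom i]
      apply hgeom K
      show (x ≫ i) ≫ f = (toUnit _ ≫ η[G]) ≫ f
      rw [hif, hone, MonObj.one_comp]
    let q : ↥(Over.mk (Spec.map (CommRingCat.ofHom (algebraMap k K)))).left := (⊥ : PrimeSpectrum K)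
    refine ⟨(toUnit (Over.mk (Spec.map (CommRingCat.ofHom (algebraMap k K))))).left q, ?_⟩
    rw [← Scheme.Hom.comp_apply, ← Over.comp_left, ← hx]
    show N.left.fromSpecResidueField p _ = p
    exact Scheme.fromSpecResidueField_apply p _⟩
  haveI : IsIso η[N].left := isIso_iff_isOpenImmersion_and_epi_base _ |>.mpr ⟨inferInstance,
    (TopCat.epi_iff_surjective _).mpr η[N].left.surjective⟩
  haveI : IsIso ((Over.forget _).map η[N]) := ‹IsIso η[N].left›
  haveI : IsIso η[N] := isIso_of_reflects_iso η[N] (Over.forget _)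
  refine ⟨fun {T} g g' h => ?_⟩
  have h1 : (g * g'⁻¹) ≫ f = 1 := by
    rw [MonObj.mul_comp, GrpObj.inv_comp, h, mul_inv_cancel]
  obtain ⟨n, hn⟩ : ∃ n : T ⟶ N, n ≫ i = g * g'⁻¹ :=
    ⟨hk.lift (g * g'⁻¹) (toUnit _) (by rw [h1, MonObj.one_eq_one, MonObj.comp_one]), hk.lift_fst _ _ _⟩
  rw [show n = toUnit T ≫ η[N] by
    rw [← Category.comp_id n, ← IsIso.inv_hom_id η[N], ← Category.assoc, toUnit_unique (n ≫ inv η[N]) (toUnit T)],
    Category.assoc, IsMonHom.one_hom i, hone] at hn
  exact mul_inv_eq_one.mp hn.symm

end Groth.Agent.S15609
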