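import Groth.Statements.S15686
import Groth.Agent.ZH85.StackCount.Classes

set_option autoImplicit false
set_option linter.style.haveILetI false
universe u
open CategoryTheory AlgebraicGeometry MonObj
open StackCount

namespace Groth.Agent.S15686

/-- Let k be a finite field with algebraic closure k̄, G a smooth affine algebraic group over k acting
on a variety X over k (reduced and of finite type), and [X/G] the quotient stack whose objects over
a k-scheme T are G-torsors P → T (schemes, locally trivial for the étale topology) with a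
G-equivariant morphism P → X. Suppose the Galois cohomology set H¹(k, G) (continuous cocycles of
Gal(k̄/k) with values in G(k̄), up to equivalence) is finite, and choose for every class c a
continuous cocycle z_c in it, a twist X_c of X by z_c through the action (a k-scheme whose base
change to k̄ is identified with that of X so that the Galois action becomes x ↦ z_c(σ) · σx), and
the inner form G_c of G determined by z_c. If the groupoid of k-points of [X/G] is essentially
finite, then its point count (the sum over isomorphism classes of the inverse orders of the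
automorphism groups) equals the sum over the classes c of #X_c(k) / #G_c(k). (The published
statement is for the k′-points over any finite extension k′ of k and for any smooth algebraic group
G; this row is the case k′ = k, to which the general case reduces by base change, and takes G affine
so that every torsor is a scheme.) -/
theorem result (k : Type u) [Field k] [Finite k]
    (kb : Type u) [Field kb] [Algebra k kb] [IsAlgClosure k kb]
    (G : Over (Spec (CommRingCat.of k))) [GrpObj G] [Smooth G.hom] [IsAffineHom G.hom]
    (X : Over (Spec (CommRingCat.of k))) [LocallyOfFiniteType X.hom] [QuasiCompact X.hom]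
    [IsReduced X.left] (aX : AlgGrp.Action G X)
    [Fintype (GpH1.H1lc (kb ≃ₐ[k] kb) (SGA7.Pts kb G))]
    (z : GpH1.H1lc (kb ≃ₐ[k] kb) (SGA7.Pts kb G) → GpH1.OneCocycleLC (kb ≃ₐ[k] kb) (SGA7.Pts kb G))
    (hz : ∀ c, (z c).cl = c)
    (Xz : GpH1.H1lc (kb ≃ₐ[k] kb) (SGA7.Pts kb G) → Over (Spec (CommRingCat.of k)))
    (hXz : ∀ c, GalTw.IsActTwist kb aX (z c).1 (Xz c))
    (Gin : GpH1.H1lc (kb ≃ₐ[k] kb) (SGA7.Pts kb G) → Over (Spec (CommRingCat.of k)))
    [∀ c, GrpObj (Gin c)]
    (hGin : ∀ c, GalTw.IsInnTwist kb G (z c).1 (Gin c))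
    (h : StkCnt.IsEssFinite (StkCnt.pts (AlgSt.QuotSt Scheme.etalePrecoverage G aX) k)) :
    StkCnt.ptCount (AlgSt.QuotSt Scheme.etalePrecoverage G aX) k h =
      ∑ c : GpH1.H1lc (kb ≃ₐ[k] kb) (SGA7.Pts kb G),
        (Nat.card (SGA7.Pts k (Xz c)) : ℚ) / (Nat.card (SGA7.Pts k (Gin c)) : ℚ) := by
  classical
  haveI hfo := Groth.Agent.ZH85.StackCount.finite_orbits (k' := k) kb h
  refine (Groth.Agent.ZH85.StackCount.ptCount_eq_mass kb h).trans ?_
  let Φ := Equiv.ofBijective _ (Groth.Agent.ZH85.StackCount.classMap_bijective z hz)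
  haveI : Finite (MulAction.orbitRel.Quotient (SGA7.Pts kb G) (Groth.Agent.ZH85.StackCount.TwElt k kb G)) :=
    Finite.of_equiv _ Φ
  refine (Groth.Agent.ZH85.StackCount.mass_fibres (Groth.Agent.ZH85.StackCount.forgetPt k kb aX)).trans ?_
  rw [← finsum_eq_of_bijective Φ Φ.bijective (fun _ => rfl), finsum_eq_sum_of_fintype]
  refine Finset.sum_congr rfl fun c _ => ?_
  let n₀ := Groth.Agent.ZH85.StackCount.twElt (k := k) (kb := kb) ((z c).1 (Groth.Agent.ZH85.StackCount.frobK k k kb))
  have hn : Φ c = Quotient.mk _ n₀ := rfl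
  generalize hn' : Quotient.out (Φ c) = n
  obtain ⟨a, ha⟩ : ∃ a : SGA7.Pts kb G, a • n₀ = n := by
    rw [hn] at hn'
    subst hn'
    exact (Quotient.mk_out (s := MulAction.orbitRel (SGA7.Pts kb G) (Groth.Agent.ZH85.StackCount.TwElt k kb G)) n₀)
  haveI := Groth.Agent.ZH85.StackCount.finite_stabilizer_twElt n
  haveI := Groth.Agent.ZH85.StackCount.finite_fibre_forgetPt (aX := aX) n
  rw [Groth.Agent.ZH85.StackCount.mass_of_finite]
  obtain ⟨φX, hφX⟩ := hXz c
  obtain ⟨φG, -, hφG⟩ := hGin c
  congr 2
  · rw [Nat.card_congr (Groth.Agent.ZH85.StackCount.twistFixedEquiv (z c).1 φX hφX)]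
    refine Nat.card_congr ((MulAction.toPerm a).subtypeEquiv fun p => ?_).symm
    show Groth.Agent.ZH85.StackCount.forgetPt k kb aX p = n₀ ↔
      Groth.Agent.ZH85.StackCount.forgetPt k kb aX (a • p) = n
    rw [map_smul, ← ha]
    exact (MulAction.injective a).eq_iff.symm
  · rw [Nat.card_congr (Groth.Agent.ZH85.StackCount.innFixedEquiv (z c).1 φG hφG), ← ha,
      Groth.Agent.ZH85.StackCount.card_stabilizer_smul]

end Groth.Agent.S15686
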