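import Groth.Statements.S15692
import Groth.Agent.ZH85.StackCount.SubK
import Groth.Agent.ZH85.StackCount.Rational

set_option autoImplicit false
set_option backward.isDefEq.respectTransparency false
set_option backward.isDefEq.respectTransparency.types false
universe u
open CategoryTheory AlgebraicGeometry MonoidalCategory CartesianMonoidalCategory MonObj
open StackCount
open Groth.Agent.ZH85.StackCount

namespace Groth.Agent.S15692

/-- Let k be a finite field with q elements and algebraic closure k̄, and G a smooth affine algebraic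
group over k which is a semidirect product of closed subgroups H and U: the inclusions H → G and U →
G are homomorphisms, U is normal in G, and multiplication H × U → G, (h, u) ↦ h u, is an isomorphism
of k-schemes. Assume U is smooth, connected and unipotent (its base change to k̄ contains no
non-trivial subtorus), of dimension d. Let G act on a variety X over k (reduced, of finite type) and
let H act on X through its inclusion. If the groupoids of k-points of the quotient stacks [X/G] and
[X/H] (G- resp. H-torsors over Spec k as schemes, locally trivial for the étale topology, with an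
equivariant map to X) are essentially finite, then their point counts (sums over isomorphism classes
of the inverse orders of the automorphism groups) satisfy #[X/G](k) · q^d = #[X/H](k). (The
published statement is for the k′-points over any finite extension k′ of k; this row is the case k′
= k, to which the general case reduces by base change, and takes the groups affine so that torsors
are schemes.) -/
theorem result (k : Type u) [Field k] [Finite k]
    (kb : Type u) [Field kb] [Algebra k kb] [IsAlgClosure k kb]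
    (G H U : Over (Spec (CommRingCat.of k))) [GrpObj G] [GrpObj H] [GrpObj U]
    [Smooth G.hom] [IsAffineHom G.hom] [Smooth H.hom] [IsAffineHom H.hom]
    [Smooth U.hom] [IsAffineHom U.hom] [ConnectedSpace U.left]
    (iH : H ⟶ G) (iU : U ⟶ G) [IsMonHom iH] [IsMonHom iU] [Mono iH] [Mono iU]
    (hUn : AlgGrp.IsNormalHom iU) (hsd : IsIso ((fst H U ≫ iH) * (snd H U ≫ iU)))
    (hUu : Red.HasNoSubtorus kb (GalTw.bcK kb U))
    (d : ℕ) (hd : topologicalKrullDim ↥U.left = (d : WithBot ℕ∞))
    (X : Over (Spec (CommRingCat.of k))) [LocallyOfFiniteType X.hom] [QuasiCompact X.hom]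
    [IsReduced X.left] (aG : AlgGrp.Action G X) (aH : AlgGrp.Action H X)
    (haH : aH.act = (iH ▷ X) ≫ aG.act)
    (hG : StkCnt.IsEssFinite (StkCnt.pts (AlgSt.QuotSt Scheme.etalePrecoverage G aG) k))
    (hH : StkCnt.IsEssFinite (StkCnt.pts (AlgSt.QuotSt Scheme.etalePrecoverage H aH) k)) :
    StkCnt.ptCount (AlgSt.QuotSt Scheme.etalePrecoverage G aG) k hG * (Nat.card k : ℚ) ^ d =
      StkCnt.ptCount (AlgSt.QuotSt Scheme.etalePrecoverage H aH) k hH := by
  classical
  haveI : IsAlgClosed kb := IsAlgClosure.isAlgClosed k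
  let m : H ⊗ U ⟶ G := (fst H U ≫ iH) * (snd H U ≫ iU)
  haveI : IsIso m := hsd
  -- the inclusion is closed
  haveI : IsClosedImmersion iU.left := by
    let sec : U ⟶ H ⊗ U := lift 1 (𝟙 U)
    have hsec : sec.left ≫ (snd H U).left = 𝟙 _ := congrArg CommaMorphism.left (lift_snd (1 : U ⟶ H) (𝟙 U))
    haveI : IsAffineHom (snd H U).left :=
      MorphismProperty.of_isPullback ((AlgSt.isPullback_fst_snd H U).map (Over.forget _))
        (show IsAffineHom (toUnit H).left from ‹IsAffineHom H.hom›)
    haveI : IsClosedImmersion sec.left := by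
      haveI : IsClosedImmersion (sec.left ≫ (snd H U).left) := by
        rw [hsec]; exact inferInstanceAs (IsClosedImmersion (𝟙 U.left))
      exact IsClosedImmersion.of_comp sec.left (snd H U).left
    haveI : IsIso m.left := (Over.forget _).map_isIso m
    have h : sec ≫ m = iU := by
      show lift 1 (𝟙 U) ≫ _ = _
      rw [MonObj.comp_mul, lift_fst_assoc, lift_snd_assoc, MonObj.one_comp, Category.id_comp, _root_.one_mul]
    rw [← h]
    exact inferInstanceAs (IsClosedImmersion (sec.left ≫ m.left))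
  -- the projection to `H`
  let ΓG := SGA7.Pts kb G
  let ΓH := SGA7.Pts kb H
  have hdec : ∀ g : ΓG, ((g ≫ inv m ≫ fst H U) ≫ iH) * ((g ≫ inv m ≫ snd H U) ≫ iU) = g := fun g => by
    calc ((g ≫ inv m ≫ fst H U) ≫ iH) * ((g ≫ inv m ≫ snd H U) ≫ iU) = (g ≫ inv m) ≫ m := by
          rw [MonObj.comp_mul]; simp only [Category.assoc]
      _ = g := by rw [Category.assoc, IsIso.inv_hom_id, Category.comp_id]
  have huniq : ∀ (g : ΓG) (h : ΓH) (u : SGA7.Pts kb U), (h ≫ iH) * (u ≫ iU) = g →
      g ≫ inv m ≫ fst H U = h := fun g h u e => by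
    have e1 : lift h u ≫ m = g := by rw [MonObj.comp_mul, lift_fst_assoc, lift_snd_assoc, e]
    rw [← e1, Category.assoc, IsIso.hom_inv_id_assoc, lift_fst]
  let π : ΓG →* ΓH := MonoidHom.mk' (fun g => g ≫ inv m ≫ fst H U) fun g g' => by
    set h := g ≫ inv m ≫ fst H U
    set h' := g' ≫ inv m ≫ fst H U
    set u := g ≫ inv m ≫ snd H U
    set u' := g' ≫ inv m ≫ snd H U
    obtain ⟨n, hn⟩ := hUn _ (h' ≫ iH)⁻¹ u
    refine huniq _ _ (n * u') ?_
    conv_rhs => rw [← hdec g, ← hdec g']
    rw [MonObj.mul_comp, MonObj.mul_comp, ← hn, inv_inv]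
    group
    rfl
  have hπH : ∀ h : ΓH, π (h ≫ iH) = h := fun h => huniq _ h 1 (by rw [MonObj.one_comp, _root_.mul_one])
  have hπU : ∀ g : ΓG, (∃ u : SGA7.Pts kb U, u ≫ iU = g) → π g = 1 := by
    rintro g ⟨u, rfl⟩
    exact huniq _ 1 u (by rw [MonObj.one_comp, _root_.one_mul])
  have hπker : ∀ g : ΓG, π g = 1 → ∃ u : SGA7.Pts kb U, u ≫ iU = g := fun g hg => by
    refine ⟨g ≫ inv m ≫ snd H U, ?_⟩
    conv_rhs => rw [← hdec g, show g ≫ inv m ≫ fst H U = 1 from hg, MonObj.one_comp, _root_.one_mul]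
  have hπfs : ∀ g : ΓG, π (fs k k kb ≫ g) = fs k k kb ≫ π g := fun g => Category.assoc (fs k k kb) g (inv m ≫ fst H U)
  have hU := fun g : ΓG => card_twFixed_sub (kb := kb) iU hUn hUu d hd g
  -- the groupoids
  rw [ptCount_eq_mass kb hG, ptCount_eq_mass kb hH]
  haveI := finite_orbits kb hG
  haveI := finite_orbits kb hH
  let MH := FrobPair k aH k kb
  let MG := FrobPair k aG k kb
  let fH : MH →[ΓH] TwElt k kb H := forgetPt k kb aH
  let fG : MG →[ΓG] TwElt k kb G := forgetPt k kb aG
  have hact : ∀ (h : ΓH) (x : SGA7.Pts kb X), lift (h ≫ iH) x ≫ aG.act = lift h x ≫ aH.act := fun h x => by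
    rw [haH, lift_whiskerRight_assoc]
  let J := MulAction.orbitRel.Quotient ΓH (rangeSub fH)
  haveI : Finite J := Finite.of_surjective
    (Quotient.map' (fun p : MH => (⟨fH p, p, rfl⟩ : rangeSub fH)) fun a b => by
      rintro ⟨g, rfl⟩
      exact ⟨g, Subtype.ext (fH.map_smul g b).symm⟩ :
      MulAction.orbitRel.Quotient ΓH MH → J)
    (fun o => by
      induction o using Quotient.inductionOn' with
      | h x =>
        obtain ⟨x, p, hp⟩ := x
        refine ⟨Quotient.mk'' p, ?_⟩
        subst hp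
        rfl)
  letI := Fintype.ofFinite J
  let nH : J → TwElt k kb H := fun j => j.out.1
  let nG : J → TwElt k kb G := fun j => twElt ((nH j).g ≫ iH)
  have hnH : ∀ j, nH j ∈ Set.range fH := fun j => j.out.2
  have hinjH : ∀ i j, (∃ g : ΓH, g • nH i = nH j) → i = j := fun i j ⟨g, hg⟩ => by
    rw [← i.out_eq, ← j.out_eq]
    exact (Quotient.sound (show MulAction.orbitRel ΓH (rangeSub fH) j.out i.out from ⟨g, Subtype.ext hg⟩)).symm
  have hsurjH : ∀ p : MH, ∃ j, ∃ g : ΓH, g • nH j = fH p := fun p => by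
    let j : J := Quotient.mk'' ⟨fH p, p, rfl⟩
    obtain ⟨g, hg⟩ := (Quotient.mk_out (s := MulAction.orbitRel ΓH (rangeSub fH)) ⟨fH p, p, rfl⟩ :
      MulAction.orbitRel ΓH (rangeSub fH) _ ⟨fH p, p, rfl⟩)
    refine ⟨j, g⁻¹, ?_⟩
    rw [inv_smul_eq_iff]
    exact (congrArg Subtype.val hg).symm
  rw [mass_eq_sum fH nH hnH hinjH hsurjH, mass_eq_sum fG nG ?_ ?_ ?_, Finset.sum_mul]
  · refine Finset.sum_congr rfl fun j => fun _ => ?_
    haveI := finite_stabilizer_twElt (nH j)
    haveI := finite_stabilizer_twElt (nG j)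
    haveI := finite_fibre_forgetPt (aX := aH) (nH j)
    haveI := finite_fibre_forgetPt (aX := aG) (nG j)
    rw [mass_of_finite, mass_of_finite]
    -- fibres
    let eF : fibre fH (nH j) ≃ fibre fG (nG j) :=
      { toFun := fun p => ⟨⟨(nH j).g ≫ iH, p.1.x, by
          rw [hact, ← show p.1.g = (nH j).g from congrArg FrobPair.g p.2]; exact p.1.fix⟩, twElt_ext rfl⟩
        invFun := fun p => ⟨⟨(nH j).g, p.1.x, by
          rw [← hact, ← show p.1.g = (nH j).g ≫ iH from congrArg FrobPair.g p.2]; exact p.1.fix⟩, twElt_ext rfl⟩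
        left_inv := fun p => Subtype.ext (FrobPair.ext (congrArg FrobPair.g p.2).symm rfl)
        right_inv := fun p => Subtype.ext (FrobPair.ext (congrArg FrobPair.g p.2).symm rfl) }
    -- stabilisers
    have hst : Nat.card (MulAction.stabilizer ΓG (nG j)) =
        Nat.card k ^ d * Nat.card (MulAction.stabilizer ΓH (nH j)) := by
      have hn : ∀ g : ΓG, g ∈ MulAction.stabilizer ΓG (nG j) ↔
          (nH j).g ≫ iH * (fs k k kb ≫ g) * ((nH j).g ≫ iH)⁻¹ = g := fun g => mem_stabilizer_twElt _ g
      have hn' : ∀ h : ΓH, h ∈ MulAction.stabilizer ΓH (nH j) ↔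
          (nH j).g * (fs k k kb ≫ h) * (nH j).g⁻¹ = h := fun h => by
        rw [← mem_stabilizer_twElt, show twElt (nH j).g = nH j from twElt_ext rfl]
      let ρ : MulAction.stabilizer ΓG (nG j) →* MulAction.stabilizer ΓH (nH j) :=
        (π.comp (MulAction.stabilizer ΓG (nG j)).subtype).codRestrict _ fun g => (hn' _).2 (by
          show (nH j).g * (fs k k kb ≫ π g.1) * (nH j).g⁻¹ = π g.1
          conv_rhs => rw [← (hn g.1).1 g.2, map_mul, map_mul, map_inv, hπH, hπfs])
      have hρ : Function.Surjective ρ := fun h => by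
        refine ⟨⟨h.1 ≫ iH, (hn _).2 ?_⟩, Subtype.ext (hπH h.1)⟩
        conv_rhs => rw [← (hn' h.1).1 h.2, MonObj.mul_comp, MonObj.mul_comp, GrpObj.inv_comp, Category.assoc]
      have hk : Nat.card ρ.ker = Nat.card k ^ d := by
        rw [← (hU ((nH j).g ≫ iH)).1]
        exact Nat.card_congr
          { toFun := fun g => ⟨g.1.1, hπker _ (congrArg Subtype.val g.2), (hn _).1 g.1.2⟩
            invFun := fun a => ⟨⟨a.1, (hn _).2 a.2.2⟩, Subtype.ext (hπU _ a.2.1)⟩
            left_inv := fun g => rfl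
            right_inv := fun a => rfl }
      rw [Subgroup.card_eq_card_quotient_mul_card_subgroup ρ.ker, hk,
        Nat.card_congr (QuotientGroup.quotientKerEquivOfSurjective ρ hρ).toEquiv, Nat.mul_comm]
    rw [← Nat.card_congr eF, hst, Nat.cast_mul, Nat.cast_pow]
    have hq : (Nat.card k : ℚ) ^ d ≠ 0 := pow_ne_zero _ (Nat.cast_ne_zero.2 Nat.card_pos.ne')
    field_simp
  · intro j
    obtain ⟨p, hp⟩ := hnH j
    exact ⟨⟨p.g ≫ iH, p.x, by rw [hact]; exact p.fix⟩, twElt_ext (congrArg (· ≫ iH) (congrArg FrobPair.g hp))⟩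
  · rintro i j ⟨g, hg⟩
    refine hinjH i j ⟨π g, twElt_ext ?_⟩
    have e : g * ((nH i).g ≫ iH) * (fs k k kb ≫ g)⁻¹ = (nH j).g ≫ iH := congrArg FrobPair.g hg
    have e' := congrArg π e
    rw [map_mul, map_mul, map_inv, hπH, hπH, hπfs] at e'
    exact e'
  · intro p
    let h0 : ΓH := π p.g
    obtain ⟨u, ⟨u', hu'⟩, he⟩ := (hU p.g).2 ((h0 ≫ iH) * p.g⁻¹) (hπker _ (by
      rw [map_mul, map_inv, hπH, mul_inv_cancel]))
    rw [inv_mul_cancel_right] at he
    have hq : (u • p).g = h0 ≫ iH := he
    let q : MH := ⟨h0, (u • p).x, by rw [← hact, ← hq]; exact (u • p).fix⟩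
    obtain ⟨j, t, ht⟩ := hsurjH q
    refine ⟨j, u⁻¹ * (t ≫ iH), ?_⟩
    rw [mul_smul, inv_smul_eq_iff, ← fG.map_smul]
    refine twElt_ext ?_
    have e : t * (nH j).g * (fs k k kb ≫ t)⁻¹ = h0 := congrArg FrobPair.g ht
    show (t ≫ iH) * ((nH j).g ≫ iH) * (fs k k kb ≫ t ≫ iH)⁻¹ = (u • p).g
    rw [hq, ← e, MonObj.mul_comp, MonObj.mul_comp, GrpObj.inv_comp, Category.assoc]

end Groth.Agent.S15692
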