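import Groth.Statements.S15694
import Groth.Agent.ZH85.StackCount.SubK
import Groth.Agent.ZH85.StackCount.FinMass
import Groth.Agent.ZH85.StackCount.LangConn

set_option autoImplicit false
set_option backward.isDefEq.respectTransparency false
set_option backward.isDefEq.respectTransparency.types false
universe u
open CategoryTheory AlgebraicGeometry MonoidalCategory CartesianMonoidalCategory MonObj
open StackCount
open Groth.Agent.ZH85.StackCount
open Groth.Agent.GrpSchLib (act_mul act_one)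

namespace Groth.Agent.S15694

/-- Let k be a finite field with q elements and algebraic closure k̄, and G a smooth affine algebraic
group over k of the form (F × H) ⋉ U: F, H, U are closed subgroups (monomorphic homomorphisms into
G), F and H commute elementwise, U is normal, and multiplication (f, h, u) ↦ f h u is an isomorphism
of k-schemes F × H × U → G. Assume F has unipotent identity component (its base change to k̄
contains no non-trivial subtorus) and dimension d_F, H is connected, and U is smooth, connected,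
unipotent (no non-trivial subtorus over k̄) of dimension d_U. Let X = E × V with E finite and
reduced over k and V isomorphic over k to affine n-space, and let G act on X so that the restriction
of the action to F is the product of an action of F on E and an action of F on V, the latter
factoring through a homomorphism from F to a smooth connected algebraic group acting on V. Choose
k̄-points e_j of E, indexed by a finite set J, one in each Galois-stable F(k̄)-orbit of E(k̄) and in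
pairwise distinct orbits. If the groupoid of k-points of the quotient stack [X/G] (étale G-torsors
as schemes with an equivariant map to X) is essentially finite, then its point count satisfies
#[X/G](k) · #H(k) · q^(d_U + d_F) = #J · q^n. (The published statement is for k′-points over any
finite extension k′ and reads #[X/G](k′) = #J · (#k′)^(dim V − dim U − dim F) / #H(k′); this row is
the case k′ = k with denominators cleared, and takes the groups affine so that torsors are schemes.) -/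
theorem result (k : Type u) [Field k] [Finite k]
    (kb : Type u) [Field kb] [Algebra k kb] [IsAlgClosure k kb]
    (G F H U : Over (Spec (CommRingCat.of k))) [GrpObj G] [GrpObj F] [GrpObj H] [GrpObj U]
    [Smooth G.hom] [IsAffineHom G.hom] [Smooth F.hom] [IsAffineHom F.hom]
    [Smooth H.hom] [IsAffineHom H.hom] [ConnectedSpace H.left]
    [Smooth U.hom] [IsAffineHom U.hom] [ConnectedSpace U.left]
    (iF : F ⟶ G) (iH : H ⟶ G) (iU : U ⟶ G) [IsMonHom iF] [IsMonHom iH] [IsMonHom iU]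
    [Mono iF] [Mono iH] [Mono iU]
    (hFH : (fst F H ≫ iF) * (snd F H ≫ iH) = (snd F H ≫ iH) * (fst F H ≫ iF))
    (hUn : AlgGrp.IsNormalHom iU)
    (hsd : IsIso ((fst (F ⊗ H) U ≫ fst F H ≫ iF) * (fst (F ⊗ H) U ≫ snd F H ≫ iH) * (snd (F ⊗ H) U ≫ iU)))
    (hFu : Red.HasNoSubtorus kb (GalTw.bcK kb F)) (hUu : Red.HasNoSubtorus kb (GalTw.bcK kb U))
    (dF dU : ℕ) (hdF : topologicalKrullDim ↥F.left = (dF : WithBot ℕ∞))
    (hdU : topologicalKrullDim ↥U.left = (dU : WithBot ℕ∞))
    (E V : Over (Spec (CommRingCat.of k))) [IsFinite E.hom] [IsReduced E.left]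
    (n : ℕ) (eV : V.left ≅ 𝔸(ULift.{u} (Fin n); Spec (CommRingCat.of k)))
    (heV : eV.hom ≫ (𝔸(ULift.{u} (Fin n); Spec (CommRingCat.of k)) ↘ Spec (CommRingCat.of k)) = V.hom)
    (aX : AlgGrp.Action G (E ⊗ V)) (aE : AlgGrp.Action F E) (aV : AlgGrp.Action F V)
    (haF : (iF ▷ (E ⊗ V)) ≫ aX.act =
      lift (lift (fst F (E ⊗ V)) (snd F (E ⊗ V) ≫ fst E V) ≫ aE.act)
        (lift (fst F (E ⊗ V)) (snd F (E ⊗ V) ≫ snd E V) ≫ aV.act))
    (Fc : Over (Spec (CommRingCat.of k))) [GrpObj Fc] [Smooth Fc.hom] [QuasiCompact Fc.hom]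
    [ConnectedSpace Fc.left] (ρ : F ⟶ Fc) [IsMonHom ρ] (aVc : AlgGrp.Action Fc V)
    (haV : aV.act = (ρ ▷ V) ≫ aVc.act)
    (J : Type) [Fintype J] (e : J → SGA7.Pts kb E)
    (hdis : ∀ j j' : J, (∃ g : SGA7.Pts kb F, lift g (e j) ≫ aE.act = e j') → j = j')
    (hfix : ∀ (j : J) (σ : kb ≃ₐ[k] kb), ∃ g : SGA7.Pts kb F, lift g (σ • e j) ≫ aE.act = e j)
    (hall : ∀ y : SGA7.Pts kb E,
      (∀ σ : kb ≃ₐ[k] kb, ∃ g : SGA7.Pts kb F, lift g (σ • y) ≫ aE.act = y) →
        ∃ (j : J) (g : SGA7.Pts kb F), lift g (e j) ≫ aE.act = y)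
    (h : StkCnt.IsEssFinite (StkCnt.pts (AlgSt.QuotSt Scheme.etalePrecoverage G aX) k)) :
    StkCnt.ptCount (AlgSt.QuotSt Scheme.etalePrecoverage G aX) k h *
        (Nat.card (SGA7.Pts k H) : ℚ) * (Nat.card k : ℚ) ^ (dU + dF) =
      (Fintype.card J : ℚ) * (Nat.card k : ℚ) ^ n := by
  classical
  haveI : IsAlgClosed kb := IsAlgClosure.isAlgClosed k
  haveI : LocallyOfFiniteType (E ⊗ V).hom := by
    haveI : LocallyOfFiniteType V.hom := by
      haveI : LocallyOfFiniteType (𝔸(ULift.{u} (Fin n); Spec (CommRingCat.of k)) ↘ Spec (CommRingCat.of k)) :=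
        inferInstance
      rw [← heV]; infer_instance
    haveI : LocallyOfFiniteType (snd E V).left :=
      MorphismProperty.of_isPullback ((AlgSt.isPullback_fst_snd E V).map (Over.forget _))
        (show LocallyOfFiniteType (toUnit E).left from (inferInstance : LocallyOfFiniteType E.hom))
    rw [← Over.w (snd E V)]; infer_instance
  let m : (F ⊗ H) ⊗ U ⟶ G :=
    (fst (F ⊗ H) U ≫ fst F H ≫ iF) * (fst (F ⊗ H) U ≫ snd F H ≫ iH) * (snd (F ⊗ H) U ≫ iU)
  haveI : IsIso m := hsd
  -- the inclusion of `U` is closed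
  haveI : IsClosedImmersion iU.left := by
    let sec : U ⟶ (F ⊗ H) ⊗ U := lift 1 (𝟙 U)
    have hsec : sec.left ≫ (snd (F ⊗ H) U).left = 𝟙 _ :=
      congrArg CommaMorphism.left (lift_snd (1 : U ⟶ F ⊗ H) (𝟙 U))
    haveI : IsAffineHom (F ⊗ H).hom := by
      haveI : IsAffineHom (snd F H).left :=
        MorphismProperty.of_isPullback ((AlgSt.isPullback_fst_snd F H).map (Over.forget _))
          (show IsAffineHom (toUnit F).left from ‹IsAffineHom F.hom›)
      rw [← Over.w (snd F H)]; infer_instance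
    haveI : IsAffineHom (snd (F ⊗ H) U).left :=
      MorphismProperty.of_isPullback ((AlgSt.isPullback_fst_snd (F ⊗ H) U).map (Over.forget _))
        (show IsAffineHom (toUnit (F ⊗ H)).left from ‹IsAffineHom (F ⊗ H).hom›)
    haveI : IsClosedImmersion sec.left := by
      haveI : IsClosedImmersion (sec.left ≫ (snd (F ⊗ H) U).left) := by
        rw [hsec]; exact inferInstanceAs (IsClosedImmersion (𝟙 U.left))
      exact IsClosedImmersion.of_comp sec.left (snd (F ⊗ H) U).left
    haveI : IsIso m.left := (Over.forget _).map_isIso m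
    have h : sec ≫ m = iU := by
      show lift 1 (𝟙 U) ≫ _ = _
      rw [MonObj.comp_mul, MonObj.comp_mul, lift_fst_assoc, lift_fst_assoc, lift_snd_assoc, Category.id_comp,
        show (1 : U ⟶ F ⊗ H) ≫ fst F H ≫ iF = 1 by rw [← Category.assoc, MonObj.one_comp, MonObj.one_comp],
        show (1 : U ⟶ F ⊗ H) ≫ snd F H ≫ iH = 1 by rw [← Category.assoc, MonObj.one_comp, MonObj.one_comp],
        _root_.one_mul, _root_.one_mul]
    rw [← h]
    exact inferInstanceAs (IsClosedImmersion (sec.left ≫ m.left))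
  let ΓG := SGA7.Pts kb G
  let ΓF := SGA7.Pts kb F
  let ΓH := SGA7.Pts kb H
  have hcomm : ∀ (f : ΓF) (a : ΓH), (f ≫ iF) * (a ≫ iH) = (a ≫ iH) * (f ≫ iF) := fun f a => by
    have h1 := congrArg (lift f a ≫ ·) hFH
    simpa [MonObj.comp_mul] using h1
  let pF : ΓG → ΓF := fun g => g ≫ inv m ≫ fst (F ⊗ H) U ≫ fst F H
  let pH : ΓG → ΓH := fun g => g ≫ inv m ≫ fst (F ⊗ H) U ≫ snd F H
  let pU : ΓG → SGA7.Pts kb U := fun g => g ≫ inv m ≫ snd (F ⊗ H) U
  have hdec : ∀ g : ΓG, (pF g ≫ iF) * (pH g ≫ iH) * (pU g ≫ iU) = g := fun g => by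
    calc (pF g ≫ iF) * (pH g ≫ iH) * (pU g ≫ iU) = (g ≫ inv m) ≫ m := by
          rw [MonObj.comp_mul, MonObj.comp_mul]; simp only [pF, pH, pU, Category.assoc]
      _ = g := by rw [Category.assoc, IsIso.inv_hom_id, Category.comp_id]
  have huniq : ∀ (g : ΓG) (f : ΓF) (a : ΓH) (w : SGA7.Pts kb U), (f ≫ iF) * (a ≫ iH) * (w ≫ iU) = g →
      pF g = f ∧ pH g = a := fun g f a w e => by
    have e1 : lift (lift f a) w ≫ m = g := by
      rw [MonObj.comp_mul, MonObj.comp_mul, lift_fst_assoc, lift_fst_assoc, lift_snd_assoc, lift_fst_assoc,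
        lift_snd_assoc, e]
    subst e1
    constructor
    · show (lift (lift f a) w ≫ m) ≫ inv m ≫ _ ≫ _ = f
      rw [Category.assoc, IsIso.hom_inv_id_assoc, lift_fst_assoc, lift_fst]
    · show (lift (lift f a) w ≫ m) ≫ inv m ≫ _ ≫ _ = a
      rw [Category.assoc, IsIso.hom_inv_id_assoc, lift_fst_assoc, lift_snd]
  let π : ΓG →* ΓF × ΓH := MonoidHom.mk' (fun g => (pF g, pH g)) fun g g' => by
    obtain ⟨w, hw⟩ := hUn _ ((pF g' ≫ iF) * (pH g' ≫ iH))⁻¹ (pU g)
    obtain ⟨e1, e2⟩ := huniq (g * g') (pF g * pF g') (pH g * pH g') (w * pU g') (by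
      conv_rhs => rw [← hdec g, ← hdec g']
      rw [MonObj.mul_comp, MonObj.mul_comp, MonObj.mul_comp, ← hw, inv_inv]
      generalize hA : pF g ≫ iF = A
      generalize hB : pH g ≫ iH = B
      generalize hA' : pF g' ≫ iF = A'
      generalize hB' : pH g' ≫ iH = B'
      have hc : A' * B = B * A' := by rw [← hA', ← hB]; exact hcomm _ _
      calc A * A' * (B * B') * ((A' * B')⁻¹ * (pU g ≫ iU) * (A' * B') * (pU g' ≫ iU))
          = A * (A' * B) * B' * ((A' * B')⁻¹ * (pU g ≫ iU) * (A' * B') * (pU g' ≫ iU)) := by group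
        _ = _ := by rw [hc]; group)
    exact Prod.ext e1 e2
  let σ : ΓF → ΓH → ΓG := fun f a => (f ≫ iF) * (a ≫ iH)
  have hπσ : ∀ f a, π (σ f a) = (f, a) := fun f a => by
    obtain ⟨e1, e2⟩ := huniq (σ f a) f a 1 (by rw [MonObj.one_comp, _root_.mul_one])
    exact Prod.ext e1 e2
  have hσF : ∀ f : ΓF, σ f 1 = f ≫ iF := fun f => by
    show _ * _ = _
    rw [MonObj.one_comp, _root_.mul_one]
  have hπF : ∀ f : ΓF, π (f ≫ iF) = (f, 1) := fun f => by rw [← hσF, hπσ]
  have hπU : ∀ g : ΓG, (∃ w : SGA7.Pts kb U, w ≫ iU = g) → π g = 1 := by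
    rintro g ⟨w, rfl⟩
    obtain ⟨e1, e2⟩ := huniq (w ≫ iU) 1 1 w (by rw [MonObj.one_comp, MonObj.one_comp, _root_.one_mul, _root_.one_mul])
    exact Prod.ext e1 e2
  have hπker : ∀ g : ΓG, π g = 1 → ∃ w : SGA7.Pts kb U, w ≫ iU = g := fun g hg => by
    refine ⟨pU g, ?_⟩
    conv_rhs => rw [← hdec g, show pF g = 1 from congrArg Prod.fst hg, show pH g = 1 from congrArg Prod.snd hg,
      MonObj.one_comp, MonObj.one_comp, _root_.one_mul, _root_.one_mul]
  have hπfs : ∀ g : ΓG, π (fs k k kb ≫ g) = (fs k k kb ≫ (π g).1, fs k k kb ≫ (π g).2) := fun g =>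
    Prod.ext (Category.assoc (fs k k kb) g (inv m ≫ fst (F ⊗ H) U ≫ fst F H))
      (Category.assoc (fs k k kb) g (inv m ≫ fst (F ⊗ H) U ≫ snd F H))
  have hU := fun g : ΓG => card_twFixed_sub (kb := kb) iU hUn hUu dU hdU g
  -- the action of `F`
  have hact : ∀ (f : ΓF) (e : SGA7.Pts kb E) (v : SGA7.Pts kb V),
      lift (f ≫ iF) (lift e v) ≫ aX.act = lift (lift f e ≫ aE.act) (lift f v ≫ aV.act) := fun f e v => by
    rw [← lift_whiskerRight_assoc f (lift e v) iF, haF]
    simp only [comp_lift, comp_lift_assoc, lift_fst, lift_snd, lift_snd_assoc]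
  -- the fixed points on `V`
  have hV : ∀ f : ΓF,
      Nat.card {v : SGA7.Pts kb V // lift f (fs k k kb ≫ v) ≫ aV.act = v} = Nat.card k ^ n := fun f => by
    haveI : LocallyOfFiniteType Fc.hom := inferInstance
    obtain ⟨c, hc⟩ := exists_div_frob (kb := kb) (f ≫ ρ)
    rw [← card_pts_affine_space (kb := kb) n eV heV]
    have hf : ∀ y : SGA7.Pts kb V, lift f y ≫ aV.act = lift (f ≫ ρ) y ≫ aVc.act := fun y => by
      rw [haV, lift_whiskerRight_assoc]
    refine Nat.card_congr
      { toFun := fun v => ⟨lift c⁻¹ v.1 ≫ aVc.act, ?_⟩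
        invFun := fun w => ⟨lift c w.1 ≫ aVc.act, ?_⟩
        left_inv := fun v => Subtype.ext (by simp [act_mul, act_one])
        right_inv := fun w => Subtype.ext (by simp [act_mul, act_one]) }
    · conv_rhs => rw [← v.2, hf, act_mul, ← hc, ← _root_.mul_assoc, inv_mul_cancel, _root_.one_mul]
      rw [comp_lift_assoc, GrpObj.comp_inv]
    · rw [hf, comp_lift_assoc, w.2, act_mul, ← hc, inv_mul_cancel_right]
  have hVne : ∀ f : ΓF, Nonempty {v : SGA7.Pts kb V // lift f (fs k k kb ≫ v) ≫ aV.act = v} := fun f =>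
    (Nat.card_pos_iff.1 (by rw [hV f]; exact pow_pos Nat.card_pos n)).1
  -- the groupoids
  rw [ptCount_eq_mass kb h]
  haveI := finite_orbits kb h
  let MG := FrobPair k aX k kb
  let MF := FrobPair k aE k kb
  let fG : MG →[ΓG] TwElt k kb G := forgetPt k kb aX
  let fF : MF →[ΓF] TwElt k kb F := forgetPt k kb aE
  let J' := MulAction.orbitRel.Quotient ΓF (rangeSub fF)
  let nF : J' → TwElt k kb F := fun j => j.out.1
  have hnF : ∀ j, nF j ∈ Set.range fF := fun j => j.out.2
  have hinjF : ∀ i j, (∃ g : ΓF, g • nF i = nF j) → i = j := fun i j ⟨g, hg⟩ => by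
    rw [← i.out_eq, ← j.out_eq]
    exact (Quotient.sound (show MulAction.orbitRel ΓF (rangeSub fF) j.out i.out from ⟨g, Subtype.ext hg⟩)).symm
  have hsurjF : ∀ p : MF, ∃ j, ∃ g : ΓF, g • nF j = fF p := fun p => by
    let j : J' := Quotient.mk'' ⟨fF p, p, rfl⟩
    obtain ⟨g, hg⟩ := (Quotient.mk_out (s := MulAction.orbitRel ΓF (rangeSub fF)) ⟨fF p, p, rfl⟩ :
      MulAction.orbitRel ΓF (rangeSub fF) _ ⟨fF p, p, rfl⟩)
    refine ⟨j, g⁻¹, ?_⟩
    rw [inv_smul_eq_iff]
    exact (congrArg Subtype.val hg).symm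
  let nG : J' → TwElt k kb G := fun j => twElt ((nF j).g ≫ iF)
  have hnG : ∀ j, ∃ p : MG, fG p = nG j := fun j => by
    obtain ⟨p, hp⟩ := hnF j
    obtain ⟨v⟩ := hVne p.g
    refine ⟨⟨p.g ≫ iF, lift p.x v.1, ?_⟩, twElt_ext (congrArg (· ≫ iF) (congrArg FrobPair.g hp))⟩
    rw [comp_lift, hact, p.fix, v.2]
  have hinjG : ∀ i j, (∃ g : ΓG, g • nG i = nG j) → i = j := by
    rintro i j ⟨g, hg⟩
    refine hinjF i j ⟨(π g).1, twElt_ext ?_⟩
    have e : g * ((nF i).g ≫ iF) * (fs k k kb ≫ g)⁻¹ = (nF j).g ≫ iF := congrArg FrobPair.g hg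
    have e' := congrArg π e
    rw [map_mul, map_mul, map_inv, hπF, hπF, hπfs] at e'
    exact congrArg Prod.fst e'
  haveI : Finite J' := by
    choose pG hpG using hnG
    refine Finite.of_injective (fun j => (Quotient.mk _ (pG j) : MulAction.orbitRel.Quotient ΓG MG)) fun i j hij => ?_
    obtain ⟨g, hg⟩ := Quotient.exact hij
    refine (hinjG j i ⟨g, ?_⟩).symm
    rw [← hpG i, ← hpG j, ← fG.map_smul]
    exact congrArg fG hg
  letI := Fintype.ofFinite J'
  haveI hfinE : Finite (SGA7.pt (K := k) kb ⟶ E) := finite_points_of_isFinite kb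
  haveI : Finite (MulAction.orbitRel.Quotient ΓF MF) := by
    let T : Type u := {q : J' × (SGA7.pt (K := k) kb ⟶ E) // lift (nF q.1).g (fs k k kb ≫ q.2) ≫ aE.act = q.2}
    refine Finite.of_surjective (fun q : T =>
      (Quotient.mk _ ⟨(nF q.1.1).g, q.1.2, q.2⟩ : MulAction.orbitRel.Quotient ΓF MF)) fun o => ?_
    induction o using Quotient.inductionOn with
    | h p =>
      obtain ⟨j, g, hg⟩ := hsurjF p
      have hq : (g⁻¹ • p : MF).g = (nF j).g := by
        have e : g⁻¹ • fF p = nF j := inv_smul_eq_iff.2 hg.symm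
        rw [← fF.map_smul] at e
        exact congrArg FrobPair.g e
      refine ⟨⟨(j, (g⁻¹ • p : MF).x), by rw [← hq]; exact (g⁻¹ • p : MF).fix⟩,
        Quotient.sound ⟨g⁻¹, FrobPair.ext hq rfl⟩⟩
  have hF0 : mass ΓF MF = (Fintype.card J : ℚ) * ((Nat.card k : ℚ) ^ dF)⁻¹ :=
    mass_finScheme aE hFu dF hdF J e hdis hfix hall
  have hkH : Nat.card (SGA7.Pts k H) = Nat.card {a : ΓH // fs k k kb ≫ a = a} :=
    Nat.card_congr (fixedEquiv k k kb H)
  haveI : Finite (SGA7.pt (K := k) k ⟶ H) := finite_points k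
  haveI : Finite (SGA7.Pts k H) := ‹Finite (SGA7.pt (K := k) k ⟶ H)›
  have hH0 : (Nat.card (SGA7.Pts k H) : ℚ) ≠ 0 := by
    haveI : Nonempty (SGA7.Pts k H) := ⟨(1 : SGA7.pt (K := k) k ⟶ H)⟩
    exact Nat.cast_ne_zero.2 Nat.card_pos.ne'
  have hmain : mass ΓG MG * ((Nat.card (SGA7.Pts k H) : ℚ) * (Nat.card k : ℚ) ^ dU) =
      (Nat.card k : ℚ) ^ n * mass ΓF MF := by
    rw [mass_eq_sum fG nG hnG hinjG ?_, mass_eq_sum fF nF hnF hinjF hsurjF, Finset.sum_mul, Finset.mul_sum]
    · refine Finset.sum_congr rfl fun j => fun _ => ?_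
      haveI := finite_stabilizer_twElt (nF j)
      haveI := finite_stabilizer_twElt (nG j)
      haveI := finite_fibre_forgetPt (aX := aE) (nF j)
      haveI := finite_fibre_forgetPt (aX := aX) (nG j)
      rw [mass_of_finite, mass_of_finite]
      let f := (nF j).g
      let eF : fibre fG (nG j) ≃ fibre fF (nF j) × {v : SGA7.Pts kb V // lift f (fs k k kb ≫ v) ≫ aV.act = v} :=
        { toFun := fun p =>
            have e : lift (f ≫ iF) (lift (fs k k kb ≫ p.1.x ≫ fst E V) (fs k k kb ≫ p.1.x ≫ snd E V)) ≫ aX.act =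
                p.1.x := by
              rw [← comp_lift, ← comp_lift, lift_fst_snd, Category.comp_id,
                ← show p.1.g = f ≫ iF from congrArg FrobPair.g p.2]
              exact p.1.fix
            (⟨⟨f, p.1.x ≫ fst E V, by
                have e1 := congrArg (· ≫ fst E V) ((hact _ _ _).symm.trans e)
                simpa using e1⟩, twElt_ext rfl⟩,
              ⟨p.1.x ≫ snd E V, by
                have e1 := congrArg (· ≫ snd E V) ((hact _ _ _).symm.trans e)
                simpa using e1⟩)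
          invFun := fun q => ⟨⟨f ≫ iF, lift q.1.1.x q.2.1, by
            rw [comp_lift, hact, q.2.2]
            congr 1
            exact (congrArg (fun z => lift z (fs k k kb ≫ q.1.1.x) ≫ aE.act)
              (show f = q.1.1.g from (congrArg FrobPair.g q.1.2).symm)).trans q.1.1.fix⟩, twElt_ext rfl⟩
          left_inv := fun p => Subtype.ext (FrobPair.ext (congrArg FrobPair.g p.2).symm (by
            show lift (p.1.x ≫ fst E V) (p.1.x ≫ snd E V) = p.1.x
            rw [← comp_lift, lift_fst_snd, Category.comp_id]))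
          right_inv := fun q => Prod.ext (Subtype.ext (FrobPair.ext (congrArg FrobPair.g q.1.2).symm (lift_fst _ _)))
            (Subtype.ext (lift_snd _ _)) }
      have hst : Nat.card (MulAction.stabilizer ΓG (nG j)) = Nat.card k ^ dU *
          (Nat.card (MulAction.stabilizer ΓF (nF j)) * Nat.card {a : ΓH // fs k k kb ≫ a = a}) := by
        have hn : ∀ g : ΓG, g ∈ MulAction.stabilizer ΓG (nG j) ↔
            (f ≫ iF) * (fs k k kb ≫ g) * (f ≫ iF)⁻¹ = g := fun g => mem_stabilizer_twElt _ g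
        have hn' : ∀ x : ΓF, x ∈ MulAction.stabilizer ΓF (nF j) ↔ f * (fs k k kb ≫ x) * f⁻¹ = x := fun x => by
          rw [← mem_stabilizer_twElt, show twElt f = nF j from twElt_ext rfl]
        let Hk : Subgroup ΓH :=
          { carrier := {a | fs k k kb ≫ a = a}
            one_mem' := MonObj.comp_one _
            mul_mem' := fun {a b} (ha : _ = a) (hb : _ = b) => by
              show _ ≫ (a * b) = a * b
              rw [MonObj.comp_mul, ha, hb]
            inv_mem' := fun {a} (ha : _ = a) => by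
              show _ ≫ a⁻¹ = a⁻¹
              rw [GrpObj.comp_inv, ha] }
        have hsplit : ∀ g : ΓG, g ∈ MulAction.stabilizer ΓG (nG j) →
            f * (fs k k kb ≫ (π g).1) * f⁻¹ = (π g).1 ∧ fs k k kb ≫ (π g).2 = (π g).2 := fun g hg => by
          have e := congrArg π ((hn g).1 hg)
          rw [map_mul, map_mul, map_inv, hπF, hπfs] at e
          have e1 := congrArg Prod.fst e
          have e2 := congrArg Prod.snd e
          simp only [Prod.fst_mul, Prod.snd_mul, Prod.fst_inv, Prod.snd_inv, inv_one, _root_.one_mul,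
            _root_.mul_one] at e1 e2
          exact ⟨e1, e2⟩
        let r : MulAction.stabilizer ΓG (nG j) →* (MulAction.stabilizer ΓF (nF j)).prod Hk :=
          (π.comp (MulAction.stabilizer ΓG (nG j)).subtype).codRestrict _ fun g =>
            ⟨(hn' _).2 (hsplit _ g.2).1, (hsplit _ g.2).2⟩
        have hr : Function.Surjective r := fun q => by
          refine ⟨⟨σ q.1.1 q.1.2, (hn _).2 ?_⟩, Subtype.ext (hπσ _ _)⟩
          have e1 := (hn' _).1 q.2.1
          have e2 : fs k k kb ≫ q.1.2 = q.1.2 := q.2.2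
          have hxf : f ≫ iF * (fs k k kb ≫ q.1.1 ≫ iF) * (f ≫ iF)⁻¹ = q.1.1 ≫ iF := by
            conv_rhs => rw [← e1, MonObj.mul_comp, MonObj.mul_comp, GrpObj.inv_comp, Category.assoc]
          show (f ≫ iF) * (fs k k kb ≫ (q.1.1 ≫ iF * q.1.2 ≫ iH)) * (f ≫ iF)⁻¹ = q.1.1 ≫ iF * q.1.2 ≫ iH
          rw [MonObj.comp_mul, show fs k k kb ≫ q.1.2 ≫ iH = q.1.2 ≫ iH by rw [← Category.assoc, e2]]
          calc f ≫ iF * (fs k k kb ≫ q.1.1 ≫ iF * q.1.2 ≫ iH) * (f ≫ iF)⁻¹
              = f ≫ iF * (fs k k kb ≫ q.1.1 ≫ iF) * (q.1.2 ≫ iH * (f ≫ iF)⁻¹) := by group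
            _ = f ≫ iF * (fs k k kb ≫ q.1.1 ≫ iF) * ((f ≫ iF)⁻¹ * q.1.2 ≫ iH) := by
              rw [← GrpObj.inv_comp, hcomm]
            _ = f ≫ iF * (fs k k kb ≫ q.1.1 ≫ iF) * (f ≫ iF)⁻¹ * q.1.2 ≫ iH := by group
            _ = _ := by rw [hxf]
        have hk : Nat.card r.ker = Nat.card k ^ dU := by
          rw [← (hU (f ≫ iF)).1]
          exact Nat.card_congr
            { toFun := fun g => ⟨g.1.1, hπker _ (congrArg Subtype.val g.2), (hn _).1 g.1.2⟩
              invFun := fun a => ⟨⟨a.1, (hn _).2 a.2.2⟩, Subtype.ext (hπU _ a.2.1)⟩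
              left_inv := fun g => rfl
              right_inv := fun a => rfl }
        rw [Subgroup.card_eq_card_quotient_mul_card_subgroup r.ker, hk,
          Nat.card_congr (QuotientGroup.quotientKerEquivOfSurjective r hr).toEquiv, Nat.mul_comm,
          Nat.card_congr ((MulAction.stabilizer ΓF (nF j)).prodEquiv Hk).toEquiv, Nat.card_prod]
        rfl
      rw [Nat.card_congr eF, Nat.card_prod, hV, hst, ← hkH]
      push_cast
      have hq : (Nat.card k : ℚ) ≠ 0 := Nat.cast_ne_zero.2 Nat.card_pos.ne'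
      have hsF : (Nat.card (MulAction.stabilizer ΓF (nF j)) : ℚ) ≠ 0 := Nat.cast_ne_zero.2 Nat.card_pos.ne'
      field_simp
    · intro p
      obtain ⟨w, ⟨w', hw'⟩, he⟩ := (hU p.g).2 (σ (π p.g).1 (π p.g).2 * p.g⁻¹) (hπker _ (by
        rw [map_mul, map_inv, hπσ, mul_inv_cancel]))
      rw [inv_mul_cancel_right] at he
      obtain ⟨t, ht⟩ := exists_div_frob (kb := kb) (π p.g).2
      let p' : MG := ((t ≫ iH)⁻¹ * w) • p
      have hp' : p'.g = (π p.g).1 ≫ iF := by
        show (((t ≫ iH)⁻¹ * w) • p : MG).g = _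
        rw [mul_smul]
        show (t ≫ iH)⁻¹ * (w * p.g * (fs k k kb ≫ w)⁻¹) * (fs k k kb ≫ (t ≫ iH)⁻¹)⁻¹ = _
        rw [he, GrpObj.comp_inv, inv_inv]
        show (t ≫ iH)⁻¹ * ((π p.g).1 ≫ iF * (π p.g).2 ≫ iH) * _ = _
        rw [hcomm, ← ht, MonObj.mul_comp, GrpObj.inv_comp, Category.assoc]
        calc (t ≫ iH)⁻¹ * (t ≫ iH * (fs k k kb ≫ t ≫ iH)⁻¹ * ((π p.g).1 ≫ iF)) * (fs k k kb ≫ t ≫ iH)
            = (fs k k kb ≫ t ≫ iH)⁻¹ * (((π p.g).1 ≫ iF) * (fs k k kb ≫ t ≫ iH)) := by group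
          _ = _ := by rw [← Category.assoc, hcomm, inv_mul_cancel_left]
      have hfix' := p'.fix
      rw [hp'] at hfix'
      let q : MF := ⟨(π p.g).1, p'.x ≫ fst E V, by
        have e : lift ((π p.g).1 ≫ iF)
            (lift (fs k k kb ≫ p'.x ≫ fst E V) (fs k k kb ≫ p'.x ≫ snd E V)) ≫ aX.act = p'.x := by
          rw [← comp_lift, ← comp_lift, lift_fst_snd, Category.comp_id]
          exact hfix'
        have e1 := congrArg (· ≫ fst E V) ((hact _ _ _).symm.trans e)
        simpa using e1⟩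
      obtain ⟨j, g, hg⟩ := hsurjF q
      refine ⟨j, ((t ≫ iH)⁻¹ * w)⁻¹ * (g ≫ iF), ?_⟩
      rw [mul_smul, inv_smul_eq_iff, ← fG.map_smul]
      refine twElt_ext ?_
      have e : g * (nF j).g * (fs k k kb ≫ g)⁻¹ = (π p.g).1 := congrArg FrobPair.g hg
      show (g ≫ iF) * ((nF j).g ≫ iF) * (fs k k kb ≫ g ≫ iF)⁻¹ = p'.g
      rw [hp', ← e, MonObj.mul_comp, MonObj.mul_comp, GrpObj.inv_comp, Category.assoc]
  calc mass ΓG MG * (Nat.card (SGA7.Pts k H) : ℚ) * (Nat.card k : ℚ) ^ (dU + dF)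
      = mass ΓG MG * ((Nat.card (SGA7.Pts k H) : ℚ) * (Nat.card k : ℚ) ^ dU) * (Nat.card k : ℚ) ^ dF := by
        rw [pow_add]; ring
    _ = _ := by
        rw [hmain, hF0]
        have hq : (Nat.card k : ℚ) ≠ 0 := Nat.cast_ne_zero.2 Nat.card_pos.ne'
        field_simp

end Groth.Agent.S15694
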