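import Groth.Statements.S15704
import Groth.Agent.Obs28.NoName

set_option autoImplicit false
set_option linter.style.haveILetI false
universe u
open CategoryTheory CategoryTheory.Limits MonoidalCategory CartesianMonoidalCategory MonObj GrpObj AlgebraicGeometry
open AGF
open Groth.Agent.Obs28 Groth.Agent

namespace Groth.Agent.S15704

/-- Let G be a linear algebraic group over a field k of characteristic zero, contained as a closed
subgroup in two special groups G₁, G₂ whose underlying varieties are k-rational; then G₁/G and G₂/G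
are stably k-birationally equivalent. Here G, G₁, G₂ are affine group schemes of finite type over k
with homomorphic closed immersions G → G_j; 'special' is spelled out: for every action of G_j on a
k-scheme X of finite type and every faithfully flat k-morphism p : X → Y to a k-scheme of finite
type such that (g, x) ↦ (g·x, x) makes G_j × X the fibre product X ×_Y X, every point of Y has an
open neighbourhood over which p has a section; 'k-rational' is birationality over k with an affine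
space; Q_j with its G_j-action and base point is a quotient G_j/G; the conclusion is that Q₁ ×_k
Spec k[x_1, ..., x_r] and Q₂ ×_k Spec k[x_1, ..., x_s] are birational over k for some r, s. -/
theorem result (k : Type u) [Field k] [CharZero k]
    (G G₁ G₂ : Over (Spec (CommRingCat.of k))) [GrpObj G] [GrpObj G₁] [GrpObj G₂]
    [IsAffine G.left] [IsAffine G₁.left] [IsAffine G₂.left]
    [LocallyOfFiniteType G.hom] [LocallyOfFiniteType G₁.hom] [LocallyOfFiniteType G₂.hom]
    (i₁ : G ⟶ G₁) (i₂ : G ⟶ G₂) [IsMonHom i₁] [IsMonHom i₂]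
    [IsClosedImmersion i₁.left] [IsClosedImmersion i₂.left]
    (hsp₁ : (∀ (X' Y' : Over (Spec (CommRingCat.of k))) (a : AlgGrp.Action G₁ X') (p : X' ⟶ Y'),
      LocallyOfFiniteType X'.hom → QuasiCompact X'.hom → LocallyOfFiniteType Y'.hom → QuasiCompact Y'.hom →
      Flat p.left → Surjective p.left → IsPullback a.act.left (snd G₁ X').left p.left p.left →
      ∀ y : ↥Y'.left, ∃ (W : Y'.left.Opens) (s : (W : Scheme.{u}) ⟶ X'.left), y ∈ W ∧ s ≫ p.left = W.ι))
    (hsp₂ : (∀ (X' Y' : Over (Spec (CommRingCat.of k))) (a : AlgGrp.Action G₂ X') (p : X' ⟶ Y'),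
      LocallyOfFiniteType X'.hom → QuasiCompact X'.hom → LocallyOfFiniteType Y'.hom → QuasiCompact Y'.hom →
      Flat p.left → Surjective p.left → IsPullback a.act.left (snd G₂ X').left p.left p.left →
      ∀ y : ↥Y'.left, ∃ (W : Y'.left.Opens) (s : (W : Scheme.{u}) ⟶ X'.left), y ∈ W ∧ s ≫ p.left = W.ι))
    [Scheme.IsRationalOver G₁.hom] [Scheme.IsRationalOver G₂.hom]
    (Q₁ Q₂ : Over (Spec (CommRingCat.of k))) (a₁ : AlgGrp.Action G₁ Q₁) (a₂ : AlgGrp.Action G₂ Q₂)
    (o₁ : 𝟙_ (Over (Spec (CommRingCat.of k))) ⟶ Q₁) (o₂ : 𝟙_ (Over (Spec (CommRingCat.of k))) ⟶ Q₂)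
    (hQ₁ : AGF.IsQuotient i₁ Q₁ a₁ o₁) (hQ₂ : AGF.IsQuotient i₂ Q₂ a₂ o₂) :
    ∃ r s : ℕ, Scheme.BirationalOver
      (pullback.fst Q₁.hom (Spec.map (CommRingCat.ofHom (algebraMap k (MvPolynomial (Fin r) k)))) ≫ Q₁.hom)
      (pullback.fst Q₂.hom (Spec.map (CommRingCat.ofHom (algebraMap k (MvPolynomial (Fin s) k)))) ≫ Q₂.hom) := by
  haveI : LocallyOfFiniteType Q₁.hom := hQ₁.1
  haveI : LocallyOfFiniteType Q₂.hom := hQ₂.1
  haveI : QuasiCompact G₁.hom := inferInstance
  haveI : QuasiCompact G₂.hom := inferInstance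
  let P := G₁ ⊗ G₂
  let iD : G ⟶ P := CartesianMonoidalCategory.lift i₁ i₂
  haveI : Mono i₁.left := inferInstance
  haveI : Mono i₂.left := inferInstance
  haveI : Mono i₁ := Over.mono_of_mono_left i₁
  haveI : Mono i₂ := Over.mono_of_mono_left i₂
  haveI : Mono iD := ⟨fun a b h => by
    rw [← cancel_mono i₁]
    simpa [iD] using congrArg (· ≫ fst G₁ G₂) h⟩
  haveI : IsAffine P.left := inferInstanceAs (IsAffine (Limits.pullback G₁.hom G₂.hom))
  haveI : LocallyOfFiniteType P.hom :=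
    inferInstanceAs (LocallyOfFiniteType (Limits.pullback.fst G₁.hom G₂.hom ≫ G₁.hom))
  haveI : QuasiCompact P.hom := inferInstance
  obtain ⟨X, aX, o, hXl, hXc, hXf, hXs, hXp⟩ := GrpSchLib.HomogeneousQuot.exists_quot P G iD
  haveI := hXl; haveI := hXc; haveI := hXf; haveI := hXs
  haveI : Nonempty G₁.left := ⟨η[G₁].left.base (default : Spec (CommRingCat.of k))⟩
  haveI : Nonempty G₂.left := ⟨η[G₂].left.base (default : Spec (CommRingCat.of k))⟩
  haveI : Surjective G₁.hom :=
    ⟨fun x => ⟨η[G₁].left.base x, by rw [← Scheme.Hom.comp_apply, Over.w η[G₁]]; rfl⟩⟩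
  haveI : Surjective G₂.hom :=
    ⟨fun x => ⟨η[G₂].left.base x, by rw [← Scheme.Hom.comp_apply, Over.w η[G₂]]; rfl⟩⟩
  haveI : Flat (fst G₁ G₂).left := inferInstanceAs (Flat (Limits.pullback.fst G₁.hom G₂.hom))
  haveI : Surjective (fst G₁ G₂).left := inferInstanceAs (Surjective (Limits.pullback.fst G₁.hom G₂.hom))
  haveI : Flat (snd G₁ G₂).left := inferInstanceAs (Flat (Limits.pullback.snd G₁.hom G₂.hom))
  haveI : Surjective (snd G₁ G₂).left := inferInstanceAs (Surjective (Limits.pullback.snd G₁.hom G₂.hom))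
  obtain ⟨f₁, b₂, hf₁, hf₁s, hT₁⟩ := NoName.exists_torsor (fst G₁ G₂) (snd G₁ G₂)
    (fun a b => ⟨CartesianMonoidalCategory.lift a b, ⟨lift_fst _ _, lift_snd _ _⟩,
      fun p hp => CartesianMonoidalCategory.hom_ext _ _ (by rw [hp.1, lift_fst]) (by rw [hp.2, lift_snd])⟩)
    i₁ i₂ iD (lift_fst _ _) (lift_snd _ _) aX o hXp a₁ o₁ hQ₁
  obtain ⟨f₂, b₁, hf₂, hf₂s, hT₂⟩ := NoName.exists_torsor (snd G₁ G₂) (fst G₁ G₂)
    (fun a b => ⟨CartesianMonoidalCategory.lift b a, ⟨lift_snd _ _, lift_fst _ _⟩,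
      fun p hp => CartesianMonoidalCategory.hom_ext _ _ (by rw [hp.2, lift_fst]) (by rw [hp.1, lift_snd])⟩)
    i₂ i₁ iD (lift_snd _ _) (lift_fst _ _) aX o hXp a₂ o₂ hQ₂
  haveI := hf₁; haveI := hf₁s; haveI := hf₂; haveI := hf₂s
  obtain ⟨hi₁, r, hr⟩ := NoName.exists_birationalOver_fin G₁
  obtain ⟨hi₂, s, hs⟩ := NoName.exists_birationalOver_fin G₂
  have key : ∀ {B A Q : Over (Spec (CommRingCat.of k))} [GrpObj B] [GrpObj A] [LocallyOfFiniteType B.hom]
      [LocallyOfFiniteType Q.hom] [IrreducibleSpace A.left] [QuasiCompact A.hom] (ψ : A ⟶ Q), Surjective ψ.left →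
      ∀ (f : X ⟶ Q) (b : AlgGrp.Action B X), Flat f.left → Surjective f.left →
      IsPullback b.act.left (snd B X).left f.left f.left →
      (∀ (X' Y' : Over (Spec (CommRingCat.of k))) (a : AlgGrp.Action B X') (p : X' ⟶ Y'),
      LocallyOfFiniteType X'.hom → QuasiCompact X'.hom → LocallyOfFiniteType Y'.hom → QuasiCompact Y'.hom →
      Flat p.left → Surjective p.left → IsPullback a.act.left (snd B X').left p.left p.left →
      ∀ y : ↥Y'.left, ∃ (W : Y'.left.Opens) (s : (W : Scheme.{u}) ⟶ X'.left), y ∈ W ∧ s ≫ p.left = W.ι) →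
      ∀ (n : ℕ), Scheme.BirationalOver B.hom (Spec.map (CommRingCat.ofHom (algebraMap k (MvPolynomial (Fin n) k)))) →
      Scheme.BirationalOver
        (Q ⊗ Over.mk (Spec.map (CommRingCat.ofHom (algebraMap k (MvPolynomial (Fin n) k))))).hom X.hom := by
    intro B A Q _ _ _ _ _ _ ψ hψ f b hf hfs hT hsp n hn
    haveI := hψ; haveI := hf
    haveI : CompactSpace ↥A.left := (quasiCompact_iff_compactSpace A.hom).mp inferInstance
    haveI : CompactSpace ↥Q.left := ψ.left.surjective.compactSpace ψ.left.continuous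
    haveI : QuasiCompact Q.hom := (quasiCompact_iff_compactSpace Q.hom).mpr inferInstance
    haveI : IrreducibleSpace ↥Q.left := by
      have h := (IrreducibleSpace.isIrreducible_univ A.left).image ψ.left ψ.left.continuous.continuousOn
      rw [Set.image_univ, ψ.left.surjective.range_eq] at h
      exact (irreducibleSpace_def _).mpr h
    obtain ⟨W, σ, hyW, hσ⟩ := hsp X Q b f hXl hXc ‹_› ‹_› hf hfs hT (Classical.arbitrary _)
    have h1 := NoName.birationalOver_torsor b f hT W (W.2.dense ⟨_, hyW⟩) σ hσ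
    let An : Over (Spec (CommRingCat.of k)) :=
      Over.mk (Spec.map (CommRingCat.ofHom (algebraMap k (MvPolynomial (Fin n) k))))
    have h2 : Scheme.BirationalOver (An ⊗ Q).hom (B ⊗ Q).hom :=
      NoName.birationalOver_tensor (Y := B) (X := An) hn.symm Q
    exact (((NoName.birationalOver_of_iso (β_ Q An)).trans h2).trans (NoName.birationalOver_of_iso (β_ B Q))).trans h1
  haveI := hi₁; haveI := hi₂
  have k₁ := key (a₁.orbitMap o₁) hQ₁.2.2.1 f₁ b₂ hf₁ hf₁s hT₁ hsp₂ s hs
  have k₂ := key (a₂.orbitMap o₂) hQ₂.2.2.1 f₂ b₁ hf₂ hf₂s hT₂ hsp₁ r hr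
  exact ⟨s, r, k₁.trans k₂.symm⟩

end Groth.Agent.S15704
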