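import Groth.Statements.S15712
import Groth.Agent.H23.SchDense
import Groth.Agent.FlatDense.Basic
-- import your own Groth.Agent.* helpers here

set_option autoImplicit false
universe u
open CategoryTheory AlgebraicGeometry TopologicalSpace
open RatSing

namespace Groth.Agent.S15712

/-- Let X be a locally Noetherian scheme with Serre's property (S_1), i.e. every local ring O_{X,x} has
depth at least min(1, dim O_{X,x}) (for instance X Cohen–Macaulay), and let U ⊆ X be open. Then
scheme-theoretic density of U in X is equivalent to U being dense as a subset. (The published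
statement assumes every scheme excellent, in particular locally Noetherian.) -/
theorem result (X : Scheme.{u}) [IsLocallyNoetherian X]
    (hS1 : ∀ x : X, min (1 : WithBot ℕ∞) (ringKrullDim (X.presheaf.stalk x)) ≤
      ((LocCoh.depth (X.presheaf.stalk x) (X.presheaf.stalk x) : ℕ∞) : WithBot ℕ∞))
    (U : X.Opens) : CInt.IsSchematicallyDense U ↔ Dense (U : Set X) := by
  rw [H23.SchDense.isSchematicallyDense_iff]
  constructor
  · intro h
    rw [dense_iff_inter_open]
    intro V hV hVne
    obtain ⟨x, hx⟩ := hVne
    by_contra hne
    have hxU : x ∉ U := fun hxU => hne ⟨x, hx, hxU⟩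
    have hsd : CInt.IsSchematicallyDense U := (H23.SchDense.isSchematicallyDense_iff U).2 h
    let V' : X.Opens := ⟨V, hV⟩
    have hbot : V' ⊓ U = ⊥ := eq_bot_iff.2 fun y hy => absurd ⟨y, hy.1, hy.2⟩ hne
    haveI : Subsingleton Γ(X, V' ⊓ U) := by
      rw [hbot]
      exact CommRingCat.subsingleton_of_isTerminal X.sheaf.isTerminalOfEmpty
    have h1 : (1 : Γ(X, V')) = 0 := hsd V' (Subsingleton.elim _ _)
    have h2 := congrArg (X.presheaf.germ V' x hx) h1
    simp at h2
  · intro hU x hx
    by_contra hd
    have hd0 : LocCoh.depth (X.presheaf.stalk x) (X.presheaf.stalk x) = 0 := ENat.lt_one_iff_eq_zero.1 (not_le.1 hd)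
    have h1 := hS1 x
    rw [hd0] at h1
    have hdim : ringKrullDim (X.presheaf.stalk x) ≤ 0 := by
      rcases min_le_iff.1 h1 with h2 | h2
      · exact absurd h2 (by norm_num)
      · exact h2
    rw [ringKrullDim_stalk_eq_coheight] at hdim
    have hco : Order.coheight x = 0 := le_antisymm (by exact_mod_cast hdim) zero_le
    exact hx (FlatDense.mem_of_dense_of_max_scheme U hU (y := x) fun z hz => (inseparable_iff_specializes_and.2
      ⟨hz, (Order.coheight_eq_zero.1 hco) hz⟩).eq)

end Groth.Agent.S15712
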