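import Groth.Statements.S15715
import Groth.Agent.H23.SchDense
import Groth.Agent.AssPtX.Noeth
-- import your own Groth.Agent.* helpers here

set_option autoImplicit false
universe u
open CategoryTheory AlgebraicGeometry TopologicalSpace
open RatSing

namespace Groth.Agent.S15715

/-- Let X be a locally Noetherian scheme, φ : F → G a homomorphism of O_X-modules with F quasi-coherent
and torsion-free (over every affine open V, no nonzero section of F is killed by a regular element
of O_X(V)), and U a scheme-theoretically dense open subset of X such that the restriction of φ to U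
is injective. Then φ is injective. (The published statement allows an arbitrary O_X-module F; for
the skyscraper sheaf on the affine line over a field, placed at a closed point with value the local
ring at that point, which is torsion-free in this sense, the zero map to the zero module is
injective over the dense open complement of the point but not injective. This row takes F
quasi-coherent.) -/
theorem result (X : Scheme.{u})
    [IsLocallyNoetherian X] (F G : X.Modules) (hF : Coh.IsQCoh F)
    (htf : ∀ V : X.affineOpens, Submodule.torsion Γ(X, V.1) (F.val.obj (Opposite.op V.1)) = ⊥)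
    (φ : F ⟶ G) (U : X.Opens) (hU : CInt.IsSchematicallyDense U)
    (hφU : ∀ V : X.Opens, V ≤ U → Function.Injective ⇑(ConcreteCategory.hom (φ.val.app (Opposite.op V)))) (V : X.Opens) :
    Function.Injective ⇑(ConcreteCategory.hom (φ.val.app (Opposite.op V))) := by
  have hass : ∀ y : X, Curv2.IsWeakAssPoint F y → y ∈ U := by
    intro y hy
    obtain ⟨W, hW, hyW, -⟩ := exists_isAffineOpen_mem_and_subset (x := y) (U := ⊤) trivial
    haveI : IsNoetherianRing Γ(X, W) := IsLocallyNoetherian.component_noetherian ⟨_, hW⟩
    obtain ⟨hpr, m, hm⟩ := isAssociatedPrime_iff.1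
      (AssPtX.weakAss_subset_associatedPrimes ((AssPtX.isWeakAssPoint_iff_sections hF hW hyW).1 hy))
    have hm0 : m ≠ 0 := fun h0 => hpr.ne_top (top_unique fun r _ => by
      rw [hm, h0, Submodule.mem_colon_singleton, smul_zero]; exact Submodule.zero_mem _)
    have hsub : ((hW.primeIdealOf ⟨y, hyW⟩).asIdeal : Set Γ(X, W)) ⊆
        ⋃ q ∈ (associatedPrimes.finite Γ(X, W) Γ(X, W)).toFinset, (id q : Set Γ(X, W)) := by
      intro r hr
      have hnz : r ∉ nonZeroDivisors Γ(X, W) := fun hreg => hm0 (by
        have hmem : m ∈ Submodule.torsion Γ(X, W) (F.val.obj (Opposite.op W)) := by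
          refine (Submodule.mem_torsion_iff m).2 ⟨⟨r, hreg⟩, ?_⟩
          rw [hm, SetLike.mem_coe, Submodule.mem_colon_singleton, Submodule.mem_bot] at hr
          exact hr
        rw [htf ⟨W, hW⟩] at hmem
        exact hmem)
      have hr' : r ∈ {r : Γ(X, W) | ∃ x : Γ(X, W), x ≠ 0 ∧ r • x = 0} := by
        by_contra hc
        refine hnz (mem_nonZeroDivisors_iff_right.2 fun x hx => ?_)
        by_contra hx0
        exact hc ⟨x, hx0, by rw [smul_eq_mul, mul_comm, hx]⟩
      rw [← biUnion_associatedPrimes_eq_zero_divisors Γ(X, W) Γ(X, W)] at hr'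
      simpa using hr'
    obtain ⟨q, hq, hle⟩ := (Ideal.subset_union_prime ⊥ ⊥ fun q hq _ _ =>
      ((associatedPrimes.finite Γ(X, W) Γ(X, W)).mem_toFinset.1 hq).isPrime).1 hsub
    rw [Set.Finite.mem_toFinset] at hq
    obtain ⟨z, hz⟩ := H23.SchDense.primeIdealOf_fromSpec hW ⟨q, hq.isPrime⟩
    have hzU : z.1 ∈ U := by
      by_contra hzU
      exact (H23.SchDense.one_le_depth_iff hW z).1 ((H23.SchDense.isSchematicallyDense_iff U).1 hU _ hzU)
        (by rw [hz]; exact hq)
    have hsp : y ⤳ z.1 := (AssPtX.primeIdealOf_le_iff hW hyW z.2).1 (by rw [hz]; exact hle)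
    exact hsp.mem_open U.2 hzU
  have hinj := AssPtX.restrict_injective hF (inf_le_left : V ⊓ U ≤ V) fun y hy hya => ⟨hy, hass y hya⟩
  intro s t hst
  refine hinj (hφU (V ⊓ U) inf_le_right ?_)
  have h1 := PresheafOfModules.naturality_apply φ.val (homOfLE (inf_le_left : V ⊓ U ≤ V)).op s
  have h2 := PresheafOfModules.naturality_apply φ.val (homOfLE (inf_le_left : V ⊓ U ≤ V)).op t
  exact h1.trans ((congrArg _ hst).trans h2.symm)

end Groth.Agent.S15715
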