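import Mathlib
import Groth.Agent.Proj16.Points
import Groth.Statements.S15723
-- import your own Groth.Agent.* helpers here

set_option autoImplicit false
set_option linter.style.haveILetI false
set_option linter.unusedSectionVars false
universe u v
open CAlg

namespace Groth.Agent.S15723

open HomogeneousLocalization AlgebraicGeometry

variable {R : Type u} {A : Type v} [CommRing R] [CommRing A] [Algebra R A] (𝒜 : ℕ → Submodule R A) [GradedRing 𝒜]

/-- Homogeneous prime avoidance inside a homogeneous ideal, in positive degree. -/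
theorem exists_avoid (J : Ideal A) (hJ : J.IsHomogeneous 𝒜) (S : Finset (Ideal A))
    (hS : ∀ P ∈ S, P.IsPrime ∧ P.IsHomogeneous 𝒜 ∧ ¬ J ≤ P ∧ ¬ (HomogeneousIdeal.irrelevant 𝒜).toIdeal ≤ P) :
    ∃ e : ℕ, 0 < e ∧ ∃ x ∈ 𝒜 e, x ∈ J ∧ ∀ P ∈ S, x ∉ P := by
  classical
  have comp : ∀ {r : A} {P : Ideal A}, r ∉ P → ∃ i, (DirectSum.decompose 𝒜 r i : A) ∉ P := fun {r P} hr => by
    by_contra hc
    push Not at hc
    exact hr (DirectSum.sum_support_decompose 𝒜 r ▸ Ideal.sum_mem _ fun i _ => hc i)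
  have hh : ∀ P ∈ S, ∃ e : ℕ, 0 < e ∧ ∃ h ∈ 𝒜 e, h ∈ J ∧ h ∉ P := by
    intro P hP
    obtain ⟨hPp, -, hJP, hirr⟩ := hS P hP
    obtain ⟨j, hjJ, hjP⟩ := SetLike.not_le_iff_exists.1 hJP
    obtain ⟨i, hi⟩ := comp hjP
    rw [HomogeneousIdeal.toIdeal_irrelevant_le] at hirr
    push Not at hirr
    obtain ⟨d, hd, hdP⟩ := hirr
    obtain ⟨g, hg, hgP⟩ := SetLike.not_le_iff_exists.1 hdP
    exact ⟨i + d, by omega, (DirectSum.decompose 𝒜 j i : A) * g, SetLike.mul_mem_graded (SetLike.coe_mem _) hg,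
      Ideal.mul_mem_right _ _ (hJ i hjJ), fun h => (hPp.mem_or_mem h).elim hi hgP⟩
  suffices ∀ T ⊆ S, ∃ e : ℕ, 0 < e ∧ ∃ x ∈ 𝒜 e, x ∈ J ∧ ∀ P ∈ T, x ∉ P from this S subset_rfl
  intro T
  induction T using Finset.strongInduction with
  | H T ih =>
    intro hTS
    rcases T.eq_empty_or_nonempty with rfl | hne
    · exact ⟨1, one_pos, 0, zero_mem _, zero_mem _, by simp⟩
    obtain ⟨P, hPT, hmin⟩ := T.exists_minimal hne
    obtain ⟨hPp, -, -, -⟩ := hS P (hTS hPT)
    obtain ⟨ef, hef, f, hf, hfJ, hfav⟩ := ih (T.erase P) (Finset.erase_ssubset hPT) ((Finset.erase_subset _ _).trans hTS)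
    by_cases hfP : f ∈ P
    swap
    · refine ⟨ef, hef, f, hf, hfJ, fun Q hQ => ?_⟩
      rcases eq_or_ne Q P with rfl | hQP
      exacts [hfP, hfav Q (Finset.mem_erase.2 ⟨hQP, hQ⟩)]
    have hg0 : ∀ U ⊆ T.erase P, ∃ e : ℕ, ∃ g ∈ 𝒜 e, g ∉ P ∧ ∀ Q ∈ U, g ∈ Q := by
      intro U
      induction U using Finset.induction_on with
      | empty => intro _; exact ⟨0, 1, SetLike.one_mem_graded 𝒜, fun h => hPp.ne_top ((Ideal.eq_top_iff_one P).2 h), by simp⟩
      | @insert Q U _ ihU =>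
        intro hU
        obtain ⟨e, g, hg, hgP, hgU⟩ := ihU ((Finset.subset_insert _ _).trans hU)
        obtain ⟨hQP, hQT⟩ := Finset.mem_erase.1 (hU (Finset.mem_insert_self Q U))
        have hnle : ¬ Q ≤ P := fun h => hQP (le_antisymm h (hmin hQT h))
        obtain ⟨r, hrQ, hrP⟩ := SetLike.not_le_iff_exists.1 hnle
        obtain ⟨i, hi⟩ := comp hrP
        refine ⟨e + i, g * (DirectSum.decompose 𝒜 r i : A), SetLike.mul_mem_graded hg (SetLike.coe_mem _),
          fun h => (hPp.mem_or_mem h).elim hgP hi, fun Q' hQ' => ?_⟩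
        rcases Finset.mem_insert.1 hQ' with rfl | hQ'
        · exact Ideal.mul_mem_left _ _ ((hS Q' (hTS hQT)).2.1 i hrQ)
        · exact Ideal.mul_mem_right _ _ (hgU Q' hQ')
    obtain ⟨e0, g0, hg0', hg0P, hg0Q⟩ := hg0 _ subset_rfl
    obtain ⟨eh, heh, h, hh', hhJ, hhP⟩ := hh P (hTS hPT)
    have hg : g0 * h ∈ 𝒜 (e0 + eh) := SetLike.mul_mem_graded hg0' hh'
    have hgP : g0 * h ∉ P := fun hc => (hPp.mem_or_mem hc).elim hg0P hhP
    refine ⟨(e0 + eh) * ef, Nat.mul_pos (by omega) hef, f ^ (e0 + eh) + (g0 * h) ^ ef, add_mem ?_ ?_,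
      add_mem (Ideal.pow_mem_of_mem _ hfJ _ (by omega)) (Ideal.pow_mem_of_mem _ (Ideal.mul_mem_left _ _ hhJ) _ hef),
      fun Q hQ hmem => ?_⟩
    · exact SetLike.pow_mem_graded (A := 𝒜) (e0 + eh) hf
    · rw [mul_comm]; exact SetLike.pow_mem_graded (A := 𝒜) ef hg
    · rcases eq_or_ne Q P with rfl | hQP
      · exact hgP (hPp.mem_of_pow_mem _
          ((Ideal.add_mem_iff_right _ (Ideal.pow_mem_of_mem _ hfP _ (by omega))).1 hmem))
      · have hQ' := Finset.mem_erase.2 ⟨hQP, hQ⟩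
        exact hfav Q hQ' ((hS Q (hTS hQ)).1.mem_of_pow_mem _
          ((Ideal.add_mem_iff_left _ (Ideal.pow_mem_of_mem _ (Ideal.mul_mem_right _ _ (hg0Q Q hQ')) _ hef)).1 hmem))

/-- The sequence: each element avoids the given primes and the minimal primes of its predecessors. -/
theorem exists_seq [IsNoetherianRing A] (J : Ideal A) (hJ : J.IsHomogeneous 𝒜) (P : Finset (Ideal A))
    (hP : ∀ q ∈ P, q.IsPrime ∧ ¬ J ≤ q ∧ ¬ (HomogeneousIdeal.irrelevant 𝒜).toIdeal ≤ q) (h : ℕ) :
    ∃ zs : List A, zs.length = h ∧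
      (∀ z ∈ zs, (∃ n : ℕ, 0 < n ∧ z ∈ 𝒜 n) ∧ z ∈ J ∧ ∀ q ∈ P, z ∉ q) ∧
      ∀ (k : ℕ) (hk : k < zs.length), ∀ Q ∈ (Ideal.ofList (zs.take k)).minimalPrimes, ¬ J ≤ Q →
        ¬ (HomogeneousIdeal.irrelevant 𝒜).toIdeal ≤ Q → zs[k] ∉ Q := by
  classical
  induction h with
  | zero => exact ⟨[], rfl, by simp, fun k hk => absurd hk (Nat.not_lt_zero k)⟩
  | succ h ih =>
    obtain ⟨zs, hlen, hzs, havoid⟩ := ih
    let S₀ : Finset (Ideal A) := P ∪
      (Ideal.finite_minimalPrimes_of_isNoetherianRing A (Ideal.ofList zs)).toFinset.filter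
        (fun Q => ¬ J ≤ Q ∧ ¬ (HomogeneousIdeal.irrelevant 𝒜).toIdeal ≤ Q)
    have hS₀ : ∀ q ∈ S₀, q.IsPrime ∧ ¬ J ≤ q ∧ ¬ (HomogeneousIdeal.irrelevant 𝒜).toIdeal ≤ q := by
      intro q hq
      rcases Finset.mem_union.1 hq with hq | hq
      · exact hP q hq
      · obtain ⟨hq, hq'⟩ := Finset.mem_filter.1 hq
        exact ⟨((Set.Finite.mem_toFinset _).1 hq).isPrime, hq'⟩
    obtain ⟨e, he, z, hz, hzJ, hav⟩ := exists_avoid 𝒜 J hJ (S₀.image fun q => (q.homogeneousCore 𝒜).toIdeal) (by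
      intro q' hq'
      obtain ⟨q, hq, rfl⟩ := Finset.mem_image.1 hq'
      obtain ⟨hqp, hJq, hirr⟩ := hS₀ q hq
      exact ⟨hqp.homogeneousCore, (q.homogeneousCore 𝒜).isHomogeneous,
        fun h => hJq (h.trans (Ideal.toIdeal_homogeneousCore_le 𝒜 q)),
        fun h => hirr (h.trans (Ideal.toIdeal_homogeneousCore_le 𝒜 q))⟩)
    have hav' : ∀ q ∈ S₀, z ∉ q := fun q hq hzq => hav _ (Finset.mem_image.2 ⟨q, hq, rfl⟩)
      (Ideal.mem_homogeneousCore_of_homogeneous_of_mem ⟨e, hz⟩ hzq)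
    refine ⟨zs ++ [z], by simp [hlen], fun w hw => ?_, fun k hk Q hQ hJQ hirr => ?_⟩
    · rcases List.mem_append.1 hw with hw | hw
      · exact hzs w hw
      · rw [List.mem_singleton.1 hw]
        exact ⟨⟨e, he, hz⟩, hzJ, fun q hq => hav' q (Finset.mem_union_left _ hq)⟩
    · rcases Nat.lt_or_ge k zs.length with hk' | hk'
      · rw [List.take_append_of_le_length hk'.le] at hQ
        rw [List.getElem_append_left hk']
        exact havoid k hk' Q hQ hJQ hirr
      · obtain rfl : k = zs.length := by simp at hk; omega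
        rw [List.take_left] at hQ
        rw [List.getElem_append_right le_rfl]
        simp only [Nat.sub_self, List.getElem_cons_zero]
        exact hav' Q (Finset.mem_union_right _ (Finset.mem_filter.2 ⟨(Set.Finite.mem_toFinset _).2 hQ, hJQ, hirr⟩))

theorem mk_mem_locIdeal {f : A} {n : ℕ} (hf : f ∈ 𝒜 n) (I : Ideal A) (N : ℕ) (a : A) (ha : a ∈ 𝒜 (N • n)) :
    Away.mk 𝒜 hf N a ha ∈ W4c2ratsingkovacs.locIdeal 𝒜 I f ↔
      algebraMap A (Localization.Away f) a ∈ I.map (algebraMap A (Localization.Away f)) := by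
  rw [W4c2ratsingkovacs.locIdeal, Ideal.mem_comap, HomogeneousLocalization.algebraMap_apply, Away.val_mk,
    Localization.mk_eq_mk', IsLocalization.mk'_mem_iff]

/-- Let A be a Noetherian commutative ring graded by the natural numbers, J a homogeneous ideal of
uniform geometric height h (the height of the homogeneous localization J_(f) in the degree-zero ring
A_(f) is h for every homogeneous f of positive degree outside the radical of J), and q_1, ..., q_t
finitely many prime ideals none of which contains J or the irrelevant ideal A_+. Then there are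
homogeneous elements z_1, ..., z_h of positive degree, lying in J and in no q_i, such that for every
homogeneous f of positive degree outside the radical of J and every 1 ≤ j ≤ h the ideal (z_1, ...,
z_j) has geometric height j with respect to f. (The published statement lets f range over all
homogeneous elements outside the radical of J, degree 0 included; then it fails: in A = k[t][x] with
t of degree 0 and x of degree 1, the ideal J = (t) has geometric height 1 with respect to every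
homogeneous f outside its radical, f = 1 included, while (z)_(1) = 0 has height 0 for every
homogeneous z of positive degree. This row takes f of positive degree, in the hypothesis and in the
conclusion.) -/
theorem result {R : Type u} {A : Type v} [CommRing R] [CommRing A]
    [Algebra R A] [IsNoetherianRing A] (𝒜 : ℕ → Submodule R A) [GradedRing 𝒜]
    (J : Ideal A) (hJ : J.IsHomogeneous 𝒜) (h : ℕ) (hJh : W4c2ratsingkovacs.HasUniformGeomHeight 𝒜 J h)
    (P : Finset (Ideal A)) (hP : ∀ q ∈ P, q.IsPrime ∧ ¬ J ≤ q ∧ ¬ (HomogeneousIdeal.irrelevant 𝒜).toIdeal ≤ q) :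
    ∃ zs : List A, zs.length = h ∧
      (∀ z ∈ zs, (∃ n : ℕ, 0 < n ∧ z ∈ 𝒜 n) ∧ z ∈ J ∧ ∀ q ∈ P, z ∉ q) ∧
      ∀ (f : A) (n : ℕ), 0 < n → f ∈ 𝒜 n → f ∉ J.radical →
        ∀ j : ℕ, 1 ≤ j → j ≤ h → W4c2ratsingkovacs.geomHeight 𝒜 (Ideal.ofList (zs.take j)) f = j := by
  classical
  obtain ⟨zs, hlen, hzs, havoid⟩ := exists_seq 𝒜 J hJ P hP h
  refine ⟨zs, hlen, hzs, fun f n hn hf hfJ => ?_⟩
  haveI : IsNoetherianRing (Away 𝒜 f) := Groth.Agent.Proj16.isNoetherianRing_away 𝒜 f hf
  have hsub : ∀ j, Ideal.ofList (zs.take j) ≤ J := fun j =>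
    Ideal.span_le.2 fun z hz => (hzs z (List.mem_of_mem_take hz)).2.1
  have hmono : ∀ {I I' : Ideal A}, I ≤ I' →
      W4c2ratsingkovacs.locIdeal 𝒜 I f ≤ W4c2ratsingkovacs.locIdeal 𝒜 I' f :=
    fun hle => Ideal.comap_mono (Ideal.map_mono hle)
  have hJtop : W4c2ratsingkovacs.locIdeal 𝒜 J f ≠ ⊤ := fun htop => by
    have h1 := hJh f n hn hf hfJ
    rw [W4c2ratsingkovacs.geomHeight, htop, Ideal.height_top] at h1
    exact ENat.top_ne_coe h h1
  -- the lower bound
  have hlow : ∀ j ≤ h, ∀ p : Ideal (Away 𝒜 f), p.IsPrime →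
      W4c2ratsingkovacs.locIdeal 𝒜 (Ideal.ofList (zs.take j)) f ≤ p → (j : ℕ∞) ≤ p.height := by
    intro j
    induction j with
    | zero => intro _ p _ _; simp
    | succ j ih =>
      intro hj p hp hle
      have hle' : W4c2ratsingkovacs.locIdeal 𝒜 (Ideal.ofList (zs.take j)) f ≤ p :=
        (hmono (Ideal.span_mono fun z hz => (List.take_subset_take_left zs (Nat.le_succ j)) hz)).trans hle
      obtain ⟨p', hp', hp'le⟩ := Ideal.exists_minimalPrimes_le hle'
      haveI := hp'.isPrime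
      rcases hp'le.lt_or_eq with hlt | rfl
      · calc ((j + 1 : ℕ) : ℕ∞) = (j : ℕ∞) + 1 := by push_cast; rfl
          _ ≤ p'.height + 1 := by gcongr; exact ih (by omega) p' hp'.isPrime hp'.le
          _ ≤ p.height := Ideal.height_add_one_le_of_lt_of_isPrime hlt
      · obtain ⟨Q', hQ', hcomap⟩ := Ideal.exists_minimalPrimes_comap_eq _ p' hp'
        have hQ : Q'.under A ∈ (Ideal.ofList (zs.take j)).minimalPrimes := by
          rw [IsLocalization.minimalPrimes_map (Submonoid.powers f)] at hQ'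
          exact hQ'
        haveI := hQ'.isPrime
        have hfQ : f ∉ Q'.under A := fun hmem => hQ'.isPrime.ne_top
          (Ideal.eq_top_of_isUnit_mem _ hmem (IsLocalization.Away.algebraMap_isUnit f))
        by_cases hJQ : J ≤ Q'.under A
        · calc ((j + 1 : ℕ) : ℕ∞) ≤ (h : ℕ∞) := by exact_mod_cast hj
            _ = W4c2ratsingkovacs.geomHeight 𝒜 J f := (hJh f n hn hf hfJ).symm
            _ ≤ p'.height := Ideal.height_mono (hcomap ▸ Ideal.comap_mono (Ideal.map_le_iff_le_comap.2 hJQ))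
        exfalso
        have hk : j < zs.length := by omega
        refine havoid j hk _ hQ hJQ (fun hirr => hfQ (hirr (HomogeneousIdeal.mem_irrelevant_of_mem 𝒜 hn hf))) ?_
        obtain ⟨⟨d, -, hzd⟩, -, -⟩ := hzs _ (List.getElem_mem hk)
        have hx : zs[j] ^ n ∈ 𝒜 (d • n) := by
          rw [smul_eq_mul, mul_comm]; exact SetLike.pow_mem_graded n hzd
        have hmem : Away.mk 𝒜 hf d (zs[j] ^ n) hx ∈ p' := hle ((mk_mem_locIdeal 𝒜 hf _ _ _ _).2
          (Ideal.mem_map_of_mem _ (Ideal.pow_mem_of_mem _ (Ideal.subset_span (by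
            show zs[j] ∈ zs.take (j + 1)
            exact List.mem_take_iff_getElem.2 ⟨j, by omega, rfl⟩)) _ hn)))
        rw [← hcomap, Ideal.mem_comap, HomogeneousLocalization.algebraMap_apply, Away.val_mk, Localization.mk_eq_mk',
          IsLocalization.mk'_mem_iff] at hmem
        exact hQ.isPrime.mem_of_pow_mem n hmem
  intro j _ hjh
  refine le_antisymm ?_ ?_
  · -- the upper bound
    have hdeg : ∀ z ∈ (zs.take j).toFinset, ∃ d, z ∈ 𝒜 d := fun z hz =>
      let ⟨d, _, hd⟩ := (hzs z (List.mem_of_mem_take (List.mem_toFinset.1 hz))).1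
      ⟨d, hd⟩
    choose d hd using hdeg
    have hpow : ∀ z hz, z ^ n ∈ 𝒜 (d z hz • n) := fun z hz => by
      rw [smul_eq_mul, mul_comm]; exact SetLike.pow_mem_graded n (hd z hz)
    let s : Finset (Away 𝒜 f) :=
      (zs.take j).toFinset.attach.image fun z => Away.mk 𝒜 hf (d z.1 z.2) (z.1 ^ n) (hpow z.1 z.2)
    have hs : Ideal.span (s : Set (Away 𝒜 f)) ≤ W4c2ratsingkovacs.locIdeal 𝒜 (Ideal.ofList (zs.take j)) f := by
      rw [Ideal.span_le]
      intro x hx
      obtain ⟨⟨z, hz⟩, -, rfl⟩ := Finset.mem_image.1 hx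
      exact (mk_mem_locIdeal 𝒜 hf _ _ _ _).2
        (Ideal.mem_map_of_mem _ (Ideal.pow_mem_of_mem _ (Ideal.subset_span (show z ∈ {r | r ∈ zs.take j} from List.mem_toFinset.1 hz)) _ hn))
    have hover : ∀ p : Ideal (Away 𝒜 f), p.IsPrime → Ideal.span (s : Set (Away 𝒜 f)) ≤ p →
        W4c2ratsingkovacs.locIdeal 𝒜 (Ideal.ofList (zs.take j)) f ≤ p := by
      intro p hp hle y hy
      let q : PrimeSpectrum (Away 𝒜 f) := ⟨p, hp⟩
      let 𝔭 : Ideal A := ProjIsoSpecTopComponent.FromSpec.carrier.asIdeal hf hn q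
      haveI : 𝔭.IsPrime := ProjIsoSpecTopComponent.FromSpec.carrier.asIdeal.prime hf hn q
      have hK : Ideal.ofList (zs.take j) ≤ 𝔭 := Ideal.span_le.2 fun z hz => by
        have hz' := List.mem_toFinset.2 hz
        refine (ProjIsoSpecTopComponent.FromSpec.mem_carrier_iff_of_mem hf hn q z (hd z hz')).2 ?_
        have hx := hle (Ideal.subset_span (Finset.mem_image.2 ⟨⟨z, hz'⟩, Finset.mem_attach _ _, rfl⟩))
        convert! hx using 1
        refine HomogeneousLocalization.val_injective _ ?_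
        simp
      obtain ⟨N, a, ha, rfl⟩ := Away.mk_surjective 𝒜 hf y
      have ha' : a ∈ 𝔭 := by
        rw [← IsLocalization.under_map_of_isPrime_disjoint (Submonoid.powers f) (Localization.Away f)
          (I := 𝔭) inferInstance ((Ideal.disjoint_powers_iff_notMem_of_isPrime _).mpr
            (ProjIsoSpecTopComponent.FromSpec.carrier.denom_notMem hf hn q))]
        exact Ideal.map_mono hK ((mk_mem_locIdeal 𝒜 hf _ _ _ _).1 hy)
      exact (ProjIsoSpecTopComponent.FromSpec.num_mem_carrier_iff hf hn q _).1 ha'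
    have hne : W4c2ratsingkovacs.locIdeal 𝒜 (Ideal.ofList (zs.take j)) f ≠ ⊤ := fun htop =>
      hJtop (top_le_iff.1 (htop ▸ hmono (hsub j)))
    obtain ⟨p, hp⟩ := Ideal.nonempty_minimalPrimes hne
    have hp' : p ∈ (Ideal.span (s : Set (Away 𝒜 f))).minimalPrimes :=
      ⟨⟨hp.isPrime, hs.trans hp.le⟩, fun p' hp'' hle => hp.2 ⟨hp''.1, hover p' hp''.1 hp''.2⟩ hle⟩
    calc W4c2ratsingkovacs.geomHeight 𝒜 (Ideal.ofList (zs.take j)) f ≤ p.height := Ideal.height_mono hp.le
      _ ≤ (s.card : ℕ∞) := Ideal.height_le_card_of_mem_minimalPrimes_span_finset hp'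
      _ ≤ (j : ℕ∞) := by
        gcongr
        exact Finset.card_image_le.trans ((Finset.card_attach).trans_le
          ((List.toFinset_card_le _).trans (List.length_take_le _ _)))
  · rw [W4c2ratsingkovacs.geomHeight, Ideal.height_eq_inf_minimalPrimes]
    exact le_iInf₂ fun p hp => hlow j hjh p hp.isPrime hp.le

end Groth.Agent.S15723
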