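import Groth.Statements.S15747
import Groth.Agent.OmegaLib.IdealMod

set_option autoImplicit false
set_option linter.style.haveILetI false
set_option backward.isDefEq.respectTransparency false
set_option backward.isDefEq.respectTransparency.types false
universe u
open CategoryTheory CategoryTheory.Limits AlgebraicGeometry Opposite
open UnitsSh

namespace Groth.Agent.S15747

section
open CategoryTheory CategoryTheory.Limits AlgebraicGeometry TopologicalSpace Opposite Groth.Agent

variable {X : Scheme.{u}} (J : X.IdealSheafData) (hJ : J * J = ⊥)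

include hJ in
theorem idealSect_mul_eq_zero (U : X.Opens) (a b : Γ(ClSub.idealMod J, U)) :
    OmegaSh.idealSect J U a * OmegaSh.idealSect J U b = 0 := by
  refine TopCat.Presheaf.section_ext X.sheaf U _ _ fun x hx => ?_
  obtain ⟨W, hW, hxW, hWU⟩ := exists_isAffineOpen_mem_and_subset (x := x) (U := U) hx
  replace hWU : W ≤ U := hWU
  have h := Ideal.mul_mem_mul (OmegaLib.idealSect_mem J ⟨W, hW⟩ ((ClSub.idealMod J).presheaf.map (homOfLE hWU).op a))
    (OmegaLib.idealSect_mem J ⟨W, hW⟩ ((ClSub.idealMod J).presheaf.map (homOfLE hWU).op b))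
  rw [← Pi.mul_apply, ← Scheme.IdealSheafData.ideal_mul, hJ, Scheme.IdealSheafData.ideal_bot, Pi.bot_apply,
    Ideal.mem_bot, OmegaLib.idealSect_map J hWU a, OmegaLib.idealSect_map J hWU b, ← map_mul] at h
  change X.presheaf.germ U x hx _ = X.presheaf.germ U x hx 0
  rw [map_zero, ← TopCat.Presheaf.germ_res_apply X.presheaf (homOfLE hWU) x hxW, h, map_zero]

/-- `1 + f` as a unit. -/
noncomputable def oneAdd (U : X.Opens) (a : Γ(ClSub.idealMod J, U)) : Γ(X, U)ˣ where
  val := 1 + OmegaSh.idealSect J U a
  inv := 1 - OmegaSh.idealSect J U a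
  val_inv := by linear_combination -(idealSect_mul_eq_zero J hJ U a a)
  inv_val := by linear_combination -(idealSect_mul_eq_zero J hJ U a a)

/-- The map `f ↦ 1 + f`. -/
noncomputable def expMap : Coh.toAb (ClSub.idealMod J) ⟶ UnitsSh.unitsAb X :=
  ⟨{ app := fun V => AddCommGrpCat.ofHom (AddMonoidHom.mk'
      (fun a => UnitsSh.sectOfUnit (O := X.presheaf) (oneAdd J hJ V.unop a)) fun a b => by
        refine congrArg (UnitsSh.sectOfUnit (O := X.presheaf)) (Units.ext ?_)
        change 1 + OmegaSh.idealSect J V.unop (a + b) =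
          (1 + OmegaSh.idealSect J V.unop a) * (1 + OmegaSh.idealSect J V.unop b)
        rw [map_add]
        linear_combination -(idealSect_mul_eq_zero J hJ V.unop a b))
     naturality := fun V W i => by
      ext a
      refine congrArg (UnitsSh.sectOfUnit (O := X.presheaf)) (Units.ext ?_)
      change 1 + OmegaSh.idealSect J W.unop ((ClSub.idealMod J).presheaf.map i a) =
        X.presheaf.map i (1 + OmegaSh.idealSect J V.unop a)
      rw [map_add, map_one]
      exact congrArg (1 + ·) (OmegaLib.idealSect_map J i.unop.le a) }⟩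

theorem injective_expMap (V : (Opens X)ᵒᵖ) : Function.Injective ((expMap J hJ).hom.app V) := fun a b h =>
  OmegaLib.idealSect_injective J V.unop (add_left_cancel (congrArg (fun s => (UnitsSh.unitOfSect s).val) h))

theorem units_shortExact : ∃ w : expMap J hJ ≫ UnitsSh.comap J.subschemeι = 0,
    (ShortComplex.mk (expMap J hJ) (UnitsSh.comap J.subschemeι) w).ShortExact := by
  have w : expMap J hJ ≫ UnitsSh.comap J.subschemeι = 0 := by
    apply Sheaf.hom_ext
    ext V a
    refine congrArg (UnitsSh.sectOfUnit (O := J.subscheme.presheaf)) (Units.ext ?_)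
    change J.subschemeι.app V.unop (1 + OmegaSh.idealSect J V.unop a) = 1
    rw [map_add, map_one, OmegaLib.subschemeι_app_idealSect, add_zero]
  refine ⟨w, ?_⟩
  haveI : Mono (expMap J hJ) := by
    haveI : ∀ V, Mono ((expMap J hJ).hom.app V) := fun V =>
      (AddCommGrpCat.mono_iff_injective _).2 (injective_expMap J hJ V)
    haveI : Mono (expMap J hJ).hom := NatTrans.mono_of_mono_app _
    exact (sheafToPresheaf _ _).mono_of_mono_map (f := expMap J hJ) ‹_›
  haveI : Epi (UnitsSh.comap J.subschemeι) := by
    refine (Sheaf.isLocallySurjective_iff_epi' AddCommGrpCat.{u} _).1 ⟨fun {V} s x hx => ?_⟩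
    obtain ⟨W, hW, hxW, hWV⟩ := exists_isAffineOpen_mem_and_subset hx
    let v : Γ(J.subscheme, J.subschemeι ⁻¹ᵁ W)ˣ := Units.map
      (J.subscheme.presheaf.map ((Opens.map J.subschemeι.base).map (homOfLE hWV)).op).hom.toMonoidHom
      (UnitsSh.unitOfSect (O := J.subscheme.presheaf) s)
    obtain ⟨a, ha⟩ := J.subschemeι_app_surjective ⟨W, hW⟩ v.val
    obtain ⟨b, hb⟩ := J.subschemeι_app_surjective ⟨W, hW⟩ v.inv
    have hc : a * b - 1 ∈ J.ideal ⟨W, hW⟩ := by
      rw [← J.ker_subschemeι_app, RingHom.mem_ker]
      erw [map_sub, map_mul, map_one, ha, hb, v.val_inv, sub_self]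
    have hsq := Ideal.mul_mem_mul hc hc
    rw [← Pi.mul_apply, ← Scheme.IdealSheafData.ideal_mul, hJ, Scheme.IdealSheafData.ideal_bot, Pi.bot_apply,
      Ideal.mem_bot] at hsq
    have hu : IsUnit a := IsUnit.of_mul_eq_one (b * (2 - a * b)) (by linear_combination -hsq)
    exact ⟨W, homOfLE hWV, ⟨UnitsSh.sectOfUnit (O := X.presheaf) hu.unit,
      congrArg (UnitsSh.sectOfUnit (O := J.subscheme.presheaf)) (Units.ext ha)⟩, hxW⟩
  refine ShortComplex.ShortExact.mk ?_
  rw [ShortComplex.exact_iff_epi_kernel_lift, ← Sheaf.isLocallySurjective_iff_epi' AddCommGrpCat.{u}]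
  refine ⟨fun {V} z => (Opens.grothendieckTopology X).superset_covering ?_ ((Opens.grothendieckTopology X).top_mem V)⟩
  intro W f _
  let K := kernel (UnitsSh.comap J.subschemeι)
  let y := (kernel.ι (UnitsSh.comap J.subschemeι)).hom.app (op W) (K.obj.map f.op z)
  have h0 : (UnitsSh.comap J.subschemeι).hom.app (op W) y = 0 :=
    ConcreteCategory.congr_hom (congr_app (congrArg InducedCategory.Hom.hom
      (kernel.condition (UnitsSh.comap J.subschemeι))) (op W)) _
  have h1 : J.subschemeι.app W (UnitsSh.unitOfSect (O := X.presheaf) y).val = 1 :=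
    congrArg (fun t => (UnitsSh.unitOfSect (O := J.subscheme.presheaf) t).val) h0
  obtain ⟨a, ha⟩ := OmegaLib.exists_idealSect_eq J W ((UnitsSh.unitOfSect (O := X.presheaf) y).val - 1)
    (by erw [map_sub, map_one, h1, sub_self])
  have hy : (expMap J hJ).hom.app (op W) a = y := congrArg (UnitsSh.sectOfUnit (O := X.presheaf))
    (Units.ext ((congrArg (1 + ·) ha).trans (add_sub_cancel _ _)))
  have hinj : Function.Injective ((kernel.ι (UnitsSh.comap J.subschemeι)).hom.app (op W)) := by
    haveI : Mono ((sheafToPresheaf _ _).map (kernel.ι (UnitsSh.comap J.subschemeι))) := inferInstance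
    haveI : Mono ((kernel.ι (UnitsSh.comap J.subschemeι)).hom.app (op W)) :=
      inferInstanceAs (Mono (((sheafToPresheaf _ _).map (kernel.ι (UnitsSh.comap J.subschemeι))).app (op W)))
    exact (AddCommGrpCat.mono_iff_injective _).1 inferInstance
  refine ⟨a, hinj ?_⟩
  refine Eq.trans ?_ hy
  exact ConcreteCategory.congr_hom (congr_app (congrArg InducedCategory.Hom.hom
    (kernel.lift_ι (UnitsSh.comap J.subschemeι) (expMap J hJ) w)) (op W)) a

end


/-- Let `X` be a scheme, `J` a quasi-coherent ideal of `O_X` with `J² = 0`, `X₀` the closed subscheme it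
cuts out and `i : X₀ ⟶ X` the inclusion. Then there is a morphism of abelian sheaves `J ⟶ O_X^×` on
the underlying space of `X` sending every local section `f` of `J` to the unit `1 + f` (which
determines it), and the sequence `0 ⟶ J ⟶ O_X^× ⟶ i_* O_{X₀}^× ⟶ 0`, whose second map is the units
map of `i`, is a short exact sequence of abelian sheaves. (The published lemma assumes moreover that
`X` is quasi-compact and separated and that the restriction of global functions `O_X(X) →
O_{X₀}(X₀)` is surjective, and concludes about Picard groups; the exactness of this sequence of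
sheaves, proved there stalk by stalk, uses none of these assumptions.) -/
theorem result (X : Scheme.{u}) (J : X.IdealSheafData)
    (hJ : J * J = ⊥) :
    ∃ φ : Coh.toAb (ClSub.idealMod J) ⟶ UnitsSh.unitsAb X,
      (∀ (U : X.Opens) (f : (ClSub.idealMod J).val.obj (op U)),
        (UnitsSh.unitOfSect (φ.hom.app (op U) f)).val =
          1 + (show X.sheaf.obj.obj (op U) from (ClSub.idealModι J).val.app (op U) f)) ∧
      ∃ w : φ ≫ UnitsSh.comap J.subschemeι = 0,
        (ShortComplex.mk φ (UnitsSh.comap J.subschemeι) w).ShortExact := by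
  refine ⟨expMap J hJ, fun U f => ?_, units_shortExact J hJ⟩
  rfl

end Groth.Agent.S15747
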