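import Groth.Statements.S1575
import Groth.Agent.ZClosLib.ClosedDepth
import Groth.Agent.ZClosLib.Local

set_option autoImplicit false
universe u
open CategoryTheory CategoryTheory.Limits AlgebraicGeometry
open Divisors

namespace Groth.Agent.S1575

/-- Let X be locally Noetherian, F coherent, and U open such that at every point outside U the stalk of
F has depth at least two over the local ring. Then F → j_*(F|_U) is an isomorphism: for every open
V, restriction of sections Γ(V, F) → Γ(V ∩ U, F) is a bijection. -/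
theorem result (X : Scheme.{u}) [IsLocallyNoetherian X]
    (F : X.Modules) (hF : Coh.IsCoh F) (U : X.Opens)
    (hdepth : ∀ x : X, x ∉ U → 2 ≤ LocCoh.depth (X.presheaf.stalk x) (F.presheaf.stalk x)) (V : X.Opens) :
    Function.Bijective (F.val.presheaf.map (homOfLE (inf_le_left : V ⊓ U ≤ V)).op) := by
  have hclosed : IsClosed ((U : Set ↥X)ᶜ) := isClosed_compl_iff.2 U.isOpen
  have hZ : ZClos.IsZClosed ((U : Set ↥X)ᶜ) F := by
    refine Groth.Agent.ZClosLib.isIso_of_stalkMap_bijective _ fun x => ?_
    exact Groth.Agent.ZClosLib.isZClosedAt_of_two_le_depth hF hclosed.stableUnderSpecialization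
      (fun x' _ hx' => hdepth x' hx')
  let T : ZClos.Cl ((U : Set ↥X)ᶜ) := ⟨⟨_, hclosed⟩, le_rfl⟩
  have hT : T.U = U := TopologicalSpace.Opens.ext (compl_compl _)
  have h1 := (Groth.Agent.ZClosLib.unit_app_bijective_iff T.U F V).1
    (haveI : IsIso (ZClos.toDiagram _ F T) := (Groth.Agent.ZClosLib.isZClosed_iff_forall_isIso).1 hZ T
     Groth.Agent.ZClosLib.app_bijective_of_isIso (ZClos.toDiagram _ F T) V)
  exact Groth.Agent.ZClosLib.bijective_congr F (inf_le_left : V ⊓ T.U ≤ V) (inf_le_left : V ⊓ U ≤ V) rfl (by rw [hT]) |>.1 h1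

end Groth.Agent.S1575
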