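import Groth.Statements.S15756
import Groth.Agent.NonAbLib.LevelNewton.Smooth
import Mathlib.RingTheory.AdicCompletion.Completeness
import Mathlib.RingTheory.FiniteType

set_option autoImplicit false
universe u
open CAlg

namespace Groth.Agent.S15756


/-- An element of `A[1/t]` whose image is divisible by `t ^ M` is divisible by `t ^ M`. -/
theorem exists_eq_mul_pow {A A' R R' : Type u} [CommRing A] [CommRing A'] [CommRing R] [CommRing R']
    (t : A) (φ : A →+* A') (hinj : ∀ (m : ℕ) a, φ t ^ m ∣ φ a → t ^ m ∣ a)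
    [Algebra A R] [IsLocalization.Away t R] [Algebra A' R'] [IsLocalization.Away (φ t) R']
    (χ : R →+* R') (hχ : ∀ a, χ (algebraMap A R a) = algebraMap A' R' (φ a)) {M : ℕ} {y : R} {f : A'}
    (h : χ y = algebraMap A' R' (φ t ^ M * f)) : ∃ c, y = algebraMap A R (t ^ M * c) := by
  obtain ⟨c, a, ha⟩ := IsLocalization.Away.surj t y
  have h1 : algebraMap A' R' (φ a) = algebraMap A' R' (φ t ^ (M + c) * f) := by
    rw [← hχ, ← ha, map_mul, map_pow, h, hχ, pow_add, map_mul, map_mul, map_mul, map_pow, map_pow]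
    ring
  obtain ⟨⟨_, e, rfl⟩, he⟩ := IsLocalization.exists_of_eq (M := Submonoid.powers (φ t)) h1
  obtain ⟨b, hb⟩ := hinj (e + (M + c)) (t ^ e * a) ⟨f, by rw [map_mul, map_pow]; exact he.trans (by ring)⟩
  refine ⟨b, (((IsLocalization.Away.algebraMap_isUnit (S := R) t).pow e).mul
    ((IsLocalization.Away.algebraMap_isUnit (S := R) t).pow c)).mul_left_cancel ?_⟩
  have h2 := congrArg (algebraMap A R) hb
  simp only [map_mul, map_pow, ← ha, pow_add] at h2 ⊢
  linear_combination h2

/-- Case of the whole affine base U = Spec A, the unit ideal I = A and an affine scheme X: let A be a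
ring with an element t such that (A, tA) is a Henselian pair and the t-power torsion of A is
bounded, let Â be the t-adic completion, and let B be an A-algebra of finite type with B[1/t] smooth
over A[1/t]. Then every A-algebra homomorphism B → Â is congruent modulo t^n, for any prescribed n,
to an A-algebra homomorphism B → A. (The published statement allows any quasi-compact open U of Spec
A containing Spec A[1/t], any bounded Zariski Gabber–Ramero triple (A, t, I) that is Henselian (or,
instead, satisfies a lifting condition for Zariski pairs over A[1/t]), and U-schemes locally of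
finite type that are ind-quasi-affine or subprojective and smooth over A[1/t], and it asserts
density of X(U) in X(U_Â) for the (t, I)-adic topology; this row is the case U = Spec A, I = A, X =
Spec B affine, under the Henselian alternative.) -/
theorem result (A : Type u) [CommRing A] (t : A)
    [HenselianRing A (Ideal.span {t})]
    (hbd : ∃ N : ℕ, ∀ a : A, (∃ m : ℕ, t ^ m * a = 0) → t ^ N * a = 0)
    (B : Type u) [CommRing B] [Algebra A B] [Algebra.FiniteType A B]
    (hsm : Algebra.Smooth (Localization.Away t)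
      (Localization (Algebra.algebraMapSubmonoid B (Submonoid.powers t))))
    (n : ℕ) (σ : B →ₐ[A] AdicCompletion (Ideal.span {t}) A) :
    ∃ τ : B →ₐ[A] A,
      (Ideal.Quotient.mkₐ A (Ideal.span {t} ^ n)).comp τ =
        (AdicCompletion.evalₐ (Ideal.span {t}) n).comp σ := by
  obtain ⟨N, hN⟩ := hbd
  obtain ⟨M, hMn, hMN⟩ : ∃ M, n ≤ M ∧ N ≤ M := ⟨max n N, le_max_left _ _, le_max_right _ _⟩
  obtain ⟨φ, hφ⟩ : ∃ φ, φ = algebraMap A (AdicCompletion (Ideal.span {t}) A) := ⟨_, rfl⟩
  have hker : ∀ (m : ℕ) (x : AdicCompletion (Ideal.span {t}) A),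
      AdicCompletion.evalₐ (Ideal.span {t}) m x = 0 ↔ φ t ^ m ∣ x := by
    intro m x
    rw [hφ]
    constructor
    · intro h
      have h1 : x ∈ (Ideal.span {t}) ^ m • (⊤ : Submodule A (AdicCompletion (Ideal.span {t}) A)) := by
        rw [AdicCompletion.pow_smul_top_eq_ker_eval (I := Ideal.span {t}) (M := A) ⟨{t}, by simp⟩, LinearMap.mem_ker,
          ← AdicCompletion.factor_evalₐ_eq_eval (Ideal.span {t}) (n := m) x (le_of_eq (by rw [smul_eq_mul, Ideal.mul_top])),
          h, map_zero]
      rw [Ideal.smul_top_eq_map, Submodule.restrictScalars_mem, Ideal.span_singleton_pow, Ideal.map_span,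
        Set.image_singleton, map_pow] at h1
      exact Ideal.mem_span_singleton.1 h1
    · rintro ⟨y, rfl⟩
      rw [map_mul, map_pow, AlgHom.commutes, ← map_pow]
      rw [show algebraMap A (A ⧸ Ideal.span {t} ^ m) (t ^ m) = 0 from
        Ideal.Quotient.eq_zero_iff_mem.2 (Ideal.pow_mem_pow (Ideal.mem_span_singleton_self t) m), zero_mul]
  have hinj : ∀ (m : ℕ) a, φ t ^ m ∣ φ a → t ^ m ∣ a := fun m x hx => by
    have h := (hker m _).2 hx
    rw [hφ, AlgHom.commutes] at h
    have h' : x ∈ Ideal.span {t} ^ m := Ideal.Quotient.eq_zero_iff_mem.1 h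
    rwa [Ideal.span_singleton_pow, Ideal.mem_span_singleton] at h'
  have hsurj : ∀ (m : ℕ) a', ∃ a, φ t ^ m ∣ a' - φ a := fun m x => by
    obtain ⟨b, hb⟩ := Ideal.Quotient.mk_surjective (AdicCompletion.evalₐ (Ideal.span {t}) m x)
    refine ⟨b, (hker m _).1 ?_⟩
    rw [map_sub, hφ, AlgHom.commutes, sub_eq_zero, ← hb]
    rfl
  let R := Localization.Away t
  let R' := Localization.Away (φ t)
  let Bt := Localization (Algebra.algebraMapSubmonoid B (Submonoid.powers t))
  let χ : R →+* R' := IsLocalization.Away.map R R' φ t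
  have hχ : ∀ a, χ (algebraMap A R a) = algebraMap _ R' (φ a) := fun a => IsLocalization.map_eq _ a
  let β₀ : B →+* R' := (algebraMap _ R').comp σ.toRingHom
  have hσA : ∀ a, σ (algebraMap A B a) = φ a := fun a => by rw [hφ, AlgHom.commutes]
  let β : Bt →+* R' := IsLocalization.lift (M := Algebra.algebraMapSubmonoid B (Submonoid.powers t)) (g := β₀) fun y => by
    obtain ⟨_, ⟨_, ⟨k, rfl⟩, rfl⟩⟩ := y
    show IsUnit (algebraMap _ R' (σ (algebraMap A B (t ^ k))))
    rw [hσA, map_pow, map_pow]
    exact (IsLocalization.Away.algebraMap_isUnit (φ t)).pow k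
  have hβ : β.comp (algebraMap R Bt) = χ := by
    refine IsLocalization.ringHom_ext (Submonoid.powers t) (RingHom.ext fun a => ?_)
    simp only [RingHom.comp_apply, hχ]
    rw [← IsScalarTower.algebraMap_apply A R Bt, IsScalarTower.algebraMap_apply A B Bt]
    exact (IsLocalization.lift_eq _ _).trans (congrArg (algebraMap _ R') (hσA a))
  obtain ⟨s, hs⟩ := Algebra.FiniteType.out (R := A) (A := B)
  classical
  have : Algebra.Smooth R Bt := hsm
  obtain ⟨ρ, hρ⟩ := Groth.Agent.NonAbLib.LevelNewton.exists_algHom_near t φ hinj hsurj χ (RingHom.ext hχ) β hβ M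
    (s.image (algebraMap B Bt))
  let g : B →ₐ[A] R := (ρ.restrictScalars A).comp (IsScalarTower.toAlgHom A B Bt)
  have huniq : ∀ a b : A, algebraMap A R a = algebraMap A R b → φ t ^ M ∣ φ (a - b) → a = b := fun a b h h' => by
    obtain ⟨⟨_, e, rfl⟩, he⟩ := IsLocalization.exists_of_eq (M := Submonoid.powers t) h
    obtain ⟨c, hc⟩ := hinj M _ h'
    rw [← sub_eq_zero, hc, ← Nat.sub_add_cancel hMN, pow_add, mul_assoc]
    rw [hN c ⟨e + M, by rw [pow_add, mul_assoc, ← hc, mul_sub, sub_eq_zero]; exact he⟩, mul_zero]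
  let S₀ : Subalgebra A B :=
    { carrier := {b | ∃ a, algebraMap A R a = g b ∧ φ t ^ M ∣ σ b - φ a}
      mul_mem' := by
        rintro b b' ⟨a, ha, h⟩ ⟨a', ha', h'⟩
        refine ⟨a * a', by rw [map_mul, map_mul, ha, ha'], ?_⟩
        rw [map_mul, map_mul, show σ b * σ b' - φ a * φ a' = (σ b - φ a) * σ b' + φ a * (σ b' - φ a') by ring]
        exact dvd_add (h.mul_right _) (h'.mul_left _)
      add_mem' := by
        rintro b b' ⟨a, ha, h⟩ ⟨a', ha', h'⟩
        refine ⟨a + a', by rw [map_add, map_add, ha, ha'], ?_⟩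
        rw [map_add, map_add, add_sub_add_comm]
        exact dvd_add h h'
      algebraMap_mem' := fun a => ⟨a, (g.commutes a).symm, by rw [hσA, sub_self]; exact dvd_zero _⟩ }
  have hall : ∀ b, b ∈ S₀ := fun b => by
    refine (Algebra.adjoin_le (S := S₀) (fun b hb => ?_)) (hs ▸ Algebra.mem_top)
    obtain ⟨d, hd⟩ := hρ (algebraMap B Bt b) (Finset.mem_image_of_mem _ hb)
    obtain ⟨a, e, he⟩ := hsurj M (σ b)
    have hy : χ (g b - algebraMap A R a) = algebraMap _ R' (φ t ^ M * (d + e)) := by
      rw [map_sub, hχ, mul_add, map_add, ← hd, ← he, map_sub (algebraMap _ R'),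
        show β (algebraMap B Bt b) = algebraMap _ R' (σ b) from IsLocalization.lift_eq _ _]
      show χ (ρ (algebraMap B Bt b)) - _ = _
      ring
    obtain ⟨c, hc⟩ := exists_eq_mul_pow t φ hinj χ hχ hy
    refine ⟨a + t ^ M * c, by rw [map_add, ← hc, add_sub_cancel], ?_⟩
    rw [map_add, map_mul, map_pow, ← sub_sub, he, ← mul_sub]
    exact dvd_mul_right _ _
  choose τf hτ hτd using hall
  have hdiv : ∀ {b : B} {a : A}, algebraMap A R a = g b → φ t ^ M ∣ σ b - φ a → τf b = a := fun {b a} h h' =>
    huniq _ _ ((hτ b).trans h.symm) (by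
      rw [map_sub, show φ (τf b) - φ a = (σ b - φ a) - (σ b - φ (τf b)) by ring]
      exact dvd_sub h' (hτd b))
  refine ⟨{ toFun := τf, map_one' := ?_, map_mul' := ?_, map_zero' := ?_, map_add' := ?_, commutes' := ?_ }, ?_⟩
  · exact hdiv (by simp) (by simp)
  · intro b b'
    refine hdiv (by rw [map_mul, map_mul, hτ, hτ]) ?_
    rw [map_mul, map_mul, show σ b * σ b' - φ (τf b) * φ (τf b') =
      (σ b - φ (τf b)) * σ b' + φ (τf b) * (σ b' - φ (τf b')) by ring]
    exact dvd_add ((hτd b).mul_right _) ((hτd b').mul_left _)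
  · exact hdiv (by simp) (by simp)
  · intro b b'
    refine hdiv (by rw [map_add, map_add, hτ, hτ]) ?_
    rw [map_add, map_add, add_sub_add_comm]
    exact dvd_add (hτd b) (hτd b')
  · exact fun a => hdiv (g.commutes a).symm (by rw [hσA, Algebra.algebraMap_self, RingHom.id_apply, sub_self]; exact dvd_zero _)
  · refine AlgHom.ext fun b => ?_
    have h := (hker n _).2 ((pow_dvd_pow _ hMn).trans (hτd b))
    rw [map_sub, hφ, AlgHom.commutes, sub_eq_zero] at h
    exact h.symm

end Groth.Agent.S15756
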