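import Groth.Statements.S15758
import Groth.Agent.NonAbLib.LevelNewton.Torsor
import Groth.Agent.Hensel.NoethPair
import Mathlib.RingTheory.PowerSeries.Trunc
import Mathlib.RingTheory.LaurentSeries

set_option autoImplicit false
universe u
open CategoryTheory MonoidalCategory CartesianMonoidalCategory MonObj GrpObj AlgebraicGeometry Polynomial
open NonAbH1

namespace Groth.Agent.S15758

/-- The Laurent-series instance, kernel form, for an affine smooth group: let R be a ring, B = R{t} a
henselization of R[t] along (t), ψ : B → R[[t]] the canonical R[t]-algebra map, and χ : B[1/t] →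
R((t)) the induced map. For an affine smooth B[1/t]-group scheme G, an fppf G-torsor over Spec
B[1/t] which acquires a section over Spec R((t)) has a section. (The published statement is a
bijection H¹(R{t}[1/t], G) ≅ H¹(R((t)), G) for quasi-affine smooth G and an injection for smooth
quasi-separated G; this row is the triviality of the kernel for affine smooth G.) -/
theorem result (R : Type u) [CommRing R]
    (B : Type u) [CommRing B] [Algebra R[X] B] (hB : Hens2.IsPairHenselization R[X] (Ideal.span {(X : R[X])}) B)
    (ψ : B →ₐ[R[X]] PowerSeries R)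
    (χ : Localization.Away (algebraMap R[X] B X) →+* LaurentSeries R)
    (hχ : χ.comp (algebraMap B (Localization.Away (algebraMap R[X] B X))) =
      (HahnSeries.ofPowerSeries ℤ R).comp ψ.toRingHom)
    (G : Over (Spec (CommRingCat.of (Localization.Away (algebraMap R[X] B X))))) [GrpObj G]
    [IsAffine G.left] [Smooth G.hom]
    (P : Over (Spec (CommRingCat.of (Localization.Away (algebraMap R[X] B X))))) (a : AlgGrp.Action G P)
    (hP : NonAbH1.IsTorsorFor Scheme.fppfPrecoverage a)
    (hsec : NonAbH1.HasSectionOver P (Spec.map (CommRingCat.ofHom χ))) :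
    NonAbH1.HasSectionOver P (𝟙 (Spec (CommRingCat.of (Localization.Away (algebraMap R[X] B X))))) := by
  have hX : ψ (algebraMap R[X] B X) = PowerSeries.X := by
    rw [AlgHom.commutes]
    exact Polynomial.coe_X
  have : HenselianRing B (Ideal.span {algebraMap R[X] B X}) := by
    have := hB.1
    rwa [Ideal.map_span, Set.image_singleton] at this
  have : IsLocalization.Away (ψ.toRingHom (algebraMap R[X] B X)) (LaurentSeries R) :=
    hX.symm ▸ (LaurentSeries.of_powerSeries_localization (R := R))
  have hcoe : ∀ p : R[X], ψ (algebraMap R[X] B p) = (p : PowerSeries R) := fun p => by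
    rw [AlgHom.commutes]; rfl
  refine Groth.Agent.NonAbLib.LevelNewton.hasSectionOver_torsor (algebraMap R[X] B X) ψ.toRingHom ?_ ?_ χ ?_ a hP hsec
  · intro M x hx
    obtain ⟨p, hp⟩ := Groth.Agent.Hensel.exists_sub_mem_pow _
      (Groth.Agent.Hensel.exists_sub_mem_of_isPairHenselization _ hB) M x
    rw [Ideal.span_singleton_pow, Ideal.map_span, Set.image_singleton, map_pow, Ideal.mem_span_singleton] at hp
    have h1 : (PowerSeries.X : PowerSeries R) ^ M ∣ (p : PowerSeries R) := by
      have h2 := map_dvd ψ hp
      rw [map_pow, hX, map_sub, hcoe] at h2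
      rw [AlgHom.toRingHom_eq_coe, RingHom.coe_coe, hX] at hx
      exact (dvd_sub_right hx).1 h2
    rw [PowerSeries.X_pow_dvd_iff] at h1
    obtain ⟨c, hc⟩ : (Polynomial.X : R[X]) ^ M ∣ p :=
      Polynomial.X_pow_dvd_iff.2 fun d hd => by simpa using h1 d hd
    rw [← sub_add_cancel x (algebraMap R[X] B p)]
    exact dvd_add hp ⟨algebraMap R[X] B c, by rw [hc, map_mul, map_pow]⟩
  · intro M f
    refine ⟨algebraMap R[X] B (PowerSeries.trunc M f), ?_⟩
    rw [AlgHom.toRingHom_eq_coe, RingHom.coe_coe, hX, hcoe, PowerSeries.X_pow_dvd_iff]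
    intro i hi
    rw [map_sub, Polynomial.coeff_coe, PowerSeries.coeff_trunc, if_pos hi, sub_self]
  · rw [hχ]
    rfl

end Groth.Agent.S15758
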