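import Mathlib
import Groth.Agent.ZariskiApprox.Modules
import Groth.Statements.S15759
-- import your own Groth.Agent.* helpers here

set_option autoImplicit false
set_option linter.style.haveILetI false
universe u
open Polynomial TensorProduct
open CAlg

namespace Groth.Agent.S15759

/-- The polynomials with constant term one. -/
def oneConst (R : Type u) [CommRing R] : Submonoid R[X] where
  carrier := {f | f.coeff 0 = 1}
  mul_mem' {a b} (ha : a.coeff 0 = 1) (hb : b.coeff 0 = 1) := by
    show (a * b).coeff 0 = 1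
    rw [mul_coeff_zero, ha, hb, one_mul]
  one_mem' := coeff_one_zero

theorem exists_mul_X_pow_of_mem_closure {R : Type u} [CommRing R] {f : R[X]}
    (hf : f ∈ Submonoid.closure ({f : R[X] | f.coeff 0 = 1} ∪ {X})) :
    ∃ (s : oneConst R) (n : ℕ), f = (s : R[X]) * X ^ n := by
  induction hf using Submonoid.closure_induction with
  | mem x hx =>
    rcases hx with hx | hx
    · exact ⟨⟨x, hx⟩, 0, by simp⟩
    · exact ⟨1, 1, by rw [Set.mem_singleton_iff.mp hx, OneMemClass.coe_one, one_mul, pow_one]⟩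
  | one => exact ⟨1, 0, by simp⟩
  | mul a b _ _ ha hb =>
    obtain ⟨s, n, rfl⟩ := ha
    obtain ⟨s', n', rfl⟩ := hb
    exact ⟨s * s', n + n', by rw [Submonoid.coe_mul, pow_add]; ring⟩

/-- Let R be a ring, L = R(t) the localisation of R[t] at the monoid generated by t and the polynomials
with constant term 1 (that is, (R[t]_{1+tR[t]})[1/t]), and L' an L-algebra identified with R((t))
compatibly with R[t] → R((t)). Then (b) finitely generated projective L-modules that become
isomorphic over L' are isomorphic, and (c) every stably free L'-module is the base change of a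
stably free L-module. -/
theorem result (R : Type u) [CommRing R]
    (L : Type u) [CommRing L] [Algebra R[X] L]
    [IsLocalization (Submonoid.closure ({f : R[X] | f.coeff 0 = 1} ∪ {X})) L]
    (L' : Type u) [CommRing L'] [Algebra L L'] (e : L' ≃+* LaurentSeries R)
    (he : ∀ p : R[X], e (algebraMap L L' (algebraMap R[X] L p)) =
      HahnSeries.ofPowerSeries ℤ R (Polynomial.coeToPowerSeries.ringHom p)) :
    (∀ (M N : Type u) [AddCommGroup M] [Module L M] [Module.Finite L M] [Module.Projective L M]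
        [AddCommGroup N] [Module L N] [Module.Finite L N] [Module.Projective L N],
        Nonempty (L' ⊗[L] M ≃ₗ[L'] L' ⊗[L] N) → Nonempty (M ≃ₗ[L] N)) ∧
    (∀ (M' : Type u) [AddCommGroup M'] [Module L' M'] [Module.Finite L' M'],
        (∃ n m : ℕ, Nonempty ((M' × (Fin n → L')) ≃ₗ[L'] (Fin m → L'))) →
        ∃ (M : Type u) (_ : AddCommGroup M) (_ : Module L M), Module.Finite L M ∧
          (∃ n m : ℕ, Nonempty ((M × (Fin n → L)) ≃ₗ[L] (Fin m → L))) ∧
          Nonempty (L' ⊗[L] M ≃ₗ[L'] M')) := by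
  classical
  let A := Localization (oneConst R)
  let Ah := PowerSeries R
  let c : R[X] →+* Ah := Polynomial.coeToPowerSeries.ringHom
  have hc0 : ∀ f : R[X], PowerSeries.constantCoeff (c f) = f.coeff 0 := fun f => Polynomial.constantCoeff_coe f
  have hcc : ∀ (f : R[X]) (i : ℕ), PowerSeries.coeff i (c f) = f.coeff i := fun f i => Polynomial.coeff_coe f i
  have hcu : ∀ s : oneConst R, IsUnit (c s) := fun s =>
    PowerSeries.isUnit_iff_constantCoeff.mpr (by rw [hc0, s.2]; exact isUnit_one)
  have hle : oneConst R ≤ Submonoid.closure ({f : R[X] | f.coeff 0 = 1} ∪ {X}) := fun f hf =>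
    Submonoid.subset_closure (Or.inl hf)
  letI : Algebra A L := IsLocalization.localizationAlgebraOfSubmonoidLe A L _ _ hle
  haveI : IsScalarTower R[X] A L := IsLocalization.localization_isScalarTower_of_submonoid_le A L _ _ hle
  letI : Algebra A Ah := (IsLocalization.lift hcu).toAlgebra
  have hAh : ∀ f : R[X], algebraMap A Ah (algebraMap R[X] A f) = c f := fun f => IsLocalization.lift_eq hcu f
  letI : Algebra Ah L' := (e.symm.toRingHom.comp (HahnSeries.ofPowerSeries ℤ R)).toAlgebra
  letI : Algebra A L' := ((algebraMap Ah L').comp (algebraMap A Ah)).toAlgebra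
  haveI : IsScalarTower A Ah L' := IsScalarTower.of_algebraMap_eq fun _ => rfl
  haveI : IsScalarTower A L L' := IsScalarTower.of_algebraMap_eq' (by
    apply IsLocalization.ringHom_ext (oneConst R)
    refine RingHom.ext fun f => ?_
    show e.symm (HahnSeries.ofPowerSeries ℤ R (algebraMap A Ah (algebraMap R[X] A f))) = _
    rw [hAh, RingEquiv.symm_apply_eq, RingHom.comp_apply, RingHom.comp_apply, ← IsScalarTower.algebraMap_apply R[X] A L]
    exact (he f).symm)
  let t : A := algebraMap R[X] A X
  have htX : algebraMap A Ah t = PowerSeries.X := (hAh X).trans Polynomial.coe_X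
  haveI : IsLocalization.Away t L := by
    let N := Submonoid.closure ({f : R[X] | f.coeff 0 = 1} ∪ {X})
    haveI : IsLocalization (N.map (algebraMap R[X] A)) L :=
      IsLocalization.isLocalization_of_submonoid_le A L _ N hle
    have hn : ∀ f ∈ N, ∃ (u : Aˣ) (n : ℕ), algebraMap R[X] A f = u * t ^ n := fun f hf => by
      obtain ⟨s, n, rfl⟩ := exists_mul_X_pow_of_mem_closure hf
      exact ⟨(IsLocalization.map_units A s).unit, n, by rw [map_mul, map_pow, IsUnit.unit_spec]⟩
    have hmem : ∀ n : ℕ, t ^ n ∈ N.map (algebraMap R[X] A) :=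
      fun n => ⟨X ^ n, pow_mem (Submonoid.subset_closure (Or.inr rfl) : (X : R[X]) ∈ N) n, map_pow _ _ _⟩
    refine (isLocalization_iff _ _).mpr ⟨?_, fun z => ?_, fun {a b} h => ?_⟩
    · intro y
      obtain ⟨_, n, rfl⟩ := y
      exact IsLocalization.map_units L ⟨t ^ n, hmem n⟩
    · obtain ⟨⟨a, ⟨_, f, hf, rfl⟩⟩, h⟩ := IsLocalization.surj (N.map (algebraMap R[X] A)) z
      obtain ⟨u, n, hu⟩ := hn f hf
      refine ⟨(a * ↑u⁻¹, ⟨t ^ n, n, rfl⟩), ?_⟩
      simp only at h ⊢
      rw [map_mul, ← h, hu, mul_assoc, ← map_mul]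
      congr 2
      rw [mul_comm (↑u * t ^ n), ← mul_assoc, Units.inv_mul, one_mul]
    · obtain ⟨⟨_, f, hf, rfl⟩, hd⟩ := IsLocalization.exists_of_eq (M := N.map (algebraMap R[X] A)) h
      obtain ⟨u, n, hu⟩ := hn f hf
      exact ⟨⟨t ^ n, n, rfl⟩, by simpa [hu, mul_assoc] using hd⟩
  haveI : IsLocalization.Away (algebraMap A Ah t) L' := by
    rw [htX]
    let e' : LaurentSeries R ≃ₐ[Ah] L' := AlgEquiv.ofRingEquiv (f := e.symm) fun _ => rfl
    exact IsLocalization.isLocalization_of_algEquiv (Submonoid.powers (PowerSeries.X : Ah)) e'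
  have hjach : algebraMap A Ah t ∈ (⊥ : Ideal Ah).jacobson := by
    rw [htX, Ideal.mem_jacobson_bot]
    intro y
    exact PowerSeries.isUnit_iff_constantCoeff.mpr (by simp)
  have hjac : t ∈ (⊥ : Ideal A).jacobson := by
    rw [Ideal.mem_jacobson_bot]
    intro y
    obtain ⟨f, s, rfl⟩ := IsLocalization.exists_mk'_eq (oneConst R) y
    have hs : (s : R[X]).coeff 0 = 1 := s.2
    have h : (X * f + (s : R[X])) ∈ oneConst R := by
      show (X * f + (s : R[X])).coeff 0 = 1
      simp [hs]
    have h' := IsLocalization.map_units A ⟨_, h⟩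
    refine isUnit_of_mul_isUnit_left (y := algebraMap R[X] A s) ?_
    convert h' using 1
    rw [add_mul, mul_assoc, IsLocalization.mk'_spec, one_mul, map_add, map_mul]
  have hdense : ∀ (y : Ah) (k : ℕ), ∃ (a : A) (z : Ah),
      y - algebraMap A Ah a = algebraMap A Ah t ^ k * z := fun y k => by
    refine ⟨algebraMap R[X] A (PowerSeries.trunc k y), ?_⟩
    rw [hAh, htX]
    refine (PowerSeries.X_pow_dvd_iff.mpr fun i hi => ?_ : PowerSeries.X ^ k ∣ y - c (PowerSeries.trunc k y))
    rw [map_sub, hcc, PowerSeries.coeff_trunc, if_pos hi, sub_self]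
  have hinter : ∀ (a : A) (k : ℕ) (z : Ah), algebraMap A Ah a = algebraMap A Ah t ^ k * z → t ^ k ∣ a := by
    intro a k z h
    obtain ⟨f, s, rfl⟩ := IsLocalization.exists_mk'_eq (oneConst R) a
    have h2 : (PowerSeries.X : Ah) ^ k ∣ c f := by
      refine ⟨z * c s, ?_⟩
      rw [← mul_assoc, ← htX, ← h, ← hAh, ← hAh, ← map_mul, IsLocalization.mk'_spec]
    have h3 : X ^ k ∣ f := Polynomial.X_pow_dvd_iff.mpr fun i hi => by
      have := PowerSeries.X_pow_dvd_iff.mp h2 i hi
      rwa [hcc] at this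
    obtain ⟨g, hg⟩ := h3
    refine ⟨IsLocalization.mk' A g s, ?_⟩
    rw [IsLocalization.mk'_eq_iff_eq_mul, mul_assoc, IsLocalization.mk'_spec, hg, map_mul, map_pow]
  refine ⟨fun M N _ _ _ _ _ _ _ _ ⟨φ⟩ => ?_, fun M' _ _ _ ⟨n, m, ⟨ε⟩⟩ => ?_⟩
  · exact Groth.Agent.ZariskiApprox.nonempty_linearEquiv_of_baseChange (A := A) (Ah := Ah) (t := t)
      hdense hinter hjac M N φ
  · exact Groth.Agent.ZariskiApprox.exists_stablyFree (A := A) (Ah := Ah) (t := t)
      hdense hinter hjac hjach M' n m ε

end Groth.Agent.S15759
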