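import Groth.Statements.S15777
import Groth.Agent.NonAbLib.LevelNewton.Torsor
import Mathlib.RingTheory.AdicCompletion.Completeness

set_option autoImplicit false
universe u
open CategoryTheory MonoidalCategory CartesianMonoidalCategory MonObj GrpObj AlgebraicGeometry
open NonAbH1

namespace Groth.Agent.S15777

/-- The instance A[1/t] → Â[1/t], kernel form, for an affine smooth group: if (A, tA) is a Henselian
pair with bounded t-power torsion and Â is the t-adic completion, then an fppf torsor under an
affine smooth A[1/t]-group scheme which becomes trivial over Â[1/t] is trivial. (The published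
statement is a bijection H¹(A[1/t], G) ≅ H¹(Â[1/t], G) for quasi-affine smooth G; this row is the
triviality of the kernel for affine smooth G.) -/
theorem result (A : Type u) [CommRing A] (t : A) [HenselianRing A (Ideal.span {t})]
    (hbd : ∃ N : ℕ, ∀ a : A, (∃ m : ℕ, t ^ m * a = 0) → t ^ N * a = 0)
    (G : Over (Spec (CommRingCat.of (Localization.Away t)))) [GrpObj G] [IsAffine G.left] [Smooth G.hom]
    (P : Over (Spec (CommRingCat.of (Localization.Away t)))) (a : AlgGrp.Action G P)
    (hP : NonAbH1.IsTorsorFor Scheme.fppfPrecoverage a)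
    (hsec : NonAbH1.HasSectionOver P (Spec.map (CommRingCat.ofHom (Localization.awayMap (algebraMap A (AdicCompletion (Ideal.span {t}) A)) t)))) :
    NonAbH1.HasSectionOver P (𝟙 (Spec (CommRingCat.of (Localization.Away t)))) := by
  have hker : ∀ (m : ℕ) (x : AdicCompletion (Ideal.span {t}) A),
      AdicCompletion.evalₐ (Ideal.span {t}) m x = 0 ↔ algebraMap A (AdicCompletion (Ideal.span {t}) A) t ^ m ∣ x := by
    intro m x
    constructor
    · intro h
      have h1 : x ∈ (Ideal.span {t}) ^ m • (⊤ : Submodule A (AdicCompletion (Ideal.span {t}) A)) := by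
        rw [AdicCompletion.pow_smul_top_eq_ker_eval (I := Ideal.span {t}) (M := A) ⟨{t}, by simp⟩, LinearMap.mem_ker,
          ← AdicCompletion.factor_evalₐ_eq_eval (Ideal.span {t}) (n := m) x (le_of_eq (by rw [smul_eq_mul, Ideal.mul_top])),
          h, map_zero]
      rw [Ideal.smul_top_eq_map, Submodule.restrictScalars_mem, Ideal.span_singleton_pow, Ideal.map_span,
        Set.image_singleton, map_pow] at h1
      exact Ideal.mem_span_singleton.1 h1
    · rintro ⟨y, rfl⟩
      rw [map_mul, map_pow, AlgHom.commutes, ← map_pow]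
      rw [show algebraMap A (A ⧸ Ideal.span {t} ^ m) (t ^ m) = 0 from
        Ideal.Quotient.eq_zero_iff_mem.2 (Ideal.pow_mem_pow (Ideal.mem_span_singleton_self t) m), zero_mul]
  refine Groth.Agent.NonAbLib.LevelNewton.hasSectionOver_torsor t (algebraMap A (AdicCompletion (Ideal.span {t}) A))
    ?_ ?_ _ ?_ a hP hsec
  · intro m x hx
    have h := (hker m _).2 hx
    rw [AlgHom.commutes] at h
    have h' : x ∈ Ideal.span {t} ^ m := Ideal.Quotient.eq_zero_iff_mem.1 h
    rwa [Ideal.span_singleton_pow, Ideal.mem_span_singleton] at h'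
  · intro m x
    obtain ⟨b, hb⟩ := Ideal.Quotient.mk_surjective (AdicCompletion.evalₐ (Ideal.span {t}) m x)
    refine ⟨b, (hker m _).1 ?_⟩
    rw [map_sub, AlgHom.commutes, sub_eq_zero, ← hb]
    rfl
  · exact IsLocalization.map_comp _

end Groth.Agent.S15777
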