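import Mathlib
import Groth.Agent.ZariskiApprox.Modules
import Groth.Statements.S15778
-- import your own Groth.Agent.* helpers here

set_option autoImplicit false
universe u
open TensorProduct
open CAlg

namespace Groth.Agent.S15778

theorem dense_completion {A : Type u} [CommRing A] (t : A) (y : AdicCompletion (Ideal.span {t}) A) (k : ℕ) :
    ∃ (a : A) (z : AdicCompletion (Ideal.span {t}) A),
      y - algebraMap A _ a = algebraMap A (AdicCompletion (Ideal.span {t}) A) t ^ k * z := by
  obtain ⟨a, ha⟩ := Ideal.Quotient.mk_surjective (AdicCompletion.evalₐ (Ideal.span {t}) k y)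
  refine ⟨a, ?_⟩
  have h0 : AdicCompletion.evalₐ (Ideal.span {t}) k (y - algebraMap A _ a) = 0 := by
    rw [map_sub, AlgHom.commutes, Ideal.Quotient.algebraMap_eq, ha, sub_self]
  have hk : AdicCompletion.eval (Ideal.span {t}) A k (y - algebraMap A _ a) = 0 := by
    rw [← AdicCompletion.factor_evalₐ_eq_eval (Ideal.span {t}) (y - algebraMap A _ a) (by simp), h0, map_zero]
  rw [← LinearMap.mem_ker, ← AdicCompletion.pow_smul_top_eq_ker_eval (Submodule.fg_span_singleton t),
    Ideal.span_singleton_pow, Submodule.ideal_span_singleton_smul, Submodule.mem_smul_pointwise_iff_exists] at hk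
  obtain ⟨z, -, hz⟩ := hk
  exact ⟨z, hz.symm.trans (by rw [Algebra.smul_def, map_pow])⟩

theorem inter_completion {A : Type u} [CommRing A] (t : A) (a : A) (k : ℕ)
    (z : AdicCompletion (Ideal.span {t}) A)
    (h : algebraMap A (AdicCompletion (Ideal.span {t}) A) a = algebraMap A _ t ^ k * z) : t ^ k ∣ a := by
  have h1 := congrArg (AdicCompletion.evalₐ (Ideal.span {t}) k) h
  rw [AlgHom.commutes, map_mul, map_pow, AlgHom.commutes, ← map_pow, Ideal.Quotient.algebraMap_eq,
    Ideal.Quotient.eq_zero_iff_mem.mpr (Ideal.pow_mem_pow (Ideal.mem_span_singleton_self t) k), zero_mul,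
    Ideal.Quotient.eq_zero_iff_mem, Ideal.span_singleton_pow, Ideal.mem_span_singleton] at h1
  exact h1

/-- The instance A[1/t] → Â[1/t] for modules: let t lie in the Jacobson radical of A (a Zariski pair (A,
tA)) with bounded t-power torsion, Â the t-adic completion, and give Â[1/t] the A[1/t]-algebra
structure of the canonical map. Then finitely generated projective A[1/t]-modules isomorphic over
Â[1/t] are isomorphic, and every stably free Â[1/t]-module is extended from a stably free
A[1/t]-module. (The published statement also asserts injectivity on H¹ for inner forms of GL_n; this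
row omits that clause.) -/
theorem result (A : Type u) [CommRing A]
    (t : A) (ht : t ∈ (⊥ : Ideal A).jacobson)
    (hbd : ∃ N : ℕ, ∀ a : A, (∃ m : ℕ, t ^ m * a = 0) → t ^ N * a = 0)
    [Algebra (Localization.Away t) (Localization.Away (algebraMap A (AdicCompletion (Ideal.span {t}) A) t))]
    (halg : algebraMap (Localization.Away t) (Localization.Away (algebraMap A (AdicCompletion (Ideal.span {t}) A) t)) = Localization.awayMap (algebraMap A (AdicCompletion (Ideal.span {t}) A)) t) :
    (∀ (M N : Type u) [AddCommGroup M] [Module (Localization.Away t) M] [Module.Finite (Localization.Away t) M] [Module.Projective (Localization.Away t) M]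
        [AddCommGroup N] [Module (Localization.Away t) N] [Module.Finite (Localization.Away t) N] [Module.Projective (Localization.Away t) N],
        Nonempty ((Localization.Away (algebraMap A (AdicCompletion (Ideal.span {t}) A) t)) ⊗[Localization.Away t] M ≃ₗ[Localization.Away (algebraMap A (AdicCompletion (Ideal.span {t}) A) t)] (Localization.Away (algebraMap A (AdicCompletion (Ideal.span {t}) A) t)) ⊗[Localization.Away t] N) → Nonempty (M ≃ₗ[Localization.Away t] N)) ∧
    (∀ (M' : Type u) [AddCommGroup M'] [Module (Localization.Away (algebraMap A (AdicCompletion (Ideal.span {t}) A) t)) M'] [Module.Finite (Localization.Away (algebraMap A (AdicCompletion (Ideal.span {t}) A) t)) M'],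
        (∃ n m : ℕ, Nonempty ((M' × (Fin n → Localization.Away (algebraMap A (AdicCompletion (Ideal.span {t}) A) t))) ≃ₗ[Localization.Away (algebraMap A (AdicCompletion (Ideal.span {t}) A) t)] (Fin m → Localization.Away (algebraMap A (AdicCompletion (Ideal.span {t}) A) t)))) →
        ∃ (M : Type u) (_ : AddCommGroup M) (_ : Module (Localization.Away t) M), Module.Finite (Localization.Away t) M ∧
          (∃ n m : ℕ, Nonempty ((M × (Fin n → Localization.Away t)) ≃ₗ[Localization.Away t] (Fin m → Localization.Away t))) ∧
          Nonempty ((Localization.Away (algebraMap A (AdicCompletion (Ideal.span {t}) A) t)) ⊗[Localization.Away t] M ≃ₗ[Localization.Away (algebraMap A (AdicCompletion (Ideal.span {t}) A) t)] M')) := by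
  classical
  let Ah := AdicCompletion (Ideal.span {t}) A
  haveI : IsScalarTower A (Localization.Away t) (Localization.Away (algebraMap A Ah t)) :=
    IsScalarTower.of_algebraMap_eq fun a => by
      rw [halg, Localization.awayMap, IsLocalization.Away.map, IsLocalization.map_eq,
        ← IsScalarTower.algebraMap_apply]
  have hjach : algebraMap A Ah t ∈ (⊥ : Ideal Ah).jacobson := by
    haveI : IsAdicComplete ((Ideal.span {t}).map (algebraMap A Ah)) Ah :=
      (IsAdicComplete.map_algebraMap_iff _ _).mpr (AdicCompletion.isAdicComplete (Submodule.fg_span_singleton t))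
    exact IsAdicComplete.le_jacobson_bot _ (Ideal.mem_map_of_mem _ (Ideal.mem_span_singleton_self t))
  refine ⟨fun M N _ _ _ _ _ _ _ _ ⟨φ⟩ => ?_, fun M' _ _ _ ⟨n, m, ⟨e⟩⟩ => ?_⟩
  · exact Groth.Agent.ZariskiApprox.nonempty_linearEquiv_of_baseChange (A := A) (Ah := Ah) (t := t)
      (dense_completion t) (inter_completion t) ht M N φ
  · exact Groth.Agent.ZariskiApprox.exists_stablyFree (A := A) (Ah := Ah) (t := t)
      (dense_completion t) (inter_completion t) ht hjach M' n m e

end Groth.Agent.S15778
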