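import Groth.Statements.S15782
import Groth.Agent.NeronA.WeilResComponents

set_option autoImplicit false
universe u
open CategoryTheory MonoidalCategory CartesianMonoidalCategory MonObj GrpObj AlgebraicGeometry
open Neron

namespace Groth.Agent.S15782

/-- Let R ⊆ R' be discrete valuation rings with R complete, R' a finite R-algebra and the residue field
k of R algebraically closed; let k' be the residue field of R' and f the morphism Spec R' → Spec R.
Let N' be a smooth separated R'-group scheme and (W, q) a Weil restriction of N' along f, endowed
with a group structure for which q is a homomorphism. Say that a group scheme G over a discrete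
valuation ring has split reduction when for every rational point x of its special fibre there is a
rational point y of the special fibre lying in the connected component of x (x·y⁻¹ lies in the
identity component) whose order equals the order of the component of x in the component group: for
every n, y^n = 1 if and only if x^n lies in the identity component (for a commutative group scheme
with finitely generated component group over an algebraically closed residue field this says that
the extension of the component group by the identity component splits). If W has split reduction
then N' has split reduction. (The published statement: if the Weil restriction to K of a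
semi-abelian variety G over a finite separable extension L of K has split reduction then so does G,
reduction being taken on Néron lft-models; this row states the implication for any smooth separated
group scheme N' over R' and a Weil restriction W of it.) -/
theorem result
    (R : Type u) [CommRing R] [IsDomain R] [IsDiscreteValuationRing R]
    [IsAdicComplete (IsLocalRing.maximalIdeal R) R] [IsAlgClosed (IsLocalRing.ResidueField R)]
    (R' : Type u) [CommRing R'] [IsDomain R'] [IsDiscreteValuationRing R'] [Algebra R R']
    [Module.Finite R R'] [FaithfulSMul R R']
    (N' : Over (Spec (CommRingCat.of R'))) [GrpObj N'] [Smooth N'.hom] [IsSeparated N'.hom]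
    (W : Over (Spec (CommRingCat.of R))) [GrpObj W]
    (q : Red.bc (Spec.map (CommRingCat.ofHom (algebraMap R R'))) W ⟶ N') [IsMonHom q]
    (hW : WeilRes.IsWeilRes (Spec.map (CommRingCat.ofHom (algebraMap R R'))) N' W q)
    (hsplit : ∀ x : (Over.mk (Spec.map (CommRingCat.ofHom (IsLocalRing.residue R)))) ⟶ W, ∃ y : (Over.mk (Spec.map (CommRingCat.ofHom (IsLocalRing.residue R)))) ⟶ W,
      (x * y⁻¹).left.base (IsLocalRing.closedPoint (IsLocalRing.ResidueField R)) ∈ SGA3x.neutralSet W ∧
        ∀ n : ℕ, y ^ n = 1 ↔ (x ^ n).left.base (IsLocalRing.closedPoint (IsLocalRing.ResidueField R)) ∈ SGA3x.neutralSet W)
    (x' : (Over.mk (Spec.map (CommRingCat.ofHom (IsLocalRing.residue R')))) ⟶ N') :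
    ∃ y' : (Over.mk (Spec.map (CommRingCat.ofHom (IsLocalRing.residue R')))) ⟶ N',
      (x' * y'⁻¹).left.base (IsLocalRing.closedPoint (IsLocalRing.ResidueField R')) ∈ SGA3x.neutralSet N' ∧
        ∀ n : ℕ, y' ^ n = 1 ↔ (x' ^ n).left.base (IsLocalRing.closedPoint (IsLocalRing.ResidueField R')) ∈ SGA3x.neutralSet N' := by
  obtain ⟨d⟩ := Groth.Agent.NeronA.WeilResComponents.exists_data R R'
  exact Groth.Agent.NeronA.WeilResComponents.split d hW hsplit x'

end Groth.Agent.S15782
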