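import Groth.Statements.S15824
import Groth.Agent.CIntLib.RegStalk
import Groth.Agent.LC.ExtDim
import Groth.Agent.Alg6.AssDepth

set_option autoImplicit false
set_option linter.style.haveILetI false
universe u
open CategoryTheory AlgebraicGeometry
open RegImm

namespace Groth.Agent.S15824

section
open RingTheory.Sequence IsLocalRing

theorem dim_quot_zero_of_ass {R Q : Type u} [CommRing R] [h : LocCoh.IsCohenMacaulayLocalRing R] [CommRing Q]
    [IsLocalRing Q] [IsNoetherianRing Q] (φ : R →+* Q) (hφ : Function.Surjective φ) (rs : List R)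
    (hrs : IsWeaklyRegular R rs) (hker : Ideal.ofList rs = RingHom.ker φ)
    (hz : IsAssociatedPrime (maximalIdeal Q) Q) : ringKrullDim Q = 0 := by
  haveI : IsLocalHom φ := IsLocalHom.of_surjective φ hφ
  have hm : ∀ r ∈ rs, r ∈ maximalIdeal R := fun r hr =>
    IsLocalRing.le_maximalIdeal (RingHom.ker_ne_top φ) (hker ▸ Ideal.subset_span hr)
  let M := R ⧸ (Ideal.ofList rs • (⊤ : Submodule R R))
  have hI : (Ideal.ofList rs • (⊤ : Submodule R R)) = Ideal.ofList rs := by
    rw [smul_eq_mul, Ideal.mul_top]
  have hass : maximalIdeal R ∈ associatedPrimes R M := by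
    obtain ⟨-, q, hq⟩ := (Groth.Agent.Alg6.mem_ass_iff (R := Q) (M := Q)).1 hz
    obtain ⟨a, rfl⟩ := hφ q
    refine Groth.Agent.Alg6.mem_ass_iff.2 ⟨(maximalIdeal.isMaximal R).isPrime, Submodule.Quotient.mk a, fun r => ?_⟩
    rw [← Submodule.Quotient.mk_smul, Submodule.Quotient.mk_eq_zero, hI, hker, RingHom.mem_ker, smul_eq_mul,
      map_mul, ← smul_eq_mul, ← hq, mem_maximalIdeal, mem_maximalIdeal, mem_nonunits_iff, mem_nonunits_iff]
    exact not_congr ⟨fun hu => hu.map φ, fun hu => (isUnit_map_iff φ r).1 hu⟩
  haveI : Nontrivial M := by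
    by_contra hM
    rw [not_nontrivial_iff_subsingleton] at hM
    exact absurd hass (by simp [associatedPrimes.eq_empty_of_subsingleton])
  have hd0 : LocCoh.depth R M = 0 := le_bot_iff.1 ((Groth.Agent.LC.depth_le_coheight_of_ass M
    (p := ⟨maximalIdeal R, (maximalIdeal.isMaximal R).isPrime⟩) hass).trans (le_of_eq
      (Order.coheight_eq_zero.2 fun q hq => le_of_eq (PrimeSpectrum.ext
        ((maximalIdeal.isMaximal R).eq_of_le q.isPrime.ne_top hq).symm))))
  have h1 : LocCoh.idealDepth (maximalIdeal R) M + rs.length = LocCoh.idealDepth (maximalIdeal R) R :=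
    Groth.Agent.LC.idealDepth_quot_ofList (maximalIdeal R) hrs hm
  have hreg : RingTheory.Sequence.IsRegular R rs := ⟨hrs, by
    rw [hI]; exact fun h => RingHom.ker_ne_top φ (hker ▸ h.symm)⟩
  have h2 := Module.supportDim_add_length_eq_supportDim_of_isRegular rs hreg
  change Module.supportDim R M + _ = _ at h2
  rw [h.supportDim_eq_depth] at h2
  change LocCoh.depth R M + _ = LocCoh.depth R R at h1
  rw [← h1, hd0, zero_add] at h2
  have h3 : Module.supportDim R M = 0 := by
    obtain ⟨D, hD⟩ := Groth.Agent.LC.exists_supportDim_eq_nat (R := R) M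
    rw [hD] at h2 ⊢
    have : D + rs.length = rs.length := by exact_mod_cast h2
    exact_mod_cast (by omega : D = 0)
  have h4 : ringKrullDim (R ⧸ RingHom.ker φ) = 0 := by
    rw [← h3, Module.supportDim_eq_ringKrullDim_quotient_annihilator]
    refine ringKrullDim_eq_of_ringEquiv (Ideal.quotEquivOfEq ?_)
    rw [← hker]
    exact (Ideal.annihilator_quotient.trans hI).symm
  rw [← h4]
  exact (ringKrullDim_eq_of_ringEquiv (RingHom.quotientKerEquivOfSurjective hφ)).symm

end

/-- Let X be a locally Noetherian scheme all of whose local rings are Cohen–Macaulay, and i : Z → X a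
closed immersion which is regular (around every point, on some affine open of X the ideal of Z is
generated by a regular sequence). Then Z has no embedded points (each associated point of Z is
generic in an irreducible component): for every point z of Z, if the maximal ideal of O_{Z,z} is an
associated prime of O_{Z,z} (as a module over itself), then O_{Z,z} has Krull dimension 0. (The
published statement takes X Noetherian and Z a local complete intersection subscheme; the assertion
is local on X and uses only that the ideal of Z is locally generated by a regular sequence.) -/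
theorem result {X Z : Scheme.{u}}
    [IsLocallyNoetherian X] (hCM : ∀ x : X, LocCoh.IsCohenMacaulayLocalRing (X.presheaf.stalk x))
    (i : Z ⟶ X) [IsClosedImmersion i] (hi : RegImm.IsRegularImmersion RegImm.Kind.regular i) (z : Z)
    (hz : IsAssociatedPrime (IsLocalRing.maximalIdeal (Z.presheaf.stalk z)) (Z.presheaf.stalk z)) :
    ringKrullDim (Z.presheaf.stalk z) = 0 := by
  obtain ⟨U, hzU, hcl, rs, hrs, hker⟩ := hi.2 z
  obtain ⟨rs', hrs', hker'⟩ := Groth.Agent.CIntLib.regAt_of_affine i z U hzU rs hrs.1
    (by rw [Scheme.Hom.ker_apply]; exact hker)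
  haveI := hCM (i z)
  haveI : IsLocallyNoetherian Z := LocallyOfFiniteType.isLocallyNoetherian i
  exact dim_quot_zero_of_ass (i.stalkMap z).hom (i.stalkMap_surjective z) rs' hrs' hker' hz

end Groth.Agent.S15824
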