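import Groth.Statements.S15826
import Groth.Agent.KFlatLib.Scheme.Pullback
import Groth.Agent.ZClosLib.Basic
import Groth.Agent.OmegaLib.IdealMod
import Groth.Agent.DefGlueLib.Rel
import Groth.Agent.S15821
import Groth.Agent.RefX.Reflexive
import Groth.Agent.Div57.Ref.OD
import Groth.Agent.QCoh.LocFree

set_option autoImplicit false
set_option linter.style.haveILetI false
set_option backward.isDefEq.respectTransparency false
set_option backward.isDefEq.respectTransparency.types false
universe u
open CategoryTheory AlgebraicGeometry Opposite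
open RegImm

namespace Groth.Agent.S15826

section
open RingTheory.Sequence TensorProduct

theorem coeff_mem_of_regular {R : Type u} [CommRing R] {n : ℕ} (r : Fin n → R) (hr : IsWeaklyRegular R (List.ofFn r))
    (J : Ideal R) (hrJ : ∀ k, r k ∈ J) (c : Fin n → R) (hc : ∑ k, c k * r k = 0) : ∀ k, c k ∈ J := by
  classical
  set l := List.ofFn r
  have hl : l.length = n := List.length_ofFn
  let u : Fin l.length → R := fun i => c (Fin.cast hl i)
  have hu : DefGlueLib.dot (fun i : Fin l.length => l[i]) u = 0 := by
    rw [DefGlueLib.dot_apply, ← hc]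
    refine Fintype.sum_equiv (finCongr hl) _ _ fun i => ?_
    simp [u, l]
    rfl
  have h4 := DefGlueLib.mem_trivR_of_isKoszulRegularSeq (Groth.Agent.S15821.result R l hr).1 hu
  have hlJ : ∀ i : Fin l.length, l[i] ∈ J := fun i => by simp [l, hrJ]
  have h5 : ∀ v ∈ DefGlueLib.trivR (fun i : Fin l.length => l[i]), ∀ i, v i ∈ J := fun v hv => by
    induction hv using Submodule.span_induction with
    | mem w hw =>
      obtain ⟨p, rfl⟩ := hw
      exact fun i => sub_mem (J.mul_mem_right _ (hlJ p.2)) (J.mul_mem_right _ (hlJ p.1))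
    | zero => exact fun i => zero_mem _
    | add v w _ _ hv hw => exact fun i => add_mem (hv i) (hw i)
    | smul a v _ hv => exact fun i => J.mul_mem_left _ (hv i)
  intro k
  have := h5 u h4 (Fin.cast hl.symm k)
  simpa [u] using this

theorem baseChange_bijective_of_regular {R S : Type u} [CommRing R] [CommRing S] [Algebra R S]
    (hsurj : Function.Surjective (algebraMap R S)) {E I : Type u} [AddCommGroup E] [Module R E] [AddCommGroup I]
    [Module R I] (t : E →ₗ[R] I) (ht : Function.Surjective t) (ι : I →ₗ[R] R)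
    {n : ℕ} (b : Module.Basis (Fin n) R E) (hreg : IsWeaklyRegular R (List.ofFn fun k => ι (t (b k))))
    (hJ : ∀ k, algebraMap R S (ι (t (b k))) = 0) : Function.Bijective (t.baseChange S) := by
  refine ⟨(injective_iff_map_eq_zero _).2 fun v hv => ?_, ?_⟩
  swap
  · exact LinearMap.lTensor_surjective S ht
  obtain ⟨e, rfl⟩ : ∃ e : E, v = 1 ⊗ₜ e := by
    induction v with
    | zero => exact ⟨0, (TensorProduct.tmul_zero _ _).symm⟩
    | tmul s x =>
      obtain ⟨a, rfl⟩ := hsurj s
      exact ⟨a • x, by rw [Algebra.algebraMap_eq_smul_one, TensorProduct.smul_tmul]⟩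
    | add v w hv' hw' =>
      have key : ∀ y : S ⊗[R] E, ∃ e : E, y = 1 ⊗ₜ e := fun y => by
        induction y with
        | zero => exact ⟨0, (TensorProduct.tmul_zero _ _).symm⟩
        | tmul s x =>
          obtain ⟨a, rfl⟩ := hsurj s
          exact ⟨a • x, by rw [Algebra.algebraMap_eq_smul_one, TensorProduct.smul_tmul]⟩
        | add y z hy hz =>
          obtain ⟨a, rfl⟩ := hy
          obtain ⟨c, rfl⟩ := hz
          exact ⟨a + c, (TensorProduct.tmul_add _ _ _).symm⟩
      exact key _
  let J := RingHom.ker (algebraMap R S)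
  rw [LinearMap.baseChange_tmul] at hv
  let q : S ≃ₗ[R] R ⧸ J := ((Submodule.quotEquivOfEq _ _ (by ext; rfl)).trans
    ((Algebra.linearMap R S).quotKerEquivOfSurjective hsurj)).symm
  have hmem : t e ∈ J • (⊤ : Submodule R I) := by
    have h1 := congrArg ((TensorProduct.congr q (LinearEquiv.refl R I)).trans (TensorProduct.quotTensorEquivQuotSMul I J)) hv
    rw [map_zero] at h1
    have he1 : q 1 = Ideal.Quotient.mk J 1 := by
      apply q.symm.injective
      rw [q.symm_apply_apply]
      exact (map_one (algebraMap R S)).symm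
    change TensorProduct.quotTensorEquivQuotSMul I J (q 1 ⊗ₜ t e) = 0 at h1
    rw [he1, TensorProduct.quotTensorEquivQuotSMul_mk_tmul, one_smul] at h1
    exact (Submodule.Quotient.mk_eq_zero _).1 h1
  obtain ⟨e', he', hte'⟩ : ∃ e' ∈ J • (⊤ : Submodule R E), t e' = t e := by
    have : J • (⊤ : Submodule R I) = (J • (⊤ : Submodule R E)).map t := by
      rw [Submodule.map_smul'', Submodule.map_top, LinearMap.range_eq_top.2 ht]
    rw [this] at hmem
    exact hmem
  have hzero : (1 : S) ⊗ₜ[R] e' = 0 := by
    refine Submodule.smul_induction_on he' (fun a ha w _ => ?_) fun v w hv hw => by rw [TensorProduct.tmul_add, hv, hw, add_zero]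
    rw [TensorProduct.tmul_smul, TensorProduct.smul_tmul', Algebra.smul_def, RingHom.mem_ker.1 ha, zero_mul,
      TensorProduct.zero_tmul]
  have hc : ∑ k, b.repr (e - e') k * ι (t (b k)) = 0 := by
    have : ι (t (e - e')) = 0 := by rw [map_sub, hte', sub_self, map_zero]
    rw [← this]
    conv_rhs => rw [← b.sum_repr (e - e')]
    simp only [map_sum, map_smul, smul_eq_mul]
  have hc' := coeff_mem_of_regular _ hreg J (fun k => hJ k) _ hc
  have h2 : (1 : S) ⊗ₜ[R] (e - e') = 0 := by
    rw [← b.sum_repr (e - e'), TensorProduct.tmul_sum]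
    refine Finset.sum_eq_zero fun k _ => ?_
    rw [TensorProduct.tmul_smul, TensorProduct.smul_tmul', Algebra.smul_def, RingHom.mem_ker.1 (hc' k), zero_mul,
      TensorProduct.zero_tmul]
  rwa [TensorProduct.tmul_sub, hzero, sub_zero] at h2

end



/-- Let X be a scheme, E a finite locally free O_X-module of rank n and s : E → O_X a regular section,
meaning that around every point of X there is an affine open U and a basis e_1, …, e_n of E(U) over
Γ(X, U) such that s(e_1), …, s(e_n) is a weakly regular sequence in Γ(X, U) (each a non-zero-divisor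
modulo the previous ones). Let i : Y → X be a closed immersion whose ideal sheaf I_Y is the image of
s: t : E → I_Y is an epimorphism of O_X-modules with t followed by the inclusion I_Y → O_X equal to
s. Then the pulled-back map i^*t : i^*E → i^*I_Y is an isomorphism of O_Y-modules; its target is the
conormal sheaf C_{Y/X} = I_Y/I_Y², so E|_Y ≅ C_{Y/X} via s and, dually, N_{Y/X} ≅ E^∨|_Y. (The
published statement calls s regular when its image is a regular ideal sheaf locally generated by
rank-many sections; the local bases mapping to regular sequences used here are how the published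
proofs read that condition.) -/
theorem result {X Y : Scheme.{u}} (n : ℕ) (E : X.Modules)
    (hE : FlatMod.IsFinLocFreeOfRank n E) (s : E ⟶ Coh.structureModule X)
    (hs : ∀ x : X, ∃ U : X.affineOpens, x ∈ U.1 ∧
      ∃ b : Module.Basis (Fin n) Γ(X, U.1) (E.val.obj (op U.1)),
        @RingTheory.Sequence.IsWeaklyRegular Γ(X, U.1) Γ(X, U.1) _ _ _ (List.ofFn fun k => (s.val.app (op U.1)).hom (b k)))
    (i : Y ⟶ X) [IsClosedImmersion i] (t : E ⟶ ClSub.idealMod i.ker) [Epi t]
    (hts : t ≫ ClSub.idealModι i.ker = s) :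
    IsIso ((Scheme.Modules.pullback i).map t) := by
  refine Groth.Agent.ZClosLib.isIso_of_stalkMap_bijective _ fun y => ?_
  set x := i.base y
  obtain ⟨U, hxU, b, hb⟩ := hs x
  letI := Groth.Agent.QCoh.stalkAlg (X := X) hxU
  letI := Groth.Agent.QCoh.stalkModule E hxU
  haveI := Groth.Agent.QCoh.isScalarTower_stalk E hxU
  haveI := Groth.Agent.QCoh.isLocalization_stalk' U.2 hxU
  have hqE : Coh.IsQCoh E := Groth.Agent.QCoh.isQCoh_of_isFinLocFree (fun z => by
    obtain ⟨V, hV, hiso⟩ := hE z
    exact ⟨V, n, hV, hiso⟩)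
  haveI := Groth.Agent.QCoh.isLocalizedModule_germLin hqE U.2 hxU
  let bx : Module.Basis (Fin n) (X.presheaf.stalk x) (E.presheaf.stalk x) :=
    b.ofIsLocalizedModule (X.presheaf.stalk x) (U.2.primeIdealOf ⟨x, hxU⟩).asIdeal.primeCompl
      (Groth.Agent.QCoh.germLin E hxU)
  let F := DerSch.stalkFunctor X x
  haveI : Mono (ClSub.idealModι i.ker) := inferInstanceAs (Mono (CategoryTheory.Limits.kernel.ι _))
  haveI : Mono (F.map (ClSub.idealModι i.ker)) := inferInstance
  haveI : Epi (F.map t) := inferInstance
  let ιx : (F.obj (ClSub.idealMod i.ker)) →ₗ[X.presheaf.stalk x] X.presheaf.stalk x :=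
    (Groth.Agent.RefX.unitStalk x).symm.toLinearMap.comp (F.map (ClSub.idealModι i.ker)).hom
  have hkey : ∀ k, ιx ((F.map t).hom (bx k)) =
      X.presheaf.germ U.1 x hxU ((s.val.app (op U.1)).hom (b k)) := fun k => by
    refine (LinearEquiv.symm_apply_eq _).2 ?_
    rw [Groth.Agent.Div57.Ref.unitStalk_germ]
    show (F.map (ClSub.idealModι i.ker)).hom ((F.map t).hom (bx k)) = _
    rw [show bx k = E.presheaf.germ U.1 x hxU (b k) from
      Module.Basis.ofIsLocalizedModule_apply _ _ _ b k]
    rw [← ModuleCat.comp_apply, ← F.map_comp, hts]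
    exact DerSch.stalkFunctor_map_germ x s U.1 hxU (b k)
  have hreg : RingTheory.Sequence.IsWeaklyRegular (X.presheaf.stalk x)
      (List.ofFn fun k => X.presheaf.germ U.1 x hxU ((s.val.app (op U.1)).hom (b k))) := by
    have h := RingTheory.Sequence.IsWeaklyRegular.of_isLocalization (X.presheaf.stalk x)
      (U.2.primeIdealOf ⟨x, hxU⟩).asIdeal.primeCompl hb
    rw [List.map_ofFn] at h
    exact h
  have hker : ∀ k, i.stalkMap y (X.presheaf.germ U.1 x hxU ((s.val.app (op U.1)).hom (b k))) = 0 := fun k => by
    have h1 : i.app U.1 ((s.val.app (op U.1)).hom (b k)) = 0 := by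
      have h2 := Groth.Agent.OmegaLib.idealSect_mem i.ker U (t.app U.1 (b k))
      rw [Scheme.Hom.ker_apply] at h2
      rw [← hts]
      exact h2
    rw [Scheme.Hom.germ_stalkMap_apply, h1, map_zero]
  letI := (i.stalkMap y).hom.toAlgebra
  have hbij := baseChange_bijective_of_regular (R := X.presheaf.stalk x) (S := Y.presheaf.stalk y)
    (i.stalkMap_surjective y) (F.map t).hom ((ModuleCat.epi_iff_surjective _).1 inferInstance)
    ιx bx
    ((congrArg List.ofFn (funext hkey)).symm ▸ hreg) (fun k => (congrArg _ (hkey k)).trans (hker k))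
  have hnat := (Groth.Agent.KFlatLib.stalkPullbackIso i y).hom.naturality t
  have hcomp : Function.Bijective (((Scheme.Modules.pullback i ⋙ DerSch.stalkFunctor Y y).map t) ≫
      (Groth.Agent.KFlatLib.stalkPullbackIso i y).hom.app (ClSub.idealMod i.ker)).hom := by
    rw [hnat]
    exact hbij.comp (ConcreteCategory.bijective_of_isIso ((Groth.Agent.KFlatLib.stalkPullbackIso i y).hom.app E))
  exact (Function.Bijective.of_comp_iff' (ConcreteCategory.bijective_of_isIso
    ((Groth.Agent.KFlatLib.stalkPullbackIso i y).hom.app (ClSub.idealMod i.ker))) _).1 hcomp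

end Groth.Agent.S15826
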