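import Groth.Statements.S15827
import Groth.Agent.DRHyp.HypBasic
import Groth.Agent.DRHyp.Omega
import Groth.Agent.DRHyp.Terms
import Groth.Agent.AmpleX.Extend
import Groth.Agent.ZeroSchX.Basic
import Groth.Agent.H23.PicMul
import Groth.Agent.QCoh.LocFree
-- import your own Groth.Agent.* helpers here

set_option autoImplicit false
universe u
open CategoryTheory AlgebraicGeometry
open ExtPow

namespace Groth.Agent.S15827

section
open Groth.Agent Groth.Agent.DRHyp exteriorPower TopologicalSpace Opposite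
open Groth.Agent.LogModGeo (rs rf rs_smul)

variable {X : Scheme.{u}} {E L M N : X.Modules} {k : ℕ}

/-- Twisting sections by a frame. -/
noncomputable def θ (hE : Coh.IsQCoh E) (hL : Coh.IsQCoh L) {V : X.Opens} (hV : IsAffineOpen V) {l : Γ(L, V)}
    (hl : InvX.IsFrame l) : Γ(E, V) ≃ₗ[Γ(X, V)] Γ(CohB1.tensorMod E L, V) :=
  LinearEquiv.ofBijective (Hyp.tmulRight E l) (Hyp.bijective_tmul_frame hE hL hV hl)

theorem θ_apply (hE : Coh.IsQCoh E) (hL : Coh.IsQCoh L) {V : X.Opens} (hV : IsAffineOpen V) {l : Γ(L, V)}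
    (hl : InvX.IsFrame l) (v : Γ(E, V)) : θ hE hL hV hl v = InvX.tmul v l := rfl

variable (hE : Coh.IsQCoh E) (hL : PicF.IsInvertible L)
  (φM : ∀ U : X.affineOpens, Γ(M, U.1) ≃ₗ[Γ(X, U.1)] ExtSheaf.T (CohB1.tensorMod E L) k U.1)
  (φN : ∀ U : X.affineOpens, Γ(N, U.1) ≃ₗ[Γ(X, U.1)] ExtSheaf.T E k U.1)
  (hφM : ∀ (U V : X.affineOpens) (h : V.1 ≤ U.1) (e : Fin k → Γ(CohB1.tensorMod E L, U.1)),
    rs M h ((φM U).symm (ιMulti _ k e)) = (φM V).symm (ιMulti _ k fun i => rs (CohB1.tensorMod E L) h (e i)))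
  (hφN : ∀ (U V : X.affineOpens) (h : V.1 ≤ U.1) (e : Fin k → Γ(E, U.1)),
    rs N h ((φN U).symm (ιMulti _ k e)) = (φN V).symm (ιMulti _ k fun i => rs E h (e i)))
  (hN : Coh.IsQCoh N)

/-- The comparison in a frame. -/
noncomputable def al (U : X.affineOpens) {l : Γ(L, U.1)} (hl : InvX.IsFrame l) :
    Γ(M, U.1) →ₗ[Γ(X, U.1)] Γ(CohB1.tensorMod N (CohB1.tensorPow L k), U.1) :=
  (Hyp.tmulRight N (AmpleX.powElt l k)).comp
    (((φM U).trans ((extMapEquiv k (θ hE (ZeroSchX.isQCoh_inv hL) U.2 hl)).symm)).trans (φN U).symm).toLinearMap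

theorem al_gen (U : X.affineOpens) {l : Γ(L, U.1)} (hl : InvX.IsFrame l) (v : Fin k → Γ(E, U.1)) :
    al hE hL φM φN U hl ((φM U).symm (ιMulti _ k fun i => InvX.tmul (v i) l)) =
      InvX.tmul ((φN U).symm (ιMulti _ k v)) (AmpleX.powElt l k) := by
  refine congrArg (fun z => InvX.tmul z (AmpleX.powElt l k)) (congrArg (φN U).symm ?_)
  rw [LinearEquiv.coe_coe] at *
  exact (congrArg _ ((φM U).apply_symm_apply _)).trans
    ((LinearEquiv.symm_apply_eq _).2 (extMapEquiv_ιMulti k _ v).symm)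

include hE hL in
theorem exists_gen (U : X.affineOpens) {l : Γ(L, U.1)} (hl : InvX.IsFrame l) {P : Γ(M, U.1) → Prop} (h0 : P 0)
    (hadd : ∀ x y, P x → P y → P (x + y))
    (hgen : ∀ (a : Γ(X, U.1)) (v : Fin k → Γ(E, U.1)), P (a • (φM U).symm (ιMulti _ k fun i => InvX.tmul (v i) l)))
    (z : Γ(M, U.1)) : P z := by
  obtain ⟨w, rfl⟩ := (φM U).symm.surjective z
  obtain ⟨x, rfl⟩ := (extMapEquiv k (θ hE (ZeroSchX.isQCoh_inv hL) U.2 hl)).surjective w
  induction x using Wedge.induct with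
  | h0 => rwa [LinearEquiv.map_zero, LinearEquiv.map_zero]
  | hadd x y hx hy => rw [LinearEquiv.map_add, LinearEquiv.map_add]; exact hadd _ _ hx hy
  | hgen a v =>
    rw [LinearEquiv.map_smul, LinearEquiv.map_smul, extMapEquiv_ιMulti]
    exact hgen a v

theorem al_change (U : X.affineOpens) {l l' : Γ(L, U.1)} (hl : InvX.IsFrame l) (hl' : InvX.IsFrame l')
    (z : Γ(M, U.1)) : al hE hL φM φN U hl z = al hE hL φM φN U hl' z := by
  obtain ⟨u, rfl⟩ : ∃ u : Γ(X, U.1), l' = u • l :=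
    (hl.exists_coord le_rfl l').imp fun _ h => h.trans (congrArg (_ • ·) (AModX.res_self l))
  induction z using exists_gen hE hL φM U hl' with
  | h0 => rw [map_zero, map_zero]
  | hadd x y hx hy => rw [map_add, map_add, hx, hy]
  | hgen a v =>
    rw [LinearMap.map_smul, LinearMap.map_smul, al_gen]
    refine congrArg (a • ·) ?_
    have e1 : (fun i => InvX.tmul (v i) (u • l)) = fun i => InvX.tmul (u • v i) l :=
      funext fun i => (InvX.tmul_smul_right u (v i) l).trans (InvX.tmul_smul_left u (v i) l).symm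
    rw [e1, al_gen, AmpleX.powElt_smul, InvX.tmul_smul_right,
      show ιMulti Γ(X, U.1) k (fun i => u • v i) = u ^ k • ιMulti Γ(X, U.1) k v from
        (AlternatingMap.map_smul_univ _ (fun _ => u) v).trans (by rw [Finset.prod_const, Finset.card_univ, Fintype.card_fin]),
      LinearEquiv.map_smul, InvX.tmul_smul_left]

include hφM hφN in
theorem al_res (U V : X.affineOpens) (h : V.1 ≤ U.1) {l : Γ(L, U.1)} (hl : InvX.IsFrame l) (z : Γ(M, U.1)) :
    rs (CohB1.tensorMod N (CohB1.tensorPow L k)) h (al hE hL φM φN U hl z) =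
      al hE hL φM φN V (hl.res h) (rs M h z) := by
  induction z using exists_gen hE hL φM U hl with
  | h0 => simp only [map_zero]
  | hadd x y hx hy => simp only [map_add, hx, hy]
  | hgen a v =>
    rw [LinearMap.map_smul, al_gen, rs_smul, rs_smul, LinearMap.map_smul, hφM U V h]
    refine congrArg (_ • ·) ?_
    rw [show (fun i => rs (CohB1.tensorMod E L) h (InvX.tmul (v i) l)) =
      fun i => InvX.tmul (rs E h (v i)) (rs L h l) from funext fun i => InvX.res_tmul h _ _]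
    refine Eq.trans ?_ (al_gen hE hL φM φN V (hl.res h) fun i => rs E h (v i)).symm
    rw [← hφN U V h]
    refine (InvX.res_tmul h _ _).trans (congrArg (InvX.tmul _) ?_)
    exact AmpleX.res_powElt h l k

include hL in
theorem isBase_frame : Hyp.IsBase fun V : X.Opens => IsAffineOpen V ∧ ∃ l : Γ(L, V), InvX.IsFrame l := fun U x hx => by
  obtain ⟨W, hxW, e, he⟩ := InvX.exists_frame hL x
  obtain ⟨_, ⟨V, hV, rfl⟩, hxV, hle⟩ :=
    X.isBasis_affineOpens.exists_subset_of_mem_open (show x ∈ U ⊓ W from ⟨hx, hxW⟩) (U ⊓ W).isOpen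
  exact ⟨V, ⟨hV, _, he.res ((show V ≤ U ⊓ W from hle).trans inf_le_right)⟩, fun y hy => (hle hy).1, hxV⟩

include hE hL hφM hφN hN in
theorem nonempty_iso : Nonempty (M ≅ CohB1.tensorMod N (CohB1.tensorPow L k)) := by
  obtain ⟨α, hα⟩ := Hyp.exists_hom_of_base (isBase_frame hL)
    (fun V hV => al hE hL φM φN ⟨V, hV.1⟩ hV.2.choose_spec)
    fun V W hV hW h z => (al_res hE hL φM φN hφM hφN ⟨V, hV.1⟩ ⟨W, hW.1⟩ h hV.2.choose_spec z).trans
      (al_change hE hL φM φN ⟨W, hW.1⟩ _ _ _)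
  have hb : ∀ V (hV : IsAffineOpen V ∧ ∃ l : Γ(L, V), InvX.IsFrame l), Function.Bijective (α.app V) := fun V hV => by
    rw [show ⇑(α.app V).hom = ⇑(al hE hL φM φN ⟨V, hV.1⟩ hV.2.choose_spec) from funext (hα V hV)]
    exact (Hyp.bijective_tmul_frame hN (ZeroSchX.isQCoh_inv (H23.PicMul.isInvertible_tensorPow hL k)) hV.1
      (AmpleX.isFrame_powElt hV.2.choose_spec k)).comp (LinearEquiv.bijective _)
  haveI : Mono α := Hyp.mono_of_base (isBase_frame hL) α fun V hV => (hb V hV).1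
  haveI : Epi α := ⟨fun g g' e => Hyp.hom_ext_of_base (isBase_frame hL) fun V hV y => by
    obtain ⟨z, rfl⟩ := (hb V hV).2 y
    exact congr(($e).app V z)⟩
  haveI : IsIso α := isIso_of_mono_of_epi α
  exact ⟨asIso α⟩

end

/-- Let X be a scheme, E a finite locally free O_X-module and L a finite locally free O_X-module of rank
1 (an invertible module), and k a natural number. If M is a k-th exterior power of E ⊗ L and N is a
k-th exterior power of E (affine-local characterisation of exterior powers), then M is isomorphic to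
N ⊗ L^{⊗k} as an O_X-module (existence of an isomorphism; the published isomorphism is induced by
(e_1 ⊗ l_1) ∧ ⋯ ∧ (e_k ⊗ l_k) ↦ (e_1 ∧ ⋯ ∧ e_k) ⊗ l_1 ⋯ l_k). -/
theorem result {X : Scheme.{u}} (E L : X.Modules)
    (hE : FlatMod.IsFinLocFree E) (hL : FlatMod.IsFinLocFreeOfRank 1 L) (k : ℕ) (M N : X.Modules)
    (hM : ExtPow.IsExtPow k (CohB1.tensorMod E L) M) (hN : ExtPow.IsExtPow k E N) :
    Nonempty (M ≅ CohB1.tensorMod N (CohB1.tensorPow L k)) := by
  have hEq := Groth.Agent.QCoh.isQCoh_of_isFinLocFree hE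
  have hLi : PicF.IsInvertible L := fun x =>
    let ⟨U, hx, ⟨e⟩⟩ := hL x
    ⟨U, hx, ⟨e ≪≫ CategoryTheory.Limits.coproductUniqueIso _⟩⟩
  have hNq := Groth.Agent.DRHyp.isQCoh_of_isExtPow hEq k hN
  obtain ⟨φM, hφM⟩ := hM
  obtain ⟨φN, hφN⟩ := hN
  exact nonempty_iso hEq hLi φM φN hφM hφN hNq

end Groth.Agent.S15827
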