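import Groth.Statements.S15836
import Mathlib
import Groth.Agent.InvMod.Basic

set_option autoImplicit false
universe u
open SprIso

namespace Groth.Agent.S15836

section
open Polynomial

/-- Gauss's lemma over an integrally closed domain: if `f * g` has coefficients in `A`, so do all the
products of a coefficient of `f` with a coefficient of `g`. -/
lemma coeff_mul_coeff_mem {A K : Type*} [CommRing A] [IsIntegrallyClosed A] [Field K]
    [Algebra A K] [IsFractionRing A K] {f g : K[X]} {P : A[X]}
    (h : f * g = P.map (algebraMap A K)) (i j : ℕ) :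
    f.coeff i * g.coeff j ∈ (algebraMap A K).range := by
  classical
  rcases eq_or_ne f 0 with rfl | hf
  · simp
  rcases eq_or_ne g 0 with rfl | hg
  · simp
  have : IsIntegrallyClosedIn (algebraMap A K).range K := by
    rw [Subring.isIntegrallyClosedIn_iff]
    intro x hx
    obtain ⟨p, hp, hpx⟩ := hx
    obtain ⟨q, hq, -, hqm⟩ := Polynomial.lifts_and_natDegree_eq_and_monic
      (f := (algebraMap A K).rangeRestrict) (p := p)
      ((lifts_iff_coeff_lifts p).mpr fun n => RingHom.rangeRestrict_surjective _ _) hp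
    have hx' : IsIntegral A x := ⟨q, hqm, by
      rw [← hq, eval₂_map] at hpx
      exact hpx⟩
    exact IsIntegrallyClosed.isIntegral_iff.mp hx'
  rw [Subring.eq_iInf_of_isIntegrallyClosedIn (R := (algebraMap A K).range), Subring.mem_iInf]
  rintro ⟨V, hV⟩
  let ν := V.valuation
  have first : ∀ p : K[X], p ≠ 0 → ∃ i₀, p.coeff i₀ ≠ 0 ∧ (∀ i, ν (p.coeff i) ≤ ν (p.coeff i₀)) ∧
      ∀ i < i₀, ν (p.coeff i) < ν (p.coeff i₀) := by
    intro p hp
    obtain ⟨m, hm, hmax⟩ := p.support.exists_max_image (fun i => ν (p.coeff i))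
      (Polynomial.support_nonempty.mpr hp)
    have hall : ∀ i, ν (p.coeff i) ≤ ν (p.coeff m) := fun i => by
      by_cases hi : p.coeff i = 0
      · rw [hi, map_zero]; exact zero_le
      · exact hmax i (mem_support_iff.mpr hi)
    have hex : ∃ i, ν (p.coeff i) = ν (p.coeff m) := ⟨m, rfl⟩
    refine ⟨Nat.find hex, fun h0 => mem_support_iff.mp hm ?_, fun i => (Nat.find_spec hex).symm ▸ hall i,
      fun i hi => (Nat.find_spec hex).symm ▸ lt_of_le_of_ne (hall i) (Nat.find_min hex hi)⟩
    have := Nat.find_spec hex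
    rw [h0, map_zero] at this
    exact (ν.zero_iff).mp this.symm
  obtain ⟨i₀, hi₀, hfmax, hflt⟩ := first f hf
  obtain ⟨j₀, hj₀, hgmax, hglt⟩ := first g hg
  have hmem : (f * g).coeff (i₀ + j₀) ∈ V := by
    rw [h, coeff_map]
    exact hV ⟨_, rfl⟩
  have hle : ν (f.coeff i₀) * ν (g.coeff j₀) ≤ 1 := by
    rw [← map_mul]
    refine le_of_eq_of_le ?_ ((V.valuation_le_one_iff _).mpr hmem)
    rw [coeff_mul, Finset.sum_eq_add_sum_sdiff_singleton_of_mem
      (show (i₀, j₀) ∈ Finset.HasAntidiagonal.antidiagonal (i₀ + j₀) from Finset.HasAntidiagonal.mem_antidiagonal.mpr rfl)]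
    refine (Valuation.map_add_eq_of_lt_left ν ?_).symm
    refine Valuation.map_sum_lt _ (by simp [ν, hi₀, hj₀]) ?_
    rintro ⟨a, b⟩ hab
    rw [Finset.mem_sdiff, Finset.HasAntidiagonal.mem_antidiagonal, Finset.mem_singleton] at hab
    rw [map_mul, map_mul]
    rcases lt_trichotomy a i₀ with ha | ha | ha
    · exact mul_lt_mul_of_lt_of_le_of_nonneg_of_pos (hflt a ha) (hgmax b) zero_le
        (zero_lt_iff.mpr (ν.ne_zero_iff.mpr hj₀))
    · exact absurd (Prod.ext ha (by omega)) hab.2
    · exact (mul_le_mul' (hfmax a) le_rfl).trans_lt (mul_lt_mul_of_pos_left (hglt b (by omega))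
        (zero_lt_iff.mpr (ν.ne_zero_iff.mpr hi₀)))
  refine (V.valuation_le_one_iff _).mp ?_
  rw [map_mul]
  exact le_trans (mul_le_mul' (hfmax i) (hgmax j)) hle

/-- A rank one idempotent matrix over an integrally closed domain which is deformed to a matrix of
constants in a subfield splits. -/
theorem exists_split_of_deformation {A : Type*} [CommRing A] [IsDomain A] [IsIntegrallyClosed A]
    {N : ℕ} (P : Fin N → Fin N → A[X])
    (hrel : ∀ a b c d, P a b * P c d = P a d * P c b) (htr : ∑ j, P j j = 1)
    (h0 : ∀ a b, (P a b).coeff 0 = 0 ∨ IsUnit ((P a b).coeff 0)) :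
    ∃ v w : Fin N → A, ∀ a b, (P a b).eval 1 = v a * w b := by
  classical
  let K := FractionRing A
  let φ := algebraMap A K
  have hφ : Function.Injective φ := IsFractionRing.injective A K
  let m : A[X] →+* K[X] := mapRingHom φ
  have hm : Function.Injective m := Polynomial.map_injective φ hφ
  obtain ⟨b₀, hb₀⟩ : ∃ b, (P b b).coeff 0 ≠ 0 := by
    by_contra! hall
    have := congrArg (fun p => p.coeff 0) htr
    simp [hall] at this
  let Q : Fin N → Fin N → K[X] := fun a b => m (P a b)
  have hQrel : ∀ a b c d, Q a b * Q c d = Q a d * Q c b := fun a b c d => by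
    simp only [Q, ← map_mul, hrel]
  have hQ0 : Q b₀ b₀ ≠ 0 := (map_ne_zero_iff m hm).mpr fun h => hb₀ (by rw [h, coeff_zero])
  let I : Ideal K[X] := Ideal.span (Set.range fun a => Q a b₀)
  let g := Submodule.IsPrincipal.generator I
  have hgI : Ideal.span {g} = I := Ideal.span_singleton_generator I
  have hdvd : ∀ a, g ∣ Q a b₀ := fun a => Ideal.mem_span_singleton.mp
    (hgI.symm ▸ Ideal.subset_span ⟨a, rfl⟩)
  choose v hv using hdvd
  have hg : g ≠ 0 := fun h => hQ0 (by rw [hv, h, zero_mul])
  obtain ⟨u, hu⟩ := Submodule.mem_span_range_iff_exists_fun _ |>.mp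
    (show g ∈ Submodule.span K[X] (Set.range fun a => Q a b₀) from
      Submodule.IsPrincipal.generator_mem I)
  have hbez : ∑ a, u a * v a = 1 := by
    refine mul_left_cancel₀ hg ?_
    rw [mul_one, Finset.mul_sum]
    conv_rhs => rw [← hu]
    exact Finset.sum_congr rfl fun a _ => by rw [smul_eq_mul, hv]; ring
  have hcross : ∀ a b c, v a * Q c b = Q a b * v c := fun a b c => mul_left_cancel₀ hg (by
    have := hQrel a b₀ c b
    rw [hv a, hv c] at this
    linear_combination this)
  let w : Fin N → K[X] := fun b => ∑ c, u c * Q c b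
  have hvw : ∀ a b, v a * w b = m (P a b) := fun a b => by
    show v a * ∑ c, u c * Q c b = Q a b
    calc v a * ∑ c, u c * Q c b = ∑ c, Q a b * (u c * v c) := by
          rw [Finset.mul_sum]
          exact Finset.sum_congr rfl fun c _ => by linear_combination u c * hcross a b c
      _ = Q a b := by rw [← Finset.mul_sum, hbez, mul_one]
  have hG : ∀ a b i j, (v a).coeff i * (w b).coeff j ∈ φ.range :=
    fun a b => coeff_mul_coeff_mem (hvw a b)
  have hG1 : ∀ a b j, (v a).eval 1 * (w b).coeff j ∈ φ.range := fun a b j => by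
    rw [eval_eq_sum, Polynomial.sum, Finset.sum_mul]
    exact Subring.sum_mem _ fun i _ => by rw [one_pow, mul_one]; exact hG a b i j
  have hG2 : ∀ a b i, (v a).coeff i * (w b).eval 1 ∈ φ.range := fun a b i => by
    rw [eval_eq_sum, Polynomial.sum, Finset.mul_sum]
    exact Subring.sum_mem _ fun j _ => by rw [one_pow, mul_one]; exact hG a b i j
  have hc : (v b₀).coeff 0 * (w b₀).coeff 0 = φ ((P b₀ b₀).coeff 0) := by
    rw [← mul_coeff_zero, hvw]
    simp [m]
  obtain ⟨c, hc'⟩ := (h0 b₀ b₀).resolve_left hb₀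
  choose V hV using fun a => hG1 a b₀ 0
  choose W hW using fun b => hG2 b₀ b 0
  refine ⟨V, fun b => ↑c⁻¹ * W b, fun a b => hφ ?_⟩
  have hev : (v a).eval 1 * (w b).eval 1 = φ ((P a b).eval 1) := by
    rw [← eval_mul, hvw]
    simp [m, eval_map, eval₂_at_one]
  have hc1 : φ ↑c⁻¹ * φ ((P b₀ b₀).coeff 0) = 1 := by
    rw [← map_mul, ← hc', Units.inv_mul, map_one]
  rw [map_mul, map_mul, hV, hW, ← hev]
  calc (v a).eval 1 * (w b).eval 1
      = (v a).eval 1 * (w b).eval 1 * (φ ↑c⁻¹ * φ ((P b₀ b₀).coeff 0)) := by rw [hc1, mul_one]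
    _ = _ := by rw [← hc]; ring


end

/-- Let k be a field and C a closed subscheme of affine n-space over k which is stable under the scaling
action of the affine line, i.e. C = Spec A with A = k[x_1, …, x_n]/I for an ideal I generated by
homogeneous polynomials, and assume C is normal (A is an integrally closed domain). Then Pic(C) = 0:
every invertible A-module is free. -/
theorem result (k : Type u) [Field k] (n : ℕ)
    (I : Ideal (MvPolynomial (Fin n) k))
    (hI : ∃ s : Set (MvPolynomial (Fin n) k), (∀ f ∈ s, ∃ d : ℕ, f.IsHomogeneous d) ∧ I = Ideal.span s)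
    [IsDomain (MvPolynomial (Fin n) k ⧸ I)] [IsIntegrallyClosed (MvPolynomial (Fin n) k ⧸ I)]
    (M : Type u) [AddCommGroup M] [Module (MvPolynomial (Fin n) k ⧸ I) M]
    [Module.Invertible (MvPolynomial (Fin n) k ⧸ I) M] :
    Module.Free (MvPolynomial (Fin n) k ⧸ I) M := by
  classical
  let A := MvPolynomial (Fin n) k ⧸ I
  obtain ⟨s, hs, hsI⟩ := hI
  -- the deformation `A → A[t]` given by `x ↦ t x`
  let φ₀ : MvPolynomial (Fin n) k →ₐ[k] Polynomial A :=
    MvPolynomial.aeval fun i => Polynomial.C (Ideal.Quotient.mk I (MvPolynomial.X i)) * Polynomial.X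
  have hhom : ∀ (f : MvPolynomial (Fin n) k) (d : ℕ), f.IsHomogeneous d →
      φ₀ f = Polynomial.C (Ideal.Quotient.mk I f) * Polynomial.X ^ d := by
    intro f d hf
    conv_lhs => rw [f.as_sum, map_sum]
    conv_rhs => rw [f.as_sum, map_sum, map_sum, Finset.sum_mul]
    refine Finset.sum_congr rfl fun e he => ?_
    have hdeg : e.degree = d := by
      rw [Finsupp.degree_eq_weight_one]
      exact hf (MvPolynomial.mem_support_iff.mp he)
    rw [MvPolynomial.monomial_eq, map_mul, map_mul, map_mul, Finsupp.prod, map_prod, map_prod,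
      map_prod]
    simp only [φ₀, map_pow, MvPolynomial.aeval_C, MvPolynomial.aeval_X, mul_pow,
      Finset.prod_mul_distrib, Finset.prod_pow_eq_pow_sum]
    rw [← hdeg, Finsupp.degree_apply]
    simp only [Polynomial.algebraMap_apply]
    rw [show algebraMap k A _ = Ideal.Quotient.mk I (MvPolynomial.C _) from rfl]
    have hT : ∀ (g : Fin n → Polynomial A) (T : Finset (Fin n)),
        ∏ x ∈ T, (g x * Polynomial.X) ^ e x =
          (∏ x ∈ T, g x ^ e x) * Polynomial.X ^ ∑ i ∈ T, e i := by
      intro g T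
      induction T using Finset.induction with
      | empty => simp
      | insert a T ha ih =>
        rw [Finset.prod_insert ha, Finset.prod_insert ha, Finset.sum_insert ha, ih, pow_add]
        ring
    rw [hT]
    ring
  have hφI : ∀ f ∈ I, φ₀ f = 0 := by
    have : I ≤ RingHom.ker φ₀.toRingHom := by
      refine hsI.le.trans (Ideal.span_le.mpr ?_)
      intro f hf
      obtain ⟨d, hd⟩ := hs f hf
      rw [SetLike.mem_coe, RingHom.mem_ker]
      show φ₀ f = 0
      rw [hhom f d hd, Ideal.Quotient.eq_zero_iff_mem.mpr (hsI ▸ Ideal.subset_span hf), map_zero,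
        zero_mul]
    exact fun f hf => this hf
  let φ : A →ₐ[k] Polynomial A := Ideal.Quotient.liftₐ I φ₀ hφI
  have hφ1 : ∀ a, (φ a).eval 1 = a := by
    intro a
    obtain ⟨p, rfl⟩ := Ideal.Quotient.mk_surjective a
    show (φ₀ p).eval 1 = Ideal.Quotient.mk I p
    induction p using MvPolynomial.induction_on with
    | C c =>
      simp only [φ₀, MvPolynomial.aeval_C, Polynomial.algebraMap_apply, Polynomial.eval_C]
      rfl
    | add p q hp hq => rw [map_add, Polynomial.eval_add, hp, hq, map_add]
    | mul_X p i hp =>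
      rw [map_mul, Polynomial.eval_mul, hp, map_mul]
      simp [φ₀]
  have hφ0 : ∀ a, ∃ c : k, (φ a).coeff 0 = algebraMap k A c := by
    intro a
    obtain ⟨p, rfl⟩ := Ideal.Quotient.mk_surjective a
    refine ⟨MvPolynomial.constantCoeff p, ?_⟩
    show (φ₀ p).coeff 0 = _
    induction p using MvPolynomial.induction_on with
    | C c =>
      simp only [φ₀, MvPolynomial.aeval_C, Polynomial.algebraMap_apply, Polynomial.coeff_C_zero, MvPolynomial.constantCoeff_C]
      rfl
    | add p q hp hq => rw [map_add, Polynomial.coeff_add, hp, hq, map_add, map_add]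
    | mul_X p i hp => simp [φ₀, Polynomial.mul_coeff_zero]
  -- a rank one idempotent matrix presenting `M`
  obtain ⟨N, p, hp⟩ := Module.Finite.exists_fin' A M
  obtain ⟨σ, hσ⟩ := Module.projective_lifting_property p LinearMap.id hp
  let e : Fin N → M := fun j => p (Pi.single j 1)
  let θ : Fin N → M →ₗ[A] A := fun j => (LinearMap.proj j).comp σ
  have hdual : ∀ x, x = ∑ j, θ j x • e j := by
    intro x
    conv_lhs => rw [← show p (σ x) = x from LinearMap.congr_fun hσ x,
      pi_eq_sum_univ (σ x) (R := A), map_sum]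
    refine Finset.sum_congr rfl fun j _ => ?_
    rw [map_smul]
    congr 1
    simp only [e]
    congr 1
    funext i
    simp [Pi.single_apply, eq_comm]
  let P : Fin N → Fin N → A := fun a b => θ a (e b)
  have hrel : ∀ a b c d, P a b * P c d = P a d * P c b := fun a b c d => by
    have h := congrArg (θ a) (InvMod.smul_swap (θ c) (e d) (e b))
    simp only [map_smul, smul_eq_mul] at h
    simp only [P]
    linear_combination h
  have htr : ∑ j, P j j = 1 := by
    refine eq_of_smul_eq_smul fun x : M => ?_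
    rw [Finset.sum_smul, one_smul]
    conv_rhs => rw [hdual x]
    exact Finset.sum_congr rfl fun j _ => InvMod.smul_swap (θ j) (e j) x
  obtain ⟨v, w, hvw⟩ := exists_split_of_deformation (fun a b => φ (P a b))
    (fun a b c d => by rw [← map_mul, ← map_mul, hrel])
    (by rw [← map_sum, htr, map_one])
    (fun a b => by
      obtain ⟨c, hc⟩ := hφ0 (P a b)
      rcases eq_or_ne c 0 with rfl | hne
      · exact Or.inl (by rw [hc, map_zero])
      · exact Or.inr (by rw [hc]; exact (Ne.isUnit hne).map _))
  have hvw' : ∀ a b, P a b = v a * w b := fun a b => by rw [← hvw a b, hφ1]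
  have h1 : ∑ j, v j * w j = 1 := by rw [← htr]; simp only [hvw']
  let Θ : M →ₗ[A] A := ∑ a, w a • θ a
  let x₀ : M := ∑ b, v b • e b
  have hΘ : Θ x₀ = 1 := by
    have : Θ x₀ = ∑ a, ∑ b, w a * (v b * P a b) := by
      simp only [Θ, x₀, P, LinearMap.sum_apply, LinearMap.smul_apply, smul_eq_mul]
      refine Finset.sum_congr rfl fun a _ => ?_
      rw [map_sum, Finset.mul_sum]
      refine Finset.sum_congr rfl fun b _ => ?_
      rw [map_smul, smul_eq_mul]
    rw [this]
    calc ∑ a, ∑ b, w a * (v b * P a b) = (∑ a, v a * w a) * ∑ b, v b * w b := by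
          rw [Finset.sum_mul_sum]
          exact Finset.sum_congr rfl fun a _ => Finset.sum_congr rfl fun b _ => by rw [hvw']; ring
      _ = 1 := by rw [h1, mul_one]
  exact Module.Free.of_equiv (LinearEquiv.ofBijective Θ
    (Module.Invertible.bijective_of_surjective fun r =>
      ⟨r • x₀, by rw [map_smul, hΘ, smul_eq_mul, mul_one]⟩)).symm

end Groth.Agent.S15836
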