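import Groth.Statements.S15848
import Groth.Agent.SurfInt.AffineBoundary
import Groth.Agent.Lib.CurveBundle
import Groth.Agent.ComodRes41.DimTwo
import Groth.Agent.CplFib6.QuotReg
import Groth.Agent.GrpSchLib.SmoothRegular
import Groth.Agent.VarBase.CurveDeg
import Groth.Agent.H23.ClosedPushLen
import Groth.Agent.SchTop.Closed
import Groth.Agent.QCoh.Support

set_option autoImplicit false
set_option backward.isDefEq.respectTransparency false
set_option backward.isDefEq.respectTransparency.types false
set_option linter.style.haveILetI false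
attribute [-instance] CategoryTheory.catToReflQuiver
universe u
open CategoryTheory CategoryTheory.Limits AlgebraicGeometry
open Surf

namespace Groth.Agent.S15848

open Groth.Agent RegLoc6

theorem eq_genericPoint_of_isField {C : Scheme.{u}} [IsIntegral C] {c : C}
    (h : IsField (C.presheaf.stalk c)) : c = genericPoint C := by
  obtain ⟨P, hP⟩ : genericPoint C ∈ Set.range (C.fromSpecStalk c) := by
    rw [C.range_fromSpecStalk]; exact (genericPoint_spec (C : Type u)).specializes (Set.mem_univ c)
  letI := h.toField
  rw [← hP, Subsingleton.elim (α := PrimeSpectrum (C.presheaf.stalk c)) P (IsLocalRing.closedPoint _)]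
  exact Scheme.fromSpecStalk_closedPoint.symm

theorem isCurvePt_image_genericPoint {S C : Scheme.{u}} [IsIntegral C] (j : C ⟶ S) [IsClosedImmersion j]
    (hC : topologicalKrullDim C = 1) : SurfInt.IsCurvePt (j (genericPoint C)) := by
  have he : closure ({j (genericPoint C)} : Set S) = Set.range j := by
    rw [← Set.image_singleton, j.isClosedEmbedding.closure_image_eq, genericPoint_closure, Set.image_univ]
  unfold SurfInt.IsCurvePt
  rw [he, ← j.isClosedEmbedding.isEmbedding.toHomeomorph.isHomeomorph.topologicalKrullDim_eq, hC]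
  rfl

/-- A torsion-free coherent module on a curve in a regular surface has projective dimension at most one. -/
theorem pdLE_one_stalk_push {S C : Scheme.{u}} [IsIntegral S] [IsLocallyNoetherian S]
    [∀ x : S, IsRegularLocalRing (S.presheaf.stalk x)] (hdim : topologicalKrullDim S = 2)
    [IsIntegral C] (j : C ⟶ S) [IsClosedImmersion j] (hC : topologicalKrullDim C = 1)
    (M : C.Modules) (hMtf : TorSh.IsTorsionFree M) (hN : Coh.IsCoh ((Coh.push j).obj M)) (x : S) :
    PdLE (S.presheaf.stalk x) 1 (((Coh.push j).obj M).presheaf.stalk x) := by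
  haveI := CplFib6.isRegularRing_of_local (S.presheaf.stalk x)
  haveI := QCoh.finite_stalk_of_isFT hN.1 (QCoh.isFT_of_isFP (QCoh.isCoh_iff_isFP.1 hN)) x
  by_cases hx : x ∈ Set.range j
  swap
  · haveI := H23.ClosedPushLen.subsingleton_stalk j M hx
    exact pdLE_of_projective 1
  obtain ⟨c, rfl⟩ := hx
  by_cases hf : IsField (C.presheaf.stalk c)
  · have hc := SurfInt.ringKrullDim_stalk_curvePt hdim (isCurvePt_image_genericPoint j hC)
    rw [← eq_genericPoint_of_isField hf] at hc
    exact H9Misc.DRingGlobalDim.pd_le (fun p => inferInstance) 1 (by rw [hc]; rfl) (ModuleCat.of _ _)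
  obtain ⟨a, ha0, hau⟩ : ∃ a : C.presheaf.stalk c, a ≠ 0 ∧ ¬ IsUnit a := by
    obtain ⟨a, ha, ha0⟩ := Submodule.exists_mem_ne_zero_of_ne_bot
      (mt IsLocalRing.isField_iff_maximalIdeal_eq.2 hf)
    exact ⟨a, ha0, ha⟩
  obtain ⟨t, rfl⟩ := j.stalkMap_surjective c a
  have ht : t ∈ IsLocalRing.maximalIdeal (S.presheaf.stalk (j c)) :=
    fun h => hau (h.map (j.stalkMap c).hom)
  let e := VarBase.pushStalkEquiv j j.isClosedEmbedding.isClosedMap
    (x := c) (fun z hz => j.isClosedEmbedding.injective hz) M
  have hreg : IsSMulRegular (((Coh.push j).obj M).presheaf.stalk (j c)) t := fun m m' h => by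
    have h' := congrArg e h
    simp only [e, VarBase.pushStalkEquiv_smul] at h'
    haveI := hMtf c
    exact e.injective (smul_right_injective _ ha0 h')
  exact pdLE_of_quotSMulTop hreg ht
    (ComodRes41.pdLE_two ((SchTop.ringKrullDim_stalk_le (j c)).trans hdim.le) _)

/-- Let k be an algebraically closed field of characteristic zero and S a smooth surface over k (an
integral k-scheme, smooth over k, of dimension two). Let j : C → S be a closed immersion with C
integral of dimension one, M a coherent O_C-module whose stalks are torsion-free modules over the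
local rings of C, F a finite locally free O_S-module and f : F → j_*M an epimorphism of O_S-modules.
Then the kernel of f, the elementary transformation of F along f, is a finite locally free
O_S-module. (The published setting takes S projective; the argument is local on S and projectivity
is not assumed here.) -/
theorem result
    (k : Type u) [Field k] [IsAlgClosed k] [CharZero k]
    (S : Scheme.{u}) [S.Over (Spec (CommRingCat.of k))] [IsIntegral S]
    [Smooth (S ↘ Spec (CommRingCat.of k))] (hdim : topologicalKrullDim S = 2)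
    (C : Scheme.{u}) (j : C ⟶ S) [IsClosedImmersion j] [IsIntegral C]
    (hC : topologicalKrullDim C = 1)
    (M : C.Modules) (hM : Coh.IsCoh M) (hMtf : TorSh.IsTorsionFree M)
    (F : S.Modules) (hF : FlatMod.IsFinLocFree F)
    (f : F ⟶ (Coh.push j).obj M) [Epi f] :
    FlatMod.IsFinLocFree (kernel f) := by
  haveI := LocallyOfFiniteType.isLocallyNoetherian (S ↘ Spec (CommRingCat.of k))
  haveI := fun x => GrpSchLib.isRegularLocalRing_stalk_of_smooth (S ↘ Spec (CommRingCat.of k)) x
  haveI : IsLocallyNoetherian C := LocallyOfFiniteType.isLocallyNoetherian j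
  have hN : Coh.IsCoh ((Coh.push j).obj M) := QCoh.isCoh_pushforward_finite j hM
  have hFc := CurveDeg.isCoh_of_isFinLocFree hF
  have hK := QCoh.isCoh_kernel hFc hN f
  refine QCoh.isFinLocFree_iff.2 ⟨QCoh.isCoh_iff_isFP.1 hK, fun x => ?_⟩
  have hS : (ShortComplex.mk (kernel.ι f) f (kernel.condition f)).ShortExact :=
    { exact := ShortComplex.exact_of_f_is_kernel _ (kernelIsKernel _) }
  have hx := hS.map_of_exact (DerSch.stalkFunctor S x)
  have hinj : Function.Injective (Algz.stalkMapₗ (kernel.ι f) x) :=
    (ModuleCat.mono_iff_injective _).1 hx.mono_f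
  have hsurj : Function.Surjective (Algz.stalkMapₗ f x) :=
    (ModuleCat.epi_iff_surjective _).1 hx.epi_g
  have hex : LinearMap.range (Algz.stalkMapₗ (kernel.ι f) x) = LinearMap.ker (Algz.stalkMapₗ f x) :=
    ShortComplex.Exact.moduleCat_range_eq_ker hx.exact
  haveI := QCoh.free_stalk_of_isFinLocFree hF x
  haveI := QCoh.finite_stalk_of_isFT hK.1 (QCoh.isFT_of_isFP (QCoh.isCoh_iff_isFP.1 hK)) x
  haveI := pdLE_zero_iff.1 (pdLE_ker (Algz.stalkMapₗ f x) hsurj (pdLE_one_stalk_push hdim j hC M hMtf hN x)
    (pdLE_of_projective 0))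
  haveI : Module.Projective (S.presheaf.stalk x) ((kernel f).presheaf.stalk x) :=
    Module.Projective.of_equiv ((LinearEquiv.ofInjective _ hinj).trans (LinearEquiv.ofEq _ _ hex)).symm
  exact Module.free_of_flat_of_isLocalRing

end Groth.Agent.S15848
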