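import Groth.Statements.S15849
import Groth.Agent.ShStabX.RankOne

set_option autoImplicit false
universe u
open CategoryTheory CategoryTheory.Limits AlgebraicGeometry Polynomial
open ShStab StabCat Groth.Agent Groth.Agent.ShStabX
open scoped Groth.Agent.H23.PicMul
set_option linter.style.haveILetI false

namespace Groth.Agent.S15849

theorem support_empty {X : Scheme.{u}} {F : X.Modules} (h : IsZero F) : CohB1.support F = ∅ :=
  Set.eq_empty_iff_forall_notMem.2 fun x hx =>
    hx (ModuleCat.subsingleton_of_isZero ((DerSch.stalkFunctor X x).map_isZero h))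

/-- Let k be an algebraically closed field of characteristic zero and S a smooth projective surface over
k (integral, smooth over k, of dimension two, with a closed immersion over k into some projective
space) whose Picard group is infinite cyclic, generated by the class of an ample invertible sheaf L.
Let N ⊆ L be a coherent subsheaf whose quotient L/N has support of dimension at most zero (N is L
twisted by the ideal sheaf of a finite subscheme, possibly empty), and let V be a coherent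
O_S-module with torsion-free stalks in a short exact sequence 0 → O_S → V → N → 0 that does not
split. Then V is slope-stable of dimension two with respect to L: V has no coherent subsheaf with
one-dimensional support, and every coherent subsheaf whose multiplicity lies strictly between 0 and
that of V has normalised slope of its Hilbert polynomial strictly smaller than that of V. (The
published statement does not ask the extension to be non-split; for the split extension V = O_S ⊕ N
the subsheaf N has larger slope than V, and the printed argument uses that the sequence does not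
split, so non-splitness is assumed here.) -/
theorem result
    (k : Type u) [Field k] [IsAlgClosed k] [CharZero k]
    (S : Scheme.{u}) [S.Over (Spec (CommRingCat.of k))] [IsIntegral S]
    [Smooth (S ↘ Spec (CommRingCat.of k))] (hdim : topologicalKrullDim S = 2)
    [IsProper (S ↘ Spec (CommRingCat.of k))]
    (hproj : ∃ (n : ℕ) (ι : S ⟶ CohB1.ProjSpace n k), IsClosedImmersion ι ∧
      ι ≫ CohB1.ProjSpace.toSpec n k = S ↘ Spec (CommRingCat.of k))
    (L : S.Modules) (hLi : PicF.IsInvertible L) (hLa : CohB1.IsAmple L)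
    [PicGrp.Law S] (hgen : ∀ c : PicLoc.PicSet S, ∃ n : ℤ, c = PicGrp.cls L hLi ^ n)
    (hfree : ∀ n : ℤ, PicGrp.cls L hLi ^ n = 1 → n = 0)
    (N : S.Modules) (ι : N ⟶ L) [Mono ι] (hN : Coh.IsCoh N)
    (hZ : topologicalKrullDim (CohB1.support (cokernel ι)) ≤ 0)
    (V : S.Modules) (hV : Coh.IsCoh V) (hVtf : TorSh.IsTorsionFree V)
    (a : Coh.structureModule S ⟶ V) (b : V ⟶ N) (w : a ≫ b = 0)
    (hex : (ShortComplex.mk a b w).ShortExact)
    (hns : ∀ r : V ⟶ Coh.structureModule S, a ≫ r ≠ 𝟙 (Coh.structureModule S)) :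
    ShStab.IsMuStable k S L V 2 := by
  haveI : IsNoetherian S := CurveCohLib.isNoetherian_of_proper (k := k)
  have hd : topologicalKrullDim ↥S = ((2 : ℕ) : WithBot ℕ∞) := hdim
  have hdE : ∀ E : S.Modules, topologicalKrullDim ↥(CohB1.support E) ≤ ((2 : ℕ) : WithBot ℕ∞) := fun E =>
    (topologicalKrullDim_subspace_le S _).trans hd.le
  let O := Coh.structureModule S
  have hOi : PicF.IsInvertible O := PicLoc.isInvertible_structureModule S
  obtain ⟨hOc, -, hOt⟩ := isRef1_data hOi
  have hO0 : ¬ IsZero O := fun hz => by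
    obtain ⟨e, he, -⟩ := Div57.Ref.exists_gen_basis (Div57.Ref.isRef1_of_isInvertible hOi).2.2
    exact he (@Subsingleton.elim _
      (ModuleCat.subsingleton_of_isZero ((DerSch.stalkFunctor S (genericPoint S)).map_isZero hz)) e 0)
  obtain ⟨hLc, -, hLt⟩ := isRef1_data hLi
  obtain ⟨pO, hpO, -⟩ := HilbPoly.exists_hilb (k := k) hLa.1 hOc (hdE O)
  obtain ⟨pL, hpL, -⟩ := HilbPoly.exists_hilb (k := k) hLa.1 hLc (hdE L)
  obtain ⟨pN, hpN, -⟩ := HilbPoly.exists_hilb (k := k) hLa.1 hN (hdE N)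
  have hA := HilbPoly.alpha_pos hLa hOc (isPure_of_torsionFree_integral hOt hd O (𝟙 O) inferInstance hOc hO0) hpO
  obtain ⟨eL⟩ : Nonempty (ShStab.twist S L L 0 ≅ ShStab.twist S L O 1) := by
    refine H23.PicMul.cl_eq_iff.1 ?_
    show PicF.cl (CohB1.tensorMod L _) = PicF.cl (CohB1.tensorMod O _)
    simp only [H23.PicMul.cl_tensor, H23.PicMul.cl_tensorPow, pow_zero, pow_one, mul_one]
    rw [← H23.PicMul.one_def, one_mul]
  obtain ⟨hL2, hL1⟩ := alpha_of_twist_iso hd hLa hLc hOc hpL hpO 0 1 eL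
  simp only [Nat.cast_zero, zero_mul, add_zero, Nat.cast_one, one_mul] at hL1
  obtain ⟨hQ, -, hpQ⟩ := HilbPoly.cokernel_data hLa hN hLc (hdE L) ι hpN hpL
  obtain ⟨hQ2, hQ1⟩ := alpha_finite hLa hQ hZ hpQ
  simp only [alpha, coeff_sub] at hQ2 hQ1
  have hN2 : alpha 2 pN = alpha 2 pO := by rw [← hL2]; simp only [alpha]; linarith
  have hN1 : alpha 1 pN = alpha 1 pL := by simp only [alpha]; linarith
  have hpV := HilbPoly.hilb_add hLa.1 hex hOc hV hN hpO hpN
  haveI : Mono a := hex.mono_f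
  have hV0 : ¬ IsZero V := fun h => hO0 (IsZero.of_mono a h)
  have hVp := isPure_of_torsionFree_integral hVtf hd
  refine ⟨hV, hV0, hVp V (𝟙 V) inferInstance hV hV0, fun F j hj hFc he => ?_, fun F j hj hFc pF pE hpF hpE h0 hlt => ?_⟩
  · by_cases hz : IsZero F
    · rw [support_empty hz] at he
      rw [show topologicalKrullDim ↥(∅ : Set S) = ⊥ from Order.krullDim_eq_bot_iff.2
        ⟨fun s => s.2.1.elim fun x _ => x.2⟩, WithBot.bot_add] at he
      exact WithBot.bot_ne_coe he
    · rw [hVp F j hj hFc hz] at he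
      norm_cast at he
  haveI := hj
  obtain rfl := HilbPoly.isHilbPoly_unique hpE hpV
  have hF0 : ¬ IsZero F := fun h => by
    obtain rfl := HilbPoly.isHilbPoly_unique hpF (HilbPoly.hilb_isZero h)
    simp [alpha] at h0
  rw [hatSlope, hatSlope, div_lt_div_iff₀ h0 (h0.trans hlt)]
  rw [HilbPoly.alpha_add] at hlt
  simp only [show (2 : ℕ) - 1 = 1 from rfl, HilbPoly.alpha_add]
  -- it suffices that `F` has the rank of `O` and at most its first coefficient
  suffices h : alpha 2 pF = alpha 2 pO ∧ alpha 1 pF ≤ alpha 1 pO by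
    rw [h.1, hN2, hN1, hL1]
    nlinarith [mul_le_mul_of_nonneg_right h.2 hA.le, mul_pos hA hA]
  obtain ⟨K, I, a', p, b', w', hfac, ha, hb, hp, hS, hKc, hIc⟩ := HilbPoly.exists_factor (k := k) hFc hN (j ≫ b)
  haveI := ha; haveI := hb; haveI := hp
  by_cases hI0 : IsZero I
  · have hjb : j ≫ b = 0 := by rw [← hfac, hI0.eq_of_tgt p 0, Limits.zero_comp]
    let l : F ⟶ O := hex.exact.lift j hjb
    haveI : Mono l := mono_of_mono_fac (hex.exact.lift_f j hjb)
    obtain ⟨h2, h1, -⟩ := alpha_sub_invertible hd hLa hFc hOi l hF0 hpF hpO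
    exact ⟨h2, h1⟩
  obtain ⟨pI, hpI, -⟩ := HilbPoly.exists_hilb (k := k) hLa.1 hIc (hdE I)
  obtain ⟨hI2, -, -⟩ := alpha_sub_invertible hd hLa hIc hLi (b' ≫ ι) hI0 hpI hpL
  have hK0 : IsZero K := by
    by_contra hK0
    obtain ⟨pK, hpK, -⟩ := HilbPoly.exists_hilb (k := k) hLa.1 hKc (hdE K)
    have hab : (a' ≫ j) ≫ b = 0 := by rw [Category.assoc, ← hfac, reassoc_of% w', Limits.zero_comp]
    let l : K ⟶ O := hex.exact.lift (a' ≫ j) hab
    haveI : Mono l := mono_of_mono_fac (hex.exact.lift_f (a' ≫ j) hab)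
    obtain ⟨hK2, -, -⟩ := alpha_sub_invertible hd hLa hKc hOi l hK0 hpK hpO
    rw [HilbPoly.isHilbPoly_unique hpF (HilbPoly.hilb_add hLa.1 hS hKc hFc hIc hpK hpI), HilbPoly.alpha_add,
      hK2, hI2, hL2, hN2] at hlt
    exact lt_irrefl _ hlt
  haveI : Mono p := (ShortComplex.exact_iff_mono _ (hK0.eq_of_src a' 0)).1 hS.exact
  haveI hg : Mono (j ≫ b) := by rw [← hfac]; exact mono_comp p b'
  obtain ⟨hF2, hF1, -⟩ := alpha_sub_invertible hd hLa hFc hLi ((j ≫ b) ≫ ι) hF0 hpF hpL
  refine ⟨hF2.trans hL2, ?_⟩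
  obtain ⟨M, hMi, c, hc, κ, hκm, hκ, hdc⟩ := exists_hull (k := k) hd hFc hLi ((j ≫ b) ≫ ι) hF0
  haveI := hc; haveI := hκm
  have hMc := (isRef1_data hMi).1
  have hM0 : ¬ IsZero M := fun h => hF0 (IsZero.of_mono c h)
  obtain ⟨pM, hpM, -⟩ := HilbPoly.exists_hilb (k := k) hLa.1 hMc (hdE M)
  obtain ⟨a₀, b₀, -, ⟨eM⟩⟩ := exists_twist_iso hLi hgen hMi
  obtain ⟨hM2, hM1⟩ := alpha_of_twist_iso hd hLa hMc hOc hpM hpO a₀ b₀ eM
  rw [hM2] at hM1
  obtain ⟨-, hMle, -⟩ := alpha_sub_invertible hd hLa hMc hLi κ hM0 hpM hpL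
  obtain ⟨-, hFle, -⟩ := alpha_sub_invertible hd hLa hFc hMi c hF0 hpF hpM
  have hle : b₀ ≤ a₀ + 1 := by
    have : (b₀ : ℚ) * alpha 2 pO ≤ ((a₀ + 1 : ℕ) : ℚ) * alpha 2 pO := by push_cast; linarith
    exact_mod_cast le_of_mul_le_mul_right this hA
  rcases Nat.lt_or_ge a₀ b₀ with hlt' | hge
  swap
  · have : (b₀ : ℚ) * alpha 2 pO ≤ (a₀ : ℚ) * alpha 2 pO :=
      mul_le_mul_of_nonneg_right (by exact_mod_cast hge) hA.le
    linarith
  exfalso
  obtain rfl : b₀ = a₀ + 1 := by omega
  push_cast at hM1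
  -- `F` has finite colength in `L`, so `O ⊕ F → V` is an isomorphism off finitely many points
  obtain ⟨hC, -, hpC⟩ := HilbPoly.cokernel_data hLa hFc hMc (hdE M) c hpF hpM
  have hC1 := (alpha_finite hLa hC hdc hpC).2
  simp only [alpha, coeff_sub] at hC1
  have hFL : alpha 1 pF = alpha 1 pL := by simp only [alpha] at *; linarith
  have hd0 := (alpha_sub_invertible hd hLa hFc hLi ((j ≫ b) ≫ ι) hF0 hpF hpL).2.2 hFL
  have hC' : Coh.IsCoh (cokernel ((j ≫ b) ≫ ι)) := QCoh.isCoh_cokernel hFc.1 hLc _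
  let Z : Set S := CohB1.support (cokernel ((j ≫ b) ≫ ι))
  have hZc : IsClosed Z := QCoh.isClosed_support_of_isFT hC'.1 hC'.2
  let U : S.Opens := ⟨Zᶜ, hZc.isOpen_compl⟩
  have hdepth : ∀ x : S, x ∉ U → (2 : ℕ∞) ≤ LocCoh.depth (S.presheaf.stalk x) (S.presheaf.stalk x) :=
    fun x hx => two_le_depth_of_dim_add_two_le (S ↘ Spec (CommRingCat.of k)) hd hZc (fun n hn => by
      have : (n : WithBot ℕ∞) ≤ ((0 : ℕ) : WithBot ℕ∞) := hn.trans hd0
      norm_cast at this
      omega) (not_not.1 hx)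
  let ψ : O ⊞ F ⟶ V := biprod.desc a j
  haveI : Mono ψ := by
    refine Preadditive.mono_of_cancel_zero _ fun {T} h hh => ?_
    have hh' : (h ≫ biprod.fst) ≫ a + (h ≫ biprod.snd) ≫ j = 0 := by
      rw [← hh, Category.assoc, Category.assoc, ← Preadditive.comp_add]
      congr 1
      exact biprod.desc_eq.symm
    have h2 : h ≫ biprod.snd = 0 := by
      have h1 := congrArg (fun f : T ⟶ V => f ≫ b) hh'
      simp only [Preadditive.add_comp, Category.assoc, w, Limits.comp_zero, zero_add, Limits.zero_comp] at h1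
      exact (cancel_mono (j ≫ b)).1 (by rw [Limits.zero_comp, Category.assoc]; exact h1)
    have h3 : h ≫ biprod.fst = 0 := (cancel_mono a).1 (by simpa [h2] using hh')
    apply biprod.hom_ext <;> simp [h2, h3]
  have hU : ∀ x ∈ U, x ∉ CohB1.support (cokernel ψ) := fun x hx => by
    refine notMem_support_of_surjective ψ fun v => ?_
    obtain ⟨f, hf⟩ := (bijective_stalkMap_of_notMem ((j ≫ b) ≫ ι) hx).2
      (RefHull.stalkMapₗ ι x (RefHull.stalkMapₗ b x v))
    simp only [Div57.Ref.stalkMap_comp, LinearMap.comp_apply] at hf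
    have hf' := injective_stalkMap_of_mono ι x hf
    obtain ⟨o, ho⟩ := (ShortComplex.moduleCat_exact_iff _).1
      (hex.map_of_exact (DerSch.stalkFunctor S x)).exact (v - RefHull.stalkMapₗ j x f)
      (show RefHull.stalkMapₗ b x _ = 0 by rw [map_sub, hf', sub_self])
    refine ⟨RefHull.stalkMapₗ (biprod.inl : O ⟶ O ⊞ F) x o + RefHull.stalkMapₗ (biprod.inr : F ⟶ O ⊞ F) x f, ?_⟩
    have e1 := LinearMap.congr_fun (Div57.Ref.stalkMap_comp (biprod.inl : O ⟶ O ⊞ F) ψ x) o
    have e2 := LinearMap.congr_fun (Div57.Ref.stalkMap_comp (biprod.inr : F ⟶ O ⊞ F) ψ x) f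
    rw [biprod.inl_desc] at e1
    rw [biprod.inr_desc] at e2
    refine (map_add _ _ _).trans ((congrArg₂ (· + ·) e1.symm e2.symm).trans ?_)
    exact (eq_sub_iff_add_eq.1 ho)
  obtain ⟨r, hr⟩ := exists_extend ψ hU (RefX.extendsAcross_unit hdepth) (biprod.fst : O ⊞ F ⟶ O)
  refine hns r ?_
  have := congrArg (fun f => (biprod.inl : O ⟶ O ⊞ F) ≫ f) hr
  simpa [ψ] using this

end Groth.Agent.S15849
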