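import Groth.Statements.S15870
import Groth.Agent.NonAbLib.StrictSection
import Groth.Agent.NonAbLib.TorsorSch
import Groth.Agent.SchTorsor.Props

set_option autoImplicit false
universe u
open CategoryTheory MonoidalCategory CartesianMonoidalCategory MonObj GrpObj AlgebraicGeometry
open NonAbH1

namespace Groth.Agent.S15870

set_option backward.isDefEq.respectTransparency.types false in
/-- Let π : S' → S be finite locally free (finite, flat, locally of finite presentation), G a smooth
S'-group scheme and E an fppf G-torsor over S'. Then E trivializes fppf locally on S: some fppf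
covering family of S consists of morphisms U → S such that E has a section over U ×_S S' → S'. (The
published statement is for a variable S-scheme T, torsors over S' ×_S T and G a group algebraic
space; this row is the case T = S with G a scheme, to which the general case reduces by base change
of π.) -/
theorem result
    {S S' : Scheme.{u}} (π : S' ⟶ S) [IsFinite π] [Flat π] [LocallyOfFinitePresentation π]
    (G : Over S') [GrpObj G] [Smooth G.hom]
    (E : NonAbH1.TorsorSch G Scheme.fppfPrecoverage) :
    ∃ R ∈ Scheme.fppfPrecoverage S, ∀ ⦃U : Scheme.{u}⦄ (g : U ⟶ S), R g →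
      NonAbH1.HasSectionOver E.X (Limits.pullback.snd g π) := by
  classical
  have hT := NonAbLib.torsor_mono NonAbLib.fppf_le_fpqc E.isTorsor
  have : IsZariskiLocalAtTarget (@Smooth : MorphismProperty Scheme.{u}) :=
    HasRingHomProperty.instIsZariskiLocalAtTarget _
  have : Smooth E.X.hom := SchTorsor.torsor_property @Smooth hT ‹_›
  have : Surjective E.X.hom := SchTorsor.surjective_hom hT
  let 𝒰 := S.affineCover
  have hloc : ∀ (i : 𝒰.I₀) (p : ↥(𝒰.X i)), ∃ (U : Scheme.{u}) (g : U ⟶ S), Etale g ∧ 𝒰.f i p ∈ Set.range g ∧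
      NonAbH1.HasSectionOver E.X (Limits.pullback.snd g π) := fun i p => by
    let v : Spec (CommRingCat.of ↥(S.affineOpenCover.X i)) ⟶ S := 𝒰.f i
    have : IsOpenImmersion v := inferInstanceAs (IsOpenImmersion (𝒰.f i))
    have : IsFinite (Limits.pullback.snd π v) :=
      MorphismProperty.of_isPullback (P := @IsFinite) (IsPullback.of_hasPullback π v) ‹_›
    obtain ⟨U, e, w, he, ⟨z, hz⟩, hw⟩ := @NonAbLib.exists_etale_section ↥(S.affineOpenCover.X i) _ _ _ (Limits.pullback.snd π v) (by assumption)
      (Limits.pullback.snd E.X.hom (Limits.pullback.fst π v)) inferInstance inferInstance p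
    refine ⟨U, e ≫ v, inferInstance, ⟨z, by rw [Scheme.Hom.comp_apply, hz]; rfl⟩, ?_⟩
    let j : Limits.pullback (e ≫ v) π ⟶ Limits.pullback e (Limits.pullback.snd π v) :=
      Limits.pullback.lift (Limits.pullback.fst _ _)
        (Limits.pullback.lift (Limits.pullback.snd _ _) (Limits.pullback.fst _ _ ≫ e)
          (by rw [Category.assoc, Limits.pullback.condition])) (by rw [Limits.pullback.lift_snd])
    refine ⟨j ≫ w ≫ Limits.pullback.fst _ _, ?_⟩
    rw [Category.assoc, Category.assoc, Limits.pullback.condition, reassoc_of% hw, ← Category.assoc,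
      Limits.pullback.lift_snd, Limits.pullback.lift_fst]
  choose U g hg hrange hsec using hloc
  refine ⟨Presieve.ofArrows (fun q : Σ i, ↥(𝒰.X i) => U q.1 q.2) (fun q => g q.1 q.2), ?_, ?_⟩
  · refine (Scheme.ofArrows_mem_precoverage_iff _).2 ⟨fun x => ?_, fun q => ⟨have := hg q.1 q.2; inferInstance,
      have := hg q.1 q.2; inferInstance⟩⟩
    obtain ⟨p, hp⟩ := 𝒰.covers x
    obtain ⟨z, hz⟩ := hrange (𝒰.idx x) p
    exact ⟨⟨_, p⟩, z, hz.trans hp⟩
  · rintro V h ⟨q⟩
    exact hsec q.1 q.2

end Groth.Agent.S15870
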