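import Groth.Statements.S15872
import Groth.Agent.NonAbLib.UnipExt.ExtAct
import Groth.Agent.NonAbLib.UnipExt.Faithful
import Groth.Agent.NonAbLib.TorsorSch
import Groth.Agent.SchTorsor.Props

set_option autoImplicit false
universe u
open CategoryTheory MonoidalCategory CartesianMonoidalCategory MonObj GrpObj AlgebraicGeometry
open NonAbH1

open CategoryTheory.Limits Groth.Agent.NonAbLib Groth.Agent.NonAbLib.UnipExt

namespace Groth.Agent.S15872

set_option linter.style.haveILetI false

/-- Let S be a locally Noetherian k-scheme, U ⊆ S open with the local rings of S at the points of the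
complement of depth at least 3, and G an affine smooth connected k-group whose geometric fibre has
no non-trivial subtorus. Then fppf torsors under G over U extend to S uniquely up to isomorphism:
every torsor over U is the restriction of one over S, and any two torsors over S restricting to it
are isomorphic. (The published statement is for an arbitrary unipotent k-group, and also for the
sections of every S-gerbe that is étale locally the classifying stack of G; this row is the case of
a smooth connected unipotent group, expressed through the absence of geometric subtori, and states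
the torsor clause only.) -/
theorem result (k : Type u) [Field k]
    (S : Scheme.{u}) [IsLocallyNoetherian S] (s : S ⟶ Spec (CommRingCat.of k)) (U : S.Opens)
    (hdepth : ∀ z : S, z ∉ (U : Set S) → (3 : ℕ∞) ≤ LocCoh.depth (S.presheaf.stalk z) (S.presheaf.stalk z))
    (G : Over (Spec (CommRingCat.of k))) [GrpObj G] [IsAffine G.left] [Smooth G.hom] [ConnectedSpace G.left]
    (hGu : (∀ s : ↥(Spec (CommRingCat.of k)), Red.HasNoSubtorus (AlgebraicClosure ((Spec (CommRingCat.of k)).residueField s)) (Red.geomFibre s G)))
    (E' : NonAbH1.TorsorSch (Red.bc U.ι (Red.bc s G)) Scheme.fppfPrecoverage) :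
    (∃ E : NonAbH1.TorsorSch (Red.bc s G) Scheme.fppfPrecoverage, Nonempty (NonAbH1.EquivIso (E.act.bc U.ι) E'.act)) ∧
    (∀ E₁ E₂ : NonAbH1.TorsorSch (Red.bc s G) Scheme.fppfPrecoverage,
      Nonempty (NonAbH1.EquivIso (E₁.act.bc U.ι) E'.act) → Nonempty (NonAbH1.EquivIso (E₂.act.bc U.ι) E'.act) →
      Nonempty (NonAbH1.EquivIso E₁.act E₂.act)) := by
  haveI : IsAffineHom (Red.bc s G).hom :=
    MorphismProperty.pullback_snd G.hom s (isAffineHom_of_isAffine G.hom)
  haveI : Smooth (Red.bc s G).hom := MorphismProperty.pullback_snd G.hom s inferInstance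
  haveI : IsAffineHom (Red.bc U.ι (Red.bc s G)).hom :=
    MorphismProperty.pullback_snd (Red.bc s G).hom U.ι inferInstance
  haveI : Smooth (Red.bc U.ι (Red.bc s G)).hom :=
    MorphismProperty.pullback_snd (Red.bc s G).hom U.ι inferInstance
  haveI := EtFound.fpqc_isAffineHom.{u}
  have hU : Depth2Outside U := depth2Outside_of_depth U fun z hz => le_trans (by norm_num) (hdepth z hz)
  refine ⟨?_, fun E₁ E₂ ⟨e₁⟩ ⟨e₂⟩ => ?_⟩
  · have h' := torsor_mono fppf_le_fpqc E'.isTorsor
    haveI : IsAffineHom E'.X.hom := SchTorsor.torsor_property @IsAffineHom h' inferInstance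
    haveI : Flat E'.X.hom := SchTorsor.torsor_property @Flat h' inferInstance
    haveI : Surjective E'.X.hom := SchTorsor.surjective_hom h'
    let q : E'.X.left ⟶ S := E'.X.hom ≫ U.ι
    obtain ⟨hF, hS⟩ := flat_surjective_hull q fun V hV =>
      flat_surjective_sections s U hdepth G hGu E'.X E'.act h'.1 hV
    let E : Over S := Over.mk (hull q).π
    haveI : IsAffineHom E.hom := inferInstanceAs (IsAffineHom (hull q).π)
    haveI : Flat E.hom := hF
    haveI : Surjective E.hom := hS
    let e : Red.bc U.ι E ≅ E'.X :=
      Over.isoMk (isPullback_hull q E'.X.hom rfl).isoPullback.symm (isPullback_hull q E'.X.hom rfl).isoPullback_inv_snd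
    obtain ⟨a, ha⟩ := exists_action_extend hU (transport E'.act e)
    have hps : IsPseudoTorsorSch a :=
      isPseudoTorsor_of_bc hU a (by rw [ha]; exact isPseudoTorsor_transport _ e E'.isTorsor.1)
    have hsec : ∀ ⦃T : Scheme.{u}⦄ (f : T ⟶ S), Presieve.singleton E.hom f → HasSectionOver E f := by
      rintro T f ⟨⟩
      exact ⟨𝟙 E.left, Category.id_comp E.hom⟩
    haveI : LocallyOfFinitePresentation E.hom := SchTorsor.torsor_property @LocallyOfFinitePresentation
      (a := a) ⟨hps, _, E.hom.singleton_mem_fpqcPrecoverage, hsec⟩ inferInstance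
    refine ⟨⟨E, a, hps, _, E.hom.singleton_mem_fppfPrecoverage, hsec⟩, ?_⟩
    show Nonempty (EquivIso (a.bc U.ι) E'.act)
    rw [ha]
    exact ⟨equivIso_transport E'.act e⟩
  · have h₁ := torsor_mono fppf_le_fpqc E₁.isTorsor
    have h₂ := torsor_mono fppf_le_fpqc E₂.isTorsor
    haveI : IsAffineHom E₁.X.hom := SchTorsor.torsor_property @IsAffineHom h₁ inferInstance
    haveI : Flat E₁.X.hom := SchTorsor.torsor_property @Flat h₁ inferInstance
    haveI : IsAffineHom E₂.X.hom := SchTorsor.torsor_property @IsAffineHom h₂ inferInstance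
    haveI : Flat E₂.X.hom := SchTorsor.torsor_property @Flat h₂ inferInstance
    refine nonempty_equivIso_of_bc hU E₁.act E₂.act ⟨e₁.iso ≪≫ e₂.iso.symm, ?_⟩
    rw [Iso.trans_hom, Iso.symm_hom, reassoc_of% e₁.comm, MonoidalCategory.whiskerLeft_comp, Category.assoc]
    congr 1
    rw [Iso.comp_inv_eq, Category.assoc, e₂.comm]
    simp [← MonoidalCategory.whiskerLeft_comp_assoc]

end Groth.Agent.S15872
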