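import Groth.Statements.S15875
import Groth.Agent.GrpSchLib.HomFinite
import Groth.Agent.GrpSchLib.KernelPair
import Mathlib.Topology.Spectral.Prespectral

set_option autoImplicit false
set_option linter.style.haveILetI false
universe u
open CategoryTheory MonoidalCategory CartesianMonoidalCategory MonObj GrpObj AlgebraicGeometry
open AGF

namespace Groth.Agent.S15875

/-- A flat surjective homomorphism with quasi-compact kernel is quasi-compact. -/
theorem quasiCompact_of_kernel {k : Type u} [Field k] {G Q N : Over (Spec (CommRingCat.of k))}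
    [GrpObj G] [GrpObj Q] [LocallyOfFiniteType G.hom] [LocallyOfFiniteType Q.hom] (q : G ⟶ Q) [IsMonHom q]
    [Surjective q.left] [Flat q.left] (i : N ⟶ G) (hN : AlgGrp.IsKernel i q) [CompactSpace N.left] :
    QuasiCompact q.left := by
  haveI : IsLocallyNoetherian Q.left := LocallyOfFiniteType.isLocallyNoetherian Q.hom
  haveI : LocallyOfFiniteType q.left := by
    have : LocallyOfFiniteType (q.left ≫ Q.hom) := by rw [Over.w q]; infer_instance
    exact locallyOfFiniteType_of_comp q.left Q.hom
  haveI : LocallyOfFinitePresentation q.left := inferInstance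
  haveI : UniversallyOpen q.left := inferInstance
  haveI : QuasiCompact N.hom := (quasiCompact_iff_compactSpace N.hom).mpr inferInstance
  haveI : QuasiCompact (snd N G).left :=
    inferInstanceAs (QuasiCompact (Limits.pullback.snd N.hom G.hom))
  obtain ⟨p, hp, hps⟩ := Groth.Agent.GrpSchLib.exists_kernelPair_iso i q hN
  haveI : QuasiCompact (Limits.pullback.snd q.left q.left) := by
    rw [show Limits.pullback.snd q.left q.left = inv p ≫ (snd N G).left by rw [← hps, IsIso.inv_hom_id_assoc]]
    infer_instance
  rw [quasiCompact_iff]
  intro V hVo hVc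
  obtain ⟨W, hW, hWV⟩ := IsOpenMap.exists_opens_image_eq_of_prespectralSpace q.left.continuous q.left.isOpenMap
    (fun x _ => q.left.surjective x) hVo hVc
  have key : ⇑q.left ⁻¹' V = ⇑(Limits.pullback.fst q.left q.left) ''
      (⇑(Limits.pullback.snd q.left q.left) ⁻¹' (W : Set G.left)) := by
    ext x
    constructor
    · intro hx
      obtain ⟨w, hw, hwx⟩ : q.left x ∈ ⇑q.left '' (W : Set G.left) := by rw [hWV]; exact hx
      obtain ⟨z, hz1, hz2⟩ := Scheme.Pullback.exists_preimage_pullback x w hwx.symm
      exact ⟨z, by rw [Set.mem_preimage, hz2]; exact hw, hz1⟩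
    · rintro ⟨z, hz, rfl⟩
      rw [Set.mem_preimage, ← hWV]
      refine ⟨_, hz, ?_⟩
      rw [← Scheme.Hom.comp_apply, ← Limits.pullback.condition, Scheme.Hom.comp_apply]
  rw [key]
  exact ((Limits.pullback.snd q.left q.left).isCompact_preimage hW).image
    (Limits.pullback.fst q.left q.left).continuous

/-- Let k'/k be a finite purely inseparable field extension, G a k-group locally of finite type, q :
G_{k'} → Ḡ a faithfully flat homomorphism onto a k'-group Ḡ locally of finite type with
quasi-compact kernel N, and (R, q_R) a Weil restriction of Ḡ to k carrying a group structure for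
which q_R is a homomorphism. Then the comparison morphism i : G → R corresponding to q is
quasi-compact. (The published statement allows any finite extension k'/k and adds that the kernel of
i is quasi-compact as well; the published proof goes through the purely inseparable case of the
kernel of the counit of Weil restriction, so k'/k is taken purely inseparable here.) -/
theorem result (k k' : Type u) [Field k] [Field k'] [Algebra k k']
    [Module.Finite k k'] [IsPurelyInseparable k k']
    (G : Over (Spec (CommRingCat.of k))) [GrpObj G] [LocallyOfFiniteType G.hom]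
    (Gbar : Over (Spec (CommRingCat.of k'))) [GrpObj Gbar] [LocallyOfFiniteType Gbar.hom]
    (q : Red.bc (Spec.map (CommRingCat.ofHom (algebraMap k k'))) G ⟶ Gbar) [IsMonHom q] [Surjective q.left] [Flat q.left]
    (N : Over (Spec (CommRingCat.of k'))) (iN : N ⟶ Red.bc (Spec.map (CommRingCat.ofHom (algebraMap k k'))) G) (hN : AlgGrp.IsKernel iN q) [CompactSpace N.left]
    (R : Over (Spec (CommRingCat.of k))) [GrpObj R] (qR : Red.bc (Spec.map (CommRingCat.ofHom (algebraMap k k'))) R ⟶ Gbar) [IsMonHom qR]
    (hR : WeilRes.IsWeilRes (Spec.map (CommRingCat.ofHom (algebraMap k k'))) Gbar R qR) :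
    QuasiCompact (hR.lift G q).left := by
  let φ := Spec.map (CommRingCat.ofHom (algebraMap k k'))
  haveI : LocallyOfFiniteType φ := by
    rw [HasRingHomProperty.Spec_iff (P := @LocallyOfFiniteType), CommRingCat.hom_ofHom, RingHom.finiteType_algebraMap]
    infer_instance
  haveI : LocallyOfFiniteType (Red.bc φ G).hom :=
    inferInstanceAs (LocallyOfFiniteType (Limits.pullback.snd G.hom φ))
  haveI : QuasiCompact q.left := quasiCompact_of_kernel q iN hN
  set g := hR.lift G q with hg
  have hfac : (Over.pullback φ).map g ≫ qR = q := hR.restr_lift G q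
  haveI : IsSeparated (Red.bc φ R).hom := Groth.Agent.GrpSchLib.HomFinite.isSeparated _
  haveI : IsSeparated qR.left := by
    have : IsSeparated (qR.left ≫ Gbar.hom) := by rw [Over.w qR]; infer_instance
    exact IsSeparated.of_comp qR.left Gbar.hom
  haveI : QuasiCompact ((Over.pullback φ).map g).left := by
    have : QuasiCompact (((Over.pullback φ).map g).left ≫ qR.left) := by
      rw [← Over.comp_left, hfac]; infer_instance
    exact QuasiCompact.of_comp _ qR.left
  have hsq : ((Over.pullback φ).map g).left ≫ Limits.pullback.fst R.hom φ =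
      Limits.pullback.fst G.hom φ ≫ g.left := by
    simp [Over.pullback]
    exact Limits.pullback.lift_fst _ _ _
  haveI : Surjective φ := ⟨fun x => ⟨IsLocalRing.closedPoint k', Subsingleton.elim _ _⟩⟩
  rw [quasiCompact_iff]
  intro V hVo hVc
  have key : ⇑g.left ⁻¹' V = ⇑(Limits.pullback.fst G.hom φ) ''
      (⇑((Over.pullback φ).map g).left ⁻¹' (⇑(Limits.pullback.fst R.hom φ) ⁻¹' V)) := by
    rw [← Set.preimage_comp, show ⇑(Limits.pullback.fst R.hom φ) ∘ ⇑((Over.pullback φ).map g).left =
        ⇑g.left ∘ ⇑(Limits.pullback.fst G.hom φ) from funext fun x => by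
          rw [Function.comp_apply, Function.comp_apply, ← Scheme.Hom.comp_apply, hsq, Scheme.Hom.comp_apply],
      Set.preimage_comp, Set.image_preimage_eq _ (Limits.pullback.fst G.hom φ).surjective]
  rw [key]
  exact (((Over.pullback φ).map g).left.isCompact_preimage
    (U := ⟨_, hVo.preimage (Limits.pullback.fst R.hom φ).continuous⟩)
    ((Limits.pullback.fst R.hom φ).isCompact_preimage (U := ⟨V, hVo⟩) hVc)).image
    (Limits.pullback.fst G.hom φ).continuous

end Groth.Agent.S15875
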