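import Groth.Statements.S15877
import Groth.Agent.Obs28.WRHomog

set_option autoImplicit false
set_option linter.style.haveILetI false
universe u
open CategoryTheory MonoidalCategory CartesianMonoidalCategory MonObj GrpObj AlgebraicGeometry
open AGF
open Groth.Agent

namespace Groth.Agent.S15877

/-- Let k'/k be finite purely inseparable, G a k-group locally of finite type, q : G_{k'} → Ḡ a
faithfully flat homomorphism onto a k'-group locally of finite type with quasi-compact kernel, (R,
q_R) a Weil restriction of Ḡ to k with a group structure making q_R a homomorphism, i : G → R the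
comparison homomorphism corresponding to q, H the closed subgroup of R through which i factors by a
faithfully flat homomorphism, and (Q, q₀) the fppf homogeneous space R/H. Then Q is an affine
scheme. -/
theorem result (k k' : Type u) [Field k] [Field k']
    [Algebra k k'] [Module.Finite k k'] [IsPurelyInseparable k k']
    (G : Over (Spec (CommRingCat.of k))) [GrpObj G] [LocallyOfFiniteType G.hom]
    (Gbar : Over (Spec (CommRingCat.of k'))) [GrpObj Gbar] [LocallyOfFiniteType Gbar.hom]
    (q : Red.bc (Spec.map (CommRingCat.ofHom (algebraMap k k'))) G ⟶ Gbar) [IsMonHom q] [Surjective q.left] [Flat q.left]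
    (N : Over (Spec (CommRingCat.of k'))) (iN : N ⟶ Red.bc (Spec.map (CommRingCat.ofHom (algebraMap k k'))) G) (hN : AlgGrp.IsKernel iN q) [CompactSpace N.left]
    (R : Over (Spec (CommRingCat.of k))) [GrpObj R] (qR : Red.bc (Spec.map (CommRingCat.ofHom (algebraMap k k'))) R ⟶ Gbar) [IsMonHom qR]
    (hR : WeilRes.IsWeilRes (Spec.map (CommRingCat.ofHom (algebraMap k k'))) Gbar R qR)
    (H : Over (Spec (CommRingCat.of k))) [GrpObj H] (j : H ⟶ R) [IsMonHom j] [IsClosedImmersion j.left]
    (p : G ⟶ H) [IsMonHom p] [Surjective p.left] [Flat p.left] (hfac : p ≫ j = hR.lift G q)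
    (Q : Over (Spec (CommRingCat.of k))) (aQ : AlgGrp.Action R Q) (q₀ : 𝟙_ (Over (Spec (CommRingCat.of k))) ⟶ Q)
    (hQ : ChGrp.IsHomog Scheme.fppfPrecoverage j aQ q₀) :
    IsAffine Q.left := by
  let φ := Spec.map (CommRingCat.ofHom (algebraMap k k'))
  haveI : LocallyOfFiniteType R.hom := Obs28.WRKer.locallyOfFiniteType_weilRes hR
  haveI : LocallyOfFiniteType H.hom := by rw [← Over.w j]; infer_instance
  haveI : LocallyOfFinitePresentation H.hom := inferInstance
  haveI : Flat H.hom := inferInstance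
  haveI : Surjective H.hom :=
    ⟨fun x => ⟨η[H].left.base x, by rw [← Scheme.Hom.comp_apply, Over.w η[H]]; rfl⟩⟩
  obtain ⟨hψf, hψs, hψp⟩ := Obs28.WRHomog.fppf_of_isHomog hQ
  let ψ := aQ.orbitMap q₀
  haveI : Flat ψ.left := hψf
  haveI : Surjective ψ.left := hψs
  haveI : LocallyOfFinitePresentation ψ.left := hψp
  haveI : LocallyOfFiniteType Q.hom := by
    haveI : LocallyOfFiniteType (ψ.left ≫ Q.hom) := by rw [Over.w ψ]; infer_instance
    exact SrcDescent.locallyOfFiniteType_of_fppf_comp ψ.left Q.hom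
  haveI : IsFinite φ := Obs28.WRKer.isFinite_fB
  haveI : Surjective φ := ⟨fun x => ⟨IsLocalRing.closedPoint k', Subsingleton.elim _ _⟩⟩
  haveI : Flat φ := inferInstance
  haveI : IsSeparated Gbar.hom := GrpSchLib.HomFinite.isSeparated _
  -- over `k'`
  let ψ' : Red.bc φ R ⟶ Red.bc φ Q := (Over.pullback φ).map ψ
  let j' : Red.bc φ H ⟶ Red.bc φ R := (Over.pullback φ).map j
  haveI : Flat ψ'.left := MorphismProperty.of_isPullback (H84WeilRes.map_isPullback (f := φ) ψ).flip hψf
  haveI : Surjective ψ'.left := MorphismProperty.of_isPullback (H84WeilRes.map_isPullback (f := φ) ψ).flip hψs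
  haveI : IsClosedImmersion j'.left :=
    MorphismProperty.of_isPullback (H84WeilRes.map_isPullback (f := φ) j).flip ‹IsClosedImmersion j.left›
  have hψ' := Obs28.WRHomog.isPullback_bc φ j ψ hQ.2.1
  let a : Red.bc φ G ⟶ Red.bc φ R := (Over.pullback φ).map (hR.lift G q)
  have haj : a = (Over.pullback φ).map p ≫ j' := by
    simp only [a, j', ← hfac, Functor.map_comp]
  have ha : a ≫ qR = q := hR.restr_lift G q
  obtain ⟨K, _, iK, _, _, -, hK⟩ := GrpSchLib.exists_kernel qR
  obtain ⟨hKa, hKf⟩ := Obs28.WRKer.isAffine_kernel hR hK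
  haveI := hKa; haveI := hKf
  obtain ⟨_, _⟩ := Obs28.WRHomog.flat_surjective_kernel_to hK a ha ψ' (by
    intro T x g
    have hw := congrArg (CartesianMonoidalCategory.lift x (g ≫ (Over.pullback φ).map p) ≫ ·) hψ'.w
    have e2 : CartesianMonoidalCategory.lift x (g ≫ (Over.pullback φ).map p) ≫ (Red.bc φ R ◁ j') ≫ μ[Red.bc φ R] =
        x * ((g ≫ (Over.pullback φ).map p) ≫ j') := by
      rw [← Category.assoc, lift_whiskerLeft, ← Hom.mul_def]
    rw [lift_fst_assoc] at hw
    rw [haj, ← Category.assoc]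
    rw [← e2]
    simpa only [Category.assoc] using hw.symm)
  obtain ⟨e, n, he, hkill⟩ := Obs28.WRHomog.exists_pow_kernel hR hK
  haveI := he
  -- over an algebraic closure of `k'`
  let χ : Spec (CommRingCat.of (AlgebraicClosure k')) ⟶ Spec (CommRingCat.of k') :=
    Spec.map (CommRingCat.ofHom (algebraMap k' (AlgebraicClosure k')))
  haveI : Surjective χ := ⟨fun x => ⟨IsLocalRing.closedPoint _, Subsingleton.elim _ _⟩⟩
  haveI : Flat χ := inferInstance
  haveI : QuasiCompact χ := inferInstance
  let X := Red.bc χ (Red.bc φ Q)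
  let j'' : Red.bc χ (Red.bc φ H) ⟶ Red.bc χ (Red.bc φ R) := (Over.pullback χ).map j'
  haveI : IsClosedImmersion j''.left :=
    MorphismProperty.of_isPullback (H84WeilRes.map_isPullback (f := χ) j').flip ‹IsClosedImmersion j'.left›
  let iK'' : Red.bc χ K ⟶ Red.bc χ (Red.bc φ R) := (Over.pullback χ).map iK
  let ψ'' : Red.bc χ (Red.bc φ R) ⟶ X := (Over.pullback χ).map ψ'
  have hc : iK'' ≫ ψ'' = (Over.pullback χ).map (iK ≫ ψ') := ((Over.pullback χ).map_comp _ _).symm
  haveI : Flat (iK'' ≫ ψ'').left := by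
    rw [hc]
    exact MorphismProperty.of_isPullback (H84WeilRes.map_isPullback (f := χ) (iK ≫ ψ')).flip ‹Flat (iK ≫ ψ').left›
  haveI : Surjective (iK'' ≫ ψ'').left := by
    rw [hc]
    exact MorphismProperty.of_isPullback (H84WeilRes.map_isPullback (f := χ) (iK ≫ ψ')).flip
      ‹Surjective (iK ≫ ψ').left›
  haveI : IsAffine (Red.bc χ K).left := inferInstanceAs (IsAffine (Limits.pullback K.hom χ))
  haveI : LocallyOfFiniteType (Red.bc χ K).hom := inferInstanceAs (LocallyOfFiniteType (Limits.pullback.snd K.hom χ))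
  haveI : LocallyOfFiniteType (Red.bc φ Q).hom := inferInstanceAs (LocallyOfFiniteType (Limits.pullback.snd Q.hom φ))
  haveI : LocallyOfFiniteType X.hom :=
    inferInstanceAs (LocallyOfFiniteType (Limits.pullback.snd (Red.bc φ Q).hom χ))
  haveI : ExpChar (AlgebraicClosure k') e :=
    expChar_of_injective_algebraMap (algebraMap k' (AlgebraicClosure k')).injective e
  have hkill'' : (𝟙 (Red.bc χ K) : Red.bc χ K ⟶ Red.bc χ K) ^ e ^ n = 1 := by
    have h1 := congrArg (fun f => (Over.pullback χ).map f) hkill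
    rw [Obs28.WRHomog.map_pow_bc, CategoryTheory.Functor.map_id, CategoryTheory.Functor.map_one] at h1
    exact h1
  have hX : IsAffine X.left := Obs28.Killed.isAffine_of_killed iK'' j'' ψ''
    (Obs28.WRHomog.isPullback_bc χ j' ψ' hψ') e n hkill''
  -- descent
  have := EtFound.fpqc_isAffineHom.{u}
  haveI : IsAffineHom (Limits.pullback.snd (Red.bc φ Q).hom χ) := by
    haveI := hX
    exact inferInstanceAs (IsAffineHom X.hom)
  haveI : IsAffineHom (Red.bc φ Q).hom := MorphismProperty.of_pullback_snd_of_descendsAlong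
    (Q := (@Surjective ⊓ @Flat ⊓ @QuasiCompact : MorphismProperty Scheme.{u}))
    ⟨⟨‹Surjective χ›, ‹Flat χ›⟩, inferInstance⟩ ‹IsAffineHom (Limits.pullback.snd (Red.bc φ Q).hom χ)›
  haveI : IsAffineHom (Limits.pullback.snd Q.hom φ) := inferInstanceAs (IsAffineHom (Red.bc φ Q).hom)
  haveI : IsAffineHom Q.hom := MorphismProperty.of_pullback_snd_of_descendsAlong
    (Q := (@Surjective ⊓ @Flat ⊓ @QuasiCompact : MorphismProperty Scheme.{u}))
    ⟨⟨‹Surjective φ›, ‹Flat φ›⟩, inferInstance⟩ ‹IsAffineHom (Limits.pullback.snd Q.hom φ)›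
  exact isAffine_of_isAffineHom Q.hom

end Groth.Agent.S15877
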