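import Groth.Statements.S15878
import Groth.Agent.Obs28.WRQuot

set_option autoImplicit false
set_option linter.style.haveILetI false
universe u
open CategoryTheory MonoidalCategory CartesianMonoidalCategory MonObj GrpObj AlgebraicGeometry
open AGF
open Groth.Agent

namespace Groth.Agent.S15878

/-- With k'/k finite purely inseparable, G a k-group locally of finite type, q : G_{k'} → Ḡ a faithfully
flat homomorphism with quasi-compact kernel onto a commutative k'-group locally of finite type, (R,
q_R) a Weil restriction of Ḡ to k with q_R a homomorphism, H the image of the comparison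
homomorphism i : G → R (H a closed subgroup of R through which i factors by a faithfully flat
homomorphism), and π : R → Q the fppf quotient group of R by H: Q is affine and its geometric fibre
has no non-trivial subtorus. (The published statement says that Q is a commutative unipotent
k-group; the absence of geometric subtori is the weaker property recorded here, and commutativity is
inherited from R.) -/
theorem result (k k' : Type u) [Field k] [Field k']
    [Algebra k k'] [Module.Finite k k'] [IsPurelyInseparable k k']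
    (G : Over (Spec (CommRingCat.of k))) [GrpObj G] [LocallyOfFiniteType G.hom]
    (Gbar : Over (Spec (CommRingCat.of k'))) [GrpObj Gbar] [LocallyOfFiniteType Gbar.hom]
    (q : Red.bc (Spec.map (CommRingCat.ofHom (algebraMap k k'))) G ⟶ Gbar) [IsMonHom q] [Surjective q.left] [Flat q.left]
    (N : Over (Spec (CommRingCat.of k'))) (iN : N ⟶ Red.bc (Spec.map (CommRingCat.ofHom (algebraMap k k'))) G) (hN : AlgGrp.IsKernel iN q) [CompactSpace N.left]
    (R : Over (Spec (CommRingCat.of k))) [GrpObj R] (qR : Red.bc (Spec.map (CommRingCat.ofHom (algebraMap k k'))) R ⟶ Gbar) [IsMonHom qR]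
    (hR : WeilRes.IsWeilRes (Spec.map (CommRingCat.ofHom (algebraMap k k'))) Gbar R qR)
    (H : Over (Spec (CommRingCat.of k))) [GrpObj H] (j : H ⟶ R) [IsMonHom j] [IsClosedImmersion j.left]
    (p : G ⟶ H) [IsMonHom p] [Surjective p.left] [Flat p.left] (hfac : p ≫ j = hR.lift G q)
    [IsCommMonObj Gbar]
    (Q : Over (Spec (CommRingCat.of k))) [GrpObj Q] (π : R ⟶ Q) [IsMonHom π] (hQ : RedSub.IsQuotient j π) :
    IsAffine Q.left ∧ (∀ s : ↥(Spec (CommRingCat.of k)), Red.HasNoSubtorus (AlgebraicClosure ((Spec (CommRingCat.of k)).residueField s)) (Red.geomFibre s Q)) := by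
  let φ := Spec.map (CommRingCat.ofHom (algebraMap k k'))
  have hπs : Surjective π.left := hQ.1
  have hπf : Flat π.left := hQ.2.1
  have hπp : LocallyOfFinitePresentation π.left := hQ.2.2.1
  haveI := hπs; haveI := hπf; haveI := hπp
  haveI : LocallyOfFiniteType R.hom := Obs28.WRKer.locallyOfFiniteType_weilRes hR
  haveI : IsFinite φ := Obs28.WRKer.isFinite_fB
  haveI : Surjective φ := ⟨fun x => ⟨IsLocalRing.closedPoint k', Subsingleton.elim _ _⟩⟩
  haveI : Flat φ := by
    rw [Flat.SpecMap_iff]
    show (algebraMap k k').Flat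
    rw [RingHom.flat_algebraMap_iff]
    infer_instance
  -- the image of `G` dies in `Q`
  have hj : j ≫ π = 1 := by
    have h1 := congrArg (CartesianMonoidalCategory.lift (1 : H ⟶ R) (𝟙 H) ≫ ·) hQ.2.2.2.w
    rw [lift_fst_assoc, ← Category.assoc] at h1
    have h2 : CartesianMonoidalCategory.lift (1 : H ⟶ R) (𝟙 H) ≫ (R ◁ j) ≫ μ[R] = j := by
      rw [← Category.assoc, lift_whiskerLeft, Category.id_comp, ← Hom.mul_def, _root_.one_mul]
    simp only [MonObj.one_comp, Category.assoc] at h1
    rw [reassoc_of% h2] at h1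
    exact h1.symm
  let a : Red.bc φ G ⟶ Red.bc φ R := (Over.pullback φ).map (hR.lift G q)
  have ha : a ≫ qR = q := hR.restr_lift G q
  have haπ : a ≫ (Over.pullback φ).map π = 1 := by
    rw [← Functor.map_comp, ← hfac, Category.assoc, hj, MonObj.comp_one, CategoryTheory.Functor.map_one]
  haveI : IsSeparated Gbar.hom := GrpSchLib.HomFinite.isSeparated _
  obtain ⟨K, _, iK, _, _, -, hK⟩ := GrpSchLib.exists_kernel qR
  obtain ⟨hKa, hKf⟩ := Obs28.WRKer.isAffine_kernel hR hK
  haveI := hKa; haveI := hKf
  let π' : Red.bc φ R ⟶ Red.bc φ Q := (Over.pullback φ).map π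
  haveI : Flat π'.left := MorphismProperty.of_isPullback (H84WeilRes.map_isPullback (f := φ) π).flip hπf
  haveI : Surjective π'.left := MorphismProperty.of_isPullback (H84WeilRes.map_isPullback (f := φ) π).flip hπs
  obtain ⟨_, _⟩ := Obs28.WRKer.flat_surjective_kernel_to hK a ha π' haπ
  -- `Q` is quasi-compact and of finite type
  haveI : QuasiCompact Q.hom := by
    haveI : CompactSpace ↥(Red.bc φ Q).left :=
      (iK ≫ π').left.surjective.compactSpace (iK ≫ π').left.continuous
    haveI : CompactSpace ↥Q.left := by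
      haveI : CompactSpace ↥(Limits.pullback Q.hom φ) := ‹CompactSpace ↥(Red.bc φ Q).left›
      haveI : Surjective (Limits.pullback.fst Q.hom φ) := inferInstance
      exact (Limits.pullback.fst Q.hom φ).surjective.compactSpace (Limits.pullback.fst Q.hom φ).continuous
    exact (quasiCompact_iff_compactSpace Q.hom).mpr inferInstance
  haveI : IsSeparated Q.hom := GrpSchLib.HomFinite.isSeparated _
  haveI : IsSeparated R.hom := GrpSchLib.HomFinite.isSeparated _
  haveI : CompactSpace ↥Q.left := (quasiCompact_iff_compactSpace Q.hom).mp inferInstance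
  haveI : LocallyOfFiniteType Q.hom := by
    obtain ⟨W₀, hWc, hW⟩ := IsOpenMap.exists_opens_image_eq_of_prespectralSpace π.left.continuous π.left.isOpenMap
      (fun x _ => π.left.surjective x) isOpen_univ isCompact_univ
    let W : R.left.Opens := W₀
    haveI : CompactSpace ↥(W : Scheme.{u}) := isCompact_iff_compactSpace.mp hWc
    let p := W.ι ≫ π.left
    haveI : Surjective p := ⟨fun y => by
      obtain ⟨x, hx, hxy⟩ : y ∈ ⇑π.left '' (W : Set R.left) := by rw [hW]; trivial
      exact ⟨⟨x, hx⟩, hxy⟩⟩
    haveI : QuasiCompact (p ≫ Q.hom) := (quasiCompact_iff_compactSpace _).mpr inferInstance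
    haveI : QuasiCompact p := QuasiCompact.of_comp p Q.hom
    haveI : QuasiSeparated p := by
      have : QuasiSeparated (p ≫ Q.hom) := by
        rw [Category.assoc, Over.w π]; infer_instance
      exact QuasiSeparated.of_comp p Q.hom
    haveI : LocallyOfFiniteType (p ≫ Q.hom) := by
      rw [Category.assoc, Over.w π]; infer_instance
    exact ((S4091.result p Q.hom).1 ⟨inferInstance, inferInstance⟩).1
  haveI : LocallyOfFiniteType (Red.bc φ Q).hom := inferInstanceAs (LocallyOfFiniteType (Limits.pullback.snd Q.hom φ))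
  haveI : QuasiCompact (Red.bc φ Q).hom := inferInstanceAs (QuasiCompact (Limits.pullback.snd Q.hom φ))
  have hQ' : IsAffine (Red.bc φ Q).left := GrpSchLib.isAffine_of_quotient (iK ≫ π')
  refine ⟨?_, ?_⟩
  · haveI : IsAffineHom (Limits.pullback.snd Q.hom φ) := by
      haveI := hQ'
      exact inferInstanceAs (IsAffineHom (Red.bc φ Q).hom)
    have := EtFound.fpqc_isAffineHom.{u}
    haveI : IsAffineHom Q.hom := MorphismProperty.of_pullback_snd_of_descendsAlong
      (Q := (@Surjective ⊓ @Flat ⊓ @QuasiCompact : MorphismProperty Scheme.{u}))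
      ⟨⟨‹Surjective φ›, ‹Flat φ›⟩, inferInstance⟩ ‹_›
    exact isAffine_of_isAffineHom Q.hom
  · obtain ⟨N, hN, hpow⟩ := Obs28.WRKer.exists_pow_kernel hR hK
    refine fun s => Obs28.WRKer.hasNoSubtorus_of_pow hN ?_ s
    haveI : CompactSpace ↥K.left := inferInstance
    haveI : QuasiCompact (iK ≫ π').left := by
      haveI : QuasiCompact ((iK ≫ π').left ≫ (Red.bc φ Q).hom) := by
        rw [Over.w (iK ≫ π')]; infer_instance
      exact QuasiCompact.of_comp _ (Red.bc φ Q).hom
    haveI : Epi (iK ≫ π').left := Flat.epi_of_flat_of_surjective _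
    haveI : Epi (iK ≫ π') := (Over.forget _).epi_of_epi_map (inferInstanceAs (Epi (iK ≫ π').left))
    have h1 : (𝟙 (Red.bc φ Q) : Red.bc φ Q ⟶ Red.bc φ Q) ^ N = 1 := by
      rw [← cancel_epi (iK ≫ π'), MonObj.comp_pow, Category.comp_id, MonObj.comp_one,
        ← Category.id_comp (iK ≫ π'), ← MonObj.pow_comp, hpow, MonObj.one_comp]
    have h2 : (Over.pullback φ).map ((𝟙 Q : Q ⟶ Q) ^ N) = (Over.pullback φ).map (1 : Q ⟶ Q) := by
      rw [Obs28.WRKer.map_pow', CategoryTheory.Functor.map_id, h1, CategoryTheory.Functor.map_one]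
    haveI : Epi (Limits.pullback.fst Q.hom φ) := Flat.epi_of_flat_of_surjective _
    refine Over.OverMorphism.ext ((cancel_epi (Limits.pullback.fst Q.hom φ)).mp ?_)
    rw [← H84WeilRes.map_left_fst, ← H84WeilRes.map_left_fst, h2]

end Groth.Agent.S15878
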