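import Groth.Statements.S15881
import Groth.Agent.NonAbLib.GlueHom
import Groth.Agent.NonAbLib.TorsorSch
import Groth.Agent.SchTorsor.Props
import Groth.Agent.ConsPropLib.QuasiAffine

set_option autoImplicit false
universe u
open CategoryTheory MonoidalCategory CartesianMonoidalCategory MonObj GrpObj AlgebraicGeometry
open NonAbH1

namespace Groth.Agent.S15881

open CategoryTheory.Limits

section

variable {A A' : Type u} [CommRing A] [CommRing A'] (φ : A →+* A') (t : A)

local notation "uA" => Spec.map (CommRingCat.ofHom φ)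
local notation "ut" => Spec.map (CommRingCat.ofHom (algebraMap A (Localization.Away t)))

theorem glue_over_unique (hG : NonAbLib.GlueSetup φ t) {U V : Over (Spec (CommRingCat.of A))} [Flat U.hom]
    [V.left.IsQuasiAffine] {f g : U ⟶ V}
    (e₁ : (Over.pullback uA).map f = (Over.pullback uA).map g)
    (e₂ : (Over.pullback ut).map f = (Over.pullback ut).map g) : f = g := by
  let := φ.toAlgebra
  refine Over.OverMorphism.ext (NonAbLib.glue_unique_scheme (t := t) (A' := A') hG U.hom V.hom (Over.w f) (Over.w g) ?_ ?_)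
  · exact (ActBC.pullback_map_left_fst uA f).symm.trans
      ((congrArg (fun m => m.left ≫ pullback.fst V.hom uA) e₁).trans (ActBC.pullback_map_left_fst uA g))
  · exact (ActBC.pullback_map_left_fst ut f).symm.trans
      ((congrArg (fun m => m.left ≫ pullback.fst V.hom ut) e₂).trans (ActBC.pullback_map_left_fst ut g))

theorem glue_over_exists (hG : NonAbLib.GlueSetup φ t) {U V : Over (Spec (CommRingCat.of A))} [Flat U.hom]
    [V.left.IsQuasiAffine]
    (h : Spec.map (CommRingCat.ofHom (Localization.awayMap φ t)) ≫ ut =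
      Spec.map (CommRingCat.ofHom (algebraMap A' (Localization.Away (φ t)))) ≫ uA)
    (a : Red.bc uA U ⟶ Red.bc uA V) (c : Red.bc ut U ⟶ Red.bc ut V)
    (hagree : (Over.pullback (Spec.map (CommRingCat.ofHom (Localization.awayMap φ t)))).map c ≫
        (ActBC.bcCompIso (Spec.map (CommRingCat.ofHom (Localization.awayMap φ t))) ut V h).hom =
      (ActBC.bcCompIso (Spec.map (CommRingCat.ofHom (Localization.awayMap φ t))) ut U h).hom ≫
        (ActBC.bcCompIso (Spec.map (CommRingCat.ofHom (algebraMap A' (Localization.Away (φ t))))) uA U rfl).inv ≫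
        (Over.pullback (Spec.map (CommRingCat.ofHom (algebraMap A' (Localization.Away (φ t)))))).map a ≫
        (ActBC.bcCompIso (Spec.map (CommRingCat.ofHom (algebraMap A' (Localization.Away (φ t))))) uA V rfl).hom) :
    ∃ f : U ⟶ V, (Over.pullback uA).map f = a ∧ (Over.pullback ut).map f = c := by
  let := φ.toAlgebra
  let w := Spec.map (CommRingCat.ofHom (Localization.awayMap φ t))
  let v := Spec.map (CommRingCat.ofHom (algebraMap A' (Localization.Away (φ t))))
  have hpo : CategoryTheory.IsPushout (CommRingCat.ofHom φ) (CommRingCat.ofHom (algebraMap A (Localization.Away t)))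
      (CommRingCat.ofHom (algebraMap A' (Localization.Away (φ t))))
      (CommRingCat.ofHom (Localization.awayMap φ t)) := by
    have : IsLocalization ((Submonoid.powers t).map φ) (Localization.Away (φ t)) := by
      rw [Submonoid.map_powers]; infer_instance
    exact CommRingCat.isPushout_of_isLocalization φ (Localization.awayMap φ t) (IsLocalization.map_comp _)
      (Submonoid.powers t)
  have hpb : IsPullback v w uA ut := isPullback_SpecMap_of_isPushout _ _ _ _ hpo
  have ha : (a.left ≫ pullback.fst V.hom uA) ≫ V.hom = pullback.fst U.hom uA ≫ U.hom := by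
    rw [Category.assoc, pullback.condition, pullback.condition, ← Category.assoc]
    exact congrArg (· ≫ uA) (Over.w a)
  have hc : (c.left ≫ pullback.fst V.hom ut) ≫ V.hom = pullback.fst U.hom ut ≫ U.hom := by
    rw [Category.assoc, pullback.condition, pullback.condition, ← Category.assoc]
    exact congrArg (· ≫ ut) (Over.w c)
  obtain ⟨g, hgw, hga, hgc⟩ := NonAbLib.glue_exists_scheme (t := t) (A' := A') hG U.hom V.hom
    (a.left ≫ pullback.fst V.hom uA) (c.left ≫ pullback.fst V.hom ut) ha hc fun T x y hxy => by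
      let j := hpb.lift (x ≫ pullback.snd U.hom uA) (y ≫ pullback.snd U.hom ut) (by
        rw [Category.assoc, Category.assoc]
        refine (congrArg (x ≫ ·) pullback.condition.symm).trans (Eq.trans ?_ (congrArg (y ≫ ·) pullback.condition))
        exact (Category.assoc _ _ _).symm.trans ((congrArg (· ≫ U.hom) hxy).trans (Category.assoc _ _ _)))
      have hjv : j ≫ v = x ≫ pullback.snd U.hom uA := hpb.lift_fst _ _ _
      have hjw : j ≫ w = y ≫ pullback.snd U.hom ut := hpb.lift_snd _ _ _
      let zw : T ⟶ (Red.bc w (Red.bc ut U)).left := pullback.lift y j hjw.symm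
      let zv : T ⟶ (Red.bc v (Red.bc uA U)).left := pullback.lift x j hjv.symm
      have hz : zw ≫ ((ActBC.bcCompIso w ut U h).hom ≫ (ActBC.bcCompIso v uA U rfl).inv).left = zv := by
        have hz' : zw ≫ (ActBC.bcCompIso w ut U h).hom.left = zv ≫ (ActBC.bcCompIso v uA U rfl).hom.left := by
          refine pullback.hom_ext ?_ ?_
          · rw [Category.assoc, Category.assoc, ActBC.bcCompIso_hom_left_fst, ActBC.bcCompIso_hom_left_fst]
            exact (pullback.lift_fst_assoc _ _ _ _).trans (hxy.symm.trans (pullback.lift_fst_assoc _ _ _ _).symm)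
          · rw [Category.assoc, Category.assoc, ActBC.bcCompIso_hom_left_snd, ActBC.bcCompIso_hom_left_snd]
            exact (pullback.lift_snd _ _ _).trans (pullback.lift_snd _ _ _).symm
        rw [Over.comp_left, ← Category.assoc, hz', Category.assoc, ← Over.comp_left, Iso.hom_inv_id]
        exact Category.comp_id zv
      have := congrArg (fun m => zw ≫ m.left ≫ pullback.fst V.hom (v ≫ uA)) hagree
      have e1 : zw ≫ ((Over.pullback w).map c ≫ (ActBC.bcCompIso w ut V h).hom).left ≫ pullback.fst V.hom (v ≫ uA) =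
          y ≫ c.left ≫ pullback.fst V.hom ut := by
        rw [Over.comp_left, Category.assoc]
        refine (congrArg (fun m => zw ≫ ((Over.pullback w).map c).left ≫ m) (ActBC.bcCompIso_hom_left_fst w ut V h)).trans ?_
        rw [ActBC.pullback_map_left_fst_assoc]
        exact pullback.lift_fst_assoc _ _ _ _
      have e2 : zw ≫ ((ActBC.bcCompIso w ut U h).hom ≫ (ActBC.bcCompIso v uA U rfl).inv ≫
          (Over.pullback v).map a ≫ (ActBC.bcCompIso v uA V rfl).hom).left ≫ pullback.fst V.hom (v ≫ uA) =
          x ≫ a.left ≫ pullback.fst V.hom uA := by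
        rw [← Category.assoc (ActBC.bcCompIso w ut U h).hom, Over.comp_left, Category.assoc, reassoc_of% hz,
          Over.comp_left, Category.assoc]
        refine (congrArg (fun m => zv ≫ ((Over.pullback v).map a).left ≫ m) (ActBC.bcCompIso_hom_left_fst v uA V rfl)).trans ?_
        rw [ActBC.pullback_map_left_fst_assoc]
        exact pullback.lift_fst_assoc _ _ _ _
      exact e2.symm.trans (this.symm.trans e1)
  refine ⟨Over.homMk g hgw, Over.OverMorphism.ext (pullback.hom_ext ?_ ?_),
    Over.OverMorphism.ext (pullback.hom_ext ?_ ?_)⟩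
  · exact (ActBC.pullback_map_left_fst uA _).trans hga
  · exact (pullback.lift_snd _ _ _).trans (Over.w a).symm
  · exact (ActBC.pullback_map_left_fst ut _).trans hgc
  · exact (pullback.lift_snd _ _ _).trans (Over.w c).symm

end

theorem map_comm {A : Type u} [CommRing A] {G X X' : Over (Spec (CommRingCat.of A))} [GrpObj G]
    {a : AlgGrp.Action G X} {a' : AlgGrp.Action G X'} {S' : Scheme.{u}} (u : S' ⟶ Spec (CommRingCat.of A))
    (e : NonAbH1.EquivIso (a.bc u) (a'.bc u)) {f : X ⟶ X'} (hf : (Over.pullback u).map f = e.iso.hom) :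
    (Over.pullback u).map (a.act ≫ f) = (Over.pullback u).map ((G ◁ f) ≫ a'.act) := by
  have := e.comm
  rw [AlgGrp.Action.bc_act, AlgGrp.Action.bc_act, ← hf, Category.assoc,
    Functor.LaxMonoidal.μ_natural_right_assoc, cancel_epi, ← Functor.map_comp, ← Functor.map_comp] at this
  exact this

theorem isQuasiAffine_torsor {A : Type u} [CommRing A] {G : Over (Spec (CommRingCat.of A))} [GrpObj G]
    [G.left.IsQuasiAffine] {X : Over (Spec (CommRingCat.of A))} {a : AlgGrp.Action G X}
    (ha : NonAbH1.IsTorsorFor Scheme.fppfPrecoverage a) : X.left.IsQuasiAffine := by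
  have := ConsPropLib.fpqc_qa.{u}
  exact (ConsPropLib.qa_iff_of_isAffine X.hom).1 (SchTorsor.torsor_property ConsPropLib.qa
    (NonAbLib.torsor_mono NonAbLib.fppf_le_fpqc ha) ((ConsPropLib.qa_iff_of_isAffine G.hom).2 inferInstance))

/-- With φ : A → A' and t as in the glueing set-up (A/t^m → A'/t^m bijective for all m, φ bijective on
t-power torsion), G a flat A-group scheme with quasi-affine underlying scheme, and P, P' fppf
G-torsors over A: an equivariant isomorphism of the base changes to A[1/t] and one of the base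
changes to A', which agree over A'[1/t] under the canonical identifications of iterated base
changes, are the base changes of a unique equivariant isomorphism P ≅ P' over A. (The hypothesis h
is the evident commutativity of the square of base rings.) -/
theorem result (A A' : Type u) [CommRing A] [CommRing A']
    (φ : A →+* A') (t : A)
    (hq : ∀ m : ℕ, Function.Bijective (Ideal.quotientMap (Ideal.map φ (Ideal.span {t} ^ m)) φ Ideal.le_comap_map))
    (htor : ∀ a' : A', (∃ m : ℕ, φ t ^ m * a' = 0) → ∃! a : A, (∃ m : ℕ, t ^ m * a = 0) ∧ φ a = a')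
    (h : Spec.map (CommRingCat.ofHom (Localization.awayMap φ t)) ≫
        Spec.map (CommRingCat.ofHom (algebraMap A (Localization.Away t))) =
      Spec.map (CommRingCat.ofHom (algebraMap A' (Localization.Away (φ t)))) ≫ Spec.map (CommRingCat.ofHom φ))
    (G : Over (Spec (CommRingCat.of A))) [GrpObj G] [Flat G.hom] [G.left.IsQuasiAffine]
    (P P' : NonAbH1.TorsorSch G Scheme.fppfPrecoverage)
    (αU : NonAbH1.EquivIso (P.act.bc (Spec.map (CommRingCat.ofHom (algebraMap A (Localization.Away t))))) (P'.act.bc (Spec.map (CommRingCat.ofHom (algebraMap A (Localization.Away t))))))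
    (α' : NonAbH1.EquivIso (P.act.bc (Spec.map (CommRingCat.ofHom φ))) (P'.act.bc (Spec.map (CommRingCat.ofHom φ))))
    (hagree : (NonAbH1.EquivIso.bc (Spec.map (CommRingCat.ofHom (Localization.awayMap φ t))) αU).iso.hom ≫ (ActBC.bcCompIso (Spec.map (CommRingCat.ofHom (Localization.awayMap φ t))) (Spec.map (CommRingCat.ofHom (algebraMap A (Localization.Away t)))) P'.X h).hom =
      (ActBC.bcCompIso (Spec.map (CommRingCat.ofHom (Localization.awayMap φ t))) (Spec.map (CommRingCat.ofHom (algebraMap A (Localization.Away t)))) P.X h).hom ≫ (ActBC.bcCompIso (Spec.map (CommRingCat.ofHom (algebraMap A' (Localization.Away (φ t))))) (Spec.map (CommRingCat.ofHom φ)) P.X rfl).inv ≫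
        (NonAbH1.EquivIso.bc (Spec.map (CommRingCat.ofHom (algebraMap A' (Localization.Away (φ t))))) α').iso.hom ≫ (ActBC.bcCompIso (Spec.map (CommRingCat.ofHom (algebraMap A' (Localization.Away (φ t))))) (Spec.map (CommRingCat.ofHom φ)) P'.X rfl).hom) :
    ∃! α : NonAbH1.EquivIso P.act P'.act,
      (NonAbH1.EquivIso.bc (Spec.map (CommRingCat.ofHom (algebraMap A (Localization.Away t)))) α).iso = αU.iso ∧ (NonAbH1.EquivIso.bc (Spec.map (CommRingCat.ofHom φ)) α).iso = α'.iso := by
  have hS : NonAbLib.GlueSetup φ t := ⟨hq, htor⟩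
  have : P.X.left.IsQuasiAffine := isQuasiAffine_torsor P.isTorsor
  have : P'.X.left.IsQuasiAffine := isQuasiAffine_torsor P'.isTorsor
  have : IsZariskiLocalAtTarget (@Flat : MorphismProperty Scheme.{u}) := HasRingHomProperty.instIsZariskiLocalAtTarget _
  have : Flat P.X.hom := SchTorsor.torsor_property @Flat (NonAbLib.torsor_mono NonAbLib.fppf_le_fpqc P.isTorsor) inferInstance
  have : Flat P'.X.hom := SchTorsor.torsor_property @Flat (NonAbLib.torsor_mono NonAbLib.fppf_le_fpqc P'.isTorsor) inferInstance
  let vA := Spec.map (CommRingCat.ofHom φ)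
  let vt := Spec.map (CommRingCat.ofHom (algebraMap A (Localization.Away t)))
  let w := Spec.map (CommRingCat.ofHom (Localization.awayMap φ t))
  let v := Spec.map (CommRingCat.ofHom (algebraMap A' (Localization.Away (φ t))))
  obtain ⟨f, hfA, hft⟩ := glue_over_exists φ t hS (U := P.X) (V := P'.X) h α'.iso.hom αU.iso.hom hagree
  obtain ⟨g, hgA, hgt⟩ := glue_over_exists φ t hS (U := P'.X) (V := P.X) h α'.iso.inv αU.iso.inv (by
    let Iu := (Over.pullback w).mapIso αU.iso
    let Ia := (Over.pullback v).mapIso α'.iso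
    let C := (ActBC.bcCompIso w vt P.X h).symm ≪≫ Iu ≪≫ ActBC.bcCompIso w vt P'.X h
    let D := (ActBC.bcCompIso v vA P.X rfl).symm ≪≫ Ia ≪≫ ActBC.bcCompIso v vA P'.X rfl
    have hCD : C.hom = D.hom := (Iso.inv_comp_eq _).2 hagree
    have hCD' : C.inv = D.inv := congrArg Iso.inv (Iso.ext hCD)
    have h2 := congrArg ((ActBC.bcCompIso w vt P'.X h).hom ≫ ·) hCD'
    simp only [C, D, Iso.trans_inv, Iso.symm_inv, Category.assoc, Iso.hom_inv_id_assoc] at h2
    exact h2)
  have hfg : f ≫ g = 𝟙 P.X := glue_over_unique φ t hS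
    (by rw [Functor.map_comp, hfA, hgA, Iso.hom_inv_id]; exact (CategoryTheory.Functor.map_id _ _).symm)
    (by rw [Functor.map_comp, hft, hgt, Iso.hom_inv_id]; exact (CategoryTheory.Functor.map_id _ _).symm)
  have hgf : g ≫ f = 𝟙 P'.X := glue_over_unique φ t hS
    (by rw [Functor.map_comp, hfA, hgA, Iso.inv_hom_id]; exact (CategoryTheory.Functor.map_id _ _).symm)
    (by rw [Functor.map_comp, hft, hgt, Iso.inv_hom_id]; exact (CategoryTheory.Functor.map_id _ _).symm)
  have : Flat (G ⊗ P.X).hom := inferInstanceAs (Flat (Limits.pullback.fst G.hom P.X.hom ≫ G.hom))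
  have hcomm : P.act.act ≫ f = (G ◁ f) ≫ P'.act.act :=
    glue_over_unique φ t hS (map_comm vA α' hfA) (map_comm vt αU hft)
  refine ⟨⟨⟨f, g, hfg, hgf⟩, hcomm⟩, ⟨Iso.ext hft, Iso.ext hfA⟩, ?_⟩
  rintro ⟨β, hβ⟩ ⟨hβt, hβA⟩
  have e : β.hom = f := glue_over_unique φ t hS ((congrArg Iso.hom hβA).trans hfA.symm)
    ((congrArg Iso.hom hβt).trans hft.symm)
  have e' : β = ⟨f, g, hfg, hgf⟩ := Iso.ext e
  subst e'
  rfl

end Groth.Agent.S15881
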