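import Groth.Statements.S1592
import Groth.Agent.NodalLib.Family

set_option autoImplicit false
set_option linter.style.haveILetI false
set_option backward.isDefEq.respectTransparency false
set_option backward.isDefEq.respectTransparency.types false
universe u
open CategoryTheory CategoryTheory.Limits AlgebraicGeometry
open Curves

namespace Groth.Agent.S1592

/-- If f : X → S is at-worst-nodal of relative dimension one and g : Y → X is étale, then g ≫ f is
at-worst-nodal of relative dimension one. -/
theorem result {X Y S : Scheme.{u}} (f : X ⟶ S) (hf : Curv2.IsNodalFamily f) (g : Y ⟶ X) [Etale g] :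
    Curv2.IsNodalFamily (g ≫ f) := by
  obtain ⟨h1, h2, h3⟩ := (Groth.Agent.NodalLib.isNodalFamily_iff f).1 hf
  haveI := h1
  haveI := h2
  exact (Groth.Agent.NodalLib.isNodalFamily_iff _).2
    ⟨inferInstance, inferInstance, fun y => (Groth.Agent.NodalLib.ptProp_qPt.precomp g f y).2 (h3 _)⟩

end Groth.Agent.S1592
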