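import Groth.Statements.S15923
import Groth.Agent.S10831
import Groth.Agent.S8914
import Groth.Agent.MeroX.EffCartier
import Groth.Agent.RegLoc6.Basic
import Groth.Agent.SmoothReg.Scheme
import Groth.Agent.CurveCohLib.SubBundle
import Groth.Agent.Lib.CurveSection
import Groth.Agent.NodalLib.Main

set_option autoImplicit false
set_option linter.style.haveILetI false
set_option backward.isDefEq.respectTransparency false
set_option backward.isDefEq.respectTransparency.types false
universe u
open CategoryTheory CategoryTheory.Limits AlgebraicGeometry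
open Curves Groth.Agent

namespace Groth.Agent.S15923

/-- Let k be an algebraically closed field, X a curve over k (proper over k, reduced, connected, every
irreducible component of dimension one) and P a closed point of X, with m_P the ideal sheaf of the
reduced point P as an O_X-module. Then m_P is invertible (locally on X isomorphic to the structure
sheaf) exactly when some open neighbourhood of P is smooth over k. -/
theorem result (k : Type u) [Field k] [IsAlgClosed k] (X : Scheme.{u}) [X.Over (Spec (CommRingCat.of k))] [IsProper (X ↘ (Spec (CommRingCat.of k)))] [IsReduced X] [ConnectedSpace X]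
    (hequi : ∀ Z ∈ irreducibleComponents (X : Type u), topologicalKrullDim Z = 1)
    (P : X) (hP : IsClosed ({P} : Set X)) :
    PicF.IsInvertible (ClSub.idealMod (Scheme.IdealSheafData.vanishingIdeal ⟨{P}, hP⟩)) ↔
      ∃ U : X.Opens, P ∈ U ∧ Smooth (U.ι ≫ (X ↘ (Spec (CommRingCat.of k)))) := by
  haveI := CurveCohLib.isNoetherian_of_proper (k := k) (X := X)
  have hdimX : topologicalKrullDim X ≤ 1 := by
    rw [S10831.result]
    exact iSup₂_le fun Z hZ => (hequi Z hZ).le
  set I := Scheme.IdealSheafData.vanishingIdeal (⟨{P}, hP⟩ : TopologicalSpace.Closeds X) with hIdef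
  rw [S8914.result I]
  have hloc : ∀ (U : X.affineOpens) (hx : P ∈ (U : X.Opens)),
      (I.ideal U).map (X.presheaf.germ U P hx).hom = IsLocalRing.maximalIdeal (X.presheaf.stalk P) := by
    intro U hx
    let q : (U.1 : X.Opens) := ⟨P, hx⟩
    have hI : I.ideal U = (U.2.primeIdealOf q).asIdeal := by
      rw [hIdef, Scheme.IdealSheafData.vanishingIdeal_ideal, show
        U.2.fromSpec ⁻¹' ((⟨{P}, hP⟩ : TopologicalSpace.Closeds X) : Set X) = {U.2.primeIdealOf q} from
        Set.ext fun r => ⟨fun h => U.2.fromSpec.isOpenEmbedding.injective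
            ((show U.2.fromSpec r = P from h).trans (U.2.fromSpec_primeIdealOf q).symm),
          fun h => by
            show U.2.fromSpec r = P
            rw [Set.mem_singleton_iff.1 h]
            exact U.2.fromSpec_primeIdealOf q⟩,
        PrimeSpectrum.vanishingIdeal_singleton]
    letI : Algebra Γ(X, U.1) (X.presheaf.stalk P) := TopCat.Presheaf.algebra_section_stalk X.presheaf q
    haveI := U.2.isLocalization_stalk q
    rw [hI]
    exact IsLocalization.AtPrime.map_eq_maximalIdeal (U.2.primeIdealOf q).asIdeal (X.presheaf.stalk P)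
  have hnf : ¬ IsField (X.presheaf.stalk P) := fun hF => by
    obtain ⟨Z, hZ, hPZ⟩ : ∃ Z ∈ irreducibleComponents (X : Type u), P ∈ Z :=
      ⟨_, irreducibleComponent_mem_irreducibleComponents P, mem_irreducibleComponent⟩
    have hZc := isClosed_of_mem_irreducibleComponents Z hZ
    obtain ⟨η, hη⟩ := QuasiSober.sober hZ.1 hZc
    have hsp : η ⤳ P := hη.specializes hPZ
    obtain ⟨a, ha⟩ := (X.range_fromSpecStalk (x := P)).ge hsp
    obtain ⟨b, hb⟩ := (X.range_fromSpecStalk (x := P)).ge (specializes_rfl : P ⤳ P)
    letI := hF.toField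
    obtain rfl : a = b := Subsingleton.elim (α := PrimeSpectrum (X.presheaf.stalk P)) a b
    have h1 : Z = {P} := by rw [← hη.def, ← ha, hb, hP.closure_eq]
    have h2 := hequi Z hZ
    rw [h1] at h2
    have h3 : topologicalKrullDim ({P} : Set X) ≤ 0 := by
      haveI : Subsingleton ↥({P} : Set X) := Set.subsingleton_singleton.coe_sort
      haveI : Subsingleton (TopologicalSpace.IrreducibleCloseds ↥({P} : Set X)) := ⟨fun A B =>
        TopologicalSpace.IrreducibleCloseds.ext ((Subsingleton.eq_univ_of_nonempty A.isIrreducible'.nonempty).trans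
          (Subsingleton.eq_univ_of_nonempty B.isIrreducible'.nonempty).symm)⟩
      exact Order.krullDim_nonpos_of_subsingleton
    rw [h2] at h3
    exact absurd h3 (by norm_num)
  rw [show (∃ U : X.Opens, P ∈ U ∧ Smooth (U.ι ≫ (X ↘ Spec (CommRingCat.of k)))) ↔
      P ∈ (X ↘ Spec (CommRingCat.of k)).smoothLocus from CurvOpenLib.Inst.loc_smooth_iff _ P]
  constructor
  · intro h
    obtain ⟨U, hPU, f, hf, hfI⟩ := h P
    have hm : IsLocalRing.maximalIdeal (X.presheaf.stalk P) = Ideal.span {X.presheaf.germ U.1 P hPU f} := by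
      rw [← hloc U hPU, hfI, Ideal.map_span, Set.image_singleton]
    have hreg : X.presheaf.germ U.1 P hPU f ∈ nonZeroDivisors (X.presheaf.stalk P) := by
      letI : Algebra Γ(X, U.1) (X.presheaf.stalk P) := TopCat.Presheaf.algebra_section_stalk X.presheaf ⟨P, hPU⟩
      haveI := U.2.isLocalization_stalk ⟨P, hPU⟩
      exact IsLocalization.map_nonZeroDivisors_le (U.2.primeIdealOf ⟨P, hPU⟩).asIdeal.primeCompl
        (X.presheaf.stalk P) (Submonoid.mem_map_of_mem _ hf)
    haveI : IsRegularLocalRing (X.presheaf.stalk P) := by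
      refine (IsRegularLocalRing.iff_finrank_cotangentSpace _).2 (le_antisymm ?_ ?_)
      · refine le_trans (show _ ≤ ((1 : ℕ) : WithBot ℕ∞) from ?_) ?_
        · exact_mod_cast IsLocalRing.finrank_cotangentSpace_le_one_iff.2 ⟨_, hm⟩
        · rw [Nat.cast_one, ← IsLocalRing.maximalIdeal_height_eq_ringKrullDim]
          refine WithBot.coe_le_coe.2 (Order.one_le_iff_ne_zero.2 fun h0 => ?_)
          exact Set.disjoint_left.1 (Ideal.disjoint_nonZeroDivisors_of_mem_minimalPrimes
            (Ideal.height_eq_zero_iff.1 h0)) (hm ▸ Ideal.mem_span_singleton_self _) hreg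
      · exact (ringKrullDim_le_spanFinrank_maximalIdeal (R := X.presheaf.stalk P)).trans_eq
          (by rw [IsLocalRing.spanFinrank_maximalIdeal_eq_finrank_cotangentSpace])
    letI := Curv2.resAlgebra k X P
    haveI : Algebra.IsSeparable k (X.residueField P) := ⟨fun c => by
      obtain ⟨c, rfl⟩ := CurveSection.surjective_resMap k hP c
      exact isSeparable_algebraMap c⟩
    exact SmoothReg.mem_smoothLocus_of_isSeparable _ P (fun c => rfl) inferInstance
  · intro hs
    haveI := SmoothReg.isRegularLocalRing_stalk_of_mem_smoothLocus _ hs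
    refine MeroX.isEffCartier_of_stalk I fun x hx U hxU => ?_
    obtain rfl : x = P := by
      rw [hIdef] at hx
      exact Set.mem_singleton_iff.1 ((Scheme.IdealSheafData.coe_support_vanishingIdeal _).le hx)
    rw [hloc U hxU]
    have hd : ringKrullDim (X.presheaf.stalk x) ≤ 1 := (CurveCohLib.ringKrullDim_stalk_le_topologicalKrullDim x).trans hdimX
    haveI := RegLoc6.isDomain_of_isRegularLocalRing (X.presheaf.stalk x)
    have h1 := (IsRegularLocalRing.iff_finrank_cotangentSpace (X.presheaf.stalk x)).1 inferInstance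
    obtain ⟨g, hg⟩ := IsLocalRing.finrank_cotangentSpace_le_one_iff.1 (by exact_mod_cast h1.trans_le hd)
    refine ⟨g, mem_nonZeroDivisors_of_ne_zero fun h0 => hnf (IsLocalRing.isField_iff_maximalIdeal_eq.2 ?_), hg⟩
    rw [hg, h0]
    simp

end Groth.Agent.S15923
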