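import Groth.Statements.S1593
import Groth.Agent.NodalLib.Family
import Groth.Agent.AlgSpLib.EtLocalInst

set_option autoImplicit false
set_option linter.style.haveILetI false
set_option backward.isDefEq.respectTransparency false
set_option backward.isDefEq.respectTransparency.types false
universe u
open CategoryTheory CategoryTheory.Limits AlgebraicGeometry
open Curves

namespace Groth.Agent.S1593

/-- Being an at-worst-nodal family of curves is étale local on the source: let f : X → S be a morphism
and g_i : U_i → X a jointly surjective family of étale morphisms. If every composite g_i ≫ f is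
at-worst-nodal of relative dimension one, then so is f. -/
theorem result {X S : Scheme.{u}} (f : X ⟶ S) (ι : Type u) (U : ι → Scheme.{u})
    (g : ∀ i, U i ⟶ X) [∀ i, Etale (g i)] (hsurj : ∀ x : X, ∃ i, x ∈ Set.range (g i).base)
    (h : ∀ i, Curv2.IsNodalFamily (g i ≫ f)) : Curv2.IsNodalFamily f := by
  haveI hf1 : ∀ i, Flat (g i ≫ f) := fun i => (h i).1
  haveI hf2 : ∀ i, LocallyOfFinitePresentation (g i ≫ f) := fun i => (h i).2.1
  let π : ∐ U ⟶ X := Sigma.desc g
  haveI : Etale π := IsZariskiLocalAtSource.sigmaDesc (P := @Etale) inferInstance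
  have hπ : Surjective π := ⟨fun x => by
    obtain ⟨i, u, hu⟩ := hsurj x
    exact ⟨Sigma.ι U i u, by rw [← Scheme.Hom.comp_apply, Sigma.ι_desc]; exact hu⟩⟩
  have e : π ≫ f = Sigma.desc fun i => g i ≫ f := Sigma.hom_ext _ _ fun i => by simp [π]
  haveI : Flat f := Groth.Agent.AlgSpLib.IsEtLocal.of_precomp (P := @Flat) π f inferInstance hπ
    (by rw [e]; exact IsZariskiLocalAtSource.sigmaDesc (P := @Flat) hf1)
  haveI : LocallyOfFinitePresentation f :=
    Groth.Agent.AlgSpLib.IsEtLocal.of_precomp (P := @LocallyOfFinitePresentation) π f inferInstance hπ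
      (by rw [e]; exact IsZariskiLocalAtSource.sigmaDesc (P := @LocallyOfFinitePresentation) hf2)
  refine (Groth.Agent.NodalLib.isNodalFamily_iff' f).2 fun x => ?_
  obtain ⟨i, u, rfl⟩ := hsurj x
  exact (Groth.Agent.NodalLib.ptProp_qPt.precomp (g i) f u).1
    (((Groth.Agent.NodalLib.isNodalFamily_iff (g i ≫ f)).1 (h i)).2.2 u)

end Groth.Agent.S1593
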