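import Groth.Statements.S1594
import Groth.Agent.NodalLib.Family
import Groth.Agent.SrcDescent.Scheme

set_option autoImplicit false
set_option linter.style.haveILetI false
set_option backward.isDefEq.respectTransparency false
set_option backward.isDefEq.respectTransparency.types false
universe u
open CategoryTheory CategoryTheory.Limits AlgebraicGeometry
open Curves

namespace Groth.Agent.S1594

/-- (2) implies (1), for a covering by one flat quasi-compact surjective morphism: let f : X → S and g :
S' → S flat, quasi-compact and surjective. If the base change X ×_S S' → S' is at-worst-nodal of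
relative dimension one then so is f. -/
theorem result {X S S' : Scheme.{u}} (f : X ⟶ S) (g : S' ⟶ S) [Flat g] [QuasiCompact g] [Surjective g]
    (h : Curv2.IsNodalFamily (pullback.snd f g)) : Curv2.IsNodalFamily f := by
  obtain ⟨h1, h2, h3⟩ := (Groth.Agent.NodalLib.isNodalFamily_iff _).1 h
  haveI := h1
  haveI := h2
  haveI : LocallyOfFinitePresentation f :=
    MorphismProperty.of_pullback_snd_of_descendsAlong (P := @LocallyOfFinitePresentation)
      (Q := @Surjective ⊓ @Flat ⊓ @QuasiCompact) (f := f) (g := g) ⟨⟨inferInstance, inferInstance⟩, inferInstance⟩ h2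
  haveI : Flat f := by
    rw [Flat.iff_flat_stalkMap]
    intro x
    obtain ⟨x', rfl⟩ := (pullback.fst f g).surjective x
    let ψ := (pullback.fst f g).stalkMap x'
    have hψ : ψ.hom.Flat := Flat.stalkMap _ x'
    have hs : Function.Surjective (PrimeSpectrum.comap ψ.hom) := by
      algebraize [ψ.hom]
      haveI : IsLocalHom (algebraMap (X.presheaf.stalk (pullback.fst f g x')) ((pullback f g).presheaf.stalk x')) :=
        inferInstanceAs (IsLocalHom ψ.hom)
      haveI : Module.Flat (X.presheaf.stalk (pullback.fst f g x')) ((pullback f g).presheaf.stalk x') := hψ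
      haveI : Module.FaithfullyFlat (X.presheaf.stalk (pullback.fst f g x')) ((pullback f g).presheaf.stalk x') :=
        Module.FaithfullyFlat.of_flat_of_isLocalHom
      exact PrimeSpectrum.comap_surjective_of_faithfullyFlat
    refine Groth.Agent.SrcDescent.flat_of_precomp_flat _ _ hψ hs ?_
    have hc : ((pullback.fst f g ≫ f).stalkMap x').hom.Flat := by
      haveI : Flat (pullback.fst f g ≫ f) := by rw [pullback.condition]; infer_instance
      exact Flat.stalkMap _ x'
    rwa [Scheme.Hom.stalkMap_comp] at hc
  refine (Groth.Agent.NodalLib.isNodalFamily_iff' f).2 fun x => ?_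
  obtain ⟨x', rfl⟩ := (pullback.fst f g).surjective x
  exact (Groth.Agent.NodalLib.ptProp_qPt.baseChange (IsPullback.of_hasPullback f g) x').1 (h3 x')

end Groth.Agent.S1594
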