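import Groth.Statements.S16006
import Groth.Agent.BunLib68.Higgs
-- import your own Groth.Agent.* helpers here

set_option autoImplicit false
open CategoryTheory AlgebraicGeometry CategoryTheory.Limits
open VBCurve

namespace Groth.Agent.S16006

set_option linter.style.haveILetI false
set_option linter.unusedVariables false
set_option backward.isDefEq.respectTransparency false
set_option backward.isDefEq.respectTransparency.types false
open Groth.Agent.CurveBundle Groth.Agent.CurveSlope Groth.Agent.CurveStable Groth.Agent.CurveHiggs Groth.Agent.BunLib68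

/-- Let X be a smooth proper integral curve of genus 1 over the complex numbers (genus = dim H¹(O_X))
and L an invertible O_X-module of degree 0 such that L ⊗ L is not isomorphic to O_X; an L-valued
pair is a finite locally free O_X-module E of rank r ≥ 1 with a map φ : E → E ⊗ L; a submodule j : G
→ E (a monomorphism) is φ-invariant when some χ : G → G ⊗ L followed by j ⊗ L equals j followed by
φ; the pair is semistable when deg G · r ≤ deg E · n for every φ-invariant finite locally free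
submodule G of rank n ≥ 1, degrees being χ − rank · χ(O_X), and it is stable when deg G · r < deg E
· n for every φ-invariant finite locally free submodule G of rank n with 1 ≤ n < r. If (E, φ) is a
stable pair of rank 2, then E is slope-stable as a module of rank 2: deg G · 2 < deg E · n for every
finite locally free submodule G of rank n with 1 ≤ n < 2, φ-invariant or not. (The published
statement assumes only that L is not isomorphic to O_X. For L of order two and E = O_X ⊕ L, the
isomorphism φ : E → E ⊗ L = (O_X ⊗ L) ⊕ (L ⊗ L) that maps the summand O_X of E onto the summand L ⊗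
L ≅ O_X and the summand L onto O_X ⊗ L ≅ L leaves no rank-one submodule of degree 0 invariant, so
(E, φ) is a stable pair while E is not stable; the published argument derives L ⊗ L ≅ O_X in the
split case, so the row assumes L ⊗ L ≄ O_X.) -/
theorem result
    (X : Scheme.{0}) [X.Over (Spec (CommRingCat.of ℂ))] [IsIntegral X]
    [IsProper (X ↘ Spec (CommRingCat.of ℂ))] [Smooth (X ↘ Spec (CommRingCat.of ℂ))]
    (hdim : topologicalKrullDim X = 1)
    (hg : Curv2.genus ℂ X = 1)
    (L : X.Modules) (hL : PicF.IsInvertible L) (hL0 : Curv2.deg ℂ X L 1 = 0)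
    (hL2 : ¬ Nonempty (CohB1.tensorMod L L ≅ Coh.structureModule X))
    (E : X.Modules) (hE : FlatMod.IsFinLocFreeOfRank 2 E)
    (φ : E ⟶ CohB1.tensorMod E L)
    (hst : (∀ (G : X.Modules) (n : ℕ) (j : G ⟶ E) (χ : G ⟶ CohB1.tensorMod G L), Mono j → 0 < n → n < 2 →
      FlatMod.IsFinLocFreeOfRank n G →
      χ ≫ (CohB1.sheafifyMod X).map (MonoidalCategoryStruct.whiskerRight (C := CohB1.PMod X) j.val (CohB1.toPMod L)) = j ≫ φ →
      Curv2.deg ℂ X G n * (2 : ℤ) < Curv2.deg ℂ X E 2 * (n : ℤ))) :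
    ∀ (G : X.Modules) (n : ℕ) (j : G ⟶ E), Mono j → 0 < n → n < 2 → FlatMod.IsFinLocFreeOfRank n G →
      Curv2.deg ℂ X G n * (2 : ℤ) < Curv2.deg ℂ X E 2 * (n : ℤ) := by
  intro G n j hj hn hn2 hG
  haveI := hj
  haveI := isLocallyNoetherian' ℂ (X := X)
  obtain rfl : n = 1 := by omega
  by_contra hle
  push Not at hle
  have hEf := isFinLocFree_of_rank hE
  have hGf := isFinLocFree_of_rank hG
  obtain ⟨M, i, hi, hM, hQ, hrM, hdM, hrE, hdE⟩ := exists_saturation ℂ hdim.le hEf j hGf
  haveI := hi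
  rw [rk_eq hG] at hrM
  rw [deg_eq_dg ℂ hE, deg_eq_dg ℂ hG] at hle
  rw [rk_eq hE, hrM] at hrE
  have hrQ : rk (cokernel i) = 1 := by omega
  have hM1 : FlatMod.IsFinLocFreeOfRank 1 M := hrM ▸ isFinLocFreeOfRank_rk hM
  have hQ1 : FlatMod.IsFinLocFreeOfRank 1 (cokernel i) := hrQ ▸ isFinLocFreeOfRank_rk hQ
  have hMi := Groth.Agent.CurveDuality.isInvertible_of_rank_one hM1
  have hQi := Groth.Agent.CurveDuality.isInvertible_of_rank_one hQ1
  have hLf := isFinLocFree_of_rank (Groth.Agent.InvEnd.isFinLocFreeOfRank_one hL)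
  have hdQL : Curv2.deg ℂ X (CohB1.tensorMod (cokernel i) L) 1 = dg ℂ (cokernel i) := by
    refine (Groth.Agent.CurveRR.deg_tensor ℂ hdim hQi hL).trans ?_
    rw [hL0, add_zero, deg_eq_dg ℂ hQ1]
  have hdML : Curv2.deg ℂ X (CohB1.tensorMod M L) 1 = dg ℂ M := by
    refine (Groth.Agent.CurveRR.deg_tensor ℂ hdim hMi hL).trans ?_
    rw [hL0, add_zero, deg_eq_dg ℂ hM1]
  -- `M` is not invariant
  have hnv : ∀ (T : X.Modules) (t : T ⟶ E), Mono t → FlatMod.IsFinLocFreeOfRank 1 T → dg ℂ E ≤ 2 * dg ℂ T →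
      ¬ Inv L φ t := by
    rintro T t ht hT hd ⟨χ, hχ⟩
    have := hst T 1 t χ ht one_pos one_lt_two hT hχ
    rw [deg_eq_dg ℂ hE, deg_eq_dg ℂ hT] at this
    omega
  have hf : i ≫ φ ≫ twist L (cokernel.π i) ≠ 0 := fun h0 =>
    hnv M i hi hM1 (by omega) (inv_of_comp_eq_zero hLf φ i h0)
  obtain ⟨hd1, hiso⟩ := Groth.Agent.CurveDeg.deg_le_and_isIso ℂ hdim.le hMi (Groth.Agent.InvX.isInvertible_tensorMod hQi hL)
    (show M ⟶ CohB1.tensorMod (cokernel i) L from i ≫ φ ≫ twist L (cokernel.π i)) hf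
  rw [hdQL, deg_eq_dg ℂ hM1] at hd1 hiso
  haveI := hiso (by omega)
  let e1 : M ≅ CohB1.tensorMod (cokernel i) L :=
    asIso (show M ⟶ CohB1.tensorMod (cokernel i) L from i ≫ φ ≫ twist L (cokernel.π i))
  -- the extension splits
  have hMQ : ∀ g : M ⟶ cokernel i, g = 0 := by
    intro g
    by_contra hg0
    obtain ⟨-, hgi⟩ := Groth.Agent.CurveDeg.deg_le_and_isIso ℂ hdim.le hMi hQi g hg0
    rw [deg_eq_dg ℂ hM1, deg_eq_dg ℂ hQ1] at hgi
    haveI := hgi (by omega)
    obtain ⟨c⟩ := Groth.Agent.H23.PicMul.comm L (cokernel i)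
    obtain ⟨u⟩ := nonempty_iso_one_of_absorb hQi (c ≪≫ e1.symm ≪≫ asIso g)
    exact hL2 ⟨PicGrp.tensorModIso u u ≪≫ (Groth.Agent.H23.PicMul.unit (Coh.structureModule X)).some⟩
  let S : ShortComplex X.Modules := ShortComplex.mk i (cokernel.π i) (cokernel.condition i)
  have hS : S.ShortExact := shortExact_cokernel_of_mono i
  have hO : Module.finrank ℂ (Coh.HH X (Coh.structureModule X) 0) = 1 :=
    Groth.Agent.CurveCohLib.finrank_h0_eq_one ℂ X
  haveI : IsSplitEpi S.g := isSplitEpi_of_hom_eq_zero ℂ hdim hO hg hS hM hQ hMQ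
  let sp := ShortComplex.Splitting.ofExactOfSection S hS.exact (section_ S.g) (IsSplitEpi.id S.g) hS.mono_f
  let s : cokernel i ⟶ E := sp.s
  haveI : Mono s := mono_of_mono_fac (show s ≫ cokernel.π i = 𝟙 _ from sp.s_g)
  -- the complement is invariant
  by_cases hu : s ≫ φ ≫ twist L sp.r = 0
  · have hlift : (s ≫ φ) ≫ twist L sp.r = 0 := by rw [Category.assoc]; exact hu
    obtain ⟨y, hy⟩ := exists_lift (L := L) hLf sp.s sp.r sp.s_r
      (ShortComplex.Splitting.shortExact
        (S := ShortComplex.mk sp.s sp.r sp.s_r)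
        ⟨cokernel.π i, i, sp.s_g, sp.f_r, by rw [add_comm]; exact sp.id⟩) (s ≫ φ) hlift
    exact hnv (cokernel i) s inferInstance hQ1 (by omega) ⟨y, hy⟩
  · obtain ⟨-, hui⟩ := Groth.Agent.CurveDeg.deg_le_and_isIso ℂ hdim.le hQi (Groth.Agent.InvX.isInvertible_tensorMod hMi hL)
      (show cokernel i ⟶ CohB1.tensorMod M L from s ≫ φ ≫ twist L sp.r) hu
    rw [hdML, deg_eq_dg ℂ hQ1] at hui
    haveI := hui (by omega)
    let e2 : cokernel i ≅ CohB1.tensorMod M L :=
      asIso (show cokernel i ⟶ CohB1.tensorMod M L from s ≫ φ ≫ twist L sp.r)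
    -- `Q ≅ M ⊗ L ≅ (Q ⊗ L) ⊗ L`
    obtain ⟨a⟩ := Groth.Agent.H23.PicMul.assoc (cokernel i) L L
    obtain ⟨c⟩ := Groth.Agent.H23.PicMul.comm (CohB1.tensorMod L L) (cokernel i)
    exact hL2 (nonempty_iso_one_of_absorb hQi
      (c ≪≫ a.symm ≪≫ PicGrp.tensorModIso e1.symm (Iso.refl L) ≪≫ e2.symm))

end Groth.Agent.S16006
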