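import Groth.Statements.S16010
import Groth.Agent.GHConst.Basic
-- import your own Groth.Agent.* helpers here

set_option autoImplicit false
universe u v w x
open W4c3ghconstell

namespace Groth.Agent.S16010

open W4c3ghconstell Groth.Agent.GHConst

/-- Let k be an algebraically closed field of characteristic zero, A a commutative Hopf algebra over k
which is a finitely generated domain and linearly reductive (the coordinate ring of a connected
reductive group G; irreducible representations of G are indexed by the simple subcoalgebras D of A),
R a Noetherian commutative k-algebra with a multiplicative A-coaction (an affine G-scheme X = Spec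
R), and M an R-module with a compatible A-coaction (a G-equivariant quasi-coherent module on X)
which is finite over R, is the sum of its isotypic components M_D, and has dim_k M_D = h(D) < ∞ for
every simple subcoalgebra D. Fix a weight θ from simple subcoalgebras to ℚ, negative at only
finitely many D, with Σ_D θ(D) h(D) = 0 (a convergent real series) and with θ(D) ≠ 0, h(D) ≠ 0 for
some D; the weight of a k-subspace N of M is the real series Σ_D θ(D) · dim_k (N ∩ M_D). If M is
θ-stable, i.e. M has weight 0 and every non-zero proper R-submodule of M stable under the coaction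
has weight > 0, then M is generated as an R-module by its isotypic components M_D with θ(D) < 0.
(The published statement is over the complex numbers and records the multiplicity of each
irreducible representation rather than the dimension of the isotypic component; rescaling θ
translates between the two, and the printed argument uses only the bookkeeping stated here.) -/
theorem result (k : Type u) [Field k] [IsAlgClosed k] [CharZero k]
    (A : Type v) [CommRing A] [IsDomain A] [HopfAlgebra k A] [Algebra.FiniteType k A]
    (hred : HopfRep.IsLinearlyReductive k A)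
    (R : Type w) [CommRing R] [Algebra k R] [IsNoetherianRing R] [HopfRep.Comod k A R] [GLin.IsCoactAlg k A R]
    (M : Type x) [AddCommGroup M] [Module k M] [Module R M] [IsScalarTower k R M]
    [HopfRep.Comod k A M] [TameAct.IsHopfMod k A R M]
    (h : W4c3ghconstell.SimpSub k A → ℕ) (θ : W4c3ghconstell.SimpSub k A → ℚ)
    (hfin : {D | θ D < 0}.Finite) (hsum : HasSum (fun D => (θ D : ℝ) * (h D : ℝ)) 0)
    (hne : ∃ D, θ D ≠ 0 ∧ h D ≠ 0)
    (hM : W4c3ghconstell.IsConstellation k A R M h)
    (hst : W4c3ghconstell.IsThetaStable k A R M θ) :
    W4c3ghconstell.genIn k A R M {D | θ D < 0} ⊤ = ⊤ := by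
  classical
  by_contra hN
  have hsub : HopfRep.IsSubcomod (k := k) (A := A) (((⊤ : Submodule R M)).restrictScalars k) := by
    rw [Submodule.restrictScalars_top]
    exact fun v _ => (ComodLib.mem_range_rTensor_subtype_iff _ _).mpr fun φ => Submodule.mem_top
  let N := W4c3ghconstell.genIn k A R M {D | θ D < 0} ⊤
  have hle : theta M θ (N.restrictScalars k) ≤ theta M θ ((⊤ : Submodule R M).restrictScalars k) :=
    theta_le hM hsum.summable (fun x hx => genIn_le (R := R) {D | θ D < 0} _ hx) fun D hD =>
      congrArg (fun X : Submodule k M => Module.finrank k X)
        (genIn_inf {D | θ D < 0} (⊤ : Submodule R M) (D := D) hD)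
  rw [Submodule.restrictScalars_top, theta_top_eq_zero hM hsum] at hle
  by_cases hN0 : N = ⊥
  · -- all negative indices have `h = 0`
    obtain ⟨E, hθE, hhE⟩ := hne
    have h0 : ∀ D, θ D < 0 → h D = 0 := fun D hD => by
      have h1 := congrArg (fun X : Submodule k M => Module.finrank k X)
        (genIn_inf {D | θ D < 0} (⊤ : Submodule R M) (D := D) hD)
      rw [← hilbAt_top hM D]
      refine h1.symm.trans ?_
      show Module.finrank k ↥(N.restrictScalars k ⊓ isoComp M D.1) = 0
      rw [show N.restrictScalars k ⊓ isoComp M D.1 = ⊥ by rw [hN0, Submodule.restrictScalars_bot, bot_inf_eq]]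
      exact finrank_bot k M
    have hnn : ∀ D, 0 ≤ (θ D : ℝ) * (h D : ℝ) := fun D => by
      rcases lt_or_ge (θ D) 0 with hD | hD
      · simp [h0 D hD]
      · exact mul_nonneg (Rat.cast_nonneg.mpr hD) (Nat.cast_nonneg _)
    have := (hsum.summable.tsum_pos hnn E ?_).ne'
    · exact this hsum.tsum_eq
    · rcases lt_or_ge (θ E) 0 with hD | hD
      · exact absurd (h0 E hD) hhE
      · exact mul_pos (Rat.cast_pos.mpr (lt_of_le_of_ne hD hθE.symm)) (Nat.cast_pos.mpr (Nat.pos_of_ne_zero hhE))
  · exact absurd (hst.2 N (isSubcomod_genIn _ hsub) hN0 hN) (not_lt.mpr hle)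

end Groth.Agent.S16010
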