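import Groth.Statements.S16017
import Mathlib.Topology.Algebra.InfiniteSum.Real
import Mathlib.Analysis.Normed.Module.FiniteDimension
-- import your own Groth.Agent.* helpers here

set_option autoImplicit false
universe u
open W4c3ghconstell

namespace Groth.Agent.S16017

theorem tsum_ite {ι : Type u} [DecidableEq ι] {f : ι → ℝ} (hf : Summable f) (D : Finset ι) :
    (∑' i, if i ∈ D then (0 : ℝ) else f i) = (∑' i, f i) - ∑ i ∈ D, f i := by
  have h : HasSum (fun i => if i ∈ D then f i else 0) (∑ i ∈ D, f i) := by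
    have : HasSum (fun i => if i ∈ D then f i else 0) (∑ i ∈ D, if i ∈ D then f i else 0) :=
      hasSum_sum_of_ne_finset_zero (fun b hb => by simp [hb])
    rwa [Finset.sum_congr rfl (fun i hi => if_pos hi)] at this
  have h2 := hf.hasSum.sub h
  rw [← h2.tsum_eq]
  exact tsum_congr fun i => by split_ifs <;> simp

theorem ratio_mul {a : ℕ} {b : ℕ} (hle : a ≤ b) : ((b : ℝ) * ((a : ℝ) / (b : ℝ))) = a := by
  rcases Nat.eq_zero_or_pos b with hb | hb
  · subst hb; simp [Nat.le_zero.mp hle]
  · field_simp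


/-- Let ι index the irreducible representations, θ : ι → ℚ a weight negative at only finitely many
indices (the finite set D₋), h h' : ι → ℕ with h' ≤ h pointwise (the isotypic dimensions of an
object and of a sub-object) and Σ_i θ_i h_i summable. For a finite set D of indices put S_D = Σ_{i ∉
D} θ_i h_i, d = #(D ∖ D₋), and θ̃_D = Σ_{i ∈ D} θ_i h'_i + (S_D / d) · Σ_{i ∈ D ∖ D₋} h'_i / h_i,
the modified weight attached to the parameters chosen for D (for D ⊇ D₋ the first sum is the
negative part plus the part over D ∖ D₋). Then θ̃_D tends to Σ_i θ_i h'_i as D grows through the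
finite subsets of ι. (Here D runs over all finite sets of indices and a quotient by zero is zero;
the source lets D run over the finite subsets of the locus θ ≠ 0 containing D₋, and the same tail
estimate gives both.) -/
theorem result {ι : Type u} [DecidableEq ι] (θ : ι → ℚ) (h h' : ι → ℕ)
    (hle : ∀ i, h' i ≤ h i) (hfin : {i | θ i < 0}.Finite)
    (hsum : Summable (fun i => (θ i : ℝ) * (h i : ℝ))) :
    Filter.Tendsto
      (fun D : Finset ι =>
        (∑ i ∈ D, (θ i : ℝ) * (h' i : ℝ)) +
          ((∑' i, if i ∈ D then (0 : ℝ) else (θ i : ℝ) * (h i : ℝ)) / ((D \ hfin.toFinset).card : ℝ)) *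
            ∑ i ∈ D \ hfin.toFinset, ((h' i : ℝ) / (h i : ℝ)))
      Filter.atTop (nhds (∑' i, (θ i : ℝ) * (h' i : ℝ))) := by
  set r : ι → ℝ := fun i => (h' i : ℝ) / (h i : ℝ) with hr
  have hs' : Summable (fun i => (θ i : ℝ) * (h' i : ℝ)) := by
    refine Summable.of_norm_bounded (summable_norm_iff.mpr hsum) fun i => ?_
    rw [norm_mul, norm_mul, Real.norm_natCast, Real.norm_natCast]
    exact mul_le_mul_of_nonneg_left (Nat.cast_le.mpr (hle i)) (norm_nonneg _)
  have hS : Filter.Tendsto (fun D : Finset ι => ∑' i, if i ∈ D then (0 : ℝ) else (θ i : ℝ) * (h i : ℝ))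
      Filter.atTop (nhds 0) := by
    simp only [tsum_ite hsum]
    simpa using hsum.hasSum.const_sub (∑' i, (θ i : ℝ) * (h i : ℝ))
  have hbd : ∀ D : Finset ι, ‖((∑' i, if i ∈ D then (0 : ℝ) else (θ i : ℝ) * (h i : ℝ)) / ((D \ hfin.toFinset).card : ℝ)) *
      ∑ i ∈ D \ hfin.toFinset, r i‖ ≤ ‖∑' i, if i ∈ D then (0 : ℝ) else (θ i : ℝ) * (h i : ℝ)‖ := by
    intro D
    have h0 : ∀ i, 0 ≤ r i := fun i => div_nonneg (Nat.cast_nonneg _) (Nat.cast_nonneg _)
    have h1 : ∑ i ∈ D \ hfin.toFinset, r i ≤ ((D \ hfin.toFinset).card : ℝ) := by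
      refine (Finset.sum_le_card_nsmul _ _ 1 fun i _ => ?_).trans_eq (by simp)
      exact div_le_one_of_le₀ (Nat.cast_le.mpr (hle i)) (Nat.cast_nonneg _)
    rcases Nat.eq_zero_or_pos (D \ hfin.toFinset).card with h2 | h2
    · simp [h2]
    rw [div_mul_eq_mul_div, mul_div_assoc, norm_mul]
    refine mul_le_of_le_one_right (norm_nonneg _) ?_
    rw [Real.norm_of_nonneg (div_nonneg (Finset.sum_nonneg fun i _ => h0 i) (Nat.cast_nonneg _))]
    exact div_le_one_of_le₀ h1 (Nat.cast_nonneg _)
  have h3 := (squeeze_zero_norm hbd (tendsto_zero_iff_norm_tendsto_zero.mp hS))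
  simpa using Filter.Tendsto.add hs'.hasSum h3

end Groth.Agent.S16017
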