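import Groth.Statements.S16046
import Mathlib

set_option autoImplicit false
universe u
open TensorProduct
open ValRing

namespace Groth.Agent.S16046

/-- Surjectivity assertion: let A ⊆ A' be valuation rings with fraction fields K ⊆ K', A' dominating A
and A dense in A' for the valuation topology, and L a finite extension of K; put L' = K' ⊗_K L. Then
every element of L' modulo its nilradical which is integral over A' is a finite sum Σ a'ᵢ·lᵢ with
a'ᵢ ∈ A' and lᵢ ∈ L integral over A. (The published statement also identifies the kernel of the map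
from the tensor product with the nilradical; that part is not stated here.) -/
theorem result
    (A K L A' K' : Type u) [CommRing A] [IsDomain A] [ValuationRing A] [Field K] [Algebra A K] [IsFractionRing A K]
    [Field L] [Algebra K L] [FiniteDimensional K L] [Algebra A L] [IsScalarTower A K L]
    [CommRing A'] [IsDomain A'] [ValuationRing A'] [Field K'] [Algebra A' K'] [IsFractionRing A' K']
    [Algebra A A'] [IsLocalHom (algebraMap A A')] (hinj : Function.Injective (algebraMap A A'))
    [Algebra K K'] [Algebra A K'] [IsScalarTower A A' K'] [IsScalarTower A K K']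
    (hdense : ∀ a' b' : A', b' ≠ 0 → ∃ a : A, b' ∣ a' - algebraMap A A' a)
    (x : (K' ⊗[K] L) ⧸ nilradical (K' ⊗[K] L))
    (hx : ((Ideal.Quotient.mk (nilradical (K' ⊗[K] L))).comp
            ((Algebra.TensorProduct.includeLeft : K' →ₐ[K] K' ⊗[K] L).toRingHom.comp (algebraMap A' K'))).IsIntegralElem x) :
    ∃ (n : ℕ) (a : Fin n → A') (l : Fin n → L), (∀ i, IsIntegral A (l i)) ∧
      x = Ideal.Quotient.mk (nilradical (K' ⊗[K] L)) (∑ i, algebraMap A' K' (a i) ⊗ₜ[K] l i) := by
  classical
  let nil := nilradical (K' ⊗[K] L)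
  let iL : K' →ₐ[K] K' ⊗[K] L := Algebra.TensorProduct.includeLeft
  let iR : L →ₐ[K] K' ⊗[K] L := Algebra.TensorProduct.includeRight
  set q := (Ideal.Quotient.mk nil) with hq
  set φ : A' →+* (K' ⊗[K] L) ⧸ nil := q.comp (iL.toRingHom.comp (algebraMap A' K')) with hφ
  have hAK : ∀ a : A, algebraMap A' K' (algebraMap A A' a) = algebraMap K K' (algebraMap A K a) := fun a => by
    rw [← IsScalarTower.algebraMap_apply, ← IsScalarTower.algebraMap_apply]
  -- `A = K ∩ A'`
  have hKA : ∀ c : K, algebraMap K K' c ∈ (algebraMap A' K').range → c ∈ (algebraMap A K).range := by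
    intro c hc
    rcases ValuationRing.isInteger_or_isInteger A c with h | h
    · exact h
    · obtain ⟨a, ha⟩ := h
      obtain ⟨a', ha'⟩ := hc
      rcases eq_or_ne c 0 with rfl | hc0
      · exact ⟨0, map_zero _⟩
      have h1 : algebraMap A A' a * a' = 1 := IsFractionRing.injective A' K' (by
        rw [map_mul, map_one, hAK, ha', ha, ← map_mul, inv_mul_cancel₀ hc0, map_one])
      have hu : IsUnit a := isUnit_of_map_unit (algebraMap A A') a (IsUnit.of_mul_eq_one a' h1)
      obtain ⟨u, rfl⟩ := hu
      refine ⟨(↑u⁻¹ : A), ?_⟩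
      apply eq_of_inv_mul_eq_one ?_ |>.symm
      · rw [← ha, ← map_mul, Units.mul_inv, map_one]
  -- `K` is dense in `K'`
  have happ : ∀ c : K', ∃ a : K, c - algebraMap K K' a ∈ (algebraMap A' K').range := by
    intro c
    obtain ⟨a', b', hb', rfl⟩ := IsFractionRing.div_surjective (A := A') c
    have hb0 : b' ≠ 0 := nonZeroDivisors.ne_zero hb'
    have hbK : algebraMap A' K' b' ≠ 0 := (map_ne_zero_iff _ (IsFractionRing.injective A' K')).2 hb0
    by_cases hu : IsUnit b'
    · obtain ⟨u, rfl⟩ := hu
      refine ⟨0, a' * ↑u⁻¹, ?_⟩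
      rw [map_zero, sub_zero, map_mul, eq_div_iff hbK, mul_assoc, ← map_mul, Units.inv_mul, map_one, mul_one]
    obtain ⟨b, t, ht⟩ := hdense b' (b' ^ 2) (pow_ne_zero 2 hb0)
    have hbb : algebraMap A A' b = b' * (1 - b' * t) := by linear_combination -ht
    have hw : IsUnit (1 - b' * t) := by
      rcases IsLocalRing.isUnit_or_isUnit_one_sub_self (b' * t) with h | h
      · exact absurd (isUnit_of_mul_isUnit_left h) hu
      · exact h
    obtain ⟨w, hw⟩ := hw
    have hbA : algebraMap A A' b ≠ 0 := by rw [hbb, ← hw]; exact mul_ne_zero hb0 w.ne_zero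
    obtain ⟨a, s, hs⟩ := hdense (a' * (w : A')) (algebraMap A A' b) hbA
    refine ⟨algebraMap A K a / algebraMap A K b, s, ?_⟩
    have hbK' : algebraMap A' K' (algebraMap A A' b) ≠ 0 :=
      (map_ne_zero_iff _ (IsFractionRing.injective A' K')).2 hbA
    have hwK : algebraMap A' K' (w : A') ≠ 0 :=
      (map_ne_zero_iff _ (IsFractionRing.injective A' K')).2 w.ne_zero
    rw [map_div₀, ← hAK, ← hAK]
    apply mul_right_cancel₀ hbK'
    rw [sub_mul, div_mul_cancel₀ _ hbK', ← map_mul, mul_comm, ← hs, map_sub, map_mul]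
    congr 1
    rw [hbb, ← hw, map_mul]
    field_simp
  -- an integral basis
  obtain ⟨y₀, hy₀, hy⟩ := exists_integral_multiples A K (Finset.univ.image (Module.finBasis K L))
  set n := Module.finrank K L
  obtain ⟨e, he, hspan⟩ : ∃ e : Fin n → L, (∀ i, IsIntegral A (e i)) ∧
      ∀ z : K' ⊗[K] L, ∃ c : Fin n → K', z = ∑ i, c i ⊗ₜ[K] e i := by
    refine ⟨fun i => y₀ • Module.finBasis K L i, fun i => hy _ (Finset.mem_image_of_mem _ (Finset.mem_univ i)), ?_⟩
    intro z
    induction z using TensorProduct.induction_on with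
    | zero => exact ⟨0, by simp⟩
    | add u v hu hv =>
      obtain ⟨c, rfl⟩ := hu
      obtain ⟨d, rfl⟩ := hv
      exact ⟨c + d, by simp [TensorProduct.add_tmul, Finset.sum_add_distrib]⟩
    | tmul c l =>
      have hy0 : algebraMap A K y₀ ≠ 0 := (map_ne_zero_iff _ (IsFractionRing.injective A K)).2 hy₀
      refine ⟨fun i => ((Module.finBasis K L).repr l i / algebraMap A K y₀) • c, ?_⟩
      conv_lhs => rw [← (Module.finBasis K L).sum_repr l, TensorProduct.tmul_sum]
      refine Finset.sum_congr rfl fun i _ => ?_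
      rw [TensorProduct.smul_tmul]
      congr 1
      beta_reduce
      rw [← IsScalarTower.algebraMap_smul K y₀, smul_smul, div_mul_cancel₀ _ hy0]
  obtain ⟨z, hz⟩ := Ideal.Quotient.mk_surjective x
  obtain ⟨c, hc⟩ := hspan z
  have hxq : x = q (∑ i, c i ⊗ₜ[K] e i) := by rw [← hc]; exact hz.symm
  choose a ha using fun i => happ (c i)
  choose d hd using ha
  set y : L := ∑ i, a i • e i with hydef
  have hsplit : ∑ i, c i ⊗ₜ[K] e i = iR y + ∑ i, algebraMap A' K' (d i) ⊗ₜ[K] e i := by
    simp only [hydef, map_sum, iR, Algebra.TensorProduct.includeRight_apply, ← Finset.sum_add_distrib]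
    refine Finset.sum_congr rfl fun i _ => ?_
    rw [hd, ← TensorProduct.smul_tmul, ← TensorProduct.add_tmul, Algebra.smul_def, mul_one, add_sub_cancel]
  -- the integral part
  have hint : ∀ (b : A') (l : L), IsIntegral A l → φ.IsIntegralElem (q (algebraMap A' K' b ⊗ₜ[K] l)) := by
    intro b l hl
    have h1 : φ.IsIntegralElem (q (iR l)) := by
      obtain ⟨P, hP, hPl⟩ := hl
      refine ⟨P.map (algebraMap A A'), hP.map _, ?_⟩
      rw [Polynomial.eval₂_map]
      have hc : φ.comp (algebraMap A A') = (q.comp iR.toRingHom).comp (algebraMap A L) := by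
        refine RingHom.ext fun r => ?_
        simp only [hφ, RingHom.comp_apply, hAK, AlgHom.toRingHom_eq_coe, RingHom.coe_coe, AlgHom.commutes,
          IsScalarTower.algebraMap_apply A K L]
      rw [hc, show q (iR l) = (q.comp iR.toRingHom) l from rfl, ← Polynomial.hom_eval₂, hPl, map_zero]
    have h2 : q (algebraMap A' K' b ⊗ₜ[K] l) = φ b * q (iR l) := by
      simp [hφ, iL, iR, ← map_mul]
    rw [h2]
    exact (φ.isIntegralElem_map (x := b)).mul φ h1
  have hyint : φ.IsIntegralElem (q (iR y)) := by
    have h1 : φ.IsIntegralElem (q (∑ i, algebraMap A' K' (d i) ⊗ₜ[K] e i)) := by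
      rw [map_sum]
      letI := φ.toAlgebra
      exact IsIntegral.sum _ fun i _ => hint _ _ (he i)
    have := hx.sub φ h1
    rwa [hxq, hsplit, map_add, add_sub_cancel_right] at this
  have hyA : IsIntegral A y := by
    obtain ⟨P, hP, hPy⟩ := hyint
    rw [hφ, ← Polynomial.hom_eval₂, Ideal.Quotient.eq_zero_iff_mem, mem_nilradical] at hPy
    obtain ⟨N, hN⟩ := hPy
    have hyK : IsIntegral K y := Algebra.IsIntegral.isIntegral y
    set μ := minpoly K y
    have hdvd : μ.map (algebraMap K K') ∣ (P ^ N).map (algebraMap A' K') := by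
      have hmon : (μ.map (algebraMap K K')).Monic := (minpoly.monic hyK).map _
      rw [← Polynomial.modByMonic_eq_zero_iff_dvd hmon]
      set r := (P ^ N).map (algebraMap A' K') %ₘ μ.map (algebraMap K K') with hr
      have hr0 : Polynomial.eval₂ iL.toRingHom (iR y) r = 0 := by
        have hμ0 : Polynomial.eval₂ iL.toRingHom (iR y) (μ.map (algebraMap K K')) = 0 := by
          rw [Polynomial.eval₂_map, show iL.toRingHom.comp (algebraMap K K') = iR.toRingHom.comp (algebraMap K L) from
              RingHom.ext fun k => (iL.commutes k).trans (iR.commutes k).symm,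
            show iR y = iR.toRingHom y from rfl, ← Polynomial.hom_eval₂]
          exact (congrArg iR.toRingHom (minpoly.aeval K y)).trans (map_zero _)
        rw [hr, Polynomial.eval₂_modByMonic_eq_self_of_root hμ0, Polynomial.eval₂_map, Polynomial.eval₂_pow]
        exact hN
      by_contra hne
      have hdeg : r.natDegree < μ.natDegree := by
        rw [hr, ← (minpoly.monic hyK).natDegree_map (algebraMap K K')]
        exact Polynomial.natDegree_modByMonic_lt _ hmon fun h1 => (minpoly.natDegree_pos hyK).ne'
          (by rw [← (minpoly.monic hyK).natDegree_map (algebraMap K K'), h1, Polynomial.natDegree_one])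
      have hli : LinearIndependent K' fun i : Fin μ.natDegree => (1 : K') ⊗ₜ[K] (y ^ (i : ℕ)) := by
        let b := Module.Basis.span (linearIndependent_pow (K := K) y)
        have h := ((b.baseChange K').linearIndependent).map' ((Submodule.subtype _).baseChange K')
          (LinearMap.ker_eq_bot.2 (Module.Flat.lTensor_preserves_injective_linearMap _ Subtype.val_injective))
        rw [show ⇑((Submodule.span K (Set.range fun i : Fin μ.natDegree => y ^ (i : ℕ))).subtype.baseChange K') ∘
          ⇑(b.baseChange K') = fun i : Fin μ.natDegree => (1 : K') ⊗ₜ[K] (y ^ (i : ℕ)) from funext fun i => by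
            simp [b]] at h
        exact h
      refine hne (Polynomial.ext fun i => ?_)
      rw [Polynomial.coeff_zero]
      by_cases hi : i < μ.natDegree
      · refine Fintype.linearIndependent_iff.1 hli (fun j => r.coeff j) ?_ ⟨i, hi⟩
        rw [Fin.sum_univ_eq_sum_range (fun j => r.coeff j • ((1 : K') ⊗ₜ[K] (y ^ j)))]
        rw [Polynomial.eval₂_eq_sum_range' _ hdeg] at hr0
        rw [← hr0]
        refine Finset.sum_congr rfl fun j _ => ?_
        simp [iR, iL, TensorProduct.smul_tmul', Algebra.TensorProduct.tmul_pow]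
      · exact Polynomial.coeff_eq_zero_of_natDegree_lt (by omega)
    have hdvd' := hdvd
    have hA'' : ∃ g : Polynomial A', g.map (algebraMap A' K') = μ.map (algebraMap K K') := by
      obtain ⟨g, hg⟩ := IsIntegrallyClosed.eq_map_mul_C_of_dvd K' (hP.pow N) hdvd'
      refine ⟨g, ?_⟩
      rw [((minpoly.monic hyK).map (algebraMap K K')).leadingCoeff, map_one, mul_one] at hg
      exact hg
    obtain ⟨g, hg⟩ := hA''
    have hco : μ ∈ Polynomial.lifts (algebraMap A K) := by
      rw [Polynomial.lifts_iff_coeff_lifts]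
      intro i
      refine hKA _ ⟨g.coeff i, ?_⟩
      rw [← Polynomial.coeff_map, hg, Polynomial.coeff_map]
    obtain ⟨m, hm, -, hmm⟩ := Polynomial.lifts_and_natDegree_eq_and_monic hco (minpoly.monic hyK)
    refine ⟨m, hmm, ?_⟩
    rw [IsScalarTower.algebraMap_eq A K L, ← Polynomial.eval₂_map, hm]
    exact minpoly.aeval K y
  refine ⟨n + 1, Fin.cons 1 d, Fin.cons y e, Fin.cases (by simpa using hyA) (fun i => by simpa using he i), ?_⟩
  rw [hxq, hsplit, Fin.sum_univ_succ]
  congr 1
  simp [iR]

end Groth.Agent.S16046
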