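import Groth.Statements.S16083
import Groth.Agent.Div57.Ref.Normal

set_option autoImplicit false
universe u
open CategoryTheory CategoryTheory.Limits AlgebraicGeometry TopologicalSpace
open SDiv

namespace Groth.Agent.S16083

/-- Suppose X is a normal scheme that is integral and locally Noetherian, write η for its generic point,
let F and G be coherent O_X-modules, and let T : G_η → F_η be an O_{X,η}-linear map of generic
stalks. Then T extends to a morphism G ⟶ F^** — there is a morphism ψ whose stalk map at η is T
followed by the stalk map at η of the canonical map F ⟶ F^** — if and only if for every point x with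
dim O_{X,x} = 1 the map T sends the image of G_x in G_η into the image of F_x in F_η. -/
theorem result (X : Scheme.{u}) [IsIntegral X] [IsLocallyNoetherian X]
    (hX : Pi1.IsNormalScheme X) (F G : X.Modules) (hF : Coh.IsCoh F) (hG : Coh.IsCoh G)
    (T : ↑(G.presheaf.stalk (genericPoint ↥X)) →ₗ[↑(X.presheaf.stalk (genericPoint ↥X))]
      ↑(F.presheaf.stalk (genericPoint ↥X))) :
    (∃ ψ : G ⟶ RefHull.ddual F, RefHull.stalkMapₗ ψ (genericPoint ↥X) =
        (RefHull.stalkMapₗ (RefHull.bidualMap F) (genericPoint ↥X)).comp T) ↔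
      ∀ x : ↥X, ringKrullDim ↑(X.presheaf.stalk x) = 1 →
        Set.MapsTo ⇑T
          (Set.range ⇑(G.presheaf.stalkSpecializes ((genericPoint_spec ↥X).specializes (Set.mem_univ x))).hom)
          (Set.range ⇑(F.presheaf.stalkSpecializes ((genericPoint_spec ↥X).specializes (Set.mem_univ x))).hom) := by
  open Div57.Ref in
  have hi := inj_ddual hF
  constructor
  · rintro ⟨ψ, hψ⟩ x hx _ ⟨a, rfl⟩
    have hx1 : Order.coheight x = 1 := by
      rw [ringKrullDim_stalk_eq_coheight] at hx; exact_mod_cast hx
    refine (bidualGen_mem_iff hF (surjective_bidual hX hF hx1)).1 ?_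
    rw [bidualGen_apply, ← LinearMap.comp_apply, ← hψ]
    exact stalkMap_mem_latt ψ ⟨a, rfl⟩
  · intro h
    have hT : ∀ x, ∀ v ∈ Latt G x, ((bidualGen hF).toLinearMap.comp T) v ∈ Latt (RefHull.ddual F) x := fun x v hv =>
      (mem_latt_iff_depth_one (isCoh_ddual hF) (isReflexive_ddual hF) _).2 fun y hy hd => by
        have hy1 := CDiv6.coheight_eq_one_of_depth hX hd
        exact bidualGen_mem hF (h y (by rw [ringKrullDim_stalk_eq_coheight, hy1]; rfl) (latt_mono G hy hv))
    exact ⟨homOfGen hi _ hT, stalkMap_homOfGen hi _ hT⟩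

end Groth.Agent.S16083
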