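import Groth.Statements.S16084
import Groth.Agent.Div57.Ref.RefPow
import Groth.Agent.InvX.Tensor

set_option autoImplicit false
universe u
open CategoryTheory CategoryTheory.Limits AlgebraicGeometry TopologicalSpace
open SDiv

namespace Groth.Agent.S16084

/-- Let X be an integral locally Noetherian normal scheme, F a rank one coherent reflexive O_X-module
and s a nonzero global section of F. Let Z be the set of points x at which multiplication by the
germ of s, O_{X,x} → F_x, fails to be bijective (the complement of the open where s generates F).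
Then every irreducible component of Z has codimension 1 in X: at each point z of Z to which no other
point of Z specializes, the local ring O_{X,z} has dimension 1. -/
theorem result (X : Scheme.{u}) [IsIntegral X] [IsLocallyNoetherian X]
    (hX : Pi1.IsNormalScheme X) (F : X.Modules) (hF : RefHull.IsRef1 F) (s : Γ(F, ⊤)) (hs : s ≠ 0) (z : ↥X)
    (hz : ¬ Function.Bijective fun a : ↑(X.presheaf.stalk z) => a • F.presheaf.germ ⊤ z trivial s)
    (hmax : ∀ y : ↥X, ¬ Function.Bijective (fun a : ↑(X.presheaf.stalk y) => a • F.presheaf.germ ⊤ y trivial s) →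
      y ⤳ z → y = z) :
    ringKrullDim ↑(X.presheaf.stalk z) = 1 := by
  open Div57.Ref in
  let φ := InvX.ofSect s
  have hval : SecTwist.val φ ⊤ = s := InvX.one_ofSect s
  have hiff : ∀ y : X, y ∈ RefPow.isoLocus φ ↔
      Function.Bijective fun a : ↑(X.presheaf.stalk y) => a • F.presheaf.germ ⊤ y trivial s := fun y => by
    have h : (fun a : ↑(X.presheaf.stalk y) => a • F.presheaf.germ ⊤ y trivial s) =
        RefHull.stalkMapₗ φ y ∘ RefX.unitStalk y := funext fun a => by
      rw [Function.comp_apply, stalkMap_unit, hval]
    rw [h]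
    exact (Function.Bijective.of_comp_iff _ (RefX.unitStalk y).bijective).symm
  have h0 : sEl φ ≠ 0 := fun h0 => hs ((inj_of_isReflexive hF.1 hF.2.1).sect_ext (U := ⊤) trivial
    (by rw [map_zero]; rw [sEl, hval] at h0; exact h0))
  have hne : ∃ y : X, y ⤳ z ∧ Order.coheight y = 1 ∧ secOrd F y (sEl φ) ≠ 0 := by
    by_contra h
    push Not at h
    exact hz ((hiff z).1 ((mem_isoLocus_iff φ hX hF h0 z).2 h))
  obtain ⟨y, hy, hy1, hne⟩ := hne
  have hyz : y = z := hmax y (fun hb => hne ((mem_isoLocus_iff φ hX hF h0 y).1 ((hiff y).2 hb) y specializes_rfl hy1)) hy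
  rw [← hyz, ringKrullDim_stalk_eq_coheight, hy1]
  rfl

end Groth.Agent.S16084
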