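import Groth.Statements.S16085
import Groth.Agent.Div57.Ref.Class
import Groth.Prelude.Def_PicGrp

set_option autoImplicit false
universe u
open CategoryTheory CategoryTheory.Limits AlgebraicGeometry TopologicalSpace
open SDiv

namespace Groth.Agent.S16085

/-- Let X be an integral locally Noetherian normal scheme. Sending (F, G) to the reflexive hull (F
⊗_{O_X} G)^** makes the isomorphism classes of rank one coherent reflexive O_X-modules into an
abelian group: on that set there are a commutative and associative composition law, a neutral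
element and inverses, such that the product of the classes of F and G is the class of the reflexive
hull of F ⊗_{O_X} G, the neutral element is the class of O_X, and the inverse of the class of F is
the class of its dual 𝓗om_{O_X}(F, O_X). -/
theorem result (X : Scheme.{u}) [IsIntegral X] [IsLocallyNoetherian X] (hX : Pi1.IsNormalScheme X) :
    ∃ (mul : {c : PicF.Cl X // ∃ F : X.Modules, PicF.cl F = c ∧ RefHull.IsRef1 F} →
          {c : PicF.Cl X // ∃ F : X.Modules, PicF.cl F = c ∧ RefHull.IsRef1 F} →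
            {c : PicF.Cl X // ∃ F : X.Modules, PicF.cl F = c ∧ RefHull.IsRef1 F})
      (one : {c : PicF.Cl X // ∃ F : X.Modules, PicF.cl F = c ∧ RefHull.IsRef1 F})
      (inv : {c : PicF.Cl X // ∃ F : X.Modules, PicF.cl F = c ∧ RefHull.IsRef1 F} →
          {c : PicF.Cl X // ∃ F : X.Modules, PicF.cl F = c ∧ RefHull.IsRef1 F}),
      (∀ a b, mul a b = mul b a) ∧ (∀ a b c, mul (mul a b) c = mul a (mul b c)) ∧ (∀ a, mul one a = a) ∧
        (∀ a, mul (inv a) a = one) ∧
        (∀ (F G : X.Modules) (hF : RefHull.IsRef1 F) (hG : RefHull.IsRef1 G),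
          (mul ⟨PicF.cl F, F, rfl, hF⟩ ⟨PicF.cl G, G, rfl, hG⟩).1 = PicF.cl (RefHull.ddual (CohB1.tensorMod F G))) ∧
        one.1 = PicF.cl (Coh.structureModule X) ∧
        (∀ (F : X.Modules) (hF : RefHull.IsRef1 F), (inv ⟨PicF.cl F, F, rfl, hF⟩).1 = PicF.cl (RefHull.dual F)) := by
  classical
  have rep : ∀ a : {c : PicF.Cl X // ∃ F : X.Modules, PicF.cl F = c ∧ RefHull.IsRef1 F},
      ∃ F : X.Modules, PicF.cl F = a.1 ∧ RefHull.IsRef1 F := fun a => a.2
  choose R hR hR1 using rep
  have hR' : ∀ (F : X.Modules) (hF : RefHull.IsRef1 F), Nonempty (R ⟨PicF.cl F, F, rfl, hF⟩ ≅ F) :=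
    fun F hF => (PicGrp.cl_eq_cl_iff _ _).1 (hR _)
  -- orders of a representative
  have hord : ∀ a, ∃ v : (R a).presheaf.stalk (genericPoint ↥X), v ≠ 0 := fun a => Div57.Ref.exists_ne_zero (hR1 a)
  choose v hv using hord
  let P : X.Modules → (X → ℤ) → Prop := fun F d =>
    RefHull.IsRef1 F ∧ ∃ w : F.presheaf.stalk (genericPoint ↥X), w ≠ 0 ∧
      ∀ y : X, Order.coheight y = 1 → Div57.Ref.secOrd F y w = d y
  have hiso : ∀ {F G : X.Modules} {d : X → ℤ}, P F d → P G d → PicF.cl F = PicF.cl G := by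
    rintro F G d ⟨hF, w, hw, hwd⟩ ⟨hG, w', hw', hwd'⟩
    exact (PicGrp.cl_eq_cl_iff _ _).2 (Div57.Ref.iso_of_secOrd hX hF hG hw hw' fun y hy => by rw [hwd y hy, hwd' y hy])
  have hP : ∀ {F G : X.Modules} {d : X → ℤ}, RefHull.IsRef1 G → (F ≅ G) → P F d → P G d := by
    rintro F G d hG e ⟨hF, w, hw, hwd⟩
    exact ⟨hG, RefHull.stalkMapₗ e.hom (genericPoint ↥X) w, (fun h0 => hw (by
      have h := LinearMap.congr_fun (Div57.Ref.stalkMap_comp e.hom e.inv (genericPoint ↥X)) w
      rw [e.hom_inv_id, Div57.Ref.stalkMap_id, LinearMap.comp_apply, h0, map_zero] at h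
      exact h)), fun y hy => ((Div57.Ref.secOrd_iso hX hF hG e hy hw).2).trans (hwd y hy)⟩
  have hT : ∀ {F G : X.Modules} {d d' : X → ℤ}, P F d → P G d' →
      P (RefHull.ddual (CohB1.tensorMod F G)) (d + d') := by
    rintro F G d d' ⟨hF, w, hw, hwd⟩ ⟨hG, w', hw', hwd'⟩
    obtain ⟨h1, u, hu, hu'⟩ := Div57.Ref.exists_secOrd_tensor hX hF hG hw hw'
    exact ⟨h1, u, hu, fun y hy => by rw [hu' y hy, hwd y hy, hwd' y hy]; rfl⟩
  have hD : ∀ {F : X.Modules} {d : X → ℤ}, P F d → P (RefHull.dual F) (-d) := by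
    rintro F d ⟨hF, w, hw, hwd⟩
    obtain ⟨h1, u, hu, hu'⟩ := Div57.Ref.exists_secOrd_dual hX hF hw
    exact ⟨h1, u, hu, fun y hy => by rw [hu' y hy, hwd y hy]; rfl⟩
  let d : _ → (X → ℤ) := fun a y => Div57.Ref.secOrd (R a) y (v a)
  have hd : ∀ a, P (R a) (d a) := fun a => ⟨hR1 a, v a, hv a, fun y _ => rfl⟩
  have hPd : ∀ (F : X.Modules) (hF : RefHull.IsRef1 F), P F (d ⟨PicF.cl F, F, rfl, hF⟩) :=
    fun F hF => hP hF (hR' F hF).some (hd _)
  let mul := fun a b : {c : PicF.Cl X // ∃ F : X.Modules, PicF.cl F = c ∧ RefHull.IsRef1 F} =>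
    (⟨PicF.cl (RefHull.ddual (CohB1.tensorMod (R a) (R b))), _, rfl, (hT (hd a) (hd b)).1⟩ :
      {c : PicF.Cl X // ∃ F : X.Modules, PicF.cl F = c ∧ RefHull.IsRef1 F})
  let one : {c : PicF.Cl X // ∃ F : X.Modules, PicF.cl F = c ∧ RefHull.IsRef1 F} :=
    ⟨PicF.cl (Coh.structureModule X), _, rfl, Div57.Ref.isRef1_unit⟩
  let inv := fun a : {c : PicF.Cl X // ∃ F : X.Modules, PicF.cl F = c ∧ RefHull.IsRef1 F} =>
    (⟨PicF.cl (RefHull.dual (R a)), _, rfl, (hD (hd a)).1⟩ :
      {c : PicF.Cl X // ∃ F : X.Modules, PicF.cl F = c ∧ RefHull.IsRef1 F})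
  have hmul : ∀ a b, P (R (mul a b)) (d a + d b) := fun a b =>
    hP (hR1 _) ((PicGrp.cl_eq_cl_iff _ _).1 (hR (mul a b)).symm).some (hT (hd a) (hd b))
  have hinv : ∀ a, P (R (inv a)) (-d a) := fun a =>
    hP (hR1 _) ((PicGrp.cl_eq_cl_iff _ _).1 (hR (inv a)).symm).some (hD (hd a))
  have hone : P (R one) 0 := by
    obtain ⟨h1, w, hw, hwd⟩ := hT (hd one) (hD (hd one))
    -- the unit has all orders zero: use the generator `1`
    refine hP (hR1 _) ((PicGrp.cl_eq_cl_iff _ _).1 (hR one).symm).some ⟨Div57.Ref.isRef1_unit,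
      RefX.unitStalk (genericPoint ↥X) 1, ?_, fun y hy => ?_⟩
    · intro h0
      haveI : Nontrivial (X.presheaf.stalk (genericPoint ↥X)) := inferInstanceAs (Nontrivial X.functionField)
      exact one_ne_zero ((LinearEquiv.map_eq_zero_iff _).1 h0)
    · have hspec : Div57.Ref.spec (Coh.structureModule X) y (RefX.unitStalk y 1) =
          RefX.unitStalk (genericPoint ↥X) 1 := by
        rw [← map_one (X.presheaf.germ ⊤ y trivial).hom, Div57.Ref.unitStalk_germ, Div57.Ref.spec_germ,
          ← Div57.Ref.unitStalk_germ, map_one]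
      have hne : Div57.Ref.spec (Coh.structureModule X) y (RefX.unitStalk y 1) ≠ 0 := by
        rw [hspec]
        intro h0
        haveI : Nontrivial (X.presheaf.stalk (genericPoint ↥X)) := inferInstanceAs (Nontrivial X.functionField)
        exact one_ne_zero ((LinearEquiv.map_eq_zero_iff _).1 h0)
      rw [Div57.Ref.secOrd_eq hy (t := RefX.unitStalk y 1) (eq_top_iff.2 fun m _ =>
          Submodule.mem_span_singleton.2 ⟨(RefX.unitStalk y).symm m, by
            rw [← map_smul, smul_eq_mul, mul_one, LinearEquiv.apply_symm_apply]⟩)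
        hne (φ := 1) one_ne_zero (by rw [hspec]; exact (one_smul _ _).symm)]
      have := Scheme.ord_mul (x := y) (one_ne_zero (α := X.functionField)) (one_ne_zero (α := X.functionField))
      rw [mul_one] at this
      show Scheme.ord (1 : X.functionField) y = 0
      omega
  have hext : ∀ a b, (∃ D, P (R a) D ∧ P (R b) D) → a = b := fun a b ⟨D, h1, h2⟩ =>
    Subtype.ext (by rw [← hR a, ← hR b]; exact hiso h1 h2)
  refine ⟨mul, one, inv, fun a b => hext _ _ ⟨_, hmul a b, ?_⟩, fun a b c => ?_, fun a => ?_, fun a => ?_,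
    fun F G hF hG => ?_, rfl, fun F hF => ?_⟩
  · rw [add_comm]; exact hmul b a
  · have h1 := hiso (hT (hmul a b) (hd c))
      (show P (RefHull.ddual (CohB1.tensorMod (R a) (R (mul b c)))) (d a + d b + d c) by
        rw [add_assoc]; exact hT (hd a) (hmul b c))
    exact Subtype.ext h1
  · have h1 := hT hone (hd a)
    rw [zero_add] at h1
    exact Subtype.ext (by rw [← hR a]; exact hiso h1 (hd a))
  · have h1 := hT (hinv a) (hd a)
    rw [neg_add_cancel] at h1
    have h2 : P (Coh.structureModule X) 0 := hP Div57.Ref.isRef1_unit ((PicGrp.cl_eq_cl_iff _ _).1 (hR one)).some hone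
    exact Subtype.ext (hiso h1 h2)
  · exact hiso (hT (hd _) (hd _)) (hT (hPd F hF) (hPd G hG))
  · exact hiso (hD (hd _)) (hD (hPd F hF))

end Groth.Agent.S16085
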