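import Groth.Statements.S16086
import Groth.Agent.Div57.Ref.Class

set_option autoImplicit false
universe u
open CategoryTheory CategoryTheory.Limits AlgebraicGeometry TopologicalSpace
open SDiv

namespace Groth.Agent.S16086

/-- The class map is well defined and injective: fix a scheme X that is integral, normal and locally
Noetherian, and write η for its generic point; suppose F and G are rank one coherent reflexive
O_X-modules and let s ∈ F_η and t ∈ G_η be nonzero rational sections. At a point x of codimension 1
the stalks F_x, G_x are free of rank one over the discrete valuation ring O_{X,x}, so s and t have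
orders ord_{x,F}(s), ord_{x,G}(t). Then F ≅ G if and only if the Weil divisors of s and t are
linearly equivalent: for some nonzero rational function f one has ord_{x,F}(s) = ord_{x,G}(t) +
ord_x(f) at every point x of codimension 1. -/
theorem result (X : Scheme.{u}) [IsIntegral X] [IsLocallyNoetherian X]
    (hX : Pi1.IsNormalScheme X) (F G : X.Modules) (hF : RefHull.IsRef1 F) (hG : RefHull.IsRef1 G)
    (s : Cyc.secFibre F (genericPoint ↥X)) (hs : s ≠ 0) (t : Cyc.secFibre G (genericPoint ↥X)) (ht : t ≠ 0) :
    Nonempty (F ≅ G) ↔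
      ∃ f : ↑X.functionField, f ≠ 0 ∧
        ∀ (x : ↥X), Order.coheight x = 1 →
          Cyc.secOrdAt F (genericPoint ↥X) x ((genericPoint_spec ↥X).specializes (Set.mem_univ x)) s =
            Cyc.secOrdAt G (genericPoint ↥X) x ((genericPoint_spec ↥X).specializes (Set.mem_univ x)) t +
              Scheme.ord f x := by
  simp only [Div57.Ref.secOrdAt_eq]
  set v := (Div57.Ref.secCls F).symm s with hv
  set w := (Div57.Ref.secCls G).symm t with hw
  have hv0 : v ≠ 0 := by simpa [hv] using hs
  have hw0 : w ≠ 0 := by simpa [hw] using ht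
  have hGi := Div57.Ref.inj_of_isReflexive hG.1 hG.2.1
  constructor
  · rintro ⟨e⟩
    obtain ⟨hne, -⟩ : RefHull.stalkMapₗ e.hom (genericPoint ↥X) v ≠ 0 ∧ True := by
      refine ⟨fun h0 => hv0 ?_, trivial⟩
      have h := LinearMap.congr_fun (Div57.Ref.stalkMap_comp e.hom e.inv (genericPoint ↥X)) v
      rw [e.hom_inv_id, Div57.Ref.stalkMap_id, LinearMap.comp_apply, h0, map_zero] at h
      exact h
    obtain ⟨c, hc⟩ := Submodule.mem_span_singleton.1
      ((Div57.Ref.isGen_of_ne_zero hG.2.2 hw0).1.ge
        (Submodule.mem_top : RefHull.stalkMapₗ e.hom (genericPoint ↥X) v ∈ ⊤))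
    have hc0 : c ≠ 0 := fun h => hne (by rw [← hc, h, zero_smul])
    refine ⟨c, hc0, fun x hx => ?_⟩
    rw [← (Div57.Ref.secOrd_iso hX hF hG e hx hv0).2, ← hc,
      show Div57.Ref.secOrd G x (c • w) = Scheme.ord (show X.functionField from c) x + Div57.Ref.secOrd G x w from
        Div57.Ref.secOrd_smul hX hG.1 hGi hG.2.2 hx (c := c) hc0 hw0, add_comm]
  · rintro ⟨f, hf, h⟩
    refine Div57.Ref.iso_of_secOrd hX hF hG hv0
      (w := (show X.presheaf.stalk (genericPoint ↥X) from f) • w)
      (fun h0 => (Div57.Ref.smul_gen_eq_zero _ h0).elim hf hw0) fun y hy => ?_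
    rw [h y hy, Div57.Ref.secOrd_smul hX hG.1 hGi hG.2.2 hy hf hw0, add_comm]

end Groth.Agent.S16086
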