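import Groth.Statements.S16087
import Groth.Agent.Div57.Ref.Class

set_option autoImplicit false
universe u
open CategoryTheory CategoryTheory.Limits AlgebraicGeometry TopologicalSpace
open SDiv

namespace Groth.Agent.S16087

/-- The class map takes values in Weil divisor classes and is surjective: suppose X is a normal scheme
that is integral and locally Noetherian, and denote its generic point by η. For a rank one coherent
reflexive O_X-module F and a nonzero rational section s ∈ F_η write ord_{x,F}(s) for the order of s
with respect to a generator of the free rank one O_{X,x}-module F_x at a point x of codimension 1.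
Then (1) the function sending a codimension-1 point x to ord_{x,F}(s) and every other point to 0 has
locally finite support, so it is a Weil divisor; and (2) every Weil divisor D on X (an
integer-valued function with locally finite support vanishing outside the codimension-1 points)
arises this way: D(x) = ord_{x,F}(s) at all codimension-1 points x for some rank one coherent
reflexive F and nonzero s ∈ F_η. -/
theorem result (X : Scheme.{u}) [IsIntegral X] [IsLocallyNoetherian X]
    (hX : Pi1.IsNormalScheme X) :
    (∀ (F : X.Modules) (hF : RefHull.IsRef1 F) (s : Cyc.secFibre F (genericPoint ↥X)), s ≠ 0 →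
        ∃ D : AlgebraicCycle X ℤ, (∀ x : ↥X, Order.coheight x ≠ 1 → D x = 0) ∧
          ∀ (x : ↥X), Order.coheight x = 1 →
            D x = Cyc.secOrdAt F (genericPoint ↥X) x ((genericPoint_spec ↥X).specializes (Set.mem_univ x)) s) ∧
      ∀ D : AlgebraicCycle X ℤ, (∀ x : ↥X, Order.coheight x ≠ 1 → D x = 0) →
        ∃ (F : X.Modules) (_ : RefHull.IsRef1 F) (s : Cyc.secFibre F (genericPoint ↥X)), s ≠ 0 ∧
          ∀ (x : ↥X), Order.coheight x = 1 →
            D x = Cyc.secOrdAt F (genericPoint ↥X) x ((genericPoint_spec ↥X).specializes (Set.mem_univ x)) s := by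
  classical
  refine ⟨fun F hF s hs => ?_, fun D hD => ?_⟩
  · have hv0 : (Div57.Ref.secCls F).symm s ≠ 0 := by simpa using hs
    let d : X → ℤ := fun x =>
      if Order.coheight x = 1 then Div57.Ref.secOrd F x ((Div57.Ref.secCls F).symm s) else 0
    have hloc : ∀ z : X, ∃ t ∈ nhds z, Set.Finite (t ∩ d.support) := by
      intro z
      obtain ⟨V, hV, hzV⟩ := QCoh.exists_affine_mem z
      refine ⟨V, V.isOpen.mem_nhds hzV, (Div57.Ref.finite_secOrd hF.2.2 hV hv0).subset ?_⟩
      rintro y ⟨hy, hy'⟩
      simp only [Function.mem_support, ne_eq, d] at hy'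
      split_ifs at hy' with h1
      · exact ⟨hy, h1, hy'⟩
      · exact (hy' rfl).elim
    refine ⟨⟨d, Set.subset_univ _, fun z _ => hloc z⟩, fun x hx => if_neg hx, fun x hx => ?_⟩
    show d x = _
    rw [Div57.Ref.secOrdAt_eq]
    exact if_pos hx
  · have hfin : ∀ V : X.Opens, IsAffineOpen V → {y : X | y ∈ V ∧ Order.coheight y = 1 ∧ D y ≠ 0}.Finite := by
      intro V hV
      refine ((Function.locallyFinsupp.locallyFiniteSupport D).finite_inter_support_of_isCompact
        hV.isCompact).subset ?_
      rintro y ⟨hy, -, hy'⟩
      exact ⟨hy, hy'⟩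
    obtain ⟨e, he, hord⟩ := Div57.Ref.exists_secOrd_oD hX hfin
    refine ⟨_, Div57.Ref.isRef1_oD hX hfin, Div57.Ref.secCls _ e, by simpa using he, fun x hx => ?_⟩
    rw [Div57.Ref.secOrdAt_eq, LinearEquiv.symm_apply_apply]
    exact (hord x hx).symm

end Groth.Agent.S16087
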