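import Groth.Statements.S16092
import Groth.Agent.Div57.Ref.Class

set_option autoImplicit false
universe u
open CategoryTheory CategoryTheory.Limits AlgebraicGeometry TopologicalSpace
open SDiv

namespace Groth.Agent.S16092

/-- Let X be an integral scheme that is locally Noetherian, with generic point η, let L and N be
invertible O_X-modules and s ∈ L_η, t ∈ N_η nonzero rational sections, with orders ord_{x,L}(s),
ord_{x,N}(t) along the prime divisors, i.e. at the points x with dim O_{X,x} = 1, taken with respect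
to generators of the stalks. Then L ⊗_{O_X} N has a nonzero rational section w with ord_{x,L ⊗ N}(w)
= ord_{x,L}(s) + ord_{x,N}(t) at every such x; hence the Weil divisor class of L ⊗ N is the sum of
the classes of L and N. The published statement names w as the product s·t; here only the existence
of such a w is asserted. -/
theorem result (X : Scheme.{u}) [IsIntegral X] [IsLocallyNoetherian X] (L N : X.Modules)
    (hL : PicF.IsInvertible L) (hN : PicF.IsInvertible N) (s : Cyc.secFibre L (genericPoint ↥X)) (hs : s ≠ 0)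
    (t : Cyc.secFibre N (genericPoint ↥X)) (ht : t ≠ 0) :
    ∃ w : Cyc.secFibre (CohB1.tensorMod L N) (genericPoint ↥X), w ≠ 0 ∧
      ∀ (x : ↥X), ringKrullDim ↑(X.presheaf.stalk x) = 1 →
        Cyc.secOrdAt (CohB1.tensorMod L N) (genericPoint ↥X) x ((genericPoint_spec ↥X).specializes (Set.mem_univ x)) w =
          Cyc.secOrdAt L (genericPoint ↥X) x ((genericPoint_spec ↥X).specializes (Set.mem_univ x)) s +
            Cyc.secOrdAt N (genericPoint ↥X) x ((genericPoint_spec ↥X).specializes (Set.mem_univ x)) t := by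
  open Div57.Ref in
  haveI : Nontrivial (X.presheaf.stalk (genericPoint ↥X)) := inferInstanceAs (Nontrivial X.functionField)
  let v := (secCls L).symm s
  let w := (secCls N).symm t
  have hv : v ≠ 0 := fun h => hs ((secCls L).symm.map_eq_zero_iff.1 h)
  have hw : w ≠ 0 := fun h => ht ((secCls N).symm.map_eq_zero_iff.1 h)
  have key : ∀ x : ↥X, ∃ (a : L.presheaf.stalk x) (b : N.presheaf.stalk x) (φ ψ : X.functionField),
      H23.RatSec.IsGen a ∧ H23.RatSec.IsGen b ∧ H23.RatSec.IsGen (spec L x a) ∧ H23.RatSec.IsGen (spec N x b) ∧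
        φ ≠ 0 ∧ ψ ≠ 0 ∧ v = (show X.presheaf.stalk (genericPoint ↥X) from φ) • spec L x a ∧
        w = (show X.presheaf.stalk (genericPoint ↥X) from ψ) • spec N x b := fun x => by
    obtain ⟨a, ha, ha'⟩ := H23.RatSec.exists_gen hL x
    obtain ⟨b, hb, hb'⟩ := H23.RatSec.exists_gen hN x
    have ha1 := ha' _ (gp_specializes x)
    have hb1 := hb' _ (gp_specializes x)
    obtain ⟨φ, hφ⟩ := Submodule.mem_span_singleton.1 (ha1.1.ge (Submodule.mem_top : v ∈ ⊤))
    obtain ⟨ψ, hψ⟩ := Submodule.mem_span_singleton.1 (hb1.1.ge (Submodule.mem_top : w ∈ ⊤))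
    exact ⟨a, b, φ, ψ, ha, hb, ha1, hb1, fun h => hv (by rw [← hφ]; exact (congrArg (fun c : X.presheaf.stalk (genericPoint ↥X) => c • _) h).trans (zero_smul _ _)),
      fun h => hw (by rw [← hψ]; exact (congrArg (fun c : X.presheaf.stalk (genericPoint ↥X) => c • _) h).trans (zero_smul _ _)), hφ.symm, hψ.symm⟩
  refine ⟨secCls _ (H23.RatSecTensor.tm (genericPoint ↥X) v w), fun h => ?_, fun x hx => ?_⟩
  · obtain ⟨a, b, φ, ψ, -, -, ha1, hb1, hφ, hψ, hva, hwb⟩ := key (genericPoint ↥X)
    have h1 := (secCls (CohB1.tensorMod L N)).map_eq_zero_iff.1 h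
    rw [hva, hwb, H23.RatSecTensor.tm_smul_smul] at h1
    exact mul_ne_zero hφ hψ ((H23.RatSecTensor.isGen_tm ha1 hb1).2 _ h1)
  have hx1 : Order.coheight x = 1 := by
    rw [ringKrullDim_stalk_eq_coheight] at hx; exact_mod_cast hx
  obtain ⟨a, b, φ, ψ, ha, hb, ha1, hb1, hφ, hψ, hva, hwb⟩ := key x
  have hsp : spec (CohB1.tensorMod L N) x (H23.RatSecTensor.tm x a b) =
      H23.RatSecTensor.tm (genericPoint ↥X) (spec L x a) (spec N x b) :=
    (H23.RatSecTensor.tm_stalkSpecializes (gp_specializes x) a b).symm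
  rw [secOrdAt_eq, secOrdAt_eq, secOrdAt_eq, LinearEquiv.symm_apply_apply]
  rw [secOrd_eq hx1 ha.1 (ne_zero_of_isGen ha1) hφ hva, secOrd_eq hx1 hb.1 (ne_zero_of_isGen hb1) hψ hwb,
    ← Scheme.ord_mul hφ hψ]
  refine secOrd_eq hx1 (H23.RatSecTensor.isGen_tm ha hb).1
    (by rw [hsp]; exact ne_zero_of_isGen (H23.RatSecTensor.isGen_tm ha1 hb1)) (mul_ne_zero hφ hψ) ?_
  rw [hva, hwb, H23.RatSecTensor.tm_smul_smul, hsp]

end Groth.Agent.S16092
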