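import Groth.Statements.S16118
import Groth.Agent.AlgGrpQ.Ratl.Rational
import Groth.Agent.PicProd26.Action
import Groth.Agent.AVSquare.Completion
import Groth.Agent.GrpSchLib.UnitsScheme

set_option autoImplicit false
universe u
open CategoryTheory MonoidalCategory CartesianMonoidalCategory MonObj GrpObj AlgebraicGeometry CategoryTheory.Limits
open AlgGrp

namespace Groth.Agent.S16118

open Groth.Agent

set_option backward.isDefEq.respectTransparency false

/-- Over an algebraically closed field k, let G be a connected linear algebraic group (an affine,
smooth, connected k-group scheme) acting by σ on a normal irreducible variety X (an integral normal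
separated k-scheme of finite type), and let L be an invertible O_X-module. Then L is G-invariant:
for every k-point g of G, with translation t_g : X → X, x ↦ g · x, the inverse image t_g^*(L) is
isomorphic to L. -/
theorem result (k : Type u) [Field k] [IsAlgClosed k]
    (G X : Over (Spec (CommRingCat.of k))) [GrpObj G] [IsAffine G.left] [Smooth G.hom] [ConnectedSpace ↥G.left]
    [IsIntegral X.left] [IsSeparated X.hom] [LocallyOfFiniteType X.hom] [QuasiCompact X.hom]
    (hX : Pi1.IsNormalScheme X.left) (a : AlgGrp.Action G X)
    (g : 𝟙_ (Over (Spec (CommRingCat.of k))) ⟶ G) (L : X.left.Modules) (hL : PicF.IsInvertible L) :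
    Nonempty ((Scheme.Modules.pullback (lift (toUnit X ≫ g) (𝟙 X) ≫ a.act).left).obj L ≅ L) := by
  haveI : IsIntegral G.left := GrpSchLib.Kunneth.isIntegral_grp G
  obtain ⟨U, n, V, e, hU, he⟩ := AlgGrpQ.Ratl.exists_rational G
  exact PicProd26.nonempty_translate_iso (AVSquare.isNormalScheme_of_smooth_field G.hom)
    (PicProd26.hasChart_of_rational G U n V e hU he) hX a g L hL

end Groth.Agent.S16118
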