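import Groth.Statements.S16153
import Groth.Agent.SpinPoly.Bideg

set_option autoImplicit false
universe u
open SpinRat

namespace Groth.Agent.S16153

open MvPolynomial in
/-- In the bigraded polynomial ring k[x0, x1, y0, y1] of the quadric surface (variables X 0, X 1, X 2, X
3 in this order), over a field k of characteristic zero, let iota exchange x_i with y_i, let l = x0
y1 - x1 y0 be the diagonal, h1 = x0 (y1 - y0) + y0 (x1 - x0), h2 = x1 (y0 - y1) + y1 (x0 - x1), h3 =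
x0 y1 + x1 y0, h = h1 + h2 + h3, h13 = h1 - h3, h23 = h2 - h3, and let c = x0 x1 (x0 - x1) y0 y1 (y0
- y1) be the product of the six rulings through the three diagonal points (1:0)x(1:0), (0:1)x(0:1),
(1:1)x(1:1). Let I be the space of forms of bidegree (3,3) whose restriction to the diagonal is
divisible by (x0 x1 (x0 - x1))^2, that is, the bidegree-(3,3) forms through the length-six subscheme
of the diagonal doubled at those three points. Then the iota-invariant forms in I are exactly the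
span of c, l^2 h, l^2 h13, l^2 h23; the iota-anti-invariant forms in I are exactly the span of l
h^2, l h h13, l h h23, l h13^2, l h23^2, l h13 h23; and these ten forms are linearly independent.
(The source works over the complex numbers and writes the two eigenspaces as direct sums of the
displayed pieces; the six-line form c is read as the product of the two cubic factors.) -/
theorem result
    (k : Type u) [Field k] [CharZero k]
    (l h1 h2 h3 h h13 h23 c : MvPolynomial (Fin 4) k)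
    (hl : l = X 0 * X 3 - X 1 * X 2)
    (hh1 : h1 = X 0 * (X 3 - X 2) + X 2 * (X 1 - X 0))
    (hh2 : h2 = X 1 * (X 2 - X 3) + X 3 * (X 0 - X 1))
    (hh3 : h3 = X 0 * X 3 + X 1 * X 2)
    (hh : h = h1 + h2 + h3) (hh13 : h13 = h1 - h3) (hh23 : h23 = h2 - h3)
    (hc : c = X 0 * X 1 * (X 0 - X 1) * (X 2 * X 3 * (X 2 - X 3)))
    (I : Submodule k (MvPolynomial (Fin 4) k))
    (hI : ∀ f, f ∈ I ↔
      (f.IsWeightedHomogeneous (![1, 1, 0, 0] : Fin 4 → ℕ) 3 ∧
       f.IsWeightedHomogeneous (![0, 0, 1, 1] : Fin 4 → ℕ) 3 ∧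
       (X 0 * X 1 * (X 0 - X 1)) ^ 2 ∣ rename (![0, 1, 0, 1] : Fin 4 → Fin 2) f)) :
    (∀ f, (f ∈ I ∧ rename (![2, 3, 0, 1] : Fin 4 → Fin 4) f = f) ↔
        f ∈ Submodule.span k ({c, l ^ 2 * h, l ^ 2 * h13, l ^ 2 * h23} : Set (MvPolynomial (Fin 4) k))) ∧
    (∀ f, (f ∈ I ∧ rename (![2, 3, 0, 1] : Fin 4 → Fin 4) f = -f) ↔
        f ∈ Submodule.span k ({l * h ^ 2, l * h * h13, l * h * h23, l * h13 ^ 2, l * h23 ^ 2, l * h13 * h23} :
          Set (MvPolynomial (Fin 4) k))) ∧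
    LinearIndependent k
      ![c, l ^ 2 * h, l ^ 2 * h13, l ^ 2 * h23, l * h ^ 2, l * h * h13, l * h * h23, l * h13 ^ 2, l * h23 ^ 2,
        l * h13 * h23] := by
  subst hl hh1 hh2 hh3 hh hh13 hh23 hc
  set π : Fin 4 → Fin 2 := ![0, 1, 0, 1] with hπ
  set σ : Fin 4 → Fin 4 := ![2, 3, 0, 1] with hσ
  let W : (Fin 4 → ℕ) → ℕ → Submodule k (MvPolynomial (Fin 4) k) := fun w n => weightedHomogeneousSubmodule k w n
  have hmul : ∀ {w : Fin 4 → ℕ} {m n : ℕ} {p q : MvPolynomial (Fin 4) k}, p ∈ W w m → q ∈ W w n → p * q ∈ W w (m + n) :=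
    fun hp hq => IsWeightedHomogeneous.mul hp hq
  have hX : ∀ (w : Fin 4 → ℕ) (i : Fin 4), (X i : MvPolynomial (Fin 4) k) ∈ W w (w i) :=
    fun w i => isWeightedHomogeneous_X k w i
  have hp : ∀ (w : Fin 4 → ℕ), w = ![1, 1, 0, 0] ∨ w = ![0, 0, 1, 1] →
      (X 0 * X 3 ∈ W w 1 ∧ X 1 * X 2 ∈ W w 1 ∧ X 0 * X 2 ∈ W w 1 ∧ X 1 * X 3 ∈ W w 1 ∧
        X 2 * X 1 ∈ W w 1 ∧ X 2 * X 0 ∈ W w 1 ∧ X 3 * X 0 ∈ W w 1 ∧ X 3 * X 1 ∈ W w 1) := by
    intro w hw
    have hh : ∀ i j, w i + w j = 1 → (X i * X j : MvPolynomial (Fin 4) k) ∈ W w 1 := fun i j h => h ▸ hmul (hX w i) (hX w j)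
    rcases hw with rfl | rfl <;> refine ⟨?_, ?_, ?_, ?_, ?_, ?_, ?_, ?_⟩ <;> exact hh _ _ rfl
  set l : MvPolynomial (Fin 4) k := X 0 * X 3 - X 1 * X 2 with hl
  set h1 : MvPolynomial (Fin 4) k := X 0 * (X 3 - X 2) + X 2 * (X 1 - X 0) with hh1
  set h2 : MvPolynomial (Fin 4) k := X 1 * (X 2 - X 3) + X 3 * (X 0 - X 1) with hh2
  set h3 : MvPolynomial (Fin 4) k := X 0 * X 3 + X 1 * X 2 with hh3
  set h : MvPolynomial (Fin 4) k := h1 + h2 + h3 with hh
  set a : MvPolynomial (Fin 4) k := h1 - h3 with ha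
  set b : MvPolynomial (Fin 4) k := h2 - h3 with hb
  set c : MvPolynomial (Fin 4) k := X 0 * X 1 * (X 0 - X 1) * (X 2 * X 3 * (X 2 - X 3)) with hc
  have hq : ∀ (w : Fin 4 → ℕ), w = ![1, 1, 0, 0] ∨ w = ![0, 0, 1, 1] →
      l ∈ W w 1 ∧ h ∈ W w 1 ∧ a ∈ W w 1 ∧ b ∈ W w 1 ∧ c ∈ W w 3 := by
    intro w hw
    obtain ⟨p03, p12, p02, p13, p21, p20, p30, p31⟩ := hp w hw
    have e1 : h1 ∈ W w 1 := by
      rw [hh1, mul_sub, mul_sub]; exact add_mem (sub_mem p03 p02) (sub_mem p21 p20)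
    have e2 : h2 ∈ W w 1 := by
      rw [hh2, mul_sub, mul_sub]; exact add_mem (sub_mem p12 p13) (sub_mem p30 p31)
    have e3 : h3 ∈ W w 1 := add_mem p03 p12
    have e4 : c ∈ W w 3 := by
      have : c = (X 0 * X 2) * (X 1 * X 3) * (X 0 * X 2 - X 0 * X 3 - (X 1 * X 2 - X 1 * X 3)) := by
        rw [hc]; ring
      rw [this]
      exact hmul (hmul p02 p13) (sub_mem (sub_mem p02 p03) (sub_mem p12 p13))
    exact ⟨sub_mem p03 p12, add_mem (add_mem e1 e2) e3, sub_mem e1 e3, sub_mem e2 e3, e4⟩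
  have hrest : rename π l = 0 := by simp [hl, hπ, mul_comm]
  have mkI : ∀ x y : MvPolynomial (Fin 4) k, x ∈ W ![1, 1, 0, 0] 2 → x ∈ W ![0, 0, 1, 1] 2 → y = l * x → y ∈ I := by
    intro x y x1 x2 hy
    refine (hI y).2 ⟨?_, ?_, ?_⟩
    · exact hy ▸ hmul (hq _ (Or.inl rfl)).1 x1
    · exact hy ▸ hmul (hq _ (Or.inr rfl)).1 x2
    · rw [hy, map_mul, hrest, zero_mul]; exact dvd_zero _
  have cI : c ∈ I := (hI c).2 ⟨(hq _ (Or.inl rfl)).2.2.2.2, (hq _ (Or.inr rfl)).2.2.2.2,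
    ⟨1, by simp [hc, hπ]; ring⟩⟩
  obtain ⟨l1, w1h, w1a, w1b, -⟩ := hq _ (Or.inl rfl)
  obtain ⟨l2, w2h, w2a, w2b, -⟩ := hq _ (Or.inr rfl)
  have sl : rename σ l = -l := by simp [hl, hσ]; ring
  have sh : rename σ h = h := by simp [hh, hh1, hh2, hh3, hσ]; ring
  have sa : rename σ a = a := by simp [ha, hh1, hh3, hσ]; ring
  have sb : rename σ b = b := by simp [hb, hh2, hh3, hσ]; ring
  have scc : rename σ c = c := by simp [hc, hσ]; ring
  have coef : ∀ f ∈ I, f = Groth.Agent.SpinPoly.form fun i j => coeff (Groth.Agent.SpinPoly.expo i j) f :=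
    fun f hf => Groth.Agent.SpinPoly.eq_form f ((hI f).1 hf).1 ((hI f).1 hf).2.1
  refine ⟨fun f => ⟨?_, ?_⟩, fun f => ⟨?_, ?_⟩, ?_⟩
  · rintro ⟨hf, hs⟩
    set z := fun i j => coeff (Groth.Agent.SpinPoly.expo i j) f with hz
    have hfz : f = Groth.Agent.SpinPoly.form z := coef f hf
    have hsym : ∀ i j, z j i = z i j := fun i j => by
      have := Groth.Agent.SpinPoly.coeff_swap f i j
      rwa [← hσ, hs] at this
    have hd : (X 0 * X 1 * (X 0 - X 1)) ^ 2 ∣ rename π (Groth.Agent.SpinPoly.form z) := hfz ▸ ((hI f).1 hf).2.2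
    obtain ⟨c0, c1, c6, c5, ce, cd⟩ := Groth.Agent.SpinPoly.restrict_conditions z hd
    simp [Fin.sum_univ_four, hsym 0 1, hsym 0 2, hsym 0 3, hsym 1 2, hsym 1 3, hsym 2 3] at c1 c5 ce cd
    have z01 : z 0 1 = 0 := by linear_combination c1
    have z23 : z 2 3 = 0 := by linear_combination c5
    have z02 : z 0 2 = -((z 0 3 + z 1 1 + z 1 2) / 2) := by
      linear_combination ce - (1/4 : k) * cd - c0 - (3/2 : k) * z01 + (1/2 : k) * z23 + (1/2 : k) * c6
    have z22 : z 2 2 = -(z 0 3 + z 1 2 + 2 * z 1 3) := by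
      linear_combination (1/2 : k) * cd - ce + c0 + z01 - 3 * z23 - 2 * c6
    have z11 : z 1 1 = -(2 * z 0 2) - z 0 3 - z 1 2 := by linear_combination (2 : k) * z02
    have key : (12 : MvPolynomial (Fin 4) k) * f = -12 * (C (z 0 3) + C (z 1 2)) * c + 4 * C (z 0 3) * (l ^ 2 * h) +
        (-4 * C (z 0 3) - 6 * C (z 1 3)) * (l ^ 2 * a) + (-6 * C (z 0 2) - 4 * C (z 0 3)) * (l ^ 2 * b) := by
      rw [hfz]
      simp [Groth.Agent.SpinPoly.form, Fin.sum_univ_four, hsym 0 1, hsym 0 2, hsym 0 3, hsym 1 2, hsym 1 3,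
        hsym 2 3, c0, c6, z01, z23, z22, z11, hc, hl, hh, ha, hb, hh1, hh2, hh3, map_ofNat]
      ring
    have h12 : (12 : k) ≠ 0 := by norm_num
    have key' : (12 : k) • f = (-12 * (z 0 3 + z 1 2)) • c + (4 * z 0 3) • (l ^ 2 * h) +
        (-4 * z 0 3 - 6 * z 1 3) • (l ^ 2 * a) + (-6 * z 0 2 - 4 * z 0 3) • (l ^ 2 * b) := by
      simp only [MvPolynomial.smul_eq_C_mul, map_add, map_sub, map_mul, map_neg, map_ofNat]
      linear_combination key
    rw [show f = (12 : k)⁻¹ • ((12 : k) • f) by rw [smul_smul, inv_mul_cancel₀ h12, one_smul], key']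
    refine Submodule.smul_mem _ _ (add_mem (add_mem (add_mem ?_ ?_) ?_) ?_) <;>
      exact Submodule.smul_mem _ _ (Submodule.subset_span (by simp))
  · intro hf
    refine Submodule.span_induction ?_ ?_ ?_ ?_ hf
    · rintro x (rfl | rfl | rfl | rfl)
      · exact ⟨cI, scc⟩
      · exact ⟨mkI (l * h) _ (hmul l1 w1h) (hmul l2 w2h) (by ring), by simp [sl, sh]⟩
      · exact ⟨mkI (l * a) _ (hmul l1 w1a) (hmul l2 w2a) (by ring), by simp [sl, sa]⟩
      · exact ⟨mkI (l * b) _ (hmul l1 w1b) (hmul l2 w2b) (by ring), by simp [sl, sb]⟩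
    · exact ⟨zero_mem _, map_zero _⟩
    · exact fun x y _ _ hx hy => ⟨add_mem hx.1 hy.1, by rw [map_add, hx.2, hy.2]⟩
    · exact fun r x _ hx => ⟨Submodule.smul_mem _ r hx.1, by rw [map_smul, hx.2]⟩
  · rintro ⟨hf, hs⟩
    set z := fun i j => coeff (Groth.Agent.SpinPoly.expo i j) f with hz
    have hfz : f = Groth.Agent.SpinPoly.form z := coef f hf
    have hanti : ∀ i j, z j i = -z i j := fun i j => by
      have := Groth.Agent.SpinPoly.coeff_swap f i j
      rw [← hσ, hs] at this; rw [show coeff (Groth.Agent.SpinPoly.expo j i) (-f) = -z j i from map_neg (lcoeff k _) f] at this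
      exact neg_eq_iff_eq_neg.1 this
    have hdiag : ∀ i, z i i = 0 := fun i => by
      have : (2 : k) * z i i = 0 := by linear_combination hanti i i
      simpa using this
    have key : (36 : k) • f = (-4 * z 0 3) • (l * h ^ 2) + (8 * z 0 3 + 6 * z 1 3) • (l * h * a) +
        (6 * z 0 2 + 8 * z 0 3) • (l * h * b) + (-4 * z 0 3 - 6 * z 1 3 - 9 * z 2 3) • (l * a ^ 2) +
        (-9 * z 0 1 - 6 * z 0 2 - 4 * z 0 3) • (l * b ^ 2) +
        (-6 * z 0 2 + z 0 3 - 9 * z 1 2 - 6 * z 1 3) • (l * a * b) := by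
      rw [hfz]
      simp only [MvPolynomial.smul_eq_C_mul, map_add, map_sub, map_mul, map_neg, map_ofNat]
      simp [Groth.Agent.SpinPoly.form, Fin.sum_univ_four, hanti 0 1, hanti 0 2, hanti 0 3, hanti 1 2, hanti 1 3,
        hanti 2 3, hdiag, hl, hh, ha, hb, hh1, hh2, hh3]
      ring
    have h36 : (36 : k) ≠ 0 := by norm_num
    rw [show f = (36 : k)⁻¹ • ((36 : k) • f) by rw [smul_smul, inv_mul_cancel₀ h36, one_smul], key]
    refine Submodule.smul_mem _ _ (add_mem (add_mem (add_mem (add_mem (add_mem ?_ ?_) ?_) ?_) ?_) ?_) <;>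
      exact Submodule.smul_mem _ _ (Submodule.subset_span (by simp [mul_assoc]))
  · intro hf
    refine Submodule.span_induction ?_ ?_ ?_ ?_ hf
    · rintro x (rfl | rfl | rfl | rfl | rfl | rfl)
      · exact ⟨mkI (h * h) _ (hmul w1h w1h) (hmul w2h w2h) (by ring), by simp [sl, sh]⟩
      · exact ⟨mkI (h * a) _ (hmul w1h w1a) (hmul w2h w2a) (by ring), by simp [sl, sh, sa]⟩
      · exact ⟨mkI (h * b) _ (hmul w1h w1b) (hmul w2h w2b) (by ring), by simp [sl, sh, sb]⟩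
      · exact ⟨mkI (a * a) _ (hmul w1a w1a) (hmul w2a w2a) (by ring), by simp [sl, sa]⟩
      · exact ⟨mkI (b * b) _ (hmul w1b w1b) (hmul w2b w2b) (by ring), by simp [sl, sb]⟩
      · exact ⟨mkI (a * b) _ (hmul w1a w1b) (hmul w2a w2b) (by ring), by simp [sl, sa, sb]⟩
    · exact ⟨zero_mem _, by simp⟩
    · exact fun x y _ _ hx hy => ⟨add_mem hx.1 hy.1, by rw [map_add, hx.2, hy.2, neg_add]⟩
    · exact fun r x _ hx => ⟨Submodule.smul_mem _ r hx.1, by rw [map_smul, hx.2, smul_neg]⟩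
  · rw [Fintype.linearIndependent_iff]
    intro g hg
    have hT : Groth.Agent.SpinPoly.form (
        ![![0, (-4 : k) * g 4 + (-4 : k) * g 6 + (-4 : k) * g 8, (-2 : k) * g 1 + (-2 : k) * g 3 + (12 : k) * g 4 + (6 : k) * g 6, (3 : k) * g 1 + (-9 : k) * g 4],
        ![(4 : k) * g 4 + (4 : k) * g 6 + (4 : k) * g 8, (1 : k) * g 0 + (4 : k) * g 1 + (4 : k) * g 3, (-1 : k) * g 0 + (-3 : k) * g 1 + (-17 : k) * g 4 + (-4 : k) * g 5 + (-4 : k) * g 6 + (-4 : k) * g 9, (-2 : k) * g 1 + (-2 : k) * g 2 + (12 : k) * g 4 + (6 : k) * g 5],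
        ![(-2 : k) * g 1 + (-2 : k) * g 3 + (-12 : k) * g 4 + (-6 : k) * g 6, (-1 : k) * g 0 + (-3 : k) * g 1 + (17 : k) * g 4 + (4 : k) * g 5 + (4 : k) * g 6 + (4 : k) * g 9, (1 : k) * g 0 + (4 : k) * g 1 + (4 : k) * g 2, (-4 : k) * g 4 + (-4 : k) * g 5 + (-4 : k) * g 7],
        ![(3 : k) * g 1 + (9 : k) * g 4, (-2 : k) * g 1 + (-2 : k) * g 2 + (-12 : k) * g 4 + (-6 : k) * g 5, (4 : k) * g 4 + (4 : k) * g 5 + (4 : k) * g 7, 0]]) = 0 := by
      refine Eq.trans ?_ hg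
      simp [Groth.Agent.SpinPoly.form, Fin.sum_univ_four, Fin.sum_univ_succ, MvPolynomial.smul_eq_C_mul,
        hc, hl, hh, ha, hb, hh1, hh2, hh3, map_ofNat]
      ring
    have z : ∀ i j : Fin 4, _ = (0 : k) := fun i j =>
      (Groth.Agent.SpinPoly.coeff_form _ i j).symm.trans ((congrArg _ hT).trans (coeff_zero _))
    have w00 := z 0 0
    have w01 := z 0 1
    have w02 := z 0 2
    have w03 := z 0 3
    have w10 := z 1 0
    have w11 := z 1 1
    have w12 := z 1 2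
    have w13 := z 1 3
    have w20 := z 2 0
    have w21 := z 2 1
    have w22 := z 2 2
    have w23 := z 2 3
    have w30 := z 3 0
    have w31 := z 3 1
    have w32 := z 3 2
    have w33 := z 3 3
    simp only [Matrix.cons_val_zero, Matrix.cons_val_one, Matrix.cons_val, Fin.isValue] at w01 w02 w03 w10 w11 w12 w13 w20 w21 w22 w23 w30 w31 w32
    intro i
    fin_cases i
    · show g 0 = 0
      linear_combination (1 : k) / 1 * w02 + (1 : k) / 1 * w11 + (1 : k) / 1 * w20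
    · show g 1 = 0
      linear_combination (-1 : k) / 3 * w02 + (-1 : k) / 3 * w11 + (-1 : k) / 6 * w12 + (-1 : k) / 3 * w20 + (-1 : k) / 6 * w21
    · show g 2 = 0
      linear_combination (1 : k) / 12 * w02 + (1 : k) / 12 * w11 + (1 : k) / 6 * w12 + (1 : k) / 12 * w20 + (1 : k) / 6 * w21 + (1 : k) / 4 * w22
    · show g 3 = 0
      linear_combination (1 : k) / 12 * w02 + (1 : k) / 3 * w11 + (1 : k) / 6 * w12 + (1 : k) / 12 * w20 + (1 : k) / 6 * w21
    · show g 4 = 0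
      linear_combination (-1 : k) / 9 * w02 + (-1 : k) / 9 * w03 + (-1 : k) / 9 * w11 + (-1 : k) / 18 * w12 + (-1 : k) / 9 * w20 + (-1 : k) / 18 * w21
    · show g 5 = 0
      linear_combination (5 : k) / 36 * w02 + (2 : k) / 9 * w03 + (5 : k) / 36 * w11 + (1 : k) / 9 * w12 + (1 : k) / 6 * w13 + (5 : k) / 36 * w20 + (1 : k) / 9 * w21 + (1 : k) / 12 * w22
    · show g 6 = 0
      linear_combination (11 : k) / 36 * w02 + (2 : k) / 9 * w03 + (2 : k) / 9 * w11 + (1 : k) / 9 * w12 + (5 : k) / 36 * w20 + (1 : k) / 9 * w21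
    · show g 7 = 0
      linear_combination (-1 : k) / 36 * w02 + (-1 : k) / 9 * w03 + (-1 : k) / 36 * w11 + (-1 : k) / 18 * w12 + (-1 : k) / 6 * w13 + (-1 : k) / 36 * w20 + (-1 : k) / 18 * w21 + (-1 : k) / 12 * w22 + (-1 : k) / 4 * w23
    · show g 8 = 0
      linear_combination (-7 : k) / 36 * w02 + (-1 : k) / 9 * w03 + (1 : k) / 4 * w10 + (-1 : k) / 9 * w11 + (-1 : k) / 18 * w12 + (-1 : k) / 36 * w20 + (-1 : k) / 18 * w21
    · show g 9 = 0
      linear_combination (1 : k) / 36 * w02 + (1 : k) / 36 * w03 + (1 : k) / 9 * w11 + (-1 : k) / 9 * w12 + (-1 : k) / 6 * w13 + (7 : k) / 36 * w20 + (5 : k) / 36 * w21 + (-1 : k) / 12 * w22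

end Groth.Agent.S16153
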