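import Groth.Statements.S1623
import Groth.Agent.ResSurf.BlowTwo
import Groth.Agent.QCoh.Bound

set_option autoImplicit false
universe u
open CategoryTheory CategoryTheory.Limits AlgebraicGeometry
open Resolve

namespace Groth.Agent.S1623

/-- Let A be a regular local ring of dimension two and b : X → Spec A a blowing up in the maximal ideal.
For every quasi-coherent O_X-module F and every p ≥ 2, H^p(X, F) = 0. -/
theorem result (A : Type u) [CommRing A] [IsRegularLocalRing A] (hA : ringKrullDim A = 2)
    (X : Scheme.{u}) (b : X ⟶ Spec (CommRingCat.of A)) (hb : BlowUp.IsBlowUp b (Curv2.idealSheaf A (IsLocalRing.maximalIdeal A)))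
    (F : X.Modules) (hF : Coh.IsQCoh F) (p : ℕ) (hp : 2 ≤ p) : Subsingleton (Coh.HH X F p) := by
  obtain ⟨c⟩ := Groth.Agent.ResSurf.exists_twoCharts_point A hA hb
  have hp' : IsProper b := Groth.Agent.BlowUpLib.isProper_of_isBlowUp _ hb fun U => by
    have := IsLocallyNoetherian.component_noetherian U
    exact IsNoetherian.noetherian _
  have : X.IsSeparated := ⟨by
    rw [← Limits.terminal.comp_from b]
    infer_instance⟩
  refine Groth.Agent.QCoh.HH_subsingleton_of_cover 2 ![c.U, c.V] ?_ ?_ (fun V W hV hW => hV.inf hW) hF p hp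
  · intro i
    fin_cases i
    · exact c.isAffine_U
    · exact c.isAffine_V
  · refine top_le_iff.1 (c.sup_eq_top.ge.trans (sup_le ?_ ?_))
    · exact le_iSup ![c.U, c.V] 0
    · exact le_iSup ![c.U, c.V] 1

end Groth.Agent.S1623
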