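import Groth.Statements.S16257
import Groth.Agent.CurveExc51.Points
import Groth.Agent.CdLib.Devissage
import Groth.Agent.CdLib.Supp
import Groth.Agent.EtFound.AbRecollement
import Groth.Agent.S0071
import Groth.Agent.S0088
import Groth.Agent.S0647
import Groth.Agent.S0648
import Groth.Agent.GalDual.EtTransfer
import Mathlib.AlgebraicGeometry.IdealSheaf.Subscheme
import Mathlib.AlgebraicGeometry.ZariskisMainTheorem

set_option autoImplicit false
universe u
open CategoryTheory CategoryTheory.Limits AlgebraicGeometry Opposite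
open FinFr

set_option linter.style.haveILetI false
set_option backward.isDefEq.respectTransparency false
set_option backward.isDefEq.respectTransparency.types false

namespace Groth.Agent.S16257

theorem isAlgClosed_residueField {k : Type u} [Field k] [IsAlgClosed k] {Y : Scheme.{u}}
    (g : Y ⟶ Spec (CommRingCat.of k)) [LocallyOfFiniteType g] {y : Y} (hy : IsClosed ({y} : Set Y)) :
    IsAlgClosed (Y.residueField y) := by
  haveI : JacobsonSpace Y := LocallyOfFiniteType.jacobsonSpace g
  haveI : LocallyOfFiniteType (Y.fromSpecResidueField y) := isClosed_singleton_iff_locallyOfFiniteType.1 hy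
  obtain ⟨ψ, hψ⟩ := Spec.map_surjective (Y.fromSpecResidueField y ≫ g)
  have hft : ψ.hom.FiniteType := by
    rw [← HasRingHomProperty.Spec_iff (P := @LocallyOfFiniteType), hψ]
    infer_instance
  letI := ψ.hom.toAlgebra
  haveI : Algebra.FiniteType k (Y.residueField y) := hft
  haveI : Module.Finite k (Y.residueField y) := finite_of_finite_type_of_isJacobsonRing k _
  exact IsAlgClosed.of_ringEquiv k (Y.residueField y)
    (RingEquiv.ofBijective (algebraMap k (Y.residueField y))
      (IsAlgClosed.algebraMap_bijective_of_isIntegral (k := k)))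

open Groth.Agent.EtFound in
/-- A sheaf supported on a closed subscheme finite over an algebraically closed field is acyclic. -/
theorem subsingleton_H_of_supp {K : Type u} [Field K] [IsAlgClosed K] {P C : Scheme.{u}} (c : C ⟶ P)
    [IsClosedImmersion c] (g : C ⟶ Spec (CommRingCat.of K)) [IsFinite g]
    (G : EtCoh.Ab P) (hG : EtPBC.supp G ⊆ Set.range c.base) (q : ℕ) (hq : 1 ≤ q) :
    Subsingleton (EtCoh.H P G q) := by
  haveI : IsAffine C := isAffine_of_isAffineHom g
  have h1 : ∀ s : C, IsClosed ({s} : Set C) := fun s => by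
    have hd := g.isDiscrete_preimage_singleton (g.base s)
    have huniv : g.base ⁻¹' {g.base s} = Set.univ := Set.eq_univ_of_forall fun t => Subsingleton.elim (α := Spec (CommRingCat.of K)) _ _
    rw [huniv] at hd
    haveI : DiscreteTopology C := isDiscrete_univ_iff.1 hd
    exact isClosed_discrete _
  have h0 : ∀ (i : ℕ) (G' : EtCoh.Ab C), 1 ≤ i → Subsingleton (EtCoh.H C G' i) := fun i G' hi =>
    S0088.result C h1 (fun s => by haveI := isAlgClosed_residueField g (h1 s); infer_instance) G' i hi
  have hiso : IsIso ((EtCoh.pullPushAdj c).unit.app G) := by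
    refine (isIso_iff_stalks _).2 fun Ω _ _ ξ => ?_
    by_cases hξ : ξ.base (default : Spec (CommRingCat.of Ω)) ∈ Set.range c.base
    · exact isIso_stalk_unit_closed c G ξ hξ
    · exact (CdLib.Supp.isZero_stalk_of_notMem ξ fun h => hξ (hG h)).isIso (isZero_stalk_push_closed c _ ξ hξ) _
  haveI : Subsingleton ↑((EtCoh.HF P q).obj ((EtCoh.push c).obj ((EtCoh.pull c).obj G))) :=
    CdLib.Devissage.subsingleton_H_push c _ q (h0 q _ hq) fun a b _ =>
      CdLib.Devissage.subsingleton_H_of_isZero _ (S0071.result _ _ (b + 1) (by omega)) a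
  exact @Equiv.subsingleton _ _
    ((EtCoh.HF P q).mapIso (asIso ((EtCoh.pullPushAdj c).unit.app G))).addCommGroupIsoToAddEquiv.toEquiv ‹_›

/-- Let k be a field, K an algebraic closure of k, X₀ a smooth, separated, geometrically irreducible
k-curve of finite type, j : X₀ ⟶ P₀ an open immersion into a proper k-scheme (a compactification,
through which compactly supported cohomology is computed as H^*(P₀ ⊗_k K, j_!(-))), i : U₀ ⟶ X₀ the
inclusion of a non-empty open subscheme, and F an abelian étale sheaf on X₀ killed by an integer ν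
invertible in k. Then the canonical map H^2_c(U₀ ⊗_k K, F|U) ⟶ H^2_c(X₀ ⊗_k K, F), namely the map
induced on H^2(P₀ ⊗_k K, -) by j_! of the counit i_! i^{-1} F ⟶ F, is bijective. (The published
statement is for an arbitrary constructible ℓ-adic sheaf with Q̄_ℓ-coefficients; the statement here
is the finite-coefficient form of its excision argument, over any base field.) -/
theorem result
    (k K : Type u) [Field k] [Field K] [Algebra k K] [IsAlgClosed K] [Algebra.IsAlgebraic k K]
    {X₀ P₀ U₀ : Scheme.{u}} (a : X₀ ⟶ Spec (CommRingCat.of k))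
    [SmoothOfRelativeDimension 1 a] [IsSeparated a] [QuasiCompact a] [GeometricallyIrreducible a]
    (j : X₀ ⟶ P₀) [IsOpenImmersion j] [EtShriek.JCont j] (b : P₀ ⟶ Spec (CommRingCat.of k)) [IsProper b]
    (hj : j ≫ b = a) (i : U₀ ⟶ X₀) [IsOpenImmersion i] [EtShriek.JCont i] [Nonempty ↥U₀]
    (ν : ℕ) (hν : (ν : k) ≠ 0) (F : EtCoh.Ab X₀) (hF : EtCoh.KilledBy ν F) :
    Function.Bijective (Sheaf.H.map ((EtCoh.pull (FinFr.extπ K b)).map
      ((EtShriek.extZero j).map ((EtShriek.extZeroAdj i).counit.app F))) 2) := by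
  haveI : Smooth a := SmoothOfRelativeDimension.smooth 1 a
  haveI : CompactSpace X₀ := QuasiCompact.compactSpace_of_compactSpace a
  haveI : IsLocallyNoetherian X₀ := LocallyOfFiniteType.isLocallyNoetherian a
  haveI : IsNoetherian X₀ := {}
  haveI : IrreducibleSpace X₀ := GeometricallyIrreducible.irreducibleSpace_of_subsingleton a
  let Zc : Set X₀ := (Set.range i.base)ᶜ
  have hZc : IsClosed Zc := i.isOpenEmbedding.isOpen_range.isClosed_compl
  have hne : Zc ≠ Set.univ := fun h => by
    obtain ⟨u⟩ := (inferInstance : Nonempty U₀)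
    exact (Set.eq_univ_iff_forall.1 h (i.base u)) ⟨u, rfl⟩
  obtain ⟨hfin, hcl⟩ := CurveExc51.finite_compl a hZc hne
  let I := Scheme.IdealSheafData.vanishingIdeal (⟨Zc, hZc⟩ : TopologicalSpace.Closeds X₀)
  let z : I.subscheme ⟶ X₀ := I.subschemeι
  have hz : Set.range z.base = Zc := by
    rw [Scheme.IdealSheafData.range_subschemeι]
    simp [I]
  obtain ⟨w, hS⟩ := EtFound.recollement_shortExact z i (by rw [hz]; exact (compl_compl _).symm) F
  haveI := S0648.result j
  haveI : PreservesFiniteColimits (EtShriek.extZero j) :=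
    haveI : (EtShriek.extZero j).IsLeftAdjoint := (EtShriek.extZeroAdj j).isLeftAdjoint
    inferInstance
  let η := FinFr.extπ K b
  haveI := CdLib.Devissage.pull_preservesFiniteLimits η
  haveI : (EtShriek.extZero j).Additive := inferInstance
  haveI : (EtCoh.pull η).IsLeftAdjoint := (EtCoh.pullPushAdj η).isLeftAdjoint
  haveI : (EtCoh.pull η).Additive := (EtCoh.pullPushAdj η).left_adjoint_additive
  have hS' := (hS.map_of_exact (EtShriek.extZero j)).map_of_exact (EtCoh.pull η)
  -- the image of `Z` in `P₀` is closed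
  haveI : LocallyOfFiniteType b := inferInstance
  haveI : JacobsonSpace P₀ := LocallyOfFiniteType.jacobsonSpace b
  haveI : JacobsonSpace X₀ := LocallyOfFiniteType.jacobsonSpace a
  have himg : IsClosed (j.base '' Zc) := by
    rw [← Set.biUnion_of_singleton (j.base '' Zc)]
    refine (hfin.image _).isClosed_biUnion ?_
    rintro _ ⟨x, hx, rfl⟩
    haveI : LocallyOfFiniteType (X₀.fromSpecResidueField x) := isClosed_singleton_iff_locallyOfFiniteType.1 (hcl x hx)
    refine isClosed_singleton_iff_locallyOfFiniteType.2 ?_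
    have h : LocallyOfFiniteType (Spec.map (j.residueFieldMap x) ≫ P₀.fromSpecResidueField (j.base x)) := by
      rw [Scheme.Hom.SpecMap_residueFieldMap_fromSpecResidueField]; infer_instance
    exact (MorphismProperty.cancel_left_of_respectsIso @LocallyOfFiniteType _ _).1 h
  haveI : IsClosedImmersion (z ≫ j) := IsClosedImmersion.of_isPreimmersion _ (by
    rw [Scheme.Hom.comp_base, TopCat.coe_comp, Set.range_comp, hz]; exact himg)
  haveI : Finite I.subscheme := by
    have := (hfin.preimage z.isEmbedding.injective.injOn)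
    rw [← hz, Set.preimage_range] at this
    exact Set.finite_univ_iff.1 this
  haveI : IsProper ((z ≫ j) ≫ b) := inferInstance
  haveI : LocallyQuasiFinite ((z ≫ j) ≫ b) :=
    LocallyQuasiFinite.of_finite_preimage_singleton _ fun _ => Set.toFinite _
  haveI : IsFinite ((z ≫ j) ≫ b) := IsFinite.of_isProper_of_locallyQuasiFinite _
  let c := pullback.snd (z ≫ j) η
  let g := pullback.snd ((z ≫ j) ≫ b) (FinFr.specι k K)
  haveI : IsFinite (c ≫ FinFr.extStr K b) := by
    have sq := (IsPullback.of_hasPullback (z ≫ j) η).flip.paste_horiz (IsPullback.of_hasPullback b (FinFr.specι k K)).flip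
    exact MorphismProperty.of_isPullback sq.flip (inferInstance : IsFinite ((z ≫ j) ≫ b))
  have hsupp : EtPBC.supp ((EtCoh.pull η).obj ((EtShriek.extZero j).obj ((EtCoh.push z).obj ((EtCoh.pull z).obj F))))
      ⊆ Set.range c.base := by
    intro x hx
    rw [Scheme.Pullback.range_snd, Set.mem_preimage]
    have hx' := CdLib.Supp.supp_pull_subset η _ hx
    obtain ⟨Ω, _, _, ξ, hξ, hne'⟩ := CdLib.Supp.exists_of_mem_supp hx'
    by_contra hnot
    obtain ⟨iso⟩ := S0647.result j ((EtCoh.push z).obj ((EtCoh.pull z).obj F)) ξ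
    refine hne' (IsZero.of_iso ?_ iso)
    rw [IsZero.iff_id_eq_zero]
    refine Sigma.hom_ext _ _ fun u => ?_
    refine (EtFound.isZero_stalk_push_closed z _ u.1 fun hu => hnot ?_).eq_of_src _ _
    obtain ⟨y, hy⟩ := hu
    refine ⟨y, ?_⟩
    rw [Scheme.Hom.comp_apply, hy, ← Scheme.Hom.comp_apply, u.2]
    exact hξ
  have hvan : ∀ q, 1 ≤ q → Subsingleton (EtCoh.H (FinFr.ext K b)
      ((EtCoh.pull η).obj ((EtShriek.extZero j).obj ((EtCoh.push z).obj ((EtCoh.pull z).obj F)))) q) :=
    fun q hq => subsingleton_H_of_supp c (c ≫ FinFr.extStr K b) _ hsupp q hq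
  refine ⟨fun x y hxy => ?_, fun y => ?_⟩
  · rw [← sub_eq_zero]
    have h0 : (x - y).comp (Abelian.Ext.mk₀ ((EtCoh.pull η).map ((EtShriek.extZero j).map ((EtShriek.extZeroAdj i).counit.app F)))) (add_zero 2) = 0 := by
      rw [sub_eq_add_neg, Abelian.Ext.add_comp, Abelian.Ext.neg_comp, ← sub_eq_add_neg, sub_eq_zero]
      exact hxy
    obtain ⟨t, ht⟩ := Abelian.Ext.covariant_sequence_exact₁ _ hS' (x - y) h0 (rfl : 1 + 1 = 2)
    rw [← ht, show t = 0 from (hvan 1 le_rfl).elim _ _, Abelian.Ext.zero_comp]
  · obtain ⟨t, ht⟩ := Abelian.Ext.covariant_sequence_exact₂ _ hS' y ((hvan 2 (by omega)).elim _ _)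
    exact ⟨t, ht⟩

end Groth.Agent.S16257
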