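import Groth.Statements.S16258
import Groth.Agent.S0649
import Groth.Agent.S0651
import Groth.Agent.S0086
import Groth.Agent.EtFound.GermSupp
import Groth.Agent.EtFound.AbRecollement
import Groth.Agent.EtFound.Strata
import Groth.Agent.EtLimCore.Degree0
import Groth.Agent.GalDual.EtTransfer
import Mathlib.AlgebraicGeometry.Geometrically.Irreducible

set_option autoImplicit false
universe u
open CategoryTheory CategoryTheory.Limits AlgebraicGeometry Opposite
open FinFr

set_option linter.style.haveILetI false
set_option backward.isDefEq.respectTransparency false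
set_option backward.isDefEq.respectTransparency.types false

namespace Groth.Agent.S16258

open Groth.Agent.EtFound in
/-- A sheaf supported in a connected non-closed open on which it is locally constant has no sections. -/
theorem subsingleton_H_zero {P U : Scheme.{u}} (j : U ⟶ P) [IsOpenImmersion j] [ConnectedSpace ↥U]
    (hj : ¬ IsClosed (Set.range j.base)) (G : EtCoh.Ab P)
    (hflc : EtCoh.IsFiniteLocallyConstant ((EtCoh.pull j).obj G))
    (hzero : ∀ (Ω : Type u) [Field Ω] [IsSepClosed Ω] (ξ : Spec (CommRingCat.of Ω) ⟶ P),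
      ξ.base (default : Spec (CommRingCat.of Ω)) ∉ Set.range j.base → IsZero ((EtCoh.stalk ξ).obj G)) :
    Subsingleton (EtCoh.H P G 0) := by
  have key : ∀ s : G.obj.obj (op (EtCoh.top P)), s = 0 := by
    intro s
    let D := germSupp G (EtCoh.top P) s
    let h : (EtCoh.top P).left ⟶ P := (EtCoh.top P).hom
    have hh : h = 𝟙 P := rfl
    have hsub : (D : Set P) ⊆ Set.range j.base := by
      intro q hq
      by_contra hqj
      obtain ⟨k, _, _, ξ, z, hz⟩ := exists_algClosed_point (EtCoh.top P) q
      have hξ : ξ.base (default : Spec (CommRingCat.of k)) ∉ Set.range j.base := by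
        rw [← base_of_point z]
        have : ptOf z = q := hz
        subst this
        exact hqj
      have hs := AddCommGrpCat.subsingleton_of_isZero (hzero k ξ hξ)
      subst hz
      exact ((mem_germSupp_iff s z).1 hq) (hs.elim _ _)
    have hDclosed : IsClosed (D : Set P) := isClosed_germSupp G (EtCoh.top P) s
    obtain ⟨O, hO, hOD⟩ := exists_isOpen_germSupp j hflc (EtCoh.top P) s
    have hOD' : Set.range j.base ∩ O = (D : Set P) :=
      hOD.trans (Set.inter_eq_right.2 hsub)
    have hclopen : IsClopen (j.base ⁻¹' (D : Set P)) :=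
      ⟨hDclosed.preimage j.continuous, by
        rw [← hOD']
        exact (j.isOpenEmbedding.isOpen_range.inter hO).preimage j.continuous⟩
    have hD : (D : Set P) = ∅ := by
      rcases isClopen_iff.1 hclopen with he | he
      · rw [Set.eq_empty_iff_forall_notMem]
        intro q hq
        obtain ⟨x, rfl⟩ := hsub hq
        exact (Set.eq_empty_iff_forall_notMem.1 he x) hq
      · refine absurd ?_ hj
        have : Set.range j.base = (D : Set P) := le_antisymm (by
          rintro _ ⟨x, rfl⟩
          exact (Set.eq_univ_iff_forall.1 he x : x ∈ j.base ⁻¹' (D : Set P))) hsub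
        rw [this]; exact hDclosed
    refine EtLimCore.eq_of_germs G s 0 fun Ω _ _ ξ z => ?_
    by_contra hne
    rw [map_zero] at hne
    exact (Set.eq_empty_iff_forall_notMem.1 hD (ptOf z)) ((mem_germSupp_iff s z).2 hne)
  let adj := constantSheafAdj P.smallEtaleTopology AddCommGrpCat.{u + 1} (EtCore.topIsTerminal P)
  refine @Equiv.subsingleton _ _ (Abelian.Ext.addEquiv₀ (C := EtCoh.Ab P)).toEquiv ?_
  refine ⟨fun a b => (adj.homEquiv _ _).injective ((AddCommGrpCat.uliftZMultiplesAddEquiv _).injective ?_)⟩
  exact (key _).trans (key _).symm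

/-- Let k be a field, K an algebraic closure of k, X₀ a smooth, separated, geometrically irreducible
k-curve of finite type which is NOT proper over k, j : X₀ ⟶ P₀ an open immersion into a proper
k-scheme, and F a finite locally constant abelian étale sheaf on X₀. Then the compactly supported
cohomology in degree 0, H^0_c(X₀ ⊗_k K, F) = H^0(P₀ ⊗_k K, j_! F), is zero. (The published statement
is for a smooth ℓ-adic sheaf with Q̄_ℓ-coefficients, together with H^0_c = H^0 for proper curves;
the statement here is the finite locally constant case of the non-proper half.) -/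
theorem result
    (k K : Type u) [Field k] [Field K] [Algebra k K] [IsAlgClosed K] [Algebra.IsAlgebraic k K]
    {X₀ P₀ : Scheme.{u}} (a : X₀ ⟶ Spec (CommRingCat.of k))
    [SmoothOfRelativeDimension 1 a] [IsSeparated a] [QuasiCompact a] [GeometricallyIrreducible a]
    (ha : ¬ IsProper a)
    (j : X₀ ⟶ P₀) [IsOpenImmersion j] [EtShriek.JCont j] (b : P₀ ⟶ Spec (CommRingCat.of k)) [IsProper b]
    (hj : j ≫ b = a) (F : EtCoh.Ab X₀) (hF : EtCoh.IsFiniteLocallyConstant F) :
    Subsingleton (EtCoh.H (FinFr.ext K b) ((EtCoh.pull (FinFr.extπ K b)).obj ((EtShriek.extZero j).obj F)) 0) := by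
  let jK : FinFr.ext K a ⟶ FinFr.ext K b := pullback.map a (FinFr.specι k K) b (FinFr.specι k K) j (𝟙 _) (𝟙 _)
    (by rw [Category.comp_id, hj]) (by rw [Category.id_comp, Category.comp_id])
  have hjK₁ : jK ≫ FinFr.extπ K b = FinFr.extπ K a ≫ j := pullback.lift_fst _ _ _
  have hjK₂ : jK ≫ pullback.snd b (FinFr.specι k K) = pullback.snd a (FinFr.specι k K) :=
    (pullback.lift_snd _ _ _).trans (Category.comp_id _)
  have sq : IsPullback jK (FinFr.extπ K a) (FinFr.extπ K b) j :=
    (IsPullback.of_bot (by simpa only [hjK₂, hj] using (IsPullback.of_hasPullback a (FinFr.specι k K))) hjK₁.symm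
      (IsPullback.of_hasPullback b (FinFr.specι k K))).flip
  haveI : IsOpenImmersion jK := MorphismProperty.of_isPullback sq.flip inferInstance
  haveI : EtShriek.JCont jK := GalDual.jcont jK
  obtain ⟨e⟩ := S0649.result j (FinFr.extπ K b) jK (FinFr.extπ K a) sq
  haveI : ConnectedSpace (FinFr.ext K a) := by
    haveI : IrreducibleSpace (FinFr.ext K a) := GeometricallyIrreducible.irreducibleSpace_of_subsingleton
      (pullback.snd a (FinFr.specι k K))
    infer_instance
  haveI : IsProper (pullback.snd b (FinFr.specι k K)) := MorphismProperty.pullback_snd b _ inferInstance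
  have hclosed : ¬ IsClosed (Set.range jK.base) := by
    intro hcl
    haveI : IsClosedImmersion jK := IsClosedImmersion.of_isPreimmersion jK hcl
    have hp : IsProper (pullback.fst (FinFr.specι k K) a) := by
      have h : IsProper (pullback.snd a (FinFr.specι k K)) := by rw [← hjK₂]; infer_instance
      rw [← pullbackSymmetry_hom_comp_fst] at h
      exact (MorphismProperty.cancel_left_of_respectsIso @IsProper _ _).1 h
    haveI : Surjective (FinFr.specι k K) := ⟨fun _ => ⟨default, Subsingleton.elim _ _⟩⟩
    haveI : Flat (FinFr.specι k K) := by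
      rw [HasRingHomProperty.Spec_iff (P := @Flat)]
      exact RingHom.flat_algebraMap_iff.2 inferInstance
    haveI := S0086.result.{u}
    exact ha (MorphismProperty.of_pullback_fst_of_descendsAlong (P := @IsProper)
      (Q := (@Surjective ⊓ @Flat ⊓ @QuasiCompact : MorphismProperty Scheme.{u})) (f := FinFr.specι k K) (g := a)
      ⟨⟨inferInstance, inferInstance⟩, inferInstance⟩ hp)
  let G' := (EtShriek.extZero jK).obj ((EtCoh.pull (FinFr.extπ K a)).obj F)
  haveI : Subsingleton (EtCoh.H (FinFr.ext K b) G' 0) := by
    refine subsingleton_H_zero jK hclosed G' ?_ fun Ω _ _ ξ hξ => EtFound.isZero_stalk_extZero jK ξ hξ _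
    haveI := (S0651.result jK ((EtCoh.pull (FinFr.extπ K a)).obj F)).2
    exact EtFound.isFiniteLocallyConstant_of_iso
      (asIso ((EtShriek.extZeroAdj jK).unit.app _) ≪≫ (GalDual.restrPull jK).app _)
      (EtFound.isFiniteLocallyConstant_pull _ hF)
  exact @Equiv.subsingleton _ _ (((EtCoh.HF (FinFr.ext K b) 0).mapIso (e.app F)).addCommGroupIsoToAddEquiv).symm.toEquiv ‹_›

end Groth.Agent.S16258
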