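import Groth.Statements.S7642
import Groth.Agent.VarBase.NakaiCrit
import Mathlib.AlgebraicGeometry.IdealSheaf.IrreducibleComponent

set_option autoImplicit false
set_option linter.style.haveILetI false
set_option backward.isDefEq.respectTransparency false
set_option backward.isDefEq.respectTransparency.types false
universe u
open CategoryTheory CategoryTheory.Limits AlgebraicGeometry
open Variety

namespace Groth.Agent.S7642

open Groth.Agent.VarBase TopologicalSpace

theorem isIntegral_vanishing {X : Scheme.{u}} (W : Closeds X) (hW : IsIrreducible (W : Set X)) :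
    IsIntegral (Scheme.IdealSheafData.vanishingIdeal W).subscheme := by
  let I := Scheme.IdealSheafData.vanishingIdeal W
  haveI : IrreducibleSpace I.subscheme := by
    have hirr : IsIrreducible (Set.range I.subschemeι) := by
      rw [I.range_subschemeι, Scheme.IdealSheafData.coe_support_vanishingIdeal]; exact hW
    haveI := Subtype.irreducibleSpace hirr
    exact (I.subschemeι.isEmbedding.toHomeomorph).irreducibleSpace_iff.2 inferInstance
  exact isIntegral_of_irreducibleSpace_of_isReduced I.subscheme

/-- Let X be proper of dimension at most one over a field k and let L be an invertible module on X. Then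
L is ample if and only if deg(L|_C) > 0 for every irreducible component C of X of dimension one, C
carrying its reduced induced structure. -/
theorem result (k : Type u) [Field k] (X : Scheme.{u}) [X.Over (Spec (CommRingCat.of k))] [IsProper (X ↘ (Spec (CommRingCat.of k)))] [IsNoetherian X]
    (hdim : topologicalKrullDim X ≤ 1) (L : X.Modules) (hL : PicF.IsInvertible L) :
    CohB1.IsAmple L ↔ ∀ (C : Set X) (hC : C ∈ irreducibleComponents (X : Type u)),
      topologicalKrullDim C = 1 → 0 < @Curv2.deg k _ (X.irreducibleComponentIdeal C hC).radical.subscheme ⟨(X.irreducibleComponentIdeal C hC).radical.subschemeι ≫ (X ↘ (Spec (CommRingCat.of k)))⟩ ((Scheme.Modules.pullback (X.irreducibleComponentIdeal C hC).radical.subschemeι).obj L) 1 := by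
  have key : ∀ W : Closeds X, (W : Set X) ∈ irreducibleComponents X →
      (CohB1.IsAmple ((Scheme.Modules.pullback (Scheme.IdealSheafData.vanishingIdeal W).subschemeι).obj L) ↔
        (topologicalKrullDim (W : Set X) = 1 → 0 < @Curv2.deg k _ (Scheme.IdealSheafData.vanishingIdeal W).subscheme
          ⟨(Scheme.IdealSheafData.vanishingIdeal W).subschemeι ≫ (X ↘ (Spec (CommRingCat.of k)))⟩
          ((Scheme.Modules.pullback (Scheme.IdealSheafData.vanishingIdeal W).subschemeι).obj L) 1)) := fun W hW => by
    let I := Scheme.IdealSheafData.vanishingIdeal W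
    letI : I.subscheme.Over (Spec (CommRingCat.of k)) := ⟨I.subschemeι ≫ (X ↘ Spec (CommRingCat.of k))⟩
    haveI : IsProper (I.subscheme ↘ Spec (CommRingCat.of k)) := isProper_sub I.subschemeι k
    haveI := isIntegral_vanishing W hW.1
    have hL' := Groth.Agent.PicClLib.isInvertible_pullback I.subschemeι hL
    have hdW : topologicalKrullDim I.subscheme = topologicalKrullDim (W : Set X) := by
      rw [← dim_range (X := X) I.subschemeι]
      exact congrArg (fun T : Set X => topologicalKrullDim ↥T)
        ((I.range_subschemeι).trans (Scheme.IdealSheafData.coe_support_vanishingIdeal _))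
    have hW1 : topologicalKrullDim (W : Set X) ≤ 1 := (topologicalKrullDim_subspace_le ↥X _).trans hdim
    refine ⟨fun h hd => (isAmple_iff_deg_pos k (hdW.trans hd) hL').1 h, fun h => ?_⟩
    rcases hW1.lt_or_eq with hlt | heq
    · refine isAmple_of_dim_le_zero k ?_ hL'
      rw [← hdW] at hlt
      revert hlt
      generalize topologicalKrullDim I.subscheme = a
      intro hlt
      cases a with
      | bot => exact bot_le
      | coe a =>
        rw [← WithBot.coe_one, WithBot.coe_lt_coe, Order.lt_one_iff] at hlt
        rw [hlt]; rfl
    · exact (isAmple_iff_deg_pos k (hdW.trans heq) hL').2 (h heq)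
  rw [isAmple_iff_components k hL]
  have hI : ∀ (C : Set X) (hC : C ∈ irreducibleComponents (X : Type u)),
      (X.irreducibleComponentIdeal C hC).radical =
        Scheme.IdealSheafData.vanishingIdeal ⟨C, isClosed_of_mem_irreducibleComponents C hC⟩ := fun C hC => by
    rw [← Scheme.IdealSheafData.vanishingIdeal_support]
    exact congrArg Scheme.IdealSheafData.vanishingIdeal (Closeds.ext rfl)
  refine ⟨fun h C hC hd => ?_, fun h W hW => (key W hW).2 fun hd => ?_⟩
  · rw [hI C hC]
    exact (key ⟨C, isClosed_of_mem_irreducibleComponents C hC⟩ hC).1 (h _ hC) hd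
  · have h' := h W hW hd
    rw [hI W hW] at h'
    exact h'

end Groth.Agent.S7642
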