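import Groth.Statements.S1627

import Groth.Agent.VarBase.DimOne.Affine

set_option autoImplicit false
set_option linter.style.haveILetI false
set_option linter.unusedSectionVars false
set_option backward.isDefEq.respectTransparency false
set_option backward.isDefEq.respectTransparency.types false
universe u
open CategoryTheory CategoryTheory.Limits AlgebraicGeometry
open Variety

namespace Groth.Agent.S1627

open Groth.Agent.VarBase.DimOne

/-- A curve X over k (integral, separated, of finite type, of dimension one) is either affine or
H-projective, i.e. admits a closed immersion into some P^d_k over k. -/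
theorem result (k : Type u) [Field k] (X : Scheme.{u}) [X.Over (Spec (CommRingCat.of k))] [IsIntegral X] [IsSeparated (X ↘ (Spec (CommRingCat.of k)))] [LocallyOfFiniteType (X ↘ (Spec (CommRingCat.of k)))] [QuasiCompact (X ↘ (Spec (CommRingCat.of k)))] (hdim : topologicalKrullDim X = 1) :
    IsAffine X ∨ ∃ (d : ℕ) (c : X ⟶ CohB1.ProjSpace d k), IsClosedImmersion c ∧ c ≫ CohB1.ProjSpace.toSpec d k = X ↘ (Spec (CommRingCat.of k)) := by
  let p := X ↘ (Spec (CommRingCat.of k))
  haveI : IsNoetherian X := isNoetherian_of_field p
  by_cases hp : IsProper p
  · haveI := hp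
    exact Or.inr (exists_closedImmersion_dim_le_one p hdim.le)
  refine Or.inl (isAffine_of_no_proper p hdim.le fun C hC _ hC' => hp ?_)
  let I := (X.irreducibleComponentIdeal C hC).radical
  have hCu : C = Set.univ := Set.eq_univ_of_univ_subset
    (hC.2 (IrreducibleSpace.isIrreducible_univ X) (Set.subset_univ C))
  have hI : I = Scheme.IdealSheafData.vanishingIdeal ⟨C, isClosed_of_mem_irreducibleComponents C hC⟩ := by
    show (X.irreducibleComponentIdeal C hC).radical = _
    rw [← Scheme.IdealSheafData.vanishingIdeal_support]
    exact congrArg Scheme.IdealSheafData.vanishingIdeal (TopologicalSpace.Closeds.ext rfl)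
  haveI : Surjective I.subschemeι := ⟨fun y => by
    have : y ∈ Set.range I.subschemeι := by
      rw [hI, Scheme.IdealSheafData.range_subschemeι, Scheme.IdealSheafData.coe_support_vanishingIdeal]
      exact hCu.symm ▸ Set.mem_univ y
    exact this⟩
  haveI : IsIso I.subschemeι := isIso_of_isClosedImmersion_of_surjective I.subschemeι
  exact (MorphismProperty.cancel_left_of_respectsIso @IsProper I.subschemeι p).1 hC'

end Groth.Agent.S1627
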