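import Groth.Statements.S16277
import Groth.Agent.HodgeLef45.Final
import Groth.Agent.HodgeLef45.Smooth
import Groth.Agent.SerreVan45.Main
import Groth.Agent.PnCoh.Chow.Proper
import Groth.Agent.S0051

set_option autoImplicit false
universe u
open CategoryTheory CategoryTheory.Limits AlgebraicGeometry
open HodgeNum

namespace Groth.Agent.S16277

open scoped Groth.Agent.H23.PicMul
open Groth.Agent

/-- Let k be an algebraically closed field of characteristic p > 0, X a smooth projective k-variety of
dimension n + 1 (an integral k-scheme, smooth of relative dimension n + 1 over k, with a closed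
immersion into some P^N_k over k) and L an ample invertible O_X-module. Then for d large enough
every smooth divisor Y in the linear system of L^{⊗d} satisfies h^{p,q}(Y) = h^{p,q}(X) for p + q ≤
n - 1: there is d₀ such that for all d ≥ d₀, every M with M ⊗ L^{⊗d} ≅ O_X, every closed subscheme Y
of X which is smooth of relative dimension n over k and whose ideal sheaf is isomorphic to M, all p,
q with p + q ≤ n - 1, every p-th exterior power F of Ω_{Y/k} and every p-th exterior power E of
Ω_{X/k}, the k-vector spaces H^q(Y, F) and H^q(X, E) have the same dimension. (The published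
statement assumes L very ample; its argument only uses that L is ample, which is what is assumed
here.) -/
theorem result (k : Type u) [Field k] [IsAlgClosed k]
    (pc : ℕ) [Fact pc.Prime] [CharP k pc] (n N : ℕ)
    (X : Scheme.{u}) [X.Over (Spec (CommRingCat.of k))] [IsIntegral X]
    [SmoothOfRelativeDimension (n + 1) (X ↘ Spec (CommRingCat.of k))]
    (ι : X ⟶ CohB1.ProjSpace N k) [IsClosedImmersion ι] (hι : ι ≫ CohB1.ProjSpace.toSpec N k = X ↘ Spec (CommRingCat.of k))
    (L : X.Modules) (hL : CohB1.IsAmple L) :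
    ∃ d₀ : ℕ, ∀ d : ℕ, d₀ ≤ d → ∀ M : X.Modules, ClSub.IsInverseOf M (CohB1.tensorPow L d) →
      ∀ (I : X.IdealSheafData) [I.subscheme.Over (Spec (CommRingCat.of k))],
        I.subscheme ↘ Spec (CommRingCat.of k) = I.subschemeι ≫ X ↘ Spec (CommRingCat.of k) → Nonempty (ClSub.idealMod I ≅ M) →
        SmoothOfRelativeDimension n (I.subscheme ↘ Spec (CommRingCat.of k)) →
        ∀ p q : ℕ, p + q + 1 ≤ n →
          ∀ F : I.subscheme.Modules, ExtPow.IsExtPow p (Omega.sheaf (I.subscheme ↘ Spec (CommRingCat.of k))) F →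
          ∀ E : X.Modules, ExtPow.IsExtPow p (Omega.sheaf (X ↘ Spec (CommRingCat.of k))) E →
            Module.finrank k (Coh.HH I.subscheme F q) = Module.finrank k (Coh.HH X E q) := by
  classical
  haveI : IsProper (CohB1.ProjSpace.toSpec N k) := PnCoh.Chow.isProper_toSpec N k
  haveI : IsProper (X ↘ Spec (CommRingCat.of k)) := hι ▸ inferInstance
  haveI : Smooth (X ↘ Spec (CommRingCat.of k)) := SmoothOfRelativeDimension.smooth (n + 1) _
  haveI : IsLocallyNoetherian X := LocallyOfFiniteType.isLocallyNoetherian (X ↘ Spec (CommRingCat.of k))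
  have hdim := HodgeLef45.dim_eq (X ↘ Spec (CommRingCat.of k)) (n + 1)
  choose G hG hGv using fun j => SerreVan45.exists_dual_vanishing (X ↘ Spec (CommRingCat.of k)) ι hι (n + 1) hdim
    (DRHyp.Hyp.OmX (X ↘ Spec (CommRingCat.of k)) j) (HodgeLef45.isFinLocFree_OmX _ j)
  choose m₁ hm₁ using fun j => (S0051.result k X (X ↘ Spec (CommRingCat.of k)) L hL.1).1 hL (G j) (hG j)
  refine ⟨(Finset.range (n + 1)).sup m₁, fun d hd M hM I _ hover hI hsm p q hpq F hF E hE => ?_⟩
  haveI : Smooth (I.subscheme ↘ Spec (CommRingCat.of k)) := SmoothOfRelativeDimension.smooth n _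
  refine HodgeLef45.finrank_eq_of_divisor k n (H23.PicMul.isInvertible_tensorPow hL.1 d) hM
    (fun j a hja t ht E' hE' => ?_) I hI hover p q hpq F hF E hE
  obtain ⟨w⟩ := HodgeLef45.iso_of_isExtPow hE' (DRHyp.ExtSheaf.isExtPow_mod (DRHyp.Hyp.isQCoh_omega _) j)
  have hcl : PicF.cl (CohB1.tensorPow L (d * t)) * PicF.cl (CohB1.tensorPow M t) = 1 := by
    rw [H23.PicMul.cl_tensorPow, H23.PicMul.cl_tensorPow, pow_mul, ← mul_pow,
      ← H23.PicMul.cl_tensorPow L d, ← H23.PicMul.cl_tensor,
      show PicF.cl (CohB1.tensorMod (CohB1.tensorPow L d) M) = 1 by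
        rw [H23.PicMul.cl_tensor, mul_comm, ← H23.PicMul.cl_tensor, H23.PicMul.cl_eq_iff.2 hM]; rfl,
      one_pow]
  have hinv : ClSub.IsInverseOf (CohB1.tensorPow L (d * t)) (CohB1.tensorPow M t) :=
    H23.PicMul.cl_eq_iff.1 (by rw [H23.PicMul.cl_tensor]; exact hcl)
  have hMt : PicF.IsInvertible (CohB1.tensorPow M t) :=
    SurfInt.isInvertible_of_inverseOf_right (H23.PicMul.isInvertible_tensorPow hL.1 (d * t))
      (H23.PicMul.cl_eq_iff.1 (by rw [H23.PicMul.cl_tensor, mul_comm]; exact hcl))
  have h := hGv j (CohB1.tensorPow M t) hMt (CohB1.tensorPow L (d * t)) hinv a (by omega)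
    (hm₁ j (d * t) (le_trans (le_trans (Finset.le_sup (Finset.mem_range.2 (by omega))) hd)
      (Nat.le_mul_of_pos_right d ht)) (n + 1 - a) (by omega))
  exact Groth.Agent.QCoh.subsingleton_HH_of_iso (PicGrp.tensorModIso w.symm (Iso.refl _)) a h


end Groth.Agent.S16277
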