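import Groth.Statements.S16298
import Groth.Agent.S1585
import Groth.Agent.NormCurve.Delta
import Groth.Agent.NormCurve.Scheme
import Groth.Agent.Lib.CurveVanish
import Groth.Agent.S0019
import Groth.Agent.QCoh.UnitPush

set_option autoImplicit false
set_option linter.style.haveILetI false
set_option backward.isDefEq.respectTransparency false
set_option backward.isDefEq.respectTransparency.types false
universe u
open CategoryTheory CategoryTheory.Limits AlgebraicGeometry
open Curves Groth.Agent

namespace Groth.Agent.S16298

/-- Let k be a field and X a genus-zero curve over k, that is, an integral scheme proper over k of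
dimension one with H^1(X, O_X) = 0. Then the normalization Y of X again satisfies H^1(Y, O_Y) = 0,
so Y is again a genus-zero curve. (The two instance binders on the morphism from the generic point
always hold; they are only needed to form the normalization.) -/
theorem result (k : Type u) [Field k] (X : Scheme.{u}) [X.Over (Spec (CommRingCat.of k))]
    [IsIntegral X] [IsProper (X ↘ (Spec (CommRingCat.of k)))] (hdim : topologicalKrullDim X = 1)
    (h1 : Subsingleton (Coh.HH X (Coh.structureModule X) 1))
    [QuasiCompact (X.fromSpecStalk (genericPoint X))] [QuasiSeparated (X.fromSpecStalk (genericPoint X))] :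
    Subsingleton (Coh.HH (Curv2.normalization X) (Coh.structureModule (Curv2.normalization X)) 1) := by
  classical
  obtain ⟨hfin, -, -, -, -⟩ := S1585.result k X
  haveI := hfin
  haveI := CurveCohLib.isNoetherian_of_proper (k := k) (X := X)
  let ν := Curv2.normalizationι X
  haveI := NormCurve.mono_unitToPush X
  haveI : IsLocallyNoetherian (Curv2.normalization X) := NormCurve.isLocallyNoetherian_normalization X hdim.le
  have hO : Coh.IsCoh (Coh.structureModule X) := QCoh.isCoh_structureModule'
  have hY : Coh.IsQCoh (Coh.structureModule (Curv2.normalization X)) := QCoh.isQCoh_structureModule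
  have hP : Coh.IsCoh ((Coh.push ν).obj (Coh.structureModule (Curv2.normalization X))) :=
    S0019.result ν _ QCoh.isCoh_structureModule'
  have hQ : Coh.IsCoh (cokernel (ClSub.unitToPush ν)) := QCoh.isCoh_cokernel hO.1 hP _
  have hcl : ∀ x, ¬ Subsingleton ((cokernel (ClSub.unitToPush ν)).presheaf.stalk x) → IsClosed ({x} : Set X) := by
    intro x hx
    by_contra hxc
    refine hx ?_
    have h := NormCurve.length_cokernel_stalk X x
    rw [NormCurve.deltaInv_of_isField (NormCurve.isField_stalk_of_not_isClosed X hdim x hxc)] at h
    exact Module.length_eq_zero_iff.1 h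
  have h3 : Subsingleton (Coh.HH X (cokernel (ClSub.unitToPush ν)) (0 + 1)) :=
    CurveVanish.subsingleton_HH_of_finite
      (CurveCohLib.finite_of_closedPoints (QCoh.isClosed_support_of_isFT hQ.1 hQ.2) hcl) hcl
      (fun x hx => not_not.1 hx) 0
  have hS : (ShortComplex.mk (ClSub.unitToPush ν) (cokernel.π _) (cokernel.condition _)).ShortExact :=
    { exact := ShortComplex.exact_of_g_is_cokernel _ (cokernelIsCokernel _) }
  have h2 := QCoh.subsingleton_HH_X₂ hS 1 h1 h3
  obtain ⟨e⟩ := QCoh.HH_push_of_isAffineHom ν hY 1
  exact e.toEquiv.subsingleton

end Groth.Agent.S16298
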