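import Groth.Statements.S16311
import Groth.Agent.BunLib68.Gonality
-- import your own Groth.Agent.* helpers here

set_option autoImplicit false
universe u
open W4c3irrattreebun

namespace Groth.Agent.S16311

set_option linter.style.haveILetI false
set_option linter.unusedVariables false
open Groth.Agent

/-- For a field extension K/k with field of constants k' (the relative algebraic closure of k in K), the
separable covering gonality of K over k equals that of K over k'. (The published statement takes K
to be an algebraic function field over k; this row allows any field extension K/k.) -/
theorem result (k K : Type u) [Field k] [Field K] [Algebra k K] :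
    W4c3irrattreebun.scvg k K = W4c3irrattreebun.scvg (algebraicClosure k K) K := by
  refine Groth.Agent.BunLib68.Gonality.sInf_eq ?_ ?_
  · rintro e ⟨D, hD⟩
    obtain ⟨D', h⟩ := Groth.Agent.BunLib68.Gonality.down _ D
    exact ⟨D', h hD⟩
  · rintro e ⟨D, hD⟩
    obtain ⟨e', D', h, hs⟩ := Groth.Agent.BunLib68.Gonality.up (algebraicClosure k K) D
    exact ⟨e', ⟨D', hs hD⟩, h⟩

end Groth.Agent.S16311
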