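import Groth.Statements.S16315
import Groth.Agent.LS17.CanRing
import Groth.Agent.LS17.Exists

set_option autoImplicit false
open CategoryTheory CategoryTheory.Limits AlgebraicGeometry
universe u
open Curves

namespace Groth.Agent.S16315

attribute [local instance] Groth.Agent.CurveFF.ffAlg

/-- Let k be an algebraically closed field of characteristic zero and X a smooth proper integral curve
over k (integral, proper and smooth over k, of dimension one) of genus g ≥ 3 which is
non-hyperelliptic (every invertible module of degree 2 has at most a one-dimensional space of global
sections), and let K be a module isomorphic to the sheaf of differentials of X over k. Then the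
canonical ring ⊕_m H^0(X, K^{⊗ m}) is generated in degree one: for every m ≥ 0 the multiplication
map H^0(X, K^{⊗ m}) ⊗ H^0(X, K) → H^0(X, K^{⊗ (m+1)}) is surjective (written as the map from the
global sections of the sectionwise tensor product presheaf to the global sections of its
sheafification). (The published statement phrases this as the canonical ring being the homogeneous
coordinate ring of the canonically embedded curve; its further assertion on the vanishing of the
first cohomology of the twisted ideal sheaves is not restated.) -/
theorem result
    (k : Type u) [Field k] [IsAlgClosed k] [CharZero k]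
    (X : Scheme.{u}) [X.Over (Spec (CommRingCat.of k))] [IsIntegral X]
    [IsProper (X ↘ Spec (CommRingCat.of k))] [Smooth (X ↘ Spec (CommRingCat.of k))]
    (hdim : topologicalKrullDim X = 1) (hg : 3 ≤ Curv2.genus k X)
    (hnh : ∀ M : X.Modules, PicF.IsInvertible M → Curv2.deg k X M 1 = 2 →
      Module.finrank k (Coh.HH X M 0) ≤ 1)
    (K : X.Modules) (eK : K ≅ Omega.sheaf (X ↘ Spec (CommRingCat.of k))) (m : ℕ) :
    Function.Surjective
      ((toSheafify (Opens.grothendieckTopology X)
        (CohB1.tensorPre (CohB1.tensorPow K m) K).presheaf).app (Opposite.op ⊤)) := by
  have hKf := CurveFF.isFunctionField k X hdim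
  have hΩ := CurveFF.isInvertible_Ωm k X hdim
  obtain ⟨U, hU, e, he⟩ := InvX.exists_frame hΩ (genericPoint X)
  have hK : PicF.IsInvertible K := H23.PicMul.isInvertible_of_iso eK.symm hΩ
  have he' := InvX.IsFrame.map_iso eK.symm he
  have hC : FunFld.IsCanonical k X.functionField (CurveFF.divisor k hdim hK he' hU) := by
    rw [CurveFF.divisor_iso k hdim hΩ he hU hK eK.symm]
    exact CurveFF.isCanonical_divisor k X hdim he hU
  refine LS17.mul_sections_surjective k hdim hK he' hU m (LS17.canonical_mul_surjective hKf hC ?_ ?_ m)
  · rw [CurveFF.genus_eq k hdim]; exact hg
  · intro A hA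
    obtain ⟨N, hN⟩ := LS17.exists_mod k hdim A
    have := hnh N hN.1 (by rw [hN.deg k hdim, hA])
    rwa [hN.h0 k hdim] at this

end Groth.Agent.S16315
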