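import Groth.Statements.S16316
import Groth.Agent.LS17.Modules
-- import your own Groth.Agent.* helpers here

set_option autoImplicit false
open CategoryTheory CategoryTheory.Limits AlgebraicGeometry
universe u
open Curves

namespace Groth.Agent.S16316

attribute [local instance] Groth.Agent.CurveFF.ffAlg

/-- Let k be an algebraically closed field of characteristic zero and X a smooth proper integral curve
over k (integral, proper and smooth over k, of dimension one) of genus 9 whose Clifford index is 1:
some invertible module M with h^0(M) ≥ 2 and h^1(M) ≥ 2 has deg M − 2(h^0(M) − 1) = 1, and every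
invertible module M with h^0(M) ≥ 2 and h^1(M) ≥ 2 has deg M − 2(h^0(M) − 1) ≥ 1 (degrees are χ(M) −
χ(O_X); in particular X is not hyperelliptic). Then X is trigonal: it carries a g^1_3, an invertible
module of degree 3 together with two k-linearly independent global sections. -/
theorem result
    (k : Type u) [Field k] [IsAlgClosed k] [CharZero k]
    (X : Scheme.{u}) [X.Over (Spec (CommRingCat.of k))] [IsIntegral X]
    [IsProper (X ↘ Spec (CommRingCat.of k))] [Smooth (X ↘ Spec (CommRingCat.of k))]
    (hdim : topologicalKrullDim X = 1) (hg : Curv2.genus k X = 9)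
    (hex : ∃ M : X.Modules, PicF.IsInvertible M ∧ 2 ≤ Module.finrank k (Coh.HH X M 0) ∧
      2 ≤ Module.finrank k (Coh.HH X M 1) ∧ Curv2.deg k X M 1 = 2 * (Module.finrank k (Coh.HH X M 0) : ℤ) - 1)
    (hmin : ∀ M : X.Modules, PicF.IsInvertible M → 2 ≤ Module.finrank k (Coh.HH X M 0) →
      2 ≤ Module.finrank k (Coh.HH X M 1) → 2 * (Module.finrank k (Coh.HH X M 0) : ℤ) - 1 ≤ Curv2.deg k X M 1) :
    ∃ (L : X.Modules) (s : Fin (1 + 1) → LinSer.Sect X L), LinSer.IsLinSer k X L 3 1 s := by
  obtain ⟨C, hC, -⟩ := LS17.exists_canonical_hasDiv k (X := X) hdim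
  have hK := CurveFF.isFunctionField k X hdim
  have hgK : FunFld.genus k X.functionField = 9 := (CurveFF.genus_eq k hdim).trans hg
  have h := LS17.cliffMin_of k hdim hC (e := -1) (by simpa [sub_eq_add_neg] using hmin)
  have ha := LS17.cliffAtt_of k hdim hC (e := -1) (by simpa [sub_eq_add_neg] using hex)
  rcases LS17.trigonal_or_quintic hK hC h ha with ⟨D, hd, hD⟩ | ⟨h6, -⟩
  · exact LS17.exists_linSer k hdim (d := 3) (r := 1) (by exact_mod_cast hd) hD
  · omega
end Groth.Agent.S16316
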