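import Groth.Statements.S16319
import Groth.Agent.LS17.Modules
-- import your own Groth.Agent.* helpers here

set_option autoImplicit false
open CategoryTheory CategoryTheory.Limits AlgebraicGeometry
universe u
open Curves

namespace Groth.Agent.S16319

attribute [local instance] Groth.Agent.CurveFF.ffAlg

/-- Let k be an algebraically closed field of characteristic zero and X a smooth proper integral curve
over k (integral, proper and smooth over k, of dimension one) of genus 9 whose Clifford index is 3:
some invertible module M with h^0(M) ≥ 2 and h^1(M) ≥ 2 has deg M − 2(h^0(M) − 1) = 3, and every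
invertible module M with h^0(M) ≥ 2 and h^1(M) ≥ 2 has deg M − 2(h^0(M) − 1) ≥ 3 (degrees are χ(M) −
χ(O_X); in particular X is not hyperelliptic); let H be an invertible module of degree 7 with h^0(H)
= 3 (a g^2_7) and D a globally generated invertible module of degree 5 with h^0(D) = 2 (a
base-point-free complete g^1_5). Then every module N with D ⊗ N ≅ H has h^0(N) = 1: the difference
of the two series is the class of an effective divisor of degree 2 with a one-dimensional space of
sections, so the pencil is cut out by the lines through a double point of the plane model of degree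
7. -/
theorem result
    (k : Type u) [Field k] [IsAlgClosed k] [CharZero k]
    (X : Scheme.{u}) [X.Over (Spec (CommRingCat.of k))] [IsIntegral X]
    [IsProper (X ↘ Spec (CommRingCat.of k))] [Smooth (X ↘ Spec (CommRingCat.of k))]
    (hdim : topologicalKrullDim X = 1) (hg : Curv2.genus k X = 9)
    (hex : ∃ M : X.Modules, PicF.IsInvertible M ∧ 2 ≤ Module.finrank k (Coh.HH X M 0) ∧
      2 ≤ Module.finrank k (Coh.HH X M 1) ∧ Curv2.deg k X M 1 = 2 * (Module.finrank k (Coh.HH X M 0) : ℤ) + 1)
    (hmin : ∀ M : X.Modules, PicF.IsInvertible M → 2 ≤ Module.finrank k (Coh.HH X M 0) →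
      2 ≤ Module.finrank k (Coh.HH X M 1) → 2 * (Module.finrank k (Coh.HH X M 0) : ℤ) + 1 ≤ Curv2.deg k X M 1)
    (H : X.Modules) (hH : PicF.IsInvertible H) (hdH : Curv2.deg k X H 1 = 7)
    (h0H : Module.finrank k (Coh.HH X H 0) = 3)
    (D : X.Modules) (hD : PicF.IsInvertible D) (hgD : Curv2.IsGloballyGenerated D)
    (hdD : Curv2.deg k X D 1 = 5) (h0D : Module.finrank k (Coh.HH X D 0) = 2)
    (N : X.Modules) (e : CohB1.tensorMod D N ≅ H) :
    Module.finrank k (Coh.HH X N 0) = 1 := by
  obtain ⟨C, hC, -⟩ := LS17.exists_canonical_hasDiv k (X := X) hdim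
  have hK := CurveFF.isFunctionField k X hdim
  have hgK : FunFld.genus k X.functionField = 9 := (CurveFF.genus_eq k hdim).trans hg
  have h := LS17.cliffMin_of k hdim hC (e := 1) hmin
  have hN := LS17.isInvertible_of_tensor_iso k hdim hD hH e
  obtain ⟨d, hd⟩ := LS17.exists_hasDiv k hdim hD
  obtain ⟨n, hn⟩ := LS17.exists_hasDiv k hdim hN
  have hh := (hd.tensor k hdim hn).map_iso k hdim e hH
  have hdd := hd.deg k hdim
  have hdh := hh.deg k hdim
  have hed := hd.h0 k hdim
  have heh := hh.h0 k hdim
  have hgg := FFLib.noBase_of_ell hK.1 ((hd.gg_iff k hdim).1 hgD)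
  rw [hdD] at hdd
  rw [hdH, FFLib.Divisor.deg_add] at hdh
  rw [h0D] at hed
  rw [h0H] at heh
  rw [hn.h0 k hdim]
  have hle : FunFld.ell n ≤ 1 := by
    by_contra hcon
    have := LS17.CliffMin.deg_pencil hK hC h (A := n) (by omega) (by omega)
    omega
  have hge := LS17.pencil_trick hK hgg (by omega) (d + n)
  rw [add_sub_cancel_left] at hge
  have hb : FunFld.ell (d + (d + n)) ≤ 5 := by
    by_contra hcon
    rcases LS17.CliffMin.ell_le hK hC h (D := d + (d + n)) (by omega) with hb | hb <;>
      rw [FFLib.Divisor.deg_add, FFLib.Divisor.deg_add] at hb <;> omega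
  omega
end Groth.Agent.S16319
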