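import Groth.Statements.S16320
import Groth.Agent.LS17.Modules
-- import your own Groth.Agent.* helpers here

set_option autoImplicit false
open CategoryTheory CategoryTheory.Limits AlgebraicGeometry
universe u
open Curves

namespace Groth.Agent.S16320

attribute [local instance] Groth.Agent.CurveFF.ffAlg

/-- Let k be an algebraically closed field of characteristic zero and X a smooth proper integral curve
over k (integral, proper and smooth over k, of dimension one) of genus 9 whose Clifford index is 3:
some invertible module M with h^0(M) ≥ 2 and h^1(M) ≥ 2 has deg M − 2(h^0(M) − 1) = 3, and every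
invertible module M with h^0(M) ≥ 2 and h^1(M) ≥ 2 has deg M − 2(h^0(M) − 1) ≥ 3 (degrees are χ(M) −
χ(O_X); in particular X is not hyperelliptic), and let D be a globally generated invertible module
of degree 5 with h^0(D) = 2 (a base-point-free complete g^1_5). Then h^0(D^{⊗2}) is 3 or 4,
h^0(D^{⊗3}) is 7 or 8, and h^0(D^{⊗3}) = 7 whenever h^0(D^{⊗2}) = 3. (The published statement says,
equivalently by Riemann–Roch applied to the numbers h^0(K − iD) − h^0(K − (i+1)D) for a canonical
module K, that the rational normal fourfold scroll formed by the linear spans of the pencil's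
divisors in the canonical embedding has type S(2,1,1,1), S(2,2,1,0) or S(3,1,1,0); the scroll itself
is not restated here.) -/
theorem result
    (k : Type u) [Field k] [IsAlgClosed k] [CharZero k]
    (X : Scheme.{u}) [X.Over (Spec (CommRingCat.of k))] [IsIntegral X]
    [IsProper (X ↘ Spec (CommRingCat.of k))] [Smooth (X ↘ Spec (CommRingCat.of k))]
    (hdim : topologicalKrullDim X = 1) (hg : Curv2.genus k X = 9)
    (hex : ∃ M : X.Modules, PicF.IsInvertible M ∧ 2 ≤ Module.finrank k (Coh.HH X M 0) ∧
      2 ≤ Module.finrank k (Coh.HH X M 1) ∧ Curv2.deg k X M 1 = 2 * (Module.finrank k (Coh.HH X M 0) : ℤ) + 1)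
    (hmin : ∀ M : X.Modules, PicF.IsInvertible M → 2 ≤ Module.finrank k (Coh.HH X M 0) →
      2 ≤ Module.finrank k (Coh.HH X M 1) → 2 * (Module.finrank k (Coh.HH X M 0) : ℤ) + 1 ≤ Curv2.deg k X M 1)
    (D : X.Modules) (hD : PicF.IsInvertible D) (hgD : Curv2.IsGloballyGenerated D)
    (hdD : Curv2.deg k X D 1 = 5) (h0D : Module.finrank k (Coh.HH X D 0) = 2) :
    (Module.finrank k (Coh.HH X (CohB1.tensorPow D 2) 0) = 3 ∨
        Module.finrank k (Coh.HH X (CohB1.tensorPow D 2) 0) = 4) ∧
      (Module.finrank k (Coh.HH X (CohB1.tensorPow D 3) 0) = 7 ∨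
        Module.finrank k (Coh.HH X (CohB1.tensorPow D 3) 0) = 8) ∧
      (Module.finrank k (Coh.HH X (CohB1.tensorPow D 2) 0) = 3 →
        Module.finrank k (Coh.HH X (CohB1.tensorPow D 3) 0) = 7) := by
  obtain ⟨C, hC, -⟩ := LS17.exists_canonical_hasDiv k (X := X) hdim
  have hK := CurveFF.isFunctionField k X hdim
  have hgK : FunFld.genus k X.functionField = 9 := (CurveFF.genus_eq k hdim).trans hg
  have h := LS17.cliffMin_of k hdim hC (e := 1) hmin
  obtain ⟨d, hd⟩ := LS17.exists_hasDiv k hdim hD
  have hdd := hd.deg k hdim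
  have hed := hd.h0 k hdim
  rw [hdD] at hdd
  rw [h0D] at hed
  rw [(hd.tensorPow k hdim 2).h0 k hdim, (hd.tensorPow k hdim 3).h0 k hdim,
    show (2 : ℕ) • d = d + d from two_nsmul d, show (3 : ℕ) • d = d + d + d by rw [succ_nsmul, two_nsmul]]
  have h2 := LS17.hopf hK (D := d) (E := d) (by omega) (by omega)
  have h2' : FunFld.ell (d + d) ≤ 4 := by
    by_contra hcon
    rcases LS17.CliffMin.ell_le hK hC h (D := d + d) (by omega) with hb | hb <;>
      rw [FFLib.Divisor.deg_add] at hb <;> omega
  obtain ⟨r1, r2, r3, r4⟩ := LS17.rr_C hK hC (d + d + d)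
  obtain ⟨q1, q2, q3, q4⟩ := LS17.rr_C hK hC (d + d)
  rw [FFLib.Divisor.deg_add, FFLib.Divisor.deg_add] at r1 r3
  rw [FFLib.Divisor.deg_add] at q1
  have h3 : FunFld.ell (C - (d + d + d)) ≤ 1 := by
    by_contra hcon
    have := LS17.CliffMin.deg_pencil hK hC h (A := C - (d + d + d)) (by omega) (by omega)
    omega
  refine ⟨by omega, by omega, fun h23 => ?_⟩
  by_contra h37
  obtain ⟨E, hE, hlE⟩ := LS17.exists_effective hK.1 (D := C - (d + d + d)) (by omega)
  have hl : LS17.Lin (C - (d + d)) (E + d) := by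
    have := hlE.add hK.1 (LS17.Lin.refl hK.1 d)
    rwa [show C - (d + d + d) + d = C - (d + d) by abel] at this
  have := (FFLib.ell_le_of_le hK.1 (le_add_of_nonneg_left hE : d ≤ E + d)).1
  rw [← hl.ell_eq hK.1] at this
  omega
end Groth.Agent.S16320
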