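import Groth.Statements.S16322
import Groth.Agent.LS17.Modules
-- import your own Groth.Agent.* helpers here

set_option autoImplicit false
open CategoryTheory CategoryTheory.Limits AlgebraicGeometry
universe u
open Curves

namespace Groth.Agent.S16322

attribute [local instance] Groth.Agent.CurveFF.ffAlg

/-- Let k be a characteristic-zero algebraically closed field and X a smooth proper integral curve over
k (integral, proper and smooth over k, of dimension one) of genus 9 whose Clifford index is 3: some
invertible module M with h^0(M) ≥ 2 and h^1(M) ≥ 2 has deg M − 2(h^0(M) − 1) = 3, and every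
invertible module M with h^0(M) ≥ 2 and h^1(M) ≥ 2 has deg M − 2(h^0(M) − 1) ≥ 3 (degrees are χ(M) −
χ(O_X); in particular X is not hyperelliptic), and let D₁, D₂ be two non-isomorphic globally
generated invertible modules of degree 5 with h^0(D₁) = h^0(D₂) = 2 (two different base-point-free
complete pencils of degree 5). Then h^0(D₁ ⊗ D₂) = 4. (In the published statement the two pencils
are the ones cut out by the two rulings on a model of the curve in a blow-up of P^1 × P^1; the
printed argument for this equality uses only that they are different base-point-free pencils of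
degree 5 on a genus-9 curve of Clifford index 3, which is what is stated here; the further printed
assertion on a third pencil is not restated.) -/
theorem result
    (k : Type u) [Field k] [IsAlgClosed k] [CharZero k]
    (X : Scheme.{u}) [X.Over (Spec (CommRingCat.of k))] [IsIntegral X]
    [IsProper (X ↘ Spec (CommRingCat.of k))] [Smooth (X ↘ Spec (CommRingCat.of k))]
    (hdim : topologicalKrullDim X = 1) (hg : Curv2.genus k X = 9)
    (hex : ∃ M : X.Modules, PicF.IsInvertible M ∧ 2 ≤ Module.finrank k (Coh.HH X M 0) ∧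
      2 ≤ Module.finrank k (Coh.HH X M 1) ∧ Curv2.deg k X M 1 = 2 * (Module.finrank k (Coh.HH X M 0) : ℤ) + 1)
    (hmin : ∀ M : X.Modules, PicF.IsInvertible M → 2 ≤ Module.finrank k (Coh.HH X M 0) →
      2 ≤ Module.finrank k (Coh.HH X M 1) → 2 * (Module.finrank k (Coh.HH X M 0) : ℤ) + 1 ≤ Curv2.deg k X M 1)
    (D₁ D₂ : X.Modules) (h₁ : PicF.IsInvertible D₁) (h₂ : PicF.IsInvertible D₂)
    (hg₁ : Curv2.IsGloballyGenerated D₁) (hg₂ : Curv2.IsGloballyGenerated D₂)
    (hd₁ : Curv2.deg k X D₁ 1 = 5) (hd₂ : Curv2.deg k X D₂ 1 = 5)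
    (h0₁ : Module.finrank k (Coh.HH X D₁ 0) = 2) (h0₂ : Module.finrank k (Coh.HH X D₂ 0) = 2)
    (hne : IsEmpty (D₁ ≅ D₂)) :
    Module.finrank k (Coh.HH X (CohB1.tensorMod D₁ D₂) 0) = 4 := by
  obtain ⟨C, hC, -⟩ := LS17.exists_canonical_hasDiv k (X := X) hdim
  have hK := CurveFF.isFunctionField k X hdim
  have hgK : FunFld.genus k X.functionField = 9 := (CurveFF.genus_eq k hdim).trans hg
  have h := LS17.cliffMin_of k hdim hC (e := 1) hmin
  obtain ⟨a, ha⟩ := LS17.exists_hasDiv k hdim h₁
  obtain ⟨b, hb⟩ := LS17.exists_hasDiv k hdim h₂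
  have hda := ha.deg k hdim
  have hdb := hb.deg k hdim
  have hea := ha.h0 k hdim
  have heb := hb.h0 k hdim
  have hgg := FFLib.noBase_of_ell hK.1 ((ha.gg_iff k hdim).1 hg₁)
  rw [hd₁] at hda
  rw [hd₂] at hdb
  rw [h0₁] at hea
  rw [h0₂] at heb
  rw [(ha.tensor k hdim hb).h0 k hdim]
  have hle : FunFld.ell (a + b) ≤ 4 := by
    by_contra hcon
    rcases LS17.CliffMin.ell_le hK hC h (D := a + b) (by omega) with hb | hb <;>
      rw [FFLib.Divisor.deg_add] at hb <;> omega
  have hz : FunFld.ell (b - a) = 0 := by
    by_contra hcon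
    obtain ⟨E, hE, hlE⟩ := LS17.exists_effective hK.1 (D := b - a) (by omega)
    have hd0 := hlE.deg_eq hK.1
    rw [FFLib.Divisor.deg_sub] at hd0
    rw [LS17.eq_zero_of_deg_zero hK hE (by omega)] at hlE
    have hl : LS17.Lin b a := by simpa using hlE.add hK.1 (LS17.Lin.refl hK.1 a)
    exact not_isEmpty_iff.2 (LS17.nonempty_iso k hdim ha (hb.congr k hdim hl)) hne
  have := LS17.pencil_trick hK hgg (by omega) b
  omega
end Groth.Agent.S16322
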