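import Groth.Statements.S16344
import Mathlib.Topology.Algebra.Group.Basic

set_option autoImplicit false
universe u v
open IdeleMod

namespace Groth.Agent.S16344

/-- Let (G_i) be an inverse system, indexed by a directed preorder, of compact Hausdorff topological
abelian groups with continuous surjective transition maps, let G be its limit (the group of
compatible families) and let m be a natural number. Then the canonical map G/mG → lim G_i/mG_i is
bijective: a compatible family that lies in mG_i at every index is m times a compatible family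
(injectivity), and every family that is compatible modulo m agrees modulo m, index by index, with a
compatible family (surjectivity). -/
theorem result
    {ι : Type u} [Preorder ι] [IsDirected ι (· ≤ ·)]
    (G : ι → Type v) [∀ i, AddCommGroup (G i)] [∀ i, TopologicalSpace (G i)]
    [∀ i, IsTopologicalAddGroup (G i)] [∀ i, CompactSpace (G i)] [∀ i, T2Space (G i)]
    (f : ∀ ⦃i j : ι⦄, i ≤ j → (G j →+ G i)) (hf : ∀ i j (h : i ≤ j), Continuous (f h))
    (hid : ∀ i (x : G i), f (le_refl i) x = x)
    (hcomp : ∀ i j k (hij : i ≤ j) (hjk : j ≤ k) (x : G k), f hij (f hjk x) = f (hij.trans hjk) x)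
    (hsurj : ∀ i j (h : i ≤ j), Function.Surjective (f h)) (m : ℕ) :
    (∀ x : ∀ i, G i, (∀ i j (h : i ≤ j), f h (x j) = x i) → (∀ i, ∃ y : G i, m • y = x i) →
        ∃ z : ∀ i, G i, (∀ i j (h : i ≤ j), f h (z j) = z i) ∧ ∀ i, m • z i = x i) ∧
    (∀ y : ∀ i, G i, (∀ i j (h : i ≤ j), ∃ w : G i, f h (y j) - y i = m • w) →
        ∃ x : ∀ i, G i, (∀ i j (h : i ≤ j), f h (x j) = x i) ∧ ∀ i, ∃ w : G i, x i - y i = m • w) := by
  classical
  have key : ∀ Z : ∀ i, Set (G i), (∀ i, IsClosed (Z i)) → (∀ i, (Z i).Nonempty) →
      (∀ i j (h : i ≤ j), ∀ z ∈ Z j, f h z ∈ Z i) →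
      ∃ z : ∀ i, G i, (∀ i j (h : i ≤ j), f h (z j) = z i) ∧ ∀ i, z i ∈ Z i := by
    intro Z hZc hZne hZmap
    rcases isEmpty_or_nonempty ι with hι | hι
    · exact ⟨fun i => isEmptyElim i, fun i => isEmptyElim i, fun i => isEmptyElim i⟩
    let C : ι → Set (∀ i, G i) := fun k => {z | z k ∈ Z k} ∩ ⋂ (l : ι) (h : l ≤ k), {z | f h (z k) = z l}
    have hCc : ∀ k, IsClosed (C k) := fun k => ((hZc k).preimage (continuous_apply k)).inter
      (isClosed_iInter fun l => isClosed_iInter fun h =>
        isClosed_eq ((hf l k h).comp (continuous_apply k)) (continuous_apply l))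
    have hCne : ∀ k, (C k).Nonempty := fun k => by
      obtain ⟨a, ha⟩ := hZne k
      refine ⟨fun l => if h : l ≤ k then f h a else 0, ?_, ?_⟩
      · show (if h : k ≤ k then f h a else 0) ∈ Z k
        rw [dif_pos le_rfl, hid]
        exact ha
      · refine Set.mem_iInter₂.2 fun l h => ?_
        show f h (if h : k ≤ k then f h a else 0) = if h : l ≤ k then f h a else 0
        rw [dif_pos le_rfl, hid, dif_pos h]
    have hdir : Directed (· ⊇ ·) C := fun i j => by
      obtain ⟨k, hik, hjk⟩ := exists_ge_ge i j
      have aux : ∀ i, i ≤ k → C k ⊆ C i := fun i hik z hz => by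
        obtain ⟨h1, h2⟩ := hz
        rw [Set.mem_iInter₂] at h2
        refine ⟨?_, Set.mem_iInter₂.2 fun l h => ?_⟩
        · show z i ∈ Z i
          rw [← h2 i hik]
          exact hZmap i k hik _ h1
        · show f h (z i) = z l
          rw [← h2 i hik, hcomp, h2 l (h.trans hik)]
      exact ⟨k, aux i hik, aux j hjk⟩
    obtain ⟨z, hz⟩ := IsCompact.nonempty_iInter_of_directed_nonempty_isCompact_isClosed C hdir hCne
      (fun k => (hCc k).isCompact) hCc
    rw [Set.mem_iInter] at hz
    exact ⟨z, fun i j h => Set.mem_iInter₂.1 (hz j).2 i h, fun i => (hz i).1⟩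
  refine ⟨fun x hx hxm => ?_, fun y hy => ?_⟩
  · exact key (fun i => {z | m • z = x i}) (fun i => isClosed_eq (continuous_nsmul m) continuous_const)
      hxm (fun i j h z hz => by
        show m • f h z = x i
        rw [← map_nsmul, show m • z = x j from hz, hx])
  · obtain ⟨z, hz1, hz2⟩ := key (fun i => {z | ∃ w : G i, z - y i = m • w})
      (fun i => by
        have e : {z | ∃ w : G i, z - y i = m • w} = (fun z => z - y i) ⁻¹' Set.range (fun w : G i => m • w) := by
          ext z
          exact exists_congr fun w => eq_comm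
        rw [e]
        exact (isCompact_range (continuous_nsmul m)).isClosed.preimage (continuous_id.sub continuous_const))
      (fun i => ⟨y i, 0, by rw [sub_self, smul_zero]⟩)
      (fun i j h z hz => by
        obtain ⟨w, hw⟩ := hz
        obtain ⟨w', hw'⟩ := hy i j h
        refine ⟨f h w + w', ?_⟩
        have h1 := congrArg (f h) hw
        rw [map_sub, map_nsmul] at h1
        rw [smul_add, ← h1, ← hw', sub_add_sub_cancel])
    exact ⟨z, hz1, hz2⟩

end Groth.Agent.S16344
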