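import Groth.Statements.S16352
import Groth.Agent.Cubic70.Poly

set_option autoImplicit false
universe u
open Cubic

namespace Groth.Agent.S16352

/-- Let K be an algebraically closed field of characteristic zero and S = V(F) ⊂ P^3_K a cubic surface
which is irreducible and not a cone (no nonzero vector v has Σ_i v_i ∂F/∂x_i = 0). Let a be a smooth
point of S which is not a T-point: with ℓ = Σ_i ∂F/∂x_i(a) · x_i the (nonzero) linear form of the
tangent plane T_a S, F is not congruent modulo ℓ to a product of three linear forms (i.e. T_a S ∩ S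
is not set-theoretically a union of lines). Let P = Σ_i a_i ∂F/∂x_i be the first polar of a. Then
V(P) ∩ T_a S is a union of at most two lines through a, and every line through a lying on S lies in
V(P) ∩ T_a S; lines are 2-dimensional subspaces of K^4 and T_a S is the 3-dimensional subspace where
ℓ vanishes. -/
theorem result (K : Type u) [Field K] [IsAlgClosed K] [CharZero K]
    (F : MvPolynomial (Fin 4) K) (hF : F.IsHomogeneous 3) (hirr : Irreducible F)
    (hcone : ¬ ∃ v : Fin 4 → K, v ≠ 0 ∧ ∑ i : Fin 4, v i • MvPolynomial.pderiv i F = 0)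
    (a : Fin 4 → K) (ha : a ≠ 0) (hFa : MvPolynomial.eval a F = 0)
    (hsm : ∃ i : Fin 4, MvPolynomial.eval a (MvPolynomial.pderiv i F) ≠ 0)
    (ℓ : MvPolynomial (Fin 4) K)
    (hℓ : ℓ = ∑ i : Fin 4, MvPolynomial.C (MvPolynomial.eval a (MvPolynomial.pderiv i F)) * MvPolynomial.X i)
    (hT : ¬ ∃ L₁ L₂ L₃ : MvPolynomial (Fin 4) K, L₁.IsHomogeneous 1 ∧ L₂.IsHomogeneous 1 ∧ L₃.IsHomogeneous 1 ∧
      F - L₁ * L₂ * L₃ ∈ Ideal.span {ℓ})
    (P : MvPolynomial (Fin 4) K) (hP : P = ∑ i : Fin 4, a i • MvPolynomial.pderiv i F)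
    (H : Submodule K (Fin 4 → K)) (hH : ∀ x : Fin 4 → K, x ∈ H ↔ MvPolynomial.eval x ℓ = 0) :
    (∃ U₁ U₂ : Submodule K (Fin 4 → K), Module.finrank K ↥U₁ = 2 ∧ Module.finrank K ↥U₂ = 2 ∧ a ∈ U₁ ∧ a ∈ U₂ ∧
        U₁ ≤ H ∧ U₂ ≤ H ∧ {x : Fin 4 → K | x ∈ H ∧ MvPolynomial.eval x P = 0} = (U₁ : Set (Fin 4 → K)) ∪ (U₂ : Set (Fin 4 → K))) ∧
      ∀ U : Submodule K (Fin 4 → K), a ∈ U → Module.finrank K ↥U = 2 → (∀ u ∈ U, MvPolynomial.eval u F = 0) →
        U ≤ H ∧ ∀ u ∈ U, MvPolynomial.eval u P = 0 := by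
  obtain ⟨G, hG⟩ := Cubic70.exists_form hF
  have hsa : G.T a a ≠ 0 := (hG.smooth_iff a).1 hsm
  have hFa' : G.F a = 0 := by rw [← hG.eval_eq, hFa]
  have hT' : ¬ Cubic70.Union3 G (Cubic70.tan G a) := fun h => hT (by
    obtain ⟨L₁, L₂, L₃, h1, h2, h3, h4⟩ := (hG.union3_iff hsa).1 h
    exact ⟨L₁, L₂, L₃, h1, h2, h3, hℓ ▸ h4⟩)
  have hH' : H = Cubic70.tan G a := Submodule.ext fun x =>
    (hH x).trans (hℓ ▸ (hG.mem_tan_iff a x).symm)
  subst hH'
  have hPe : ∀ x, MvPolynomial.eval x P = 3 * G.T x x a := fun x => by rw [hP, hG.eval_polar]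
  refine ⟨?_, fun U haU hU hUF => ?_⟩
  swap
  · have hline : Cubic70.IsLine G U := ⟨hU, fun u hu => by rw [← hG.eval_eq]; exact hUF u hu⟩
    refine ⟨Cubic70.line_le_tan hline haU, fun u hu => ?_⟩
    rw [hPe, G.T_eq_zero_of_F hline.2 hu hu haU, mul_zero]
  -- coordinates `a, x, y` on the tangent plane
  have haH : a ∈ Cubic70.tan G a := Cubic70.self_mem_tan hFa'
  have h3 := Cubic70.finrank_tan hsa
  obtain ⟨W, hW⟩ := Submodule.exists_isCompl (Submodule.span K {(⟨a, haH⟩ : Cubic70.tan G a)})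
  have hW2 : Module.finrank K W = 2 := by
    have h := Submodule.finrank_add_eq_of_isCompl hW
    rw [finrank_span_singleton (fun h' => ha (congrArg Subtype.val h')), h3] at h
    omega
  have hW2' : Module.finrank K (W.map (Cubic70.tan G a).subtype) = 2 := by
    rw [← hW2]
    exact (Submodule.equivMapOfInjective _ (Cubic70.tan G a).injective_subtype W).finrank_eq.symm
  obtain ⟨x, y, hx, hy, hli⟩ := Cubic70.exists_basis₂ hW2'
  have hxy : a ∉ Submodule.span K {x, y} := fun h => by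
    have hle : Submodule.span K {x, y} ≤ W.map (Cubic70.tan G a).subtype :=
      Submodule.span_le.2 (by rintro v (rfl | rfl) <;> assumption)
    obtain ⟨w, hw, hwa⟩ := hle h
    have : w = ⟨a, haH⟩ := Subtype.ext hwa
    subst this
    exact ha (congrArg Subtype.val (Submodule.disjoint_def.1 hW.disjoint _ (Submodule.mem_span_singleton_self _) hw))
  have hxH : x ∈ Cubic70.tan G a := by obtain ⟨w, -, rfl⟩ := hx; exact w.2
  have hyH : y ∈ Cubic70.tan G a := by obtain ⟨w, -, rfl⟩ := hy; exact w.2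
  have hli3 := Cubic70.li_three_of_notMem hli hxy
  obtain ⟨φ₁, φ₂, φ₃, hφ⟩ := Cubic70.exists_mem_of_li hli3 h3 haH hxH hyH
  obtain ⟨p, q, r, w, e1, e2, e3⟩ :=
    Cubic70.exists_quad_factor (G.T a x x) (2 * G.T a x y) (G.T a y y)
  let l₁ := p • φ₂ + q • φ₃
  let l₂ := r • φ₂ + w • φ₃
  have hval : ∀ h ∈ Cubic70.tan G a, G.T h h a = l₁ h * l₂ h := fun h hh => by
    conv_lhs => rw [G.symm₁₃, hφ h hh]
    simp only [map_add, map_smul, LinearMap.add_apply, LinearMap.smul_apply, smul_eq_mul, l₁, l₂]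
    rw [show G.T a a a = 0 from hFa', Cubic70.mem_tan.1 hxH, Cubic70.mem_tan.1 hyH, G.symm₂₃ a x a,
      G.symm₂₃ a y a, Cubic70.mem_tan.1 hxH, Cubic70.mem_tan.1 hyH, G.symm₂₃ a y x]
    linear_combination (-φ₂ h ^ 2) * e1 + (-φ₂ h * φ₃ h) * e2 + (-φ₃ h ^ 2) * e3
  have hcoord : φ₂ a = 0 ∧ φ₃ a = 0 := by
    have h := hφ a haH
    have h' := Fintype.linearIndependent_iff.1 hli3 ![φ₁ a - 1, φ₂ a, φ₃ a] (by
      have h'' : (φ₁ a - 1) • a + φ₂ a • x + φ₃ a • y = 0 := by linear_combination (norm := module) -h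
      simpa [Fin.sum_univ_three] using h'')
    exact ⟨h' 1, h' 2⟩
  have hdim : ∀ l : (Fin 4 → K) →ₗ[K] K, l a = 0 → ¬ (∀ h ∈ Cubic70.tan G a, l h = 0) →
      Module.finrank K ↥(Cubic70.tan G a ⊓ LinearMap.ker l) = 2 := by
    intro l hla hne
    have h1 := Submodule.finrank_sup_add_finrank_inf_eq (Cubic70.tan G a) (LinearMap.ker l)
    have h2 := Submodule.finrank_le (Cubic70.tan G a ⊔ LinearMap.ker l)
    have h4 := LinearMap.finrank_range_add_finrank_ker l
    have h5 := (Submodule.finrank_le (LinearMap.range l)).trans_eq (Module.finrank_self K)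
    have h6 := Submodule.finrank_lt_finrank_of_lt (lt_of_le_of_ne (inf_le_left (a := Cubic70.tan G a) (b := LinearMap.ker l))
      fun he => hne fun h hh => (he.ge hh).2)
    simp only [Cubic70.V, Module.finrank_fin_fun] at *
    omega
  have hne : ¬ (∀ h ∈ Cubic70.tan G a, l₁ h * l₂ h = 0) := fun hall => hT' (by
    obtain ⟨p', q', r', w', x', y', hfac⟩ :=
      Cubic70.exists_cubic_factor (G.F x) (3 * G.T x x y) (3 * G.T x y y) (G.F y)
    refine ⟨p' • φ₂ + q' • φ₃, r' • φ₂ + w' • φ₃, x' • φ₂ + y' • φ₃, fun h hh => ?_⟩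
    have hz := hall h hh
    rw [← hval h hh] at hz
    simp only [LinearMap.add_apply, LinearMap.smul_apply, smul_eq_mul]
    rw [← hfac]
    conv_lhs => rw [hφ h hh, G.F_comb₃]
    conv at hz => lhs; rw [G.symm₁₃, hφ h hh]
    simp only [map_add, map_smul, LinearMap.add_apply, LinearMap.smul_apply, smul_eq_mul] at hz
    rw [show G.T a a a = 0 from hFa', Cubic70.mem_tan.1 hxH, Cubic70.mem_tan.1 hyH, G.symm₂₃ a x a,
      G.symm₂₃ a y a, Cubic70.mem_tan.1 hxH, Cubic70.mem_tan.1 hyH, G.symm₂₃ a y x] at hz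
    rw [hFa', Cubic70.mem_tan.1 hxH, Cubic70.mem_tan.1 hyH]
    linear_combination (3 * φ₁ h) * hz)
  refine ⟨Cubic70.tan G a ⊓ LinearMap.ker l₁, Cubic70.tan G a ⊓ LinearMap.ker l₂,
    hdim l₁ (by simp [l₁, hcoord.1, hcoord.2]) (fun h0 => hne fun h hh => by rw [h0 h hh, zero_mul]),
    hdim l₂ (by simp [l₂, hcoord.1, hcoord.2]) (fun h0 => hne fun h hh => by rw [h0 h hh, mul_zero]),
    ⟨haH, by simp [l₁, hcoord.1, hcoord.2]⟩, ⟨haH, by simp [l₂, hcoord.1, hcoord.2]⟩, inf_le_left, inf_le_left, ?_⟩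
  ext v
  simp only [Set.mem_setOf_eq, Set.mem_union, SetLike.mem_coe, Submodule.mem_inf, LinearMap.mem_ker, hPe, mul_eq_zero,
    OfNat.ofNat_ne_zero, false_or]
  constructor
  · rintro ⟨hv, h0⟩
    rw [hval v hv, mul_eq_zero] at h0
    exact h0.imp (fun h => ⟨hv, h⟩) fun h => ⟨hv, h⟩
  · rintro (⟨hv, h⟩ | ⟨hv, h⟩) <;> exact ⟨hv, by rw [hval v hv, h]; ring⟩

end Groth.Agent.S16352
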