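import Groth.Statements.S16354
import Groth.Agent.Cubic70.Rep

set_option autoImplicit false
universe u
open Cubic

namespace Groth.Agent.S16354

/-- Let k be a subfield of ℝ (a field equipped with an embedding into the reals) and S = V(F) ⊂ P^3 the
cubic surface of a homogeneous cubic F ∈ k[x_0, …, x_3] which is geometrically irreducible and not a
cone (no nonzero vector v has Σ_i v_i ∂F/∂x_i = 0). Then S admits a linear Pfaffian representation
over a real intermediate field k ⊆ E ⊆ ℝ of degree [E : k] ≤ 3. A linear Pfaffian representation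
over E is a 6 × 6 alternating matrix M of linear forms in E[x_0, …, x_3] whose Pfaffian is a nonzero
constant multiple of F; since the determinant of an alternating matrix is the square of its Pfaffian
and the polynomial ring is factorial with no nonconstant units, this is the same as det M = c · F^2
for a nonzero constant c, which is how it is written here. -/
theorem result (k : Type u) [Field k] [Algebra k ℝ]
    (F : MvPolynomial (Fin 4) k) (hF : F.IsHomogeneous 3)
    (hirr : Irreducible (MvPolynomial.map (algebraMap k (AlgebraicClosure k)) F))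
    (hcone : ¬ ∃ v : Fin 4 → k, v ≠ 0 ∧ ∑ i : Fin 4, v i • MvPolynomial.pderiv i F = 0) :
    ∃ E : IntermediateField k ℝ, FiniteDimensional k ↥E ∧ Module.finrank k ↥E ≤ 3 ∧
      ∃ M : Matrix (Fin 6) (Fin 6) (MvPolynomial (Fin 4) ↥E), (∀ i j, (M i j).IsHomogeneous 1) ∧ M.transpose = -M ∧ (∀ i, M i i = 0) ∧
        ∃ c : ↥E, c ≠ 0 ∧ M.det = MvPolynomial.C c * (MvPolynomial.map (algebraMap k ↥E) F) ^ 2 := by
  have : CharZero k := RingHom.charZero (algebraMap k ℝ)
  obtain ⟨GK, hGK⟩ := Cubic70.exists_form (hF.map (algebraMap k (AlgebraicClosure k)))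
  obtain ⟨p, q, G, hG, hq, hli, hline⟩ := Cubic70.exists_good_line hF hirr hcone hGK
  have hd := Cubic70.natDegree_linePoly p hq
  obtain ⟨θ, hθ⟩ : ∃ θ : ℝ, Polynomial.aeval θ (Cubic70.linePoly G p q) = 0 := by
    obtain ⟨θ, hθ⟩ := Cubic70.exists_real_root ((Cubic70.linePoly G p q).map (algebraMap k ℝ))
      (by rw [Polynomial.natDegree_map, hd]; decide)
    exact ⟨θ, by rwa [Polynomial.aeval_def, ← Polynomial.eval_map]⟩
  have hint : IsIntegral k θ := IsAlgebraic.isIntegral ⟨_, fun h => by rw [h, Polynomial.natDegree_zero] at hd; omega, hθ⟩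
  have := IntermediateField.adjoin.finiteDimensional hint
  refine ⟨IntermediateField.adjoin k {θ}, this, ?_, ?_⟩
  · rw [IntermediateField.adjoin.finrank hint, ← hd]
    exact Polynomial.natDegree_le_of_dvd (minpoly.dvd k θ hθ) fun h => by
      rw [h, Polynomial.natDegree_zero] at hd; omega
  · let σ : IntermediateField.adjoin k {θ} →ₐ[k] AlgebraicClosure k := IsAlgClosed.lift
    let _ : Algebra (IntermediateField.adjoin k {θ}) (AlgebraicClosure k) := σ.toRingHom.toAlgebra
    have : IsScalarTower k (IntermediateField.adjoin k {θ}) (AlgebraicClosure k) :=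
      IsScalarTower.of_algebraMap_eq fun x => (σ.commutes x).symm
    refine Cubic70.rep_of_root hF hirr hcone hGK hG p q hq hline hli
      ⟨θ, IntermediateField.mem_adjoin_simple_self k θ⟩ ?_
    apply (algebraMap (IntermediateField.adjoin k {θ}) ℝ).injective
    rw [map_zero, ← Polynomial.aeval_algebraMap_apply]
    exact hθ

end Groth.Agent.S16354
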