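import Groth.Statements.S16387
import Groth.Agent.AVTate3.AbVar

set_option autoImplicit false
set_option linter.style.haveILetI false
set_option backward.isDefEq.respectTransparency false
set_option backward.isDefEq.respectTransparency.types false
universe u
open CategoryTheory MonoidalCategory CartesianMonoidalCategory MonObj GrpObj AlgebraicGeometry
open AbVar

namespace Groth.Agent.S16387

/-- Let k be a finite field with algebraic closure Ω, l a prime number invertible in k, and A, B abelian
varieties over k (proper, geometrically integral commutative group schemes over k). If the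
homomorphism i : A → B is injective (a closed immersion), then the induced ℤ_l-linear map between
the l-adic Tate modules of Ω-points T_l(i) : T_l A → T_l B is injective with torsion-free, hence
free, cokernel: the quotient of T_l B by the image of T_l A is a free ℤ_l-module. -/
theorem result (k Ω : Type u) [Field k] [Finite k]
    [Field Ω] [Algebra k Ω] [IsAlgClosure k Ω] (l : ℕ) [Fact l.Prime] (hl : (l : k) ≠ 0)
    (A B : Over (Spec (CommRingCat.of k))) [GrpObj A] [IsCommMonObj A] [IsProper A.hom] [GeometricallyIntegral A.hom]
    [GrpObj B] [IsCommMonObj B] [IsProper B.hom] [GeometricallyIntegral B.hom]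
    (i : A ⟶ B) [IsMonHom i] [IsClosedImmersion i.left] :
    Function.Injective (AbDual.tateMapₗ (l := l) (T := SGA7.pt Ω) i) ∧
      Module.Free ℤ_[l] (AbDual.TateMod B l (SGA7.pt Ω) ⧸
        LinearMap.range (AbDual.tateMapₗ (l := l) (T := SGA7.pt Ω) i)) := by
  haveI := IsAlgClosure.isAlgClosed k (K := Ω)
  haveI : Mono i := Over.mono_of_mono_left i
  obtain ⟨hinj, hsat⟩ := Groth.Agent.AVTate3.tateMap_saturated (l := l) (T := SGA7.pt (K := k) Ω) i
  haveI : Module.Finite ℤ_[l] (AbDual.TateMod B l (SGA7.pt Ω)) := Groth.Agent.AVTate3.finite_tateMod _ l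
  refine ⟨hinj, ?_⟩
  haveI : Module.IsTorsionFree ℤ_[l] (AbDual.TateMod B l (SGA7.pt Ω) ⧸
      LinearMap.range (AbDual.tateMapₗ (l := l) (T := SGA7.pt Ω) i)) :=
    Module.IsTorsionFree.of_smul_eq_zero fun r z hrz => by
      rw [or_iff_not_imp_left]
      intro hr
      obtain ⟨y, rfl⟩ := Submodule.mkQ_surjective _ z
      rw [Submodule.mkQ_apply, ← Submodule.Quotient.mk_smul, Submodule.Quotient.mk_eq_zero,
        PadicInt.unitCoeff_spec hr, mul_smul, Submodule.smul_mem_iff_of_isUnit _ (PadicInt.unitCoeff hr).isUnit] at hrz
      rw [Submodule.mkQ_apply, Submodule.Quotient.mk_eq_zero]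
      generalize r.valuation = m at hrz
      induction m generalizing y with
      | zero => simpa using hrz
      | succ m ih =>
        rw [pow_succ, mul_smul] at hrz
        exact hsat _ (ih _ hrz)
  exact Module.free_of_finite_type_torsion_free'

end Groth.Agent.S16387
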