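import Groth.Statements.S1641
import Groth.Agent.VarBase.CurveDeg

set_option autoImplicit false
set_option linter.style.haveILetI false
set_option backward.isDefEq.respectTransparency false
set_option backward.isDefEq.respectTransparency.types false
universe u
open CategoryTheory CategoryTheory.Limits AlgebraicGeometry
open Variety

namespace Groth.Agent.S1641

open Groth.Agent.VarBase TopologicalSpace

theorem deg_quot (k : Type u) [Field k] (X : Scheme.{u}) [X.Over (Spec (CommRingCat.of k))]
    [IsProper (X ↘ (Spec (CommRingCat.of k)))] {n : ℕ} {E : X.Modules} (hE : FlatMod.IsFinLocFreeOfRank n E)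
    (I : X.IdealSheafData) :
    psi k hE (ClSub.quotMod I) =
      @Curv2.deg k _ I.subscheme ⟨I.subschemeι ≫ (X ↘ (Spec (CommRingCat.of k)))⟩
        ((Scheme.Modules.pullback I.subschemeι).obj E) n :=
  letI : I.subscheme.Over (Spec (CommRingCat.of k)) := ⟨I.subschemeι ≫ (X ↘ (Spec (CommRingCat.of k)))⟩
  (deg_pullback_eq_psi k I.subschemeι rfl hE).symm

/-- Let X be proper of dimension at most one over k and E finite locally free of rank n. Then deg E is
the sum, over the irreducible components C of X of dimension one with their reduced induced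
structure, of m_C · deg(E|_C), where m_C is the length of the local ring of X at the generic point
of C. -/
theorem result (k : Type u) [Field k] (X : Scheme.{u}) [X.Over (Spec (CommRingCat.of k))] [IsProper (X ↘ (Spec (CommRingCat.of k)))] [IsNoetherian X] (hdim : topologicalKrullDim X ≤ 1)
    (n : ℕ) (E : X.Modules) (hE : FlatMod.IsFinLocFreeOfRank n E) :
    Curv2.deg k X E n = ∑ᶠ Z : irreducibleComponents (X : Type u),
      (if topologicalKrullDim (Z.1 : Set X) = 1 then
        ((Module.length (X.presheaf.stalk Z.2.1.genericPoint) (X.presheaf.stalk Z.2.1.genericPoint)).toNat : ℤ) *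
          @Curv2.deg k _ (X.irreducibleComponentIdeal Z.1 Z.2).radical.subscheme ⟨(X.irreducibleComponentIdeal Z.1 Z.2).radical.subschemeι ≫ (X ↘ (Spec (CommRingCat.of k)))⟩ ((Scheme.Modules.pullback (X.irreducibleComponentIdeal Z.1 Z.2).radical.subschemeι).obj E) n
      else 0) := by
  classical
  let g : irreducibleComponents (X : Type u) → X := fun Z => Z.2.1.genericPoint
  have hcl : ∀ Z : irreducibleComponents (X : Type u), closure ({g Z} : Set X) = Z.1 := fun Z =>
    Z.2.1.closure_genericPoint (isClosed_of_mem_irreducibleComponents _ Z.2)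
  have hg : Function.Injective g := fun A B h => Subtype.ext (by rw [← hcl A, ← hcl B, h])
  have hOle : topologicalKrullDim ↥(Set.univ : Set X) ≤ ((1 : ℕ) : WithBot ℕ∞) :=
    (topologicalKrullDim_subspace_le ↥X Set.univ).trans (by exact_mod_cast hdim)
  rw [deg_eq_compSum k hdim hE, compSum, ← finsum_mem_univ]
  rw [finsum_mem_inter_support_eq' _ Set.univ (Set.range g) (fun ξ hξ => iff_of_true trivial ?_),
    finsum_mem_range hg]
  · refine finsum_congr fun Z => ?_
    have hI : clIdeal (g Z) = (X.irreducibleComponentIdeal Z.1 Z.2).radical := by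
      rw [← Scheme.IdealSheafData.vanishingIdeal_support, clIdeal]
      exact congrArg Scheme.IdealSheafData.vanishingIdeal (Closeds.ext (hcl Z))
    refine if_congr ?_ ?_ rfl
    · rw [show topologicalKrullDim ↥(closure ({g Z} : Set X)) = topologicalKrullDim ↥Z.1 from
        congrArg (fun T : Set X => topologicalKrullDim ↥T) (hcl Z), Nat.cast_one]
    · rw [nsmul_eq_mul, deg_quot k X hE, hI]
      exact congrArg (fun a : ℕ∞ => (a.toNat : ℤ) * _) (Groth.Agent.H23.ClosedPushLen.length_structureModule (g Z))
  · have hd : topologicalKrullDim (closure ({ξ} : Set X)) = ((1 : ℕ) : WithBot ℕ∞) := by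
      by_contra h
      exact hξ (if_neg h)
    have hc : closure ({ξ} : Set X) ∈ irreducibleComponents (X : Type u) :=
      ⟨isIrreducible_singleton.closure, fun S hS hle => by
        obtain ⟨η, hη⟩ := QuasiSober.sober hS.closure isClosed_closure
        have hs : η ⤳ ξ := hη.specializes (subset_closure (hle (subset_closure rfl)))
        obtain rfl := eq_of_specializes_of_dim isClosed_univ hOle trivial hs hd
        exact subset_closure.trans hη.def.ge⟩
    exact ⟨⟨_, hc⟩, (hc.1.isGenericPoint_genericPoint isClosed_closure).eq (isGenericPoint_closure)⟩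

end Groth.Agent.S1641
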