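import Groth.Statements.S1643
import Groth.Agent.HQ47.Mumford

set_option autoImplicit false
set_option backward.isDefEq.respectTransparency false
set_option backward.isDefEq.respectTransparency.types false
universe u
open CategoryTheory CategoryTheory.Limits AlgebraicGeometry
open Variety

namespace Groth.Agent.S1643

/-- Fix n ≥ 0, r ≥ 1 and a rational polynomial P. There is an integer m, depending only on n, r and P,
such that for every field k and every epimorphism from the free module of rank r on P^n_k onto a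
coherent module F whose Euler characteristics χ(F(t)) are given by P for all integers t, the kernel
is m-regular. -/
theorem result (n r : ℕ) (hr : 1 ≤ r) (P : Polynomial ℚ) :
    ∃ m : ℤ, ∀ (k : Type u) [Field k] (F : (CohB1.ProjSpace n k).Modules) (φ : FlatMod.freeMod (CohB1.ProjSpace n k) r ⟶ F), Coh.IsCoh F → Epi φ →
      (∀ t : ℤ, (Curv2.euler k (CohB1.ProjSpace n k) (CohB1.tensorMod F (Twist.twistProjSpace n k t)) : ℚ) = P.eval (t : ℚ)) →
      Curv2.IsMRegular k n (kernel φ) m := by
  open Groth.Agent Groth.Agent.HQ47.Mumford in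
  let g : ℤ → ℤ := fun j => Groth.Agent.HQ47.Mumford.chM r (n + 1) j - ⌊P.eval (j : ℚ)⌋
  refine ⟨Groth.Agent.HQ47.Mumford.Rb r (n + 1) g, fun k _ F φ hF hφ hP => ?_⟩
  haveI := hφ
  let F' : (Proj (CohB1.polyGrading n k)).Modules := F
  let φ' : FlatMod.freeMod (Proj (CohB1.polyGrading n k)) r ⟶ F' := φ
  haveI : Epi φ' := hφ
  have hK : Coh.IsCoh (kernel φ') :=
    Groth.Agent.HQ47.Mumford.isCoh_kernel r φ' hF
  obtain ⟨-, hreg⟩ := Groth.Agent.HQ47.Mumford.regular_of_mono r _ hK (kernel.ι φ')
  have hg : Groth.Agent.HQ47.Mumford.chi (k := k) (kernel φ') = g := funext fun j => by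
    rw [Groth.Agent.HQ47.Mumford.chi_kernel r φ' hF j]
    refine congrArg (fun z : ℤ => Groth.Agent.HQ47.Mumford.chM r (n + 1) j - z) ?_
    rw [← hP j, Int.floor_intCast]
    rfl
  rwa [hg] at hreg

end Groth.Agent.S1643
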