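import Groth.Statements.S16432
import Groth.Agent.HensEt88.NormalInterMem

set_option linter.style.haveILetI false

set_option autoImplicit false
universe u
open EGA4loc

namespace Groth.Agent.S16432

/-- Let A be an excellent normal local domain and S a strict henselization of A; let D be an
A-subalgebra of S which is a local ring dominated by S (the inclusion is a local homomorphism), an
integrally closed domain, and whose fraction field is generated as a field over the image of A by
finitely many elements of D. Then D is an essentially etale local A-algebra: A-isomorphic to the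
localization of an etale A-algebra at a prime ideal over the maximal ideal of A. -/
theorem result
    (A S : Type u) [CommRing A] [IsLocalRing A] [IsDomain A] [IsIntegrallyClosed A]
    (hA : EGA4.IsExcellent A) [CommRing S] [IsLocalRing S] [Algebra A S] [IsLocalHom (algebraMap A S)]
    [Hensel.IsStrictHenselization A S] (D : Subalgebra A S) [IsLocalRing D]
    [IsLocalHom (algebraMap D S)] [IsDomain D] [IsIntegrallyClosed D]
    (hfg : ∃ s : Finset D, Subfield.closure (Set.range (algebraMap A (FractionRing D)) ∪
        (algebraMap D (FractionRing D)) '' (s : Set D)) = ⊤) :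
    EGA4loc.IsEssentiallyEtale A D := by
  classical
  haveI : IsNoetherianRing A := hA.1
  obtain ⟨hdom, hSic⟩ := (S2748.result A S).mpr ⟨inferInstance, inferInstance⟩
  haveI := hdom
  obtain ⟨s, hs⟩ := hfg
  let g : D →+* FractionRing S := (algebraMap S (FractionRing S)).comp D.val.toRingHom
  have hg : Function.Injective g := (IsFractionRing.injective S (FractionRing S)).comp Subtype.val_injective
  let ι : FractionRing D →+* FractionRing S := IsFractionRing.lift hg
  let t : Finset (FractionRing S) := s.image fun d => g d
  obtain ⟨E, hE, ⟨hEloc, hElh, hEess⟩, hEfrac⟩ := HensEt88.exists_essEtale_inter_subfield A S t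
  let T := Set.range (algebraMap A (FractionRing S)) ∪ (t : Set (FractionRing S))
  have hT : ∀ w ∈ T, ∃ d : D, w = algebraMap S (FractionRing S) d := by
    rintro w (⟨a, rfl⟩ | hw)
    · exact ⟨algebraMap A D a, IsScalarTower.algebraMap_apply A S (FractionRing S) a⟩
    · obtain ⟨d, -, rfl⟩ := Finset.mem_image.mp hw
      exact ⟨d, rfl⟩
  have hle : ι.fieldRange ≤ Subfield.closure T := by
    rw [RingHom.fieldRange_eq_map, ← hs, RingHom.map_field_closure]
    refine Subfield.closure_mono ?_
    rintro w ⟨z, ⟨a, rfl⟩ | ⟨d, hd, rfl⟩, rfl⟩
    · left
      refine ⟨a, ?_⟩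
      rw [IsScalarTower.algebraMap_apply A D (FractionRing D)]
      show _ = ι _
      rw [IsFractionRing.lift_algebraMap hg]
      exact IsScalarTower.algebraMap_apply A S (FractionRing S) a
    · right
      exact Finset.mem_image.mpr ⟨d, hd, (IsFractionRing.lift_algebraMap hg d).symm⟩
  have hED : E = D := by
    refine le_antisymm (fun x hx => ?_) fun x hx => ?_
    · obtain ⟨a, b, ha, hb, hai, hbi, hu, h⟩ := hEfrac x hx
      exact HensEt88.mem_of_integral_div A S D T hT (hE.le ha) (hE.le hb) hai hbi hu h
    · refine hE.ge ?_
      exact hle ⟨algebraMap D _ ⟨x, hx⟩, IsFractionRing.lift_algebraMap hg _⟩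
  subst hED
  exact hEess

end Groth.Agent.S16432
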