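import Groth.Statements.S16433
import Groth.Agent.HensEt88.NormalInterMem

set_option linter.style.haveILetI false

set_option autoImplicit false
universe u
open EGA4loc

namespace Groth.Agent.S16433

/-- Let A be an excellent normal local domain and S a strict henselization of A; let D be an
A-subalgebra of S which is a local ring dominated by S (the inclusion is a local homomorphism) and
an integrally closed domain. Then D is a directed union of local etale extensions of A: every finite
subset of D is contained in an A-subalgebra D' of S with D' contained in D, D' a local ring whose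
inclusion into S is local, and D' an essentially etale local A-algebra (a localization of an etale
A-algebra at a prime over the maximal ideal). -/
theorem result
    (A S : Type u) [CommRing A] [IsLocalRing A] [IsDomain A] [IsIntegrallyClosed A]
    (hA : EGA4.IsExcellent A) [CommRing S] [IsLocalRing S] [Algebra A S] [IsLocalHom (algebraMap A S)]
    [Hensel.IsStrictHenselization A S] (D : Subalgebra A S) [IsLocalRing D]
    [IsLocalHom (algebraMap D S)] [IsDomain D] [IsIntegrallyClosed D]
    (s : Finset S) (hs : (s : Set S) ⊆ (D : Set S)) :
    ∃ D' : Subalgebra A S, D' ≤ D ∧ (s : Set S) ⊆ (D' : Set S) ∧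
      ∃ _ : IsLocalRing D', IsLocalHom (algebraMap D' S) ∧ EGA4loc.IsEssentiallyEtale A D' := by
  classical
  haveI : IsNoetherianRing A := hA.1
  obtain ⟨hdom, hSic⟩ := (S2748.result A S).mpr ⟨inferInstance, inferInstance⟩
  haveI := hdom
  let t : Finset (FractionRing S) := s.image fun d => algebraMap S (FractionRing S) d
  obtain ⟨E, hE, hEprop, hEfrac⟩ := HensEt88.exists_essEtale_inter_subfield A S t
  let T := Set.range (algebraMap A (FractionRing S)) ∪ (t : Set (FractionRing S))
  have hT : ∀ w ∈ T, ∃ d : D, w = algebraMap S (FractionRing S) d := by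
    rintro w (⟨a, rfl⟩ | hw)
    · exact ⟨algebraMap A D a, IsScalarTower.algebraMap_apply A S (FractionRing S) a⟩
    · obtain ⟨d, hd, rfl⟩ := Finset.mem_image.mp hw
      exact ⟨⟨d, hs hd⟩, rfl⟩
  refine ⟨E, fun x hx => ?_, fun x hx => hE.ge ?_, hEprop⟩
  · obtain ⟨a, b, ha, hb, hai, hbi, hu, h⟩ := hEfrac x hx
    exact HensEt88.mem_of_integral_div A S D T hT (hE.le ha) (hE.le hb) hai hbi hu h
  · exact Subfield.subset_closure (Or.inr (Finset.mem_image.mpr ⟨x, hx, rfl⟩))

end Groth.Agent.S16433
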