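import Groth.Statements.S16442
import Groth.Agent.HensEt88.EssEtStrict

set_option autoImplicit false
universe u
open EGA4loc

namespace Groth.Agent.S16442

/-- Let A be a reduced local ring with finitely many minimal prime ideals, S a strict henselization of
A, and D an A-subalgebra of S which is a local ring dominated by S (local inclusion) and essentially
of finite type over A. Then D is contained in some A-subalgebra E of S which is a local ring and an
essentially etale local A-algebra. -/
theorem result
    (A S : Type u) [CommRing A] [IsLocalRing A] [IsReduced A] (hmin : (minimalPrimes A).Finite)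
    [CommRing S] [IsLocalRing S] [Algebra A S] [IsLocalHom (algebraMap A S)]
    [Hensel.IsStrictHenselization A S] (D : Subalgebra A S) [IsLocalRing D]
    [IsLocalHom (algebraMap D S)] [Algebra.EssFiniteType A D] :
    ∃ E : Subalgebra A S, D ≤ E ∧ ∃ _ : IsLocalRing E, EGA4loc.IsEssentiallyEtale A E := by
  classical
  obtain ⟨σ, hσ⟩ := (Algebra.essFiniteType_iff A D).mp (inferInstance : Algebra.EssFiniteType A D)
  obtain ⟨E, hE, hloc, hhom, hess⟩ := HensEt88.exists_essEtale_of_finset A S (σ.image D.val)
  have hadj : Algebra.adjoin A (σ : Set D) ≤ E.comap D.val := Algebra.adjoin_le fun y hy =>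
    hE (Finset.mem_image_of_mem _ hy)
  refine ⟨E, fun x hx => ?_, hloc, hess⟩
  obtain ⟨t, ht, htu, hst⟩ := hσ ⟨x, hx⟩
  have h1 : (t : S) ∈ E := hadj ht
  have h2 : x * (t : S) ∈ E := hadj hst
  obtain ⟨u, hu⟩ := (IsUnit.of_map (algebraMap E S) (⟨t, h1⟩ : E) (htu.map D.val)).exists_right_inv
  have h3 : (t : S) * (u : S) = 1 := congrArg Subtype.val hu
  have h4 := E.mul_mem h2 u.2
  rwa [mul_assoc, h3, mul_one] at h4

end Groth.Agent.S16442
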