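import Groth.Statements.S16441
import Groth.Agent.HensEt88.FracTotal
import Groth.Agent.S16442

set_option autoImplicit false
set_option linter.style.haveILetI false
universe u
open EGA4loc

namespace Groth.Agent.S16441

/-- Let A be a reduced local ring with finitely many minimal prime ideals, S a strict henselization of
A, and D an A-subalgebra of S which is a local ring dominated by S (local inclusion). Then the total
ring of fractions K_D of D is finitely generated over that of A — there is a finite subset t of K_D
such that every element of K_D, multiplied by (the image of) some non-zero-divisor of A, is a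
polynomial expression in t with coefficients from A — if and only if D is contained in some
A-subalgebra E of S which is a local ring and an essentially etale local A-algebra (a localization
of an etale A-algebra at a prime over the maximal ideal). -/
theorem result
    (A S : Type u) [CommRing A] [IsLocalRing A] [IsReduced A] (hmin : (minimalPrimes A).Finite)
    [CommRing S] [IsLocalRing S] [Algebra A S] [IsLocalHom (algebraMap A S)]
    [Hensel.IsStrictHenselization A S] (D : Subalgebra A S) [IsLocalRing D]
    [IsLocalHom (algebraMap D S)] :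
    (∃ t : Finset (FractionRing D), ∀ x : FractionRing D, ∃ a ∈ nonZeroDivisors A,
        algebraMap A (FractionRing D) a * x ∈ Algebra.adjoin A (t : Set (FractionRing D))) ↔
      ∃ E : Subalgebra A S, D ≤ E ∧ ∃ _ : IsLocalRing E, EGA4loc.IsEssentiallyEtale A E := by
  classical
  open scoped nonZeroDivisors in
  have hflat : ∀ a ∈ A⁰, ∀ z : S, a • z = 0 → z = 0 := fun a ha z hz => by
    haveI := Hensel.faithfullyFlat_of_isStrictHenselization A S
    exact Module.Flat.isSMulRegular_of_nonZeroDivisors ha (hz.trans (smul_zero a).symm)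
  open scoped nonZeroDivisors in
  have hreg : ∀ s : D, s ∈ D⁰ → ∃ a ∈ A⁰, ∃ q : D, algebraMap A D a = s * q := by
    intro s hs
    obtain ⟨E, hE, hloc, -, hess⟩ := HensEt88.exists_essEtale_of_finset A S {(s : S)}
    obtain ⟨a, ha, q, hq, hrel⟩ := HensEt88.exists_regular_relation hmin hess ⟨s, hE (Finset.mem_singleton_self _)⟩
    have hqD : (q : S) ∈ D := by
      refine (Algebra.adjoin_le (S := D.comap E.val) ?_) hq
      rintro _ rfl
      exact s.2
    refine ⟨a, ha, ⟨q, hqD⟩, ?_⟩
    refine mem_nonZeroDivisors_iff_right.mp hs _ ?_ |> sub_eq_zero.mp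
    refine Subtype.ext ?_
    have h := congrArg Subtype.val hrel
    simp only [MulMemClass.coe_mul, Algebra.smul_def] at h
    rw [show ((algebraMap A E a : E) : S) = algebraMap A S a from rfl] at h
    show (algebraMap A S a - s * q) * (s : S) = 0
    linear_combination h
  constructor
  · rintro ⟨t, ht⟩
    choose f hf using fun y : t => IsLocalization.exists_mk'_eq (nonZeroDivisors D) (y : FractionRing D)
    choose g hg using hf
    choose α hα q hq using fun y : t => hreg _ (g y).2
    obtain ⟨E, hE, hloc, -, hess⟩ :=
      HensEt88.exists_essEtale_of_finset A S (Finset.univ.image fun y : t => ((f y * q y : D) : S))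
    let N : Subalgebra A (FractionRing D) :=
      { carrier := {z | ∃ b ∈ nonZeroDivisors A, ∃ d : D, (d : S) ∈ E ∧
            algebraMap A (FractionRing D) b * z = algebraMap D (FractionRing D) d}
        mul_mem' := by
          rintro y z ⟨b, hb, d, hd, h⟩ ⟨c, hc, e, he, h'⟩
          refine ⟨b * c, mul_mem hb hc, d * e, E.mul_mem hd he, ?_⟩
          rw [map_mul, map_mul, ← h, ← h']; ring
        add_mem' := by
          rintro y z ⟨b, hb, d, hd, h⟩ ⟨c, hc, e, he, h'⟩
          refine ⟨b * c, mul_mem hb hc, algebraMap A D c * d + algebraMap A D b * e,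
            E.add_mem (E.mul_mem (E.algebraMap_mem c) hd) (E.mul_mem (E.algebraMap_mem b) he), ?_⟩
          simp only [map_mul, map_add, ← IsScalarTower.algebraMap_apply A D (FractionRing D), ← h, ← h']
          ring
        algebraMap_mem' := fun r => ⟨1, one_mem _, algebraMap A D r, E.algebraMap_mem r, by
          rw [map_one, one_mul, ← IsScalarTower.algebraMap_apply A D (FractionRing D)]⟩ }
    have htN : Algebra.adjoin A (t : Set (FractionRing D)) ≤ N := Algebra.adjoin_le fun y hy => by
      refine ⟨α ⟨y, hy⟩, hα _, f ⟨y, hy⟩ * q ⟨y, hy⟩,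
        hE (Finset.mem_image_of_mem _ (Finset.mem_univ _)), ?_⟩
      rw [IsScalarTower.algebraMap_apply A D (FractionRing D), hq, map_mul, map_mul]
      refine ((mul_right_comm _ _ _).trans ?_)
      refine congrArg (· * _) ?_
      exact (congrArg (_ * ·) (hg ⟨y, hy⟩).symm).trans (IsLocalization.mk'_spec' _ _ _)
    refine ⟨E, fun x hx => ?_, hloc, hess⟩
    obtain ⟨a, ha, hax⟩ := ht (algebraMap D (FractionRing D) ⟨x, hx⟩)
    obtain ⟨b, hb, d, hd, h⟩ := htN hax
    have hxd : algebraMap A D (b * a) * ⟨x, hx⟩ = d := by
      refine IsFractionRing.injective D (FractionRing D) ?_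
      rw [map_mul, ← IsScalarTower.algebraMap_apply A D (FractionRing D), map_mul, mul_assoc, h]
    have hmem : algebraMap A S (b * a) * x ∈ E := by
      have := congrArg Subtype.val hxd
      simp only [MulMemClass.coe_mul] at this
      rw [show algebraMap A S (b * a) * x = d from this]
      exact hd
    haveI := hloc
    haveI := HensEt88.faithfullyFlat_of_essEtale A E S hess
    let u : E := ⟨algebraMap A S (b * a) * x, hmem⟩
    have hu : algebraMap E S u ∈ (Ideal.span {algebraMap A E (b * a)}).map (algebraMap E S) := by
      rw [Ideal.map_span, Set.image_singleton, Ideal.mem_span_singleton']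
      exact ⟨x, mul_comm _ _⟩
    rw [← Ideal.mem_comap, Ideal.comap_map_eq_self_of_faithfullyFlat, Ideal.mem_span_singleton'] at hu
    obtain ⟨e, he⟩ := hu
    have he' : (e : S) * algebraMap A S (b * a) = algebraMap A S (b * a) * x := congrArg Subtype.val he
    have := hflat (b * a) (mul_mem hb ha) ((e : S) - x) (by rw [Algebra.smul_def]; linear_combination he')
    rw [← sub_eq_zero.mp this]
    exact e.2
  · rintro ⟨E, hDE, hloc, hess⟩
    obtain ⟨t₀, ht₀, hspan⟩ := HensEt88.exists_finset_span_nzd hmin hess {e : E | (e : S) ∈ D}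
    let ι : {e : E // (e : S) ∈ D} → FractionRing D := fun e =>
      algebraMap D (FractionRing D) ⟨(e.1 : S), e.2⟩
    refine ⟨(t₀.attach.image fun e => ι ⟨e.1, ht₀ e.2⟩), fun x => ?_⟩
    obtain ⟨d, s, rfl⟩ := IsLocalization.exists_mk'_eq (nonZeroDivisors D) x
    obtain ⟨c, hc, q, hq⟩ := hreg s s.2
    obtain ⟨a, ha, hmem⟩ := hspan ⟨((d * q : D) : S), hDE (d * q).2⟩ (d * q).2
    refine ⟨a * c, mul_mem ha hc, ?_⟩
    have key : ∀ e ∈ Submodule.span A (t₀ : Set E), ∃ h : (e : S) ∈ D, ι ⟨e, h⟩ ∈
        Algebra.adjoin A ((t₀.attach.image fun e => ι ⟨e.1, ht₀ e.2⟩ : Finset _) : Set (FractionRing D)) := by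
      intro e he
      induction he using Submodule.span_induction with
      | mem z hz => exact ⟨ht₀ hz, Algebra.subset_adjoin
          (Finset.mem_image.mpr ⟨⟨z, hz⟩, Finset.mem_attach _ _, rfl⟩)⟩
      | zero => exact ⟨D.zero_mem, by
          show algebraMap D (FractionRing D) 0 ∈ _
          rw [map_zero]; exact zero_mem _⟩
      | add y z _ _ hy hz =>
        obtain ⟨hy1, hy2⟩ := hy
        obtain ⟨hz1, hz2⟩ := hz
        refine ⟨D.add_mem hy1 hz1, ?_⟩
        show algebraMap D (FractionRing D) (⟨(y : S), hy1⟩ + ⟨(z : S), hz1⟩) ∈ _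
        rw [map_add]; exact add_mem hy2 hz2
      | smul r z _ hz =>
        obtain ⟨hz1, hz2⟩ := hz
        refine ⟨D.smul_mem hz1 r, ?_⟩
        show algebraMap D (FractionRing D) (r • ⟨(z : S), hz1⟩) ∈ _
        rw [Algebra.smul_def, map_mul, ← IsScalarTower.algebraMap_apply A D (FractionRing D)]
        exact mul_mem (Subalgebra.algebraMap_mem _ r) hz2
    obtain ⟨h, hh⟩ := key _ hmem
    convert hh using 1
    show _ = algebraMap D (FractionRing D) (a • (d * q))
    rw [map_mul, mul_assoc, IsScalarTower.algebraMap_apply A D (FractionRing D) c, hq, Algebra.smul_def,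
      map_mul, map_mul, ← IsScalarTower.algebraMap_apply A D (FractionRing D), map_mul]
    congr 1
    rw [mul_right_comm, IsLocalization.mk'_spec']

end Groth.Agent.S16441
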