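import Groth.Statements.S16439
import Groth.Agent.S16441
import Groth.Agent.S16438
import Groth.Agent.HensEt88.EssEtStrict
import Groth.Agent.HensEt88.FlatEtaleResidue
import Groth.Agent.HensEt88.IntegralDescend
import Groth.Agent.HensEt88.NormalizationEssMain

set_option linter.style.haveILetI false

set_option autoImplicit false
universe u
open EGA4loc

namespace Groth.Agent.S16439

open IsLocalRing in
/-- Let A be an excellent reduced local ring with maximal ideal m, S a strict henselization of A, and D
an A-subalgebra of S which is a Noetherian local ring dominated by S (the inclusion is local), whose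
total ring of fractions K_D is finitely generated over that of A — there is a finite subset t of K_D
such that every element of K_D, after multiplication by (the image of) a non-zero-divisor of A, is a
polynomial expression in t with coefficients from A — and such that m D is the maximal ideal of D.
Then D is an essentially etale local A-algebra: A-isomorphic to the localization of an etale
A-algebra at a prime over m. -/
theorem result
    (A S : Type u) [CommRing A] [IsLocalRing A] [IsReduced A] (hA : EGA4.IsExcellent A)
    [CommRing S] [IsLocalRing S] [Algebra A S] [IsLocalHom (algebraMap A S)]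
    [Hensel.IsStrictHenselization A S] (D : Subalgebra A S) [IsLocalRing D]
    [IsLocalHom (algebraMap D S)] [IsNoetherianRing D]
    (hfg : ∃ t : Finset (FractionRing D), ∀ x : FractionRing D, ∃ a ∈ nonZeroDivisors A,
      algebraMap A (FractionRing D) a * x ∈ Algebra.adjoin A (t : Set (FractionRing D)))
    (hm : Ideal.map (algebraMap A D) (maximalIdeal A) = maximalIdeal D) :
    EGA4loc.IsEssentiallyEtale A D := by
  haveI : IsNoetherianRing A := hA.1
  obtain ⟨E, hDE, hEloc, hE⟩ := (S16441.result A S (minimalPrimes.finite_of_isNoetherianRing A) D).mp hfg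
  letI : Algebra D E := (Subalgebra.inclusion hDE).toAlgebra
  haveI : IsScalarTower A D E := .of_algebraMap_eq fun a => rfl
  haveI : IsScalarTower D E S := .of_algebraMap_eq fun d => rfl
  haveI : IsLocalHom (algebraMap E S) := HensEt88.isLocalHom_of_essEtale A E S hE
  haveI : IsLocalHom (algebraMap D E) := ⟨fun d hd => IsUnit.of_map (algebraMap D S) d (hd.map (algebraMap E S))⟩
  haveI : IsLocalHom (algebraMap A D) := ⟨fun a ha => IsUnit.of_map (algebraMap A S) a (ha.map (algebraMap D S))⟩
  haveI := EssEtLib.isLocalHom_algebraMap hE
  obtain ⟨hwe, heft⟩ := HensEt88.weaklyEtale_and_essFiniteType_of_essEtale A E hE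
  haveI : IsNoetherianRing E := Algebra.EssFiniteType.isNoetherianRing A E
  haveI : Algebra.FormallyUnramified A E := by
    obtain ⟨C, _, _, q, _, _, _, hC, -, hl⟩ := EtAlg7.exists_presentation hE
    haveI := hC
    haveI := hl
    haveI : Algebra.FormallyUnramified C E := Algebra.FormallyUnramified.of_isLocalization q.primeCompl
    exact Algebra.FormallyUnramified.comp A C E
  haveI : IsScalarTower (ResidueField A) (ResidueField D) (ResidueField E) := .of_algebraMap_eq fun x => by
    obtain ⟨x, rfl⟩ := residue_surjective x
    rfl
  haveI : FiniteDimensional (ResidueField A) (ResidueField D) :=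
    FiniteDimensional.left (ResidueField A) (ResidueField D) (ResidueField E)
  haveI : Algebra.IsSeparable (ResidueField A) (ResidueField D) :=
    Algebra.isSeparable_tower_bot_of_isSeparable (ResidueField A) (ResidueField D) (ResidueField E)
  haveI : Module.Flat D E := HensEt88.flat_of_weaklyEtale_of_map_maximalIdeal hm
  haveI : Module.FaithfullyFlat D E := Module.FaithfullyFlat.of_flat_of_isLocalHom
  -- `D` as a subalgebra of `E`
  let D₀ : Subalgebra A E := (Subalgebra.inclusion hDE).range
  let e : D ≃ₐ[A] D₀ := AlgEquiv.ofInjective _ (Subalgebra.inclusion_injective hDE)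
  haveI : IsLocalRing D₀ := e.toRingEquiv.isLocalRing
  haveI : IsLocalHom (algebraMap D₀ E) := ⟨fun x hx => by
    obtain ⟨d, rfl⟩ := e.surjective x
    exact (IsUnit.of_map (algebraMap D E) d hx).map e⟩
  let D' : Subalgebra A (FractionRing E) :=
    HensEt88.ratSub D₀ ⊓ (integralClosure D₀ (FractionRing E)).restrictScalars A
  haveI : Algebra.EssFiniteType A D₀ := by
    refine HensEt88.essFiniteType_of_semilocal_normalization D₀ hA hE D' (fun x => and_comm) fun s hs hsu => ?_
    obtain ⟨r, hr⟩ := HensEt88.vnr_ratSub D₀ hA hE ⟨s, hs.1⟩
    have hsE : s ∈ (integralClosure E (FractionRing E)).restrictScalars A := by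
      obtain ⟨P, hP, hPs⟩ := hs.2
      refine ⟨P.map D₀.val.toRingHom, hP.map _, ?_⟩
      rw [Polynomial.eval₂_map]
      exact hPs
    have hunit : IsUnit (⟨s, hsE⟩ : (integralClosure E (FractionRing E)).restrictScalars A) := by
      by_contra hns
      obtain ⟨M, hM, hsM⟩ := exists_max_ideal_of_mem_nonunits hns
      exact hsu M hM hsE hsM
    obtain ⟨v, hv⟩ := hunit.exists_right_inv
    have hv' : s * (v : FractionRing E) = 1 := congrArg Subtype.val hv
    have hrv : (r : FractionRing E) = v := by
      have h1 : s = s * s * r := congrArg Subtype.val hr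
      calc (r : FractionRing E) = (s * v) * (s * v) * r := by rw [hv', one_mul, one_mul]
        _ = (s * s * r) * (v * v) := by ring
        _ = v := by rw [← h1, ← mul_assoc, hv', one_mul]
    refine ⟨v, ⟨hrv ▸ r.2, ?_⟩, hv'⟩
    obtain ⟨a, ha, d₀, hd₀, had⟩ := r.2
    obtain ⟨d, rfl⟩ := hd₀
    have hint : IsIntegral D (v : FractionRing E) := by
      refine HensEt88.isIntegral_fraction_descend (E := E) (IsFractionRing.injective E (FractionRing E))
        (α := algebraMap A D a) (δ := d) ?_ ?_ v.2
      · exact (HensEt88.isUnit_algebraMap_tot hA hE ha :)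
      · rw [← hrv]
        exact had
    obtain ⟨P, hP, hPv⟩ := hint
    refine ⟨P.map e.toAlgHom.toRingHom, hP.map _, ?_⟩
    rw [Polynomial.eval₂_map]
    exact hPv
  haveI : Algebra.EssFiniteType A D := Algebra.EssFiniteType.of_surjective e.symm.toAlgHom e.symm.surjective
  exact S16438.result A S D hm

end Groth.Agent.S16439
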