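import Groth.Statements.S1644

import Groth.Agent.VarBase.DimOne.Lift
import Groth.Agent.S1552

set_option autoImplicit false
set_option linter.style.haveILetI false
set_option linter.unusedSectionVars false
set_option backward.isDefEq.respectTransparency false
set_option backward.isDefEq.respectTransparency.types false
universe u
open CategoryTheory CategoryTheory.Limits AlgebraicGeometry
open Variety

namespace Groth.Agent.S1644

open Groth.Agent.VarBase.DimOne

/-- Let i : Z → X be a closed immersion where the topological space of X is Noetherian of dimension at
most one. Then every invertible O_Z-module is isomorphic to the pullback of an invertible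
O_X-module. -/
theorem result {Z X : Scheme.{u}} (i : Z ⟶ X) [IsClosedImmersion i]
    [TopologicalSpace.NoetherianSpace X] (hdim : topologicalKrullDim X ≤ 1)
    (L : Z.Modules) (hL : PicF.IsInvertible L) :
    ∃ L' : X.Modules, PicF.IsInvertible L' ∧ Nonempty ((Scheme.Modules.pullback i).obj L' ≅ L) := by
  exact exists_lift hdim i (fun x => S1552.exists_frame_near_fibre i hL x) fun η _ W hW c hc =>
    exists_unit_lift i i.isClosedEmbedding.isClosedMap
      (fun z z' h h' => i.isClosedEmbedding.injective (h.trans h'.symm))
      (fun z _ => i.stalkMap_surjective z) W hW c hc

end Groth.Agent.S1644
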