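import Groth.Statements.S16444
import Groth.Agent.S5035
import Groth.Agent.S16430
import Groth.Agent.S0505
import Groth.Agent.EtAlg7.EssEtale
import Groth.Agent.HensEt88.GaloisApps

set_option autoImplicit false
set_option linter.style.haveILetI false
universe u
open scoped TensorProduct
open Hensel

namespace Groth.Agent.S16444

open IsLocalRing in
/-- Let A be a complete Noetherian local ring and R → A a local homomorphism from a henselian Noetherian
local ring R inducing a bijection on residue fields. Then every local ring E which is an essentially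
etale local A-algebra with local structure map is A-isomorphic to A ⊗_R S for some local ring S
which is a finite etale R-algebra (its residue field is then that of E). (The published statement
takes R to be a coefficient ring of A, that is a field or an image of a complete p-ring with the
same residue field; its proof uses only that R is henselian with the same residue field as A, which
is the hypothesis made here.) -/
theorem result
    (R A E : Type u) [CommRing R] [HenselianLocalRing R] [IsNoetherianRing R]
    [CommRing A] [IsLocalRing A] [IsNoetherianRing A] [IsAdicComplete (maximalIdeal A) A]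
    [Algebra R A] [IsLocalHom (algebraMap R A)]
    (hres : Function.Bijective (ResidueField.map (algebraMap R A)))
    [CommRing E] [IsLocalRing E] [Algebra A E] [IsLocalHom (algebraMap A E)]
    (hE : EGA4loc.IsEssentiallyEtale A E) :
    ∃ (S : Type u) (_ : CommRing S) (_ : IsLocalRing S) (_ : Algebra R S),
      Module.Finite R S ∧ Algebra.Etale R S ∧ Nonempty (E ≃ₐ[A] A ⊗[R] S) := by
  classical
  haveI hA : HenselianLocalRing A :=
    { is_henselian := fun f hf a₀ h₁ h₂ =>
        (IsAdicComplete.henselianRing A (maximalIdeal A)).is_henselian f hf a₀ h₁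
          (h₂.map (Ideal.Quotient.mk (maximalIdeal A))) }
  -- `E` is finite over `A`
  haveI : Module.Finite A E := by
    obtain ⟨C, _, _, q, hq, _, _, hC, hqm, hl⟩ := EtAlg7.exists_presentation hE
    haveI : q.LiesOver (maximalIdeal A) := ⟨hqm.symm⟩
    haveI := (S5035.result A).mp hA C q inferInstance inferInstance
    exact Module.Finite.equiv
      ((IsLocalization.algEquiv q.primeCompl (Localization.AtPrime q) E).restrictScalars A).toLinearEquiv
  haveI : HenselianLocalRing E := S0505.result A E
  haveI := EtAlg7.formallyUnramified hE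
  haveI := EtAlg7.essFiniteType hE
  -- the residue extension over `R`
  let e₀ : ResidueField R ≃+* ResidueField A := RingEquiv.ofBijective _ hres
  let j : ResidueField R →+* ResidueField E := (algebraMap (ResidueField A) (ResidueField E)).comp e₀.toRingHom
  letI : Algebra (ResidueField R) (ResidueField E) := j.toAlgebra
  haveI : IsScalarTower (ResidueField R) (ResidueField A) (ResidueField E) := .of_algebraMap_eq fun _ => rfl
  haveI : Module.Finite (ResidueField R) (ResidueField A) :=
    Module.Finite.of_surjective (Algebra.linearMap (ResidueField R) (ResidueField A)) (fun y => e₀.surjective y)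
  haveI : FiniteDimensional (ResidueField R) (ResidueField E) := Module.Finite.trans (ResidueField A) _
  haveI : Algebra.IsSeparable (ResidueField R) (ResidueField A) :=
    ⟨fun y => by obtain ⟨x, rfl⟩ := e₀.surjective y; exact isSeparable_algebraMap x⟩
  haveI : Algebra.IsSeparable (ResidueField R) (ResidueField E) :=
    Algebra.IsSeparable.trans (ResidueField R) (ResidueField A) _
  obtain ⟨S, _, _, _, _, hSf, hSe, ⟨ε⟩⟩ := S16430.result R (ResidueField E)
  haveI := hSf
  haveI := hSe
  refine ⟨S, inferInstance, inferInstance, inferInstance, hSf, hSe, ?_⟩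
  let F := A ⊗[R] S
  haveI : Module.FaithfullyFlat R S := Module.FaithfullyFlat.of_flat_of_isLocalHom
  haveI : Nontrivial F := inferInstanceAs (Nontrivial (A ⊗[R] S))
  let ι : S →ₐ[R] F := Algebra.TensorProduct.includeRight
  let I : Ideal F := (maximalIdeal A).map (algebraMap A F)
  have happ : ∀ x : F, ∃ s : S, x - ι s ∈ I := by
    intro x
    induction x using TensorProduct.induction_on with
    | zero => exact ⟨0, by simp⟩
    | add x y hx hy =>
      obtain ⟨s, hs⟩ := hx
      obtain ⟨t, ht⟩ := hy
      exact ⟨s + t, by rw [map_add, add_sub_add_comm]; exact add_mem hs ht⟩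
    | tmul a s =>
      obtain ⟨r, hr⟩ := hres.2 (residue A a)
      obtain ⟨r, rfl⟩ := residue_surjective r
      rw [ResidueField.map_residue] at hr
      have hm : a - algebraMap R A r ∈ maximalIdeal A := by
        rw [← residue_eq_zero_iff, map_sub, hr, sub_self]
      refine ⟨r • s, ?_⟩
      have : a ⊗ₜ[R] s - ι (r • s) = algebraMap A F (a - algebraMap R A r) * ι s := by
        show a ⊗ₜ[R] s - (1 : A) ⊗ₜ[R] (r • s) = ((a - algebraMap R A r) ⊗ₜ[R] (1 : S)) * ((1 : A) ⊗ₜ[R] s)
        rw [Algebra.TensorProduct.tmul_mul_tmul, mul_one, one_mul, TensorProduct.sub_tmul,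
          ← TensorProduct.smul_tmul, Algebra.smul_def, mul_one]
      rw [this]
      exact Ideal.mul_mem_right _ _ (Ideal.mem_map_of_mem _ hm)
  have hmax : ∀ M : Ideal F, M.IsMaximal → ∀ x : F, x ∈ M ↔ ∃ s ∈ maximalIdeal S, x - ι s ∈ I := by
    intro M hM
    have hIM : I ≤ M := by
      refine Ideal.map_le_iff_le_comap.mpr ?_
      rw [IsLocalRing.eq_maximalIdeal (Ideal.isMaximal_comap_of_isIntegral_of_isMaximal (R := A) M)]
    have hsurj : Function.Surjective ((Ideal.Quotient.mk M).comp ι.toRingHom) := fun y => by
      obtain ⟨x, rfl⟩ := Ideal.Quotient.mk_surjective y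
      obtain ⟨s, hs⟩ := happ x
      exact ⟨s, (Ideal.Quotient.eq.mpr (hIM hs)).symm⟩
    letI := Ideal.Quotient.field M
    have hker : RingHom.ker ((Ideal.Quotient.mk M).comp ι.toRingHom) = maximalIdeal S :=
      IsLocalRing.eq_maximalIdeal (RingHom.ker_isMaximal_of_surjective _ hsurj)
    intro x
    obtain ⟨s, hs⟩ := happ x
    have hs' : ι s ∈ M ↔ s ∈ maximalIdeal S := by
      rw [← hker, RingHom.mem_ker]
      exact Ideal.Quotient.eq_zero_iff_mem.symm
    refine ⟨fun hx => ⟨s, hs'.mp ?_, hs⟩, fun ⟨t, ht, hxt⟩ => ?_⟩
    · simpa using M.sub_mem hx (hIM hs)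
    · have htM : ι t ∈ M := by
        have : t ∈ RingHom.ker ((Ideal.Quotient.mk M).comp ι.toRingHom) := hker ▸ ht
        exact Ideal.Quotient.eq_zero_iff_mem.mp this
      simpa using M.add_mem (hIM hxt) htM
  haveI : IsLocalRing F := by
    obtain ⟨M, hM⟩ := Ideal.exists_maximal F
    exact .of_unique_max_ideal ⟨M, hM, fun M' hM' => Ideal.ext fun x => (hmax M' hM' x).trans (hmax M hM x).symm⟩
  haveI : HenselianLocalRing F := S0505.result A F
  haveI : IsLocalHom (algebraMap A F) := Hensel.isLocalHom_of_isIntegral_local A F
  -- residue fields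
  let p : S →+* ResidueField F := (residue F).comp ι.toRingHom
  have hp : Function.Surjective p := fun y => by
    obtain ⟨x, rfl⟩ := residue_surjective y
    obtain ⟨s, hs⟩ := happ x
    have hm : x - ι s ∈ maximalIdeal F :=
      (Ideal.map_le_iff_le_comap.mpr (fun a ha => map_nonunit (algebraMap A F) a ha) : I ≤ maximalIdeal F) hs
    rw [← residue_eq_zero_iff, map_sub, sub_eq_zero] at hm
    exact ⟨s, hm.symm⟩
  haveI : IsLocalHom p := ⟨fun s hs => by
    by_contra hn
    have hk : RingHom.ker p = maximalIdeal S := IsLocalRing.eq_maximalIdeal (RingHom.ker_isMaximal_of_surjective p hp)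
    have : p s = 0 := hk.ge hn
    exact hs.ne_zero this⟩
  let q : ResidueField S →+* ResidueField F := ResidueField.lift p
  have hq : Function.Bijective q := ⟨RingHom.injective _, fun y => by
    obtain ⟨s, rfl⟩ := hp y
    exact ⟨residue S s, ResidueField.lift_residue_apply p s⟩⟩
  let θ : ResidueField E ≃+* ResidueField F := ε.symm.toRingEquiv.trans (RingEquiv.ofBijective q hq)
  have hθR : ∀ r : R, θ (residue E (algebraMap A E (algebraMap R A r))) =
      residue F (algebraMap A F (algebraMap R A r)) := by
    intro r
    have h1 : residue E (algebraMap A E (algebraMap R A r)) = ε (residue S (algebraMap R S r)) := by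
      rw [show residue S (algebraMap R S r) = algebraMap (ResidueField R) (ResidueField S) (residue R r) from rfl,
        ε.commutes]
      rfl
    rw [h1]
    show q (ε.symm (ε (residue S (algebraMap R S r)))) = _
    rw [ε.symm_apply_apply, ResidueField.lift_residue_apply]
    show residue F (ι (algebraMap R S r)) = _
    rw [ι.commutes, ← IsScalarTower.algebraMap_apply R A F]
  have hθ : ∀ a : A, θ (residue E (algebraMap A E a)) = residue F (algebraMap A F a) := fun a => by
    obtain ⟨r, hr⟩ := hres.2 (residue A a)
    obtain ⟨r, rfl⟩ := residue_surjective r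
    rw [ResidueField.map_residue] at hr
    have hE' := congrArg (ResidueField.map (algebraMap A E)) hr
    have hF' := congrArg (ResidueField.map (algebraMap A F)) hr
    simp only [ResidueField.map_residue] at hE' hF'
    rw [← hE', ← hF']
    exact hθR r
  have hF : EGA4loc.IsEssentiallyEtale A F := HensEt88.isEssentiallyEtale_of_finite_etale A F
  obtain ⟨f, hf, -⟩ := EtAlg7.existsUnique_algHom hE θ.toRingHom hθ
  obtain ⟨g, hg, -⟩ := EtAlg7.existsUnique_algHom hF θ.symm.toRingHom fun a => by
    rw [← hθ a]; exact θ.symm_apply_apply _
  refine ⟨AlgEquiv.ofAlgHom f g ?_ ?_⟩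
  · refine EtAlg7.algHom_ext_residue hF _ _ fun x => ?_
    show residue F (f (g x)) = residue F x
    rw [hf, hg]; exact θ.apply_symm_apply _
  · refine EtAlg7.algHom_ext_residue hE _ _ fun x => ?_
    show residue E (g (f x)) = residue E x
    rw [hg, hf]; exact θ.symm_apply_apply _

end Groth.Agent.S16444
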