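import Groth.Statements.S16447
import Groth.Agent.HensEt88.NormSemilocal
import Groth.Agent.HensEt88.FracTotal
import Groth.Agent.S16448
import Mathlib.RingTheory.Ideal.GoingUp

set_option autoImplicit false
set_option linter.style.haveILetI false
universe u
open EGA4loc IsLocalRing

namespace Groth.Agent.S16447

/-- Let A be a Noetherian reduced local ring, E a local ring which is an essentially etale local
A-algebra with local structure map, K_E the total ring of fractions of E, E' the integral closure of
E in K_E (viewed as an A-subalgebra of K_E), and L an A-subalgebra of K_E containing an inverse of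
the image of every non-zero-divisor of A. Let C be the A-subalgebra L ⊓ E' of K_E. Then C is
integrally closed in L, C has only finitely many maximal ideals, the maximal ideals of C are exactly
the contractions of the maximal ideals of E', and every element of L is an element of C times the
inverse of the image of a non-zero-divisor of A. (The published statement assumes only that A is
reduced; its proof uses that the integral closure of E in K_E has finitely many maximal ideals,
which holds when A is Noetherian and can fail otherwise, so A is taken Noetherian here.) -/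
theorem result
    (A E : Type u) [CommRing A] [IsLocalRing A] [IsReduced A] [IsNoetherianRing A]
    [CommRing E] [IsLocalRing E] [Algebra A E] [IsLocalHom (algebraMap A E)]
    (hE : EGA4loc.IsEssentiallyEtale A E) (L : Subalgebra A (FractionRing E))
    (hL : ∀ s ∈ nonZeroDivisors A, ∃ y ∈ L, algebraMap A (FractionRing E) s * y = 1)
    (C : Subalgebra A (FractionRing E))
    (hC : C = L ⊓ (integralClosure E (FractionRing E)).restrictScalars A) :
    (∀ x ∈ L, IsIntegral C x → x ∈ C) ∧
      {N : Ideal C | N.IsMaximal}.Finite ∧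
      (∀ N : Ideal C, N.IsMaximal ↔ ∃ M : Ideal ((integralClosure E (FractionRing E)).restrictScalars A),
          M.IsMaximal ∧ N = M.comap (Subalgebra.inclusion (hC.trans_le inf_le_right))) ∧
      ∀ l ∈ L, ∃ c ∈ C, ∃ s ∈ nonZeroDivisors A, ∃ y ∈ L,
        algebraMap A (FractionRing E) s * y = 1 ∧ l = c * y := by
  classical
  obtain ⟨hloc, t, ht⟩ := S16448.result A E (minimalPrimes.finite_of_isNoetherianRing A) hE
  haveI := hloc
  haveI := EssEtFrac5.isArtinianRing_fractionRing (minimalPrimes.finite_of_isNoetherianRing A)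
  haveI := EtAlg7.essFiniteType hE
  haveI : IsNoetherianRing E := Algebra.EssFiniteType.isNoetherianRing A E
  haveI := HensEt88.isReduced_of_essEtale hE
  let K := FractionRing A
  let KE := FractionRing E
  let E' := (integralClosure E KE).restrictScalars A
  have hu : ∀ a : nonZeroDivisors A, IsUnit (algebraMap A KE a) := fun a => by
    obtain ⟨y, -, hy⟩ := hL a a.2
    exact IsUnit.of_mul_eq_one _ hy
  let g : K →ₐ[A] KE := IsLocalization.liftAlgHom (M := nonZeroDivisors A) (f := Algebra.ofId A KE) hu
  letI : Algebra K KE := g.toRingHom.toAlgebra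
  haveI : IsScalarTower A K KE := .of_algebraMap_eq fun a => (g.commutes a).symm
  haveI : Module.Finite K KE := ⟨⟨t, eq_top_iff.2 fun x _ => by
    obtain ⟨a, ha, hx⟩ := ht x
    have h1 : algebraMap A KE a * x ∈ Submodule.span K (t : Set KE) := Submodule.span_le_restrictScalars A K _ hx
    have h2 := Submodule.smul_mem _ (IsLocalization.mk' K (1 : A) ⟨a, ha⟩) h1
    rwa [Algebra.smul_def, ← mul_assoc, IsScalarTower.algebraMap_apply A K KE, ← map_mul,
      IsLocalization.mk'_spec, map_one, map_one, one_mul] at h2⟩⟩
  -- units of `L`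
  have hK : ∀ c : K, algebraMap K KE c ∈ L := fun c => by
    obtain ⟨r, a, rfl⟩ := IsLocalization.exists_mk'_eq (nonZeroDivisors A) c
    obtain ⟨y, hy, hy'⟩ := hL a a.2
    have hval : algebraMap K KE (IsLocalization.mk' K r a) = algebraMap A KE r * y := by
      refine (hu a).mul_left_cancel ?_
      rw [mul_left_comm, hy', mul_one, IsScalarTower.algebraMap_apply A K KE, ← map_mul,
        mul_comm, IsLocalization.mk'_spec, ← IsScalarTower.algebraMap_apply A K KE]
    rw [hval]
    exact L.mul_mem (L.algebraMap_mem r) hy
  let L' : Subalgebra K KE := { L with algebraMap_mem' := hK }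
  haveI : Module.Finite K L' := Module.Finite.of_injective L'.val.toLinearMap Subtype.val_injective
  haveI : IsArtinianRing L' := IsArtinianRing.of_finite K L'
  have hunit : ∀ l ∈ L, ∀ v, l * v = 1 → v ∈ L := fun l hl v hv => by
    obtain ⟨w, hw⟩ := (IsArtinianRing.isUnit_of_mem_nonZeroDivisors (a := (⟨l, hl⟩ : L'))
      (mem_nonZeroDivisors_iff_right.mpr fun z hz => Subtype.ext
        ((IsUnit.of_mul_eq_one v hv).mul_left_eq_zero.mp (congrArg Subtype.val hz)))).exists_right_inv
    have h1 : l * (w : KE) = l * v := (congrArg Subtype.val hw).trans hv.symm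
    rw [← (IsUnit.of_mul_eq_one v hv).mul_left_cancel h1]
    exact w.2
  have hCL : ∀ {x}, x ∈ C ↔ x ∈ L ∧ IsIntegral E x := fun {x} => by rw [hC]; exact Iff.rfl
  have h1 : ∀ x ∈ L, IsIntegral C x → x ∈ C := by
    intro x hxL hx
    refine hCL.mpr ⟨hxL, ?_⟩
    letI : Algebra C (integralClosure E KE) :=
      (Subalgebra.inclusion (T := E') (hC.trans_le inf_le_right)).toRingHom.toAlgebra
    haveI : IsScalarTower C (integralClosure E KE) KE := .of_algebraMap_eq fun c => rfl
    exact isIntegral_trans (A := integralClosure E KE) x hx.tower_top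
  have h4 : ∀ l ∈ L, ∃ c ∈ C, ∃ s ∈ nonZeroDivisors A, ∃ y ∈ L,
      algebraMap A KE s * y = 1 ∧ l = c * y := by
    intro l hl
    obtain ⟨p, hp, hpl⟩ := Algebra.IsIntegral.isIntegral (R := K) l
    obtain ⟨a, ha, hint⟩ : ∃ a ∈ nonZeroDivisors A, IsIntegral A (a • l) := by
      obtain ⟨m, hm⟩ := IsIntegral.exists_multiple_integral_of_isLocalization (nonZeroDivisors A) l ⟨p, hp, hpl⟩
      exact ⟨m, m.2, hm⟩
    obtain ⟨y, hy, hy'⟩ := hL a ha
    refine ⟨a • l, hCL.mpr ⟨L.smul_mem hl a, hint.tower_top⟩, a, ha, y, hy, hy', ?_⟩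
    rw [Algebra.smul_def, mul_right_comm, hy', one_mul]
  let incl : C →ₐ[A] E' := Subalgebra.inclusion (hC.trans_le inf_le_right)
  have hmax : ∀ M : Ideal E', M.IsMaximal → (M.comap incl).IsMaximal := by
    intro M hM
    haveI : M.IsPrime := hM.isPrime
    haveI : (M.comap incl).IsPrime := Ideal.IsPrime.comap incl
    letI : CommRing (C ⧸ M.comap incl) := Ideal.Quotient.commRing _
    letI : Field (E' ⧸ M) := Ideal.Quotient.field M
    letI : Algebra E E' := (integralClosure E KE).algebra
    haveI : Algebra.IsIntegral E E' :=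
      (IsIntegralClosure.isIntegral_algebra E KE : Algebra.IsIntegral E (integralClosure E KE))
    haveI : IsScalarTower A E E' := .of_algebraMap_eq fun a => Subtype.ext
      (IsScalarTower.algebraMap_apply A E KE a)
    have hME : M.comap (algebraMap E E') = maximalIdeal E :=
      IsLocalRing.eq_maximalIdeal (Ideal.isMaximal_comap_of_isIntegral_of_isMaximal M)
    have hMA : M.comap (algebraMap A E') = maximalIdeal A := by
      rw [IsScalarTower.algebraMap_eq A E E', ← Ideal.comap_comap, hME]
      exact IsLocalRing.maximalIdeal_comap (algebraMap A E)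
    -- the residue field of `E'` at `M` is algebraic over the residue field of `A`
    haveI := EtAlg7.formallyUnramified hE
    letI : Algebra (ResidueField A) (E' ⧸ M) := (Ideal.quotientMap M (algebraMap A E') hMA.ge).toAlgebra
    letI : Algebra (ResidueField E) (E' ⧸ M) := (Ideal.quotientMap M (algebraMap E E') hME.ge).toAlgebra
    haveI : IsScalarTower A (ResidueField A) (E' ⧸ M) := .of_algebraMap_eq fun _ => rfl
    haveI : IsScalarTower E (ResidueField E) (E' ⧸ M) := .of_algebraMap_eq fun _ => rfl
    haveI : IsScalarTower (ResidueField A) (ResidueField E) (E' ⧸ M) := .of_algebraMap_eq fun x => by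
      obtain ⟨x, rfl⟩ := residue_surjective x
      exact congrArg (Ideal.Quotient.mk M) (IsScalarTower.algebraMap_apply A E E' x)
    haveI : Algebra.IsIntegral E (E' ⧸ M) := inferInstance
    haveI : Algebra.IsIntegral (ResidueField E) (E' ⧸ M) := Algebra.IsIntegral.tower_top E
    haveI : Algebra.IsIntegral (ResidueField A) (E' ⧸ M) :=
      Algebra.IsIntegral.trans (R := ResidueField A) (ResidueField E)
    let ψ : C ⧸ M.comap incl →+* E' ⧸ M := Ideal.quotientMap M incl.toRingHom le_rfl
    have hψ : Function.Injective ψ := Ideal.quotientMap_injective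
    have hCA : maximalIdeal A ≤ (M.comap incl).comap (algebraMap A C) := fun a ha => by
      show incl (algebraMap A C a) ∈ M
      rw [incl.commutes]
      exact hMA.ge ha
    let φ : ResidueField A →+* C ⧸ M.comap incl := Ideal.quotientMap (M.comap incl) (algebraMap A C) hCA
    letI := φ.toAlgebra
    let ψ' : C ⧸ M.comap incl →ₐ[ResidueField A] E' ⧸ M :=
      AlgHom.mk ψ (fun x => by
        obtain ⟨x, rfl⟩ := residue_surjective x
        exact congrArg (Ideal.Quotient.mk M) (incl.commutes x))
    haveI : Algebra.IsIntegral (ResidueField A) (C ⧸ M.comap incl) :=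
      Algebra.IsIntegral.of_injective ψ' hψ
    exact Ideal.Quotient.maximal_of_isField _
      (isField_of_isIntegral_of_isField' (R := ResidueField A) (Field.toIsField _))
  haveI hfinM : Finite (MaximalSpectrum E') := HensEt88.finite_maximalSpectrum_integralClosure E
  have hall : ∀ N : Ideal C, N.IsMaximal → ∃ M : Ideal E', M.IsMaximal ∧ N = M.comap incl := by
    intro N hN
    haveI := Fintype.ofFinite (MaximalSpectrum E')
    have hsub : (N : Set C) ⊆ ⋃ M ∈ (Finset.univ : Finset (MaximalSpectrum E')),
        ((M.asIdeal.comap incl : Ideal C) : Set C) := by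
      intro c hc
      by_contra hne
      simp only [Finset.mem_univ, Set.iUnion_true, Set.mem_iUnion, not_exists] at hne
      have hu' : IsUnit (incl c) := by
        by_contra hnu
        obtain ⟨M, hM, hcM⟩ := exists_max_ideal_of_mem_nonunits hnu
        exact hne ⟨M, hM⟩ hcM
      obtain ⟨v, hv⟩ := hu'.exists_right_inv
      have hv' : (c : KE) * (v : KE) = 1 := congrArg Subtype.val hv
      have hvC : (v : KE) ∈ C := hCL.mpr ⟨hunit _ (hCL.mp c.2).1 _ hv', v.2⟩
      exact hN.ne_top (Ideal.eq_top_of_isUnit_mem _ hc (IsUnit.of_mul_eq_one (⟨v, hvC⟩ : C) (Subtype.ext hv')))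
    haveI : Nontrivial E' := nontrivial_of_ne (0 : E') 1 (fun h => zero_ne_one (α := KE) (congrArg Subtype.val h))
    obtain ⟨M₀, hM₀⟩ := Ideal.exists_maximal E'
    obtain ⟨M, -, hle⟩ := (Ideal.subset_union_prime (⟨M₀, hM₀⟩ : MaximalSpectrum E') ⟨M₀, hM₀⟩
      fun M _ _ _ => (hmax _ M.isMaximal).isPrime).1 hsub
    exact ⟨M.asIdeal, M.isMaximal, hN.eq_of_le (hmax _ M.isMaximal).ne_top hle⟩
  refine ⟨h1, ?_, fun N => ⟨hall N, ?_⟩, h4⟩
  · haveI := Fintype.ofFinite (MaximalSpectrum E')
    refine (Set.finite_range fun M : MaximalSpectrum E' => M.asIdeal.comap incl).subset fun N hN => ?_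
    obtain ⟨M, hM, rfl⟩ := hall N hN
    exact ⟨⟨M, hM⟩, rfl⟩
  · rintro ⟨M, hM, rfl⟩
    exact hmax M hM

end Groth.Agent.S16447
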