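import Groth.Statements.S1645

import Groth.Agent.VarBase.DimOne.Ample

set_option autoImplicit false
set_option linter.style.haveILetI false
set_option linter.unusedSectionVars false
set_option backward.isDefEq.respectTransparency false
set_option backward.isDefEq.respectTransparency.types false
universe u
open CategoryTheory CategoryTheory.Limits AlgebraicGeometry
open Variety

namespace Groth.Agent.S1645

open Groth.Agent.VarBase.DimOne

/-- Let X be integral and separated and U a nonempty affine open outside of which there are only
finitely many points, each with a one-dimensional Noetherian local ring. Then there are a globally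
generated invertible module L and a global section s with U equal to the locus where s generates L. -/
theorem result (X : Scheme.{u}) [IsIntegral X] [X.IsSeparated]
    (U : X.Opens) (hU : IsAffineOpen U) (hne : (U : Set X).Nonempty) (hfin : ((U : Set X)ᶜ).Finite)
    (hloc : ∀ x : X, x ∉ U → IsNoetherianRing (X.presheaf.stalk x) ∧ ringKrullDim (X.presheaf.stalk x) = 1) :
    ∃ (L : X.Modules) (s : Coh.structureModule X ⟶ L), PicF.IsInvertible L ∧ Curv2.IsGloballyGenerated L ∧
      CohB1.genLocus L s = U := by
  obtain ⟨z, hz⟩ := hne
  have hgen : genericPoint X ∈ U := ((genericPoint_spec X).specializes trivial).mem_open U.2 hz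
  have hdisc : DiscreteTopology ↥((U : Set X)ᶜ) := discreteTopology_of_finite hfin fun y hy w hw hyw =>
    by_contra fun hne' => hy (by
      have h := eq_of_specializes (hloc w hw).2.le ((genericPoint_spec X).specializes (Set.mem_univ y)) hyw hne'
      exact h ▸ hgen)
  obtain ⟨L, s, t, hL, hs, ht⟩ := exists_two_sections hU hfin hdisc
    fun x hx => ⟨(hloc x hx).1, (hloc x hx).2.le⟩
  refine ⟨L, s, hL, Groth.Agent.InvX.isGloballyGenerated_of_generated
    (generatedBy_of_genLocus (fun b : ULift.{u} Bool => if b.down then s else t) fun x => ?_), hs⟩
  by_cases hx : x ∈ U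
  · exact ⟨⟨true⟩, by simpa [hs] using hx⟩
  · exact ⟨⟨false⟩, by simpa using ht x hx⟩

end Groth.Agent.S1645
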