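import Groth.Statements.S16452
import Mathlib

set_option autoImplicit false
universe u
open CAlg

namespace Groth.Agent.S16452

theorem key (R S : Type*) [CommRing R] [CommRing S] [Algebra R S] [Algebra.FormallyEtale R S]
    (J : Ideal S) (hJ : Function.Surjective (algebraMap R (S ⧸ J))) (n : ℕ) :
    (∀ a, algebraMap R S a ∈ J ^ n → a ∈ J.comap (algebraMap R S) ^ n) ∧
      ∀ s : S, ∃ a, s - algebraMap R S a ∈ J ^ n := by
  rcases Nat.eq_zero_or_pos n with rfl | hn
  · simp
  set I := J.comap (algebraMap R S) with hI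
  have hpow : (I ^ n).map (algebraMap R S) ≤ J ^ n := by
    rw [Ideal.map_pow]; exact Ideal.pow_right_mono Ideal.map_comap_le n
  have hker : RingHom.ker (Algebra.ofId R (S ⧸ J)) = I := by
    ext a
    show algebraMap R (S ⧸ J) a = 0 ↔ _
    rw [← Ideal.Quotient.mk_algebraMap, Ideal.Quotient.eq_zero_iff_mem]
    rfl
  let eR : (R ⧸ I) ≃ₐ[R] S ⧸ J :=
    (Ideal.quotientEquivAlgOfEq R hker.symm).trans (Ideal.quotientKerAlgEquivOfSurjective hJ)
  let q : (R ⧸ I ^ n) →ₐ[R] R ⧸ I := Ideal.Quotient.factorₐ R (Ideal.pow_le_self (by omega))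
  have hq : Function.Surjective q :=
    Ideal.Quotient.factor_surjective (Ideal.pow_le_self (by omega) : I ^ n ≤ I)
  have hqnil : IsNilpotent (RingHom.ker q) := by
    refine ⟨n, ?_⟩
    have : RingHom.ker q ≤ I.map (Ideal.Quotient.mk (I ^ n)) := by
      intro x hx
      obtain ⟨a, rfl⟩ := Ideal.Quotient.mk_surjective x
      exact Ideal.mem_map_of_mem _ (Ideal.Quotient.eq_zero_iff_mem.mp hx)
    refine le_bot_iff.mp ((Ideal.pow_right_mono this n).trans ?_)
    rw [← Ideal.map_pow, Ideal.map_quotient_self]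
  obtain ⟨σ, hσ⟩ : ∃ σ : S →ₐ[R] R ⧸ I ^ n,
      q.comp σ = eR.symm.toAlgHom.comp (Ideal.Quotient.mkₐ R J) := by
    refine ⟨Algebra.FormallySmooth.liftOfSurjective
      (eR.symm.toAlgHom.comp (Ideal.Quotient.mkₐ R J)) q hq hqnil, ?_⟩
    exact Algebra.FormallySmooth.comp_liftOfSurjective ..
  have hσJ : (J ^ n).map σ.toRingHom = ⊥ := by
    rw [Ideal.map_pow, eq_bot_iff]
    refine (Ideal.pow_right_mono (show J.map σ.toRingHom ≤ I.map (Ideal.Quotient.mk (I ^ n)) from ?_) n).trans ?_
    · rw [Ideal.map_le_iff_le_comap]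
      intro s hs
      have h0 : q (σ s) = 0 := by
        rw [← AlgHom.comp_apply, hσ, AlgHom.comp_apply, Ideal.Quotient.mkₐ_eq_mk,
          Ideal.Quotient.eq_zero_iff_mem.mpr hs, map_zero]
      obtain ⟨a, ha⟩ := Ideal.Quotient.mk_surjective (σ s)
      rw [Ideal.mem_comap, AlgHom.toRingHom_eq_coe, RingHom.coe_coe, ← ha]
      rw [← ha] at h0
      exact Ideal.mem_map_of_mem _ (Ideal.Quotient.eq_zero_iff_mem.mp h0)
    · rw [← Ideal.map_pow, Ideal.map_quotient_self]
  refine ⟨fun a ha => ?_, fun s => ?_⟩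
  · have h0 : σ (algebraMap R S a) = 0 := by
      have := Ideal.mem_map_of_mem σ.toRingHom ha
      rwa [hσJ, Ideal.mem_bot] at this
    rw [AlgHom.commutes] at h0
    exact Ideal.Quotient.eq_zero_iff_mem.mp h0
  · let τ : (R ⧸ I ^ n) →ₐ[R] S ⧸ J ^ n :=
      Ideal.Quotient.liftₐ _ (Algebra.ofId R _) fun a ha => by
        show algebraMap R (S ⧸ J ^ n) a = 0
        rw [← Ideal.Quotient.mk_algebraMap, Ideal.Quotient.eq_zero_iff_mem]
        exact hpow (Ideal.mem_map_of_mem _ ha)
    let r : (S ⧸ J ^ n) →ₐ[R] S ⧸ J := Ideal.Quotient.factorₐ R (Ideal.pow_le_self (by omega))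
    have hr : IsNilpotent (RingHom.ker (r : (S ⧸ J ^ n) →+* S ⧸ J)) := by
      refine ⟨n, le_bot_iff.mp ((Ideal.pow_right_mono (show _ ≤ J.map (Ideal.Quotient.mk (J ^ n)) from ?_) n).trans ?_)⟩
      · intro x hx
        obtain ⟨a, rfl⟩ := Ideal.Quotient.mk_surjective x
        exact Ideal.mem_map_of_mem _ (Ideal.Quotient.eq_zero_iff_mem.mp hx)
      · rw [← Ideal.map_pow, Ideal.map_quotient_self]
    have hrτ : r.comp τ = eR.toAlgHom.comp q := Ideal.Quotient.algHom_ext R (Subsingleton.elim _ _)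
    have h := Algebra.FormallyUnramified.lift_unique' r hr (τ.comp σ) (Ideal.Quotient.mkₐ R (J ^ n)) (by
      rw [← AlgHom.comp_assoc, hrτ, AlgHom.comp_assoc, hσ]
      ext x
      exact eR.apply_symm_apply _)
    obtain ⟨a, ha⟩ := Ideal.Quotient.mk_surjective (σ s)
    refine ⟨a, ?_⟩
    rw [← Ideal.Quotient.eq]
    have h1 : τ (σ s) = Ideal.Quotient.mk (J ^ n) s := AlgHom.congr_fun h s
    rw [← h1, ← ha]
    exact (Ideal.Quotient.mk_algebraMap _ _ _).symm

open AssocGr in
theorem bijective_grMap (R : Type u) [CommRing R] (S : Type u)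
    [CommRing S] [Algebra R S] [Algebra.FormallyEtale R S] (J : Ideal S)
    (hJ : Function.Surjective (algebraMap R (S ⧸ J))) :
    Function.Bijective (AssocGr.map (AssocGr.IsFiltHom.adic
      (Ideal.map_comap_le : (J.comap (algebraMap R S)).map (algebraMap R S) ≤ J))) := by
  set h := AssocGr.IsFiltHom.adic
      (Ideal.map_comap_le : (J.comap (algebraMap R S)).map (algebraMap R S) ≤ J)
  constructor
  · rw [injective_iff_map_eq_zero]
    intro x hx
    obtain ⟨f, rfl⟩ := mkG_surjective _ x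
    rw [map_mkG, mkG_eq_zero_iff] at hx
    refine (mkG_eq_zero_iff _ _).mpr fun n => (key R S J hJ (n + 1)).1 _ ?_
    have := hx n
    rw [coe_reesMap, Polynomial.coeff_map] at this
    exact this
  · intro y
    obtain ⟨g, rfl⟩ := mkG_surjective _ y
    have hex : ∀ n, ∃ a : (FiltBl.IdealFiltration.adic (J.comap (algebraMap R S))).F n,
        algebraMap R S a - (g : Polynomial S).coeff n ∈ J ^ (n + 1) := fun n => by
      obtain ⟨a, ha⟩ := (key R S J hJ (n + 1)).2 ((g : Polynomial S).coeff n)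
      refine ⟨⟨a, (key R S J hJ n).1 a ?_⟩, by rw [← neg_sub]; exact neg_mem ha⟩
      have hg : (g : Polynomial S).coeff n ∈ J ^ n := g.2 n
      simpa using sub_mem hg (Ideal.pow_le_pow_right (Nat.le_succ n) ha)
    choose a ha using hex
    let N := (g : Polynomial S).natDegree + 1
    refine ⟨mkG _ (∑ n ∈ Finset.range N, (monom _ n (a n) : _)), ?_⟩
    rw [map_mkG, ← sub_eq_zero, ← map_sub, mkG_eq_zero_iff]
    intro m
    simp only [map_sum, reesMap_monom, AddSubgroupClass.coe_sub, AddSubmonoidClass.coe_finsetSum,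
      coe_coe_monom, Polynomial.coeff_sub, Polynomial.finsetSum_coeff, Polynomial.coeff_monomial,
      Finset.sum_ite_eq', Finset.mem_range]
    split_ifs with hm
    · exact ha m
    · rw [Polynomial.coeff_eq_zero_of_natDegree_lt (by omega), sub_zero]
      exact Ideal.zero_mem _


/-- Let R → S be formally étale and J an ideal of S such that the composite R → S → S/J is surjective;
let I ⊆ R be its kernel, the preimage of J in R. Then the homomorphism of associated graded rings ⊕ₙ
Iⁿ/Iⁿ⁺¹ → ⊕ₙ Jⁿ/Jⁿ⁺¹ induced by R → S (which carries I into J) is bijective. -/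
theorem result (R : Type u) [CommRing R] (S : Type u)
    [CommRing S] [Algebra R S] [Algebra.FormallyEtale R S] (J : Ideal S)
    (hJ : Function.Surjective (algebraMap R (S ⧸ J))) :
    Function.Bijective (AssocGr.map (AssocGr.IsFiltHom.adic
      (Ideal.map_comap_le : (J.comap (algebraMap R S)).map (algebraMap R S) ≤ J))) := by
  classical
  exact bijective_grMap R S J hJ

end Groth.Agent.S16452
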