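import Groth.Statements.S1649
import Groth.Agent.ResSurf.RatLocal

set_option autoImplicit false
universe u
open CategoryTheory CategoryTheory.Limits AlgebraicGeometry
open Resolve

namespace Groth.Agent.S1649

/-- Let A be a local normal Nagata domain of dimension two defining a rational singularity, and B a
normal two-dimensional local domain containing A, with A → B local, essentially of finite type and
inducing an equality of fraction fields. Then B defines a rational singularity. -/
theorem result (A B : Type u) [CommRing A] [CommRing B] [IsDomain A] [IsDomain B]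
    [IsLocalRing A] [IsLocalRing B] [IsNoetherianRing A] [IsIntegrallyClosed A] (hN : CAlg.IsNagata A) (hdimA : ringKrullDim A = 2)
    (hA : Curv2.IsRationalSing A) [Algebra A B] [IsLocalHom (algebraMap A B)] (hinj : Function.Injective (algebraMap A B))
    [Algebra.EssFiniteType A B] (hfrac : ∀ b : B, ∃ a a' : A, a' ≠ 0 ∧ algebraMap A B a' * b = algebraMap A B a)
    [IsIntegrallyClosed B] (hdimB : ringKrullDim B = 2) : Curv2.IsRationalSing B := by
  obtain ⟨X0, hX0i, π, hπ, U₀, x, α, e, hX0n, hU₀, hi, hx, hα, he⟩ :=
    Groth.Agent.ResSurf.RatLocal.exists_model hN hdimA B hinj hfrac hdimB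
  haveI := hX0i
  haveI := hπ
  haveI := hi
  have hαinj : Function.Injective α := fun a b h => hinj (by rw [← he, h, he])
  refine Groth.Agent.ResSurf.RatLocal.isRationalSing_of_equiv e
    (Groth.Agent.ResSurf.RatLocal.isRationalSing_stalk hN hdimA hA π hX0n U₀ hU₀ x hx α hα hαinj fun b => ?_)
  obtain ⟨a, a', ha', hab⟩ := hfrac (e b)
  exact ⟨a, a', ha', e.injective (by rw [map_mul, he, hab, he])⟩

end Groth.Agent.S1649
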