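import Groth.Statements.S16497
import Groth.Agent.LS17.NodeFrob
import Groth.Agent.CurveCohLib.Skyscraper

set_option autoImplicit false
universe u
open CategoryTheory CategoryTheory.Limits AlgebraicGeometry Opposite
open Curves

set_option backward.isDefEq.respectTransparency false
set_option backward.isDefEq.respectTransparency.types false
set_option linter.style.haveILetI false

namespace Groth.Agent.S16497

/-- Let p be a prime, k an algebraically closed field with char k = p, and C a semi-stable curve over k,
that is, C is reduced, proper over k and connected, every irreducible component of C has dimension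
one, and the singularities of C are at worst nodal. Let π : C' → C be the normalisation of C, given
here as a finite morphism from a scheme all of whose local rings are integrally closed domains which
is an isomorphism over a dense open subset of C with dense preimage. Let φ and φ' be the
endomorphisms of the abelian sheaves underlying O_C and O_{C'} that raise sections to the p-th power
(they are pinned by this property). Call C ordinary when the additive map induced by φ on H^1(C,
O_C) is bijective; for a proper curve over an algebraically closed field this is the same as asking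
that the semisimple part of this p-linear endomorphism be all of H^1(C, O_C), and for a smooth curve
it is the classical notion (maximal p-rank of the Jacobian). Then C is ordinary precisely when the
map induced by φ' on H^1(C', O_{C'}) is bijective, i.e. if and only if every irreducible component
of the normalisation (a smooth proper curve) is ordinary, H^1(C', O_{C'}) being the direct sum of
the H^1 of the components. -/
theorem result (k : Type u) [Field k] [IsAlgClosed k]
    (p : ℕ) [Fact p.Prime] [CharP k p]
    (C : Scheme.{u}) [C.Over (Spec (CommRingCat.of k))] [IsReduced C] [IsProper (C ↘ Spec (CommRingCat.of k))]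
    [ConnectedSpace ↥C] (hdim : ∀ Z ∈ irreducibleComponents (C : Type u), topologicalKrullDim Z = 1)
    (hnod : Curv2.AtWorstNodal k C)
    (C' : Scheme.{u}) (π : C' ⟶ C) [IsFinite π] (hC' : Pi1.IsNormalScheme C')
    (U : C.Opens) (hU : Dense (U : Set C)) (hU' : Dense ((π ⁻¹ᵁ U : C'.Opens) : Set C')) (hπU : IsIso (π ∣_ U))
    (φ : Coh.toAb (Coh.structureModule C) ⟶ Coh.toAb (Coh.structureModule C))
    (hφ : ∀ (V : C.Opens) (s : Γ(C, V)), (φ.hom.app (op V)).hom s = s ^ p)
    (φ' : Coh.toAb (Coh.structureModule C') ⟶ Coh.toAb (Coh.structureModule C'))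
    (hφ' : ∀ (V : C'.Opens) (s : Γ(C', V)), (φ'.hom.app (op V)).hom s = s ^ p) :
    Function.Bijective (Sheaf.H.map φ 1) ↔ Function.Bijective (Sheaf.H.map φ' 1) := by
  haveI := CurveCohLib.isNoetherian_of_proper (k := k) (X := C)
  haveI : CompactSpace C := inferInstance
  letI : C'.Over (Spec (CommRingCat.of k)) := ⟨π ≫ (C ↘ Spec (CommRingCat.of k))⟩
  haveI : IsProper (C' ↘ Spec (CommRingCat.of k)) :=
    (inferInstance : IsProper (π ≫ (C ↘ Spec (CommRingCat.of k))))
  have hπ : LS17.NodeNorm.IsNormalization π U := ⟨inferInstance, hC', hU, hU', hπU⟩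
  haveI := LS17.NodeNorm.isReduced_source hπ
  haveI := CurveCohLib.isNoetherian_of_proper (k := k) (X := C')
  have hb : QCoh.Ab.PreimageBasis π.base (QCoh.stdCovers C') := fun V y hy => by
    obtain ⟨_, ⟨W, hW, rfl⟩, hyW, hWV⟩ := C.isBasis_affineOpens.exists_subset_of_mem_open hy V.2
    exact ⟨W, hWV, hyW, hW.preimage π⟩
  have hacy : (QCoh.stdCovers C').Acyclic (Coh.toAb (Coh.structureModule C')) :=
    QCoh.stdCovers_acyclic QCoh.isQCoh_structureModule
  rw [LS17.PushFrob.bijective_H1_push_iff π.base (QCoh.stdCovers C') hb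
    (Coh.toAb (Coh.structureModule C')) hacy φ']
  let S := LS17.NodeFrob.normSeq π
  let T := S.map (QCoh.toAbFunctor C)
  have hT : T.ShortExact := QCoh.toAb_shortExact (LS17.NodeFrob.normSeq_shortExact hπ)
  let b : T.X₂ ⟶ T.X₂ := (CohTop.push π.base).map φ'
  have hb₁ : φ ≫ T.f = T.f ≫ b := Sheaf.hom_ext (NatTrans.ext (funext fun V => AddCommGrpCat.ext fun s => by
    show π.app V.unop (φ.hom.app (op V.unop) s) = φ'.hom.app (op (π ⁻¹ᵁ V.unop)) (π.app V.unop s)
    exact (congrArg (π.app V.unop) (hφ V.unop s)).trans ((map_pow _ _ _).trans (hφ' _ _).symm)))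
  haveI : Epi T.g := hT.epi_g
  let c : T.X₃ ⟶ T.X₃ := hT.gIsCokernel.desc (CokernelCofork.ofπ (b ≫ T.g)
    (by rw [← Category.assoc, ← hb₁, Category.assoc, T.zero, comp_zero]))
  have hb₂ : T.g ≫ c = b ≫ T.g := hT.gIsCokernel.fac _ WalkingParallelPair.one
  let ψ : T ⟶ T := ShortComplex.homMk φ b c hb₁ hb₂.symm
  have hc : ∀ (V : C.Opens) (s : Γ(C', π ⁻¹ᵁ V)),
      c.hom.app (op V) (S.g.app V s) = S.g.app V (show Γ(C', π ⁻¹ᵁ V) from s ^ p) := fun V s => by
    refine (ConcreteCategory.congr_hom (congrArg (fun f : T.X₂ ⟶ T.X₃ => f.hom.app (op V)) hb₂) s).trans ?_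
    exact congrArg (S.g.app V) (hφ' _ _)
  haveI : IsIso c := by
    haveI : ∀ x : C.toPresheafedSpace.carrier,
        IsIso ((TopCat.Presheaf.stalkFunctor AddCommGrpCat.{u} x).map c.hom) := fun x =>
      (ConcreteCategory.isIso_iff_bijective _).2 (LS17.NodeFrob.bijective_stalk p hπ hnod hdim c hc x)
    exact TopCat.Presheaf.isIso_of_stalkFunctor_map_iso c
  refine LS17.PushFrob.bijective_H1_iff hT ψ (LS17.NodeFrob.subsingleton_H1_coker (k := k) hπ hdim) ?_ ?_
  · intro y
    letI : Algebra k Γ(C', ⊤) := (Coh.toGlobal (C' ↘ Spec (CommRingCat.of k))).toAlgebra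
    let e := Sheaf.H.equiv₀ (Coh.toAb (Coh.structureModule C')) isTerminalTop
    let el : Coh.HH C' (Coh.structureModule C') 0 ≃ₗ[k] Γ(C', ⊤) :=
      { toFun := e, invFun := e.symm, left_inv := e.symm_apply_apply, right_inv := e.apply_symm_apply
        map_add' := e.map_add
        map_smul' := fun a t => by
          refine (CurveCohLib.h0Equiv_smul (Coh.structureModule C') a t).trans ?_
          show C'.presheaf.map (𝟙 (op (⊤ : C'.Opens))) (Coh.toGlobal (C' ↘ Spec (CommRingCat.of k)) a) *
              (show Γ(C', ⊤) from e t) =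
            (show Γ(C', ⊤) from Coh.toGlobal (C' ↘ Spec (CommRingCat.of k)) a) * (show Γ(C', ⊤) from e t)
          rw [C'.presheaf.map_id]
          rfl }
    haveI := CurveCohLib.finite_HH (k := k) (QCoh.isCoh_structureModule' (X := C')) 0
    haveI : Module.Finite k Γ(C', ⊤) := Module.Finite.equiv el
    obtain ⟨a, ha⟩ := LS17.NodeFrob.surjective_pow p (k := k) (A := Γ(C', ⊤)) (Fact.out)
      (Sheaf.H.equiv₀ T.X₂ isTerminalTop y)
    refine ⟨(Sheaf.H.equiv₀ T.X₂ isTerminalTop).symm a, (Sheaf.H.equiv₀ T.X₂ isTerminalTop).injective ?_⟩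
    rw [← ha]
    refine (Sheaf.H.equiv₀_naturality isTerminalTop b _).symm.trans ?_
    exact (congrArg (fun t => φ'.hom.app (op (π ⁻¹ᵁ ⊤)) t)
      ((Sheaf.H.equiv₀ T.X₂ isTerminalTop).apply_symm_apply a)).trans (hφ' _ _)
  · exact ConcreteCategory.bijective_of_isIso ((Sheaf.functorH _ 0).map c)

end Groth.Agent.S16497
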