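import Groth.Agent.ResidualLib.Basic
import Groth.Statements.S16517
-- import your own Groth.Agent.* helpers here

set_option autoImplicit false
set_option linter.style.haveILetI false
universe u
open CAlg

namespace Groth.Agent.S16517

/-- Let R be a regular local ring, A a Gorenstein local ring which is a flat R-algebra through a local
homomorphism, I ⊂ A an ideal of codimension zero (the Krull dimension of A/I equals that of A) with
A/I Cohen–Macaulay, and J = (0 : I) the annihilator of I in A (the ideal of the residual subscheme).
Then A/I and A/J are flat over R. -/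
theorem result (R A : Type u)
    [CommRing R] [IsRegularLocalRing R] [CommRing A] [Algebra R A] [LocCoh.IsGorensteinLocalRing A]
    [IsLocalHom (algebraMap R A)] [Module.Flat R A] (I : Ideal A)
    (hI : ringKrullDim (A ⧸ I) = ringKrullDim A) [LocCoh.IsCohenMacaulayLocalRing (A ⧸ I)] :
    Module.Flat R (A ⧸ I) ∧ Module.Flat R (A ⧸ (Submodule.annihilator I)) := by
  refine ⟨ResidualLib.flat_quotient R A I hI, ?_⟩
  by_cases hJ : Submodule.annihilator I = ⊤
  · haveI : Subsingleton (A ⧸ Submodule.annihilator I) := Ideal.Quotient.subsingleton_iff.mpr hJ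
    infer_instance
  · obtain ⟨d, hd, -, -⟩ := LC.gorenstein_basic (R := A)
    haveI : Nontrivial (A ⧸ Submodule.annihilator I) := Ideal.Quotient.nontrivial_iff.mpr hJ
    haveI : IsLocalRing (A ⧸ Submodule.annihilator I) :=
      IsLocalRing.of_surjective' _ Ideal.Quotient.mk_surjective
    have hlow := LC.Liaison.subsingleton_H_linked hd I _ rfl
      (fun j hj => LC.Liaison.subsingleton_H_of_CM_quot I (hI.trans hd) j hj)
    haveI := LC.Liaison.isCMLocal_quot_of_H_low hd (Submodule.annihilator I) hlow
    refine ResidualLib.flat_quotient R A _ ?_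
    refine le_antisymm (ringKrullDim_quotient_le _) ?_
    have hdep : (d : ℕ∞) ≤ LocCoh.depth A (A ⧸ Submodule.annihilator I) :=
      (LC.le_idealDepth_iff_H (IsLocalRing.maximalIdeal A) _ d).2 hlow
    have h := LC.depth_le_supportDim (R := A) (A ⧸ Submodule.annihilator I)
    rw [Module.supportDim_eq_ringKrullDim_quotient_annihilator, Ideal.annihilator_quotient] at h
    rw [hd]
    exact le_trans (WithBot.coe_le_coe.2 hdep) h

end Groth.Agent.S16517
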