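import Groth.Agent.ResidualLib.Basic
import Groth.Statements.S16518
-- import your own Groth.Agent.* helpers here

set_option autoImplicit false
universe u
open CAlg

namespace Groth.Agent.S16518

/-- Let R be a Noetherian local ring, A a Gorenstein local ring which is a flat R-algebra through a
local homomorphism, I ⊂ A an ideal of codimension zero (the Krull dimension of A/I equals that of A)
with A/I Cohen–Macaulay, and J = (0 : I) its annihilator. For every R-regular sequence r_1, …, r_n
generating an ideal 𝔯 of R, the module J/𝔯J is the annihilator of the image of I in A/𝔯A: the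
natural map J/𝔯J → A/𝔯A is injective (J ∩ 𝔯A = 𝔯J) with image the ideal quotient (𝔯A : I) modulo 𝔯A
(J + 𝔯A = (𝔯A : I)). -/
theorem result (R A : Type u)
    [CommRing R] [IsNoetherianRing R] [IsLocalRing R] [CommRing A] [Algebra R A]
    [LocCoh.IsGorensteinLocalRing A] [IsLocalHom (algebraMap R A)] [Module.Flat R A] (I : Ideal A)
    (hI : ringKrullDim (A ⧸ I) = ringKrullDim A) [LocCoh.IsCohenMacaulayLocalRing (A ⧸ I)]
    (rs : List R) (hrs : RingTheory.Sequence.IsRegular R rs) :
    Submodule.annihilator I ⊔ (Ideal.ofList rs).map (algebraMap R A) =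
        Submodule.colon ((Ideal.ofList rs).map (algebraMap R A)) (I : Set A) ∧
      Submodule.annihilator I ⊓ (Ideal.ofList rs).map (algebraMap R A) =
        (Ideal.ofList rs).map (algebraMap R A) * Submodule.annihilator I := by
  rw [Ideal.map_ofList]
  have hmem : ∀ r ∈ rs.map (algebraMap R A), r ∈ IsLocalRing.maximalIdeal A := fun r hr => by
    obtain ⟨a, ha, rfl⟩ := List.mem_map.mp hr
    refine map_nonunit (algebraMap R A) a ?_
    by_contra hu
    refine hrs.2 ?_
    rw [Ideal.smul_eq_mul, Ideal.mul_top, eq_comm]
    exact Ideal.eq_top_of_isUnit_mem _ (Ideal.subset_span ha) (IsLocalRing.notMem_maximalIdeal.mp hu)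
  obtain ⟨hcol, hinf, -⟩ := ResidualLib.residual_main _ A I hI (rs.map (algebraMap R A)) rfl hmem
    (hrs.1.of_flat (S := A))
  refine ⟨le_antisymm (sup_le ?_ ?_) hcol, le_antisymm hinf (le_inf ?_ ?_)⟩
  · intro a ha
    refine Submodule.mem_colon.mpr fun i hi => ?_
    rw [Submodule.mem_annihilator.mp ha i hi]
    exact zero_mem _
  · intro a ha
    exact Submodule.mem_colon.mpr fun i _ => Ideal.mul_mem_right i _ ha
  · exact Ideal.mul_le.mpr fun r _ v hv => Ideal.mul_mem_left _ r hv
  · exact Ideal.mul_le.mpr fun r hr v _ => Ideal.mul_mem_right v _ hr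

end Groth.Agent.S16518
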