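import Groth.Statements.S1653

import Groth.Agent.VarBase.GenDrop
import Groth.Agent.VarDim.Fibre
import Groth.Agent.VarDim.Top

set_option autoImplicit false
set_option linter.style.haveILetI false
set_option linter.unusedSectionVars false
set_option backward.isDefEq.respectTransparency false
set_option backward.isDefEq.respectTransparency.types false
universe u
open CategoryTheory CategoryTheory.Limits AlgebraicGeometry
open Variety

namespace Groth.Agent.S1653

open CategoryTheory AlgebraicGeometry Groth.Agent.VarBase Topology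

/-- Let f : X → Y be a k-morphism of schemes locally of finite type over a field k, with X irreducible
of dimension a, and let the closure of the image of f have dimension b. Then the local fibre
dimension of f at every point of X is at least a - b, and the set of points where it equals a - b is
open and dense. -/
theorem result (k : Type u) [Field k] (X Y : Scheme.{u}) [X.Over (Spec (CommRingCat.of k))] [Y.Over (Spec (CommRingCat.of k))]
    [LocallyOfFiniteType (X ↘ (Spec (CommRingCat.of k)))] [LocallyOfFiniteType (Y ↘ (Spec (CommRingCat.of k)))] [IrreducibleSpace X]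
    (f : X ⟶ Y) (hf : f ≫ (Y ↘ (Spec (CommRingCat.of k))) = X ↘ (Spec (CommRingCat.of k))) (a b : ℕ) (ha : topologicalKrullDim X = a)
    (hb : topologicalKrullDim (closure (Set.range f.base)) = b) :
    (∀ x : X, ((a - b : ℕ) : WithBot ℕ∞) ≤ FlatMor.fibreDimAt f x) ∧
      IsOpen {x : X | FlatMor.fibreDimAt f x = (a - b : ℕ)} ∧ Dense {x : X | FlatMor.fibreDimAt f x = (a - b : ℕ)} := by
  haveI : LocallyOfFiniteType f := by
    have : LocallyOfFiniteType (f ≫ (Y ↘ Spec (CommRingCat.of k))) := by rw [hf]; infer_instance
    exact locallyOfFiniteType_of_comp f (Y ↘ Spec (CommRingCat.of k))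
  set η := genericPoint X
  have hgen : ∀ x : X, η ⤳ x := fun x => (genericPoint_spec X).specializes trivial
  rw [VarDim.topologicalKrullDim_eq_deg_genericPoint (X ↘ Spec (CommRingCat.of k))] at ha
  have hcl : closure (Set.range f.base) = closure {f.base η} := by
    refine le_antisymm (closure_minimal ?_ isClosed_closure)
      (closure_mono (Set.singleton_subset_iff.2 ⟨η, rfl⟩))
    rintro _ ⟨x, rfl⟩
    exact specializes_iff_mem_closure.1 ((hgen x).map f.base.hom.continuous)
  rw [hcl, VarDim.topologicalKrullDim_closure_singleton (Y ↘ Spec (CommRingCat.of k))] at hb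
  have ha' : VarDim.deg (X ↘ Spec (CommRingCat.of k)) η = a := by exact_mod_cast ha
  have hb' : VarDim.deg (Y ↘ Spec (CommRingCat.of k)) (f.base η) = b := by exact_mod_cast hb
  have hadd := VarDim.deg_eq_add f (Y ↘ Spec (CommRingCat.of k)) hf η
  have hrd : FibDim.rd f η = a - b := by
    have h := VarDim.deg_fiber f (f.base η) (f.asFiber η)
    rw [f.fiberι_asFiber] at h
    show VarDim.deg _ _ = _
    rw [h]
    show VarDim.fdeg f η = _
    change VarDim.deg (X ↘ _) η = VarDim.deg (Y ↘ _) (f.base η) + VarDim.fdeg f η at hadd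
    omega
  have hη : FlatMor.fibreDimAt f η = ((a - b : ℕ) : WithBot ℕ∞) := by
    rw [GenDrop.fibreDimAt_of_maximal f fun z hz =>
      ((hgen z).antisymm hz).eq.symm, hrd]
    rfl
  have hle : ∀ x : X, ((a - b : ℕ) : WithBot ℕ∞) ≤ FlatMor.fibreDimAt f x := fun x =>
    (hgen x).mem_closed (FibDim.isClosed_le_fibreDimAt f (a - b)) hη.ge
  have hset : {x : X | FlatMor.fibreDimAt f x = (a - b : ℕ)} =
      {x : X | FlatMor.fibreDimAt f x ≤ ((a - b : ℕ) : WithBot ℕ∞)} :=
    Set.ext fun x => ⟨fun h => h.le, fun h => le_antisymm h (hle x)⟩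
  refine ⟨hle, hset ▸ FibDim.isOpen_fibreDimAt_le f (a - b), ?_⟩
  exact fun x => closure_mono (Set.singleton_subset_iff.2 (show η ∈ {x : X | FlatMor.fibreDimAt f x = (a - b : ℕ)} from hη)) (specializes_iff_mem_closure.1 (hgen x))

end Groth.Agent.S1653
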