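import Groth.Statements.S16534
import Groth.Agent.LS17.HypVanish

set_option autoImplicit false
universe u
open CategoryTheory CategoryTheory.Limits AlgebraicGeometry
open Curves

namespace Groth.Agent.S16534

attribute [local instance] Groth.Agent.CurveFF.ffAlg

/-- Over an algebraically closed field k of characteristic zero (in place of the complex numbers), a
smooth connected quintic curve of genus 2 in P^4 lies in a hyperplane and on a quadric surface in
that hyperplane. Here C is smooth, proper and integral of dimension one over k with dim_k H^1(C,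
O_C) = 2, i : C → P^4_k is a closed immersion over k with deg i^*O(1) = χ(i^*O(1)) − χ(O_C) = 5, and
the conclusion provides a nonzero linear form l and a quadratic form q not divisible by l such that
i factors through V_+(l) ∩ V_+(q). -/
theorem result (k : Type u) [Field k] [IsAlgClosed k]
    [CharZero k] (C : Scheme.{u}) [C.Over (Spec (CommRingCat.of k))] [Smooth (C ↘ Spec (CommRingCat.of k))] [IsProper (C ↘ Spec (CommRingCat.of k))]
    [IsIntegral C] (hC : topologicalKrullDim C = 1) (hg : Curv2.genus k C = 2)
    (i : C ⟶ CohB1.ProjSpace 4 k) [IsClosedImmersion i] (hi : i ≫ CohB1.ProjSpace.toSpec 4 k = C ↘ Spec (CommRingCat.of k))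
    (hdeg : Curv2.deg k C ((Scheme.Modules.pullback i).obj (Twist.twistProjSpace 4 k 1)) 1 = 5) :
    ∃ (l : LefPen.Form 4 k 1) (q : LefPen.Form 4 k 2), l ≠ 0 ∧ q.1 ∉ Ideal.span {l.1} ∧
      ∃ j : C ⟶ (LefPen.hypIdeal l ⊔ LefPen.hypIdeal q).subscheme,
        j ≫ (LefPen.hypIdeal l ⊔ LefPen.hypIdeal q).subschemeι = i := by
  classical
  obtain ⟨D, f, hD, -, hbpf, hrat⟩ := LS17.exists_functions_of_map k i hi hC
  haveI : IsProper (CohB1.ProjSpace.toSpec 4 k) := PnCoh.Chow.isProper_toSpec 4 k
  have hK := CurveFF.isFunctionField k C hC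
  have hg' : FunFld.genus k C.functionField = 2 := by rw [CurveFF.genus_eq k hC, hg]
  rw [hD.deg k hC] at hdeg
  have hfmem : ∀ j, f j ∈ FunFld.L D := fun j => hbpf.le (Submodule.subset_span ⟨j, rfl⟩)
  haveI := FFLib.L_finite hK.1 D
  haveI := FFLib.L_finite hK.1 (D + D)
  have hl4 : Module.finrank k (FunFld.L D) = 4 := by
    have h : (FunFld.ell D : ℤ) = D.deg + 1 - FunFld.genus k C.functionField := FFLib.ell_of_deg_gt hK (by omega)
    have : FunFld.ell D = 4 := by omega
    exact this
  have hl9 : Module.finrank k (FunFld.L (D + D)) = 9 := by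
    have h : (FunFld.ell (D + D) : ℤ) = (D + D).deg + 1 - FunFld.genus k C.functionField :=
      FFLib.ell_of_deg_gt hK (by rw [FFLib.Divisor.deg_add]; omega)
    rw [FFLib.Divisor.deg_add] at h
    have : FunFld.ell (D + D) = 9 := by omega
    exact this
  -- the hyperplane
  have hdep : ¬ LinearIndependent k (fun j => (⟨f j, hfmem j⟩ : FunFld.L D)) := fun h => by
    have h' := h.fintype_card_le_finrank
    rw [hl4, Fintype.card_fin] at h'
    omega
  obtain ⟨c, hc, j₀, hj₀⟩ := Fintype.not_linearIndependent_iff.1 hdep
  let l : LefPen.Form 4 k 1 := ⟨∑ j, c j • MvPolynomial.X j,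
    Submodule.sum_mem _ fun j _ => Submodule.smul_mem _ _ (LefPen.X_mem 4 k j)⟩
  have hl : l ≠ 0 := fun h => hj₀
    (Fintype.linearIndependent_iff.1 (MvPolynomial.linearIndependent_X (Fin 5) k) c (congrArg Subtype.val h) j₀)
  have hlf : MvPolynomial.aeval f l.1 = 0 := by
    have h' := congrArg Subtype.val hc
    simpa [l, map_sum, map_smul] using h'
  -- the quadrics
  let T := {p : Fin 5 × Fin 5 // p.1 ≤ p.2}
  let Q : (T → k) →ₗ[k] MvPolynomial (Fin 5) k :=
    Fintype.linearCombination k fun p : T => MvPolynomial.X p.1.1 * MvPolynomial.X p.1.2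
  have hQinj : Function.Injective Q := by
    have hli : LinearIndependent k fun p : T => (MvPolynomial.X p.1.1 * MvPolynomial.X p.1.2 : MvPolynomial (Fin 5) k) := by
      have hinj : Function.Injective fun p : T => (Finsupp.single p.1.1 1 + Finsupp.single p.1.2 1 : Fin 5 →₀ ℕ) := by
        intro p q hpq
        have key : ∀ p q : {p : Fin 5 × Fin 5 // p.1 ≤ p.2}, (∀ t, ((if p.1.1 = t then 1 else 0) + (if p.1.2 = t then 1 else 0) : ℕ) =
            (if q.1.1 = t then 1 else 0) + (if q.1.2 = t then 1 else 0)) → p = q := by decide +kernel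
        exact key p q fun t => by simpa [Finsupp.single_apply] using DFunLike.congr_fun hpq t
      have e : (fun p : T => (MvPolynomial.X p.1.1 * MvPolynomial.X p.1.2 : MvPolynomial (Fin 5) k)) =
          fun p : T => MvPolynomial.basisMonomials (Fin 5) k (Finsupp.single p.1.1 1 + Finsupp.single p.1.2 1) := by
        funext p
        simp [MvPolynomial.X, MvPolynomial.monomial_mul]
      rw [e]
      exact (MvPolynomial.basisMonomials (Fin 5) k).linearIndependent.comp _ hinj
    exact hli.fintypeLinearCombination_injective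
  have hQmem : ∀ h, Q h ∈ CohB1.polyGrading 4 k 2 := fun h => by
    simp only [Q, Fintype.linearCombination_apply]
    exact Submodule.sum_mem _ fun p _ => Submodule.smul_mem _ _ ((MvPolynomial.mem_homogeneousSubmodule _ _).2
      ((MvPolynomial.isHomogeneous_X k _).mul (MvPolynomial.isHomogeneous_X k _)))
  let E : (T → k) →ₗ[k] FunFld.L (D + D) :=
    Fintype.linearCombination k fun p : T => ⟨f p.1.1 * f p.1.2, FFLib.mul_mem_L (hfmem _) (hfmem _)⟩
  have hEQ : ∀ h, ((E h : FunFld.L (D + D)) : C.functionField) = MvPolynomial.aeval f (Q h) := fun h => by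
    simp [E, Q, Fintype.linearCombination_apply, map_sum]
  have hker : 6 ≤ Module.finrank k (LinearMap.ker E) := by
    have h1 := E.finrank_range_add_finrank_ker
    have h2 : Module.finrank k (LinearMap.range E) ≤ 9 := hl9 ▸ Submodule.finrank_le _
    have h3 : Fintype.card T = 15 := by decide +kernel
    rw [Module.finrank_fintype_fun_eq_card, h3] at h1
    omega
  obtain ⟨h, hh, hhl⟩ : ∃ h ∈ LinearMap.ker E, Q h ∉ Ideal.span {l.1} := by
    by_contra! hall
    let M : (Fin 5 → k) →ₗ[k] MvPolynomial (Fin 5) k :=
      (LinearMap.mulLeft k l.1).comp (Fintype.linearCombination k fun j => MvPolynomial.X j)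
    have hsub : (LinearMap.ker E).map Q ≤ LinearMap.range M := by
      rintro _ ⟨h, hh, rfl⟩
      obtain ⟨a, ha⟩ := Ideal.mem_span_singleton'.1 (hall h hh)
      refine ⟨fun j => MvPolynomial.coeff (Finsupp.single j 1) a, ?_⟩
      have hcomp := congrArg (MvPolynomial.homogeneousComponent 2) ha
      rw [MvPolynomial.homogeneousComponent_of_mem (hQmem h), if_pos rfl] at hcomp
      rw [← hcomp]
      show l.1 * _ = _
      conv_rhs => rw [← MvPolynomial.sum_homogeneousComponent (φ := a), Finset.sum_mul, map_sum]
      have hi : ∀ m, MvPolynomial.homogeneousComponent 2 (MvPolynomial.homogeneousComponent m a * l.1) =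
          if m = 1 then MvPolynomial.homogeneousComponent m a * l.1 else 0 := fun m => by
        rw [MvPolynomial.homogeneousComponent_of_mem ((MvPolynomial.mem_homogeneousSubmodule _ _).2
          ((MvPolynomial.homogeneousComponent_isHomogeneous m a).mul ((MvPolynomial.mem_homogeneousSubmodule _ _).1 l.2)))]
        exact if_congr (by omega) rfl rfl
      simp only [hi, Finset.sum_ite_eq']
      have h1 : MvPolynomial.homogeneousComponent 1 a =
          Fintype.linearCombination k (fun j => MvPolynomial.X j) (fun j => MvPolynomial.coeff (Finsupp.single j 1) a) := by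
        have hm := MvPolynomial.homogeneousComponent_mem 1 a
        rw [MvPolynomial.homogeneousSubmodule_one_eq_span_X] at hm
        obtain ⟨b, hb⟩ := (Submodule.mem_span_range_iff_exists_fun k).1 hm
        rw [Fintype.linearCombination_apply, ← hb]
        refine Finset.sum_congr rfl fun j _ => ?_
        have hj := congrArg (MvPolynomial.coeff (Finsupp.single j 1)) hb
        rw [MvPolynomial.coeff_homogeneousComponent, if_pos (Finsupp.degree_single _ _), MvPolynomial.coeff_sum] at hj
        simp only [MvPolynomial.coeff_smul, MvPolynomial.coeff_X', Finsupp.single_left_inj one_ne_zero] at hj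
        simp at hj
        rw [hj]
      rw [h1, mul_comm]
      split_ifs with hmem
      · rfl
      · rw [Finset.mem_range, not_lt] at hmem
        have h0 : MvPolynomial.homogeneousComponent 1 a = 0 := MvPolynomial.homogeneousComponent_eq_zero _ _ (by omega)
        rw [← h1, h0, zero_mul]
    have h4 := (Submodule.finrank_mono hsub).trans (LinearMap.finrank_range_le M)
    rw [(Submodule.equivMapOfInjective Q hQinj (LinearMap.ker E)).finrank_eq.symm, Module.finrank_fin_fun] at h4
    omega
  let q : LefPen.Form 4 k 2 := ⟨Q h, hQmem h⟩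
  have hqf : MvPolynomial.aeval f q.1 = 0 := by
    rw [← hEQ h, LinearMap.mem_ker.1 hh]
    rfl
  refine ⟨l, q, hl, hhl, IsClosedImmersion.lift (LefPen.hypIdeal l ⊔ LefPen.hypIdeal q).subschemeι i ?_,
    IsClosedImmersion.lift_fac _ _ _⟩
  rw [Scheme.IdealSheafData.ker_subschemeι]
  exact sup_le (LS17.hypIdeal_le_ker k i hi f (fun a b W h hη => (hrat a b W h hη).2) l hlf)
    (LS17.hypIdeal_le_ker k i hi f (fun a b W h hη => (hrat a b W h hη).2) q hqf)

end Groth.Agent.S16534
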