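import Mathlib
import Groth.Agent.EakinNag.Basic
import Groth.Agent.S0560
import Groth.Statements.S16547
-- import your own Groth.Agent.* helpers here

set_option autoImplicit false
set_option linter.style.haveILetI false
universe u
open CAlg

namespace Groth.Agent.S16547

open Polynomial in
/-- Nakayama, at a prime, for a finite module all of whose elements are locally multiples of `q`. -/
theorem exists_smul_eq_zero {B Q : Type u} [CommRing B] [AddCommGroup Q] [Module B Q] [Module.Finite B Q]
    (q : Ideal B) [q.IsPrime] (h : ∀ z : Q, ∃ s ∉ q, s • z ∈ q • (⊤ : Submodule B Q)) :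
    ∃ s ∉ q, ∀ z : Q, s • z = 0 := by
  classical
  obtain ⟨S, hS⟩ := Module.Finite.fg_top (R := B) (M := Q)
  choose s hs hsz using h
  let s₀ := ∏ z ∈ S, s z
  have hs₀ : s₀ ∉ q := fun hmem => by
    obtain ⟨z, -, hz⟩ := ‹q.IsPrime›.prod_mem_iff.1 hmem
    exact hs z hz
  have hf : LinearMap.range (LinearMap.lsmul B Q s₀) ≤ q • (⊤ : Submodule B Q) := by
    rw [LinearMap.range_eq_map, ← hS, Submodule.map_span_le]
    intro z hz
    rw [LinearMap.lsmul_apply, show s₀ = (∏ y ∈ S.erase z, s y) * s z from
      (Finset.prod_erase_mul _ _ (Finset.mem_coe.1 hz)).symm, mul_smul]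
    rw [hS]
    exact Submodule.smul_mem _ _ (hsz z)
  obtain ⟨P, hmon, -, hc, hP⟩ :=
    LinearMap.exists_monic_and_natDegree_eq_and_coeff_mem_pow_and_aeval_eq_zero B
      (LinearMap.lsmul B Q s₀) q hf
  refine ⟨P.eval s₀, fun hmem => hs₀ (‹q.IsPrime›.mem_of_pow_mem P.natDegree ?_), fun z => ?_⟩
  · have h1 : (P.map (Ideal.Quotient.mk q)) = X ^ P.natDegree := by
      ext k
      rw [coeff_map, coeff_X_pow]
      rcases lt_trichotomy k P.natDegree with hk | rfl | hk
      · rw [if_neg hk.ne, Ideal.Quotient.eq_zero_iff_mem]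
        exact Ideal.pow_le_self (by omega) (hc k)
      · rw [if_pos rfl, hmon.coeff_natDegree, map_one]
      · rw [if_neg hk.ne', coeff_eq_zero_of_natDegree_lt hk, map_zero]
    rw [← Ideal.Quotient.eq_zero_iff_mem, map_pow]
    rw [← Ideal.Quotient.eq_zero_iff_mem, ← eval₂_at_apply, ← eval_map, h1, eval_pow, eval_X] at hmem
    exact hmem
  · have h2 : ∀ R : B[X], aeval (LinearMap.lsmul B Q s₀) R z = R.eval s₀ • z := by
      intro R
      induction R using Polynomial.induction_on' with
      | add a b ha hb => rw [map_add, eval_add, add_smul, LinearMap.add_apply, ha, hb]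
      | monomial k c =>
        rw [aeval_monomial, eval_monomial, Module.End.mul_apply, Module.algebraMap_end_apply, mul_smul]
        congr 1
        induction k with
        | zero => simp
        | succ k ih => rw [pow_succ', Module.End.mul_apply, ih, LinearMap.lsmul_apply, pow_succ', mul_smul]
    rw [← h2, hP, LinearMap.zero_apply]

/-- Modulo a product of primes with trivial residue extension, the ring is spanned by as many elements as factors. -/
theorem exists_generators {A B : Type u} [CommRing A] [CommRing B] [Algebra B A] (q : Ideal B) [q.IsPrime] :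
    ∀ l : List A, (∀ ρ ∈ l, ∀ a : A, ∃ b c : B, c ∉ q ∧ ρ ∣ algebraMap B A c * a - algebraMap B A b) →
      ∃ t : Fin l.length → A, ∀ a : A, ∃ s ∉ q, ∃ c : Fin l.length → B,
        l.prod ∣ algebraMap B A s * a - ∑ j, algebraMap B A (c j) * t j
  | [], _ => ⟨Fin.elim0, fun a => ⟨1, fun h => ‹q.IsPrime›.ne_top ((Ideal.eq_top_iff_one q).2 h), Fin.elim0,
      by simp⟩⟩
  | ρ :: l, h => by
    obtain ⟨t, ht⟩ := exists_generators q l fun ρ' hρ' => h ρ' (List.mem_cons_of_mem _ hρ')
    refine ⟨Fin.cons 1 fun j => ρ * t j, fun a => ?_⟩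
    obtain ⟨b, c, hc, y, hy⟩ := h ρ List.mem_cons_self a
    obtain ⟨s, hs, co, z, hz⟩ := ht y
    refine ⟨s * c, fun hm => (‹q.IsPrime›.mem_or_mem hm).elim hs hc, Fin.cons (s * b) co, z, ?_⟩
    erw [Fin.sum_univ_succ]
    simp only [Fin.cons_zero, Fin.cons_succ, map_mul, List.prod_cons, mul_one]
    have e1 : ∑ j, algebraMap B A (co j) * (ρ * t j) = ρ * ∑ j, algebraMap B A (co j) * t j := by
      rw [Finset.mul_sum]; exact Finset.sum_congr rfl fun j _ => by ring
    rw [e1]
    linear_combination (algebraMap B A s) * hy + ρ * hz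

/-- The order of a group is bounded by the number of generators at a prime of the invariants. -/
theorem card_le_of_span {A B G : Type u} [CommRing A] [IsDomain A] [CommRing B] [Algebra B A] [FaithfulSMul B A]
    [Group G] [Finite G] [MulSemiringAction G A] [FaithfulSMul G A] [SMulCommClass G B A]
    [Algebra.IsInvariant B A G] {N : ℕ} (t : Fin N → A) (s : B) (hs : s ≠ 0)
    (h : ∀ a : A, s • a ∈ Submodule.span B (Set.range t)) : Nat.card G ≤ N := by
  classical
  haveI : IsDomain B := (FaithfulSMul.algebraMap_injective B A).isDomain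
  cases nonempty_fintype G
  let K := FractionRing B
  let L := FractionRing A
  letI := FractionRing.liftAlgebra B L
  have hBL : Function.Injective (algebraMap B L) := FaithfulSMul.algebraMap_injective B L
  have hspan : Submodule.span K (Set.range fun j => algebraMap A L (t j)) = ⊤ := by
    rw [eq_top_iff]
    intro z _
    have hA : ∀ a : A, algebraMap A L a ∈ Submodule.span K (Set.range fun j => algebraMap A L (t j)) := by
      intro a
      obtain ⟨c, hc⟩ := (Submodule.mem_span_range_iff_exists_fun B).1 (h a)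
      have e : algebraMap B K s • algebraMap A L a = ∑ j, algebraMap B K (c j) • algebraMap A L (t j) := by
        simp only [Algebra.smul_def, ← IsScalarTower.algebraMap_apply B K L]
        simp only [IsScalarTower.algebraMap_apply B A L, ← map_mul, ← map_sum, ← Algebra.smul_def, hc]
      have h1 : algebraMap B K s • algebraMap A L a ∈ Submodule.span K (Set.range fun j => algebraMap A L (t j)) := by
        rw [e]
        exact Submodule.sum_mem _ fun j _ => Submodule.smul_mem _ _ (Submodule.subset_span ⟨j, rfl⟩)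
      have hs' : algebraMap B K s ≠ 0 := (map_ne_zero_iff _ (IsFractionRing.injective B K)).2 hs
      have h2 := Submodule.smul_mem _ (algebraMap B K s)⁻¹ h1
      rwa [inv_smul_smul₀ hs'] at h2
    obtain ⟨a, a', ha', rfl⟩ := IsFractionRing.div_surjective (A := A) z
    obtain ⟨b, hb⟩ := Algebra.IsInvariant.isInvariant (A := B) (G := G) (∏ σ : G, σ • a') fun τ => by
      rw [Finset.smul_prod']
      exact Fintype.prod_equiv (Equiv.mulLeft τ) _ _ fun σ => by rw [Equiv.coe_mulLeft, mul_smul]
    have ha0 : a' ≠ 0 := nonZeroDivisors.ne_zero ha'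
    have hb0 : b ≠ 0 := fun h0 => by
      rw [h0, map_zero] at hb
      obtain ⟨σ, -, hσ⟩ := Finset.prod_eq_zero_iff.1 hb.symm
      exact ha0 ((smul_eq_zero_iff_eq σ).1 hσ)
    rw [← Finset.mul_prod_erase _ _ (Finset.mem_univ (1 : G)), one_smul] at hb
    have e : algebraMap A L a / algebraMap A L a' =
        (algebraMap B K b)⁻¹ • algebraMap A L (a * ∏ σ ∈ Finset.univ.erase (1 : G), σ • a') := by
      rw [Algebra.smul_def, map_inv₀, ← IsScalarTower.algebraMap_apply B K L, IsScalarTower.algebraMap_apply B A L,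
        hb, map_mul, map_mul]
      have h1 : algebraMap A L a' ≠ 0 := (map_ne_zero_iff _ (IsFractionRing.injective A L)).2 ha0
      have h2 : algebraMap A L (∏ σ ∈ Finset.univ.erase (1 : G), σ • a') ≠ 0 :=
        (map_ne_zero_iff _ (IsFractionRing.injective A L)).2
          (Finset.prod_ne_zero_iff.2 fun σ _ hσ => ha0 ((smul_eq_zero_iff_eq σ).1 hσ))
      rw [mul_inv, mul_comm (algebraMap A L a) (algebraMap A L (∏ σ ∈ Finset.univ.erase (1 : G), σ • a')),
        ← mul_assoc, mul_assoc _ _ (algebraMap A L (∏ σ ∈ Finset.univ.erase (1 : G), σ • a')),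
        inv_mul_cancel₀ h2, mul_one, inv_mul_eq_div]
    rw [e]
    exact Submodule.smul_mem _ _ (hA _)
  haveI : Module.Finite K L := Module.finite_def.2 (hspan ▸ Submodule.fg_span (Set.finite_range _))
  have hN : Module.finrank K L ≤ N := by
    have := finrank_range_le_card (R := K) (fun j => algebraMap A L (t j))
    rwa [Set.finrank, hspan, finrank_top, Fintype.card_fin] at this
  have hcomm : ∀ (σ : G) (k : K),
      (IsFractionRing.algEquivOfAlgEquiv (K := L) (L := L) (MulSemiringAction.toAlgEquiv B A σ)) (algebraMap K L k) =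
        algebraMap K L k := by
    intro σ k
    obtain ⟨x, y, -, rfl⟩ := IsFractionRing.div_surjective (A := B) k
    rw [map_div₀ (algebraMap K L), map_div₀, ← IsScalarTower.algebraMap_apply B K L,
      ← IsScalarTower.algebraMap_apply B K L, AlgEquiv.commutes, AlgEquiv.commutes]
  let Φ : G → (L ≃ₐ[K] L) := fun σ =>
    AlgEquiv.ofRingEquiv (f := (IsFractionRing.algEquivOfAlgEquiv (K := L) (L := L)
      (MulSemiringAction.toAlgEquiv B A σ)).toRingEquiv) (hcomm σ)
  have hΦ : Function.Injective Φ := by
    intro σ τ he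
    apply eq_of_smul_eq_smul (α := A)
    intro a
    apply IsFractionRing.injective A L
    have := AlgEquiv.congr_fun he (algebraMap A L a)
    simpa [Φ] using this
  have hcard := Fintype.card_le_of_injective Φ hΦ
  rw [Nat.card_eq_fintype_card]
  exact hcard.trans (AlgEquiv.card_le.trans hN)

/-- A ring of invariants of a local ring is local. -/
theorem isLocalRing_of_invariants {A B : Type u} (G : Type u) [CommRing A] [IsLocalRing A] [CommRing B]
    [Algebra B A] [FaithfulSMul B A] [Group G] [MulSemiringAction G A] [SMulCommClass G B A]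
    [Algebra.IsInvariant B A G] : IsLocalRing B := by
  haveI : Nontrivial B := (algebraMap B A).domain_nontrivial
  have hu : ∀ b : B, IsUnit (algebraMap B A b) → IsUnit b := by
    rintro b ⟨u, hu⟩
    obtain ⟨c, hc⟩ := Algebra.IsInvariant.isInvariant (A := B) (G := G) ((u⁻¹ : Aˣ) : A) fun g => by
      have h1 : (u : A) * (g • ((u⁻¹ : Aˣ) : A)) = 1 := by
        have h2 : g • (u : A) = u := by rw [hu, smul_algebraMap]
        conv_lhs => rw [← h2]
        rw [← smul_mul', Units.mul_inv, smul_one]
      calc g • ((u⁻¹ : Aˣ) : A) = ((u⁻¹ : Aˣ) : A) * ((u : A) * (g • ((u⁻¹ : Aˣ) : A))) := by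
            rw [← mul_assoc, Units.inv_mul, one_mul]
        _ = _ := by rw [h1, mul_one]
    refine IsUnit.of_mul_eq_one c (FaithfulSMul.algebraMap_injective B A ?_)
    rw [map_mul, hc, ← hu, Units.mul_inv, map_one]
  refine IsLocalRing.of_nonunits_add fun a b ha hb hab => ?_
  rcases IsLocalRing.isUnit_or_isUnit_of_isUnit_add (R := A) (a := algebraMap B A a) (b := algebraMap B A b) (by rw [← map_add]; exact hab.map (algebraMap B A)) with h | h
  exacts [ha (hu a h), hb (hu b h)]

/-- Let A be a Noetherian factorial local domain and G a finite group acting faithfully on A by ring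
automorphisms; let B be a ring with an injective ring map to A whose image is exactly the ring of
invariants of G, and assume A is a finite B-module. Let q be a prime ideal of B of height one and p
a prime ideal of A lying over q such that the extension of residue fields of the local rings B_q and
A_p is trivial (every element of A is congruent modulo p to some c⁻¹b with b, c in B, c outside q).
Then q is a principal ideal; and if moreover B/q is a regular local ring, then B is a regular local
ring. -/
theorem result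
    {A B G : Type u} [CommRing A] [IsDomain A] [IsNoetherianRing A] [IsLocalRing A]
    [UniqueFactorizationMonoid A]
    [CommRing B] [Algebra B A] [FaithfulSMul B A] [Module.Finite B A]
    [Group G] [Finite G] [MulSemiringAction G A] [FaithfulSMul G A] [SMulCommClass G B A]
    [Algebra.IsInvariant B A G]
    (q : Ideal B) [q.IsPrime] (hq : q.height = 1) (p : Ideal A) [p.IsPrime] [p.LiesOver q]
    (hres : ∀ a : A, ∃ b c : B, c ∉ q ∧ algebraMap B A c * a - algebraMap B A b ∈ p) :
    Submodule.IsPrincipal q ∧ (IsRegularLocalRing (B ⧸ q) → IsRegularLocalRing B) := by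
  classical
  cases nonempty_fintype G
  haveI : IsDomain B := (FaithfulSMul.algebraMap_injective B A).isDomain
  have hinjB : Function.Injective (algebraMap B A) := FaithfulSMul.algebraMap_injective B A
  have hq0 : q ≠ ⊥ := fun h => by rw [h, Ideal.height_bot] at hq; exact zero_ne_one hq
  have hover : q = p.comap (algebraMap B A) := Ideal.LiesOver.over
  have hp0 : p ≠ ⊥ := fun h => hq0 (by
    rw [hover, h]
    exact Ideal.comap_bot_of_injective _ hinjB)
  obtain ⟨π, hπp, hπ⟩ := Ideal.IsPrime.exists_mem_prime_of_ne_bot ‹p.IsPrime› hp0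
  haveI : Algebra.IsIntegral B A := Algebra.IsIntegral.of_finite B A
  have hpπ : p = Ideal.span {π} := by
    have hle : Ideal.span {π} ≤ p := (Ideal.span_singleton_le_iff_mem _).2 hπp
    haveI hπprime : (Ideal.span {π}).IsPrime := (Ideal.span_singleton_prime hπ.ne_zero).2 hπ
    by_contra hne
    have hlt : Ideal.span {π} < p := lt_of_le_of_ne hle (Ne.symm hne)
    have h1 : (Ideal.span {π}).comap (algebraMap B A) < q := hover ▸ Ideal.IsIntegral.comap_lt_comap hlt
    have h2 : (Ideal.span {π}).comap (algebraMap B A) ≠ ⊥ := fun h0 =>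
      hπ.ne_zero (Ideal.span_singleton_eq_bot.1 (Ideal.eq_bot_of_comap_eq_bot h0))
    haveI : ((Ideal.span {π}).comap (algebraMap B A)).IsPrime := inferInstance
    haveI : q.FiniteHeight := ⟨Or.inr (by rw [hq]; exact ENat.one_ne_top)⟩
    haveI : ((Ideal.span {π}).comap (algebraMap B A)).FiniteHeight :=
      Ideal.finiteHeight_of_le h1.le ‹q.IsPrime›.ne_top
    have h3 := Ideal.height_strict_mono_of_isPrime h1
    rw [hq, ENat.lt_one_iff_eq_zero, Ideal.height_eq_zero_iff] at h3
    have h4 : minimalPrimes B = {⊥} := IsDomain.minimalPrimes_eq_singleton_bot B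
    rw [h4, Set.mem_singleton_iff] at h3
    exact h2 h3
  have hprime : ∀ σ : G, Prime (σ • π) := fun σ =>
    (MulEquiv.prime_iff (MulSemiringAction.toRingEquiv G A σ).toMulEquiv).2 hπ
  have hdvd : ∀ (σ : G) {u v : A}, u ∣ v → σ • u ∣ σ • v := fun σ u v ⟨w, hw⟩ => ⟨σ • w, by rw [hw, smul_mul']⟩
  have hresσ : ∀ (σ : G) (a : A), ∃ b c : B, c ∉ q ∧ σ • π ∣ algebraMap B A c * a - algebraMap B A b := by
    intro σ a
    obtain ⟨b, c, hc, hmem⟩ := hres (σ⁻¹ • a)
    rw [hpπ, Ideal.mem_span_singleton] at hmem
    refine ⟨b, c, hc, ?_⟩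
    have := hdvd σ hmem
    rwa [smul_sub, smul_mul', smul_algebraMap, smul_algebraMap, smul_inv_smul] at this
  let O : Finset (Associates A) := Finset.univ.image fun σ : G => Associates.mk (σ • π)
  let ρ : Associates A → A := Function.surjInv Associates.mk_surjective
  have hρ : ∀ c, Associates.mk (ρ c) = c := Function.surjInv_eq Associates.mk_surjective
  have hρO : ∀ c ∈ O, ∃ σ : G, Associated (σ • π) (ρ c) := fun c hc => by
    obtain ⟨σ, -, rfl⟩ := Finset.mem_image.1 hc
    exact ⟨σ, Associates.mk_eq_mk_iff_associated.1 (hρ _).symm⟩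
  set m := (Finset.univ.filter fun σ : G => Associates.mk (σ • π) = Associates.mk π).card with hm
  have hfib : ∀ c ∈ O, (Finset.univ.filter fun σ : G => Associates.mk (σ • π) = c).card = m := by
    intro c hc
    obtain ⟨τ, -, rfl⟩ := Finset.mem_image.1 hc
    refine (Finset.card_equiv (Equiv.mulLeft τ) fun σ => ?_).symm
    simp only [Finset.mem_filter, Finset.mem_univ, true_and, Equiv.coe_mulLeft, mul_smul,
      Associates.mk_eq_mk_iff_associated]
    constructor
    · rintro ⟨u, hu⟩
      exact ⟨Units.map (MulSemiringAction.toRingHom G A τ).toMonoidHom u, by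
        show τ • σ • π * τ • (u : A) = τ • π
        rw [← smul_mul', hu]⟩
    · rintro ⟨u, hu⟩
      exact ⟨Units.map (MulSemiringAction.toRingHom G A τ⁻¹).toMonoidHom u, by
        show σ • π * τ⁻¹ • (u : A) = π
        apply MulAction.injective τ
        show τ • (σ • π * τ⁻¹ • (u : A)) = τ • π
        rw [smul_mul', smul_inv_smul, hu]⟩
  have hcardG : Nat.card G = O.card * m := by
    rw [Nat.card_eq_fintype_card, ← Finset.card_univ,
      Finset.card_eq_sum_card_image (fun σ : G => Associates.mk (σ • π)) Finset.univ, Finset.sum_congr rfl hfib,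
      Finset.sum_const, smul_eq_mul]
  let Pi0 : A := ∏ c ∈ O, ρ c
  let bA : A := ∏ σ : G, σ • π
  obtain ⟨b, hb⟩ := Algebra.IsInvariant.isInvariant (A := B) (G := G) bA fun τ => by
    rw [Finset.smul_prod']
    exact Fintype.prod_equiv (Equiv.mulLeft τ) _ _ fun σ => by rw [Equiv.coe_mulLeft, mul_smul]
  have hbPi : Associated bA (Pi0 ^ m) := by
    rw [← Associates.mk_eq_mk_iff_associated, ← Associates.mkMonoidHom_apply, map_prod,
      ← Associates.mkMonoidHom_apply, map_pow, map_prod]
    simp only [Associates.mkMonoidHom_apply, hρ]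
    rw [Finset.prod_comp (fun c => c) (fun σ : G => Associates.mk (σ • π)), ← Finset.prod_pow]
    exact Finset.prod_congr rfl fun c hc => by rw [hfib c hc]
  have hbq : b ∈ q := by
    rw [hover, Ideal.mem_comap, hb, hpπ, Ideal.mem_span_singleton]
    exact (by simp : π ∣ (1 : G) • π).trans (Finset.dvd_prod_of_mem _ (Finset.mem_univ (1 : G)))
  have hb0 : algebraMap B A b ≠ 0 := by
    rw [hb]; exact Finset.prod_ne_zero_iff.2 fun σ _ => (hprime σ).ne_zero
  have key : ∀ x ∈ q, algebraMap B A b ∣ algebraMap B A x := by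
    intro x hx
    rcases eq_or_ne x 0 with rfl | hx0
    · rw [map_zero]; exact dvd_zero _
    obtain ⟨e, u, hu, hxe⟩ := WfDvdMonoid.max_power_factor
      ((map_ne_zero_iff _ hinjB).2 hx0 : algebraMap B A x ≠ 0) hπ.irreducible
    have hxσ : ∀ σ : G, algebraMap B A x = (σ • π) ^ e * σ • u ∧ ¬ (σ • π ∣ σ • u) := by
      refine fun σ => ⟨?_, fun h => hu ?_⟩
      · rw [← smul_algebraMap σ x, hxe, smul_mul', smul_pow']
      · have := hdvd σ⁻¹ h
        rwa [inv_smul_smul, inv_smul_smul] at this
    have hpiece : ∀ c ∈ O, ρ c ^ e ∣ algebraMap B A x ∧ ¬ ρ c ^ (e + 1) ∣ algebraMap B A x := by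
      intro c hc
      obtain ⟨σ, hσ⟩ := hρO c hc
      refine ⟨((hσ.pow_pow).dvd_iff_dvd_left).1 ⟨_, (hxσ σ).1⟩, fun h => (hxσ σ).2 ?_⟩
      have h' := ((hσ.pow_pow (n := e + 1)).dvd_iff_dvd_left).2 h
      rw [(hxσ σ).1, pow_succ] at h'
      exact (mul_dvd_mul_iff_left (pow_ne_zero _ (hprime σ).ne_zero)).1 h'
    have hPe : Pi0 ^ e ∣ algebraMap B A x := by
      rw [← Finset.prod_pow]
      refine Finset.prod_dvd_of_isRelPrime (fun c hc d hd hcd => ?_) fun c hc => (hpiece c hc).1
      obtain ⟨σ, hσ⟩ := hρO c hc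
      obtain ⟨τ, hτ⟩ := hρO d hd
      refine IsRelPrime.pow ((hσ.irreducible (hprime σ).irreducible).isRelPrime_iff_not_dvd.2 fun hdd => hcd ?_)
      rw [← hρ c, ← hρ d, Associates.mk_eq_mk_iff_associated]
      exact (hσ.irreducible (hprime σ).irreducible).associated_of_dvd (hτ.irreducible (hprime τ).irreducible) hdd
    obtain ⟨w, hw⟩ := hPe
    by_cases hem : m ≤ e
    · rw [hb, hw]
      exact ((hbPi.dvd).trans (pow_dvd_pow _ hem)).mul_right _
    exfalso
    have hnw : ∀ σ : G, ¬ π ∣ σ • w := by
      intro σ hd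
      have hd' := hdvd σ⁻¹ hd
      rw [inv_smul_smul] at hd'
      have hc : Associates.mk (σ⁻¹ • π) ∈ O := Finset.mem_image_of_mem _ (Finset.mem_univ _)
      have hd'' : ρ (Associates.mk (σ⁻¹ • π)) ∣ w :=
        (Associates.mk_eq_mk_iff_associated.1 (hρ _)).dvd.trans hd'
      refine (hpiece _ hc).2 ?_
      rw [hw, pow_succ]
      exact mul_dvd_mul (pow_dvd_pow_of_dvd (Finset.dvd_prod_of_mem _ hc) e) hd''
    obtain ⟨w₀, hw₀⟩ := Algebra.IsInvariant.isInvariant (A := B) (G := G) (∏ σ : G, σ • w) fun τ => by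
      rw [Finset.smul_prod']
      exact Fintype.prod_equiv (Equiv.mulLeft τ) _ _ fun σ => by rw [Equiv.coe_mulLeft, mul_smul]
    have hw₀q : w₀ ∉ q := by
      rw [hover, Ideal.mem_comap, hw₀, hpπ, Ideal.mem_span_singleton]
      intro h
      obtain ⟨σ, -, hσ⟩ := (hπ.dvd_finsetProd_iff _).1 h
      exact hnw σ hσ
    let l : List A := (List.replicate e (O.toList.map ρ)).flatten
    have hlprod : l.prod = Pi0 ^ e := by
      simp [l, List.prod_flatten, Pi0, Finset.prod_map_toList]
    have hllen : l.length = e * O.card := by simp [l]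
    obtain ⟨t, ht⟩ := exists_generators q l fun r hr a => by
      simp only [l, List.mem_flatten, List.mem_replicate] at hr
      obtain ⟨L0, ⟨-, rfl⟩, hr⟩ := hr
      obtain ⟨c, hc, rfl⟩ := List.mem_map.1 hr
      obtain ⟨σ, hσ⟩ := hρO c (Finset.mem_toList.1 hc)
      obtain ⟨b', c', hc', hd⟩ := hresσ σ a
      exact ⟨b', c', hc', hσ.dvd_iff_dvd_left.1 hd⟩
    let S := Submodule.span B (Set.range t)
    obtain ⟨s, hs, hsS⟩ := exists_smul_eq_zero (Q := A ⧸ S) q fun z => by
      obtain ⟨a, rfl⟩ := Submodule.Quotient.mk_surjective S z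
      obtain ⟨s, hs, co, y, hy⟩ := ht a
      rw [hlprod] at hy
      refine ⟨w₀ * s, fun h => (‹q.IsPrime›.mem_or_mem h).elim hw₀q hs, ?_⟩
      obtain ⟨w', hw'⟩ : w ∣ algebraMap B A w₀ := by
        rw [hw₀]; exact (by simp : w ∣ (1 : G) • w).trans (Finset.dvd_prod_of_mem _ (Finset.mem_univ (1 : G)))
      have e1 : (w₀ * s) • a = ∑ j, (w₀ * co j) • t j + x • (w' * y) := by
        simp only [Algebra.smul_def, map_mul, mul_assoc, ← Finset.mul_sum]
        rw [sub_eq_iff_eq_add'] at hy
        rw [hy, hw, hw']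
        ring
      rw [← Submodule.Quotient.mk_smul, e1, Submodule.Quotient.mk_add, (Submodule.Quotient.mk_eq_zero S).2
        (Submodule.sum_mem _ fun j _ => Submodule.smul_mem _ _ (Submodule.subset_span ⟨j, rfl⟩)), zero_add,
        Submodule.Quotient.mk_smul]
      exact Submodule.smul_mem_smul hx trivial
    have hle := card_le_of_span (A := A) (B := B) (G := G) t s (fun h => hs (h ▸ q.zero_mem)) fun a => by
      have := hsS (Submodule.Quotient.mk a)
      rwa [← Submodule.Quotient.mk_smul, Submodule.Quotient.mk_eq_zero] at this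
    rw [hllen, hcardG, mul_comm e] at hle
    have hO : 0 < O.card := Finset.card_pos.2 ⟨_, Finset.mem_image_of_mem _ (Finset.mem_univ 1)⟩
    exact hem (Nat.le_of_mul_le_mul_left hle hO)
  have hqb : q = Ideal.span {b} := by
    refine le_antisymm (fun x hx => ?_) ((Ideal.span_singleton_le_iff_mem _).2 hbq)
    obtain ⟨y, hy⟩ := key x hx
    obtain ⟨c, hc⟩ := Algebra.IsInvariant.isInvariant (A := B) (G := G) y fun g => by
      refine mul_left_cancel₀ hb0 ?_
      calc algebraMap B A b * g • y = g • (algebraMap B A b * y) := by rw [smul_mul', smul_algebraMap]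
        _ = _ := by rw [← hy, smul_algebraMap]
    exact Ideal.mem_span_singleton'.2 ⟨c, hinjB (by rw [map_mul, hc, hy, mul_comm])⟩
  refine ⟨⟨b, hqb⟩, fun hreg => ?_⟩
  haveI := Groth.Agent.EakinNag.isNoetherianRing_of_finite (B := B) A hinjB
  haveI := isLocalRing_of_invariants (A := A) (B := B) G
  subst hqb
  haveI := hreg
  exact Groth.Agent.S0560.result B b (IsLocalRing.le_maximalIdeal ‹(Ideal.span {b}).IsPrime›.ne_top hbq)
    (mem_nonZeroDivisors_of_ne_zero fun h => hb0 (by rw [h, map_zero]))

end Groth.Agent.S16547
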