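import Groth.Statements.S16548
import Groth.Agent.LS17.TameSep

set_option autoImplicit false
universe u
open CategoryTheory CategoryTheory.Limits AlgebraicGeometry
attribute [local instance] Curv2.resAlgebra
open Curves

namespace Groth.Agent.S16548

/-- Let k be a field, X and Y smooth over k of relative dimension one (not necessarily proper), f : X ->
Y a finite k-morphism and x a closed point of X, with y = f(x). Suppose f is tamely ramified at x:
m_y O_{X,x} = m_x^e for an integer e ≥ 2 prime to the characteristic of k, and κ(x) is separable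
over κ(y). Then κ(x) is separable over k. (Consequently the field generated over k by the residue
fields of all such points is Galois over k.) -/
theorem result (k : Type u) [Field k]
    (X Y : Scheme.{u}) [X.Over (Spec (CommRingCat.of k))] [Y.Over (Spec (CommRingCat.of k))]
    [SmoothOfRelativeDimension 1 (X ↘ Spec (CommRingCat.of k))]
    [SmoothOfRelativeDimension 1 (Y ↘ Spec (CommRingCat.of k))]
    (f : X ⟶ Y) [IsFinite f] (hf : f ≫ (Y ↘ Spec (CommRingCat.of k)) = X ↘ Spec (CommRingCat.of k))
    (x : X) (hx : IsClosed ({x} : Set X)) (e : ℕ)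
    (he : (IsLocalRing.maximalIdeal (Y.presheaf.stalk (f.base x))).map (f.stalkMap x).hom =
      IsLocalRing.maximalIdeal (X.presheaf.stalk x) ^ e)
    (h2 : 2 ≤ e) (hp : ¬ ringChar k ∣ e)
    (hsep : @Algebra.IsSeparable (Y.residueField (f.base x)) (X.residueField x) _ _
      (f.residueFieldMap x).hom.toAlgebra) :
    Algebra.IsSeparable k (X.residueField x) := by
  haveI : Subsingleton (Spec (CommRingCat.of k)) := inferInstanceAs (Subsingleton (PrimeSpectrum k))
  obtain ⟨U, hU, V, hV, hxV, le, hstd⟩ :=
    SmoothOfRelativeDimension.exists_isStandardSmoothOfRelativeDimension (n := 1) (f := X ↘ Spec (CommRingCat.of k)) x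
  obtain rfl : U = ⊤ := eq_top_iff.2 fun p _ => Subsingleton.elim ((X ↘ Spec (CommRingCat.of k)) x) p ▸ le hxV
  let ψ := (Scheme.ΓSpecIso (CommRingCat.of k)).commRingCatIsoToRingEquiv.symm
  have h2' := (RingHom.isStandardSmoothOfRelativeDimension_respectsIso).2
    ((X ↘ Spec (CommRingCat.of k)).appLE ⊤ V le).hom ψ hstd
  letI : Algebra k Γ(X, V) := (((X ↘ Spec (CommRingCat.of k)).appLE ⊤ V le).hom.comp ψ.toRingHom).toAlgebra
  haveI : Algebra.IsStandardSmoothOfRelativeDimension 1 k Γ(X, V) := h2'
  letI : Algebra Γ(X, V) (X.presheaf.stalk x) := TopCat.Presheaf.algebra_section_stalk X.presheaf ⟨x, hxV⟩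
  haveI : IsLocalization.AtPrime (X.presheaf.stalk x) (hV.primeIdealOf ⟨x, hxV⟩).asIdeal := hV.isLocalization_stalk ⟨x, hxV⟩
  haveI := hV.primeIdealOf_isMaximal_of_isClosed ⟨x, hxV⟩ hx
  letI : Algebra k (X.presheaf.stalk x) := Curv2.stalkAlgebra k X x
  letI : Algebra k (Y.presheaf.stalk (f.base x)) := Curv2.stalkAlgebra k Y (f.base x)
  letI : Algebra (Y.presheaf.stalk (f.base x)) (X.presheaf.stalk x) := (f.stalkMap x).hom.toAlgebra
  haveI : IsLocalHom (algebraMap (Y.presheaf.stalk (f.base x)) (X.presheaf.stalk x)) :=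
    inferInstanceAs (IsLocalHom (f.stalkMap x).hom)
  haveI : IsScalarTower k Γ(X, V) (X.presheaf.stalk x) := IsScalarTower.of_algebraMap_eq fun c =>
    (TopCat.Presheaf.germ_res_apply X.presheaf (homOfLE (le_top : V ≤ ⊤)) x hxV _).symm
  haveI : IsScalarTower k (Y.presheaf.stalk (f.base x)) (X.presheaf.stalk x) := IsScalarTower.of_algebraMap_eq fun c => by
    refine Eq.trans ?_ (Scheme.Hom.germ_stalkMap_apply f ⊤ x trivial _).symm
    show X.presheaf.germ ⊤ x trivial ((X ↘ Spec (CommRingCat.of k)).appTop _) = _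
    rw [← hf, Scheme.Hom.comp_appTop]
    rfl
  have hsep' : Algebra.IsSeparable (IsLocalRing.ResidueField (Y.presheaf.stalk (f.base x)))
      (IsLocalRing.ResidueField (X.presheaf.stalk x)) := by
    letI := (f.residueFieldMap x).hom.toAlgebra
    haveI : Algebra.IsSeparable (Y.residueField (f.base x)) (X.residueField x) := hsep
    refine Algebra.IsSeparable.of_equiv_equiv (A₁ := Y.residueField (f.base x)) (B₁ := X.residueField x)
      (RingEquiv.refl _) (RingEquiv.refl _) (RingHom.ext fun z => ?_)
    obtain ⟨z, rfl⟩ := IsLocalRing.residue_surjective z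
    rfl
  exact LS17.isSeparable_residueField_of_ramified (k := k) (R := Y.presheaf.stalk (f.base x)) (B := Γ(X, V))
    (hV.primeIdealOf ⟨x, hxV⟩).asIdeal hsep' e he h2

end Groth.Agent.S16548
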