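import Groth.Statements.S1655

import Groth.Agent.S7659
import Groth.Agent.Triage.ZMTBirPt

set_option autoImplicit false
set_option linter.style.haveILetI false
set_option linter.unusedSectionVars false
set_option backward.isDefEq.respectTransparency false
set_option backward.isDefEq.respectTransparency.types false
universe u
open CategoryTheory CategoryTheory.Limits AlgebraicGeometry
open Variety

namespace Groth.Agent.S1655

open CategoryTheory AlgebraicGeometry Groth.Agent Topology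

/-- Let X be a Noetherian integral scheme, Y an integral scheme, and f : Y → X a proper morphism that
restricts to an isomorphism over some nonempty open subscheme of X. If x is a point of X whose local
ring is integrally closed and f is quasi-finite at some point lying over x, then f restricts to an
isomorphism over an open neighbourhood of x. -/
theorem result {X Y : Scheme.{u}} [IsNoetherian X] [IsIntegral X] [IsIntegral Y]
    (f : Y ⟶ X) [IsProper f] (W : X.Opens) (hW : (W : Set X).Nonempty) (hfW : IsIso (f ∣_ W))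
    (x : X) (hx : IsIntegrallyClosed (X.presheaf.stalk x)) (y : Y) (hy : f.base y = x) (hq : f.QuasiFiniteAt y) :
    ∃ V : X.Opens, x ∈ V ∧ IsIso (f ∣_ V) := by
  -- generic points
  obtain ⟨w, hw⟩ := hW
  have hbij : Function.Bijective (f ∣_ W).base :=
    ⟨(f ∣_ W).isOpenEmbedding.injective, (f ∣_ W).surjective⟩
  obtain ⟨⟨w', hw'W⟩, -⟩ := hbij.2 ⟨w, hw⟩
  have hgW : genericPoint Y ∈ f ⁻¹ᵁ W := (genericPoint_specializes w').mem_open (f ⁻¹ᵁ W).isOpen hw'W
  have hgen : f.base (genericPoint Y) = genericPoint X := by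
    have hle : genericPoint X ⤳ f.base (genericPoint Y) := genericPoint_specializes _
    obtain ⟨⟨t, htW⟩, ht⟩ := hbij.2 ⟨genericPoint X, hle.mem_open W.isOpen hgW⟩
    have ht' : f.base t = genericPoint X := by
      have := congrArg Subtype.val ht
      rwa [morphismRestrict_base] at this
    exact ((hle).antisymm (ht' ▸ (genericPoint_specializes t).map f.base.hom.continuous)).eq.symm
  have hstalkgen : IsIso (f.stalkMap (genericPoint Y)) :=
    ((MorphismProperty.isomorphisms CommRingCat).arrow_mk_iso_iff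
      (morphismRestrictStalkMap f W ⟨genericPoint Y, hgW⟩)).1
      (show IsIso ((f ∣_ W).stalkMap ⟨genericPoint Y, hgW⟩) from inferInstance)
  -- pass to an affine neighbourhood of x
  obtain ⟨V₀, hV₀, hxV₀, -⟩ := exists_isAffineOpen_mem_and_subset (x := x) (U := ⊤) trivial
  have hyV₀ : y ∈ f ⁻¹ᵁ V₀ := by
    show f.base y ∈ V₀
    rwa [hy]
  haveI : IsAffine (V₀ : Scheme.{u}) := hV₀
  haveI : Nonempty (f ⁻¹ᵁ V₀ : Scheme.{u}) := ⟨⟨y, hyV₀⟩⟩
  haveI : Nonempty (V₀ : Scheme.{u}) := ⟨⟨x, hxV₀⟩⟩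
  haveI : IsIntegral (f ⁻¹ᵁ V₀ : Scheme.{u}) := isIntegral_of_isOpenImmersion (f ⁻¹ᵁ V₀).ι
  haveI : IsIntegral (V₀ : Scheme.{u}) := isIntegral_of_isOpenImmersion V₀.ι
  haveI : IsProper (f ∣_ V₀) := IsZariskiLocalAtTarget.restrict ‹_› V₀
  have hg1 : (f ⁻¹ᵁ V₀).ι (genericPoint (f ⁻¹ᵁ V₀ : Scheme.{u})) = genericPoint Y :=
    genericPoint_eq_of_isOpenImmersion _
  have hg2 : V₀.ι (genericPoint (V₀ : Scheme.{u})) = genericPoint X := genericPoint_eq_of_isOpenImmersion _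
  have hcomm : ∀ z, V₀.ι ((f ∣_ V₀) z) = f ((f ⁻¹ᵁ V₀).ι z) := fun z =>
    congrArg (fun φ : (f ⁻¹ᵁ V₀ : Scheme.{u}) ⟶ X => φ z) (morphismRestrict_ι f V₀)
  have hgen' : (f ∣_ V₀) (genericPoint (f ⁻¹ᵁ V₀ : Scheme.{u})) = genericPoint (V₀ : Scheme.{u}) :=
    V₀.ι.isOpenEmbedding.injective ((hcomm _).trans (((congrArg f hg1).trans hgen).trans hg2.symm))
  have hbir' : IsIso ((f ∣_ V₀).stalkMap (genericPoint (f ⁻¹ᵁ V₀ : Scheme.{u}))) := by
    refine ((MorphismProperty.isomorphisms CommRingCat).arrow_mk_iso_iff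
      (morphismRestrictStalkMap f V₀ _)).2 ?_
    have key : ∀ t, t = genericPoint Y → IsIso (f.stalkMap t) := fun t ht => ht ▸ hstalkgen
    exact key _ hg1
  have hqf : (f ∣_ V₀).QuasiFiniteAt ⟨y, hyV₀⟩ := by
    rw [← Scheme.Hom.quasiFiniteAt_comp_iff (g := V₀.ι), morphismRestrict_ι,
      Scheme.Hom.quasiFiniteAt_comp_iff_of_isOpenImmersion]
    exact hq
  have hx' : IsIntegrallyClosed ((V₀ : Scheme.{u}).presheaf.stalk ((f ∣_ V₀) ⟨y, hyV₀⟩)) := by
    haveI : IsIntegrallyClosed (X.presheaf.stalk ((f ∣_ V₀) ⟨y, hyV₀⟩).1) := by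
      have key : ∀ t, t = x → IsIntegrallyClosed (X.presheaf.stalk t) := fun t ht => ht ▸ hx
      exact key _ (show ((f ∣_ V₀) ⟨y, hyV₀⟩).1 = x from (hcomm ⟨y, hyV₀⟩).trans hy)
    exact IsIntegrallyClosed.of_equiv (V₀.stalkIso ((f ∣_ V₀) ⟨y, hyV₀⟩)).commRingCatIsoToRingEquiv.symm
  have hstalk' := Triage.ZMTBirPt.isIso_stalkMap (f ∣_ V₀) hgen' hbir' ⟨y, hyV₀⟩ hqf hx'
  have hstalk : IsIso (f.stalkMap y) :=
    ((MorphismProperty.isomorphisms CommRingCat).arrow_mk_iso_iff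
      (morphismRestrictStalkMap f V₀ ⟨y, hyV₀⟩)).1 hstalk'
  -- a neighbourhood of y mapping isomorphically
  obtain ⟨U, hyU, hU⟩ := S7659.result f
    TopologicalSpace.NoetherianSpace.finite_irreducibleComponents y hstalk
  haveI := hU
  set V := (U.ι ≫ f).opensRange
  have hxV : x ∈ V := ⟨⟨y, hyU⟩, hy⟩
  refine ⟨V, hxV, ?_⟩
  have hlift : ∀ u : (U : Scheme.{u}), U.ι u ∈ f ⁻¹ᵁ V := fun u => ⟨u, rfl⟩
  let σ : (V : Scheme.{u}) ⟶ (f ⁻¹ᵁ V : Scheme.{u}) :=
    (U.ι ≫ f).isoOpensRange.inv ≫ IsOpenImmersion.lift (f ⁻¹ᵁ V).ι U.ι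
      (by rintro _ ⟨u, rfl⟩; rw [Scheme.Opens.range_ι]; exact hlift u)
  have hσ : σ ≫ (f ∣_ V) = 𝟙 _ := by
    rw [← cancel_mono V.ι, Category.id_comp]
    simp only [σ, Category.assoc, morphismRestrict_ι, IsOpenImmersion.lift_fac_assoc]
    exact Scheme.Hom.isoOpensRange_inv_comp (U.ι ≫ f)
  haveI : IsClosedImmersion (σ ≫ (f ∣_ V)) := by rw [hσ]; infer_instance
  haveI : IsClosedImmersion σ := IsClosedImmersion.of_comp σ (f ∣_ V)
  haveI : Nonempty (f ⁻¹ᵁ V : Scheme.{u}) := ⟨σ ⟨x, hxV⟩⟩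
  haveI : IsIntegral (f ⁻¹ᵁ V : Scheme.{u}) := isIntegral_of_isOpenImmersion (f ⁻¹ᵁ V).ι
  haveI : IsOpenImmersion σ := inferInstance
  have hsurj : Surjective σ := by
    refine ⟨?_⟩
    rw [← Set.range_eq_univ]
    exact IsClopen.eq_univ ⟨σ.isClosedEmbedding.isClosed_range, σ.isOpenEmbedding.isOpen_range⟩ ⟨_, ⟨x, hxV⟩, rfl⟩
  haveI : IsIso σ := (isIso_iff_isOpenImmersion_and_surjective σ).2 ⟨inferInstance, hsurj⟩
  have : (f ∣_ V) = inv σ := (IsIso.inv_eq_of_hom_inv_id hσ).symm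
  rw [this]
  infer_instance

end Groth.Agent.S1655
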