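import Groth.Statements.S16551
import Groth.Agent.MdlSurf.FiniteGD

set_option autoImplicit false
universe u
open CategoryTheory CategoryTheory.Limits AlgebraicGeometry
open Models

namespace Groth.Agent.S16551

/-- Let R be a discrete valuation ring, W and Z integral normal schemes which are flat, of finite type
and of dimension 2 over Spec R, and ψ : W -> Z a finite surjective R-morphism. Let z be a closed
point of Z lying in the special fibre, w a point of W with ψ(w) = z, and Δ an irreducible component
of the special fibre of Z with z ∈ Δ. Then some irreducible component Γ of the special fibre of W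
contains w and satisfies ψ(Γ) = Δ. (The published statement asks W and Z only to be normal; they are
taken integral as well here.) -/
theorem result
    (R : Type u) [CommRing R] [IsDomain R] [IsDiscreteValuationRing R]
    (W Z : Over (Spec (CommRingCat.of R))) [IsIntegral W.left] [IsIntegral Z.left]
    (hWn : Pi1.IsNormalScheme W.left) (hZn : Pi1.IsNormalScheme Z.left)
    [Flat W.hom] [LocallyOfFiniteType W.hom] [QuasiCompact W.hom]
    [Flat Z.hom] [LocallyOfFiniteType Z.hom] [QuasiCompact Z.hom]
    (hdW : topologicalKrullDim W.left = 2) (hdZ : topologicalKrullDim Z.left = 2)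
    (ψ : W ⟶ Z) [IsFinite ψ.left] [Surjective ψ.left]
    (z : Z.left) (hzc : IsClosed ({z} : Set Z.left)) (hz : z ∈ Models.specialFibreSet R Z)
    (w : W.left) (hw : ψ.left.base w = z)
    (Δ : Set Z.left) (hΔ : Δ ∈ Models.fibreComponents R Z) (hzΔ : z ∈ Δ) :
    ∃ Γ ∈ Models.fibreComponents R W, w ∈ Γ ∧ ψ.left.base '' Γ = Δ := by
  haveI : IsDominant ψ.left := ⟨ψ.left.surjective.denseRange⟩
  have hΔ' : Maximal (fun S : Set Z.left => IsIrreducible S ∧ S ⊆ Models.specialFibreSet R Z) Δ := hΔ
  have hΔc : IsClosed Δ := by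
    refine (hΔ'.eq_of_ge ⟨hΔ'.prop.1.closure, ?_⟩ subset_closure).symm ▸ isClosed_closure
    exact (Models.isClosed_specialFibreSet R Z).closure_subset_iff.2 hΔ'.prop.2
  obtain ⟨δ, hδ⟩ := QuasiSober.sober hΔ'.prop.1 hΔc
  have hδz : δ ⤳ ψ.left.base w := by rw [hw]; exact hδ.specializes hzΔ
  obtain ⟨γ, hγw, hγδ⟩ := MdlSurf.generalizingMap_of_isIntegralHom ψ.left hZn hδz
  have hfib : ∀ y : W.left, ψ.left.base y ∈ Models.specialFibreSet R Z ↔ y ∈ Models.specialFibreSet R W := fun y => by
    have h : Z.hom.base (ψ.left.base y) = W.hom.base y := congr($(Over.w ψ) y)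
    simp only [Models.specialFibreSet, Set.mem_preimage]
    rw [h]
  have himg : ψ.left.base '' closure {γ} = Δ := by
    rw [← ψ.left.isClosedMap.closure_image_eq_of_continuous ψ.left.continuous, Set.image_singleton, hγδ]
    exact hδ
  have hsub : closure {γ} ⊆ Models.specialFibreSet R W := fun y hy =>
    (hfib y).1 (hΔ'.prop.2 (himg ▸ Set.mem_image_of_mem _ hy))
  refine ⟨closure {γ}, ⟨⟨isIrreducible_singleton.closure, hsub⟩, fun S hS hle => ?_⟩, specializes_iff_mem_closure.1 hγw, himg⟩
  obtain ⟨σ, hσ⟩ := QuasiSober.sober hS.1.closure isClosed_closure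
  have hSΔ : closure (ψ.left.base '' S) ⊆ Δ := by
    refine hΔ'.2 ⟨(hS.1.image _ ψ.left.continuous.continuousOn).closure, ?_⟩ ?_
    · refine (Models.isClosed_specialFibreSet R Z).closure_subset_iff.2 ?_
      rintro _ ⟨y, hy, rfl⟩
      exact (hfib y).2 (hS.2 hy)
    · rw [← himg]
      exact (Set.image_mono hle).trans subset_closure
  have hσγ : σ ⤳ γ := hσ.specializes (subset_closure (hle (subset_closure rfl)))
  have hψσ : ψ.left.base σ ∈ Δ :=
    hSΔ (image_closure_subset_closure_image ψ.left.continuous (Set.mem_image_of_mem _ hσ.mem))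
  have heq : ψ.left.base σ = ψ.left.base γ :=
    ((hσγ.map ψ.left.continuous).antisymm (hγδ.symm ▸ hδ.specializes hψσ)).eq
  rw [MdlSurf.eq_of_specializes_of_isFinite ψ.left hσγ heq] at hσ
  exact subset_closure.trans hσ.symm.le

end Groth.Agent.S16551
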