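import Groth.Statements.S16562
import Groth.Agent.NumSurf32.Plane

set_option autoImplicit false
universe u
open CategoryTheory CategoryTheory.Limits AlgebraicGeometry TopologicalSpace
open Surf

namespace Groth.Agent.S16562

/-- Let k be an algebraically closed field, p_1, …, p_r distinct closed points of the projective plane
P²_k and σ : X → P²_k the blow-up of P²_k in the ideal of the reduced finite set {p_1, …, p_r}
(universal property), X being regarded over k through σ; X is then an integral smooth proper surface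
(carried as hypotheses). Write H = σ^*O(1), (L·M) = χ(O_X) − χ(L) − χ(M) + χ(L ⊗ M) for the
intersection number of invertible modules L, M, and for a closed subscheme C ⊆ X with ideal I_C
write (L·C) = χ(O_C ⊗ L) − χ(O_C) and C² = (I_C·I_C). A (−1)-curve is an integral closed
one-dimensional subscheme E ⊆ X with H¹(E, O_E) = 0 and E² = −1. If L is an invertible O_X-module
and E a (−1)-curve whose H-degree satisfies 2(H·E) > (L·H), and (L·E) < −1, then H⁰(X, L) = 0. (The
source takes the points in general position; that assumption plays no role here.) -/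
theorem result (k : Type u) [Field k] [IsAlgClosed k]
    (r : ℕ) (P : Fin r → ↥(CohB1.ProjSpace 2 k)) (hP : Function.Injective P)
    (hPc : ∀ i, IsClosed ({P i} : Set ↥(CohB1.ProjSpace 2 k))) (hZ : IsClosed (Set.range P))
    (X : Scheme.{u}) [X.Over (Spec (CommRingCat.of k))] (σ : X ⟶ CohB1.ProjSpace 2 k)
    (hσk : σ ≫ CohB1.ProjSpace.toSpec 2 k = X ↘ (Spec (CommRingCat.of k)))
    (hσ : BlowUp.IsBlowUp σ (Scheme.IdealSheafData.vanishingIdeal ⟨Set.range P, hZ⟩))
    [IsIntegral X] [IsProper (X ↘ (Spec (CommRingCat.of k)))] [Smooth (X ↘ (Spec (CommRingCat.of k)))] (hdim : topologicalKrullDim X = 2)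
    (L : X.Modules) (hL : PicF.IsInvertible L)
    (E : X.IdealSheafData) (hEi : IsIntegral E.subscheme) (hE1 : topologicalKrullDim (E.support : Set X) = 1)
    (hEg : Subsingleton (Coh.HH E.subscheme (Coh.structureModule E.subscheme) 1))
    (hEE : FGA.intNum k X 2 ![ClSub.idealMod E, ClSub.idealMod E] (Coh.structureModule X) = -1)
    (hEH : FGA.intNum k X 2 ![L, ((Scheme.Modules.pullback σ).obj (Twist.twistProjSpace 2 k 1))] (Coh.structureModule X) < 2 * (Curv2.euler k X (CohB1.tensorMod (ClSub.quotMod E) ((Scheme.Modules.pullback σ).obj (Twist.twistProjSpace 2 k 1))) - Curv2.euler k X (ClSub.quotMod E)))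
    (hLE : (Curv2.euler k X (CohB1.tensorMod (ClSub.quotMod E) L) - Curv2.euler k X (ClSub.quotMod E)) < -1) :
    Subsingleton (Coh.HH X L 0) := by
  haveI := Groth.Agent.CurveCohLib.isNoetherian_of_proper (k := k) (X := X)
  haveI := hEi
  have h2 := Groth.Agent.NumSurf32.dim_le_two (X := X) hdim
  have hH := Groth.Agent.PicClLib.isInvertible_pullback σ (Groth.Agent.H75.GGMul.isAmple_one (k := k) (n := 2)).1
  have hE := Groth.Agent.NumSurf32.isEffCartier_of_curve k hdim E hE1
  have hEI := Groth.Agent.SurfInt.isInvertible_idealMod hE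
  rw [Groth.Agent.NumSurf32.intNum_eq k hdim hEI hEI] at hEE
  rw [Groth.Agent.NumSurf32.intNum_eq k hdim hL hH] at hEH
  have hd : Groth.Agent.SurfInt.curveDeg k E L ≤ -2 := Int.le_sub_one_of_lt hLE
  have h0 := (Groth.Agent.NumSurf32.finrank_h0_tensor_pow k hdim hE1 hEE hL 2 (by omega)).1
  have hP := Groth.Agent.NumSurf32.isEffCartierIdeal_pow k hdim hE1 2
  have hP2 := Groth.Agent.SurfInt.isInvertible_idealMod hP
  obtain ⟨e⟩ := Groth.Agent.SurfInt.nonempty_idealMod_mul hE hE
  have hpair : Groth.Agent.SurfInt.pair k (ClSub.idealMod (E ^ 2))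
      ((Scheme.Modules.pullback σ).obj (Twist.twistProjSpace 2 k 1)) =
      -2 * Groth.Agent.SurfInt.curveDeg k E ((Scheme.Modules.pullback σ).obj (Twist.twistProjSpace 2 k 1)) := by
    rw [Groth.Agent.SurfInt.pair_congr k (eqToIso (congrArg ClSub.idealMod (pow_two E)) ≪≫ e) (Iso.refl _),
      Groth.Agent.SurfInt.pair_tensor_left k h2 hEI hEI hH, Groth.Agent.SurfInt.pair_ideal_left k E hH]
    ring
  haveI := Groth.Agent.NumSurf32.subsingleton_h0_of_pair_twist_neg k hdim σ
    (Groth.Agent.InvX.isInvertible_tensorMod hL hP2) (by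
      rw [Groth.Agent.SurfInt.pair_tensor_left k h2 hL hP2 hH, hpair]
      unfold Groth.Agent.SurfInt.curveDeg
      omega)
  haveI := Groth.Agent.CurveCohLib.finite_HH (k := k) (Groth.Agent.AmpleVan.isCoh_invertible hL) 0
  rw [Module.finrank_zero_of_subsingleton] at h0
  exact Module.finrank_zero_iff.1 h0.symm

end Groth.Agent.S16562
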