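import Groth.Statements.S16573
import Groth.Agent.EtCore73.AicResidue

set_option autoImplicit false
set_option backward.isDefEq.respectTransparency false
set_option backward.isDefEq.respectTransparency.types false
universe u
open CategoryTheory AlgebraicGeometry
open EtCore

namespace Groth.Agent.S16573

/-- For a quasi-compact quasi-separated scheme X there are an affine scheme X' and a quasi-compact
surjective morphism f : X' → X such that for every point x' of X' the residue field of x' is
algebraically closed and integral over the residue field of f(x') under the induced map of residue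
fields, that is, an algebraic closure of it. -/
theorem result
    (X : Scheme.{u}) [CompactSpace X] [QuasiSeparatedSpace X] :
    ∃ (X' : Scheme.{u}) (f : X' ⟶ X), IsAffine X' ∧ QuasiCompact f ∧ Surjective f ∧
      ∀ x' : X', IsAlgClosed (X'.residueField x') ∧ (f.residueFieldMap x').hom.IsIntegral := by
  let 𝒰 := X.affineCover.finiteSubcover
  haveI : ∀ i, IsAffine (𝒰.X i) := fun i => inferInstanceAs (IsAffine (X.affineCover.X _))
  let X'' : Scheme.{u} := ∐ fun i => 𝒰.X i
  let g : X'' ⟶ X := Limits.Sigma.desc fun i => 𝒰.f i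
  haveI : Finite 𝒰.I₀ := inferInstance
  haveI : IsAffine X'' := inferInstance
  haveI : Surjective g := ⟨fun x => by
    obtain ⟨i, u, hu⟩ := 𝒰.exists_eq x
    refine ⟨(Limits.Sigma.ι (fun i => 𝒰.X i) i).base u, ?_⟩
    rw [← Scheme.Hom.comp_apply, Limits.Sigma.ι_desc]
    exact hu⟩
  haveI : ∀ y : X'', IsIso (g.residueFieldMap y) := fun y => by
    obtain ⟨i, u, rfl⟩ := (sigmaOpenCover fun i => 𝒰.X i).exists_eq y
    have hι : Limits.Sigma.ι (fun i => 𝒰.X i) i ≫ g = 𝒰.f i := Limits.Sigma.ι_desc _ _
    haveI : IsOpenImmersion (Limits.Sigma.ι (fun i => 𝒰.X i) i ≫ g) := by rw [hι]; infer_instance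
    have h := AlgebraicGeometry.Scheme.residueFieldMap_comp (Limits.Sigma.ι (fun i => 𝒰.X i) i) g u
    have h2 : IsIso ((Limits.Sigma.ι (fun i => 𝒰.X i) i ≫ g).residueFieldMap u) := inferInstance
    rw [h] at h2
    haveI := h2
    show IsIso (g.residueFieldMap ((Limits.Sigma.ι (fun i => 𝒰.X i) i) u))
    exact @IsIso.of_isIso_comp_right _ _ _ _ _ _ ((Limits.Sigma.ι (fun i => 𝒰.X i) i).residueFieldMap u) inferInstance h2
  refine ⟨Groth.Agent.FlatFibres.aicScheme X'', Groth.Agent.FlatFibres.aicHom X'' ≫ g,
    isAffine_of_isAffineHom (Groth.Agent.FlatFibres.aicHom X''), ?_, inferInstance, fun x' => ⟨?_, ?_⟩⟩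
  · haveI : QuasiCompact g := QuasiCompact.of_comp g (Limits.terminal.from X)
    infer_instance
  · exact Groth.Agent.EtCore73.isAlgClosed_residueField_of_splitsAll
      (Groth.Agent.FlatFibres.stalk_aicScheme x').2
  · rw [AlgebraicGeometry.Scheme.residueFieldMap_comp, CommRingCat.hom_comp]
    exact RingHom.IsIntegral.trans _ _
      (RingHom.isIntegral_of_surjective _ ((ConcreteCategory.isIso_iff_bijective _).1 inferInstance).2)
      (Groth.Agent.EtCore73.isIntegral_residueFieldMap _ x')

end Groth.Agent.S16573
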