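import Groth.Agent.FlatLoc6.Cpl
import Groth.Agent.CompleteNagata.Complete
import Groth.Agent.VarDim.Basic
import Groth.Agent.Hensel.IntegralStrict
import Groth.Agent.S14359
import Groth.Statements.S16576
-- import your own Groth.Agent.* helpers here

set_option autoImplicit false
universe u
open CAlg

namespace Groth.Agent.S16576


open IsLocalRing TensorProduct RingTheory.Sequence
open scoped Pointwise

set_option linter.style.haveILetI false
set_option maxHeartbeats 1600000

/-- A module with a regular sequence of length two has no associated prime of dimension below two. -/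
theorem two_le_dim_quotient_of_mem_associatedPrimes {R D : Type u} [CommRing R] [IsLocalRing R]
    [IsNoetherianRing R] [AddCommGroup D] [Module R D] [Module.Finite R D] {x y : R}
    (hx : x ∈ maximalIdeal R) (hy : y ∈ maximalIdeal R) (hreg : IsWeaklyRegular D [x, y])
    {P : Ideal R} (hP : P ∈ associatedPrimes R D) : (2 : WithBot ℕ∞) ≤ ringKrullDim (R ⧸ P) := by
  obtain ⟨hPp, z₀, hz₀⟩ := isAssociatedPrime_iff.mp hP
  obtain ⟨hxreg, hyreg⟩ := (isWeaklyRegular_cons_iff D x [y]).mp hreg
  obtain ⟨hyreg, -⟩ := (isWeaklyRegular_cons_iff _ y []).mp hyreg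
  have hPz₀ : ∀ a, a ∈ P ↔ a • z₀ = 0 := fun a => by
    rw [hz₀, Submodule.mem_colon_singleton, Submodule.mem_bot]
  have hz₀0 : z₀ ≠ 0 := fun h => hPp.ne_top (eq_top_iff.mpr fun a _ => by
    rw [hPz₀, h, smul_zero])
  have hxP : x ∉ P := fun h => hz₀0 (hxreg (((hPz₀ x).mp h).trans (smul_zero x).symm))
  -- a section killed by `P` outside `x D`
  let T : Submodule R D := Submodule.torsionBySet R D (P : Set R)
  have hmemT : ∀ w, w ∈ T ↔ ∀ a ∈ P, a • w = 0 := fun w => by
    simp only [T, Submodule.mem_torsionBySet_iff, Subtype.forall, SetLike.mem_coe]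
  obtain ⟨z, hzT, hz⟩ : ∃ z ∈ T, z ∉ x • (⊤ : Submodule R D) := by
    by_contra hcon
    push Not at hcon
    have hle : T ≤ Ideal.span {x} • T := by
      intro w hw
      obtain ⟨v, -, rfl⟩ := (Submodule.mem_smul_pointwise_iff_exists w x ⊤).mp (hcon w hw)
      refine Submodule.smul_mem_smul (Ideal.mem_span_singleton_self x) ((hmemT v).mpr fun a ha => ?_)
      refine hxreg ?_
      show x • a • v = x • (0 : D)
      rw [smul_comm, (hmemT _).mp hw a ha, smul_zero]
    have hbot := Submodule.eq_bot_of_le_smul_of_le_jacobson_bot _ T (IsNoetherian.noetherian T) hle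
      (((Ideal.span_singleton_le_iff_mem _).mpr hx).trans (maximalIdeal_le_jacobson _))
    exact hz₀0 ((Submodule.eq_bot_iff _).mp hbot z₀ ((hmemT z₀).mpr fun a ha => (hPz₀ a).mp ha))
  let zb : QuotSMulTop x D := Submodule.Quotient.mk z
  have hzb : zb ≠ 0 := fun h => hz ((Submodule.Quotient.mk_eq_zero _).mp h)
  obtain ⟨P', hP', hle⟩ := exists_le_isAssociatedPrime_of_isNoetherianRing R zb hzb
  have hP'p : P'.IsPrime := hP'.isPrime
  have hPP' : P ≤ P' := fun a ha => hle (by
    rw [Submodule.mem_colon_singleton, Submodule.mem_bot]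
    show Submodule.Quotient.mk (a • z) = 0
    rw [(hmemT z).mp hzT a ha]
    rfl)
  have hxP' : x ∈ P' := hle (by
    rw [Submodule.mem_colon_singleton, Submodule.mem_bot]
    exact (Submodule.Quotient.mk_eq_zero _).mpr
      ((Submodule.mem_smul_pointwise_iff_exists _ x ⊤).mpr ⟨z, trivial, rfl⟩))
  have hyP' : y ∉ P' := by
    obtain ⟨hp, w, hw⟩ := isAssociatedPrime_iff.mp hP'
    intro hmem
    rw [hw, Submodule.mem_colon_singleton, Submodule.mem_bot] at hmem
    exact hp.ne_top (eq_top_iff.mpr fun a _ => by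
      rw [hw, Submodule.mem_colon_singleton, Submodule.mem_bot,
        hyreg (hmem.trans (smul_zero y).symm), smul_zero])
  -- the chain `P < P' < m`
  have hπ : Function.Surjective (Ideal.Quotient.mk P) := Ideal.Quotient.mk_surjective
  let pt : ∀ (Q : Ideal R), Q.IsPrime → P ≤ Q → PrimeSpectrum (R ⧸ P) := fun Q hQ h =>
    ⟨Q.map (Ideal.Quotient.mk P), Ideal.map_isPrime_of_surjective hπ (by rwa [Ideal.mk_ker])⟩
  have hlt : ∀ (Q Q' : Ideal R) (hQ : Q.IsPrime) (hQ' : Q'.IsPrime) (h : P ≤ Q) (h' : P ≤ Q'),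
      Q < Q' → pt Q hQ h < pt Q' hQ' h' := by
    intro Q Q' hQ hQ' h h' hlt
    refine lt_of_le_of_ne (Ideal.map_mono hlt.le) fun he => hlt.ne ?_
    have h2 := congrArg (fun p : PrimeSpectrum (R ⧸ P) => p.asIdeal.comap (Ideal.Quotient.mk P)) he
    simp only [pt, Ideal.comap_map_of_surjective _ hπ, ← RingHom.ker_eq_comap_bot, Ideal.mk_ker,
      sup_eq_left.mpr h, sup_eq_left.mpr h'] at h2
    exact h2
  have h12 : P < P' := lt_of_le_of_ne hPP' fun h => hxP (h ▸ hxP')
  have h23 : P' < maximalIdeal R :=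
    lt_of_le_of_ne (le_maximalIdeal hP'p.ne_top) fun h => hyP' (h ▸ hy)
  have hm : P ≤ maximalIdeal R := (h12.trans h23).le
  let s : LTSeries (PrimeSpectrum (R ⧸ P)) :=
    LTSeries.mk 2 ![pt P hPp le_rfl, pt P' hP'p hPP',
      pt _ (maximalIdeal.isMaximal R).isPrime hm] (Fin.strictMono_iff_lt_succ.mpr fun i => by
        fin_cases i
        · exact hlt P P' hPp hP'p le_rfl hPP' h12
        · exact hlt P' _ hP'p (maximalIdeal.isMaximal R).isPrime hPP' hm h23)
  refine le_trans ?_ (Order.LTSeries.length_le_krullDim s)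
  exact le_of_eq rfl

/-- A regular sequence of length two coming from the base in a normal local domain integral over it. -/
theorem exists_isWeaklyRegular_pair (Ac A1 : Type u) [CommRing Ac] [IsLocalRing Ac] [CommRing A1]
    [IsDomain A1] [IsLocalRing A1] [IsNoetherianRing A1] [IsIntegrallyClosed A1] [Algebra Ac A1]
    [Algebra.IsIntegral Ac A1] (hdim1 : (2 : WithBot ℕ∞) ≤ ringKrullDim A1) (x : Ac)
    (hx1 : algebraMap Ac A1 x ≠ 0) :
    ∃ y ∈ maximalIdeal Ac, IsWeaklyRegular A1 [x, y] := by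
  classical
  let mC := maximalIdeal Ac
  let Z := A1 ⧸ Ideal.span {algebraMap Ac A1 x}
  have hfin : (associatedPrimes A1 Z).Finite := associatedPrimes.finite A1 Z
  obtain ⟨y, hym, hy⟩ : ∃ y ∈ mC, ∀ P ∈ associatedPrimes A1 Z, algebraMap Ac A1 y ∉ P := by
    by_contra h
    push Not at h
    have hsub : (mC : Set Ac) ⊆ ⋃ P ∈ associatedPrimes A1 Z, (P.comap (algebraMap Ac A1) : Set Ac) := by
      intro y hy
      obtain ⟨P, hP, hyP⟩ := h y hy
      exact Set.mem_biUnion hP hyP
    obtain ⟨P, hP, hle⟩ := (mC.subset_union_prime_finite hfin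
      (f := fun P : Ideal A1 => P.comap (algebraMap Ac A1)) 0 0
      fun P hP _ _ => Ideal.IsPrime.comap _ (hK := hP.1)).mp hsub
    haveI := hP.1
    have hh := S14359.result A1 _ hx1 P hP
    have hmax : (P.comap (algebraMap Ac A1)).IsMaximal :=
      (IsLocalRing.maximalIdeal.isMaximal Ac).eq_of_le (Ideal.IsPrime.ne_top (Ideal.IsPrime.comap _)) hle ▸
        IsLocalRing.maximalIdeal.isMaximal Ac
    have hPmax : P.IsMaximal := Ideal.isMaximal_of_isIntegral_of_isMaximal_comap P hmax
    rw [IsLocalRing.eq_maximalIdeal hPmax] at hh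
    have h1 := IsLocalRing.maximalIdeal_height_eq_ringKrullDim (R := A1)
    rw [hh] at h1
    rw [← h1] at hdim1
    exact absurd hdim1 (by decide)
  refine ⟨y, hym, ?_⟩
  have hreg : IsWeaklyRegular A1 [x, y] := by
    rw [isWeaklyRegular_cons_iff, isWeaklyRegular_cons_iff]
    refine ⟨fun a b h => ?_, ?_, IsWeaklyRegular.nil _ _⟩
    · simp only [Algebra.smul_def] at h
      exact mul_left_cancel₀ hx1 h
    · rintro ⟨a⟩ ⟨b⟩ h
      obtain ⟨c, -, hc⟩ := (Submodule.mem_smul_pointwise_iff_exists _ x ⊤).mp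
        ((Submodule.Quotient.eq _).mp h)
      refine (Submodule.Quotient.eq _).mpr ((Submodule.mem_smul_pointwise_iff_exists _ x ⊤).mpr ?_)
      have hd : algebraMap Ac A1 y * (a - b) = algebraMap Ac A1 x * c := by
        rw [← Algebra.smul_def, ← Algebra.smul_def, smul_sub, hc]
      have h0 : (Ideal.Quotient.mk (Ideal.span {algebraMap Ac A1 x}) (a - b) : Z) = 0 := by
        by_contra h0
        obtain ⟨P, hP, hle⟩ := exists_le_isAssociatedPrime_of_isNoetherianRing A1
          (Ideal.Quotient.mk (Ideal.span {algebraMap Ac A1 x}) (a - b) : Z) h0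
        refine hy P hP (hle ?_)
        rw [Submodule.mem_colon_singleton, Submodule.mem_bot]
        show Ideal.Quotient.mk _ (algebraMap Ac A1 y * (a - b)) = 0
        rw [hd]
        exact Ideal.Quotient.eq_zero_iff_mem.mpr (Ideal.mem_span_singleton.mpr ⟨c, rfl⟩)
      obtain ⟨e, he⟩ := Ideal.mem_span_singleton.mp (Ideal.Quotient.eq_zero_iff_mem.mp h0)
      exact ⟨e, trivial, by rw [Algebra.smul_def, he]⟩
  exact hreg

/-- Let A → B be a flat local homomorphism of Noetherian local rings and let Â, B̂ be their completions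
at the maximal ideals. If every irreducible component of Spec Â has dimension at least 2, then every
irreducible component of Spec B̂ has dimension at least 2. (This is the c_2 condition in its
completed form; globally: the preimage of a c_2 closed subset under a flat morphism of Noetherian
schemes is c_2, in particular the condition is invariant under Zariski and étale localization.) -/
theorem result
    (A B : Type u) [CommRing A] [CommRing B] [IsNoetherianRing A] [IsNoetherianRing B]
    [IsLocalRing A] [IsLocalRing B] (f : A →+* B) [IsLocalHom f] (hf : f.Flat)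
    (hA : ∀ q ∈ minimalPrimes (AdicCompletion (IsLocalRing.maximalIdeal A) A), (2 : WithBot ℕ∞) ≤ ringKrullDim (AdicCompletion (IsLocalRing.maximalIdeal A) A ⧸ q)) :
    ∀ q ∈ minimalPrimes (AdicCompletion (IsLocalRing.maximalIdeal B) B), (2 : WithBot ℕ∞) ≤ ringKrullDim (AdicCompletion (IsLocalRing.maximalIdeal B) B ⧸ q) := by
  classical
  letI : Algebra A B := f.toAlgebra
  haveI : IsLocalHom (algebraMap A B) := ‹IsLocalHom f›
  haveI : Module.Flat A B := hf
  obtain ⟨alg, _, _⟩ := FlatLoc6.exists_cplHom A B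
  letI := alg
  let Ac := AdicCompletion (IsLocalRing.maximalIdeal A) A
  let Bc := AdicCompletion (IsLocalRing.maximalIdeal B) B
  haveI : IsLocalRing Ac := FlatLoc6.isLocalRing_cpl A
  haveI : IsLocalRing Bc := FlatLoc6.isLocalRing_cpl B
  haveI : IsNoetherianRing Ac := FlatLoc6.isNoetherianRing_cpl A
  haveI : IsNoetherianRing Bc := FlatLoc6.isNoetherianRing_cpl B
  haveI : Module.FaithfullyFlat Ac Bc := ‹_›
  intro Q hQ
  haveI hQp : Q.IsPrime := hQ.1.1
  let q : Ideal Ac := Q.comap (algebraMap Ac Bc)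
  haveI hqp : q.IsPrime := Ideal.IsPrime.comap _
  have hqmin : q ∈ minimalPrimes Ac := by
    refine ⟨⟨hqp, bot_le⟩, fun p ⟨hp, _⟩ hpq => ?_⟩
    haveI := hp
    haveI : Q.LiesOver q := ⟨rfl⟩
    obtain ⟨P, hPQ, hPp, hPp'⟩ := Ideal.exists_ideal_le_liesOver_of_le (S := Bc) Q hpq
    rw [hPp'.over, show P = Q from le_antisymm hPQ (hQ.2 ⟨hPp, bot_le⟩ hPQ)]
  have hdimq := hA q hqmin
  let A0 := Ac ⧸ q
  haveI : IsLocalRing A0 := IsLocalRing.of_surjective' (Ideal.Quotient.mk q) Ideal.Quotient.mk_surjective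
  haveI : IsAdicComplete (IsLocalRing.maximalIdeal Ac) Ac := by
    rw [AdicCompletion.maximalIdeal_eq_map_of_fg (IsNoetherian.noetherian _)]
    exact AdicCompletion.isAdicComplete_self _ (IsNoetherian.noetherian _)
  haveI : IsAdicComplete (IsLocalRing.maximalIdeal A0) A0 := by
    haveI : IsAdicComplete (IsLocalRing.maximalIdeal Ac) A0 := Adic7.isAdicComplete_of_finite _ _
    rw [← IsLocalRing.map_maximalIdeal_of_surjective (algebraMap Ac A0) Ideal.Quotient.mk_surjective]
    exact (IsAdicComplete.map_algebraMap_iff (S := A0) (IsLocalRing.maximalIdeal Ac) A0).mpr ‹_›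
  haveI : HenselianLocalRing A0 :=
    { is_henselian := fun g hg a₀ h₁ h₂ =>
        HenselianRing.is_henselian (I := IsLocalRing.maximalIdeal A0) g hg a₀ h₁ (h₂.map _) }
  let A1 := integralClosure A0 (FractionRing A0)
  haveI : Module.Finite A0 A1 :=
    CompleteNagata.isN2_of_complete A0 (FractionRing A0) inferInstance
  haveI : IsIntegrallyClosed A1 :=
    integralClosure.isIntegrallyClosedOfFiniteExtension (FractionRing A0)
  haveI : IsLocalRing A1 := Hensel.isLocalRing_of_isIntegral_domain A0 A1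
  haveI : IsNoetherianRing A1 := IsNoetherianRing.of_finite A0 A1
  haveI : FaithfulSMul A0 A1 := (faithfulSMul_iff_algebraMap_injective A0 A1).mpr
    fun a b h => IsFractionRing.injective A0 (FractionRing A0) (congrArg Subtype.val h)
  have hdim1 : (2 : WithBot ℕ∞) ≤ ringKrullDim A1 := by
    rw [VarDim.ringKrullDim_eq_of_isIntegral (R := A0)]
    exact hdimq
  haveI : Module.Finite Ac A1 := Module.Finite.trans A0 A1
  let mC := IsLocalRing.maximalIdeal Ac
  -- choose a regular sequence
  obtain ⟨x, hxm, hxq⟩ : ∃ x ∈ mC, x ∉ q := by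
    by_contra h
    push Not at h
    haveI : q.IsMaximal := (IsLocalRing.maximalIdeal.isMaximal Ac).eq_of_le hqp.ne_top h ▸
      IsLocalRing.maximalIdeal.isMaximal Ac
    letI := Ideal.Quotient.field q
    rw [ringKrullDim_eq_zero_of_field (Ac ⧸ q)] at hdimq
    exact absurd hdimq (by decide)
  have hx1 : algebraMap Ac A1 x ≠ 0 := by
    rw [IsScalarTower.algebraMap_apply Ac A0 A1]
    exact fun h => hxq (Ideal.Quotient.eq_zero_iff_mem.mp
      ((map_eq_zero_iff _ (FaithfulSMul.algebraMap_injective A0 A1)).mp h))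
  obtain ⟨y, hym, hreg⟩ := exists_isWeaklyRegular_pair Ac A1 hdim1 x hx1
  let D := Bc ⊗[Ac] A1
  have hregD : IsWeaklyRegular D [algebraMap Ac Bc x, algebraMap Ac Bc y] :=
    hreg.of_flat_of_isBaseChange (TensorProduct.isBaseChange Ac A1 Bc)
  -- `Q` is associated to `D`
  let ι : A0 →ₗ[Ac] A1 := (IsScalarTower.toAlgHom Ac A0 A1).toLinearMap
  have hι : Function.Injective ι := FaithfulSMul.algebraMap_injective A0 A1
  let ι' : Bc ⊗[Ac] A0 →ₗ[Bc] D := ι.baseChange Bc
  have hι' : Function.Injective ι' := Module.Flat.lTensor_preserves_injective_linearMap ι hι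
  have hann : q.map (algebraMap Ac Bc) ≤ Q := Ideal.map_comap_le
  have hQ0 : Q ∈ associatedPrimes Bc (Bc ⊗[Ac] A0) := by
    let e : (Bc ⊗[Ac] A0) ≃ₗ[Bc] Bc ⧸ q.map (algebraMap Ac Bc) :=
      ((Algebra.TensorProduct.quotIdealMapEquivTensorQuot Bc q).symm).toLinearEquiv
    rw [LinearEquiv.AssociatedPrimes.eq e]
    refine Module.associatedPrimes.minimalPrimes_annihilator_subset_associatedPrimes Bc _ ?_
    rw [Ideal.annihilator_quotient]
    exact ⟨⟨hQp, hann⟩, fun p hp hpQ => hQ.2 ⟨hp.1, bot_le⟩ hpQ⟩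
  have hQD : Q ∈ associatedPrimes Bc D := associatedPrimes.subset_of_injective hι' hQ0
  have hmap : ∀ a ∈ mC, algebraMap Ac Bc a ∈ IsLocalRing.maximalIdeal Bc := fun a ha => by
    by_contra h
    have hu : (Ideal.span {a}).map (algebraMap Ac Bc) = ⊤ := by
      rw [Ideal.map_span, Set.image_singleton, Ideal.span_singleton_eq_top]
      exact IsLocalRing.notMem_maximalIdeal.mp h
    have h2 := Ideal.comap_map_eq_self_of_faithfullyFlat (B := Bc) (Ideal.span {a})
    rw [hu, Ideal.comap_top, eq_comm, Ideal.span_singleton_eq_top] at h2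
    exact ha h2
  exact two_le_dim_quotient_of_mem_associatedPrimes (hmap x hxm) (hmap y hym) hregD hQD

end Groth.Agent.S16576
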