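import Mathlib
import Groth.Agent.CompDim.Global
import Groth.Agent.BrnchLib.Compl
import Groth.Agent.S16576
import Groth.Agent.Hensel.HenselizationProps
import Groth.Agent.Hensel.HenselizationDescent
import Groth.Statements.S16575
-- import your own Groth.Agent.* helpers here

set_option autoImplicit false
set_option linter.style.haveILetI false
universe u
open CAlg

namespace Groth.Agent.S16575

/-- Let A be a Noetherian local ring, S a henselization of A, S' a strict henselization of A, A' the
integral closure of the reduction of A in its total ring of fractions, and Â the completion of A at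
its maximal ideal. The following are equivalent: (i) for every maximal ideal m' of A' the local ring
of A' at m' has Krull dimension at least 2; (ii) every irreducible component of Spec S has dimension
at least 2; (ii bis) every irreducible component of Spec S' has dimension at least 2; (iii) every
irreducible component of Spec Â has dimension at least 2. (A closed subscheme Z of a Noetherian
scheme X is called c_2 when these hold at the local ring of every point of Z; condition (i) at all
points of Z says that the preimage of Z in the normalization has codimension at least 2.) -/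
theorem result
    (A : Type u) [CommRing A] [IsNoetherianRing A] [IsLocalRing A]
    (S : Type u) [CommRing S] [IsLocalRing S] [Algebra A S] [IsLocalHom (algebraMap A S)]
    [Hensel.IsHenselization A S]
    (S' : Type u) [CommRing S'] [IsLocalRing S'] [Algebra A S'] [IsLocalHom (algebraMap A S')]
    [Hensel.IsStrictHenselization A S'] :
    List.TFAE [
      ∀ m' : MaximalSpectrum (CAlg2.normRed A), (2 : WithBot ℕ∞) ≤ ringKrullDim (Localization.AtPrime m'.asIdeal),
      ∀ p ∈ minimalPrimes S, (2 : WithBot ℕ∞) ≤ ringKrullDim (S ⧸ p),
      ∀ p ∈ minimalPrimes S', (2 : WithBot ℕ∞) ≤ ringKrullDim (S' ⧸ p),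
      ∀ q ∈ minimalPrimes (AdicCompletion (IsLocalRing.maximalIdeal A) A), (2 : WithBot ℕ∞) ≤ ringKrullDim (AdicCompletion (IsLocalRing.maximalIdeal A) A ⧸ q)] := by
  classical
  have hHS := Groth.Agent.Hensel.isHenzLike_of_isHenselization A S
  have hHS' := Groth.Agent.Hensel.isHenzLike_of_isStrictHenselization (R := A) (S := S')
  haveI : HenselianLocalRing S := Hensel.IsHenselization.henselian (R := A)
  haveI : HenselianLocalRing S' := Hensel.IsStrictHenselization.henselian (R := A)
  haveI : IsNoetherianRing S := hHS.isNoetherianRing_iff.1 inferInstance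
  haveI : IsNoetherianRing S' := hHS'.isNoetherianRing_iff.1 inferInstance
  haveI : IsLocalRing (EGA4.Cpl A) := Groth.Agent.FlatLoc6.isLocalRing_cpl A
  haveI : IsLocalRing (EGA4.Cpl S') := Groth.Agent.FlatLoc6.isLocalRing_cpl S'
  haveI : Module.FaithfullyFlat A S' := hHS'.faithfullyFlat
  have hi := Groth.Agent.CompDim.forall_two_le_normRed_iff A
  have hii := Groth.Agent.CompDim.forall_two_le_iff S
  have hiib := Groth.Agent.CompDim.forall_two_le_iff S'
  have hiii := Groth.Agent.CompDim.forall_two_le_iff (EGA4.Cpl A)
  have h13 := Groth.Agent.CompDim.small_cpl_iff A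
  have h2 : Groth.Agent.CompDim.Small S ↔ Groth.Agent.CompDim.Small (EGA4.Cpl A) := by
    rw [← Groth.Agent.CompDim.normSmall_iff_small S, ← Groth.Agent.CompDim.small_cpl_iff S]
    exact ⟨fun h => h.of_equiv (Groth.Agent.BrnchLib.complEquiv A S),
      fun h => h.of_equiv (Groth.Agent.BrnchLib.complEquiv A S).symm⟩
  have h2' : Groth.Agent.CompDim.Small S' ↔ Groth.Agent.CompDim.Small (EGA4.Cpl A) := by
    rw [← Groth.Agent.CompDim.normSmall_iff_small S', ← Groth.Agent.CompDim.small_cpl_iff S']
    constructor
    · intro h
      by_contra hA
      exact (Groth.Agent.CompDim.forall_two_le_iff (EGA4.Cpl S')).1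
        (Groth.Agent.S16576.result A S' (algebraMap A S') (RingHom.flat_algebraMap_iff.2 inferInstance)
          (hiii.2 hA)) h
    · exact Groth.Agent.CompDim.small_cpl_of_small A S'
        (Groth.Agent.Hensel.map_maximalIdeal_of_isStrictHenselization (R := A) (S := S'))
  tfae_have 1 ↔ 4 := hi.trans ((not_congr h13.symm).trans hiii.symm)
  tfae_have 2 ↔ 4 := hii.trans ((not_congr h2).trans hiii.symm)
  tfae_have 3 ↔ 4 := hiib.trans ((not_congr h2').trans hiii.symm)
  tfae_finish

end Groth.Agent.S16575
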