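import Groth.Statements.S16612
import Groth.Agent.SgaFix20.SplitRank

set_option autoImplicit false
open CategoryTheory MonoidalCategory CartesianMonoidalCategory MonObj GrpObj AlgebraicGeometry
universe u
open SGA3x

namespace Groth.Agent.S16612

/-- Let S be a connected scheme and G an S-group of finite multiplicative type. Then G admits a unique
maximal split subtorus; equivalently, since split subtori form a directed family, a greatest one: a
monomorphism T ⟶ G from a split torus T ≅ D_S(ℤ^r) through which every split subtorus T' ⟶ G of G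
factors. -/
theorem result {S : Scheme.{u}} [ConnectedSpace ↥S]
    {G : Over S} [GrpObj G] (hG : SGA3x.IsMultTypeFT G) :
    ∃ (T : Over S) (_ : GrpObj T) (j : T ⟶ G) (r : ℕ), IsMonHom j ∧ Mono j ∧ Red.IsSplitTorusWith (Fin r → ℤ) T ∧
      ∀ (T' : Over S) [GrpObj T'] (j' : T' ⟶ G) [IsMonHom j'] [Mono j'] (r' : ℕ),
        Red.IsSplitTorusWith (Fin r' → ℤ) T' → ∃ g : T' ⟶ T, g ≫ j = j' := by
  classical
  let P : ℕ → Prop := fun r => ∃ (T : Over S) (_ : GrpObj T) (j : T ⟶ G),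
    IsMonHom j ∧ Mono j ∧ Red.IsSplitTorusWith (Fin r → ℤ) T
  obtain ⟨v₀, hv₀, hm₀⟩ := SgaFix20.exists_rank_zero G
  obtain ⟨N, hN⟩ := SgaFix20.exists_rank_bound hG
  obtain ⟨r, ⟨T, iT, j, hj, hm, hT⟩, hmax⟩ := SgaFix20.exists_fun_max (P := P) N
    (fun r ⟨T, _, j, hj, hm, hT⟩ => by
      haveI := hj; haveI := hm
      exact hN T j r (SgaFix20.hasRank_of_split hT))
    ⟨_, inferInstance, v₀, hv₀, hm₀, ⟨Iso.refl _⟩⟩
  refine ⟨T, iT, j, r, hj, hm, hT, fun T' _ j' _ _ r' hT' => ?_⟩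
  obtain ⟨E, iE, j₃, g₁, g₂, r₃, hj₃, hm₃, hE, e₁, e₂⟩ := SgaFix20.exists_sum_split hG j j' hT hT'
  haveI := hj; haveI := hm; haveI := hj₃; haveI := hm₃
  haveI : IsMonHom g₁ := SgaFix20.isMonHom_of_comp_mono e₁
  haveI : Mono g₁ := mono_of_mono_fac e₁
  have hle : r ≤ r₃ := (SgaFix20.hasRank_of_split hT).le (SgaFix20.hasRank_of_split hE) g₁
  obtain rfl : r₃ = r := le_antisymm (hmax r₃ ⟨E, iE, j₃, hj₃, hm₃, hE⟩) hle
  haveI := (SgaFix20.hasRank_of_split hT).isIso (SgaFix20.hasRank_of_split hE) g₁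
  exact ⟨g₂ ≫ inv g₁, by rw [Category.assoc, ← e₁, IsIso.inv_hom_id_assoc, e₂]⟩

end Groth.Agent.S16612
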