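import Groth.Statements.S16613
import Groth.Agent.SgaFix20.SplitRank

set_option autoImplicit false
open CategoryTheory MonoidalCategory CartesianMonoidalCategory MonObj GrpObj AlgebraicGeometry
universe u
open SGA3x

namespace Groth.Agent.S16613

/-- Let S be a connected scheme and G an S-group of finite multiplicative type. Then G admits a unique
maximal locally split subtorus (a monomorphism T ⟶ G with T Zariski-locally on S isomorphic to split
tori D(ℤ^r)); since locally split subtori form a directed family it is the greatest one: every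
locally split subtorus of G factors through it. -/
theorem result {S : Scheme.{u}}
    [ConnectedSpace ↥S] {G : Over S} [GrpObj G] (hG : SGA3x.IsMultTypeFT G) :
    ∃ (T : Over S) (_ : GrpObj T) (j : T ⟶ G), IsMonHom j ∧ Mono j ∧
      (∀ s : ↥S, ∃ U : S.Opens, s ∈ U ∧ ∃ r : ℕ, Red.IsSplitTorusWith (Fin r → ℤ) (Red.bc U.ι T)) ∧
      ∀ (T' : Over S) [GrpObj T'] (j' : T' ⟶ G) [IsMonHom j'] [Mono j'],
        (∀ s : ↥S, ∃ U : S.Opens, s ∈ U ∧ ∃ r : ℕ, Red.IsSplitTorusWith (Fin r → ℤ) (Red.bc U.ι T')) → ∃ g : T' ⟶ T, g ≫ j = j' := by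
  classical
  let P : ℕ → Prop := fun r => ∃ (T : Over S) (_ : GrpObj T) (j : T ⟶ G),
    IsMonHom j ∧ Mono j ∧ SgaFix20.HasRank T r
  obtain ⟨v₀, hv₀, hm₀⟩ := SgaFix20.exists_rank_zero G
  obtain ⟨N, hN⟩ := SgaFix20.exists_rank_bound hG
  obtain ⟨r, ⟨T, iT, j, hj, hm, hT⟩, hmax⟩ := SgaFix20.exists_fun_max (P := P) N
    (fun r ⟨T, _, j, hj, hm, hT⟩ => by
      haveI := hj; haveI := hm
      exact hN T j r hT)
    ⟨_, inferInstance, v₀, hv₀, hm₀, SgaFix20.hasRank_of_split ⟨Iso.refl _⟩⟩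
  refine ⟨T, iT, j, hj, hm, SgaFix20.locallySplit_of_hasRank hT, fun T' _ j' _ _ hT' => ?_⟩
  haveI := hj; haveI := hm
  obtain ⟨E, iE, j₃, g₁, g₂, hj₃, hm₃, hE, e₁, e₂⟩ :=
    SgaFix20.exists_sum hG j j' (SgaFix20.locallySplit_of_hasRank hT) hT'
  haveI := hj₃; haveI := hm₃
  haveI : IsMonHom g₁ := SgaFix20.isMonHom_of_comp_mono e₁
  haveI : Mono g₁ := mono_of_mono_fac e₁
  obtain ⟨r₃, hr₃⟩ := SgaFix20.exists_hasRank hE
  have hle : r ≤ r₃ := hT.le hr₃ g₁
  obtain rfl : r₃ = r := le_antisymm (hmax r₃ ⟨E, iE, j₃, hj₃, hm₃, hr₃⟩) hle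
  haveI := hT.isIso hr₃ g₁
  exact ⟨g₂ ≫ inv g₁, by rw [Category.assoc, ← e₁, IsIso.inv_hom_id_assoc, e₂]⟩

end Groth.Agent.S16613
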