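import Groth.Statements.S16614
import Groth.Agent.SgaFix20.SplitRank

set_option autoImplicit false
open CategoryTheory MonoidalCategory CartesianMonoidalCategory MonObj GrpObj AlgebraicGeometry
universe u
open SGA3x

namespace Groth.Agent.S16614

/-- Over an arbitrary scheme S, an S-group G of finite multiplicative type admits a maximal split
subtorus: a monomorphism T ⟶ G from a split torus T ≅ D_S(ℤ^r) which is maximal among split subtori
(if T factors through a split subtorus T' ⟶ G then the factoring morphism is an isomorphism). -/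
theorem result {S : Scheme.{u}} {G : Over S} [GrpObj G]
    (hG : SGA3x.IsMultTypeFT G) :
    ∃ (T : Over S) (_ : GrpObj T) (j : T ⟶ G) (r : ℕ), IsMonHom j ∧ Mono j ∧ Red.IsSplitTorusWith (Fin r → ℤ) T ∧
      ∀ (T' : Over S) [GrpObj T'] (j' : T' ⟶ G) [IsMonHom j'] [Mono j'] (r' : ℕ) (g : T ⟶ T'),
        Red.IsSplitTorusWith (Fin r' → ℤ) T' → g ≫ j' = j → IsIso g := by
  classical
  obtain ⟨v₀, hv₀, hm₀⟩ := SgaFix20.exists_rank_zero G
  by_cases hS : Nonempty ↥S
  · let P : ℕ → Prop := fun r => ∃ (T : Over S) (_ : GrpObj T) (j : T ⟶ G),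
      IsMonHom j ∧ Mono j ∧ Red.IsSplitTorusWith (Fin r → ℤ) T
    obtain ⟨N, hN⟩ := SgaFix20.exists_rank_bound hG
    obtain ⟨r, ⟨T, iT, j, hj, hm, hT⟩, hmax⟩ := SgaFix20.exists_fun_max (P := P) N
      (fun r ⟨T, _, j, hj, hm, hT⟩ => by
        haveI := hj; haveI := hm
        exact hN T j r (SgaFix20.hasRank_of_split hT))
      ⟨_, inferInstance, v₀, hv₀, hm₀, ⟨Iso.refl _⟩⟩
    refine ⟨T, iT, j, r, hj, hm, hT, fun T' iT' j' hj' hm' r' g hT' e => ?_⟩
    haveI := hj; haveI := hm
    haveI : IsMonHom g := SgaFix20.isMonHom_of_comp_mono e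
    haveI : Mono g := mono_of_mono_fac e
    have hle : r ≤ r' := (SgaFix20.hasRank_of_split hT).le (SgaFix20.hasRank_of_split hT') g
    obtain rfl : r' = r := le_antisymm (hmax r' ⟨T', iT', j', hj', hm', hT'⟩) hle
    exact (SgaFix20.hasRank_of_split hT).isIso (SgaFix20.hasRank_of_split hT') g
  · refine ⟨_, inferInstance, v₀, 0, hv₀, hm₀, ⟨Iso.refl _⟩, fun T' _ _ _ _ _ g _ _ => ?_⟩
    haveI : IsEmpty ↥S := not_nonempty_iff.mp hS
    haveI : IsEmpty ↥(T'.left) := Function.isEmpty T'.hom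
    haveI : IsIso ((Over.forget S).map g) := inferInstanceAs (IsIso g.left)
    exact isIso_of_reflects_iso g (Over.forget S)

end Groth.Agent.S16614
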