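import Groth.Statements.S16615
import Groth.Agent.SgaFix20.TorusQuot
import Groth.Agent.SgaFix20.SplitRank

set_option autoImplicit false
open CategoryTheory MonoidalCategory CartesianMonoidalCategory MonObj GrpObj AlgebraicGeometry
universe u
open SGA3x

namespace Groth.Agent.S16615

/-- Over an arbitrary scheme S, the quotient Q = T/H of an S-torus T by a subgroup scheme H of (finite)
multiplicative type, when represented by an S-group Q with a homomorphism q : T ⟶ Q which is an fppf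
covering identifying T ×_S H with T ×_Q T, is again a torus. -/
theorem result {S : Scheme.{u}} {T H Q : Over S} [GrpObj T] [GrpObj H]
    [GrpObj Q] (hT : Red.IsTorus T) (i : H ⟶ T) [IsMonHom i] [Mono i] (hH : SGA3x.IsMultTypeFT H)
    (q : T ⟶ Q) [IsMonHom q] (hq : RedSub.IsQuotient i q) : Red.IsTorus Q := by
  have hT' := GrpSchLib.RankOne.isMultTypeFT_of_isTorus hT
  obtain ⟨S', f, hflat, hsurj, hcov, hloc⟩ := hT
  refine ⟨S', f, hflat, hsurj, hcov, fun s' => ?_⟩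
  obtain ⟨U, hs, r, ⟨e⟩⟩ := hloc s'
  obtain ⟨V, hw, -, r', -, ⟨e'⟩⟩ := SgaFix20.TorusQuot.exists_piece hT' i hH q hq (U.ι ≫ f) e ⟨s', hs⟩
  let W : S'.Opens := U.ι ''ᵁ V
  let j : (W : Scheme.{u}) ≅ (V : Scheme.{u}) := (U.ι.isoImage V).symm
  have hj : W.ι ≫ f = j.hom ≫ V.ι ≫ U.ι ≫ f := by
    rw [← Category.assoc V.ι, ← Category.assoc j.hom]
    exact congrArg (· ≫ f) (U.ι.isoImage_inv_ι V).symm
  obtain ⟨a⟩ := GrpSchLib.MultTypeBC.bc_congr hj Q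
  obtain ⟨b⟩ := GrpSchLib.MultTypeBC.bc_bc j.hom (V.ι ≫ U.ι ≫ f) Q
  obtain ⟨c⟩ := GrpSchLib.MultTypeBC.bc_iso j.hom e'
  obtain ⟨d⟩ := GrpSchLib.MultTypeBC.bc_DS j.hom (Fin r' → ℤ)
  exact ⟨W, ⟨⟨s', hs⟩, hw, rfl⟩, r', ⟨a ≪≫ b.symm ≪≫ c ≪≫ d⟩⟩

end Groth.Agent.S16615
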