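import Groth.Statements.S16616
import Groth.Agent.SgaFix20.TorusQuot
import Groth.Agent.SgaFix20.SplitRank

set_option autoImplicit false
open CategoryTheory MonoidalCategory CartesianMonoidalCategory MonObj GrpObj AlgebraicGeometry
universe u
open SGA3x

namespace Groth.Agent.S16616

/-- Over an arbitrary scheme S, let T be a locally split S-torus (Zariski-locally on S isomorphic to
split tori), H a subgroup scheme of T of (finite) multiplicative type and q : T ⟶ Q a homomorphism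
presenting Q as the fppf quotient T/H. Then Q is a locally split torus. -/
theorem result {S : Scheme.{u}} {T H Q : Over S} [GrpObj T]
    [GrpObj H] [GrpObj Q] (hT : (∀ s : ↥S, ∃ U : S.Opens, s ∈ U ∧ ∃ r : ℕ, Red.IsSplitTorusWith (Fin r → ℤ) (Red.bc U.ι T)))
    (i : H ⟶ T) [IsMonHom i] [Mono i] (hH : SGA3x.IsMultTypeFT H) (q : T ⟶ Q) [IsMonHom q]
    (hq : RedSub.IsQuotient i q) :
    (∀ s : ↥S, ∃ U : S.Opens, s ∈ U ∧ ∃ r : ℕ, Red.IsSplitTorusWith (Fin r → ℤ) (Red.bc U.ι Q)) := by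
  have hT' := SgaFix20.isMultTypeFT_of_locallySplit hT
  intro s
  obtain ⟨U, hs, r, ⟨e⟩⟩ := hT s
  obtain ⟨V, hw, -, r', -, ⟨e'⟩⟩ := SgaFix20.TorusQuot.exists_piece hT' i hH q hq U.ι e ⟨s, hs⟩
  let W : S.Opens := U.ι ''ᵁ V
  let j : (W : Scheme.{u}) ≅ (V : Scheme.{u}) := (U.ι.isoImage V).symm
  obtain ⟨a⟩ := GrpSchLib.MultTypeBC.bc_congr (show W.ι = j.hom ≫ V.ι ≫ U.ι from (U.ι.isoImage_inv_ι V).symm) Q
  obtain ⟨b⟩ := GrpSchLib.MultTypeBC.bc_bc j.hom (V.ι ≫ U.ι) Q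
  obtain ⟨c⟩ := GrpSchLib.MultTypeBC.bc_iso j.hom e'
  obtain ⟨d⟩ := GrpSchLib.MultTypeBC.bc_DS j.hom (Fin r' → ℤ)
  exact ⟨W, ⟨⟨s, hs⟩, hw, rfl⟩, r', ⟨a ≪≫ b.symm ≪≫ c ≪≫ d⟩⟩

end Groth.Agent.S16616
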