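import Groth.Statements.S16617
import Groth.Agent.SgaFix20.TorusQuot
import Groth.Agent.SgaFix20.SplitRank

set_option autoImplicit false
open CategoryTheory MonoidalCategory CartesianMonoidalCategory MonObj GrpObj AlgebraicGeometry
universe u
open SGA3x

namespace Groth.Agent.S16617

/-- Let S be a connected scheme, T ≅ D_S(ℤ^r) a split S-torus, H a subgroup scheme of T of (finite)
multiplicative type and q : T ⟶ Q a homomorphism presenting Q as the fppf quotient T/H. Then Q is a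
split torus of rank at most r. -/
theorem result {S : Scheme.{u}} [ConnectedSpace ↥S]
    {T H Q : Over S} [GrpObj T] [GrpObj H] [GrpObj Q] (r : ℕ) (hT : Red.IsSplitTorusWith (Fin r → ℤ) T)
    (i : H ⟶ T) [IsMonHom i] [Mono i] (hH : SGA3x.IsMultTypeFT H) (q : T ⟶ Q) [IsMonHom q]
    (hq : RedSub.IsQuotient i q) : ∃ r' : ℕ, r' ≤ r ∧ Red.IsSplitTorusWith (Fin r' → ℤ) Q := by
  have hT' := SgaFix20.isMultTypeFT_of_locallySplit (SgaFix20.locallySplit_of_hasRank (SgaFix20.hasRank_of_split hT))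
  obtain ⟨e⟩ := hT
  obtain ⟨a₁⟩ := SgaFix20.nonempty_bc_id T
  obtain ⟨s⟩ := (inferInstance : Nonempty ↥S)
  obtain ⟨V, hw, hcl, r', hr', ⟨e'⟩⟩ := SgaFix20.TorusQuot.exists_piece hT' i hH q hq (𝟙 S) (a₁ ≪≫ e) s
  have hV : V = ⊤ := SetLike.coe_injective (IsClopen.eq_univ ⟨hcl, V.2⟩ ⟨s, hw⟩)
  subst hV
  refine ⟨r', hr', ?_⟩
  let j : S ⟶ ((⊤ : S.Opens) : Scheme.{u}) := S.topIso.inv
  obtain ⟨b₁⟩ := GrpSchLib.MultTypeBC.bc_iso j e'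
  obtain ⟨b₂⟩ := GrpSchLib.MultTypeBC.bc_bc j ((⊤ : S.Opens).ι ≫ 𝟙 S) Q
  obtain ⟨b₃⟩ := GrpSchLib.MultTypeBC.bc_congr (show j ≫ (⊤ : S.Opens).ι ≫ 𝟙 S = 𝟙 S by
    rw [Category.comp_id]; exact S.topIso.inv_hom_id) Q
  obtain ⟨b₄⟩ := SgaFix20.nonempty_bc_id Q
  obtain ⟨b₅⟩ := GrpSchLib.MultTypeBC.bc_DS j (Fin r' → ℤ)
  exact ⟨b₄.symm ≪≫ b₃.symm ≪≫ b₂.symm ≪≫ b₁ ≪≫ b₅⟩

end Groth.Agent.S16617
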