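import Groth.Statements.S16638
import Groth.Agent.RedSub30.ProdTorus
import Groth.Agent.RedSub30.ProdIso

set_option autoImplicit false
open CategoryTheory MonoidalCategory CartesianMonoidalCategory MonObj GrpObj AlgebraicGeometry
universe u
open RedSub

namespace Groth.Agent.S16638

/-- Let G be a reductive group scheme over a scheme S with a splitting D, and let Ψ be a closed set of
roots (a, b ∈ Ψ with a + b a root forces a + b ∈ Ψ) containing no pair of opposite roots. Then the
root groups U_a, a ∈ Ψ, directly span, in any order, one and the same closed subgroup scheme U_Ψ of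
G: U_Ψ is smooth over S with connected geometric fibres containing no non-trivial subtorus, it is
normalised by the torus of the splitting, and for every enumeration of Ψ the ordered product of the
root homomorphisms is an isomorphism from a power of the additive group onto U_Ψ. -/
theorem result {S : Scheme.{u}} {G : Over S} [GrpObj G]
    (D : Red.SplitRed G) (Ψ : Set D.idx)
    (hcl : ∀ a b c : D.idx, a ∈ Ψ → b ∈ Ψ → D.P.root a + D.P.root b = D.P.root c → c ∈ Ψ)
    (hneg : ∀ a b : D.idx, a ∈ Ψ → D.P.root b = -D.P.root a → b ∉ Ψ) :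
    ∃ (U : Over S) (_ : GrpObj U) (v : U ⟶ G), IsMonHom v ∧ IsClosedImmersion v.left ∧ Smooth U.hom ∧
      (∀ s : S, ConnectedSpace (Red.geomFibre s U).left ∧
        Red.HasNoSubtorus (AlgebraicClosure (S.residueField s)) (Red.geomFibre s U)) ∧
      (∀ (X : Over S) (t : X ⟶ D.T) (x : X ⟶ U), ∃ x' : X ⟶ U, (t ≫ D.i) * (x ≫ v) * (t ≫ D.i)⁻¹ = x' ≫ v) ∧
      ∀ {m : ℕ} (e : Fin m → D.idx), RedSub.Enumerates Ψ e →
        ∃ ψ : RedSub.pow (Red.Ga S) m ≅ U, ψ.hom ≫ v = RedSub.prodMap (Red.Ga S) m (fun k => D.u (e k)) := by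
  haveI := Fintype.ofFinite D.idx
  open Groth.Agent.RedSub30 Groth.Agent.RedSub30.RootPoly in
  have hΨ : IsClosedSet D.P Ψ := hcl
  obtain ⟨lam, hlam⟩ := hΨ.exists_pos hneg
  obtain ⟨m₀, e₀, he₀, hl⟩ := Groth.Agent.RedSub30.RootPoly.IsPosClosed.exists_enumeration (lam := lam) hΨ hlam
  obtain ⟨str, hstr⟩ := hl.exists_grpObj
  refine ⟨RedSub.pow (Red.Ga S) m₀, str, RedSub.prodMap (Red.Ga S) m₀ (fun k => D.u (e₀ k)), hstr,
    hl.isClosedImmersion_prodMap, Groth.Agent.RedSub30.RootPoly.smooth_pow m₀, fun s => ⟨?_, ?_⟩, ?_, ?_⟩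
  · exact Groth.Agent.RedSub30.RootPoly.connected_geomFibre_pow m₀ s
  · exact hl.hasNoSubtorus (Red.geomPt s)
  · intro X t x
    obtain ⟨x', hx'⟩ := hl.exists_lift (hl.conj_torus t (hl.prodMap_inProd x))
    exact ⟨x', hx'.symm⟩
  · intro m e he
    obtain ⟨ψ, hψ⟩ := hl.exists_iso (Groth.Agent.RedSub30.RootPoly.IsPosClosed.of_enumerates hΨ hlam he) fun c => by
      rw [Groth.Agent.RedSub30.RootPoly.mem_ofFn_of_enumerates he,
        Groth.Agent.RedSub30.RootPoly.mem_ofFn_of_enumerates he₀]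
    exact ⟨ψ, hψ⟩

end Groth.Agent.S16638
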