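import Groth.Statements.S16652
import Groth.Agent.RedSub30.ProdLevels

set_option autoImplicit false
open CategoryTheory MonoidalCategory CartesianMonoidalCategory MonObj GrpObj AlgebraicGeometry
universe u
open RedSub

namespace Groth.Agent.S16652

open Groth.Agent.RedSub30 Groth.Agent.RedSub30.RootPoly Groth.Agent.Rank2Red38

/-- With G a reductive group scheme over a scheme S with splitting D, Ψ a closed set of roots without
opposite pairs, λ ∈ M^∨ non-vanishing on the roots and positive on Ψ, and n ≥ 1, let U₁ ⊃ U₂ be the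
closed subgroups directly spanned by the root groups U_a (a ∈ Ψ) with λ(a) ≥ n, resp. λ(a) ≥ n + 1.
Then U₂ is normal in U₁, root groups U_a, U_b with λ(a) = λ(b) = n commute modulo U₂, and
multiplication (∏_{λ(a) = n} U_a) × U₂ → U₁ (product in any order) is an isomorphism of schemes;
thus U₁/U₂ is the vector group ∏_{λ(a)=n} U_a. -/
theorem result {S : Scheme.{u}} {G : Over S} [GrpObj G]
    (D : Red.SplitRed G) (Ψ : Set D.idx)
    (hcl : ∀ a b c : D.idx, a ∈ Ψ → b ∈ Ψ → D.P.root a + D.P.root b = D.P.root c → c ∈ Ψ)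
    (hneg : ∀ a b : D.idx, a ∈ Ψ → D.P.root b = -D.P.root a → b ∉ Ψ)
    (lam : Module.Dual ℤ D.M) (hlam : ∀ a : D.idx, lam (D.P.root a) ≠ 0) (hpos : ∀ a ∈ Ψ, 0 < lam (D.P.root a))
    (n : ℕ) (hn : 1 ≤ n)
    {U₁ U₂ : Over S} [GrpObj U₁] [GrpObj U₂] (v₁ : U₁ ⟶ G) (v₂ : U₂ ⟶ G) [IsMonHom v₁] [IsMonHom v₂]
    (hv₁ : IsClosedImmersion v₁.left) (hv₂ : IsClosedImmersion v₂.left)
    (hU₁ : ∀ {m : ℕ} (e : Fin m → D.idx), RedSub.Enumerates {a | a ∈ Ψ ∧ (n : ℤ) ≤ lam (D.P.root a)} e →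
      ∃ ψ : RedSub.pow (Red.Ga S) m ≅ U₁, ψ.hom ≫ v₁ = RedSub.prodMap (Red.Ga S) m (fun k => D.u (e k)))
    (hU₂ : ∀ {m : ℕ} (e : Fin m → D.idx), RedSub.Enumerates {a | a ∈ Ψ ∧ (n : ℤ) + 1 ≤ lam (D.P.root a)} e →
      ∃ ψ : RedSub.pow (Red.Ga S) m ≅ U₂, ψ.hom ≫ v₂ = RedSub.prodMap (Red.Ga S) m (fun k => D.u (e k))) :
    (∃ f : U₂ ⟶ U₁, f ≫ v₁ = v₂ ∧ IsMonHom f ∧ AlgGrp.IsNormalHom f) ∧
    (∀ (a b : D.idx), a ∈ Ψ → b ∈ Ψ → lam (D.P.root a) = n → lam (D.P.root b) = n →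
      ∀ (X : Over S) (x y : X ⟶ Red.Ga S), ∃ w : X ⟶ U₂,
        (x ≫ D.u a) * (y ≫ D.u b) * (x ≫ D.u a)⁻¹ * (y ≫ D.u b)⁻¹ = w ≫ v₂) ∧
    ∀ {m : ℕ} (e : Fin m → D.idx), RedSub.Enumerates {a | a ∈ Ψ ∧ lam (D.P.root a) = n} e →
      ∃ ψ : RedSub.pow (Red.Ga S) m ⊗ U₂ ≅ U₁,
        ψ.hom ≫ v₁ = (fst _ _ ≫ RedSub.prodMap (Red.Ga S) m (fun k => D.u (e k))) * (snd _ _ ≫ v₂) := by
  classical
  haveI : Mono v₁ := by
    haveI : Mono ((Over.forget S).map v₁) := inferInstanceAs (Mono v₁.left)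
    exact (Over.forget S).mono_of_mono_map ‹_›
  haveI : Mono v₂ := by
    haveI : Mono ((Over.forget S).map v₂) := inferInstanceAs (Mono v₂.left)
    exact (Over.forget S).mono_of_mono_map ‹_›
  set L1 : Set D.idx := {a | a ∈ Ψ ∧ (n : ℤ) ≤ lam (D.P.root a)} with hL1
  set L2 : Set D.idx := {a | a ∈ Ψ ∧ (n : ℤ) + 1 ≤ lam (D.P.root a)} with hL2
  have hc1 : IsClosedSet D.P L1 := fun a b c ha hb hc => ⟨hcl a b c ha.1 hb.1 hc, by
    rw [← hc, map_add]; have := ha.2; have := hpos b hb.1; omega⟩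
  have hc2 : IsClosedSet D.P L2 := fun a b c ha hb hc => ⟨hcl a b c ha.1 hb.1 hc, by
    rw [← hc, map_add]; have := ha.2; have := hpos b hb.1; omega⟩
  obtain ⟨m₁, e₁, he₁, hl₁⟩ := IsPosClosed.exists_enumeration (lam := lam) hc1 fun a ha => hpos a ha.1
  obtain ⟨m₂, e₂, he₂, hl₂⟩ := IsPosClosed.exists_enumeration (lam := lam) hc2 fun a ha => hpos a ha.1
  obtain ⟨ψ₁, hψ₁⟩ := hU₁ e₁ he₁
  obtain ⟨ψ₂, hψ₂⟩ := hU₂ e₂ he₂
  have hsub : ∀ k, e₂ k ∈ List.ofFn e₁ := fun k => by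
    have h : e₂ k ∈ L2 := he₂.2 ▸ Set.mem_range_self k
    rw [mem_ofFn_of_enumerates he₁]
    exact ⟨h.1, by have := h.2; omega⟩
  have hv₁ : ψ₁.inv ≫ RedSub.prodMap (Red.Ga S) m₁ (fun k => D.u (e₁ k)) = v₁ := by
    rw [← hψ₁, Iso.inv_hom_id_assoc]
  have hv₂ : ψ₂.inv ≫ RedSub.prodMap (Red.Ga S) m₂ (fun k => D.u (e₂ k)) = v₂ := by
    rw [← hψ₂, Iso.inv_hom_id_assoc]
  -- points of the two subgroups
  have to₁ : ∀ {X : Over S} {g : X ⟶ G}, InProd D X (List.ofFn e₁) g → ∃ x : X ⟶ U₁, x ≫ v₁ = g := by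
    intro X g hg
    obtain ⟨x, hx⟩ := hl₁.exists_lift hg
    exact ⟨x ≫ ψ₁.hom, by rw [Category.assoc, hψ₁, hx]⟩
  have to₂ : ∀ {X : Over S} {g : X ⟶ G}, InProd D X (List.ofFn e₂) g → ∃ x : X ⟶ U₂, x ≫ v₂ = g := by
    intro X g hg
    obtain ⟨x, hx⟩ := hl₂.exists_lift hg
    exact ⟨x ≫ ψ₂.hom, by rw [Category.assoc, hψ₂, hx]⟩
  obtain ⟨f, hf⟩ : ∃ f : U₂ ⟶ U₁, f ≫ v₁ = v₂ := by
    obtain ⟨y, hy⟩ := hl₁.exists_lift_comp hsub ψ₂.inv
    exact ⟨y ≫ ψ₁.hom, by rw [Category.assoc, hψ₁, hy, hv₂]⟩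
  have hout : ∀ d, d ∈ List.ofFn e₁ → d ∉ List.ofFn e₂ → d ∈ Ψ ∧ lam (D.P.root d) = n := by
    intro d hd hd'
    rw [mem_ofFn_of_enumerates he₁] at hd
    rw [mem_ofFn_of_enumerates he₂] at hd'
    refine ⟨hd.1, ?_⟩
    by_contra hne
    exact hd' ⟨hd.1, by have := hd.2; omega⟩
  refine ⟨⟨f, hf, ?_, ?_⟩, ?_, ?_⟩
  · haveI : IsMonHom (f ≫ v₁) := by rw [hf]; infer_instance
    exact RedSub30.isMonHom_of_mono v₁ f
  · intro X g x
    have hx : x ≫ v₂ = wordPt D X e₂ (coord (x ≫ ψ₂.inv)) := by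
      rw [← comp_prodMap, Category.assoc, hv₂]
    have hg : g ≫ v₁ = wordPt D X e₁ (coord (g ≫ ψ₁.inv)) := by
      rw [← comp_prodMap, Category.assoc, hv₁]
    have hw : ∀ k, Fin.append e₁ e₂ k ∈ List.ofFn e₁ :=
      Fin.addCases (fun i => by rw [Fin.append_left]; exact List.mem_ofFn.mpr ⟨i, rfl⟩)
        (fun i => by rw [Fin.append_right]; exact hsub i)
    have hin := hl₁.inProd_level hl₂ hw (isWeighted_conjPt e₁ e₂) (fun d hd hd' i => by
      rw [(hout d hd hd').2]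
      exact ((mem_ofFn_of_enumerates he₁ _).mp (hw i)).2) (fun d hd hd' i hi Y t => by
      revert hi
      refine Fin.addCases (fun l _ => ?_) (fun l hi => ?_) i
      · have hz : (fun k => (Pi.single (Fin.castAdd m₂ l) t : Fin (m₁ + m₂) → Γ(Y.left, ⊤)) (Fin.natAdd m₁ k)) = 0 :=
          funext fun k => Pi.single_eq_of_ne (by
            intro h
            have := congrArg Fin.val h
            simp at this
            omega) _
        show _ * wordPt D Y e₂ _ * _ = 1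
        rw [hz, (isWeighted_wordPt D e₂).zero, _root_.mul_one, mul_inv_cancel]
      · rw [Fin.append_right] at hi
        exact absurd (hi ▸ List.mem_ofFn.mpr ⟨l, rfl⟩) hd') X
      (Fin.append (coord (g ≫ ψ₁.inv)) (coord (x ≫ ψ₂.inv)))
    simp only [conjPt, Fin.append_left, Fin.append_right] at hin
    rw [← hx, ← hg] at hin
    obtain ⟨y, hy⟩ := to₂ hin
    refine ⟨y, (cancel_mono v₁).mp ?_⟩
    rw [Category.assoc, hf, hy]
    refine (MonObj.mul_comp _ _ v₁).trans ?_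
    rw [GrpObj.inv_comp, MonObj.mul_comp, Category.assoc, hf]
  · intro a b ha hb hla hlb X x y
    have hw : ∀ k, ![a, b] k ∈ List.ofFn e₁ := fun k => by
      rw [mem_ofFn_of_enumerates he₁]
      fin_cases k
      · exact ⟨ha, hla.ge⟩
      · exact ⟨hb, hlb.ge⟩
    have hin := hl₁.inProd_level hl₂ hw (isWeighted_commPt a b) (fun d hd hd' i => by
      rw [(hout d hd hd').2]
      fin_cases i
      · exact hla.ge
      · exact hlb.ge) (fun d hd hd' i _ Y t => by
      fin_cases i <;> simp [commPt, (U_oneParam D _).zero]) X ![Red.gaFn x, Red.gaFn y]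
    simp only [commPt, Matrix.cons_val_zero, Matrix.cons_val_one] at hin
    rw [← pt_comp_eq, ← pt_comp_eq] at hin
    obtain ⟨z, hz⟩ := to₂ hin
    exact ⟨z, hz.symm⟩
  · intro m e he
    have hmem : ∀ k, Fin.append e e₂ k ∈ List.ofFn e₁ :=
      Fin.addCases (fun i => by
        have h : e i ∈ _ := he.2 ▸ Set.mem_range_self i
        rw [Fin.append_left, mem_ofFn_of_enumerates he₁]
        exact ⟨h.1, h.2.ge⟩)
        (fun i => by rw [Fin.append_right]; exact hsub i)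
    have hinj : Function.Injective (Fin.append e e₂) := by
      have key : ∀ i j, e i ≠ e₂ j := fun i j h => by
        have h1 : e i ∈ _ := he.2 ▸ Set.mem_range_self i
        have h2 : e₂ j ∈ L2 := he₂.2 ▸ Set.mem_range_self j
        have := h1.2
        have := h2.2
        rw [h] at *
        omega
      intro i j
      refine Fin.addCases (fun a => ?_) (fun a => ?_) i <;> refine Fin.addCases (fun b => ?_) (fun b => ?_) j <;>
        simp only [Fin.append_left, Fin.append_right] <;> intro h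
      · rw [he.1 h]
      · exact absurd h (key a b)
      · exact absurd h.symm (key b a)
      · rw [he₂.1 h]
    have henum : RedSub.Enumerates L1 (Fin.append e e₂) := by
      refine ⟨hinj, Set.ext fun c => ⟨?_, fun hc => ?_⟩⟩
      · rintro ⟨k, rfl⟩
        exact (mem_ofFn_of_enumerates he₁ _).mp (hmem k)
      · rcases eq_or_lt_of_le hc.2 with h | h
        · obtain ⟨k, hk⟩ : c ∈ Set.range e := he.2.symm ▸ ⟨hc.1, h.symm⟩
          exact ⟨Fin.castAdd _ k, by rw [Fin.append_left, hk]⟩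
        · obtain ⟨k, hk⟩ : c ∈ Set.range e₂ := he₂.2.symm ▸ ⟨hc.1, by omega⟩
          exact ⟨Fin.natAdd _ k, by rw [Fin.append_right, hk]⟩
    obtain ⟨ψ, hψ⟩ := hU₁ _ henum
    let A := RedSub.pow (Red.Ga S) m
    let B := RedSub.pow (Red.Ga S) (m + m₂)
    let α : A ⊗ U₂ ≅ B :=
      { hom := ofCoord (Fin.append (coord (fst A U₂)) (coord (snd A U₂ ≫ ψ₂.inv)))
        inv := lift (ofCoord fun k => coord (𝟙 B) (Fin.castAdd m₂ k))
          (ofCoord (fun k => coord (𝟙 B) (Fin.natAdd m k)) ≫ ψ₂.hom)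
        hom_inv_id := by
          refine CartesianMonoidalCategory.hom_ext _ _ ?_ ?_
          · rw [Category.assoc, lift_fst, comp_ofCoord, Category.id_comp]
            refine coord_injective ?_
            rw [coord_ofCoord]
            funext k
            rw [← congrFun (coord_comp _ (𝟙 B)) (Fin.castAdd m₂ k), Category.comp_id, coord_ofCoord, Fin.append_left]
          · rw [Category.assoc, lift_snd, ← Category.assoc, comp_ofCoord, Category.id_comp]
            rw [show (fun k => _) = coord (snd A U₂ ≫ ψ₂.inv) from funext fun k => by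
              rw [← congrFun (coord_comp _ (𝟙 B)) (Fin.natAdd m k), Category.comp_id, coord_ofCoord, Fin.append_right]]
            rw [ofCoord_coord, Category.assoc, ψ₂.inv_hom_id, Category.comp_id]
        inv_hom_id := by
          refine coord_injective ?_
          rw [comp_ofCoord, coord_ofCoord]
          funext k
          refine Fin.addCases (fun a => ?_) (fun a => ?_) k
          · rw [Fin.append_left, ← congrFun (coord_comp _ (fst A U₂)) a, lift_fst, coord_ofCoord]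
          · rw [Fin.append_right, ← congrFun (coord_comp _ (snd A U₂ ≫ ψ₂.inv)) a, lift_snd_assoc, Category.assoc,
              ψ₂.hom_inv_id, Category.comp_id, coord_ofCoord] }
    refine ⟨α ≪≫ ψ, ?_⟩
    rw [Iso.trans_hom, Category.assoc, hψ, comp_prodMap, coord_ofCoord, wordPt_append, ← comp_prodMap,
      ← comp_prodMap, Category.assoc, hv₂]

end Groth.Agent.S16652
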