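import Groth.Statements.S16667
import Mathlib
import Groth.Agent.Alg6.AssDepth
import Groth.Agent.FlatLoc6.SerreNormal

set_option autoImplicit false
universe u
open CAlg

namespace Groth.Agent.S16667

/-- Let A be a Noetherian integral domain satisfying Serre's condition (S_2), with fraction field K. An
element of K which lies in the localization A_p for every prime p of A with depth(A_p) = 1 lies in
A. -/
theorem result {A : Type u} [CommRing A] [IsDomain A]
    [IsNoetherianRing A] (hS2 : LocCoh.HasSk 2 A A) (x : FractionRing A)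
    (hx : ∀ (p : Ideal A) [p.IsPrime],
      LocCoh.depth (Localization.AtPrime p) (Localization.AtPrime p) = 1 →
        x ∈ Set.range (algebraMap (Localization.AtPrime p) (FractionRing A))) :
    x ∈ Set.range (algebraMap A (FractionRing A)) := by
  classical
  obtain ⟨a, b, hb, rfl⟩ := IsFractionRing.div_surjective A x
  have hb0 : b ≠ 0 := nonZeroDivisors.ne_zero hb
  have hreg : IsSMulRegular A b := fun u v h => mul_left_cancel₀ hb0 h
  by_cases hab : (Submodule.Quotient.mk a : QuotSMulTop b A) = 0
  · obtain ⟨w, hw⟩ := Alg6.mem_pointwise_smul_top_iff.mp hab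
    refine ⟨w, ?_⟩
    rw [eq_div_iff (IsFractionRing.to_map_ne_zero_of_mem_nonZeroDivisors hb), ← map_mul,
      mul_comm, ← hw, smul_eq_mul]
  exfalso
  obtain ⟨q, hq, hle⟩ := exists_le_isAssociatedPrime_of_isNoetherianRing A _ hab
  haveI := hq.isPrime
  obtain ⟨-, z, hz⟩ := Alg6.mem_ass_iff.mp hq
  have hbq : b ∈ q := by
    refine (hz b).mpr ?_
    obtain ⟨z, rfl⟩ := Submodule.Quotient.mk_surjective _ z
    exact Alg6.mem_pointwise_smul_top_iff.mpr ⟨z, rfl⟩
  have hd1 : LocCoh.depth (Localization.AtPrime q) (Localization.AtPrime q) = 1 := by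
    rw [← FlatLoc6.depth_self_atPrime]
    refine le_antisymm ?_ ?_
    · have h2 := mt (Alg6.two_le_depth_atPrime_iff (M := A) q hbq hreg).mp (not_not.mpr hq)
      rw [not_le] at h2
      exact Order.le_of_lt_add_one (by simpa [one_add_one_eq_two] using h2)
    · rw [Alg6.one_le_depth_atPrime_iff]
      intro h
      obtain ⟨-, z, hz⟩ := Alg6.mem_ass_iff.mp h
      rcases mul_eq_zero.mp ((hz b).mp hbq : b * z = 0) with hh | hh
      · exact hb0 hh
      · exact Ideal.IsPrime.ne_top ‹q.IsPrime›
          ((Ideal.eq_top_iff_one _).mpr ((hz 1).mpr (by rw [hh, smul_zero])))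
  obtain ⟨y, hy⟩ := hx q hd1
  obtain ⟨c, s, rfl⟩ := IsLocalization.exists_mk'_eq q.primeCompl y
  have hspec : algebraMap (Localization.AtPrime q) (FractionRing A)
      (IsLocalization.mk' (Localization.AtPrime q) c s) * algebraMap A (FractionRing A) s =
      algebraMap A (FractionRing A) c := by
    rw [IsScalarTower.algebraMap_apply A (Localization.AtPrime q) (FractionRing A) (s : A), ← map_mul,
      IsLocalization.mk'_spec, ← IsScalarTower.algebraMap_apply]
  rw [hy, div_mul_eq_mul_div, div_eq_iff (IsFractionRing.to_map_ne_zero_of_mem_nonZeroDivisors hb),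
    ← map_mul, ← map_mul] at hspec
  have hsa := IsFractionRing.injective A (FractionRing A) hspec
  refine s.2 (hle ?_)
  have hmem : (Submodule.Quotient.mk ((s : A) • a) : QuotSMulTop b A) = 0 :=
    Alg6.mem_pointwise_smul_top_iff.mpr ⟨c, by rw [smul_eq_mul, smul_eq_mul]; linear_combination -hsa⟩
  rw [Submodule.Quotient.mk_smul] at hmem
  rw [Submodule.mem_colon_singleton]
  exact hmem

end Groth.Agent.S16667
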