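import Groth.Statements.S16673
import Groth.Agent.AVTate3.AbVar

set_option autoImplicit false
set_option linter.style.haveILetI false
set_option backward.isDefEq.respectTransparency false
set_option backward.isDefEq.respectTransparency.types false
universe u
open CategoryTheory CategoryTheory.Limits MonoidalCategory CartesianMonoidalCategory MonObj GrpObj AlgebraicGeometry
open AbVar

namespace Groth.Agent.S16673

/-- Let k be a field of characteristic p > 0 with an algebraic closure k̄, let X and Y be abelian
varieties over k (proper, geometrically integral, commutative k-group schemes) and let h : X → Y be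
a homomorphism which is finite and surjective (an isogeny). If i and j are natural numbers such that
for every m ≥ 0 the group X[p^m](k̄) of k̄-valued points of X killed by p^m (k̄-valued points being
the k-morphisms Spec k̄ → X, a group under the group law of X) is isomorphic to (ℤ/p^m)^i and the
group Y[p^m](k̄) is isomorphic to (ℤ/p^m)^j (groups of points written multiplicatively), then i = j:
the p-rank is an isogeny invariant. -/
theorem result (k : Type u) [Field k] (p : ℕ) [Fact p.Prime] [CharP k p]
    (X Y : Over (Spec (CommRingCat.of k)))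
    [GrpObj X] [IsCommMonObj X] [IsProper X.hom] [GeometricallyIntegral X.hom]
    [GrpObj Y] [IsCommMonObj Y] [IsProper Y.hom] [GeometricallyIntegral Y.hom]
    (h : X ⟶ Y) [IsMonHom h] [IsFinite h.left] [Surjective h.left]
    (i j : ℕ)
    (hi : ∀ m : ℕ, Nonempty (AbDual.torsPts X (p ^ m)
      (Over.mk (Spec.map (CommRingCat.ofHom (algebraMap k (AlgebraicClosure k))))) ≃*
      Multiplicative (Fin i → ZMod (p ^ m))))
    (hj : ∀ m : ℕ, Nonempty (AbDual.torsPts Y (p ^ m)
      (Over.mk (Spec.map (CommRingCat.ofHom (algebraMap k (AlgebraicClosure k))))) ≃*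
      Multiplicative (Fin j → ZMod (p ^ m)))) :
    i = j := by
  let σ : Spec (CommRingCat.of (AlgebraicClosure k)) ⟶ Spec (CommRingCat.of k) :=
    Spec.map (CommRingCat.ofHom (algebraMap k (AlgebraicClosure k)))
  let φ : (Over.mk σ ⟶ X) →* (Over.mk σ ⟶ Y) :=
    MonoidHom.mk' (fun x => x ≫ h) fun a b => MonObj.mul_comp a b h
  let F : (Over.mk σ ⟶ X) →* (Over.mk σ ⟶ X) := powMonoidHom p
  have hφ : Function.Surjective φ := fun y => Groth.Agent.AVTate3.exists_comp_eq σ h y
  have hF : Function.Surjective F := fun y => Groth.Agent.AVTate3.exists_pow_eq σ (Fact.out : p.Prime).one_le y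
  have hK : Finite φ.ker := (Groth.Agent.AVTate3.finite_comp_eq σ h 1).to_subtype
  let G : (Over.mk σ ⟶ Y) →* (Over.mk σ ⟶ Y) := powMonoidHom p
  have hc : φ.comp F = G.comp φ := MonoidHom.ext fun x => map_pow φ x p
  have key : ∀ {M N P : Type u} [CommGroup M] [CommGroup N] [CommGroup P] (f : M →* N) (g : N →* P),
      Function.Surjective f → Nat.card (g.comp f).ker = Nat.card f.ker * Nat.card g.ker := by
    intro M N P _ _ _ f g hf
    let ψ : (g.comp f).ker →* g.ker := (f.comp (g.comp f).ker.subtype).codRestrict g.ker fun x => x.2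
    have hψ : Function.Surjective ψ := fun y => by
      obtain ⟨x, hx⟩ := hf y.1
      exact ⟨⟨x, show g (f x) = 1 by rw [hx]; exact y.2⟩, Subtype.ext hx⟩
    rw [Subgroup.card_eq_card_quotient_mul_card_subgroup ψ.ker,
      Nat.card_congr (QuotientGroup.quotientKerEquivOfSurjective ψ hψ).toEquiv, mul_comm]
    congr 1
    exact Nat.card_congr
      { toFun := fun x => ⟨x.1.1, congrArg Subtype.val x.2⟩
        invFun := fun x => ⟨⟨x.1, show g (f x.1) = 1 by rw [(x.2 : f x.1 = 1), map_one]⟩, Subtype.ext x.2⟩
        left_inv := fun x => rfl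
        right_inv := fun x => rfl }
  have h1 := key φ G hφ
  rw [← hc, key F φ hF] at h1
  have e1 : F.ker = AbDual.torsPts X p (Over.mk σ) := rfl
  have e2 : G.ker = AbDual.torsPts Y p (Over.mk σ) := rfl
  obtain ⟨ei⟩ := hi 1
  obtain ⟨ej⟩ := hj 1
  rw [pow_one] at ei ej
  rw [e1, e2, Nat.card_congr ei.toEquiv, Nat.card_congr ej.toEquiv, Nat.card_congr Multiplicative.toAdd,
    Nat.card_congr Multiplicative.toAdd, Nat.card_fun, Nat.card_fun, Nat.card_zmod, Nat.card_fin, Nat.card_fin,
    mul_comm (Nat.card φ.ker)] at h1
  exact Nat.pow_right_injective (Fact.out : p.Prime).two_le (Nat.eq_of_mul_eq_mul_right Nat.card_pos h1)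

end Groth.Agent.S16673
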