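import Groth.Statements.S16679
import Groth.Agent.AVChow.RedGroup

set_option backward.isDefEq.respectTransparency false
set_option backward.isDefEq.respectTransparency.types false
set_option linter.style.haveILetI false

open CategoryTheory.Limits

set_option autoImplicit false
universe u
open CategoryTheory CategoryTheory.Limits MonoidalCategory CartesianMonoidalCategory MonObj GrpObj AlgebraicGeometry
open AbVar

namespace Groth.Agent.S16679

/-- Let X be an abelian variety over an arbitrary field k (a proper, geometrically integral k-group
scheme), let i : Y → X be a closed subgroup scheme (a homomorphism of k-group schemes which is a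
closed immersion) whose underlying space is connected, and let j : Y_red → Y be the reduced closed
subscheme with the same underlying space (a closed immersion from a reduced scheme which is
surjective). Then Y_red is geometrically integral over k, and there is a k-group scheme structure on
Y_red for which j is a homomorphism: Y_red is an abelian subvariety of X. (For a closed subgroup
scheme which is not connected the reduced subscheme need not be geometrically reduced; the statement
concerns the identity component.) -/
theorem result (k : Type u) [Field k]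
    (X : Over (Spec (CommRingCat.of k))) [GrpObj X] [IsProper X.hom] [GeometricallyIntegral X.hom]
    (Y : Over (Spec (CommRingCat.of k))) [GrpObj Y] (i : Y ⟶ X) [IsMonHom i] [IsClosedImmersion i.left]
    [ConnectedSpace ↥Y.left]
    (Yr : Scheme.{u}) (j : Yr ⟶ Y.left) [IsClosedImmersion j] [Surjective j] [IsReduced Yr] :
    GeometricallyIntegral (j ≫ Y.hom) ∧
      ∃ _ : GrpObj (Over.mk (j ≫ Y.hom)), IsMonHom (Over.homMk j rfl : Over.mk (j ≫ Y.hom) ⟶ Y) := by
  obtain ⟨M, _, m, hMp, hMg, hm, hmc, hclop⟩ := AVChow.exists_abelian_sub X Y i
  haveI : IsIntegral M.left := GeometricallyIntegral.isIntegral_of_subsingleton M.hom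
  have hne : (Set.range m.left).Nonempty := ⟨_, η[M].left (IsLocalRing.closedPoint k), rfl⟩
  have hr : Set.range j = Set.range m.left := by
    rw [hclop.eq_univ hne, j.surjective.range_eq]
  obtain ⟨e, he⟩ := H23.RedSub.exists_iso_of_range_eq j m.left hr
  let eO : Over.mk (j ≫ Y.hom) ≅ M := Over.isoMk e (by rw [← Over.w m, reassoc_of% he]; rfl)
  refine ⟨?_, GrpObj.ofIso eO.symm, ?_⟩
  · rw [← he, Category.assoc, Over.w m]
    exact (MorphismProperty.cancel_left_of_respectsIso @GeometricallyIntegral e.hom M.hom).2 hMg
  · letI := GrpObj.ofIso eO.symm
    have e2 : (Over.homMk j rfl : Over.mk (j ≫ Y.hom) ⟶ Y) = eO.hom ≫ m := Over.OverMorphism.ext he.symm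
    rw [e2]
    constructor
    · show (η[M] ≫ eO.inv) ≫ eO.hom ≫ m = _
      rw [Category.assoc, Iso.inv_hom_id_assoc, IsMonHom.one_hom m]
    · show ((eO.hom ⊗ₘ eO.hom) ≫ μ[M] ≫ eO.inv) ≫ eO.hom ≫ m = _
      rw [Category.assoc, Category.assoc, Iso.inv_hom_id_assoc, IsMonHom.mul_hom m, ← Category.assoc,
        MonoidalCategory.tensorHom_comp_tensorHom]

end Groth.Agent.S16679
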