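import Groth.Statements.S16700
import Groth.Agent.WNA49.Geometry

set_option backward.isDefEq.respectTransparency false
set_option backward.isDefEq.respectTransparency.types false

set_option autoImplicit false
universe u
open AlgSt AlgSt.IsWellNighAffine

namespace Groth.Agent.S16700

open CategoryTheory AlgebraicGeometry in
/-- A well-nigh affine algebraic stack has a uniform categorical moduli space `π : 𝒳 → M` in algebraic
spaces whose target `M` is an affine scheme, and `π` is separated, quasi-compact and a universal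
homeomorphism. -/
theorem result (S : Scheme.{u}) (𝒳 : AlgSt.Cat S)
    (h𝒳 : AlgSt.IsAlgStack Scheme.fppfPrecoverage 𝒳) (hw : AlgSt.IsWellNighAffine 𝒳) :
    ∃ (M : Over S) (π : 𝒳 ⥤ᵇ AlgSt.ofSch M), IsAffine M.left ∧ AlgSt.IsUnifCatModuli π ∧
      AlgSt.IsSeparatedMor π ∧ AlgSt.IsQuasiCompactMor Scheme.fppfPrecoverage π ∧
      AlgSt.IsUnivHomeo Scheme.fppfPrecoverage π := by
  obtain ⟨U, x, hU, hx⟩ := id hw
  obtain ⟨P⟩ := Groth.Agent.WNA49.nonempty_pres (x := x) ⟨h𝒳.isStack.1, fun R hR hJ => by have := h𝒳.isStack.2 hR hJ; exact ⟨(this : (Stk.resSieve _ _).IsEquivalence).full, (this : (Stk.resSieve _ _).IsEquivalence).faithful⟩⟩ hx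
  have h₁ : AlgSt.RepByAlgSpWith (AlgSp.LocP @Flat) x :=
    Groth.Agent.AlgStLib.repByAlgSpWith_mono (fun _ _ _ h => h.1.1.2) hx
  have h₂ : AlgSt.RepByAlgSpWith (AlgSp.LocP @LocallyOfFinitePresentation) x :=
    Groth.Agent.AlgStLib.repByAlgSpWith_mono (fun _ _ _ h => h.2) hx
  have h₃ : AlgSt.RepByAlgSpWith AlgSp.IsSurjectiveMor x :=
    Groth.Agent.AlgStLib.repByAlgSpWith_mono (fun _ _ _ h => h.1.1.1) hx
  have hg := h𝒳.isStack.1
  have hls : Gerb.LocSurjObj (AlgSp.J S) x :=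
    Groth.Agent.AlgStLib.locSurjObj_of_locEssSurj hg (Groth.Agent.AlgStLib.locEssSurj_of_repByAlgSp h₁ h₂ h₃)
  obtain ⟨π, hπ⟩ := P.exists_π hls
  have hlft : AlgSt.RepByAlgSpWith (AlgSp.LocP @LocallyOfFiniteType) x :=
    Groth.Agent.AlgStLib.repByAlgSpWith_mono (fun _ _ _ h => Groth.Agent.AlgSpLib.locP_mono
      (Q := @LocallyOfFiniteType)
      (fun _ _ f (_ : LocallyOfFinitePresentation f) => inferInstanceAs (LocallyOfFiniteType f)) h.2) hx
  have hs : AlgSt.IsSurjective x := Groth.Agent.AlgStLib.isSurjective_ofChart_atlas hg h₃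
  have hh := P.isUnivHomeo hπ h𝒳 hs hlft
  refine ⟨P.M, π, inferInstance, ?_,
    Groth.Agent.WNA49.isSeparatedMor_of_isSeparatedOver h𝒳 (Groth.Agent.WNA49.qc_qdm_sep h𝒳 hw).2.2 π,
    Groth.Agent.WNA49.isQuasiCompactMor_of_isUnivHomeo h𝒳 hh, hh⟩
  refine Groth.Agent.S16704.result S 𝒳 h𝒳 _ (AlgSp.IsAlgSpace.yon_obj P.M) π fun T hT g hg' => ?_
  obtain ⟨g₀, rfl⟩ := (AlgSp.yon S).map_surjective g
  exact P.isCatModuli_fpFst hπ hls g₀ (AlgSp.locP_yon_map hg')

end Groth.Agent.S16700
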