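import Groth.Statements.S16710
import Groth.Agent.Growth22.StrictNef
import Groth.Agent.Growth22.GenBy
import Groth.Agent.AmpleX.Generated
import Groth.Agent.InvX.Frame
import Groth.Agent.AmpleVan.Pull
-- import your own Groth.Agent.* helpers here

set_option autoImplicit false
universe u
open CategoryTheory CategoryTheory.Limits AlgebraicGeometry TopologicalSpace
open Variety

namespace Groth.Agent.S16710

set_option linter.style.haveILetI false
set_option linter.unusedSectionVars false
set_option maxHeartbeats 1000000
set_option backward.isDefEq.respectTransparency false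
set_option backward.isDefEq.respectTransparency.types false
open scoped Groth.Agent.H23.PicMul in
/-- Let X be a proper scheme over a field k and L an invertible O_X-module. Then L is ample if and only
if (i) L is strictly nef, meaning χ(O_C ⊗ L) - χ(O_C) > 0 for every integral closed subscheme C ⊆ X
of dimension one, and (ii) L is semiample, meaning some positive tensor power of L is generated by
its global sections (is a quotient of a free O_X-module). -/
theorem result (k : Type u) [Field k] (X : Scheme.{u})
    [X.Over (Spec (CommRingCat.of k))] [IsProper (X ↘ (Spec (CommRingCat.of k)))]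
    (L : X.Modules) (hL : PicF.IsInvertible L) :
    CohB1.IsAmple L ↔
      ((∀ C : X.IdealSheafData, IsIntegral C.subscheme →
          topologicalKrullDim (C.support : Set X) = 1 →
            0 < Curv2.euler k X (CohB1.tensorMod (ClSub.quotMod C) L) - Curv2.euler k X (ClSub.quotMod C)) ∧
        ∃ m : ℕ, Curv2.IsGloballyGenerated (CohB1.tensorPow L (m + 1))) := by
  haveI := CurveCohLib.isNoetherian_of_proper (k := k) (X := X)
  haveI : CompactSpace X := QuasiCompact.compactSpace_of_compactSpace (X ↘ Spec (CommRingCat.of k))
  haveI : X.IsSeparated := AmpleVan.isSeparated_of_proper (A := k)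
  refine ⟨fun h => ⟨fun C hC hdim => ?_, ?_⟩, fun ⟨hnef, m, hgen⟩ => ?_⟩
  · letI := Growth22.subOver k C
    haveI := hC
    haveI := Growth22.isProper_sub (k := k) C
    haveI : CompactSpace C.subscheme := C.subschemeι.isClosedEmbedding.compactSpace
    rw [Growth22.euler_quot_eq_deg C hL]
    exact (VarBase.isAmple_iff_deg_pos k ((Growth22.dim_sub C).trans hdim) (PicClLib.isInvertible_pullback _ hL)).1
      (AmpleVan.isAmple_pullback_of_isEmbedding C.subschemeι C.subschemeι.isClosedEmbedding.isEmbedding h)
  · obtain ⟨n₀, hn⟩ := AmpleX.eventually_isGloballyGenerated h (QCoh.isQCoh_structureModule (X := X))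
      (QCoh.isFT_of_isFP (QCoh.isFP_of_isFinLocFree (H23.PullPush.isFinLocFree_of_isInvertible CurveDeg.isInvertible_structureModule)))
    exact ⟨n₀, AmpleX.isGloballyGenerated_of_iso (CurveTensor.structureTensorIso _) (hn (n₀ + 1) n₀.le_succ)⟩
  · have hP := InvX.isInvertible_tensorPow hL (m + 1)
    obtain ⟨ι, t, ht⟩ := Growth22.exists_generatedBy_of_isGloballyGenerated hP hgen
    refine AmpleX.isAmple_of_tensorPow hL m.succ_pos (AVAmple.isAmple_of_nontriv (X ↘ Spec (CommRingCat.of k)) hP
      (fun x => by
        obtain ⟨i, U, hx, hU⟩ := InvX.exists_frame_of_generated hP t x (ht x)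
        exact ⟨t i, H23.TrivBasic.mem_locus_iff.2 ⟨U, hx, hU⟩⟩) fun {C} j hj hC htriv => ?_)
    haveI := hj
    haveI := hC
    exact Growth22.finite_of_triv_of_strictlyNef hL hnef C j m.succ_pos htriv

end Groth.Agent.S16710
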