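import Groth.Statements.S16711
import Groth.Agent.Growth22.StrictNef
import Groth.Agent.AmpleVan.Pull
import Groth.Agent.VarBase.AmpleComp
-- import your own Groth.Agent.* helpers here

set_option autoImplicit false
universe u
open CategoryTheory CategoryTheory.Limits AlgebraicGeometry TopologicalSpace
open Variety

namespace Groth.Agent.S16711

set_option linter.style.haveILetI false
set_option linter.unusedSectionVars false
set_option maxHeartbeats 1000000
set_option backward.isDefEq.respectTransparency false
set_option backward.isDefEq.respectTransparency.types false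
open scoped Groth.Agent.H23.PicMul in
/-- The implication from the fourth condition to ampleness. Fix an algebraically closed field k, a
proper k-scheme X and an invertible O_X-module L. Assume that L is strictly nef, meaning χ(O_C ⊗ L)
- χ(O_C) > 0 for every integral closed subscheme C ⊆ X of dimension one, and that for every integral
closed subscheme Z ⊆ X some positive tensor power of the pullback L|_Z has a nonzero global section
O_Z → L|_Z^{⊗ m}. Then L is ample. -/
theorem result (k : Type u) [Field k] [IsAlgClosed k]
    (X : Scheme.{u}) [X.Over (Spec (CommRingCat.of k))] [IsProper (X ↘ (Spec (CommRingCat.of k)))]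
    (L : X.Modules) (hL : PicF.IsInvertible L)
    (hnef : ∀ C : X.IdealSheafData, IsIntegral C.subscheme →
      topologicalKrullDim (C.support : Set X) = 1 →
        0 < Curv2.euler k X (CohB1.tensorMod (ClSub.quotMod C) L) - Curv2.euler k X (ClSub.quotMod C))
    (heff : ∀ Z : X.IdealSheafData, IsIntegral Z.subscheme →
      ∃ (m : ℕ) (s : Coh.structureModule Z.subscheme ⟶
          CohB1.tensorPow ((Scheme.Modules.pullback Z.subschemeι).obj L) (m + 1)), s ≠ 0) :
    CohB1.IsAmple L := by
  haveI := CurveCohLib.isNoetherian_of_proper (k := k) (X := X)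
  suffices H : ∀ (T : TopologicalSpace.Closeds X) (Z : X.IdealSheafData), IsIntegral Z.subscheme → Z.support = T →
      CohB1.IsAmple ((Scheme.Modules.pullback Z.subschemeι).obj L) by
    refine VarBase.isAmple_of_integral_subschemes k hL fun Z i hi hZ => ?_
    haveI := hi
    haveI := hZ
    haveI : CompactSpace Z := i.isClosedEmbedding.compactSpace
    have hA := AmpleVan.isAmple_pullback_of_isEmbedding (SurfInt.kerIso i).hom
      (SurfInt.kerIso i).hom.isClosedEmbedding.isEmbedding (H _ i.ker (SurfInt.isIntegral_ker i) rfl)
    exact AmpleX.isAmple_of_iso ((Scheme.Modules.pullbackComp _ _).app L ≪≫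
      (Scheme.Modules.pullbackCongr (SurfInt.kerIso_hom i)).app L) hA
  intro T
  induction T using WellFoundedLT.induction with
  | _ T ih =>
    intro Z hZ hT
    letI := Growth22.subOver k Z
    haveI := hZ
    haveI := Growth22.isProper_sub (k := k) Z
    obtain ⟨m, s, hs⟩ := heff Z hZ
    haveI : CompactSpace Z.subscheme := Z.subschemeι.isClosedEmbedding.compactSpace
    refine Growth22.isAmple_of_section (k := k) (PicClLib.isInvertible_pullback _ hL)
      (fun W i hi hW hne => ?_) m.succ_pos s hs (fun C j hj hC n hn htriv => ?_)
    · haveI := hi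
      haveI := hW
      haveI : CompactSpace W := i.isClosedEmbedding.compactSpace
      let j := i ≫ Z.subschemeι
      have hlt : j.ker.support < T := by
        rw [← hT]
        have hsup : (j.ker.support : Set X) = Set.range j := by
          rw [Scheme.Hom.support_ker, j.isClosedEmbedding.isClosed_range.closure_eq]
        refine SetLike.lt_iff_le_and_exists.2 ⟨fun x hx => ?_, ?_⟩
        · rw [← SetLike.mem_coe, hsup] at hx
          obtain ⟨w, rfl⟩ := hx
          exact (Scheme.IdealSheafData.range_subschemeι Z).le ⟨i w, rfl⟩
        · obtain ⟨z, hz⟩ := (Set.ne_univ_iff_exists_notMem _).1 hne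
          refine ⟨Z.subschemeι z, (Scheme.IdealSheafData.range_subschemeι Z).le ⟨z, rfl⟩, fun h => hz ?_⟩
          rw [← SetLike.mem_coe, hsup] at h
          obtain ⟨w, hw⟩ := h
          exact ⟨w, Z.subschemeι.isClosedEmbedding.injective hw⟩
      have hA := AmpleVan.isAmple_pullback_of_isEmbedding (SurfInt.kerIso j).hom
        (SurfInt.kerIso j).hom.isClosedEmbedding.isEmbedding (ih _ hlt j.ker (SurfInt.isIntegral_ker j) rfl)
      exact AmpleX.isAmple_of_iso ((Scheme.Modules.pullbackComp _ _).app L ≪≫
        (Scheme.Modules.pullbackCongr (SurfInt.kerIso_hom j)).app L ≪≫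
        ((Scheme.Modules.pullbackComp i Z.subschemeι).app L).symm) hA
    · haveI := hj
      haveI := hC
      obtain ⟨e⟩ := VarBase.nonempty_pullback_tensorPow Z.subschemeι L n
      exact Growth22.finite_of_triv_of_strictlyNef hL hnef C (j ≫ Z.subschemeι) hn
        (H23.TrivBasic.Triv.of_iso ((Scheme.Modules.pullback j).mapIso e.symm ≪≫
          (Scheme.Modules.pullbackComp j Z.subschemeι).app _) htriv)

end Groth.Agent.S16711
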