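import Groth.Statements.S16712
import Groth.Agent.Growth22.CurveNef
import Groth.Agent.S17287
-- import your own Groth.Agent.* helpers here

set_option autoImplicit false
universe u
open CategoryTheory CategoryTheory.Limits AlgebraicGeometry TopologicalSpace
open Variety

namespace Groth.Agent.S16712

set_option linter.style.haveILetI false
set_option linter.unusedSectionVars false
set_option maxHeartbeats 1000000
set_option backward.isDefEq.respectTransparency false
set_option backward.isDefEq.respectTransparency.types false
open scoped Groth.Agent.H23.PicMul in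
/-- Let X and X' be proper schemes over a field k, f : X' → X a surjective k-morphism and L an
invertible O_X-module. Then L is nef, meaning χ(O_C ⊗ L) - χ(O_C) ≥ 0 for every integral closed
subscheme C ⊆ X of dimension one, if and only if the pullback f^*L is nef on X' in the same sense. -/
theorem result (k : Type u) [Field k] (X X' : Scheme.{u})
    [X.Over (Spec (CommRingCat.of k))] [IsProper (X ↘ (Spec (CommRingCat.of k)))]
    [X'.Over (Spec (CommRingCat.of k))] [IsProper (X' ↘ (Spec (CommRingCat.of k)))]
    (f : X' ⟶ X) (hf : f ≫ (X ↘ (Spec (CommRingCat.of k))) = X' ↘ (Spec (CommRingCat.of k)))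
    [Surjective f] (L : X.Modules) (hL : PicF.IsInvertible L) :
    (∀ C : X.IdealSheafData, IsIntegral C.subscheme →
        topologicalKrullDim (C.support : Set X) = 1 →
          0 ≤ Curv2.euler k X (CohB1.tensorMod (ClSub.quotMod C) L) - Curv2.euler k X (ClSub.quotMod C)) ↔
      (∀ C' : X'.IdealSheafData, IsIntegral C'.subscheme →
        topologicalKrullDim (C'.support : Set X') = 1 →
          0 ≤ Curv2.euler k X' (CohB1.tensorMod (ClSub.quotMod C') ((Scheme.Modules.pullback f).obj L)) -
            Curv2.euler k X' (ClSub.quotMod C')) := by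
  refine ⟨fun h C' hC' hdim => ?_, fun h C hC hdim => ?_⟩
  · letI := Growth22.subOver k C'
    haveI := hC'
    haveI := Growth22.isProper_sub (k := k) C'
    rw [Growth22.euler_quot_eq_deg C' (PicClLib.isInvertible_pullback f hL)]
    exact le_of_le_of_eq (Growth22.deg_pullback_nonneg hL h ((Growth22.dim_sub C').trans hdim) (C'.subschemeι ≫ f)
      (by rw [Category.assoc, hf]; rfl))
      (CurveRR.deg_congr (k := k) ((Scheme.Modules.pullbackComp C'.subschemeι f).app L) 1).symm
  · haveI := hC
    obtain ⟨C', hC', hdim', himg⟩ := S17287.result k X X' f hf C hdim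
    letI := Growth22.subOver k C
    letI := Growth22.subOver k C'
    haveI := hC'
    haveI := Growth22.isProper_sub (k := k) C
    haveI := Growth22.isProper_sub (k := k) C'
    obtain ⟨t, ht⟩ := Growth22.exists_factor_closed C.subschemeι (C'.subschemeι ≫ f) (by
      rintro _ ⟨z, rfl⟩
      rw [Scheme.IdealSheafData.range_subschemeι, ← himg]
      exact ⟨C'.subschemeι z, (Scheme.IdealSheafData.range_subschemeι C').le ⟨z, rfl⟩, rfl⟩)
    haveI : Surjective t := ⟨fun c => by
      obtain ⟨y, hy, hyc⟩ := himg.ge ((Scheme.IdealSheafData.range_subschemeι C).le ⟨c, rfl⟩)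
      obtain ⟨z, hz⟩ := (Scheme.IdealSheafData.range_subschemeι C').ge hy
      refine ⟨z, C.subschemeι.isClosedEmbedding.injective ?_⟩
      rw [← hyc, ← hz]
      exact congrArg (fun φ : C'.subscheme ⟶ X => φ z) ht⟩
    obtain ⟨d, hd, hdeg⟩ := Growth22.exists_deg_pullback_eq ((Growth22.dim_sub C').trans hdim')
      ((Growth22.dim_sub C).trans hdim) t
      (show t ≫ C.subschemeι ≫ (X ↘ Spec (CommRingCat.of k)) = _ by
        rw [reassoc_of% ht, hf]; rfl)
    have h1 := h C' hC' hdim'
    rw [Growth22.euler_quot_eq_deg C' (PicClLib.isInvertible_pullback f hL)] at h1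
    rw [Growth22.euler_quot_eq_deg C hL]
    have e : (Scheme.Modules.pullback t).obj ((Scheme.Modules.pullback C.subschemeι).obj L) ≅
        (Scheme.Modules.pullback C'.subschemeι).obj ((Scheme.Modules.pullback f).obj L) :=
      (Scheme.Modules.pullbackComp t C.subschemeι).app L ≪≫
        (Scheme.Modules.pullbackCongr ht).app L ≪≫ ((Scheme.Modules.pullbackComp C'.subschemeι f).app L).symm
    rw [← CurveRR.deg_congr (k := k) e 1, hdeg _ (PicClLib.isInvertible_pullback _ hL)] at h1
    exact nonneg_of_mul_nonneg_right h1 (by exact_mod_cast hd)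

end Groth.Agent.S16712
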