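import Groth.Statements.S16742
import Mathlib
import Groth.Agent.SGA1Q.FlatNilp

set_option autoImplicit false
universe u
open CAlg

namespace Groth.Agent.S16742

/-- The annihilator property of a scalar passes to flat algebras. -/
theorem mul_eq_zero_exact {R B : Type*} [CommRing R] [CommRing B] [Algebra R B] [Module.Flat R B]
    (r : R) (hr : Function.Exact (LinearMap.mulLeft R r) (LinearMap.mulLeft R r))
    (b : B) (hb : algebraMap R B r * b = 0) : ∃ c, b = algebraMap R B r * c := by
  have he : ∀ x, TensorProduct.rid R B ((LinearMap.mulLeft R r).lTensor B x) =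
      algebraMap R B r * TensorProduct.rid R B x := by
    intro x
    induction x using TensorProduct.induction_on with
    | zero => simp
    | tmul b s => simp [Algebra.smul_def]; ring
    | add x y hx hy => simp only [map_add, hx, hy, mul_add]
  have h := Module.Flat.lTensor_exact B hr ((TensorProduct.rid R B).symm b)
  obtain ⟨x, hx⟩ := h.mp ((TensorProduct.rid R B).injective (by
    rw [he, LinearEquiv.apply_symm_apply, hb, map_zero]))
  exact ⟨TensorProduct.rid R B x, by rw [← he, hx, LinearEquiv.apply_symm_apply]⟩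

open scoped TensorProduct in
theorem flat_iff (p : ℕ) [Fact p.Prime]
    (Al : Type u) [CommRing Al] [Algebra (ZMod (p ^ 2)) Al] [Module.Flat (ZMod (p ^ 2)) Al]
    (Bl : Type u) [CommRing Bl] [Algebra Al Bl]
    (hB : Module.Flat (Al ⧸ Ideal.span {(p : Al)})
      (Bl ⧸ (Ideal.span {(p : Al)}).map (algebraMap Al Bl))) :
    Module.Flat Al Bl ↔ ∀ b : Bl, (p : Bl) * b = 0 → b ∈ Ideal.span {(p : Bl)} := by
  have hp0 : 0 < p := (Fact.out : p.Prime).pos
  haveI : NeZero (p ^ 2) := ⟨by positivity⟩
  have hpp : (p : ZMod (p ^ 2)) * p = 0 := by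
    rw [← Nat.cast_mul, ← pow_two, ZMod.natCast_self]
  have hexZ : Function.Exact (LinearMap.mulLeft (ZMod (p ^ 2)) (p : ZMod (p ^ 2)))
      (LinearMap.mulLeft (ZMod (p ^ 2)) (p : ZMod (p ^ 2))) := by
    intro x
    simp only [LinearMap.mulLeft_apply, Set.mem_range]
    refine ⟨fun hx => ?_, ?_⟩
    · obtain ⟨n, rfl⟩ := ZMod.natCast_zmod_surjective (n := p ^ 2) x
      rw [← Nat.cast_mul, ZMod.natCast_eq_zero_iff, pow_two] at hx
      obtain ⟨d, rfl⟩ := (Nat.mul_dvd_mul_iff_left hp0).mp hx
      exact ⟨d, by push_cast; ring⟩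
    · rintro ⟨y, rfl⟩
      rw [← mul_assoc, hpp, zero_mul]
  have hexA : Function.Exact (LinearMap.mulLeft Al (p : Al)) (LinearMap.mulLeft Al (p : Al)) := by
    intro x
    simp only [LinearMap.mulLeft_apply, Set.mem_range]
    refine ⟨fun hx => ?_, ?_⟩
    · obtain ⟨c, hc⟩ := mul_eq_zero_exact _ hexZ x (by rwa [map_natCast])
      exact ⟨c, by rw [hc, map_natCast]⟩
    · rintro ⟨y, rfl⟩
      rw [← mul_assoc, ← map_natCast (algebraMap (ZMod (p ^ 2)) Al), ← map_mul, hpp, map_zero, zero_mul]
  constructor
  · intro _ b hb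
    obtain ⟨c, hc⟩ := mul_eq_zero_exact _ hexA b (by rwa [map_natCast])
    rw [map_natCast] at hc
    exact Ideal.mem_span_singleton.mpr ⟨c, hc⟩
  · intro htor
    set I : Ideal Al := Ideal.span {(p : Al)} with hI
    refine SGA1Q.flat_of_isNilpotent I Bl ⟨2, ?_⟩ ?_ ?_
    · rw [hI, Ideal.span_singleton_pow, Ideal.zero_eq_bot, Ideal.span_singleton_eq_bot,
        ← map_natCast (algebraMap (ZMod (p ^ 2)) Al), pow_two, ← map_mul, hpp, map_zero]
    · rw [injective_iff_map_eq_zero]
      intro z hz
      have hform : ∀ z : I ⊗[Al] Bl, ∃ b : Bl,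
          z = (⟨(p : Al), Ideal.mem_span_singleton_self _⟩ : I) ⊗ₜ[Al] b := by
        intro z
        induction z using TensorProduct.induction_on with
        | zero => exact ⟨0, by rw [TensorProduct.tmul_zero]⟩
        | tmul a b =>
          obtain ⟨a, ha⟩ := a
          obtain ⟨c, rfl⟩ := Ideal.mem_span_singleton'.mp ha
          refine ⟨c • b, ?_⟩
          rw [← TensorProduct.smul_tmul]
          exact congrArg (· ⊗ₜ[Al] b) (Subtype.ext rfl)
        | add x y hx hy =>
          obtain ⟨b, rfl⟩ := hx
          obtain ⟨b', rfl⟩ := hy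
          exact ⟨b + b', by rw [TensorProduct.tmul_add]⟩
      obtain ⟨b, rfl⟩ := hform z
      have hb : (p : Bl) * b = 0 := by
        have := congrArg (TensorProduct.lid Al Bl) hz
        rw [map_zero, LinearMap.rTensor_tmul, TensorProduct.lid_tmul] at this
        rw [← map_natCast (algebraMap Al Bl), ← Algebra.smul_def]
        exact this
      obtain ⟨c, rfl⟩ := Ideal.mem_span_singleton.mp (htor b hb)
      rw [← map_natCast (algebraMap Al Bl), ← Algebra.smul_def, ← TensorProduct.smul_tmul]
      convert TensorProduct.zero_tmul (↥I) c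
      refine Subtype.ext ?_
      show (p : Al) * p = 0
      rw [← map_natCast (algebraMap (ZMod (p ^ 2)) Al), ← map_mul, hpp, map_zero]
    · haveI : Module.Flat (Al ⧸ I) ((Al ⧸ I) ⊗[Al] Bl) :=
        Module.Flat.of_linearEquiv (LinearEquiv.extendScalarsOfSurjective (R := Al) (S := Al ⧸ I)
          Ideal.Quotient.mk_surjective
          ((TensorProduct.quotTensorEquivQuotSMul Bl I).trans
            ((Submodule.quotEquivOfEq _ _ (Ideal.smul_top_eq_map I)).trans
              (Submodule.Quotient.restrictScalarsEquiv Al (I.map (algebraMap Al Bl))))))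
      exact SGA1Q.keepsInjective_of_flat I Bl


/-- The equivalence in affine form, with flatness of the reduction in place of smoothness. Let p be a
prime, A~ a commutative ring flat over Z/p^2 and B~ an A~-algebra such that B~/pB~ is flat over
A~/pA~. Then B~ is flat over A~ if and only if every element of B~ killed by p is a multiple of p;
equivalently multiplication by p identifies B~/pB~ with pB~. (The published statement assumes the
reduction smooth over A~/pA~ and the schemes noetherian, and phrases (b) as B~ being a lifting, that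
is flat over A~; the statement here assumes only that the reduction is flat, where the equivalence
still holds by the local flatness criterion for the square-zero ideal generated by p.) -/
theorem result (p : ℕ) [Fact p.Prime]
    (Al : Type u) [CommRing Al] [Algebra (ZMod (p ^ 2)) Al] [Module.Flat (ZMod (p ^ 2)) Al]
    (Bl : Type u) [CommRing Bl] [Algebra Al Bl]
    (hB : Module.Flat (Al ⧸ Ideal.span {(p : Al)})
      (Bl ⧸ (Ideal.span {(p : Al)}).map (algebraMap Al Bl))) :
    Module.Flat Al Bl ↔ ∀ b : Bl, (p : Bl) * b = 0 → b ∈ Ideal.span {(p : Bl)} := by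
  exact flat_iff p Al Bl hB

end Groth.Agent.S16742
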