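import Groth.Statements.S16744
import Groth.Agent.DRHyp.LogCartier
-- import your own Groth.Agent.* helpers here

set_option autoImplicit false
universe u
open DeRham

namespace Groth.Agent.S16744

open Groth.Agent.DRHyp MvPolynomial in
/-- The exponent turning a standard generator into a Cartier generator. -/
noncomputable def cw (p n r : ℕ) (R : Type u) [CommRing R] (ν : Fin n) : MvPolynomial (Fin n) R :=
  if (ν : ℕ) < r then 1 else X ν ^ (p - 1)

open exteriorPower in
/-- The case of affine n-space over an affine base of characteristic p with boundary divisor t_1⋯t_r =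
0, all degrees. Let p be a prime, R a commutative ring with p = 0 in R, B = R[t_1, …, t_n] and r ≤
n. Let (L, ι, dl) be the module of differentials of B over R with logarithmic poles along t_1, …,
t_r, pinned by its defining properties (t_i · dl_i = ι(dt_i); ι(Ω_{B/R}) and the dl_i generate; no
(t_1⋯t_r)-torsion; the kernel of ι is the (t_1⋯t_r)-power torsion), and let d be the logarithmic de
Rham differential on the exterior powers of L (the de Rham rule for ι ∘ d together with d(dl_i) = 0,
and d ∘ d = 0). Put w_ν = dl_ν for ν < r and w_ν = ι(t_ν^{p-1} dt_ν) for ν ≥ r (indices from 0), and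
for an a-element set s of indices let e_s be the wedge of the w_ν, ν ∈ s, in increasing order. Then
an a-form with logarithmic poles is closed exactly when it is an exact form plus a combination Σ_s
g_s(t_1^p, …, t_n^p) · e_s with coefficients polynomials in the p-th powers of the variables, and
such a combination is exact only if every g_s vanishes: the a-th cohomology of the logarithmic de
Rham complex of affine n-space is free over R[t_1^p, …, t_n^p] on the classes of the e_s. -/
theorem result (p : ℕ) [Fact p.Prime]
    (R : Type u) [CommRing R] [CharP R p] (n r a : ℕ) (hr : r ≤ n)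
    (L : Type u) [AddCommGroup L] [Module (MvPolynomial (Fin n) R) L] [Module R L]
    [IsScalarTower R (MvPolynomial (Fin n) R) L]
    (ι : (Ω[MvPolynomial (Fin n) R⁄R]) →ₗ[MvPolynomial (Fin n) R] L) (dl : Fin r → L)
    (hL : LogDiff.IsLog (KaehlerDifferential.D R (MvPolynomial (Fin n) R))
      (fun i : Fin r => (MvPolynomial.X (Fin.castLE hr i) : MvPolynomial (Fin n) R)) ι dl)
    (d : ∀ q : ℕ, ↥(⋀[MvPolynomial (Fin n) R]^q L) →ₗ[R] ↥(⋀[MvPolynomial (Fin n) R]^(q + 1) L))
    (hd : DeRham.IsDiff (ι.compDer (KaehlerDifferential.D R (MvPolynomial (Fin n) R))) d)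
    (hlog : LogDiff.IsLogRule (KaehlerDifferential.D R (MvPolynomial (Fin n) R)) ι dl d)
    (w : Fin n → L) (hw : ∀ i : Fin r, w (Fin.castLE hr i) = dl i)
    (hw' : ∀ ν : Fin n, r ≤ (ν : ℕ) → w ν = ι (((MvPolynomial.X ν : MvPolynomial (Fin n) R) ^ (p - 1)) •
      KaehlerDifferential.D R (MvPolynomial (Fin n) R) (MvPolynomial.X ν)))
    (e : Finset (Fin n) → ↥(⋀[MvPolynomial (Fin n) R]^a L))
    (he : ∀ (s : Finset (Fin n)) (hs : s.card = a),
      e s = exteriorPower.ιMulti (MvPolynomial (Fin n) R) a (fun j => w (s.orderEmbOfFin hs j))) :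
    (∀ ω, ω ∈ DeRham.cocycles d a ↔
      ∃ (g : Finset (Fin n) → MvPolynomial (Fin n) R) (η : ↥(⋀[MvPolynomial (Fin n) R]^a L)),
        η ∈ DeRham.coboundaries d a ∧
          ω = η + ∑ s ∈ Finset.powersetCard a Finset.univ, MvPolynomial.expand p (g s) • e s) ∧
    (∀ g : Finset (Fin n) → MvPolynomial (Fin n) R,
      (∑ s ∈ Finset.powersetCard a Finset.univ, MvPolynomial.expand p (g s) • e s) ∈ DeRham.coboundaries d a →
        ∀ s ∈ Finset.powersetCard a (Finset.univ : Finset (Fin n)), g s = 0) := by
  classical
  open Groth.Agent.DRHyp MvPolynomial in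
  have hp : p.Prime := Fact.out
  have hp2 := hp.two_le
  have hlog' := hlog
  let B := MvPolynomial (Fin n) R
  let bL := LogCartier.basisL hr hL
  let U : ∀ (s : Finset (Fin n)), s.card = a → ↥(⋀[B]^a L) := fun s hs =>
    LogCartier.U ι dl (fun k => s.orderEmbOfFin hs k)
  let C : Finset (Fin n) → B := fun s => ∏ ν ∈ s, cw p n r R ν
  have hwu : ∀ ν, w ν = cw p n r R ν • LogCartier.uL ι dl ν := fun ν => by
    by_cases h : (ν : ℕ) < r
    · rw [cw, if_pos h, one_smul, LogCartier.uL, dif_pos h]
      exact hw ⟨ν, h⟩
    · rw [cw, if_neg h, LogCartier.uL, dif_neg h, hw' ν (not_lt.1 h), map_smul]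
  have heU : ∀ (s : Finset (Fin n)) (hs : s.card = a), e s = C s • U s hs := fun s hs => by
    rw [he s hs, show C s = ∏ k, cw p n r R (s.orderEmbOfFin hs k) from ?_]
    · simp only [hwu]
      exact AlternatingMap.map_smul_univ _ _ _
    · show ∏ ν ∈ s, cw p n r R ν = _
      exact (Finset.prod_congr (Finset.map_orderEmbOfFin_univ s hs).symm fun _ _ => rfl).trans
        (Finset.prod_map Finset.univ (s.orderEmbOfFin hs).toEmbedding (cw p n r R))
  have hcnt : ∀ (i : Fin n) (s : Finset (Fin n)) (hs : s.card = a),
      LogCartier.cnt r i (fun k => s.orderEmbOfFin hs k) = if i ∈ s ∧ ¬ (i : ℕ) < r then 1 else 0 := fun i s hs => by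
    have := (Finset.sum_map Finset.univ (s.orderEmbOfFin hs).toEmbedding
      (fun ν => if ν = i ∧ ¬ (i : ℕ) < r then 1 else 0)).symm
    rw [Finset.map_orderEmbOfFin_univ] at this
    refine this.trans ?_
    by_cases hi : (i : ℕ) < r <;> simp [hi]
  have hshift : ∀ (β : Fin n →₀ ℕ) (t : R) (s : Finset (Fin n)) (hs : s.card = a),
      ∃ α : Fin n →₀ ℕ, expand p (monomial β t) • e s = monomial α t • U s hs ∧
        ∀ i, (LogCartier.wt r i α (fun k => s.orderEmbOfFin hs k) : ZMod p) = 0 := fun β t s hs => by
    let γ : Fin n →₀ ℕ := Finsupp.equivFunOnFinite.symm fun i => if i ∈ s ∧ ¬ (i : ℕ) < r then p - 1 else 0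
    have hC : C s = monomial γ (1 : R) := by
      rw [monomial_eq, C_1, one_mul, Finsupp.prod_fintype _ _ (fun _ => pow_zero _), ← Finset.prod_subset
        (Finset.subset_univ s) (fun i _ hi => by simp [γ, hi])]
      refine Finset.prod_congr rfl fun i hi => ?_
      by_cases h : (i : ℕ) < r <;> simp [γ, cw, hi, h]
    refine ⟨p • β + γ, ?_, fun i => ?_⟩
    · rw [heU s hs, smul_smul, hC, expand_monomial, monomial_mul, mul_one]
    · rw [LogCartier.wt, hcnt]
      by_cases h : i ∈ s ∧ ¬ (i : ℕ) < r
      · rw [if_pos h]
        simp only [Finsupp.add_apply, Finsupp.smul_apply, smul_eq_mul, γ, Finsupp.equivFunOnFinite_symm_apply_apply,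
          if_pos h]
        rw [add_assoc, Nat.sub_add_cancel hp.one_le]
        simp
      · rw [if_neg h]
        simp only [Finsupp.add_apply, Finsupp.smul_apply, smul_eq_mul, γ, Finsupp.equivFunOnFinite_symm_apply_apply,
          if_neg h]
        simp
  let T : (Finset (Fin n) → B) → ↥(⋀[B]^a L) := fun g =>
    ∑ s ∈ Finset.powersetCard a Finset.univ, expand p (g s) • e s
  let pr := LogCartier.projs hr hL d p (List.finRange n) a
  have hfix : ∀ g : B, ∀ s ∈ Finset.powersetCard a (Finset.univ : Finset (Fin n)),
      d a (expand p g • e s) = 0 ∧ pr (expand p g • e s) = expand p g • e s := by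
    intro g s hs
    have hs' := (Finset.mem_powersetCard.1 hs).2
    induction g using MvPolynomial.induction_on' with
    | monomial β t =>
      obtain ⟨α, hα, hwt⟩ := hshift β t s hs'
      rw [hα]
      refine ⟨LogCartier.d_monomial_eq_zero hr hL d hlog p α t hwt, ?_⟩
      refine (LogCartier.projs_monomial hr hL d hlog p (List.finRange n) α t _).trans ?_
      rw [if_pos fun i _ => hwt i, one_smul]
    | add g g' hg hg' =>
      rw [map_add, add_smul, map_add, map_add, hg.1, hg'.1, hg.2, hg'.2, add_zero]
      exact ⟨rfl, rfl⟩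
  have hTcl : ∀ g, d a (T g) = 0 := fun g => by
    rw [map_sum]
    exact Finset.sum_eq_zero fun s hs => (hfix _ s hs).1
  have hprT : ∀ g, pr (T g) = T g := fun g => by
    rw [map_sum]
    exact Finset.sum_congr rfl fun s hs => (hfix _ s hs).2
  have himg : ∀ x, ∃ g, pr x = T g := by
    intro x
    induction x using LogCartier.gen_induction hr hL with
    | h0 => exact ⟨0, by simp [T]⟩
    | hadd x y hx hy =>
      obtain ⟨g, hg⟩ := hx
      obtain ⟨g', hg'⟩ := hy
      exact ⟨g + g', by simp only [T, map_add, hg, hg', Pi.add_apply, add_smul, Finset.sum_add_distrib]⟩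
    | hgen α t s hs =>
      rw [show pr _ = _ from LogCartier.projs_monomial hr hL d hlog p (List.finRange n) α t _]
      by_cases hw0 : ∀ i ∈ List.finRange n, (LogCartier.wt r i α (fun k => s.orderEmbOfFin hs k) : ZMod p) = 0
      · rw [if_pos hw0, one_smul]
        have hdiv : ∀ i, p ∣ α i + (if i ∈ s ∧ ¬ (i : ℕ) < r then 1 else 0) := fun i => by
          have := hw0 i (List.mem_finRange i)
          rw [LogCartier.wt, hcnt] at this
          exact (ZMod.natCast_eq_zero_iff _ _).1 this
        let γ : Fin n →₀ ℕ := Finsupp.equivFunOnFinite.symm fun i => if i ∈ s ∧ ¬ (i : ℕ) < r then p - 1 else 0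
        let β : Fin n →₀ ℕ := Finsupp.equivFunOnFinite.symm fun i => (α i - γ i) / p
        refine ⟨fun s' => if s' = s then monomial β t else 0, ?_⟩
        show _ = ∑ s' ∈ Finset.powersetCard a Finset.univ, expand p (if s' = s then monomial β t else 0) • e s'
        rw [Finset.sum_eq_single s (fun s' _ h => by rw [if_neg h, map_zero, zero_smul])
          (fun h => absurd (Finset.mem_powersetCard.2 ⟨Finset.subset_univ s, hs⟩) h), if_pos rfl, heU s hs,
          smul_smul]
        refine congrArg (· • U s hs) ?_
        have hC : C s = monomial γ (1 : R) := by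
          rw [monomial_eq, C_1, one_mul, Finsupp.prod_fintype _ _ (fun _ => pow_zero _), ← Finset.prod_subset
            (Finset.subset_univ s) (fun i _ hi => by simp [γ, hi])]
          refine Finset.prod_congr rfl fun i hi => ?_
          by_cases h : (i : ℕ) < r <;> simp [γ, cw, hi, h]
        rw [hC, expand_monomial, monomial_mul, mul_one]
        congr 2
        ext i
        have hd' := hdiv i
        by_cases h : i ∈ s ∧ ¬ (i : ℕ) < r
        · rw [if_pos h] at hd'
          obtain ⟨c, hc⟩ := hd'
          have hc0 : c ≠ 0 := fun h0 => by rw [h0, mul_zero] at hc; omega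
          obtain ⟨c, rfl⟩ := Nat.exists_eq_succ_of_ne_zero hc0
          rw [Nat.mul_succ] at hc
          have hα : α i = p * c + (p - 1) := by omega
          simp only [Finsupp.add_apply, Finsupp.smul_apply, smul_eq_mul, β, γ,
            Finsupp.equivFunOnFinite_symm_apply_apply, if_pos h, hα, Nat.add_sub_cancel,
            Nat.mul_div_cancel_left c hp.pos]
        · rw [if_neg h, add_zero] at hd'
          simp only [Finsupp.add_apply, Finsupp.smul_apply, smul_eq_mul, β, γ,
            Finsupp.equivFunOnFinite_symm_apply_apply, if_neg h, Nat.sub_zero, add_zero]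
          exact (Nat.mul_div_cancel' hd').symm
      · exact ⟨0, by rw [if_neg hw0, zero_smul]; simp [T]⟩
  refine ⟨fun ω => ⟨fun hω => ?_, ?_⟩, fun g hg => ?_⟩
  · obtain ⟨g, hg⟩ := himg ω
    refine ⟨g, ω - pr ω, LogCartier.sub_projs_mem hr hL d hd.2 hp2 _ a ω hω, ?_⟩
    rw [show ∑ s ∈ Finset.powersetCard a Finset.univ, expand p (g s) • e s = pr ω from hg.symm, sub_add_cancel]
  · rintro ⟨g, η, hη, rfl⟩
    refine Submodule.add_mem _ ?_ (hTcl g)
    cases a with
    | zero => rw [(Submodule.mem_bot R).1 hη]; exact zero_mem _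
    | succ a =>
      obtain ⟨θ, rfl⟩ := hη
      exact congr($(hd.2 a) θ)
  · have hT0 : T g = 0 := by
      rw [← hprT g]
      cases a with
      | zero =>
        have h0 : T g = 0 := (Submodule.mem_bot R).1 hg
        rw [h0, map_zero]
      | succ a =>
        obtain ⟨θ, hθ⟩ := hg
        rw [show T g = _ from hθ.symm]
        show LogCartier.projs hr hL d p _ (a + 1) (d a θ) = 0
        rw [← LogCartier.d_projs hr hL d hd.2]
        clear hθ
        induction θ using LogCartier.gen_induction hr hL with
        | h0 => simp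
        | hadd x y hx hy => rw [map_add, map_add, hx, hy, add_zero]
        | hgen α t s hs =>
          rw [LogCartier.projs_monomial hr hL d hlog p (List.finRange n) α t _]
          split_ifs with hw0
          · rw [one_smul]
            exact LogCartier.d_monomial_eq_zero hr hL d hlog p α t fun i => hw0 i (List.mem_finRange i)
          · rw [zero_smul, map_zero]
    intro s hs
    have hs' := (Finset.mem_powersetCard.1 hs).2
    let bb := bL.exteriorPower (n := a)
    have hbb : ∀ (s' : Finset (Fin n)) (h : s'.card = a), U s' h = bb ⟨s', h⟩ := fun s' h => by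
      rw [exteriorPower.basis_apply, exteriorPower.ιMulti_family]
      exact congrArg (ιMulti B a) (funext fun k => (LogCartier.basisL_apply hr hL _).symm)
    have hsum : ∑ s' : Set.powersetCard (Fin n) a, (expand p (g s'.1) * C s'.1) • bb s' = 0 := by
      rw [← hT0]
      refine (Finset.sum_bij (fun s' h => ⟨s', (Finset.mem_powersetCard.1 h).2⟩) (fun _ _ => Finset.mem_univ _)
        (fun _ _ _ _ h => congrArg Subtype.val h)
        (fun s' _ => ⟨s'.1, Finset.mem_powersetCard.2 ⟨Finset.subset_univ _, s'.2⟩, rfl⟩) fun s' h => ?_).symm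
      rw [← hbb, heU s' (Finset.mem_powersetCard.1 h).2, smul_smul]
    have h0 := Fintype.linearIndependent_iff.1 bb.linearIndependent _ hsum ⟨s, hs'⟩
    suffices hreg : ∀ (t : Finset (Fin n)) (x : B), x * (∏ ν ∈ t, cw p n r R ν) = 0 → x = 0 from
      (injective_iff_map_eq_zero (expand p (R := R) (σ := Fin n))).1 (expand_injective hp.pos) _ (hreg s _ h0)
    intro t
    induction t using Finset.induction_on with
    | empty => simp
    | insert i t hi ih =>
      intro x hx
      rw [Finset.prod_insert hi, ← mul_assoc] at hx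
      have h1 := ih _ hx
      unfold cw at h1
      split_ifs at h1 with h
      · simpa using h1
      · exact LogCartier.eq_zero_of_pow_mul (fun y => LogCartier.eq_zero_of_mul_X) _ (by rw [mul_comm]; exact h1)

end Groth.Agent.S16744
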