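import Groth.Statements.S16775
-- import your own Groth.Agent.* helpers here
import Groth.Agent.SgaFix20.Extension
import Groth.Agent.SgaFix20.Commutator
import Groth.Agent.SgaFix20.CentralTorus
import Groth.Agent.SgaFix20.DSProd
import Groth.Agent.SgaFix20.MultTypeLfp
import Groth.Agent.HomAff19.Global
import Groth.Agent.S5255


set_option autoImplicit false
open CategoryTheory MonoidalCategory CartesianMonoidalCategory MonObj GrpObj AlgebraicGeometry
universe u
open SGA3x

namespace Groth.Agent.S16775

/-- Let G be a smooth affine group scheme with connected fibres over a scheme S, H ⊆ G a normal subgroup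
scheme of multiplicative type (of finite type), G → Q = G/H the quotient, and H' ⊆ Q a central
subgroup scheme of multiplicative type (of finite type). Then the preimage of H' in G is a central
subgroup scheme of G of multiplicative type. -/
theorem result {S : Scheme.{u}} {G H Q H' P : Over S}
    [GrpObj G] [GrpObj H] [GrpObj Q] [GrpObj H'] [GrpObj P]
    (hG : Smooth G.hom) (hGa : IsAffineHom G.hom) (hconn : ∀ s : S, _root_.IsConnected (G.hom.base ⁻¹' {s}))
    (i : H ⟶ G) [IsMonHom i] [Mono i] (hH : SGA3x.IsMultTypeFT H) (hHn : AlgGrp.IsNormalHom i)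
    (q : G ⟶ Q) [IsMonHom q] (hq : RedSub.IsQuotient i q) (hker : AlgGrp.IsKernel i q)
    (j : H' ⟶ Q) [IsMonHom j] [Mono j] (hH' : SGA3x.IsMultTypeFT H')
    (hcenH' : ∀ (X : Over S) (x : X ⟶ H') (g : X ⟶ Q), (x ≫ j) * g = g * (x ≫ j))
    (i' : P ⟶ G) [IsMonHom i'] (p : P ⟶ H') (hP : IsPullback i' p q j) :
    SGA3x.IsMultTypeFT P ∧ ∀ (X : Over S) (x : X ⟶ P) (g : X ⟶ G), (x ≫ i') * g = g * (x ≫ i') := by
  haveI := hG
  haveI := hGa
  obtain ⟨hqs, hqf, hqfp, -⟩ := id hq
  haveI := hqs
  haveI := hqf
  haveI := hqfp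
  have hconn' : ∀ s : S, ConnectedSpace ↥(Limits.pullback G.hom (S.fromSpecResidueField s)) := fun s => by
    haveI := isConnected_iff_connectedSpace.mp (hconn s)
    exact (G.hom.fiberHomeo s).symm.surjective.connectedSpace (G.hom.fiberHomeo s).symm.continuous
  have hcenH : ∀ (X : Over S) (h : X ⟶ H) (g : X ⟶ G), Commute (h ≫ i) g := fun X h g =>
    (S5255.result G H hconn' i hH hHn X g h).symm
  haveI : Mono i' := ⟨fun a b e => hP.hom_ext e (by
    rw [← cancel_mono j, Category.assoc, Category.assoc, ← hP.w, ← Category.assoc, e, Category.assoc])⟩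
  haveI : IsMonHom p := SgaFix20.isMonHom_of_mul p fun T a b => by
    rw [← cancel_mono j, Category.assoc, ← hP.w, ← Category.assoc, MonObj.mul_comp, MonObj.mul_comp, MonObj.mul_comp]
    simp only [Category.assoc, hP.w]
  have hpcov : FpqcDescLib.Covers p.left :=
    (SgaFix20.covers_of_isQuotient hq).over_pullback j p i' hP.flip
  have hkill : ∀ (X : Over S) (a : X ⟶ G), a ≫ q = 1 → ∀ g : X ⟶ G, Commute a g := fun X a ha g => by
    obtain ⟨h, rfl⟩ := AbSchX.KerPts.exists_lift hker a ha
    exact hcenH X h g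
  obtain ⟨d, hd, hdm⟩ := SgaFix20.exists_pairing i' p hpcov (𝟙 G)
    (fun X x x' b e => hkill X _ (by
      rw [Category.assoc, hP.w, ← Category.assoc, MonObj.mul_comp, GrpObj.inv_comp, e, inv_mul_cancel, MonObj.one_comp]) _)
    (fun X a y b => (hkill X _ (by
      simp only [MonObj.mul_comp, GrpObj.inv_comp, Category.assoc, Category.comp_id, hP.w]
      rw [← Category.assoc, hcenH' X (y ≫ p) (b ≫ q), mul_inv_cancel_right, mul_inv_cancel]) a).symm)
  simp only [Category.comp_id] at hd
  haveI : LocallyOfFiniteType G.hom := inferInstance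
  have hone : d = 1 := by
    refine SgaFix20.BiHom.eq_one_of_connected hH' d hdm η[G] (fun X a => ?_) hconn
    haveI := hpcov.over_epi
    have h1 : lift (𝟙 H') (1 : H' ⟶ G) ≫ d = 1 := by
      rw [← cancel_epi p, MonObj.comp_one, comp_lift_assoc, Category.comp_id, MonObj.comp_one]
      have h := hd P (𝟙 P) 1
      rw [Category.id_comp] at h
      rw [h]
      group
    rw [← Hom.one_def]
    simpa only [comp_lift_assoc, MonObj.comp_one, Category.comp_id] using congrArg (a ≫ ·) h1
  have hcen : ∀ (X : Over S) (x : X ⟶ P) (g : X ⟶ G), (x ≫ i') * g = g * (x ≫ i') := fun X x g => by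
    have := hd X x g
    rw [hone, MonObj.comp_one, eq_comm, mul_inv_eq_one, mul_inv_eq_iff_eq_mul] at this
    exact this
  refine ⟨?_, hcen⟩
  haveI : IsCommMonObj P := isCommMonObj_iff_isMulCommutative P |>.mpr fun X => ⟨⟨fun a b => by
    rw [← cancel_mono i', MonObj.mul_comp, MonObj.mul_comp]
    exact hcen X a (b ≫ i')⟩⟩
  let iP : H ⟶ P := hP.lift i (toUnit H ≫ η[H']) (by rw [hker.w, Category.assoc, IsMonHom.one_hom j])
  have hiP : iP ≫ i' = i := hP.lift_fst _ _ _
  haveI : IsMonHom iP := SgaFix20.isMonHom_of_mul iP fun T a b => by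
    rw [← cancel_mono i', Category.assoc, hiP, MonObj.mul_comp, MonObj.mul_comp, Category.assoc, Category.assoc, hiP]
  haveI : Mono iP := ⟨fun a b e => by rw [← cancel_mono i, ← hiP, ← Category.assoc, e, Category.assoc]⟩
  have hkerP : AlgGrp.IsKernel iP p := AbSchX.KerPts.of_points
    (by rw [hP.lift_snd, Hom.one_def])
    fun x hx => by
      obtain ⟨h, hh⟩ := AbSchX.KerPts.exists_lift hker (x ≫ i') (by
        rw [Category.assoc, hP.w, ← Category.assoc, hx, MonObj.one_comp])
      exact ⟨h, by rw [← cancel_mono i', Category.assoc, hiP, hh]⟩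
  have hPl := hP.map (Over.forget S)
  haveI : Surjective p.left := MorphismProperty.of_isPullback hPl hqs
  haveI : Flat p.left := MorphismProperty.of_isPullback hPl hqf
  haveI : LocallyOfFinitePresentation p.left := MorphismProperty.of_isPullback hPl hqfp
  haveI := (TransLib.multTypeFT_essFree hH).1
  haveI := (TransLib.multTypeFT_essFree hH').1
  haveI := HomAff19.flat_multTypeFT hH'
  haveI := SgaFix20.MultTypeLfp.lfp hH'
  haveI : IsAffineHom p.left := SgaFix20.isAffineHom_of_kernel p hpcov hkerP
  haveI : IsAffineHom P.hom := by rw [← Over.w p]; infer_instance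
  haveI : Flat P.hom := by rw [← Over.w p]; infer_instance
  haveI : LocallyOfFinitePresentation P.hom := by rw [← Over.w p]; infer_instance
  exact SgaFix20.isMultTypeFT_of_comm_extension p iP hkerP hH hH'

end Groth.Agent.S16775
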