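import Groth.Statements.S16780
-- import your own Groth.Agent.* helpers here
import Groth.Agent.SgaFix20.Extension
import Groth.Agent.SgaFix20.Commutator
import Groth.Agent.SgaFix20.DSProd
import Groth.Agent.DSPtsLib.Basic
import Groth.Agent.GrpSchLib.MultTypeComm
import Groth.Agent.GrpSchLib.MultTypeLft


set_option autoImplicit false
open CategoryTheory MonoidalCategory CartesianMonoidalCategory MonObj GrpObj AlgebraicGeometry
universe u
open SGA3x

namespace Groth.Agent.S16780

/-- Points over the spectrum of a residue field commute if the fibre is commutative. -/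
theorem comm_of_fibre {S : Scheme.{u}} {H : Over S} [GrpObj H] {s : S}
    (hs : ∀ (X : Over (Spec (S.residueField s))) (a b : X ⟶ Red.bc (S.fromSpecResidueField s) H), a * b = b * a)
    {X : Over S} (r : X.left ⟶ Spec (S.residueField s)) (hr : r ≫ S.fromSpecResidueField s = X.hom)
    (a b : X ⟶ H) : a * b = b * a := by
  let g := S.fromSpecResidueField s
  let Y : Over (Spec (S.residueField s)) := Over.mk r
  let e : (Over.map g).obj Y ⟶ X := Over.homMk (𝟙 _) (by
    show 𝟙 X.left ≫ X.hom = r ≫ g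
    rw [Category.id_comp, hr])
  haveI : IsIso e.left := inferInstanceAs (IsIso (𝟙 X.left))
  haveI : IsIso ((Over.forget S).map e) := ‹IsIso e.left›
  haveI : IsIso e := isIso_of_reflects_iso e (Over.forget S)
  obtain ⟨a', ha⟩ := (DSPtsLib.theta_bijective (H := H) (Y := Y) g).2 (e ≫ a)
  obtain ⟨b', hb⟩ := (DSPtsLib.theta_bijective (H := H) (Y := Y) g).2 (e ≫ b)
  have h := congrArg (DSPtsLib.theta g) (hs Y a' b')
  rwa [DSPtsLib.theta_mul, DSPtsLib.theta_mul, ha, hb, ← MonObj.comp_mul, ← MonObj.comp_mul, cancel_epi] at h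

/-- Let 1 → H' → H → H'' → 1 be a short exact sequence of affine, flat, finitely presented group schemes
over a scheme S with H' and H'' of multiplicative type (of finite type). If every fibre H_s is
connected or commutative, then H is of multiplicative type. -/
theorem result {S : Scheme.{u}} (H' H H'' : Over S) [GrpObj H'] [GrpObj H] [GrpObj H'']
    (hHa : IsAffineHom H.hom) (hHfl : Flat H.hom) (hHfp : LocallyOfFinitePresentation H.hom)
    (p : H ⟶ H'') [IsMonHom p] [Surjective p.left] [Flat p.left] [QuasiCompact p.left]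
    (i : H' ⟶ H) [IsMonHom i] (hker : AlgGrp.IsKernel i p)
    (hH' : SGA3x.IsMultTypeFT H') (hH'' : SGA3x.IsMultTypeFT H'')
    (hfib : ∀ s : S, _root_.IsConnected (H.hom.base ⁻¹' {s}) ∨
      ∀ (X : Over (Spec (S.residueField s))) (a b : X ⟶ Red.bc (S.fromSpecResidueField s) H), a * b = b * a) :
    SGA3x.IsMultTypeFT H := by
  haveI := hHa
  haveI := hHfl
  haveI := hHfp
  haveI := GrpSchLib.MultTypeLft.lft hH'
  haveI := (TransLib.multTypeFT_essFree hH').1
  haveI := (TransLib.multTypeFT_essFree hH'').1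
  haveI := AbSchX.KerPts.mono hker
  have hpcov : FpqcDescLib.Covers p.left :=
    FpqcDescLib.covers_of_isCovering (FpqcDescLib.isCovering_of_quasiCompact p.left)
  have hc' : ∀ {X : Over S} (a b : X ⟶ H'), a * b = b * a := fun a b => GrpSchLib.MultTypeComm.points_comm hH' a b
  -- points of a commutative fibre commute
  have hcomm : ∀ (s : S), (∀ (X : Over (Spec (S.residueField s))) (a b : X ⟶ Red.bc (S.fromSpecResidueField s) H),
      a * b = b * a) → ∀ b : H.left, H.hom b = s → ∀ (X : Over S) (x : X ⟶ H) (q : X.left ⟶ Spec (H.left.residueField b)),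
      q ≫ H.left.fromSpecResidueField b = x.left → ∀ {Y : Over S} (f : Y ⟶ X) (a c : Y ⟶ H), a * c = c * a := by
    intro s hs b hb X x q hq Y f a c
    subst hb
    refine comm_of_fibre hs (f.left ≫ q ≫ Spec.map (H.hom.residueFieldMap b)) ?_ a c
    rw [Category.assoc, Category.assoc, Scheme.Hom.SpecMap_residueFieldMap_fromSpecResidueField, ← Category.assoc q, hq,
      Over.w x, Over.w f]
  -- the kernel is central
  have hlift : ∀ {X : Over S} (a : X ⟶ H') (b : X ⟶ H), ∃ a' : X ⟶ H', a' ≫ i = b * (a ≫ i) * b⁻¹ := fun a b =>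
    AbSchX.KerPts.exists_lift hker _ (by
      rw [MonObj.mul_comp, MonObj.mul_comp, GrpObj.inv_comp, Category.assoc, AbSchX.KerPts.comp_eq_one hker,
        MonObj.comp_one, _root_.mul_one, mul_inv_cancel])
  obtain ⟨conj, hconj⟩ := hlift (fst H' H) (snd H' H)
  let δ : H' ⊗ H ⟶ H' := conj * (fst H' H)⁻¹
  have hδ : ∀ {X : Over S} (a : X ⟶ H') (b : X ⟶ H), (lift a b ≫ δ) ≫ i = b * (a ≫ i) * b⁻¹ * (a ≫ i)⁻¹ := fun a b => by
    simp only [δ, MonObj.comp_mul, GrpObj.comp_inv, lift_fst, MonObj.mul_comp, GrpObj.inv_comp, Category.assoc, hconj]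
    simp only [← Category.assoc, lift_fst, lift_snd]
  have hδ1 : δ = 1 := by
    refine SgaFix20.BiHom.eq_one_of_fibres hH' δ (fun X a a' b => ?_) η[H] (fun X a => ?_) fun s => ?_
    · have e1 : Commute (b * (a' ≫ i) * b⁻¹ * (a' ≫ i)⁻¹) ((a ≫ i)⁻¹) := by
        rw [← hδ, ← GrpObj.inv_comp]
        show _ * _ = _ * _
        rw [← MonObj.mul_comp, ← MonObj.mul_comp, hc']
      rw [← cancel_mono i, MonObj.mul_comp _ _ i, hδ, hδ, hδ, MonObj.mul_comp, _root_.mul_inv_rev]
      calc b * (a ≫ i * a' ≫ i) * b⁻¹ * ((a' ≫ i)⁻¹ * (a ≫ i)⁻¹)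
          = b * (a ≫ i) * b⁻¹ * ((b * (a' ≫ i) * b⁻¹ * (a' ≫ i)⁻¹) * (a ≫ i)⁻¹) := by group
        _ = b * (a ≫ i) * b⁻¹ * ((a ≫ i)⁻¹ * (b * (a' ≫ i) * b⁻¹ * (a' ≫ i)⁻¹)) := by rw [e1.eq]
        _ = _ := by group
    · rw [← Hom.one_def, ← cancel_mono i, hδ, MonObj.one_comp]
      group
    · refine (hfib s).imp id fun hs b hb X x q hq a => ?_
      rw [← cancel_mono i, hδ, MonObj.one_comp, hcomm s hs b hb X x q hq (𝟙 X) x (a ≫ i), mul_inv_cancel_right,
        mul_inv_cancel]
  have hcen : ∀ (X : Over S) (a : X ⟶ H') (g : X ⟶ H), Commute (a ≫ i) g := fun X a g => by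
    have h := hδ a g
    rw [hδ1, MonObj.comp_one, MonObj.one_comp, eq_comm, mul_inv_eq_one, mul_inv_eq_iff_eq_mul] at h
    exact h.symm
  have hkill : ∀ (X : Over S) (a : X ⟶ H), a ≫ p = 1 → ∀ g : X ⟶ H, Commute a g := fun X a ha g => by
    obtain ⟨h, rfl⟩ := AbSchX.KerPts.exists_lift hker a ha
    exact hcen X h g
  -- the commutator pairing
  obtain ⟨d, hd, hdm⟩ := SgaFix20.exists_pairing (𝟙 H) p hpcov (𝟙 H)
    (fun X x x' b e => hkill X _ (by
      rw [Category.comp_id, MonObj.mul_comp, GrpObj.inv_comp, e, inv_mul_cancel]) _)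
    (fun X a y b => (hkill X _ (by
      simp only [MonObj.mul_comp, GrpObj.inv_comp, Category.comp_id]
      rw [GrpSchLib.MultTypeComm.points_comm hH'' (y ≫ p) (b ≫ p), mul_inv_cancel_right, mul_inv_cancel]) a).symm)
  simp only [Category.comp_id] at hd
  have hone : d = 1 := by
    haveI := hpcov.over_epi
    refine SgaFix20.BiHom.eq_one_of_fibres hH'' d hdm η[H] (fun X a => ?_) fun s => ?_
    · have h1 : lift (𝟙 H'') (1 : H'' ⟶ H) ≫ d = 1 := by
        rw [← cancel_epi p, MonObj.comp_one, comp_lift_assoc, Category.comp_id, MonObj.comp_one]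
        have h := hd H (𝟙 H) 1
        rw [Category.id_comp] at h
        rw [h]
        group
      rw [← Hom.one_def]
      simpa only [comp_lift_assoc, MonObj.comp_one, Category.comp_id] using congrArg (a ≫ ·) h1
    · refine (hfib s).imp id fun hs b hb X x q hq a => ?_
      have hc := hpcov.over_pullback a _ _ (IsPullback.of_hasPullback p a).flip
      haveI := hc.over_epi
      rw [← cancel_epi (Limits.pullback.snd p a), MonObj.comp_one, comp_lift_assoc, ← Limits.pullback.condition, hd,
        hcomm s hs b hb X x q hq (Limits.pullback.snd p a) (Limits.pullback.fst p a) (Limits.pullback.snd p a ≫ x),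
        mul_inv_cancel_right, mul_inv_cancel]
  haveI : IsCommMonObj H := (isCommMonObj_iff_isMulCommutative H).mpr fun X => ⟨⟨fun g h => by
    have := hd X g h
    rw [hone, MonObj.comp_one, eq_comm, mul_inv_eq_one, mul_inv_eq_iff_eq_mul] at this
    exact this⟩⟩
  exact SgaFix20.isMultTypeFT_of_comm_extension p i hker hH' hH''

end Groth.Agent.S16780
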