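import Groth.Statements.S16793
import Mathlib.Tactic.Ring

set_option autoImplicit false
universe v u
open PCurv

namespace Groth.Agent.S16793

open TensorProduct in
theorem alongDer_smul {A : Type v} {B M : Type u} [CommRing A] [CommRing B] [Algebra A B] [AddCommGroup M] [Module B M]
    [Module A M] [IsScalarTower A B M] (nabla : M →ₗ[A] M ⊗[B] KaehlerDifferential A B)
    (hc : Conn.IsConn (KaehlerDifferential.D A B) nabla) (θ : Derivation A B B) (b : B) (m : M) :
    Conn.alongDer nabla θ (b • m) = θ b • m + b • Conn.alongDer nabla θ m := by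
  simp only [Conn.alongDer, Conn.along_apply]
  rw [hc b m, map_add, map_add, map_smul, map_smul, TensorProduct.map_tmul, TensorProduct.rid_tmul,
    Derivation.liftKaehlerDifferential_comp_D, LinearMap.id_apply, add_comm]

open TensorProduct in
/-- Let B be a commutative algebra over a commutative ring A whose module Ω of Kähler differentials over
A is free of rank one on a form ω, and let ∇ be a connection on the free module B^r whose connection
matrix with respect to the standard basis e₁, …, e_r and ω is T, that is ∇(e_j) = Σ_i T_{ij} e_i ⊗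
ω. Then for every A-derivation θ of B, writing f_θ ∈ B for the value on ω of the B-linear functional
Ω → B attached to θ, the covariant derivative along θ is given by ∇_θ(s) = f_θ · (T s) + θ(s) for
all s ∈ B^r, where θ(s) is θ applied to each coordinate of s. -/
theorem result {A : Type v} {B : Type u} [CommRing A] [CommRing B] [Algebra A B]
    (bΩ : Module.Basis (Fin 1) B (KaehlerDifferential A B)) {r : ℕ} (T : Matrix (Fin r) (Fin r) B)
    (nabla : (Fin r → B) →ₗ[A] (Fin r → B) ⊗[B] KaehlerDifferential A B)
    (hc : Conn.IsConn (KaehlerDifferential.D A B) nabla)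
    (hT : ∀ j : Fin r, nabla (Pi.single j 1) = ∑ i : Fin r, T i j • (Pi.single i (1 : B) ⊗ₜ[B] bΩ 0))
    (θ : Derivation A B B) (s : Fin r → B) :
    Conn.alongDer nabla θ s = θ.liftKaehlerDifferential (bΩ 0) • T.mulVec s + (fun i => θ (s i)) := by
  classical
  set f := θ.liftKaehlerDifferential (bΩ 0)
  have he : ∀ j : Fin r, Conn.alongDer nabla θ (Pi.single j 1) = ∑ i, (T i j * f) • (Pi.single i (1 : B) : Fin r → B) := by
    intro j
    simp only [Conn.alongDer, Conn.along_apply, hT j, map_sum, map_smul, TensorProduct.map_tmul, TensorProduct.rid_tmul,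
      LinearMap.id_apply, smul_smul]
    exact Finset.sum_congr rfl fun i _ => by rw [show θ.liftKaehlerDifferential (bΩ 0) = f from rfl]
  have hs : s = ∑ j, s j • (Pi.single j (1 : B) : Fin r → B) := by
    ext i; simp [Finset.sum_apply, Pi.single_apply]
  conv_lhs => rw [hs, map_sum]
  simp only [alongDer_smul nabla hc θ, he]
  ext i
  simp only [Finset.sum_apply, Pi.add_apply, Pi.smul_apply, Pi.single_apply, smul_eq_mul, Matrix.mulVec, dotProduct,
    mul_ite, mul_one, mul_zero, Finset.sum_ite_eq, Finset.mem_univ, if_true, Finset.sum_add_distrib, Finset.mul_sum]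
  rw [add_comm]
  congr 1
  exact Finset.sum_congr rfl fun j _ => by ring

end Groth.Agent.S16793
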