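import Groth.Statements.S16794
import Groth.Agent.H84Conn.Iter

set_option autoImplicit false
universe v u
open PCurv

namespace Groth.Agent.S16794

open TensorProduct in
/-- Let p be a prime number and B a commutative algebra of characteristic p over a commutative ring A
whose module Ω of Kähler differentials over A is free of rank one on a form ω; let θ₀ be the
A-derivation of B dual to ω (its B-linear functional Ω → B takes the value 1 on ω), and let ∇ be a
connection on a finite free B-module M. Then the p-curvature of ∇ vanishes identically — for every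
A-derivation θ of B and every derivation θ' that agrees with the p-fold iterate of θ, the
endomorphism (∇_θ)^p − ∇_{θ'} of M is zero — if and only if it vanishes for the single derivation
θ₀. -/
theorem result {A : Type v} {B M : Type u} [CommRing A] [CommRing B]
    [Algebra A B] (p : ℕ) [Fact p.Prime] [CharP B p]
    [AddCommGroup M] [Module B M] [Module A M] [IsScalarTower A B M] [Module.Finite B M] [Module.Free B M]
    (bΩ : Module.Basis (Fin 1) B (KaehlerDifferential A B)) (θ₀ : Derivation A B B)
    (hθ₀ : θ₀.liftKaehlerDifferential (bΩ 0) = 1)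
    (nabla : M →ₗ[A] M ⊗[B] KaehlerDifferential A B)
    (hc : Conn.IsConn (KaehlerDifferential.D A B) nabla) :
    (∀ θ θp : Derivation A B B, Conn.IsIterPow θ p θp → Conn.pCurv p nabla θ θp = 0) ↔
      (∀ θp : Derivation A B B, Conn.IsIterPow θ₀ p θp → Conn.pCurv p nabla θ₀ θp = 0) := by
  refine ⟨fun h θp hθp => h θ₀ θp hθp, fun h θ θp hθp => ?_⟩
  set b : B := θ.liftKaehlerDifferential (bΩ 0)
  have hlift : θ.liftKaehlerDifferential = b • θ₀.liftKaehlerDifferential := by
    refine bΩ.ext fun i => ?_
    obtain rfl : i = 0 := Subsingleton.elim _ _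
    rw [LinearMap.smul_apply, hθ₀, smul_eq_mul, mul_one]
  have hθ : ∀ x, θ x = b * θ₀ x := fun x => by
    rw [← Derivation.liftKaehlerDifferential_comp_D θ x, hlift, LinearMap.smul_apply,
      Derivation.liftKaehlerDifferential_comp_D, smul_eq_mul]
  set D := Conn.alongDer nabla θ₀ with hD
  have hadd : ∀ x y, D (x + y) = D x + D y := fun x y => map_add D x y
  have hsmul : ∀ (c : B) (x : M), D (c • x) = θ₀ c • x + c • D x := fun c x => by
    simp only [hD, Conn.alongDer, Conn.along_apply]
    rw [hc c x, map_add, map_add, map_smul, map_smul, TensorProduct.map_tmul, TensorProduct.rid_tmul,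
      Derivation.liftKaehlerDifferential_comp_D, LinearMap.id_apply, add_comm]
  have hD' : ∀ x, Conn.alongDer nabla θ x = b • D x := fun x => by
    simp only [hD, Conn.alongDer, Conn.along_apply, hlift, TensorProduct.map_smul_right, LinearMap.smul_apply, map_smul]
  set θ₀p := H84Conn.derivPow p θ₀
  have hθ₀p : Conn.IsIterPow θ₀ p θ₀p := fun x => H84Conn.derivPow_apply p θ₀ x
  have hθp' : θp = H84Conn.coef b θ₀ p 1 • θ₀ + H84Conn.coef b θ₀ p p • θ₀p := by
    ext x
    rw [hθp x, show (⇑θ) = fun y => b • θ₀ y from funext hθ]
    rw [H84Conn.iterate_prime_smul p b θ₀ θ₀ (fun y z => map_add θ₀ y z) (fun c y => by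
      simp only [smul_eq_mul, θ₀.leibniz]; ring) x]
    rfl
  have hzero := h θ₀p hθ₀p
  ext m
  have hDp : D^[p] m = Conn.alongDer nabla θ₀p m := by
    rw [← Module.End.pow_apply]
    exact sub_eq_zero.1 (LinearMap.congr_fun hzero m)
  have hlp : θp.liftKaehlerDifferential =
      H84Conn.coef b θ₀ p 1 • θ₀.liftKaehlerDifferential + H84Conn.coef b θ₀ p p • θ₀p.liftKaehlerDifferential := by
    refine Derivation.liftKaehlerDifferential_unique _ _ ?_
    ext x
    simp [hθp']
  simp only [Conn.pCurv, LinearMap.sub_apply, LinearMap.zero_apply, sub_eq_zero, Module.End.pow_apply]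
  rw [show (⇑(Conn.alongDer nabla θ)) = fun y => b • D y from funext hD',
    H84Conn.iterate_prime_smul p b θ₀ D hadd hsmul m, hDp]
  simp only [hD, Conn.alongDer, Conn.along_apply, hlp, TensorProduct.map_add_right, TensorProduct.map_smul_right,
    LinearMap.add_apply, LinearMap.smul_apply, map_add, map_smul]

end Groth.Agent.S16794
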