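import Groth.Statements.S16832
import Groth.Agent.TrivPts49.Stack
import Groth.Agent.GerbLib.Band

set_option backward.isDefEq.respectTransparency false
set_option backward.isDefEq.respectTransparency.types false

set_option autoImplicit false
universe u
open AlgSt

namespace Groth.Agent.S16832

open CategoryTheory AlgebraicGeometry in
/-- Let 𝒳 be an algebraic stack over (Sch/S) for the etale topology. Then 𝒳 is an algebraic space
(equivalent over (Sch/S) to the category of sections of an algebraic space) if and only if every
point of 𝒳 has trivial stabilizer: for every field k, every morphism Spec k → S and every functor x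
: (Sch/Spec k) → 𝒳 over (Sch/S), the group of automorphisms over the identity of the object x(T) is
trivial for every scheme T over Spec k (the stabilizer of x, a group algebraic space over k, has
only the identity section over every T). -/
theorem result {S : Scheme.{u}} (𝒳 : AlgSt.Cat S)
    (h𝒳 : AlgSt.IsAlgStack Scheme.etalePrecoverage 𝒳) :
    AlgSt.RepByAlgSp 𝒳 ↔
      ∀ (k : Type u) [Field k] (sk : Spec (CommRingCat.of k) ⟶ S)
        (x : FibCat.overCat (Over.mk sk) ⥤ᵇ 𝒳) (T : Over (Over.mk sk)),
        Subsingleton (Gerb.AutO (x.obj T)) := by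
  constructor
  · intro h k _ sk x T
    have hs := Groth.Agent.AlgStLib.isFibSetoid_of_repByAlgSp h
    have : Subsingleton ((CategoryTheory.Functor.Fiber.mk (p := 𝒳.p) (a := x.obj T) rfl) ⟶
        CategoryTheory.Functor.Fiber.mk rfl) := hs.2 _ _ _
    exact ⟨fun a b => Aut.ext (@Subsingleton.elim _ this a.hom b.hom)⟩
  · intro H
    have hg := h𝒳.isStack.1
    refine Groth.Agent.TrivPts49.repByAlgSp_of_isFibSetoid_etale h𝒳
      (Groth.Agent.TrivPts49.isFibSetoid_of_trivGeom hg h𝒳.diag h𝒳.atlas fun k _ _ sk x T α hα => ?_)
    have hα' : 𝒳.p.map α = 𝟙 (𝒳.p.obj (x.obj T)) :=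
      (Groth.Agent.FibBase.map_eq_of_isHomLift_id
        (Groth.Agent.FibBase.isHomLift_id_congr (x.w_obj T).symm hα)).trans (eqToHom_refl _ _)
    have := H k sk x T
    exact congrArg (fun a : Gerb.AutO (x.obj T) => a.hom.1)
      (Subsingleton.elim (Groth.Agent.GerbLib.autOMk hg α hα') 1)

end Groth.Agent.S16832
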