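import Groth.Statements.S16833
import Groth.Agent.AlgSpDec.AffineClassQuot
import Groth.Agent.AlgSpDec.AffineProps
import Groth.Agent.AlgSpLib.LocalSourceInst
import Groth.Agent.AlgStLib.LftPrecomp
import Groth.Agent.AlgSpPts.Sep
import Mathlib.AlgebraicGeometry.ZariskisMainTheorem
-- import your own Groth.Agent.* helpers here

set_option backward.isDefEq.respectTransparency false
open CategoryTheory CategoryTheory.Limits AlgebraicGeometry AlgSp Groth.Agent.AlgSpLib Groth.Agent.AlgSpPts

set_option autoImplicit false
universe u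
open AlgSp

namespace Groth.Agent.S16833

open CategoryTheory AlgebraicGeometry in
/-- Let p : U → X and f : X → Y be morphisms of algebraic spaces over a scheme S with p etale and
surjective and f separated. If the composite U → Y is finite, then f is finite. -/
theorem result {S : Scheme.{u}}
    {U X Y : AlgSp.Space S} (p : U ⟶ X) (f : X ⟶ Y)
    (hp : AlgSp.IsEtaleMor p.hom) (hps : AlgSp.IsSurjectiveMor p.hom)
    (hf : AlgSp.IsSeparatedMor f.hom) (h : AlgSp.IsFiniteMor (p ≫ f).hom) :
    AlgSp.IsFiniteMor f.hom := by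
  have hpfin : RepWith @IsFinite p.hom :=
    AlgSpDec.repWith_of_postcomp (g := f.hom)
      (repWith_mono (fun _ _ e (_ : IsClosedImmersion e) => inferInstanceAs (IsFinite e)) _ hf)
      (AlgSpDec.isFiniteMor_iff_repWith.1 h)
  have hpet : RepWith @Etale p.hom := repWith_of_locP X.property hpfin.rep (locP_etale_of_isEtaleMor hp)
  have hpsurj : RepWith @Surjective p.hom := repWith_surjective_of_surjective hpfin.rep hps
  intro Z hZ g
  obtain ⟨W, iW, fW, sqW, hW, hiW⟩ := h hZ g
  haveI := hW
  have sqP := IsPullback.of_hasPullback f.hom g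
  let a : (yon S).obj W ⟶ pullback f.hom g := sqP.lift (fW ≫ p.hom) ((yon S).map iW) (by
    rw [Category.assoc]; exact sqW.w)
  have sqa : IsPullback fW a p.hom (pullback.fst f.hom g) :=
    IsPullback.of_bot (by
      rw [sqP.lift_snd]; exact sqW) (sqP.lift_fst _ _ _).symm sqP
  have haE := repWith_of_isPullback sqa hpet
  have haF := repWith_of_isPullback sqa hpfin
  have haS := repWith_of_isPullback sqa hpsurj
  obtain ⟨M, ⟨e⟩⟩ := AlgSpDec.exists_iso_of_affine_finite_etale a haE haF haS
  obtain ⟨i, hi⟩ := (yon S).map_surjective (e.hom ≫ pullback.snd f.hom g)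
  obtain ⟨b, hb⟩ := (yon S).map_surjective (a ≫ e.inv)
  have sqM : IsPullback (e.hom ≫ pullback.fst f.hom g) ((yon S).map i) f.hom g := by
    rw [hi]
    exact sqP.of_iso e.symm (Iso.refl _) (Iso.refl _) (Iso.refl _) (by simp) (by simp) (by simp) (by simp)
  have hbi : b ≫ i = iW := (yon S).map_injective (by
    rw [Functor.map_comp, hb, hi, Category.assoc, Iso.inv_hom_id_assoc, sqP.lift_snd])
  have hbiL : b.left ≫ i.left = iW.left := by rw [← Over.comp_left, hbi]
  have sqb : IsPullback (𝟙 ((yon S).obj W)) ((yon S).map b) a e.hom :=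
    IsPullback.of_horiz_isIso ⟨by rw [hb]; simp⟩
  haveI : Etale b.left := (repWith_yon_map_iff @Etale b).1 (repWith_of_isPullback sqb haE)
  haveI : Surjective b.left := (repWith_yon_map_iff @Surjective b).1 (repWith_of_isPullback sqb haS)
  haveI : IsSeparated i.left := (isSeparatedMor_yon_map_iff i).1 (isSeparatedMor_of_isPullback sqM hf)
  haveI : IsFinite (b.left ≫ i.left) := hbiL ▸ hiW
  haveI : UniversallyClosed i.left := UniversallyClosed.of_comp_surjective b.left i.left
  haveI : LocallyOfFiniteType i.left := SrcDescent.locallyOfFiniteType_of_fppf_comp b.left i.left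
  haveI : IsProper i.left := ⟨⟩
  haveI : LocallyQuasiFinite i.left := by
    rw [locallyQuasiFinite_iff_finite_preimage_singleton]
    intro z
    refine ((Scheme.Hom.finite_preimage_singleton (b.left ≫ i.left) z).image b.left).subset fun m hm => ?_
    obtain ⟨w, rfl⟩ := b.left.surjective m
    exact ⟨w, hm, rfl⟩
  haveI : IsFinite i.left := IsFinite.of_isProper_of_locallyQuasiFinite i.left
  haveI : IsAffine Z.left := hZ
  exact ⟨M, i, _, sqM, isAffine_of_isAffineHom i.left, inferInstance⟩

end Groth.Agent.S16833
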