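import Groth.Statements.S16834
import Groth.Agent.AlgSpLib.AffineDescProps
import Groth.Agent.AlgSpDec.Cofan
import Groth.Agent.AlgSpLib.EtLocalInst

set_option autoImplicit false
universe u
open CategoryTheory CategoryTheory.Limits AlgebraicGeometry
open AlgSp

namespace Groth.Agent.S16834

set_option backward.isDefEq.respectTransparency false
set_option backward.isDefEq.respectTransparency.types false

open Groth.Agent.AlgSpLib

/-- Let k be a field with algebraic closure k̄ and X an algebraic space over Spec k which is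
quasi-separated over k and whose structure morphism is locally of finite type. If the base change X
×_k Spec k̄ (product with h_{Spec k̄} in fppf sheaves over Spec k) is isomorphic to h_T for an
affine scheme T over k, then X is isomorphic to h_U for an affine scheme U over k. -/
theorem result (k : Type u) [Field k]
    (X : AlgSp.Space (Spec (CommRingCat.of k))) (hqs : AlgSp.IsQuasiSeparatedSp X.obj)
    (hlft : ∀ q : X.obj ⟶ (AlgSp.yon (Spec (CommRingCat.of k))).obj (Over.mk (𝟙 _)),
      AlgSp.LocP @LocallyOfFiniteType q)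
    (kbar : Type u) [Field kbar] [Algebra k kbar] [IsAlgClosure k kbar]
    (T : Over (Spec (CommRingCat.of k))) (hT : IsAffine T.left)
    (e : X.obj ⨯ (AlgSp.yon (Spec (CommRingCat.of k))).obj
        (Over.mk (Spec.map (CommRingCat.ofHom (algebraMap k kbar)))) ≅
      (AlgSp.yon (Spec (CommRingCat.of k))).obj T) :
    ∃ (U : Over (Spec (CommRingCat.of k))), IsAffine U.left ∧
      Nonempty (X.obj ≅ (AlgSp.yon (Spec (CommRingCat.of k))).obj U) := by
  let Kb : Over (Spec (CommRingCat.of k)) := Over.mk (Spec.map (CommRingCat.ofHom (algebraMap k kbar)))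
  let pt : Over (Spec (CommRingCat.of k)) := Over.mk (𝟙 _)
  let c : Kb ⟶ pt := Over.homMk (Spec.map (CommRingCat.ofHom (algebraMap k kbar))) (Category.comp_id _)
  let ht := AlgSpPts.isTerminalYon (Spec (CommRingCat.of k))
  have hpt : IsTerminal ((yon (Spec (CommRingCat.of k))).obj pt) := ht
  have hflat : Flat c.left := by
    show Flat (Spec.map _)
    rw [HasRingHomProperty.Spec_iff (P := @Flat), CommRingCat.hom_ofHom, RingHom.flat_algebraMap_iff]
    infer_instance
  have hsurj : Surjective c.left :=
    ⟨fun y => ⟨(⟨⊥, Ideal.isPrime_bot⟩ : PrimeSpectrum kbar), @Subsingleton.elim _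
      (inferInstanceAs (Subsingleton (PrimeSpectrum k))) _ _⟩⟩
  have hcov : IsFpqcCover (fun _ : PUnit.{u + 1} => (yon (Spec (CommRingCat.of k))).obj Kb)
      (fun _ => (yon (Spec (CommRingCat.of k))).map c) := by
    refine ⟨fun _ => locP_of_repWith ((repWith_yon_map_iff @Flat c).2 hflat), fun Z hZ h => ?_⟩
    obtain ⟨h, rfl⟩ := (yon (Spec (CommRingCat.of k))).map_surjective h
    have sq : IsPullback (pullback.fst c h).left (pullback.snd c h).left c.left h.left :=
      (IsPullback.of_hasPullback c h).map (Over.forget _)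
    have : IsAffine Kb.left := inferInstanceAs (IsAffine (Spec _))
    have : IsAffine pt.left := inferInstanceAs (IsAffine (Spec _))
    have : IsAffineHom (pullback.snd c h).left :=
      MorphismProperty.of_isPullback (P := @IsAffineHom) sq (inferInstance : IsAffineHom c.left)
    have : IsAffine (pullback c h).left := isAffine_of_isAffineHom (pullback.snd c h).left
    have : Surjective (pullback.snd c h).left := MorphismProperty.of_isPullback (P := @Surjective) sq hsurj
    refine ⟨1, fun _ => pullback c h, fun _ => pullback.snd c h, fun _ => ‹IsAffine (pullback c h).left›, fun _ => ?_, fun z => ⟨0, ?_⟩,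
      fun _ => ⟨PUnit.unit, (yon _).map (pullback.fst c h), ?_⟩⟩
    · exact MorphismProperty.of_isPullback (P := @Flat) sq hflat
    · exact (pullback.snd c h).left.surjective z
    · rw [← Functor.map_comp, ← Functor.map_comp, pullback.condition]
  let f : X.obj ⟶ (yon (Spec (CommRingCat.of k))).obj pt := hpt.from _
  have sq : IsPullback prod.fst prod.snd f ((yon (Spec (CommRingCat.of k))).map c) :=
    IsPullback.of_isLimit' ⟨hpt.hom_ext _ _⟩ <| PullbackCone.IsLimit.mk _ (fun s => prod.lift s.fst s.snd)
      (fun s => prod.lift_fst _ _) (fun s => prod.lift_snd _ _)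
      (fun s m h₁ h₂ => Limits.prod.hom_ext (h₁.trans (prod.lift_fst _ _).symm) (h₂.trans (prod.lift_snd _ _).symm))
  have haff : IsAffineMor (prod.snd : X.obj ⨯ (yon (Spec (CommRingCat.of k))).obj Kb ⟶ _) := by
    obtain ⟨b, hb⟩ := (yon (Spec (CommRingCat.of k))).map_surjective (e.inv ≫ prod.snd)
    have : IsAffine T.left := hT
    have : IsAffine Kb.left := inferInstanceAs (IsAffine (Spec _))
    have h1 : RepWith @IsAffineHom ((yon (Spec (CommRingCat.of k))).map b) :=
      (repWith_yon_map_iff _ _).2 (inferInstance : IsAffineHom b.left)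
    refine AlgSpDec.isAffineMor_of_repWith le_rfl ?_
    rw [show (prod.snd : X.obj ⨯ (yon (Spec (CommRingCat.of k))).obj Kb ⟶ _) = e.hom ≫ (yon _).map b by
      rw [hb, Iso.hom_inv_id_assoc]]
    exact repWith_comp (repWith_of_isIso _ _) h1
  have hf : IsAffineMor f := (isLocalOnBase_fpqc_isAffineMor (fun _ : PUnit.{u + 1} => (yon (Spec (CommRingCat.of k))).obj Kb)
    (fun _ => (yon (Spec (CommRingCat.of k))).map c) (IsAlgSpace.yon_obj _) (fun _ => IsAlgSpace.yon_obj _) hcov f
    X.property (fun _ => X.obj ⨯ (yon (Spec (CommRingCat.of k))).obj Kb) (fun _ => prod.snd) (fun _ => prod.fst)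
    (fun _ => isAlgSpace_of_isPullback sq X.property (IsAlgSpace.yon_obj _) (IsAlgSpace.yon_obj _))
    (fun _ => sq)).2 fun _ => haff
  obtain ⟨W, i, fst, sqW, hW⟩ := hf (Z := pt) (inferInstanceAs (IsAffine (Spec _))) (𝟙 _)
  have : IsIso fst := sqW.isIso_fst_of_isIso
  exact ⟨W, hW, ⟨(asIso fst).symm⟩⟩

end Groth.Agent.S16834
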