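import Groth.Statements.S16856
import Groth.Agent.AVDeg3.ZetaAV

set_option autoImplicit false
set_option linter.style.haveILetI false
set_option linter.unusedSectionVars false
set_option backward.isDefEq.respectTransparency false
set_option backward.isDefEq.respectTransparency.types false
set_option synthInstance.maxHeartbeats 400000
set_option maxHeartbeats 800000
universe u
open CategoryTheory MonoidalCategory CartesianMonoidalCategory MonObj GrpObj AlgebraicGeometry
open AbVar

namespace Groth.Agent.S16856

/-- Equality case of the Hasse–Weil–Serre bound: let k be a finite field with q elements and algebraic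
closure Ω, ℓ a prime invertible in k, and X an abelian variety over k (a proper, geometrically
integral commutative group scheme over k) of dimension g, with geometric Frobenius π_X (the
endomorphism that is the identity on points and the q-th power map on sections); assume, as is the
case, that the ℓ-adic Tate module of Ω-points T_ℓ X is free of finite rank over ℤ_ℓ, and let f_X ∈
ℤ[t] be the polynomial mapping to the characteristic polynomial of T_ℓ(π_X) (the characteristic
polynomial of Frobenius). Put m = ⌊2√q⌋. Then |trace(π_X)| = g·m (equality in the bound |trace(π_X)|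
≤ g·m; the trace is minus the second-highest coefficient of f_X) if and only if either α + q/α = m
for every root α of f_X or α + q/α = −m for every root, i.e. if and only if f_X = (t² − m t + q)^g
or f_X = (t² + m t + q)^g. -/
theorem result (k Ω : Type u) [Field k] [Finite k] [Field Ω] [Algebra k Ω] [IsAlgClosure k Ω]
    (l : ℕ) [Fact l.Prime] (hl : (l : k) ≠ 0) (X : Over (Spec (CommRingCat.of k)))
    [GrpObj X] [IsCommMonObj X] [IsProper X.hom] [GeometricallyIntegral X.hom]
    (g : ℕ) (hg : topologicalKrullDim X.left = g)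
    (πX : X ⟶ X) [IsMonHom πX] (hπb : πX.left.base = 𝟙 _)
    (hπle : ∀ U : X.left.Opens, U ≤ πX.left ⁻¹ᵁ U)
    (hπapp : ∀ (U : X.left.Opens) (s : Γ(X.left, U)), (πX.left.appLE U U (hπle U)).hom s = s ^ Nat.card k)
    [Module.Free ℤ_[l] (AbDual.TateMod X l (SGA7.pt Ω))] [Module.Finite ℤ_[l] (AbDual.TateMod X l (SGA7.pt Ω))]
    (P : Polynomial ℤ) (hP : (AbDual.tateMapₗ (l := l) (T := SGA7.pt Ω) πX).charpoly = P.map (Int.castRingHom ℤ_[l])) :
    |(P.nextCoeff : ℝ)| = (g : ℝ) * (⌊2 * Real.sqrt (Nat.card k)⌋ : ℝ) ↔
      (P = (Polynomial.X ^ 2 - Polynomial.C ⌊2 * Real.sqrt (Nat.card k)⌋ * Polynomial.X + Polynomial.C (Nat.card k : ℤ)) ^ g ∨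
        P = (Polynomial.X ^ 2 + Polynomial.C ⌊2 * Real.sqrt (Nat.card k)⌋ * Polynomial.X + Polynomial.C (Nat.card k : ℤ)) ^ g) := by
  obtain ⟨hm, hd, -⟩ := AVDeg3.charpoly_props Ω l hl πX P hP hg
  set m : ℤ := ⌊2 * Real.sqrt (Nat.card k)⌋ with hmdef
  set q := Nat.card k
  have hm0 : 0 ≤ m := Int.floor_nonneg.2 (mul_nonneg zero_le_two (Real.sqrt_nonneg _))
  constructor
  · intro h
    have hroot := AVDeg3.norm_root_frobenius πX q hπb hπle hπapp l _ P hP
    have hv : (P.nextCoeff : ℝ) = -((P.aroots ℂ).map fun α => α.re).sum := by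
      have h1 := (IsAlgClosed.splits (P.map (Int.castRingHom ℂ))).nextCoeff_eq_neg_sum_roots_of_monic (hm.map _)
      rw [Polynomial.nextCoeff_map (Int.castRingHom ℂ).injective_int, eq_intCast] at h1
      have h2 := congrArg Complex.re h1
      rw [Complex.intCast_re, Complex.neg_re, ← Complex.reLm_coe, map_multiset_sum] at h2
      simpa [Polynomial.aroots_def, algebraMap_int_eq] using h2
    rcases (abs_eq (by positivity : (0:ℝ) ≤ (g : ℝ) * (m : ℝ))).1 h with h | h
    · refine Or.inr ?_
      have := AVDeg3.eq_pow_of_sum_re hm hd Nat.card_pos hroot 1 (Or.inl rfl)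
        (by push_cast; rw [← hmdef]; linarith)
      simpa [← hmdef] using this
    · refine Or.inl ?_
      have := AVDeg3.eq_pow_of_sum_re hm hd Nat.card_pos hroot (-1) (Or.inr rfl)
        (by push_cast; rw [← hmdef]; linarith)
      simpa [← hmdef, sub_eq_add_neg] using this
  · have key : ∀ c : ℤ, ((Polynomial.X ^ 2 + Polynomial.C c * Polynomial.X + Polynomial.C (q : ℤ)) ^ g).nextCoeff = g * c := by
      intro c
      have hQ : (Polynomial.X ^ 2 + Polynomial.C c * Polynomial.X + Polynomial.C (q : ℤ)).natDegree = 2 := by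
        compute_degree!
      rw [Polynomial.Monic.nextCoeff_pow (by monicity!), nsmul_eq_mul,
        Polynomial.nextCoeff_of_natDegree_pos (by rw [hQ]; norm_num), hQ]
      simp
    rintro (rfl | rfl)
    · rw [sub_eq_add_neg, ← neg_mul, ← Polynomial.C_neg, key]
      push_cast
      rw [mul_neg, abs_neg, abs_of_nonneg (by positivity)]
    · rw [key]
      push_cast
      rw [abs_of_nonneg (by positivity)]

end Groth.Agent.S16856
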