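import Groth.Statements.S16879
import Groth.Agent.Ext49.BGEquiv

set_option backward.isDefEq.respectTransparency false
set_option backward.isDefEq.respectTransparency.types false

set_option autoImplicit false
universe u
open CategoryTheory AlgebraicGeometry
open Gerb

namespace Groth.Agent.S16879

open MonoidalCategory CartesianMonoidalCategory MonObj

/-- A gerbe over the base scheme S with a section x is a classifying stack: if G is a group scheme
affine over S representing the automorphism functor of x, then 𝒳 is equivalent over (Sch/S) to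
[S/G], the stack of fppf G-torsors. (The source allows any algebraic space as the base, lets G be
the group algebraic space of automorphisms, and its equivalence is a named one; here the base is S
itself, G is an affine group scheme, and existence of an equivalence is asserted.) -/
theorem result
    (S : Scheme.{u}) (𝒳 : AlgSt.Cat S) (h𝒳 : AlgSt.IsAlgStack Scheme.fppfPrecoverage 𝒳)
    (π : 𝒳 ⥤ᵇ FibCat.overCat (Over.mk (𝟙 S)))
    (hπ : Gerb.IsGerbeOver (QuotSh.J Scheme.fppfPrecoverage S) π)
    (x : FibCat.overCat (Over.mk (𝟙 S)) ⥤ᵇ 𝒳)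
    (e : BasedFunctor.comp x π ≅ BasedFunctor.id (FibCat.overCat (Over.mk (𝟙 S))))
    (G : Over S) [GrpObj G] [IsAffineHom G.hom]
    (r : Gerb.AutRep x (Gerb.ptsGrp (Over.mk (𝟙 S)) G)) :
    AlgSt.IsQuotientOf Scheme.fppfPrecoverage G (AlgSt.trivAction G) 𝒳 := by
  have hu : (Over.mk (𝟙 S) : Over S) = 𝟙_ (Over S) := rfl
  let x' : FibCat.overCat (𝟙_ (Over S)) ⥤ᵇ 𝒳 := x
  let T₀ : Over S := Over.mk (𝟙 S)
  let q : ∀ T : Over S, Over T₀ := fun T => Over.mk (toUnit T : T ⟶ T₀)
  let c : ∀ T : Over S, (Over.iteratedSliceForward T₀).obj (q T) ≅ T := fun T =>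
    Over.isoMk (Iso.refl T.left) (by
      show 𝟙 T.left ≫ T.hom = (q T).hom.left
      exact (Category.id_comp _).trans ((Over.w (q T).hom).symm.trans (Category.comp_id _)))
  let E : ∀ T : Over S, (T ⟶ G) ≃* Gerb.AutO (Groth.Agent.Ext49.pt x' T) := fun T =>
    MulEquiv.trans
      { toFun := fun g => (c T).hom ≫ g
        invFun := fun g => (c T).inv ≫ g
        left_inv := fun g => (c T).inv_hom_id_assoc g
        right_inv := fun g => (c T).hom_inv_id_assoc g
        map_mul' := fun g g' => MonObj.comp_mul _ _ _ } (r.iso (q T))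
  have hE : ∀ {T T' : Over S} (f : T ⟶ T') (g : T' ⟶ G),
      (E T (f ≫ g)).hom.1 ≫ Groth.Agent.Ext49.ptMap x' f = Groth.Agent.Ext49.ptMap x' f ≫ (E T' g).hom.1 := by
    intro T T' f g
    let h : q T ⟶ q T' := Over.homMk f (toUnit_unique _ _)
    have hn := r.natural h ((c T').hom ≫ g)
    have he : (Gerb.ptsGrp T₀ G).map h.op ((c T').hom ≫ g) = ((c T).hom ≫ f ≫ g :) := by
      show (Over.iteratedSliceForward T₀).map h ≫ (c T').hom ≫ g = (c T).hom ≫ f ≫ g
      rw [← Category.assoc, ← Category.assoc]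
      congr 1
      skip
    rw [he] at hn
    exact hn
  have hcov : Groth.Agent.Ext49.Dense (QuotSh.J Scheme.fppfPrecoverage S) (Groth.Agent.Ext49.Near x') := fun y => by
    let p := Groth.Agent.Ext49.pt x' (𝒳.p.obj y)
    have hp : 𝒳.p.obj p = 𝒳.p.obj y := Groth.Agent.Ext49.pt_obj x' _
    let b : π.obj y ⟶ π.obj p := Over.homMk (eqToHom ((π.w_obj y).trans (hp.symm.trans (π.w_obj p).symm)))
      (toUnit_unique (X := _) _ _)
    have hb : (FibCat.overCat T₀).p.IsHomLift (𝟙 (𝒳.p.obj y)) b :=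
      CategoryTheory.IsHomLift.of_fac' _ _ b (π.w_obj y) ((π.w_obj p).trans hp) (by
        refine (show (FibCat.overCat T₀).p.map b = eqToHom ((π.w_obj y).trans (hp.symm.trans (π.w_obj p).symm)) from rfl).trans ?_
        rw [Category.id_comp, eqToHom_trans])
    obtain ⟨R, hR, hR'⟩ := hπ.2 y p b hb
    refine ⟨R, hR, fun V f hf => ?_⟩
    obtain ⟨w, φ, ψ, hφ, hψ, -⟩ := hR' f hf
    exact ⟨w, φ, hφ, ⟨ψ ≫ Groth.Agent.Ext49.ptMap x' (toUnit (𝒳.p.obj y))⟩⟩
  exact Groth.Agent.Ext49.isQuotientOf_of_neutral x' h𝒳.isStack E hE hcov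

end Groth.Agent.S16879
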