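import Groth.Statements.S1689
import Groth.Agent.QCoh.LocFree
import Groth.Agent.QCoh.Support
import Groth.Agent.ComodRes41.DimTwo
import Groth.Agent.RegLoc6.Serre
import Groth.Agent.SchTop.Closed

set_option autoImplicit false
universe u
open CategoryTheory CategoryTheory.Limits AlgebraicGeometry TopologicalSpace
open SDiv

namespace Groth.Agent.S1689

/-- Let X be a locally Noetherian scheme of dimension at most 2 all of whose local rings are regular,
and F a coherent module on X. Then F is reflexive (every stalk is a reflexive module over the local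
ring) if and only if F is finite locally free. -/
theorem result (X : Scheme.{u}) [IsLocallyNoetherian X]
    (hreg : ∀ x : ↥X, IsRegularLocalRing (X.presheaf.stalk x)) (hdim : topologicalKrullDim ↥X ≤ 2) (F : X.Modules)
    (hF : Coh.IsCoh F) : (∀ x : ↥X, Module.IsReflexive (X.presheaf.stalk x) (F.presheaf.stalk x)) ↔ FlatMod.IsFinLocFree F := by
  refine ⟨fun h => Groth.Agent.QCoh.isFinLocFree_iff.2 ⟨Groth.Agent.QCoh.isCoh_iff_isFP.1 hF, fun x => ?_⟩, fun h x => ?_⟩
  · haveI := hreg x
    haveI := RegLoc6.isRegularRing_of_isRegularLocalRing (X.presheaf.stalk x)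
    haveI : Module.Finite (X.presheaf.stalk x) (F.presheaf.stalk x) :=
      Groth.Agent.QCoh.finite_stalk_of_isFT (Groth.Agent.QCoh.isCoh_iff.1 hF).1
        (Groth.Agent.QCoh.isFT_of_isFP (Groth.Agent.QCoh.isCoh_iff_isFP.1 hF)) x
    haveI : Module.IsReflexive (X.presheaf.stalk x) (F.presheaf.stalk x) := h x
    haveI : Module.Projective (X.presheaf.stalk x)
        (Module.Dual (X.presheaf.stalk x) (Module.Dual (X.presheaf.stalk x) (F.presheaf.stalk x))) :=
      ComodRes41.projective_dual ((Groth.Agent.SchTop.ringKrullDim_stalk_le x).trans hdim) _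
    haveI : Module.Projective (X.presheaf.stalk x) (F.presheaf.stalk x) :=
      Module.Projective.of_equiv (Module.evalEquiv (X.presheaf.stalk x) (F.presheaf.stalk x)).symm
    exact Module.free_of_flat_of_isLocalRing
  · haveI := Groth.Agent.QCoh.free_stalk_of_isFinLocFree h x
    haveI : Module.Finite (X.presheaf.stalk x) (F.presheaf.stalk x) :=
      Groth.Agent.QCoh.finite_stalk_of_isFT (Groth.Agent.QCoh.isCoh_iff.1 hF).1
        (Groth.Agent.QCoh.isFT_of_isFP (Groth.Agent.QCoh.isCoh_iff_isFP.1 hF)) x
    infer_instance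

end Groth.Agent.S1689
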