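import Groth.Statements.S16894
import Groth.Agent.Nef45.Facts

set_option backward.isDefEq.respectTransparency false
set_option backward.isDefEq.respectTransparency.types false

set_option autoImplicit false
universe u
open CategoryTheory CategoryTheory.Limits AlgebraicGeometry
open Vanish
open scoped Groth.Agent.H23.PicMul

namespace Groth.Agent.S16894

open Groth.Agent

/-- Let k be an algebraically closed field and X an irreducible proper smooth k-scheme of dimension n
with an ample invertible O_X-module A (a projective manifold), and let L be an invertible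
O_X-module. Then L is numerically effective, i.e. the degree of the pullback of L to every integral
one-dimensional closed subscheme Y ⊆ X is non-negative, if and only if L^⊗ν ⊗ A is ample for every ν
> 0. (The published lemma says 'for an ample sheaf A'; the equivalence is stated here for any given
ample A, which is what the argument gives.) -/
theorem result (k : Type u) [Field k] [IsAlgClosed k]
    (X : Scheme.{u}) [X.Over (Spec (CommRingCat.of k))] [IsProper (X ↘ Spec (CommRingCat.of k))]
    [Smooth (X ↘ Spec (CommRingCat.of k))] [IrreducibleSpace X] (n : ℕ) (hn : topologicalKrullDim X = n)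
    (A : X.Modules) (hA : CohB1.IsAmple A) (L : X.Modules) (hL : PicF.IsInvertible L) :
    (∀ (Y : Scheme.{u}) (i : Y ⟶ X) [IsClosedImmersion i], IsIntegral Y → topologicalKrullDim Y = 1 →
      0 ≤ Pic13.curveDeg k (i ≫ (X ↘ Spec (CommRingCat.of k))) ((Scheme.Modules.pullback i).obj L)) ↔
      ∀ ν : ℕ, 0 < ν → CohB1.IsAmple (CohB1.tensorMod (CohB1.tensorPow L ν) A) := by
  have hcl : ∀ ν : ℕ, PicF.cl (Nef45.comb L A 1 ν) =
      PicF.cl (CohB1.tensorMod (CohB1.tensorPow L ν) A) := fun ν => by
    rw [H23.PicMul.cl_tensor, H23.PicMul.cl_tensor, H23.PicMul.cl_tensorPow A 1, pow_one]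
  rw [← Nef45.isNef_iff_curveDeg k hL]
  refine ⟨fun h ν hν => AmpleX.isAmple_of_iso (H23.PicMul.cl_eq_iff.1 (hcl ν)).some
    (Nef45.isAmple_comb_of_nef k hL h hA one_pos hν), fun h Y i hi hY hdim => ?_⟩
  by_contra hneg
  rw [not_le] at hneg
  haveI := hi
  set F := (Coh.push i).obj (Coh.structureModule Y)
  have hdF : HilbPoly.DimLT F (1 + 1) := Nef45.dimLT_push k i (by rw [hdim, Nat.cast_one])
  haveI := CurveCohLib.isNoetherian_of_proper (k := k) (X := X)
  have hF : Coh.IsCoh F := QCoh.isCoh_push_structure i
  set ν := (Nef45.I k [A] F).toNat + 1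
  have hpos : 0 < Nef45.I k [CohB1.tensorMod (CohB1.tensorPow L ν) A] F :=
    VarBase.posOn_of_isAmple k (h ν (Nat.succ_pos _)) Y i hi hY 1 one_pos (by rw [hdim, Nat.cast_one])
  rw [Nef45.I_tensor k (InvX.isInvertible_tensorPow hL ν) hA.1 (l := []) (by intro _ hc; simp at hc) hF (by simpa using hdF),
    Nef45.I_pow k hL (l := []) (by intro _ hc; simp at hc) hF (by simpa using hdF)] at hpos
  have h1 : Nef45.I k [L] F ≤ -1 := by omega
  have h2 : Nef45.I k [A] F < (ν : ℤ) := by omega
  have h3 := mul_le_mul_of_nonneg_left h1 (Int.natCast_nonneg ν)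
  linarith

end Groth.Agent.S16894
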