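import Groth.Statements.S16896
import Groth.Agent.Nef45.Triv
import Groth.Agent.Nef45.Big
import Groth.Agent.TameExt51.Sch

set_option backward.isDefEq.respectTransparency false
set_option backward.isDefEq.respectTransparency.types false

set_option autoImplicit false
universe u
open CategoryTheory CategoryTheory.Limits AlgebraicGeometry
open Vanish
open scoped Groth.Agent.H23.PicMul

namespace Groth.Agent.S16896

open Groth.Agent

/-- Let k be an algebraically closed field of characteristic zero and X an irreducible proper smooth
k-scheme of dimension n with an ample invertible O_X-module (a projective manifold). Let L be a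
numerically effective invertible O_X-module (non-negative degree on every integral one-dimensional
closed subscheme) and L⁻¹ a tensor inverse of L. Then the Iitaka dimension of L equals n, expressed
by the equivalent condition that some L^⊗ν with ν > 0 receives a monomorphism from an ample
invertible module (L^⊗ν ≅ A(C) with A ample and C effective), if and only if the self-intersection
number c_1(L)^n = ∫ c_1(L)^n · [O_X] (the alternating sum of Euler characteristics attached to n
copies of L⁻¹) is positive. (Only the characteristic-zero case is stated; the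
positive-characteristic case assumes a lifting to the Witt vectors of length two.) -/
theorem result (k : Type u) [Field k] [IsAlgClosed k] [CharZero k]
    (X : Scheme.{u}) [X.Over (Spec (CommRingCat.of k))] [IsProper (X ↘ Spec (CommRingCat.of k))]
    [Smooth (X ↘ Spec (CommRingCat.of k))] [IrreducibleSpace X] (n : ℕ) (hn : topologicalKrullDim X = n)
    (H : X.Modules) (hH : CohB1.IsAmple H) (L Linv : X.Modules) (hL : PicF.IsInvertible L) (hLinv : ClSub.IsInverseOf Linv L)
    (hnef : (∀ (Y : Scheme.{u}) (i : Y ⟶ X) [IsClosedImmersion i], IsIntegral Y → topologicalKrullDim Y = 1 →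
      0 ≤ Pic13.curveDeg k (i ≫ (X ↘ Spec (CommRingCat.of k))) ((Scheme.Modules.pullback i).obj L))) :
    (∃ (ν : ℕ) (A : X.Modules) (φ : A ⟶ CohB1.tensorPow L ν), 0 < ν ∧ CohB1.IsAmple A ∧ Mono φ) ↔
      0 < FGA.intNum k X n (fun _ : Fin n => Linv) (Coh.structureModule X) := by
  haveI : IsIntegral X := TameExt51.isIntegral_of_smooth (X ↘ Spec (CommRingCat.of k))
  haveI := CurveCohLib.isNoetherian_of_proper (k := k) (X := X)
  have hnef' : Nef45.IsNef k L := (Nef45.isNef_iff_curveDeg k hL).2 hnef
  have hn' : topologicalKrullDim X = (n : WithBot ℕ∞) := hn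
  have hO : Coh.IsCoh (Coh.structureModule X) := QCoh.isCoh_structureModule'
  have hd := Nef45.dimLT_top hn'.le (Coh.structureModule X)
  rw [Nef45.intNum_inv k hL hLinv hn'.le n hO hd]
  constructor
  · rintro ⟨ν, A, φ, -, hA, hφ⟩
    refine lt_of_le_of_ne ?_ fun h => ?_
    · have h := Nef45.nonneg_rep k hL hnef' hH hO (p := n) (q := 0) hd
      simpa [Nef45.rep] using h
    · haveI := hφ
      exact Nef45.no_mono k hL hnef' hn' h.symm hA φ
  · intro hpos
    rcases n with _ | d
    · have hL1 : CohB1.IsAmple (CohB1.tensorPow L 1) :=
        VarBase.isAmple_of_dim_le_zero k hn'.le (InvX.isInvertible_tensorPow hL 1)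
      exact ⟨1, _, 𝟙 _, one_pos, hL1, inferInstance⟩
    · obtain ⟨ν, a, hν, ha, hg⟩ := Nef45.exists_growth_of_pos k hn' hH hL hnef' hpos
      exact VanGrowth.exists_mono_of_growth k hH hL hn' hν hg

end Groth.Agent.S16896
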