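import Groth.Statements.S1690
import Groth.Agent.Div57.Ref.Extend

set_option autoImplicit false
universe u
open CategoryTheory CategoryTheory.Limits AlgebraicGeometry TopologicalSpace
open SDiv

namespace Groth.Agent.S1690

/-- (1) if and only if (3): let X be an integral locally Noetherian normal scheme and F a coherent
module. Then F is reflexive (stalkwise) if and only if there is an open subscheme j : U ⟶ X such
that every point outside U has local ring of dimension at least 2, the restriction of F to U is
finite locally free, and the canonical map F ⟶ j_* j^* F is an isomorphism. -/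
theorem result (X : Scheme.{u}) [IsIntegral X] [IsLocallyNoetherian X] (hX : Pi1.IsNormalScheme X)
    (F : X.Modules) (hF : Coh.IsCoh F) :
    (∀ x : ↥X, Module.IsReflexive (X.presheaf.stalk x) (F.presheaf.stalk x)) ↔
      ∃ U : X.Opens, (∀ x : ↥X, x ∉ U → (2 : WithBot ℕ∞) ≤ ringKrullDim (X.presheaf.stalk x)) ∧
        FlatMod.IsFinLocFree (F.restrict U.ι) ∧ IsIso ((Scheme.Modules.restrictAdjunction U.ι).unit.app F) := by
  open Div57.Ref in
  refine (show (∀ x : ↥X, Module.IsReflexive (X.presheaf.stalk x) (F.presheaf.stalk x)) ↔ RefHull.IsReflexive F from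
    (RefX.isReflexive_iff hF).symm).trans ?_
  constructor
  · intro hr
    obtain ⟨U, hU, hfree⟩ := exists_big_free_open hX hF (inj_of_isReflexive hF hr)
    exact ⟨U, hU, hfree, RefX.isIso_unit_of_extendsAcross
      (RefX.extendsAcross_reflexive hF hr fun x hx => two_le_depth_of_dim hX (hU x hx))⟩
  · rintro ⟨U, hU, hfree, hiso⟩
    exact isReflexive_of_extendsAcross hX hF hU
      (fun x hx => reflexiveAt_of_free hF (free_stalk_of_restrict hF.1 hfree hx))
      (extendsAcross_of_isIso_unit hiso)

end Groth.Agent.S1690
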