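import Groth.Statements.S16904
import Groth.Agent.Nef45.Semi

set_option backward.isDefEq.respectTransparency false
set_option backward.isDefEq.respectTransparency.types false

set_option autoImplicit false
universe u
open CategoryTheory CategoryTheory.Limits AlgebraicGeometry
open Vanish
open scoped Groth.Agent.H23.PicMul

namespace Groth.Agent.S16904

open Groth.Agent

/-- Let k be an algebraically closed field of characteristic zero and X an irreducible proper smooth
k-scheme of dimension n with an ample invertible O_X-module (a projective manifold); let L be a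
semi-ample invertible O_X-module (some L^⊗μ with μ > 0 is globally generated; such L is numerically
effective) with tensor inverse L⁻¹. Then for every natural number m, c_1(L)^m is numerically trivial
— (L^m · V) = 0 for every integral closed subscheme V ⊆ X of dimension m — if and only if κ(L) < m
in the growth form: there are no ν > 0 and a > 0 with μ^m ≤ a · dim_k H^0(X, L^⊗νμ) for all μ ≥ 1.
(This expresses ν(L) = κ(L) for semi-ample L; characteristic zero only.) -/
theorem result (k : Type u) [Field k] [IsAlgClosed k] [CharZero k]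
    (X : Scheme.{u}) [X.Over (Spec (CommRingCat.of k))] [IsProper (X ↘ Spec (CommRingCat.of k))]
    [Smooth (X ↘ Spec (CommRingCat.of k))] [IrreducibleSpace X] (n : ℕ) (hn : topologicalKrullDim X = n)
    (H : X.Modules) (hH : CohB1.IsAmple H) (L Linv : X.Modules) (hL : PicF.IsInvertible L) (hLinv : ClSub.IsInverseOf Linv L)
    (hsa : ∃ μ : ℕ, 0 < μ ∧ Curv2.IsGloballyGenerated (CohB1.tensorPow L μ))
    (m : ℕ) :
    (∀ (V : Scheme.{u}) (i : V ⟶ X) [IsClosedImmersion i], IsIntegral V → topologicalKrullDim V = (m : ℕ) →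
      FGA.intNum k X n (fun _ : Fin m => Linv) ((Scheme.Modules.pushforward i).obj (Coh.structureModule V)) = 0) ↔ ¬ (∃ ν a : ℕ, 0 < ν ∧ 0 < a ∧ ∀ μ : ℕ, 1 ≤ μ →
        μ ^ m ≤ a * Module.finrank k (Coh.HH X (CohB1.tensorPow L (ν * μ)) 0)) := by
  haveI := CurveCohLib.isNoetherian_of_proper (k := k) (X := X)
  have hn' : topologicalKrullDim X = (n : WithBot ℕ∞) := hn
  have hnef := Nef45.isNef_of_semiample k hH hL hsa
  have conv : ∀ (V : Scheme.{u}) (i : V ⟶ X) [IsClosedImmersion i], topologicalKrullDim V = (m : ℕ) →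
      FGA.intNum k X n (fun _ : Fin m => Linv) ((Scheme.Modules.pushforward i).obj (Coh.structureModule V)) =
        Nef45.I k (List.replicate m L) ((Coh.push i).obj (Coh.structureModule V)) := fun V i hi hd =>
    Nef45.intNum_inv k hL hLinv hn'.le m (QCoh.isCoh_push_structure i) (Nef45.dimLT_push k i hd.le)
  refine ⟨fun hm => Nef45.not_growth_of_triv k hn'.le hH hL hnef fun V i hi hV hd => ?_, fun hng V i hi hV hd => ?_⟩
  · haveI := hi
    rw [← conv V i hd]
    exact hm V i hV hd
  rw [conv V i hd]
  by_contra hne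
  obtain ⟨μ, hμ, hgg⟩ := hsa
  refine hng ?_
  obtain ⟨K, a, hK, ha, hg⟩ := Nef45.exists_growth_of_gg k (InvX.isInvertible_tensorPow hL μ) hgg (m := m)
    fun ht => hne (Nef45.triv_of_triv_pow k hL hμ ht V i hi hV hd)
  refine ⟨μ * K, a, Nat.mul_pos hμ hK, ha, fun x hx => (hg x hx).trans_eq ?_⟩
  refine congrArg (a * ·) (HilbPoly.finrank_HH_iso k (H23.PicMul.cl_eq_iff.1 ?_).some 0)
  rw [H23.PicMul.cl_tensorPow, H23.PicMul.cl_tensorPow, H23.PicMul.cl_tensorPow, ← pow_mul, mul_assoc]

end Groth.Agent.S16904
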