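import Groth.Statements.S16948
import Groth.Agent.CExt24.BCComp

set_option autoImplicit false
universe u
open Coherent

namespace Groth.Agent.S16948

open AlgebraicGeometry CategoryTheory Scheme.Modules in
/-- Take two cartesian squares of schemes side by side, f : X → Y over φ : U → V (vertical maps ξ : X →
U and η : Y → V, f ≫ η = ξ ≫ φ) and g : Y → Z over ψ : V → W (vertical map ζ : Z → W, g ≫ ζ = η ≫
ψ), a quasi-coherent O_Z-module L and a natural number p. Write β for the degree-p base change maps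
of higher direct images (R^p the p-th right derived functor of direct image on O-modules; the maps
are the pinned ones of the structure GenBC relative to pinned comparison data for ζ, η and ξ): B₂
for the right square, B₁ for the left square, B for the outer square. Then the composite of the
composition isomorphism φ^* ψ^* R^p ζ_* L ≅ (φ ≫ ψ)^* R^p ζ_* L with β_B(L) equals φ^* β_{B₂}(L)
followed by β_{B₁}(g^* L) followed by R^p ξ_* of the composition isomorphism f^* g^* L ≅ (f ≫ g)^*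
L. The source states this for arbitrary ζ and η; its verification evaluates both sides on sections
of R^p ζ_* L and R^p η_*(g^* L) over affine opens, identified with cohomology classes over their
preimages, and that identification is the one available for ζ and η quasi-compact and
quasi-separated, which are therefore assumed here. -/
theorem result
    {X Y Z U V W : Scheme.{u}} (f : X ⟶ Y) (g : Y ⟶ Z) (ξ : X ⟶ U) (η : Y ⟶ V) (ζ : Z ⟶ W)
    (φ : U ⟶ V) (ψ : V ⟶ W) (h₁ : IsPullback f ξ η φ) (h₂ : IsPullback g η ζ ψ)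
    (hw : (f ≫ g) ≫ ζ = ξ ≫ (φ ≫ ψ))
    [QuasiCompact ζ] [QuasiSeparated ζ] [QuasiCompact η] [QuasiSeparated η]
    [HasInjectiveResolutions X.Modules] [HasInjectiveResolutions Y.Modules] [HasInjectiveResolutions Z.Modules]
    (L : Z.Modules) [Coh.IsQCoh L] (p : ℕ)
    {Δζ : RDer.DerivedLES (pushforward ζ)} {Δη : RDer.DerivedLES (pushforward η)} {Δξ : RDer.DerivedLES (pushforward ξ)}
    (Eζ : CohCmp.SectCmp ζ Δζ) (Eη : CohCmp.SectCmp η Δη) (Eξ : CohCmp.SectCmp ξ Δξ)
    (B₂ : CohCmp.GenBC ζ ψ η g h₂.w Eζ Eη) (B₁ : CohCmp.GenBC η φ ξ f h₁.w Eη Eξ)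
    (B : CohCmp.GenBC ζ (φ ≫ ψ) ξ (f ≫ g) hw Eζ Eξ) :
    (pullbackComp φ ψ).hom.app ((Coh.Rpush ζ p).obj L) ≫ B.bc p L =
      (pullback φ).map (B₂.bc p L) ≫ B₁.bc p ((pullback g).obj L) ≫
        (Coh.Rpush ξ p).map ((pullbackComp f g).hom.app L) := by
  let R := (Coh.Rpush ζ p).obj L
  refine CExt24.hom_eq_of_pullSec Eζ (φ ≫ ψ) _ _ (fun A x => ?_) |> fun h =>
    (cancel_epi ((pullbackComp φ ψ).inv.app R)).1 ((Iso.inv_hom_id_app_assoc _ _ _).trans h)
  rw [CExt24.bc_app_pullSec B (le_refl _) L p x, CExt24.comp_app_apply, CExt24.comp3_app_apply]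
  have h₂le : ψ ⁻¹ᵁ A ≤ ψ ⁻¹ᵁ A := le_refl _
  have h₁le : (φ ≫ ψ) ⁻¹ᵁ A ≤ φ ⁻¹ᵁ (ψ ⁻¹ᵁ A) := le_refl _
  rw [← ExistEasy.pullSec_comp φ ψ R h₂le h₁le (Eζ.ε A L p x)]
  have hinv : ∀ v, ((pullbackComp φ ψ).inv.app R).app ((φ ≫ ψ) ⁻¹ᵁ A)
      (((pullbackComp φ ψ).hom.app R).app ((φ ≫ ψ) ⁻¹ᵁ A) v) = v :=
    fun v => CExt24.app_inv_hom ((pullbackComp φ ψ).app R) _ v
  rw [hinv, ExistEasy.pullSec_natural φ (B₂.bc p L) h₁le, CExt24.bc_app_pullSec B₂ h₂le L p x,
    CExt24.bc_app_pullSec B₁ h₁le ((pullback g).obj L) p]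
  refine Eq.trans ?_ (Eξ.natural _ _ p _)
  rw [CExt24.pullOn_comp]

end Groth.Agent.S16948
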