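import Groth.Statements.S16951
import Groth.Agent.PicFRel.BcZero

set_option autoImplicit false
universe u
open PicF

namespace Groth.Agent.S16951

set_option backward.isDefEq.respectTransparency false
set_option backward.isDefEq.respectTransparency.types false
open Groth.Agent Groth.Agent.PicFRel

set_option linter.style.haveILetI false

open AlgebraicGeometry CategoryTheory Scheme.Modules in
/-- Let f : X → S be a proper flat morphism of locally Noetherian schemes whose fibres are geometrically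
integral, and let L be an invertible O_X-module with an inverse M (an isomorphism L ⊗ M ≅ O_X). Then
the following are equivalent: (a) L ≅ f^* L₀ for some invertible O_S-module L₀; (b) for N = L and
for N = M, at every point s of S the space H^0(X_s, N|_{X_s}) of sections over the scheme-theoretic
fibre is nonzero and the degree-0 base change map of the fibre square, κ(s)^* f_* N → (X_s → Spec
κ(s))_* (N|_{X_s}), is an epimorphism. When this holds, dim_{κ(s)} H^0(X_s, N|_{X_s}) = 1 for every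
s and both N, the counit f^* f_* L → L is an isomorphism, and any invertible L₀ with L ≅ f^* L₀ is
isomorphic to f_* L. -/
theorem result
    {X S : Scheme.{u}} (f : X ⟶ S) [IsProper f] [Flat f] [IsLocallyNoetherian X] [IsLocallyNoetherian S]
    [GeometricallyIntegral f] (L M : X.Modules) (hL : PicF.IsInvertible L)
    (hM : Nonempty (CohB1.tensorMod L M ≅ Coh.structureModule X)) :
    ((∃ L₀ : S.Modules, PicF.IsInvertible L₀ ∧ Nonempty (L ≅ (pullback f).obj L₀)) ↔
      ((∀ s : S, Nontrivial (CohIII.fiberH f L s 0)) ∧ (∀ s : S, Nontrivial (CohIII.fiberH f M s 0)) ∧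
        (∀ s : S, Epi (CohBC.bc0 f (S.fromSpecResidueField s) (f.fiberToSpecResidueField s) (f.fiberι s) (f.fiber_fac s) L)) ∧ (∀ s : S, Epi (CohBC.bc0 f (S.fromSpecResidueField s) (f.fiberToSpecResidueField s) (f.fiberι s) (f.fiber_fac s) M)))) ∧
    (((∀ s : S, Nontrivial (CohIII.fiberH f L s 0)) ∧ (∀ s : S, Nontrivial (CohIII.fiberH f M s 0)) ∧
        (∀ s : S, Epi (CohBC.bc0 f (S.fromSpecResidueField s) (f.fiberToSpecResidueField s) (f.fiberι s) (f.fiber_fac s) L)) ∧ (∀ s : S, Epi (CohBC.bc0 f (S.fromSpecResidueField s) (f.fiberToSpecResidueField s) (f.fiberι s) (f.fiber_fac s) M))) →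
      (∀ s : S, CohIII.fiberRank f L 0 s = 1 ∧ CohIII.fiberRank f M 0 s = 1) ∧
      IsIso ((pullbackPushforwardAdjunction f).counit.app L) ∧
      ∀ L₀ : S.Modules, PicF.IsInvertible L₀ → Nonempty (L ≅ (pullback f).obj L₀) →
        Nonempty (L₀ ≅ (pushforward f).obj L)) := by
  have hc : H23.RigidApply.ConstFibres f := H23.RigidApply.constFibres_of_geometricallyIntegral f
  have hf : ∀ W : S.Opens, Function.Bijective (f.app W) :=
    BcZero.bijective_app_of_univ (fun T g W => UnivH0.bijective_app f hc T g W)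
  obtain ⟨φ⟩ := hM
  have hMinv : PicF.IsInvertible M := SurfInt.isInvertible_of_tensor_iso hL φ
  have h0 : ∀ s : S, Function.Bijective (f.fiberToSpecResidueField s).appTop := fun s => hc s
  have hint : ∀ s : S, IsIntegral (f.fiber s) := fun s =>
    GeometricallyIntegral.isIntegral_of_subsingleton (f.fiberToSpecResidueField s)
  have hne : ∀ s : S, Nonempty ↥(f.fiber s) := fun s => (hint s).1
  -- frames for both from a descended module
  have hfwd : (∃ L₀ : S.Modules, PicF.IsInvertible L₀ ∧ Nonempty (L ≅ (pullback f).obj L₀)) →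
      ∀ s : S, ∃ V : S.Opens, s ∈ V ∧ (∃ x : Γ(L, f ⁻¹ᵁ V), InvX.IsFrame x) ∧
        ∃ y : Γ(M, f ⁻¹ᵁ V), InvX.IsFrame y := by
    rintro ⟨L₀, hL₀, ⟨e⟩⟩ s
    obtain ⟨V, hV, ε, hε⟩ := InvX.exists_frame hL₀ s
    have hx := (InvX.isFrame_pullElt f hε).map_iso e.symm
    obtain ⟨ψ⟩ := InvX.nonempty_iso_of_isFrame hx
    have hT : H23.TrivBasic.Triv ((pullback (f ⁻¹ᵁ V).ι).obj L) :=
      H23.TrivBasic.Triv.of_iso ((restrictFunctorIsoPullback (f ⁻¹ᵁ V).ι).app L) ⟨ψ⟩
    refine ⟨V, hV, ⟨_, hx⟩, ?_⟩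
    have := H23.SeesawGlobal.exists_frame_of_triv (f ⁻¹ᵁ V).ι (BcZero.triv_inverse _ φ hT)
    rwa [Scheme.Opens.opensRange_ι] at this
  -- frames from the fibre conditions
  have hbwd : ((∀ s : S, Nontrivial (CohIII.fiberH f L s 0)) ∧ (∀ s : S, Nontrivial (CohIII.fiberH f M s 0)) ∧
      (∀ s : S, Epi (CohBC.bc0 f (S.fromSpecResidueField s) (f.fiberToSpecResidueField s) (f.fiberι s) (f.fiber_fac s) L)) ∧
      (∀ s : S, Epi (CohBC.bc0 f (S.fromSpecResidueField s) (f.fiberToSpecResidueField s) (f.fiberι s) (f.fiber_fac s) M))) →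
      ∀ s : S, ∃ V : S.Opens, s ∈ V ∧ ∃ x : Γ(L, f ⁻¹ᵁ V), InvX.IsFrame x := by
    rintro ⟨h1, h2, h3, -⟩ s
    obtain ⟨y, hy⟩ := (BcZero.nontrivial_fiberH_iff L s).1 (h1 s)
    obtain ⟨y', hy'⟩ := (BcZero.nontrivial_fiberH_iff M s).1 (h2 s)
    haveI := hint s
    have hΓ := H23.Seesaw.isField_Γ (K := S.residueField s) (f.fiberToSpecResidueField s) (h0 s)
    have hT := BcZero.triv_of_sections hΓ (PicClLib.isInvertible_pullback (f.fiberι s) hL)
      (PicClLib.isInvertible_pullback (f.fiberι s) hMinv)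
      ((H23.PicMul.pull (f.fiberι s) L M).some.symm ≪≫ (pullback (f.fiberι s)).mapIso φ ≪≫
        (PicClLib.nonempty_pullback_structureModule (f.fiberι s)).some) hy hy'
    obtain ⟨V, x, hx⟩ := BcZero.exists_section_of_epi (f.fiber_fac s) L (h3 s) ⟨y, hy⟩
    have hV : s ∈ V := by
      by_contra hV
      refine hx (AModX.eq_of_locally (M := (pullback (f.fiberι s)).obj L) _ _ fun p hp => ?_)
      refine absurd ?_ hV
      have : f (f.fiberι s p) ∈ V := hp
      rwa [← Scheme.Hom.comp_apply, f.fiber_fac, Scheme.Hom.comp_apply,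
        Scheme.fromSpecResidueField_apply] at this
    have htop : f.fiberι s ⁻¹ᵁ (f ⁻¹ᵁ V) = ⊤ := by
      rw [eq_top_iff]
      intro p _
      show f (f.fiberι s p) ∈ V
      rw [← Scheme.Hom.comp_apply, f.fiber_fac, Scheme.Hom.comp_apply, Scheme.fromSpecResidueField_apply]
      exact hV
    refine BcZero.exists_frame_nhd (Scheme.Hom.isClosedMap f) hL s hV x ?_
    revert hx
    generalize InvX.pullElt (f.fiberι s) x = z
    revert z
    rw [htop]
    exact fun z hz => H23.TrivBasic.isFrame_of_ne_zero hT hΓ hz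
  refine ⟨⟨fun h => ?_, fun h => ?_⟩, fun h => ?_⟩
  · choose V hV hx hy using hfwd h
    choose x hx using hx
    choose y hy using hy
    exact ⟨fun s => (BcZero.of_frame s L (h0 s) (hne s) (hV s) (x s) (hx s)).1,
      fun s => (BcZero.of_frame s M (h0 s) (hne s) (hV s) (y s) (hy s)).1,
      fun s => (BcZero.of_frame s L (h0 s) (hne s) (hV s) (x s) (hx s)).2.1,
      fun s => (BcZero.of_frame s M (h0 s) (hne s) (hV s) (y s) (hy s)).2.1⟩
  · obtain ⟨h1, h2⟩ := S16759.of_local f hf L (hbwd h)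
    haveI := h2
    exact ⟨_, h1, ⟨(asIso ((pullbackPushforwardAdjunction f).counit.app L)).symm⟩⟩
  · obtain ⟨h1, h2⟩ := S16759.of_local f hf L (hbwd h)
    haveI := h2
    have hfr := hfwd ⟨_, h1, ⟨(asIso ((pullbackPushforwardAdjunction f).counit.app L)).symm⟩⟩
    refine ⟨fun s => ?_, h2, fun L₀ hL₀ ⟨e⟩ => ?_⟩
    · obtain ⟨V, hV, ⟨x, hx⟩, y, hy⟩ := hfr s
      exact ⟨(BcZero.of_frame s L (h0 s) (hne s) hV x hx).2.2,
        (BcZero.of_frame s M (h0 s) (hne s) hV y hy).2.2⟩
    · haveI := H23.PullPush.isIso_unit_of_isFinLocFree f hf L₀ (H23.PullPush.isFinLocFree_of_isInvertible hL₀)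
      exact ⟨asIso ((pullbackPushforwardAdjunction f).unit.app L₀) ≪≫ (pushforward f).mapIso e.symm⟩


end Groth.Agent.S16951
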