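import Groth.Statements.S16953
import Groth.Agent.CExt24.PushEdge
import Groth.Agent.KFlatLib.Scheme.Grothendieck

set_option autoImplicit false
universe u
open Coherent

namespace Groth.Agent.S16953

open AlgebraicGeometry CategoryTheory Scheme.Modules in
/-- Let f : X → Y be an affine morphism of schemes and F a quasi-coherent O_X-module. Then the canonical
map H^1(Y, f_* F) → H^1(X, F) (the edge map: pullback of cohomology classes along f followed by the
map induced by the counit f^* f_* F → F) is bijective. -/
theorem result
    {X Y : Scheme.{u}} (f : X ⟶ Y) [IsAffineHom f] (F : X.Modules) [Coh.IsQCoh F] :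
    Function.Bijective (CohPull.pushEdge f F 1) := by
  haveI : HasInjectiveResolutions X.Modules := inferInstance
  exact CExt24.bijective_pushEdge f F (fun q hq => by
    obtain ⟨q, rfl⟩ := Nat.exists_eq_add_one.2 hq
    exact CExt24.isZero_Rpush_of_affine f F inferInstance q) 1

end Groth.Agent.S16953
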