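import Groth.Statements.S1696
import Groth.Agent.FlatX.RelCartier
import Groth.Agent.KFlatLib.Scheme.Pullback
import Groth.Agent.QCoh.Stalk
import Mathlib.RingTheory.Flat.TorsionFree

set_option autoImplicit false
set_option linter.style.haveILetI false
set_option backward.isDefEq.respectTransparency false
set_option backward.isDefEq.respectTransparency.types false
universe u
open CategoryTheory CategoryTheory.Limits AlgebraicGeometry TopologicalSpace
open SDiv

namespace Groth.Agent.S1696

/-- Let b : S' → S be the blowing-up of a scheme S in a quasi-coherent sheaf of ideals 𝓘 and F a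
quasi-coherent O_S-module which is flat at every point of V(𝓘), the support of O_S/𝓘. Then the
pullback b^*F is its own strict transform (via the identity map): no nonzero local section of b^*F
is annihilated by a power of the exceptional ideal. -/
theorem result {S S' : Scheme.{u}} (𝓘 : S.IdealSheafData) (b : S' ⟶ S) (hb : BlowUp.IsBlowUp b 𝓘)
    (F : S.Modules) (hF : Coh.IsQCoh F) (hflat : ∀ s : ↥S, s ∈ 𝓘.support → FlatMod.IsFlatAt F s) :
    BlowUp.IsStrictTransform b 𝓘 F ((Scheme.Modules.pullback b).obj F) (𝟙 _) := by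
  refine ⟨inferInstance, fun V m => ⟨fun h => ⟨0, fun a _ => ?_⟩, fun h => ?_⟩⟩
  · rw [show m = 0 from h]; exact smul_zero a
  obtain ⟨n, hn⟩ := h
  show m = 0
  refine TopCat.Presheaf.section_ext (C := AddCommGrpCat.{u}) ⟨((Scheme.Modules.pullback b).obj F).presheaf, ((Scheme.Modules.pullback b).obj F).isSheaf⟩ V.1 m 0 fun x hx => ?_
  change ((Scheme.Modules.pullback b).obj F).presheaf.germ V.1 x hx m = ((Scheme.Modules.pullback b).obj F).presheaf.germ V.1 x hx 0
  rw [map_zero]
  obtain ⟨W, hxW, hWV, g, hg, hgI⟩ := Groth.Agent.FlatX.exists_locGen hb.1 hx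
  set E := 𝓘.comap b
  have hW : (E ^ n).ideal W = Ideal.span {g ^ n} := by
    rw [Scheme.IdealSheafData.ideal_pow, Pi.pow_apply, hgI, Ideal.span_singleton_pow]
  have hgm : g ^ n • ((Scheme.Modules.pullback b).obj F).presheaf.map (homOfLE hWV).op m = 0 := by
    let A : Ideal Γ(S', W.1) :=
      { carrier := {a | a • ((Scheme.Modules.pullback b).obj F).presheaf.map (homOfLE hWV).op m = 0}
        zero_mem' := zero_smul _ _
        add_mem' := fun {a c} ha hc => by
          change (a + c) • _ = 0
          rw [add_smul]; exact (congrArg₂ (· + ·) ha hc).trans (add_zero _)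
        smul_mem' := fun c a ha => by
          change (c * a) • _ = 0
          rw [mul_smul]; exact (congrArg (c • ·) ha).trans (smul_zero c) }
    have hle : (E ^ n).ideal W ≤ A := by
      rw [← (E ^ n).map_ideal hWV, Ideal.map_le_iff_le_comap]
      intro a ha
      change (S'.presheaf.map (homOfLE hWV).op a) • ((Scheme.Modules.pullback b).obj F).presheaf.map (homOfLE hWV).op m = 0
      rw [← Groth.Agent.QCoh.map_smul', hn a ha, map_zero]
    exact hle (hW ▸ Ideal.mem_span_singleton_self _)
  have h0 := congrArg (((Scheme.Modules.pullback b).obj F).presheaf.germ W.1 x hxW) hgm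
  rw [Groth.Agent.QCoh.germ_smul', map_zero, TopCat.Presheaf.germ_res_apply, map_pow] at h0
  letI := (S'.presheaf.germ W.1 x hxW).hom.toAlgebra
  haveI : IsLocalization.AtPrime (S'.presheaf.stalk x) (W.2.primeIdealOf ⟨x, hxW⟩).asIdeal :=
    W.2.isLocalization_stalk ⟨x, hxW⟩
  have hgx : S'.presheaf.germ W.1 x hxW g ∈ nonZeroDivisors (S'.presheaf.stalk x) :=
    IsLocalization.map_nonZeroDivisors_le (W.2.primeIdealOf ⟨x, hxW⟩).asIdeal.primeCompl _
      (Submonoid.mem_map_of_mem _ hg)
  by_cases hu : IsUnit (S'.presheaf.germ W.1 x hxW g)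
  · exact (hu.pow n).smul_eq_zero.1 h0
  have hsupp : b x ∈ 𝓘.support := by
    have hxE : x ∈ E.support := by
      rw [Scheme.IdealSheafData.mem_support_iff_of_mem (U := W) hxW, hgI, Scheme.zeroLocus_span,
        Scheme.mem_zeroLocus_iff]
      intro y hy hxg
      rw [Set.mem_singleton_iff] at hy
      exact hu ((S'.mem_basicOpen g x hxW).1 (hy ▸ hxg))
    rw [Scheme.IdealSheafData.support_comap] at hxE
    exact hxE
  haveI : Module.Flat (S.presheaf.stalk (b x)) (F.presheaf.stalk (b x)) := hflat _ hsupp
  have e := ((Groth.Agent.KFlatLib.stalkPullbackIso b x).app F).toLinearEquiv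
  algebraize [(b.stalkMap x).hom]
  haveI : Module.Flat (S'.presheaf.stalk x)
      (TensorProduct (S.presheaf.stalk (b x)) (S'.presheaf.stalk x) (F.presheaf.stalk (b x))) := inferInstance
  have hreg : IsSMulRegular (TensorProduct (S.presheaf.stalk (b x)) (S'.presheaf.stalk x) (F.presheaf.stalk (b x)))
      (S'.presheaf.germ W.1 x hxW g ^ n) := Module.Flat.isSMulRegular_of_nonZeroDivisors (R := S'.presheaf.stalk x) (M := TensorProduct (S.presheaf.stalk (b x)) (S'.presheaf.stalk x) (F.presheaf.stalk (b x))) (pow_mem hgx n)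
  refine e.injective ((hreg ?_).trans (map_zero e).symm)
  change (S'.presheaf.germ W.1 x hxW g ^ n) • e _ = (S'.presheaf.germ W.1 x hxW g ^ n) • 0
  rw [smul_zero]
  exact ((e.map_smul _ _).symm.trans (congrArg e h0)).trans (map_zero e)

end Groth.Agent.S1696
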