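import Groth.Statements.S16967
import Groth.Agent.LS17.Hom
import Groth.Agent.CurveCohLib.RegularCurve
-- import your own Groth.Agent.* helpers here

set_option autoImplicit false
universe u
open CategoryTheory CategoryTheory.Limits AlgebraicGeometry Opposite
open Curves

namespace Groth.Agent.S16967

attribute [local instance] Groth.Agent.CurveFF.ffAlg

/-- Let X be a smooth projective curve over an algebraically closed field k of characteristic 0
(integral, proper over k, of dimension one, all local rings regular) of genus g ≥ 3 that is not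
hyperelliptic: there is no invertible module of degree 2 with two k-linearly independent global
sections. Then the canonical morphism of X is linearly stable, stated through the criterion by
invertible subsheaves: for every invertible module M and every monomorphism ι : M ⟶ Ω_{X/k} which is
not an isomorphism, with dim_k H^0(X, M) ≥ 2, one has deg Ω_{X/k} · (h^0(M) - 1) < deg M ·
(h^0(Ω_{X/k}) - 1). Degrees are χ(·) - χ(O_X). -/
theorem result (k : Type u) [Field k] [IsAlgClosed k] [CharZero k] (X : Scheme.{u}) [X.Over (Spec (CommRingCat.of k))]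
    [IsIntegral X] [IsProper (X ↘ (Spec (CommRingCat.of k)))] (hdim : topologicalKrullDim X = 1)
    (hreg : ∀ x : X, IsRegularLocalRing (X.presheaf.stalk x))
    (hg : 3 ≤ Curv2.genus k X)
    (hnh : ¬ ∃ (N : X.Modules) (t : Fin 2 → LinSer.Sect X N), LinSer.IsLinSer k X N 2 1 t)
    (M : X.Modules) (hM : PicF.IsInvertible M) (ι : M ⟶ Omega.sheaf (X ↘ (Spec (CommRingCat.of k)))) [Mono ι] (hι : ¬ IsIso ι)
    (h2 : 2 ≤ Module.finrank k (Coh.HH X M 0)) :
    Curv2.deg k X (Omega.sheaf (X ↘ (Spec (CommRingCat.of k)))) 1 * ((Module.finrank k (Coh.HH X M 0) : ℤ) - 1) <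
      Curv2.deg k X M 1 * ((Module.finrank k (Coh.HH X (Omega.sheaf (X ↘ (Spec (CommRingCat.of k)))) 0) : ℤ) - 1) := by
  haveI : Smooth (X ↘ Spec (CommRingCat.of k)) :=
    CurveCohLib.RegularCurve.smooth_of_regular k fun x _ => hreg x
  obtain ⟨C, hC, hΩ⟩ := LS17.exists_canonical_hasDiv k (X := X) hdim
  have hK := CurveFF.isFunctionField k X hdim
  have hgK : FunFld.genus k X.functionField = Curv2.genus k X := CurveFF.genus_eq k hdim
  have hΩi := CurveFF.isInvertible_Ωm k X hdim
  have hΩd := (CurveFF.canonical_invariants k X hdim).2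
  have hΩh := (CurveFF.canonical_invariants k X hdim).1
  obtain ⟨D, hD⟩ := LS17.exists_hasDiv k hdim hM
  have hι0 := LS17.ne_zero_of_mono k hdim ι (by omega)
  have hCD := LS17.lin_of_hom k hdim hD hΩ ι hι0
  have hdeg := CurveDeg.deg_le_and_isIso k hdim.le hM hΩi ι hι0
  have hlt : Curv2.deg k X M 1 < Curv2.deg k X (Omega.sheaf (X ↘ Spec (CommRingCat.of k))) 1 :=
    lt_of_le_of_ne hdeg.1 fun h => hι (hdeg.2 h)
  rw [hΩd, hΩh, hD.h0 k hdim, hD.deg k hdim]
  rw [hΩd, hD.deg k hdim] at hlt
  rw [hD.h0 k hdim] at h2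
  have hstrict : 2 * ((FunFld.ell D : ℤ) - 1) < D.deg := by
    rcases le_or_gt 2 (FunFld.ell (C - D)) with h | h
    · by_contra hcon
      obtain ⟨A, hA, hA'⟩ := LS17.hyperelliptic_of_clifford hK hC h2 h (by omega)
      exact hnh (LS17.exists_linSer k hdim (d := 2) (r := 1) (by exact_mod_cast hA) hA')
    · have := LS17.rr_C hK hC D
      omega
  have hg' : (3 : ℤ) ≤ Curv2.genus k X := by exact_mod_cast hg
  nlinarith
end Groth.Agent.S16967
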