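import Groth.Statements.S16968
import Groth.Agent.LS17.Hom
import Groth.Agent.CurveCohLib.RegularCurve
-- import your own Groth.Agent.* helpers here

set_option autoImplicit false
universe u
open CategoryTheory CategoryTheory.Limits AlgebraicGeometry Opposite
open Curves

namespace Groth.Agent.S16968

attribute [local instance] Groth.Agent.CurveFF.ffAlg

/-- Let X be a smooth projective curve over an algebraically closed field k of characteristic 0
(integral, proper over k, of dimension one, all local rings regular) of genus g ≥ 3 which is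
hyperelliptic, with a g^1_2 given as an invertible module N of degree 2 and two k-linearly
independent global sections t_0, t_1. Then the canonical morphism of X is linearly semistable but
not linearly stable, stated through the criterion by invertible subsheaves: (i) for every invertible
module M and every monomorphism ι : M ⟶ Ω_{X/k} which is not an isomorphism, with dim_k H^0(X, M) ≥
2, one has deg Ω_{X/k} · (h^0(M) - 1) ≤ deg M · (h^0(Ω_{X/k}) - 1); (ii) N admits a monomorphism
into Ω_{X/k} which is not an isomorphism and for which equality holds. Degrees are χ(·) - χ(O_X).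
(The published statement gives no genus bound for the hyperelliptic case; here g ≥ 3 is assumed,
since for g = 2 the module N is the canonical module itself and clause (ii) fails.) -/
theorem result (k : Type u) [Field k] [IsAlgClosed k] [CharZero k] (X : Scheme.{u}) [X.Over (Spec (CommRingCat.of k))]
    [IsIntegral X] [IsProper (X ↘ (Spec (CommRingCat.of k)))] (hdim : topologicalKrullDim X = 1)
    (hreg : ∀ x : X, IsRegularLocalRing (X.presheaf.stalk x))
    (hg : 3 ≤ Curv2.genus k X)
    (N : X.Modules) (t : Fin 2 → LinSer.Sect X N) (hN : LinSer.IsLinSer k X N 2 1 t) :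
    (∀ (M : X.Modules) (ι : M ⟶ Omega.sheaf (X ↘ (Spec (CommRingCat.of k)))), PicF.IsInvertible M → Mono ι → ¬ IsIso ι →
        2 ≤ Module.finrank k (Coh.HH X M 0) →
        Curv2.deg k X (Omega.sheaf (X ↘ (Spec (CommRingCat.of k)))) 1 * ((Module.finrank k (Coh.HH X M 0) : ℤ) - 1) ≤
          Curv2.deg k X M 1 * ((Module.finrank k (Coh.HH X (Omega.sheaf (X ↘ (Spec (CommRingCat.of k)))) 0) : ℤ) - 1)) ∧
      ∃ ι : N ⟶ Omega.sheaf (X ↘ (Spec (CommRingCat.of k))), Mono ι ∧ ¬ IsIso ι ∧
        Curv2.deg k X (Omega.sheaf (X ↘ (Spec (CommRingCat.of k)))) 1 * ((Module.finrank k (Coh.HH X N 0) : ℤ) - 1) =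
          Curv2.deg k X N 1 * ((Module.finrank k (Coh.HH X (Omega.sheaf (X ↘ (Spec (CommRingCat.of k)))) 0) : ℤ) - 1) := by
  haveI : Smooth (X ↘ Spec (CommRingCat.of k)) :=
    CurveCohLib.RegularCurve.smooth_of_regular k fun x _ => hreg x
  obtain ⟨C, hC, hΩ⟩ := LS17.exists_canonical_hasDiv k (X := X) hdim
  have hK := CurveFF.isFunctionField k X hdim
  have hgK : FunFld.genus k X.functionField = Curv2.genus k X := CurveFF.genus_eq k hdim
  have hΩi := CurveFF.isInvertible_Ωm k X hdim
  have hΩd := (CurveFF.canonical_invariants k X hdim).2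
  have hΩh := (CurveFF.canonical_invariants k X hdim).1
  have hg' : (3 : ℤ) ≤ Curv2.genus k X := by exact_mod_cast hg
  obtain ⟨P₀⟩ := FFLib.exists_place hK.1
  refine ⟨fun M ι hM _ hι h2 => ?_, ?_⟩
  · obtain ⟨D, hD⟩ := LS17.exists_hasDiv k hdim hM
    have hι0 := LS17.ne_zero_of_mono k hdim ι (by omega)
    have hdeg := CurveDeg.deg_le_and_isIso k hdim.le hM hΩi ι hι0
    rw [hΩd, hD.deg k hdim] at hdeg
    rw [hΩd, hΩh, hD.h0 k hdim, hD.deg k hdim]
    rw [hD.h0 k hdim] at h2
    have h0 := FFLib.deg_nonneg_of_ell_pos hK.1 (D := D) (by omega)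
    have := FFLib.clifford hK (FFLib.deg_eq_one hK.1 P₀) h0 (by omega)
    nlinarith
  · obtain ⟨hNi, hNd, hNs⟩ := hN
    obtain ⟨D, hD⟩ := LS17.exists_hasDiv k hdim hNi
    haveI := CurveCohLib.isNoetherian_of_proper (k := k) (X := X)
    have h2 := CurveCohLib.Pencil.le_h0_of_linIndep k (CurveDeg.isCoh_of_isInvertible hNi) t hNs
    rw [hD.h0 k hdim] at h2
    rw [hD.deg k hdim] at hNd
    push_cast at hNd
    have hr := LS17.rr_C hK hC D
    obtain ⟨ι, hι0, hι⟩ := LS17.exists_mono_of_ell k hdim hD hΩ (by omega)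
    refine ⟨ι, hι, fun hiso => ?_, ?_⟩
    · haveI := hiso
      have := CurveRR.deg_congr k (asIso ι) 1
      rw [hD.deg k hdim, hΩd] at this
      omega
    · have hc := FFLib.clifford hK (FFLib.deg_eq_one hK.1 P₀) (D := D) (by omega) (by omega)
      rw [hΩd, hΩh, hD.h0 k hdim, hD.deg k hdim, hNd, show (FunFld.ell D : ℤ) = 2 by omega]
      ring
end Groth.Agent.S16968
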