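import Groth.Statements.S16977
import Groth.Agent.LS17.BirSeries
import Groth.Agent.CurveCohLib.RegularCurve

set_option autoImplicit false
universe u
open CategoryTheory CategoryTheory.Limits AlgebraicGeometry Opposite
open Curves

namespace Groth.Agent.S16977

attribute [local instance] Groth.Agent.CurveFF.ffAlg

/-- Let X be a smooth projective curve over an algebraically closed field k of characteristic 0
(integral, proper over k, of dimension one, all local rings regular) of genus g, and L an invertible
O_X-module of degree d which is special (dim_k H^1(X, L) ≥ 1) with dim_k H^0(X, L) = r + 1. Suppose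
the map given by the complete linear system of L is birational onto its image: there are an integral
closed subscheme j : Y ⟶ P^r_k, a morphism φ : X ⟶ Y over k which restricts to an isomorphism over
some nonempty open subset of Y, and a monomorphism ι from the pullback of O(1) along φ ≫ j into L,
such that every nonzero global section of O(1) on P^r_k pulls back to a nonzero section (so the r +
1 coordinate sections span H^0(X, L) and φ ≫ j is the map of the complete linear system, base points
allowed). Then: (a) if L ⊗ L is special (dim_k H^1(X, L ⊗ L) ≥ 1), 3r - 1 ≤ d; (b) if L ⊗ L is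
non-special, 3r - 1 + g ≤ 2d. Degrees are χ(·) - χ(O_X). -/
theorem result (k : Type u) [Field k] [IsAlgClosed k] [CharZero k] (X : Scheme.{u}) [X.Over (Spec (CommRingCat.of k))]
    [IsIntegral X] [IsProper (X ↘ (Spec (CommRingCat.of k)))] (hdim : topologicalKrullDim X = 1)
    (hreg : ∀ x : X, IsRegularLocalRing (X.presheaf.stalk x))
    (L : X.Modules) (hL : PicF.IsInvertible L) (r : ℕ)
    (h0 : Module.finrank k (Coh.HH X L 0) = r + 1) (h1 : 1 ≤ Module.finrank k (Coh.HH X L 1))
    (Y : Scheme.{u}) [IsIntegral Y] (j : Y ⟶ CohB1.ProjSpace r k) [IsClosedImmersion j] (φ : X ⟶ Y)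
    (hφ : φ ≫ j ≫ CohB1.ProjSpace.toSpec r k = X ↘ Spec (CommRingCat.of k))
    (hbir : ∃ U : Y.Opens, (U : Set Y).Nonempty ∧ IsIso (φ ∣_ U))
    (ι : (Scheme.Modules.pullback (φ ≫ j)).obj (Twist.twistProjSpace r k 1) ⟶ L) [Mono ι]
    (hnd : ∀ s : LinSer.Sect (CohB1.ProjSpace r k) (Twist.twistProjSpace r k 1), s ≠ 0 → OmegaSh.pullSect (φ ≫ j) (Twist.twistProjSpace r k 1) ⊤ s ≠ 0) :
    (1 ≤ Module.finrank k (Coh.HH X (CohB1.tensorMod L L) 1) → 3 * (r : ℤ) - 1 ≤ Curv2.deg k X L 1) ∧
      (Module.finrank k (Coh.HH X (CohB1.tensorMod L L) 1) = 0 →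
        3 * (r : ℤ) - 1 + Curv2.genus k X ≤ 2 * Curv2.deg k X L 1) := by
  haveI : Smooth (X ↘ Spec (CommRingCat.of k)) :=
    CurveCohLib.RegularCurve.smooth_of_regular k fun x _ => hreg x
  have hr' : (φ ≫ j) ≫ CohB1.ProjSpace.toSpec r k = X ↘ Spec (CommRingCat.of k) := by
    rw [Category.assoc, hφ]
  obtain ⟨D, f, hD, hli, hbpf, hrat⟩ := LS17.exists_series_of_map k (φ ≫ j) hr' hdim hnd
  have hG := LS17.seriesGen_of_birational k j φ hφ hbir f hrat
  have hK := CurveFF.isFunctionField k X hdim
  haveI : CharZero k := inferInstance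
  obtain ⟨C, hC⟩ := FFLib.exists_canonical hK
  have hdimV := (finrank_span_eq_card hli).trans (Fintype.card_fin _)
  obtain ⟨DL, hDL⟩ := LS17.exists_hasDiv k hdim hL
  have hι : ι ≠ 0 := fun e => by
    have h := (cancel_mono ι).1 (show 𝟙 _ ≫ ι = 0 ≫ ι by rw [e, comp_zero, comp_zero])
    obtain ⟨i, hi⟩ : ∃ i, f i ≠ 0 := ⟨0, hli.ne_zero 0⟩
    refine hnd (ProjUP.coord r k 0) (fun h0 => ?_) ?_
    · refine one_ne_zero (α := k) (?_ : (1 : k) = 0)
      have := LS17.linearIndependent_coord k (n := r) (Pi.single 0 1) (by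
        refine Finset.sum_eq_zero fun l _ => ?_
        rcases eq_or_ne l 0 with rfl | hl
        · rw [show (ProjUP.coord r k 0 : Γ(Twist.twistProjSpace r k 1, ⊤)) = 0 from h0]
          exact smul_zero _
        · rw [Pi.single_eq_of_ne hl, map_zero, map_zero, zero_smul]) 0
      simpa using this
    · exact congr($(h).app ⊤ _)
  have hpos := LS17.lin_of_hom k hdim hD hDL ι hι
  have hell := hDL.h0 k hdim
  rw [h0] at hell
  have hL1 := hDL.rr k hdim hC
  rw [hL1] at h1
  have hLL := hDL.tensor k hdim hDL
  rw [hLL.rr k hdim hC, hDL.deg k hdim, ← CurveFF.genus_eq k hdim]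
  have hgr : r ≤ FunFld.genus k X.functionField + 1 := by
    have h4 := LS17.hopf hK (D := DL) (E := C - DL) (by omega) (by omega)
    rw [add_sub_cancel, FFLib.ell_canonical hK hC] at h4
    omega
  have h3 := LS17.three_mul_le_ell hK hbpf hdimV hG hgr
  have h3' : 3 * r ≤ FunFld.ell (DL + DL) := by
    have h5 := LS17.hopf hK (D := DL - D) (E := DL - D) (by omega) (by omega)
    rcases Nat.eq_zero_or_pos (FunFld.ell (D + D)) with h6 | h6
    · omega
    · have h7 := LS17.hopf hK (D := D + D) (E := DL - D + (DL - D)) h6 (by omega)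
      rw [show D + D + (DL - D + (DL - D)) = DL + DL by abel] at h7
      omega
  have hpos2 := LS17.hopf hK (D := DL) (E := DL) (by omega) (by omega)
  have hRR := (LS17.rr_C hK hC (DL + DL)).1
  rw [FFLib.Divisor.deg_add] at hRR
  constructor
  · intro hsp
    have h4 := LS17.hopf hK (D := DL + DL) (E := C - (DL + DL)) (by omega) (by omega)
    rw [add_sub_cancel, FFLib.ell_canonical hK hC] at h4
    omega
  · intro hns
    omega

end Groth.Agent.S16977
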