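import Groth.Statements.S1700
import Groth.Agent.Div57.UfdAlg
import Groth.Agent.Div57.StIdeal

set_option autoImplicit false
universe u
open CategoryTheory CategoryTheory.Limits AlgebraicGeometry TopologicalSpace
open SDiv

namespace Groth.Agent.S1700

/-- Let X be a Noetherian scheme and 𝓘 a quasi-coherent ideal sheaf with closed subscheme Z such that
(1) Z has no embedded points: every point of Z whose local ring has its maximal ideal associated is
a maximal point of Z; (2) every maximal point of Z has codimension 1 in X (the local ring of X there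
has dimension 1); (3) the local ring of X at every point of Z is a unique factorisation domain. Then
𝓘 is the ideal sheaf of an effective Cartier divisor. -/
theorem result (X : Scheme.{u}) [IsNoetherian X] (𝓘 : X.IdealSheafData)
    (h1 : ∀ z : ↥𝓘.subscheme, IsAssociatedPrime (IsLocalRing.maximalIdeal ↑(𝓘.subscheme.presheaf.stalk z)) ↑(𝓘.subscheme.presheaf.stalk z) → ∀ z' : ↥𝓘.subscheme, z' ⤳ z → z' = z)
    (h2 : ∀ z : ↥𝓘.subscheme, (∀ z' : ↥𝓘.subscheme, z' ⤳ z → z' = z) →
      ringKrullDim (X.presheaf.stalk (𝓘.subschemeι z)) = 1)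
    (h3 : ∀ x : ↥X, x ∈ 𝓘.support → IsDomain (X.presheaf.stalk x) ∧ UniqueFactorizationMonoid (X.presheaf.stalk x)) :
    BlowUp.IsEffCartierIdeal 𝓘 := by
  classical
  refine Div57.isEffCartier_of_stI 𝓘 fun x hx => ?_
  obtain ⟨hdom, hufd⟩ := h3 x hx
  haveI : IsNoetherianRing (X.presheaf.stalk x) := inferInstance
  obtain ⟨g, hg, hI⟩ := Div57.exists_span_eq_of_ass (Div57.stI 𝓘 x) fun P hP => by
    obtain ⟨hPp, z₀, hz₀⟩ := Alg6.mem_ass_iff.1 hP
    obtain ⟨b, rfl⟩ := Ideal.Quotient.mk_surjective z₀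
    haveI := hPp
    have hkey : ∀ a, a ∈ P ↔ a * b ∈ Div57.stI 𝓘 x := fun a => by
      rw [hz₀ a, Algebra.smul_def, Ideal.Quotient.algebraMap_eq, ← map_mul, Ideal.Quotient.eq_zero_iff_mem]
    obtain ⟨y, hy, hyP⟩ := H23.StalkPrimes.exists_point P
    subst hyP
    letI : Algebra (X.presheaf.stalk x) (X.presheaf.stalk y) := (X.presheaf.stalkSpecializes hy).hom.toAlgebra
    haveI := H23.StalkPrimes.isLocalization_primeOf hy
    let φ := algebraMap (X.presheaf.stalk x) (X.presheaf.stalk y)
    have hIy : Div57.stI 𝓘 y = (Div57.stI 𝓘 x).map φ := (Div57.stI_map 𝓘 hy).symm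
    have hb : φ b ∉ Div57.stI 𝓘 y := fun h => by
      rw [hIy, IsLocalization.algebraMap_mem_map_algebraMap_iff (CDiv6.primeOf hy).asIdeal.primeCompl] at h
      obtain ⟨t, ht, htb⟩ := h
      exact ht ((hkey t).2 htb)
    have hmax : ∀ a ∈ IsLocalRing.maximalIdeal (X.presheaf.stalk y), a * φ b ∈ Div57.stI 𝓘 y := fun a ha => by
      rw [← IsLocalization.AtPrime.map_eq_maximalIdeal (CDiv6.primeOf hy).asIdeal (X.presheaf.stalk y)] at ha
      rw [hIy]
      have : (CDiv6.primeOf hy).asIdeal.map φ ≤ ((Div57.stI 𝓘 x).map φ).colon {φ b} :=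
        Ideal.map_le_iff_le_comap.2 fun c hc => by
          rw [Ideal.mem_comap, Submodule.mem_colon_singleton, smul_eq_mul, ← map_mul]
          exact Ideal.mem_map_of_mem φ ((hkey c).1 hc)
      have h := this ha
      rwa [Submodule.mem_colon_singleton, smul_eq_mul] at h
    have hyS : y ∈ 𝓘.support := (Div57.mem_support_iff 𝓘).2 fun h => hb (h ▸ Submodule.mem_top)
    rw [← SetLike.mem_coe, ← Scheme.IdealSheafData.range_subschemeι] at hyS
    obtain ⟨z, rfl⟩ := hyS
    let σ := (𝓘.subschemeι.stalkMap z).hom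
    have hσ : Function.Surjective σ := 𝓘.subschemeι.stalkMap_surjective z
    have hker : ∀ a, σ a = 0 ↔ a ∈ Div57.stI 𝓘 (𝓘.subschemeι z) := fun a => by
      rw [← Div57.ker_stalkMap]; rfl
    haveI : IsNoetherianRing (𝓘.subscheme.presheaf.stalk z) := isNoetherianRing_of_surjective _ _ σ hσ
    have hloc : ∀ a, a ∈ IsLocalRing.maximalIdeal _ ↔ σ a ∈ IsLocalRing.maximalIdeal _ := fun a => by
      simp only [IsLocalRing.mem_maximalIdeal, mem_nonunits_iff]
      exact not_congr (isUnit_map_iff σ a).symm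
    have hass : IsAssociatedPrime (IsLocalRing.maximalIdeal ↑(𝓘.subscheme.presheaf.stalk z))
        ↑(𝓘.subscheme.presheaf.stalk z) :=
      AssociatedPrimes.mem_iff.1 (Alg6.mem_ass_iff.2 ⟨inferInstance, σ (φ b), fun r => by
        obtain ⟨r, rfl⟩ := hσ r
        rw [← hloc, smul_eq_mul, ← map_mul, hker]
        refine ⟨hmax r, fun h => ?_⟩
        by_contra hr
        rw [IsLocalRing.mem_maximalIdeal, mem_nonunits_iff, not_not] at hr
        exact hb ((Ideal.unit_mul_mem_iff_mem _ hr).1 h)⟩)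
    have hdim := h2 z (h1 z hass)
    rw [ringKrullDim_stalk_eq_coheight] at hdim
    rw [CDiv6.height_primeOf]
    exact_mod_cast hdim
  exact ⟨g, mem_nonZeroDivisors_of_ne_zero hg, hI⟩

end Groth.Agent.S1700
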