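import Groth.Statements.S17022
import Groth.Agent.LS17.CoverRam
import Groth.Agent.LS17.SmoothDimOne
import Groth.Agent.CurveCohLib.SmoothCurve
import Groth.Agent.S7810
import Groth.Agent.S7834
import Groth.Agent.H23.EquidimFibres

set_option autoImplicit false
universe u
open CategoryTheory CategoryTheory.Limits AlgebraicGeometry
open Curves

namespace Groth.Agent.S17022

attribute [local instance] Groth.Agent.CurveFF.ffAlg

/-- Let k be an algebraically closed field of characteristic zero, C a connected scheme which is proper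
and smooth of relative dimension 1 over k, and f : C → P¹_k a surjective morphism over k which is
étale over the complement of two closed points p, q of P¹_k (p = q is allowed). Then C is isomorphic
to P¹_k over k, and f has exactly one point over p and exactly one point over q. (Existence of an
isomorphism only; the published statement moreover identifies f, in suitable coordinates, with (a :
b) ↦ (aⁿ : bⁿ) for some n. The published statement leaves implicit that the ground field is
algebraically closed and that C is a connected smooth proper curve; its argument uses both, and over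
a non-closed field the projective line over a finite extension is a connected cover with no
ramification.) -/
theorem result (k : Type u) [Field k]
    [IsAlgClosed k] [CharZero k] {C : Scheme.{u}} (s : C ⟶ Spec (CommRingCat.of k))
    [IsProper s] [SmoothOfRelativeDimension 1 s] [ConnectedSpace C]
    (f : C ⟶ CohB1.ProjSpace 1 k) (hf : f ≫ CohB1.ProjSpace.toSpec 1 k = s) [Surjective f]
    (p q : ↥(CohB1.ProjSpace 1 k)) (hp : IsClosed ({p} : Set ↥(CohB1.ProjSpace 1 k))) (hq : IsClosed ({q} : Set ↥(CohB1.ProjSpace 1 k)))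
    (W : (CohB1.ProjSpace 1 k).Opens) (hW : (W : Set ↥(CohB1.ProjSpace 1 k)) = {p, q}ᶜ) [Etale (f ∣_ W)] :
    (∃ e : C ≅ CohB1.ProjSpace 1 k, e.hom ≫ CohB1.ProjSpace.toSpec 1 k = s) ∧
      (∀ x y : C, f.base x = p → f.base y = p → x = y) ∧
      (∀ x y : C, f.base x = q → f.base y = q → x = y) := by
  classical
  let P := CohB1.ProjSpace 1 k
  letI : P.Over (Spec (CommRingCat.of k)) := ⟨CohB1.ProjSpace.toSpec 1 k⟩
  letI : C.Over (Spec (CommRingCat.of k)) := ⟨s⟩
  haveI : IsIntegral P := H23.PnChart.isIntegral_projSpace 1 k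
  haveI : IsProper (P ↘ Spec (CommRingCat.of k)) := PnCoh.Chow.isProper_toSpec 1 k
  haveI : Smooth (P ↘ Spec (CommRingCat.of k)) := CurveEmbed.smooth_toSpec 1 k
  haveI : IsProper (C ↘ Spec (CommRingCat.of k)) := ‹IsProper s›
  haveI : Smooth (C ↘ Spec (CommRingCat.of k)) := SmoothOfRelativeDimension.smooth 1 s
  haveI : CompactSpace C := QuasiCompact.compactSpace_of_compactSpace (C ↘ Spec (CommRingCat.of k))
  haveI := CurveCohLib.isIntegral_of_smooth_connected (C ↘ Spec (CommRingCat.of k))
  have hdP : topologicalKrullDim ↥P = 1 := by simpa using S10829.result k 1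
  have hdC : topologicalKrullDim ↥C = 1 := by simpa using LS17.topologicalKrullDim_smoothOfRelDim (n := 1) s
  haveI := LS17.isFinite_of_surjective k hdC hdP f hf
  letI := LS17.coverAlg k f hf
  haveI := LS17.isScalarTower k f hf
  haveI := LS17.finiteDimensional k f hf
  have hKP := CurveFF.isFunctionField k P hdP
  have hKC := CurveFF.isFunctionField k C hdC
  obtain ⟨hfin, hRH⟩ := LS17.hurwitz_char_zero hKP hKC
  rw [CurveFF.genus_eq k hdP, (S7810.projLine_facts k).2, CurveFF.genus_eq k hdC] at hRH
  set n : ℕ := Module.finrank P.functionField C.functionField with hn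
  have hn0 : 0 < n := Module.finrank_pos
  let plC := CurveFF.pl k C hdC
  let plP := CurveFF.pl k P hdP
  -- the places over a closed point
  let S : CurveFF.Pt P → Finset (FunFld.Place k C.functionField) := fun b =>
    (FFLib.over_finite (K' := C.functionField) hKP.1 (plP b)).toFinset
  have hbelow : ∀ Q, LS17.below hKP Q = plP (LS17.imgPt f (plC.symm Q)) := fun Q => by
    obtain ⟨e, -, he⟩ := LS17.exists_overWith k f hf hdC hdP (plC.symm Q)
    rw [show CurveFF.pl k C hdC (plC.symm Q) = Q from plC.apply_symm_apply Q] at he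
    exact (FFLib.over_unique hKP.1 (LS17.ramE_spec hKP Q).2 he).1
  have hmemS : ∀ b Q, Q ∈ S b ↔ LS17.imgPt f (plC.symm Q) = b := fun b Q => by
    rw [Set.Finite.mem_toFinset]
    constructor
    · rintro ⟨e, he⟩
      exact plP.injective ((hbelow Q).symm.trans (FFLib.over_unique hKP.1 (LS17.ramE_spec hKP Q).2 he).1)
    · rintro rfl
      exact ⟨_, hbelow Q ▸ (LS17.ramE_spec hKP Q).2⟩
  have hsumS : ∀ b, ∑ Q ∈ S b, ((LS17.ramE hKP Q : ℤ) - 1) = (n : ℤ) - (S b).card := fun b => by
    have h := FFLib.sum_ram_deg (K' := C.functionField) hKP.1 (plP b) (S b) fun Q => Set.Finite.mem_toFinset _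
    rw [FFLib.deg_eq_one hKP.1, mul_one] at h
    rw [← hn] at h
    rw [Finset.sum_sub_distrib, Finset.sum_const, nsmul_one, ← h]
    push_cast
    refine congrArg (· - _) (Finset.sum_congr rfl fun Q hQ => ?_)
    rw [FFLib.deg_eq_one hKC.1, Nat.cast_one, mul_one, FFLib.ramIdx_eq hKP.1
      (show FunFld.IsOverWith Q (plP b) (LS17.ramE hKP Q) from
        (congrArg plP ((hmemS b Q).1 hQ)) ▸ hbelow Q ▸ (LS17.ramE_spec hKP Q).2)]
  have hpos : ∀ b, 1 ≤ (S b).card := fun b => by
    obtain ⟨Q, hQ⟩ := FFLib.exists_isOver (K' := C.functionField) hKP.1 (plP b)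
    exact Finset.card_pos.2 ⟨Q, (Set.Finite.mem_toFinset _).2 hQ⟩
  have hsupp : ∀ Q, Q ∉ S ⟨p, hp⟩ → Q ∉ S ⟨q, hq⟩ → ((LS17.ramE hKP Q : ℤ) - 1) = 0 := fun Q h1 h2 => by
    rw [hmemS] at h1 h2
    set a := plC.symm Q with ha
    have hW' : f a.1 ∈ W := by
      show f a.1 ∈ (W : Set P)
      rw [hW]
      rintro (h | h)
      · exact h1 (Subtype.ext h)
      · exact h2 (Subtype.ext h)
    have het : Etale ((f ⁻¹ᵁ W).ι ≫ f) := by
      rw [← morphismRestrict_ι]
      infer_instance
    have hmax := (S19541.result k (C ↘ Spec (CommRingCat.of k)) (P ↘ Spec (CommRingCat.of k)) f hf hdC hdP a.1 a.2).1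
      ⟨f ⁻¹ᵁ W, hW', het⟩
    have he := LS17.ramE_eq_one k f hf hdC hdP a hmax
    rw [show CurveFF.pl k C hdC a = Q from plC.apply_symm_apply Q] at he
    rw [he]; norm_num
  have hfib : ∀ b, (S b).card ≤ 1 → ∀ x y : C, f x = b.1 → f y = b.1 → x = y := fun b hb x y hx hy => by
    have hcl : ∀ z : C, f z = b.1 → IsClosed ({z} : Set C) := fun z hz => by
      rcases CurveFF.eq_or_isClosed k C hdC z with h | h
      · subst h
        exfalso
        rw [LS17.map_generic k hdC hdP f hf] at hz
        have h3 := (genericPoint_spec P).def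
        rw [hz, b.2.closure_eq] at h3
        haveI : Subsingleton P := ⟨fun u v =>
          ((h3.symm ▸ Set.mem_univ u : u ∈ ({b.1} : Set P)) : u = _).trans
            ((h3.symm ▸ Set.mem_univ v : v ∈ ({b.1} : Set P)) : v = _).symm⟩
        have := topologicalKrullDim_zero_of_discreteTopology (X := P)
        rw [hdP] at this
        exact absurd this (not_le.2 zero_lt_one)
      · exact h
    have hm : ∀ (z : C) (hz : f z = b.1), plC ⟨z, hcl z hz⟩ ∈ S b := fun z hz => by
      rw [hmemS, plC.symm_apply_apply]; exact Subtype.ext hz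
    exact congrArg Subtype.val (plC.injective (Finset.card_le_one.1 hb _ (hm x hx) _ (hm y hy)))
  have key : Curv2.genus k C = 0 ∧ (S ⟨p, hp⟩).card ≤ 1 ∧ (S ⟨q, hq⟩).card ≤ 1 := by
    have := hpos ⟨p, hp⟩
    have := hpos ⟨q, hq⟩
    by_cases hpq : p = q
    · subst hpq
      have hsum := finsum_eq_sum_of_support_subset (fun Q => (LS17.ramE hKP Q : ℤ) - 1) (s := S ⟨p, hp⟩)
        fun Q hQ => by
          by_contra h
          exact hQ (hsupp Q h h)
      rw [hsum, hsumS] at hRH
      refine ⟨?_, ?_, ?_⟩ <;> omega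
    · have hd : Disjoint (S ⟨p, hp⟩) (S ⟨q, hq⟩) := Finset.disjoint_left.2 fun Q h1 h2 =>
        hpq (congrArg Subtype.val (((hmemS _ Q).1 h1).symm.trans ((hmemS _ Q).1 h2)))
      have hsum := finsum_eq_sum_of_support_subset (fun Q => (LS17.ramE hKP Q : ℤ) - 1)
        (s := S ⟨p, hp⟩ ∪ S ⟨q, hq⟩) fun Q hQ => by
          by_contra h
          rw [Finset.coe_union, Set.mem_union, not_or] at h
          exact hQ (hsupp Q h.1 h.2)
      rw [hsum, Finset.sum_union hd, hsumS, hsumS] at hRH
      refine ⟨?_, ?_, ?_⟩ <;> omega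
  haveI : GeometricallyIntegral (C ↘ Spec (CommRingCat.of k)) :=
    H23.EquidimFibres.geometricallyIntegral_of_isAlgClosed (V := Over.mk (C ↘ Spec (CommRingCat.of k)))
  exact ⟨S7834.result k C hdC key.1, fun x y hx hy => hfib ⟨p, hp⟩ key.2.1 x y hx hy,
    fun x y hx hy => hfib ⟨q, hq⟩ key.2.2 x y hx hy⟩

end Groth.Agent.S17022
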