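import Groth.Statements.S17023
import Groth.Agent.HTopAwn.PtFun
import Mathlib.RingTheory.Smooth.AdicCompletion
import Mathlib.RingTheory.Smooth.Locus

set_option autoImplicit false
universe u
open FlatMor

namespace Groth.Agent.S17023

/-- Let B be a discrete valuation ring, A a B-algebra of finite type and p a prime ideal of A which lies
over the maximal ideal of B (a point of the special fibre), at which A is smooth over B (the
localization A_p is formally smooth over B), and such that B maps onto the residue field κ(p). Then
there are a discrete valuation ring B' and a ring map ψ : A → B' pulling the maximal ideal of B'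
back to p, such that the composite B → A → B' is injective, the maximal ideal of B generates the
maximal ideal of B', and B maps onto the residue field of B'; in other words Spec B' → Spec A → Spec
B is surjective and unramified with trivial residue field extension. (The published statement does
not say that the closed point of Spec B' goes to p; it is required here. The published setting takes
A essentially of finite type over a field of characteristic zero; here A is taken of finite type
over B, with no ground field.) -/
theorem result
    (B : Type u) [CommRing B] [IsDomain B] [IsDiscreteValuationRing B]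
    (A : Type u) [CommRing A] [Algebra B A] [Algebra.FiniteType B A]
    (p : Ideal A) [p.IsPrime] (hp : p.comap (algebraMap B A) = IsLocalRing.maximalIdeal B)
    [Algebra.IsSmoothAt B p]
    (hres : Function.Surjective ((algebraMap A p.ResidueField).comp (algebraMap B A))) :
    ∃ (B' : Type u) (_ : CommRing B') (_ : IsDomain B') (_ : IsDiscreteValuationRing B') (ψ : A →+* B'),
      Ideal.comap ψ (IsLocalRing.maximalIdeal B') = p ∧
      Function.Injective (ψ.comp (algebraMap B A)) ∧
      Ideal.map (ψ.comp (algebraMap B A)) (IsLocalRing.maximalIdeal B) = IsLocalRing.maximalIdeal B' ∧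
      Function.Surjective ((IsLocalRing.residue B').comp (ψ.comp (algebraMap B A))) := by
  classical
  obtain ⟨hdom, hdvr, hinj⟩ := Groth.Agent.HTopAwn.isDVR_completion (V := B)
  let Bc := AdicCompletion (IsLocalRing.maximalIdeal B) B
  let Ap := Localization.AtPrime p
  let π : B →ₐ[B] p.ResidueField := Algebra.ofId B p.ResidueField
  have hπ : Function.Surjective π := by
    intro x
    obtain ⟨b, hb⟩ := hres x
    exact ⟨b, (IsScalarTower.algebraMap_apply B A p.ResidueField b).trans hb⟩
  haveI : (RingHom.ker π).IsMaximal := RingHom.ker_isMaximal_of_surjective π hπ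
  have hker : RingHom.ker π = IsLocalRing.maximalIdeal B := IsLocalRing.eq_maximalIdeal inferInstance
  let e : (B ⧸ IsLocalRing.maximalIdeal B) ≃ₐ[B] p.ResidueField :=
    (Ideal.quotientEquivAlgOfEq B hker.symm).trans (Ideal.quotientKerAlgEquivOfSurjective hπ)
  let f : Ap →ₐ[B] B ⧸ IsLocalRing.maximalIdeal B :=
    e.symm.toAlgHom.comp (IsScalarTower.toAlgHom B Ap p.ResidueField)
  obtain ⟨g, hg⟩ := Algebra.FormallySmooth.exists_adicCompletionEvalOneₐ_comp_eq f
  let ev : Bc →+* B ⧸ IsLocalRing.maximalIdeal B :=
    (AdicCompletion.evalOneₐ (IsLocalRing.maximalIdeal B)).toRingHom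
  have hevalg : ∀ b : B, ev (algebraMap B Bc b) = Ideal.Quotient.mk _ b := fun b =>
    (AdicCompletion.evalOneₐ (IsLocalRing.maximalIdeal B)).commutes b
  have hev : Function.Surjective ev := fun x => by
    obtain ⟨b, rfl⟩ := Ideal.Quotient.mk_surjective x
    exact ⟨_, hevalg b⟩
  letI : Field (B ⧸ IsLocalRing.maximalIdeal B) := Ideal.Quotient.field _
  haveI : (RingHom.ker ev).IsMaximal := RingHom.ker_isMaximal_of_surjective ev hev
  have hmc : RingHom.ker ev = IsLocalRing.maximalIdeal Bc := IsLocalRing.eq_maximalIdeal inferInstance
  let ψ : A →ₐ[B] Bc := g.comp (IsScalarTower.toAlgHom B A Ap)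
  have hψ : (ψ.toRingHom).comp (algebraMap B A) = algebraMap B Bc := ψ.comp_algebraMap
  refine ⟨Bc, inferInstance, hdom, hdvr, ψ.toRingHom, ?_, ?_, ?_, ?_⟩
  · ext a
    have h1 : ev (ψ a) = f (algebraMap A Ap a) := AlgHom.congr_fun hg _
    rw [Ideal.mem_comap, ← hmc, RingHom.mem_ker]
    show ev (ψ a) = 0 ↔ _
    rw [h1]
    show e.symm (algebraMap Ap p.ResidueField (algebraMap A Ap a)) = 0 ↔ _
    rw [map_eq_zero_iff _ e.symm.injective, ← IsScalarTower.algebraMap_apply A Ap p.ResidueField,
      Ideal.algebraMap_residueField_eq_zero]
  · rw [hψ]; exact hinj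
  · rw [hψ]; exact (AdicCompletion.maximalIdeal_eq_map (R := B)).symm
  · rw [hψ]
    intro x
    obtain ⟨y, rfl⟩ := IsLocalRing.residue_surjective x
    obtain ⟨b, hb⟩ := Ideal.Quotient.mk_surjective (ev y)
    refine ⟨b, Ideal.Quotient.eq.2 ?_⟩
    rw [← hmc, RingHom.mem_ker, map_sub, hevalg, hb, sub_self]

end Groth.Agent.S17023
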