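import Groth.Agent.FTors52.IndCohExt
import Groth.Agent.FTors52.FiveTerm

set_option autoImplicit false
open CategoryTheory CategoryTheory.Limits
universe u
open FSch

namespace Groth.Agent.S17024

/-- Let 𝔛 be a Noetherian formal scheme (an adic system of thickenings with locally Noetherian levels
whose common underlying space is quasi-compact) and F₀ ⟶ F₁ ⟶ F₂ ⟶ F₃ ⟶ F₄ an exact sequence of
O_𝔛-modules. If F₀, F₁, F₃ and F₄ are each a small filtered colimit of coherent O_𝔛-modules, then so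
is F₂. (The published statement takes direct limits over directed sets; small filtered colimits of
coherent modules yield the same class of modules. It is stated there for 𝔛 only locally Noetherian;
without quasi-compactness of the underlying space the assertion can fail, so it is stated here for
Noetherian 𝔛.) -/
theorem result (𝔛 : FSch.Sys.{u}) (h𝔛 : 𝔛.IsLocNoethFormal)
    [CompactSpace (𝔛.X 0)] (S : ComposableArrows (FSch.ModF 𝔛 h𝔛.1) 4) (hS : S.Exact)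
    (h₀ : (ObjectProperty.ind.{u} fun 𝔊 : FSch.ModF 𝔛 h𝔛.1 => FSch.IsCohF 𝔛 h𝔛.1 𝔊) (S.obj 0)) (h₁ : (ObjectProperty.ind.{u} fun 𝔊 : FSch.ModF 𝔛 h𝔛.1 => FSch.IsCohF 𝔛 h𝔛.1 𝔊) (S.obj 1)) (h₃ : (ObjectProperty.ind.{u} fun 𝔊 : FSch.ModF 𝔛 h𝔛.1 => FSch.IsCohF 𝔛 h𝔛.1 𝔊) (S.obj 3)) (h₄ : (ObjectProperty.ind.{u} fun 𝔊 : FSch.ModF 𝔛 h𝔛.1 => FSch.IsCohF 𝔛 h𝔛.1 𝔊) (S.obj 4)) :
    (ObjectProperty.ind.{u} fun 𝔊 : FSch.ModF 𝔛 h𝔛.1 => FSch.IsCohF 𝔛 h𝔛.1 𝔊) (S.obj 2) := by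
  obtain ⟨a, b, w, hex, _, _⟩ := FTors52.exists_shortExact_of_five hS
  obtain ⟨_, g₀⟩ := FTors52.pc_genC_of_ind h𝔛 h₀
  obtain ⟨p₁, g₁⟩ := FTors52.pc_genC_of_ind h𝔛 h₁
  obtain ⟨p₃, g₃⟩ := FTors52.pc_genC_of_ind h𝔛 h₃
  obtain ⟨p₄, _⟩ := FTors52.pc_genC_of_ind h𝔛 h₄
  have hp₁ := FTors52.PC.cokernel h𝔛 p₁ (g₀.gen h𝔛) (S.map' 0 1 (Nat.zero_le 1) (by decide))
  have hp₃ := p₃.of_mono (kernel.ι (S.map' 3 4 (by decide) (by decide)))
  have : Mono (ShortComplex.mk a b w).f := ‹Mono a›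
  have : Epi (ShortComplex.mk a b w).g := ‹Epi b›
  exact FTors52.ind_of_pc_genC h𝔛 (FTors52.PC.of_exact hex hp₁ hp₃)
    (FTors52.GenC.of_exact h𝔛 hex hp₁ (g₁.of_epi (cokernel.π _)) hp₃
      (g₃.kernel h𝔛 p₄ _))

end Groth.Agent.S17024
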