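import Groth.Agent.FTors52.QCClosure

set_option autoImplicit false
open CategoryTheory CategoryTheory.Limits
universe u
open FSch

namespace Groth.Agent.S17025

/-- Let 𝔛 be a locally Noetherian formal scheme (an adic system of thickenings with locally Noetherian
levels) and F₀ ⟶ F₁ ⟶ F₂ ⟶ F₃ ⟶ F₄ an exact sequence of O_𝔛-modules. If F₀, F₁, F₃ and F₄ are
quasi-coherent (as modules on the ringed space: locally a cokernel of a morphism of free
O_𝔛-modules), then so is F₂. -/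
theorem result (𝔛 : FSch.Sys.{u}) (h𝔛 : 𝔛.IsLocNoethFormal)
    (S : ComposableArrows (FSch.ModF 𝔛 h𝔛.1) 4) (hS : S.Exact)
    (h₀ : SheafOfModules.IsQuasicoherent.{u} (S.obj 0)) (h₁ : SheafOfModules.IsQuasicoherent.{u} (S.obj 1))
    (h₃ : SheafOfModules.IsQuasicoherent.{u} (S.obj 3)) (h₄ : SheafOfModules.IsQuasicoherent.{u} (S.obj 4)) :
    SheafOfModules.IsQuasicoherent.{u} (S.obj 2) := by
  obtain ⟨a, b, w, hex, _, _⟩ := FTors52.exists_shortExact_of_five hS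
  obtain ⟨_, g₀⟩ := FTors52.pc_gen_of_isQuasicoherent h𝔛 (M := S.obj 0)
  obtain ⟨p₁, g₁⟩ := FTors52.pc_gen_of_isQuasicoherent h𝔛 (M := S.obj 1)
  obtain ⟨p₃, g₃⟩ := FTors52.pc_gen_of_isQuasicoherent h𝔛 (M := S.obj 3)
  obtain ⟨p₄, _⟩ := FTors52.pc_gen_of_isQuasicoherent h𝔛 (M := S.obj 4)
  have hp₁ := FTors52.PC.cokernel h𝔛 p₁ g₀ (S.map' 0 1 (Nat.zero_le 1) (by decide))
  have hp₃ := p₃.of_mono (kernel.ι (S.map' 3 4 (by decide) (by decide)))
  have : Mono (ShortComplex.mk a b w).f := ‹Mono a›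
  have : Epi (ShortComplex.mk a b w).g := ‹Epi b›
  exact FTors52.isQuasicoherent_of_pc h𝔛 (FTors52.PC.of_exact hex hp₁ hp₃)
    (FTors52.Gen.of_exact h𝔛 hex hp₁ (g₁.of_epi (cokernel.π _))
      (g₃.kernel h𝔛 p₄ _))

end Groth.Agent.S17025
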