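import Groth.Agent.FTors52.QCClosure

set_option autoImplicit false
open CategoryTheory CategoryTheory.Limits
universe u
open FSch

namespace Groth.Agent.S17028

/-- On a locally Noetherian formal scheme 𝔛 (an adic system of thickenings with locally Noetherian
levels), a quasi-coherent O_𝔛-module that is locally of finite type is coherent. (The converse
implication is immediate.) -/
theorem result (𝔛 : FSch.Sys.{u}) (h𝔛 : 𝔛.IsLocNoethFormal)
    (𝔉 : FSch.ModF 𝔛 h𝔛.1) [SheafOfModules.IsQuasicoherent.{u} 𝔉] [SheafOfModules.IsFiniteType.{u} 𝔉] :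
    FSch.IsCohF 𝔛 h𝔛.1 𝔉 := by
  refine FTors52.isCohF_of_pc h𝔛 (FTors52.pc_gen_of_isQuasicoherent h𝔛).1 fun x => ?_
  obtain ⟨U, hx, n, s, hs⟩ := FMod90.exists_isGen 𝔉 x
  exact ⟨U, hx, n, s, hs⟩

end Groth.Agent.S17028
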