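import Groth.Agent.FTors52.CohSmall
import Groth.Agent.FTors52.Coreflect

set_option autoImplicit false
open CategoryTheory CategoryTheory.Limits
universe u
open FSch

namespace Groth.Agent.S17029

/-- On a locally Noetherian formal scheme 𝔛 (an adic system of thickenings with locally Noetherian
levels), the inclusion functor from the full subcategory of O_𝔛-modules that are small filtered
colimits of coherent O_𝔛-modules into all O_𝔛-modules admits a right adjoint. -/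
theorem result (𝔛 : FSch.Sys.{u}) (h𝔛 : 𝔛.IsLocNoethFormal) :
    (ObjectProperty.ind.{u} fun 𝔊 : FSch.ModF 𝔛 h𝔛.1 => FSch.IsCohF 𝔛 h𝔛.1 𝔊).ι.IsLeftAdjoint := by
  obtain ⟨κ, R, hR, hfam⟩ := FTors52.exists_small_family
    (fun M : FSch.ModF 𝔛 h𝔛.1 => FSch.IsCohF 𝔛 h𝔛.1 M ∧ True) (fun M hM x => by
      obtain ⟨U, hU, -, hxU⟩ := FTors52.exists_affine_le (U := (⊤ : (𝔛.X 0).Opens)) (x := x) trivial
      obtain ⟨n, s, hs⟩ := FTors52.exists_isGen_affine h𝔛 hM.1 hU
      exact ⟨U, hxU, n, s, hs⟩)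
  refine FTors52.isLeftAdjoint_ι_of_generated _ (fun J _ => ⟨fun X ⟨p⟩ => ?_⟩) R
    (fun a => ObjectProperty.le_ind _ _ (hR a).1) fun N hN => ?_
  · have hp := fun j => FTors52.pc_genC_of_ind h𝔛 (p.prop_diag_obj j)
    obtain ⟨h₁, h₂⟩ := FTors52.pc_genC_of_isColimit h𝔛 p.isColimit (fun j => (hp j).1)
      fun j => (hp j).2
    exact FTors52.ind_of_pc_genC h𝔛 h₁ h₂
  · obtain ⟨J, i, _, pres, hP⟩ := hN
    exact ⟨J, i, pres, fun j => hfam _ ⟨hP j, trivial⟩⟩

end Groth.Agent.S17029
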