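import Groth.Statements.S1703
import Groth.Agent.CIntLib.TransRegSch
import Groth.Agent.Div57.StIdeal
import Groth.Agent.GrpdFitt.ThickenFP

set_option autoImplicit false
set_option linter.style.haveILetI false
set_option backward.isDefEq.respectTransparency false
set_option backward.isDefEq.respectTransparency.types false
universe u
open CategoryTheory CategoryTheory.Limits AlgebraicGeometry TopologicalSpace
open SDiv

namespace Groth.Agent.S1703

/-- Let f : X ⟶ S be locally of finite presentation and 𝓘 the ideal sheaf of an effective Cartier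
divisor D ⊂ X with D ⟶ S flat. Then there is an open subscheme U of X containing D such that U ⟶ S
is flat. -/
theorem result {X S : Scheme.{u}} (f : X ⟶ S) [LocallyOfFinitePresentation f] (𝓘 : X.IdealSheafData)
    (hD : (BlowUp.IsEffCartierIdeal 𝓘 ∧ Flat (𝓘.subschemeι ≫ f))) : ∃ U : X.Opens, (𝓘.support : Set ↥X) ⊆ U ∧ Flat (U.ι ≫ f) := by
  obtain ⟨hI, hflat⟩ := hD
  haveI := hflat
  haveI : LocallyOfFinitePresentation 𝓘.subschemeι := Groth.Agent.GrpdFitt.lfp_subschemeι 𝓘 fun x => by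
    obtain ⟨U, hxU, r, -, hr⟩ := hI x
    exact ⟨U, hxU, hr ▸ ⟨{r}, by simp⟩⟩
  have hnf : ∀ y : ↥𝓘.subscheme, EGA4.IsNormallyFlat (RingHom.ker (𝓘.subschemeι.stalkMap y).hom)
      ↑(X.presheaf.stalk (𝓘.subschemeι y)) := fun y => by
    obtain ⟨a, ha, hIa⟩ := Groth.Agent.Div57.stI_of_effCartier 𝓘 hI (𝓘.subschemeι y)
    rw [Groth.Agent.Div57.ker_stalkMap, hIa, ← Ideal.ofList_singleton]
    refine Groth.Agent.CIntLib.isNormallyFlat_of_weaklyRegular [a]
      (RingTheory.Sequence.IsWeaklyRegular.cons ?_ (RingTheory.Sequence.IsWeaklyRegular.nil _ _))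
    exact isSMulRegular_iff_right_eq_zero_of_smul.2 fun z hz =>
      mem_nonZeroDivisors_iff_left.1 ha z hz
  obtain ⟨U, hU, hflatU⟩ := Groth.Agent.CIntLib.flat_nhd_of_normallyFlat f 𝓘 hnf
  exact ⟨U, hU, Flat.of_stalkMap _ fun z => (Groth.Agent.FibFlat.flat_stalk_open_comp U.ι f z).2 (hflatU _ z.2)⟩

end Groth.Agent.S1703
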