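import Groth.Agent.FTors52.TorsClosure
import Groth.Agent.FTors52.FiveTerm
import Groth.Agent.FTors52.FormalAtlas

set_option autoImplicit false
open CategoryTheory CategoryTheory.Limits
universe u
open FTors

namespace Groth.Agent.S17051

/-- On a locally Noetherian formal scheme 𝔛 (an adic system of thickenings with locally Noetherian
levels), if F₀ ⟶ F₁ ⟶ F₂ ⟶ F₃ ⟶ F₄ is an exact sequence of O_𝔛-modules with F₀, F₁, F₃, F₄
quasi-coherent torsion modules, then F₂ is a quasi-coherent torsion module. -/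
theorem result (𝔛 : FSch.Sys.{u}) (h𝔛 : 𝔛.IsLocNoethFormal)
    (S : ComposableArrows (FSch.ModF 𝔛 h𝔛.1) 4) (hS : S.Exact)
    (h₀ : FTors.IsQCT 𝔛 h𝔛.1 (S.obj 0)) (h₁ : FTors.IsQCT 𝔛 h𝔛.1 (S.obj 1)) (h₃ : FTors.IsQCT 𝔛 h𝔛.1 (S.obj 3)) (h₄ : FTors.IsQCT 𝔛 h𝔛.1 (S.obj 4)) :
    FTors.IsQCT 𝔛 h𝔛.1 (S.obj 2) := by
  obtain ⟨a, b, w, hex, _, _⟩ := FTors52.exists_shortExact_of_five hS
  have := h₀.2
  have := h₁.2
  have := h₃.2
  have := h₄.2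
  obtain ⟨_, g₀⟩ := FTors52.pc_gen_of_isQuasicoherent h𝔛 (M := S.obj 0)
  obtain ⟨p₁, g₁⟩ := FTors52.pc_gen_of_isQuasicoherent h𝔛 (M := S.obj 1)
  obtain ⟨p₃, g₃⟩ := FTors52.pc_gen_of_isQuasicoherent h𝔛 (M := S.obj 3)
  obtain ⟨p₄, _⟩ := FTors52.pc_gen_of_isQuasicoherent h𝔛 (M := S.obj 4)
  have hp₁ := FTors52.PC.cokernel h𝔛 p₁ g₀ (S.map' 0 1 (Nat.zero_le 1) (by decide))
  have hp₃ := p₃.of_mono (kernel.ι (S.map' 3 4 (by decide) (by decide)))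
  have : Mono (ShortComplex.mk a b w).f := ‹Mono a›
  have : Epi (ShortComplex.mk a b w).g := ‹Epi b›
  exact ⟨FTors52.isTors_of_exact (FTors52.exists_covers_formal h𝔛) hex
      (FTors52.isTors_of_epi (cokernel.π _) h₁.1) (FTors52.isTors_of_mono (kernel.ι _) h₃.1),
    FTors52.isQuasicoherent_of_pc h𝔛 (FTors52.PC.of_exact hex hp₁ hp₃)
      (FTors52.Gen.of_exact h𝔛 hex hp₁ (g₁.of_epi (cokernel.π _)) (g₃.kernel h𝔛 p₄ _))⟩

end Groth.Agent.S17051
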