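import Groth.Agent.FTors52.CohSmall
import Groth.Agent.FTors52.Coreflect
import Groth.Agent.FTors52.TorsExtend

set_option autoImplicit false
open CategoryTheory CategoryTheory.Limits
universe u
open FTors

namespace Groth.Agent.S17054

/-- On a locally Noetherian formal scheme 𝔛 (an adic system of thickenings with locally Noetherian
levels), the inclusion functor of the full subcategory of quasi-coherent torsion O_𝔛-modules into
all O_𝔛-modules admits a right adjoint. (The second assertion, commutation of this adjoint with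
filtered colimits on a Noetherian 𝔛, is not restated.) -/
theorem result (𝔛 : FSch.Sys.{u}) (h𝔛 : 𝔛.IsLocNoethFormal) :
    (FTors.IsQCT 𝔛 h𝔛.1).ι.IsLeftAdjoint := by
  obtain ⟨κ, R, hR, hfam⟩ := FTors52.exists_small_family
    (fun M : FSch.ModF 𝔛 h𝔛.1 => FSch.IsCohF 𝔛 h𝔛.1 M ∧ FTors.IsTorsF 𝔛 h𝔛.1 M) (fun M hM x => by
      obtain ⟨U, hU, -, hxU⟩ := FTors52.exists_affine_le (U := (⊤ : (𝔛.X 0).Opens)) (x := x) trivial
      obtain ⟨n, s, hs⟩ := FTors52.exists_isGen_affine h𝔛 hM.1 hU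
      exact ⟨U, hxU, n, s, hs⟩)
  refine FTors52.isLeftAdjoint_ι_of_generated _ (fun J _ => ⟨fun X ⟨p⟩ => ?_⟩) R
    (fun a => ⟨(hR a).2, ?_⟩) fun N hN => ?_
  · have hp := fun j => FTors52.pc_genC_of_ind h𝔛 (FTors52.ind_of_isQCT h𝔛 (p.prop_diag_obj j))
    obtain ⟨h₁, h₂⟩ := FTors52.pc_genC_of_isColimit h𝔛 p.isColimit (fun j => (hp j).1)
      fun j => (hp j).2
    exact ⟨FTors52.isTors_of_isColimit p.isColimit fun j => (p.prop_diag_obj j).1,
      FTors52.isQuasicoherent_of_pc h𝔛 h₁ (h₂.gen h𝔛)⟩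
  · exact FTors52.isQuasicoherent_of_pc h𝔛 (FTors52.isPC_of_isCohF h𝔛 (hR a).1)
      ((FTors52.GenC.of_isCohF (hR a).1).gen h𝔛)
  · have := hN.2
    obtain ⟨h₁, h₂⟩ := FTors52.pc_genC_of_ind h𝔛 (FTors52.ind_of_isQCT h𝔛 hN)
    obtain ⟨J, i, _, pres, hP, hm⟩ := FTors52.exists_presentation_of_pc_genC h𝔛 h₁ h₂
    exact ⟨J, i, pres, fun j => hfam _ ⟨hP j,
      haveI := hm j
      FTors52.isTors_of_mono (pres.ι.app j) hN.1⟩⟩

end Groth.Agent.S17054
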