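import Groth.Agent.FTors52.AffVanish

set_option autoImplicit false
open CategoryTheory CategoryTheory.Limits
universe u
attribute [local instance] HasDerivedCategory.standard
open FSch

namespace Groth.Agent.S17067

/-- Let g : 𝔛 ⟶ 𝔜 be a morphism of locally Noetherian formal schemes (adic systems of thickenings with
locally Noetherian levels) whose morphism of smallest levels is an affine morphism of schemes, and
assume the total right derived functor Rg_* exists on unbounded derived categories of modules. If G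
∈ D(O_𝔛) has lim-coherent cohomology sheaves (small filtered colimits of coherent modules) vanishing
in all degrees > e, then the cohomology sheaves of Rg_* G also vanish in all degrees > e. -/
theorem result (𝔛 𝔜 : FSch.Sys.{u}) (h𝔛 : 𝔛.IsLocNoethFormal) (h𝔜 : 𝔜.IsLocNoethFormal)
    (g : 𝔛 ⟶ 𝔜) [AlgebraicGeometry.IsAffineHom ((g : FSch.Hom 𝔛 𝔜).app 0)]
    [SiteCmp.HasRpushD (FSch.homMor g h𝔛.1 h𝔜.1)] (G : DerivedCategory (FSch.ModF 𝔛 h𝔛.1))
    (hG : ∀ i : ℤ, (ObjectProperty.ind.{u} fun 𝔊 : FSch.ModF 𝔛 h𝔛.1 => FSch.IsCohF 𝔛 h𝔛.1 𝔊) (SiteCmp.HMod G i)) (e : ℤ) (he : ∀ i : ℤ, e < i → IsZero (SiteCmp.HMod G i))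
    (i : ℤ) (hi : e < i) :
    IsZero (SiteCmp.HMod ((SiteCmp.RpushD (FSch.homMor g h𝔛.1 h𝔜.1)).obj G) i) := by
  haveI := FTors52.containsZero_indCoh h𝔛
  haveI : HasInjectiveResolutions (FSch.ModF 𝔛 h𝔛.1) := inferInstance
  refine FTors52.isZero_H_rpushD_unbounded (FSch.homMor g h𝔛.1 h𝔜.1) (FTors52.indCoh 𝔛 h𝔛.1)
    (FTors52.isCoveredBy_affine (𝔛.X 0)) (FTors52.isCoveredBy_affine (𝔜.X 0)) 0 0
    (fun V hV F hF k hk => FTors52.subsingleton_HU_affine_of_ind h𝔛 hF hV k hk)
    (fun V hV F hF k hk => FTors52.subsingleton_HU_affine_of_ind h𝔛 hF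
      (AlgebraicGeometry.IsAffineOpen.preimage hV ((g : FSch.Hom 𝔛 𝔜).app 0)) k hk)
    G hG (e + 1) (fun j hj => he j (by omega)) i (by omega)

end Groth.Agent.S17067
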