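import Groth.Statements.S1709
import Groth.Agent.Div57.WeakPush

set_option autoImplicit false
universe u
open CategoryTheory CategoryTheory.Limits AlgebraicGeometry TopologicalSpace
open SDiv

namespace Groth.Agent.S1709

/-- Let f : X ⟶ S be an affine morphism with X locally Noetherian and F a quasi-coherent module on X.
Then the following subsets of S coincide: the image of the associated points of F, the associated
points of f_* F, the weakly associated points of f_* F, and the image of the weakly associated
points of F. -/
theorem result {X S : Scheme.{u}} (f : X ⟶ S) [IsAffineHom f] [IsLocallyNoetherian X] (F : X.Modules)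
    (hF : Coh.IsQCoh F) :
    (fun x => f x) '' {x : ↥X | Curv2.IsAssPoint F x} = {s : ↥S | Curv2.IsAssPoint ((Scheme.Modules.pushforward f).obj F) s} ∧
      {s : ↥S | Curv2.IsAssPoint ((Scheme.Modules.pushforward f).obj F) s} =
        {s : ↥S | Curv2.IsWeakAssPoint ((Scheme.Modules.pushforward f).obj F) s} ∧
      {s : ↥S | Curv2.IsWeakAssPoint ((Scheme.Modules.pushforward f).obj F) s} =
        (fun x => f x) '' {x : ↥X | Curv2.IsWeakAssPoint F x} := by
  open Groth.Agent in
  have h1 : {s : ↥S | Curv2.IsWeakAssPoint ((Scheme.Modules.pushforward f).obj F) s} =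
      (fun x => f x) '' {x : ↥X | Curv2.IsWeakAssPoint F x} := by
    refine Set.ext fun s => ⟨fun hs => ?_, ?_⟩
    · obtain ⟨x, rfl, hx⟩ := AssPtX.exists_weakAssPoint_of_pushforward f hF s hs
      exact ⟨x, hx, rfl⟩
    · rintro ⟨x, hx, rfl⟩
      exact Div57.isWeakAssPoint_push_of_noetherian f hF hx
  simp only [Groth.Agent.AssPtX.isAssPoint_iff]
  exact ⟨h1.symm, trivial, h1⟩

end Groth.Agent.S1709
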