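import Groth.Statements.S17091
import Groth.Agent.Obs28.RadMain
import Groth.Agent.Obs28.RadSolv
import Groth.Agent.AGFRoot.BorelConj

set_option autoImplicit false
set_option linter.style.haveILetI false
universe u
open CategoryTheory MonoidalCategory CartesianMonoidalCategory MonObj GrpObj AlgebraicGeometry
open AGF
open Groth.Agent

namespace Groth.Agent.S17091

/-- Let k be an algebraically closed field, G an affine, smooth, connected k-group scheme, u : U ⟶ G its
unipotent radical (the largest normal closed subgroup scheme of G, smooth and quasi-compact over k,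
whose geometric fibre is connected and contains no non-trivial subtorus), B a Borel subgroup of G
and v : V ⟶ B the unipotent radical of B. Then U is contained in V: u factors through v. -/
theorem result (k : Type u) [Field k] [IsAlgClosed k]
    (G : Over (Spec (CommRingCat.of k))) [GrpObj G] [IsAffine G.left] [Smooth G.hom] [ConnectedSpace ↥G.left]
    (U : Over (Spec (CommRingCat.of k))) [GrpObj U] (u : U ⟶ G) (hU : Par.IsUnipotentRadical u)
    (B : Over (Spec (CommRingCat.of k))) [GrpObj B] (iB : B ⟶ G) (hB : Red.IsBorelOver k iB)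
    (V : Over (Spec (CommRingCat.of k))) [GrpObj V] (v : V ⟶ B) (hV : Par.IsUnipotentRadical v) :
    ∃ f : U ⟶ V, f ≫ v ≫ iB = u := by
  haveI := hB.1
  haveI := hB.2.1
  haveI := hB.2.2.1
  haveI : Mono iB.left := inferInstance
  haveI : Mono iB := Over.mono_of_mono_left iB
  haveI : IsAffine B.left := Obs28.isAffine_of_closed iB
  have hu := Obs28.RadM.isUN_of_isUnipotentRadical hU
  haveI := hu.hom; haveI := hu.closed; haveI := hu.smooth; haveI := hu.connected
  haveI : IsAffine U.left := Obs28.isAffine_of_closed u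
  obtain ⟨Y, b, y, hY1, -, hY2, hY3, hY4⟩ := GrpSchLib.HomogeneousQuot.exists_quot G B iB
  have hY : AGF.IsQuotient iB Y b y := ⟨hY1, hY2, hY3, hY4⟩
  haveI := AGFRoot.isProper_of_isBorelOver hB hY
  obtain ⟨g, f, hf⟩ := AGFRoot.exists_conj_le u (Obs28.RadM.isSolvableGrp_of_noSub hu.noSub) iB hY
  obtain ⟨n, hn⟩ := hu.normal U (toUnit U ≫ g) (𝟙 U)
  let w := n ≫ f
  have hw : w ≫ iB = u := by
    simp only [w, Category.assoc, hf, AGF.conjBy]
    simp only [MonObj.comp_mul, GrpObj.comp_inv, ← hn, Category.id_comp, ← Category.assoc n (toUnit U),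
      toUnit_unique (n ≫ toUnit U) (toUnit U)]
    group
  haveI : IsMonHom (w ≫ iB) := by rw [hw]; infer_instance
  have hwn : AlgGrp.IsNormalHom w := fun T a c => by
    obtain ⟨c', hc'⟩ := hu.normal T (a ≫ iB) c
    refine ⟨c', (cancel_mono iB).mp ?_⟩
    rw [MonObj.mul_comp, MonObj.mul_comp, GrpObj.inv_comp, Category.assoc, hw, Category.assoc, hw]
    exact hc'
  have hwc : IsClosedImmersion w.left := by
    haveI : IsClosedImmersion (w.left ≫ iB.left) := by rw [← Over.comp_left, hw]; infer_instance
    exact IsClosedImmersion.of_comp w.left iB.left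
  obtain ⟨e, he⟩ := Obs28.RadM.le_of_isUnipotentRadical hV (v := w)
    ⟨RedSub30.isMonHom_of_mono iB w, hwc, hu.smooth, hu.connected, hwn, hu.noSub⟩
  exact ⟨e, by rw [← Category.assoc, he, hw]⟩

end Groth.Agent.S17091
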