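import Groth.Statements.S17107
import Groth.Agent.LogQis32.Residue
-- import your own Groth.Agent.* helpers here

set_option autoImplicit false
universe u
open CategoryTheory CategoryTheory.Limits AlgebraicGeometry Opposite TensorProduct
open LogNCD

namespace Groth.Agent.S17107

/-- Let f : X → S be smooth, (Ω', d) a universal receptacle for the differentials of X over S, D = (D_1,
…, D_r) a relative strict normal crossing divisor and Ω¹(log D) its pinned log module; let E be a
finite locally free O_X-module with a logarithmic connection ∇ : E → E ⊗ Ω¹(log D) along D which is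
integrable, K being its logarithmic de Rham complex. Fix a component D_i, let ∇' be the logarithmic
connection induced on E(−D_i) = E ⊗ 𝓘_{D_i} (pinned by its compatibility with ∇ under E(−D_i) → E)
with logarithmic de Rham complex K', let ρ : E → E ⊗ O_{D_i} be the residue of ∇ along D_i and R the
O_X-linear endomorphism of E ⊗ O_{D_i} with restriction-then-R equal to ρ (the residue as an
endomorphism of E|_{D_i}). If R is an isomorphism, then the inclusion of complexes K' → K — the
chain map φ which in each degree comes from an O_X-linear map of terms sending, on affine opens, (e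
⊗ g) ⊗ ω to (g·e) ⊗ ω — is a quasi-isomorphism. (Stated relative to an arbitrary base; the published
statement is over an algebraically closed field. The module is written as the left tensor factor.) -/
theorem result {X S : Scheme.{u}} (f : X ⟶ S) [Smooth f]
    {Ω' : X.Modules} (d : OmegaSh.Der f Ω') (hd : OmegaSh.IsUniversal d)
    {r : ℕ} (D : Fin r → X.IdealSheafData) (hD : LogNCD.IsNCD D f) (Λ : LogNCD.LogMod d D)
    (E : X.Modules) (hE : FlatMod.IsFinLocFree E)
    (nabla : Coh.toAb E ⟶ Coh.toAb (CohB1.tensorMod E Λ.L)) (hc : ConnSh.IsConn (LogNCD.der Λ) E nabla)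
    (K : ConnSh.Cx (LogNCD.der Λ) E nabla) (i : Fin r)
    (nabla' : Coh.toAb (CohB1.tensorMod E (ClSub.idealMod (D i))) ⟶ Coh.toAb (CohB1.tensorMod (CohB1.tensorMod E (ClSub.idealMod (D i))) Λ.L))
    (ht : LogNCD.IsTwist Λ E nabla (D i) nabla') (hc' : ConnSh.IsConn (LogNCD.der Λ) (CohB1.tensorMod E (ClSub.idealMod (D i))) nabla')
    (K' : ConnSh.Cx (LogNCD.der Λ) (CohB1.tensorMod E (ClSub.idealMod (D i))) nabla')
    (ρ : E ⟶ CohB1.tensorMod E (ClSub.quotMod (D i))) (hρ : LogNCD.IsResidue Λ E nabla i ρ)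
    (R : CohB1.tensorMod E (ClSub.quotMod (D i)) ⟶ CohB1.tensorMod E (ClSub.quotMod (D i)))
    (hR : (SecTwist.unitorR E).inv ≫ KoszTw.tensorMap (𝟙 E) (ClSub.toSubscheme (D i)) ≫ R = ρ) (hRi : IsIso R)
    (φ : K'.K ⟶ K.K) (ψ : ∀ p : ℕ, K'.term p ⟶ K.term p)
    (hφ : ∀ p : ℕ, φ.f p = (K'.iso p).hom ≫ (SheafOfModules.toSheaf X.ringCatSheaf).map (ψ p) ≫ (K.iso p).inv)
    (hψ : ∀ (p : ℕ) (U : X.affineOpens) (e : Γ(E, U.1)) (g : (ClSub.idealMod (D i)).val.obj (op U.1))
      (ω : Fin p → Γ(Λ.L, U.1)),
      (ψ p).app U.1 ((K'.loc p U).symm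
        (SecTwist.tmul (E) (ClSub.idealMod (D i)) U.1 e g ⊗ₜ exteriorPower.ιMulti _ p ω)) =
      (K.loc p U).symm ((OmegaSh.idealSect (D i) U.1 g • e) ⊗ₜ exteriorPower.ιMulti _ p ω)) :
    QuasiIso φ := by
  classical
  have hI : D i = ∏ j, D j ^ (Pi.single i 1 : Fin r → ℕ) j := by
    rw [Finset.prod_eq_single i (fun j _ hj => by rw [Pi.single_eq_of_ne hj, pow_zero])
      (fun h => absurd (Finset.mem_univ i) h), Pi.single_eq_same, pow_one]
  refine Groth.Agent.LogQis32.quasiIso_of_thetaBij K hE (Pi.single i 1) hd hD ?_ (D i) hI K' φ ψ hφ hψ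
  intro U F i' l hl m hm
  rcases eq_or_ne i' i with rfl | hne
  · rw [Pi.single_eq_same, Nat.lt_one_iff] at hm
    subst hm
    have hb := Groth.Agent.LogQis32.bij_of_key (Groth.Agent.QCoh.isQCoh_of_isFinLocFree hE) (D i') U
      (F.ideal_some hl) (Groth.Agent.LogQis32.thetaR K F l 0) R (fun e => by
        rw [Groth.Agent.LogQis32.thetaR, zero_smul, add_zero,
          Groth.Agent.LogQis32.qSect_evalR K hρ hR F hl])
    exact ⟨fun e => hb.1 e, fun e he => hb.2 e he⟩
  · rw [Pi.single_eq_of_ne hne] at hm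
    omega

end Groth.Agent.S17107
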