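import Groth.Statements.S17108
import Groth.Agent.LogQis32.Residue
-- import your own Groth.Agent.* helpers here

set_option autoImplicit false
universe u
open CategoryTheory CategoryTheory.Limits AlgebraicGeometry Opposite TensorProduct
open LogNCD

namespace Groth.Agent.S17108

/-- Let f : X → S be smooth, (Ω', d) a universal receptacle for the differentials of X over S, D = (D_1,
…, D_r) a relative strict normal crossing divisor with pinned log module Ω¹(log D), and E a finite
locally free O_X-module with an integrable logarithmic connection ∇ along D, K its logarithmic de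
Rham complex. For each j let ρ_j : E → E ⊗ O_{D_j} be the residue of ∇ along D_j and R_j the
O_X-linear endomorphism of E ⊗ O_{D_j} through which it factors, and assume condition (!): R_j +
μ·id is an isomorphism for every j and every natural number μ (no non-positive integer is an
eigenvalue of a residue). Let B = Σ ν_j D_j be effective, with ideal 𝓘 = ∏ 𝓘_{D_j}^{ν_j}, let ∇' be
the logarithmic connection induced on E(−B) = E ⊗ 𝓘 (pinned by compatibility with ∇ under E(−B) → E)
and K' its logarithmic de Rham complex. Then the natural map K' → K — the chain map φ which in each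
degree comes from an O_X-linear map of terms sending (e ⊗ g) ⊗ ω to (g·e) ⊗ ω on affine opens — is a
quasi-isomorphism. (Stated relative to an arbitrary base; the published statement is over an
algebraically closed field.) -/
theorem result {X S : Scheme.{u}} (f : X ⟶ S) [Smooth f]
    {Ω' : X.Modules} (d : OmegaSh.Der f Ω') (hd : OmegaSh.IsUniversal d)
    {r : ℕ} (D : Fin r → X.IdealSheafData) (hD : LogNCD.IsNCD D f) (Λ : LogNCD.LogMod d D)
    (E : X.Modules) (hE : FlatMod.IsFinLocFree E)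
    (nabla : Coh.toAb E ⟶ Coh.toAb (CohB1.tensorMod E Λ.L)) (hc : ConnSh.IsConn (LogNCD.der Λ) E nabla)
    (K : ConnSh.Cx (LogNCD.der Λ) E nabla)
    (ρ : ∀ j : Fin r, E ⟶ CohB1.tensorMod E (ClSub.quotMod (D j))) (hρ : ∀ j, LogNCD.IsResidue Λ E nabla j (ρ j))
    (R : ∀ j : Fin r, CohB1.tensorMod E (ClSub.quotMod (D j)) ⟶ CohB1.tensorMod E (ClSub.quotMod (D j)))
    (hR : ∀ j, (SecTwist.unitorR E).inv ≫ KoszTw.tensorMap (𝟙 E) (ClSub.toSubscheme (D j)) ≫ R j = ρ j)
    (hbang : ∀ (j : Fin r) (μ : ℕ), IsIso (R j + μ • 𝟙 (CohB1.tensorMod E (ClSub.quotMod (D j)))))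
    (ν : Fin r → ℕ)
    (nabla' : Coh.toAb (CohB1.tensorMod E (ClSub.idealMod (∏ j, D j ^ ν j))) ⟶ Coh.toAb (CohB1.tensorMod (CohB1.tensorMod E (ClSub.idealMod (∏ j, D j ^ ν j))) Λ.L))
    (ht : LogNCD.IsTwist Λ E nabla (∏ j, D j ^ ν j) nabla') (hc' : ConnSh.IsConn (LogNCD.der Λ) (CohB1.tensorMod E (ClSub.idealMod (∏ j, D j ^ ν j))) nabla')
    (K' : ConnSh.Cx (LogNCD.der Λ) (CohB1.tensorMod E (ClSub.idealMod (∏ j, D j ^ ν j))) nabla')
    (φ : K'.K ⟶ K.K) (ψ : ∀ p : ℕ, K'.term p ⟶ K.term p)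
    (hφ : ∀ p : ℕ, φ.f p = (K'.iso p).hom ≫ (SheafOfModules.toSheaf X.ringCatSheaf).map (ψ p) ≫ (K.iso p).inv)
    (hψ : ∀ (p : ℕ) (U : X.affineOpens) (e : Γ(E, U.1)) (g : (ClSub.idealMod (∏ j, D j ^ ν j)).val.obj (op U.1))
      (ω : Fin p → Γ(Λ.L, U.1)),
      (ψ p).app U.1 ((K'.loc p U).symm
        (SecTwist.tmul (E) (ClSub.idealMod (∏ j, D j ^ ν j)) U.1 e g ⊗ₜ exteriorPower.ιMulti _ p ω)) =
      (K.loc p U).symm ((OmegaSh.idealSect (∏ j, D j ^ ν j) U.1 g • e) ⊗ₜ exteriorPower.ιMulti _ p ω)) :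
    QuasiIso φ := by
  exact Groth.Agent.LogQis32.quasiIso_of_thetaBij K hE ν hd hD
    (Groth.Agent.LogQis32.thetaBij_of_isIso K hE ν fun j _ => ⟨hρ j, hR j, fun m _ => hbang j m⟩)
    _ rfl K' φ ψ hφ hψ

end Groth.Agent.S17108
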