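import Groth.Statements.S17109
import Groth.Agent.LogQis32.Residue
-- import your own Groth.Agent.* helpers here

set_option autoImplicit false
universe u
open CategoryTheory CategoryTheory.Limits AlgebraicGeometry Opposite TensorProduct
open LogNCD

namespace Groth.Agent.S17109

/-- Let f : X → S be smooth, (Ω', d) a universal receptacle for the differentials of X over S, D = (D_1,
…, D_r) a relative strict normal crossing divisor with pinned log module Ω¹(log D). Let (E, ∇) be a
finite locally free module with integrable logarithmic connection along D satisfying condition (*) —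
each residue ρ_j : E → E ⊗ O_{D_j} factors through an O_X-linear endomorphism R_j of E ⊗ O_{D_j}
with R_j − μ·id an isomorphism for every j and every integer μ ≥ 1 — and let B = Σ ν_j D_j be
effective. Then the natural map from the logarithmic de Rham complex of (E, ∇) to that of (E(B),
∇^B) is a quasi-isomorphism. Here the positive twist is written by reversing the roles: F is a
finite locally free module with integrable logarithmic connection ∇_F and logarithmic de Rham
complex K_F (playing E(B)), E is F ⊗ 𝓘 for 𝓘 = ∏ 𝓘_{D_j}^{ν_j}, ∇ is the connection on E pinned by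
compatibility with ∇_F under E → F, K its logarithmic de Rham complex, and the conclusion is that
the chain map φ : K → K_F which in each degree comes from an O_X-linear map of terms sending (x ⊗ g)
⊗ ω to (g·x) ⊗ ω on affine opens is a quasi-isomorphism. (Stated relative to an arbitrary base; the
published statement is over an algebraically closed field.) -/
theorem result {X S : Scheme.{u}} (f : X ⟶ S) [Smooth f]
    {Ω' : X.Modules} (d : OmegaSh.Der f Ω') (hd : OmegaSh.IsUniversal d)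
    {r : ℕ} (D : Fin r → X.IdealSheafData) (hD : LogNCD.IsNCD D f) (Λ : LogNCD.LogMod d D)
    (F : X.Modules) (hF : FlatMod.IsFinLocFree F)
    (nablaF : Coh.toAb F ⟶ Coh.toAb (CohB1.tensorMod F Λ.L)) (hcF : ConnSh.IsConn (LogNCD.der Λ) F nablaF)
    (KF : ConnSh.Cx (LogNCD.der Λ) F nablaF) (ν : Fin r → ℕ)
    (nabla : Coh.toAb (CohB1.tensorMod F (ClSub.idealMod (∏ j, D j ^ ν j))) ⟶ Coh.toAb (CohB1.tensorMod (CohB1.tensorMod F (ClSub.idealMod (∏ j, D j ^ ν j))) Λ.L))
    (ht : LogNCD.IsTwist Λ F nablaF (∏ j, D j ^ ν j) nabla) (hc : ConnSh.IsConn (LogNCD.der Λ) (CohB1.tensorMod F (ClSub.idealMod (∏ j, D j ^ ν j))) nabla)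
    (K : ConnSh.Cx (LogNCD.der Λ) (CohB1.tensorMod F (ClSub.idealMod (∏ j, D j ^ ν j))) nabla)
    (ρ : ∀ j : Fin r, CohB1.tensorMod F (ClSub.idealMod (∏ j, D j ^ ν j)) ⟶ CohB1.tensorMod (CohB1.tensorMod F (ClSub.idealMod (∏ j, D j ^ ν j))) (ClSub.quotMod (D j)))
    (hρ : ∀ j, LogNCD.IsResidue Λ (CohB1.tensorMod F (ClSub.idealMod (∏ j, D j ^ ν j))) nabla j (ρ j))
    (R : ∀ j : Fin r, CohB1.tensorMod (CohB1.tensorMod F (ClSub.idealMod (∏ j, D j ^ ν j))) (ClSub.quotMod (D j)) ⟶ CohB1.tensorMod (CohB1.tensorMod F (ClSub.idealMod (∏ j, D j ^ ν j))) (ClSub.quotMod (D j)))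
    (hR : ∀ j, (SecTwist.unitorR (CohB1.tensorMod F (ClSub.idealMod (∏ j, D j ^ ν j)))).inv ≫ KoszTw.tensorMap (𝟙 (CohB1.tensorMod F (ClSub.idealMod (∏ j, D j ^ ν j)))) (ClSub.toSubscheme (D j)) ≫ R j = ρ j)
    (hstar : ∀ (j : Fin r) (μ : ℕ), 1 ≤ μ → IsIso (R j - μ • 𝟙 (CohB1.tensorMod (CohB1.tensorMod F (ClSub.idealMod (∏ j, D j ^ ν j))) (ClSub.quotMod (D j)))))
    (φ : K.K ⟶ KF.K) (ψ : ∀ p : ℕ, K.term p ⟶ KF.term p)
    (hφ : ∀ p : ℕ, φ.f p = (K.iso p).hom ≫ (SheafOfModules.toSheaf X.ringCatSheaf).map (ψ p) ≫ (KF.iso p).inv)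
    (hψ : ∀ (p : ℕ) (U : X.affineOpens) (e : Γ(F, U.1)) (g : (ClSub.idealMod (∏ j, D j ^ ν j)).val.obj (op U.1))
      (ω : Fin p → Γ(Λ.L, U.1)),
      (ψ p).app U.1 ((K.loc p U).symm
        (SecTwist.tmul (F) (ClSub.idealMod (∏ j, D j ^ ν j)) U.1 e g ⊗ₜ exteriorPower.ιMulti _ p ω)) =
      (KF.loc p U).symm ((OmegaSh.idealSect (∏ j, D j ^ ν j) U.1 g • e) ⊗ₜ exteriorPower.ιMulti _ p ω)) :
    QuasiIso φ := by
  exact Groth.Agent.LogQis32.quasiIso_of_thetaBij KF hF ν hd hD
    (Groth.Agent.LogQis32.thetaBij_of_twist hcF KF ν K ht hF ρ hρ R hR fun i m h1 _ => hstar i m h1)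
    _ rfl K φ ψ hφ hψ

end Groth.Agent.S17109
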