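import Groth.Statements.S1712
import Groth.Agent.Dual59.DualizingLocus
-- import your own Groth.Agent.* helpers here

set_option autoImplicit false
universe u
open CategoryTheory
attribute [local instance] HasDerivedCategory.standard
open Dual

namespace Groth.Agent.S1712

/-- Let A be a Noetherian local ring with a normalized dualizing complex ω, M a finite A-module and E^j
the A-module of maps M → ω[-j] in D(A). A prime p is in the support of one of E^0, …, E^i if and
only if the depth of M_p over A_p plus the dimension of A/p is at most i. -/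
theorem result (A : Type u) [CommRing A] [IsLocalRing A] [IsNoetherianRing A] (ω : Dual.D A) (hω : Dual.IsDualizing A ω) (hn : Dual.IsNormalized A ω) (M : Type u) [AddCommGroup M] [Module A M] [Module.Finite A M] (i : ℕ) (p : PrimeSpectrum A) : (∃ j : ℕ, j ≤ i ∧ p ∈ Module.support A (Dual.inD A M ⟶ ω⟦(-(j : ℤ))⟧)) ↔ ((LocCoh.depth (Localization.AtPrime p.asIdeal) (LocalizedModule p.asIdeal.primeCompl M) : ℕ∞) : WithBot ℕ∞) + ringKrullDim (A ⧸ p.asIdeal) ≤ (i : WithBot ℕ∞) := by
  obtain ⟨n, hext, h0, hmono, hle, hdim⟩ := Groth.Agent.KFlatLib.exists_normalized_degree hω hn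
  obtain ⟨e, he, he'⟩ := hdim p
  rw [he]
  by_cases hp : p ∈ Module.support A M
  · obtain ⟨k, hk, hvan, hnt⟩ := Groth.Agent.Dual59.exists_top_degree hω hext M p hp
    rw [hk]
    constructor
    · rintro ⟨j, hj, hsupp⟩
      rw [Module.mem_support_iff] at hsupp
      have h1 : -(j : ℤ) ≤ n p - k := le_of_not_gt fun hlt =>
        not_subsingleton _ (hvan _ hlt)
      exact_mod_cast (show k + e ≤ i by omega)
    · intro h
      have h1 : k + e ≤ i := by exact_mod_cast h
      exact ⟨k + e, h1, Module.mem_support_iff.2 (by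
        rwa [show -((k + e : ℕ) : ℤ) = n p - k by push_cast; omega])⟩
  · haveI : Subsingleton (LocalizedModule p.asIdeal.primeCompl M) := Module.notMem_support_iff.1 hp
    have hdep : LocCoh.depth (Localization.AtPrime p.asIdeal) (LocalizedModule p.asIdeal.primeCompl M) = ⊤ :=
      if_pos (Subsingleton.elim _ _)
    rw [hdep]
    refine iff_of_false (fun ⟨j, _, hj⟩ => hp (Groth.Agent.KFlatLib.support_hom_subset M _ hj)) fun h => ?_
    rw [show ((e : WithBot ℕ∞)) = ((e : ℕ∞) : WithBot ℕ∞) from rfl, ← WithBot.coe_add, top_add] at h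
    exact absurd h (not_le.2 (WithBot.coe_lt_coe.2 (ENat.natCast_lt_top i)))

end Groth.Agent.S1712
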