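import Groth.Statements.S17138
import Groth.Agent.JacTheta.GeomFibre
import Groth.Agent.JacTheta.GeomPoint

set_option autoImplicit false
universe u
open CategoryTheory CategoryTheory.Limits AlgebraicGeometry MonoidalCategory CartesianMonoidalCategory MonObj
open Jac

set_option maxHeartbeats 800000
set_option backward.isDefEq.respectTransparency false
set_option backward.isDefEq.respectTransparency.types false

namespace Groth.Agent.S17138

/-- Let X be a smooth proper geometrically connected curve of genus g ≥ 1 over a field k and n ≥ 1; let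
(Y, q) be the n-th symmetric power C^(n) of X over k (q : X ×_k ⋯ ×_k X → Y a quotient of the n-fold
fibre power by the symmetric group permuting the factors: affine, invariant, identifying sections of
O_Y with invariant sections, with q over k), let (J_n, ψ_n) be a coarse moduli scheme, on all
k-schemes, for line bundles of degree n on X modulo twisting from the base (the degree-n Picard
scheme), and let j_n : Y → J_n be the morphism through which the classifying map of the family O(Γ_1
+ ⋯ + Γ_n) on X × X^n factors (Γ_i the graph of the i-th projection; the family F is pinned by F ⊗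
I_{Γ_1} ⊗ ⋯ ⊗ I_{Γ_n} ≅ O), i.e. q followed by j_n is ψ_n of that family, so that j_n sends an
effective divisor D of degree n to the class of O(D). If g ≤ n, then j_n is surjective (on the
underlying topological spaces). -/
theorem result (k : Type u) [Field k]
    (X : Scheme.{u}) [X.Over (Spec (CommRingCat.of k))]
    [IsProper (X ↘ Spec (CommRingCat.of k))] [Smooth (X ↘ Spec (CommRingCat.of k))]
    [GeometricallyConnected (X ↘ Spec (CommRingCat.of k))] (hdim : topologicalKrullDim ↥X = 1)
    (g : ℕ) (hg : Curv2.genus k X = g) (hg1 : 1 ≤ g)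
    (n : ℕ) (hn : 1 ≤ n)
    (Y : Scheme.{u}) (q : SymProd.fibPow (X ↘ Spec (CommRingCat.of k)) n ⟶ Y) (gY : Y ⟶ Spec (CommRingCat.of k))
    (hq : SymProd.IsSymProd (X ↘ Spec (CommRingCat.of k)) n q gY)
    (Jn : Over (Spec (CommRingCat.of k)))
    (ψn : (ModFun.PicDeg (X ↘ Spec (CommRingCat.of k)) (n : ℤ)).Hom ⊤ Jn)
    (hJn : ModFun.IsCoarseModuli ⊤ (ModFun.PicDeg (X ↘ Spec (CommRingCat.of k)) (n : ℤ)) Jn ψn)
    (F : (PicF.XT (X ↘ Spec (CommRingCat.of k)) (Over.mk (WidePullback.base fun (_ : Fin n) => (X ↘ Spec (CommRingCat.of k))))).Modules)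
    (hF : Nonempty (CohB1.tensorMod F (FGA.tensorList (List.ofFn fun i : Fin n =>
        ClSub.idealMod (pullback.lift (WidePullback.π (fun (_ : Fin n) => (X ↘ Spec (CommRingCat.of k))) i) (𝟙 (SymProd.fibPow (X ↘ Spec (CommRingCat.of k)) n))
          ((WidePullback.π_arrow (fun (_ : Fin n) => (X ↘ Spec (CommRingCat.of k))) i).trans (Category.id_comp _).symm) :
            SymProd.fibPow (X ↘ Spec (CommRingCat.of k)) n ⟶ PicF.XT (X ↘ Spec (CommRingCat.of k)) (Over.mk (WidePullback.base fun (_ : Fin n) => (X ↘ Spec (CommRingCat.of k))))).ker)) ≅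
      Coh.structureModule _))
    (hT : (⊤ : ObjectProperty (Over (Spec (CommRingCat.of k)))) (Over.mk (WidePullback.base fun (_ : Fin n) => (X ↘ Spec (CommRingCat.of k)))))
    (hFok : (ModFun.PicDeg (X ↘ Spec (CommRingCat.of k)) (n : ℤ)).ok (Over.mk (WidePullback.base fun (_ : Fin n) => (X ↘ Spec (CommRingCat.of k)))) F)
    (jn : Over.mk gY ⟶ Jn)
    (hjn : Over.homMk q hq.over ≫ jn = ψn.app (Over.mk (WidePullback.base fun (_ : Fin n) => (X ↘ Spec (CommRingCat.of k)))) F hT hFok)
    (hgn : g ≤ n) :
    Function.Surjective jn.left.base := by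
  open Groth.Agent Groth.Agent.JacTheta Groth.Agent.H23 Groth.Agent.H23.TrivBasic in
  open scoped Groth.Agent.H23.PicMul in
  · intro p
    have := CurveStable.isIntegral_of_geometricallyConnected k (X := X)
    let π : X ⟶ Spec (CommRingCat.of k) := X ↘ Spec (CommRingCat.of k)
    obtain ⟨Ω, _, _, t, htp⟩ := exists_geometric_point Jn.left p
    let s := t ≫ Jn.hom
    obtain ⟨E, hE, hEt⟩ := (hJn.2.2 Ω s trivial).1 (Over.homMk t rfl)
    have := isIntegral_CΩ (C := X) s
    have hdΩ := dim_CΩ (C := X) s hdim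
    have hgΩ := genus_CΩ (C := X) s
    have hEi := CurveDuality.isInvertible_of_rank_one hE.1.2
    let d : LB (CΩ X s) := lb E hEi
    have hdd : dgr Ω (d : PicF.Cl (CΩ X s)) = n := by
      rw [lb_val, dgr_cl]
      have h := deg_fibre s hE (𝟙 (Over.mk s))
      rw [← dgr_cl] at h ⊢
      refine Eq.trans ?_ h
      congr 1
      show _ = PicF.pullCl _ (PicF.cl E)
      rw [XTmap_id (C := X) (𝟙 (Over.mk s)) rfl, PicClLib.pullCl_id]
    have h0 : 0 < hh Ω 0 (d : PicF.Cl (CΩ X s)) := by
      have := rr (k := Ω) hdΩ d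
      omega
    obtain ⟨x, hx⟩ := exists_eq_Dv hdΩ n d hdd h0
    let y : Fin n → (Spec (CommRingCat.of Ω) ⟶ X) := fun i => (x i).1 ≫ pullback.fst π s
    have hy : ∀ i, y i ≫ π = s := fun i => by
      show ((x i).1 ≫ pullback.fst π s) ≫ π = s
      rw [Category.assoc, pullback.condition, ← Category.assoc]
      exact (congrArg (· ≫ s) (x i).2).trans (Category.id_comp s)
    let z : Over.mk s ⟶ Over.mk (WidePullback.base fun (_ : Fin n) => π) :=
      Over.homMk (WidePullback.lift s y hy) (WidePullback.lift_base _ _ _ _)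
    let gam : Fin n → (Over.mk (WidePullback.base fun (_ : Fin n) => π) ⟶ Over.mk π) := fun i =>
      Over.homMk (WidePullback.π (fun (_ : Fin n) => π) i) (WidePullback.π_arrow _ i)
    have hsm := smoothOfRelativeDimension_one k X hdim
    have hFi := CurveDuality.isInvertible_of_rank_one hFok.1.2
    let u : Fin n → LB (PicF.XT π (Over.mk (WidePullback.base fun (_ : Fin n) => π))) := fun i =>
      lb (ClSub.idealMod (gr π (gam i)).ker) (isInvertible_gr π (gam i))
    have hF' : lb F hFi = ∏ i, (u i)⁻¹ := by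
      have h1 := PicMul.cl_eq_iff.2 hF
      rw [PicMul.cl_tensor, cl_tensorList, List.map_ofFn, List.prod_ofFn, ← lb_val F hFi, ← PicMul.one_def] at h1
      have h2 : Units.val (lb F hFi * ∏ i, u i) = 1 := by
        rw [Units.val_mul, Units.coe_prod]
        exact h1
      rw [Units.val_eq_one, ← eq_inv_iff_mul_eq_one] at h2
      rw [h2, Finset.prod_inv_distrib]
    let c : LB (CΩ X s) := LB.pull (PicF.XTmap π z) (lb F hFi)
    have hcd : dgr Ω (c : PicF.Cl (CΩ X s)) = n := deg_fibre s hFok z
    have he : c = Dv hdΩ x := by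
      have e0 : c = ∏ i, LB.pull (PicF.XTmap π z) (u i)⁻¹ := by
        show LB.pull _ _ = _
        rw [hF', map_prod]
      rw [e0]
      refine prod_eq_Dv hdΩ x _ (e0 ▸ hcd) fun i => ?_
      obtain ⟨Λ, hΛi, hΛ⟩ := (u i)⁻¹.exists_rep
      obtain ⟨s', hs'⟩ := exists_section_pullback π (gam i) z (isInvertible_gr π (gam i)) hΛi
        ((PicGrp.cl_eq_cl_iff _ _).1 (by
          rw [PicMul.cl_tensor, ← hΛ, ← lb_val _ (isInvertible_gr π (gam i)), Units.inv_mul]; rfl))
      refine ⟨_, s', ?_, fun q' => (hs' q').trans ?_⟩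
      · rw [LB.pull_val, hΛ]; rfl
      · have hgr : gr π (z ≫ gam i) = (x i).1 := by
          apply pullback.hom_ext
          · rw [gr_fst]
            exact WidePullback.lift_π _ _ _ _ i
          · exact (gr_snd π (z ≫ gam i)).trans (x i).2.symm
        have := (inferInstanceAs (Subsingleton (PrimeSpectrum Ω)) : Subsingleton ↥(Over.mk s).left)
        rw [hgr]
        refine not_congr ⟨fun ⟨b, hb⟩ => ?_, fun hq' => ⟨IsLocalRing.closedPoint Ω, hq'.symm⟩⟩
        exact hb.symm.trans (congrArg (x i).1 (Subsingleton.elim (α := PrimeSpectrum Ω) _ _))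
    have hpull : PicF.cl ((ModFun.PicDeg π (n : ℤ)).pull z F) = (c : PicF.Cl (CΩ X s)) := rfl
    have hok : (ModFun.PicDeg π (n : ℤ)).ok (Over.mk s) ((ModFun.PicDeg π (n : ℤ)).pull z F) := by
      refine ⟨⟨trivial, InvEnd.isFinLocFreeOfRank_one (PicClLib.isInvertible_pullback _ hFi)⟩, ?_⟩
      intro Ω' _ _ t'
      have := isIntegral_CΩ (C := X) (t' ≫ (Over.mk s).hom)
      have := isProper_CΩ (C := X) (t' ≫ (Over.mk s).hom)
      have := smooth_CΩ (C := X) (t' ≫ (Over.mk s).hom)
      have := geometricallyConnected_CΩ (C := X) (t' ≫ (Over.mk s).hom)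
      have h := deg_fibre (t' ≫ (Over.mk s).hom) hFok
        ((Over.homMk t' rfl : Over.mk (t' ≫ (Over.mk s).hom) ⟶ Over.mk s) ≫ z)
      refine Eq.trans ?_ h
      refine CurveRR.deg_congr Ω' ?_ 1
      exact ((PicGrp.cl_eq_cl_iff _ _).1 (by
        show PicF.pullCl _ (PicF.pullCl _ (PicF.cl F)) = PicF.pullCl _ (PicF.cl F)
        rw [PicClLib.pullCl_comp]
        congr 1
        apply pullback.hom_ext
        · erw [Category.assoc, XTmap_fst, XTmap_fst, XTmap_fst]
        · refine (Category.assoc _ _ _).trans ?_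
          refine (congrArg (_ ≫ ·) (XTmap_proj π z)).trans ?_
          refine (Category.assoc _ _ _).symm.trans ?_
          refine (congrArg (· ≫ z.left) (XTmap_proj π _)).trans ?_
          refine Eq.trans ?_ (XTmap_proj π _).symm
          exact (Category.assoc _ _ _).trans rfl)).some
    have happ : ψn.app (Over.mk s) ((ModFun.PicDeg π (n : ℤ)).pull z F) trivial hok =
        ψn.app (Over.mk s) E trivial hE := by
      refine ψn.resp _ _ trivial hok hE ⟨Coh.structureModule _, CurveDeg.isInvertible_structureModule,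
        (PicGrp.cl_eq_cl_iff _ _).1 ?_⟩
      rw [PicMul.cl_tensor, hpull, he, ← hx, lb_val,
        show PicF.cl ((Scheme.Modules.pullback (PicF.XTproj π (Over.mk s))).obj (Coh.structureModule _)) = 1 from
          PicMul.pullCl_one _, _root_.mul_one]
    rw [ψn.natural z F hT trivial hFok hok, hEt, ← hjn] at happ
    refine ⟨q (z.left (IsLocalRing.closedPoint Ω)), ?_⟩
    exact (congrArg (fun m : Over.mk s ⟶ Jn => m.left (IsLocalRing.closedPoint Ω)) happ).trans (htp _)

end Groth.Agent.S17138
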