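import Groth.Statements.S17268
import Groth.Agent.NonAbLib.ContractLine

set_option autoImplicit false
open CategoryTheory AlgebraicGeometry
universe u
open NonAbH1

namespace Groth.Agent.S17268

/-- Let k be an algebraically closed field and let G be an affine group scheme of finite type over k
which is not trivial (the structure morphism G → Spec k is not an isomorphism). Then there are a
scheme T of finite type over k and a torsor for the fppf topology under the T-group scheme G ×_k T
(a T-scheme with an action of G ×_k T which is a pseudo-torsor and acquires sections over the
members of some fppf covering of T) which is not trivial: it has no section over T. The source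
states this for every algebraic group of finite type over k, with torsors that need not be schemes;
it is stated here for affine G, for which every fppf torsor over a scheme is a scheme affine over
the base, so that the torsors of the prelude (schemes with an action) are all of them. -/
theorem result (k : Type u) [Field k] [IsAlgClosed k]
    (G : Over (Spec (CommRingCat.of k))) [GrpObj G]
    [IsAffineHom G.hom] [LocallyOfFiniteType G.hom]
    (hG : ¬ IsIso G.hom) :
    ∃ (T : Scheme.{u}) (f : T ⟶ Spec (CommRingCat.of k)),
      LocallyOfFiniteType f ∧ QuasiCompact f ∧
      ∃ P : NonAbH1.TorsorSch (Red.bc f G) Scheme.fppfPrecoverage,
        ¬ NonAbH1.HasSectionOver P.X (𝟙 T) := by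
  exact NonAbLib.ContractLine.exists_nontrivial G hG

end Groth.Agent.S17268
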