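import Groth.Statements.S17277
import Groth.Agent.Growth22.Sect
import Groth.Agent.Growth22.Rank
import Groth.Agent.KFlatLib.Scheme.ClosedPush
import Groth.Agent.QCoh.DevissageP
-- import your own Groth.Agent.* helpers here

set_option autoImplicit false
universe u
open CategoryTheory CategoryTheory.Limits AlgebraicGeometry TopologicalSpace
open Variety

namespace Groth.Agent.S17277

set_option linter.style.haveILetI false
set_option linter.unusedSectionVars false
set_option maxHeartbeats 1000000
set_option backward.isDefEq.respectTransparency false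
set_option backward.isDefEq.respectTransparency.types false
open scoped Groth.Agent.H23.PicMul in
/-- Let X be a proper scheme over a field k of dimension d and L an invertible O_X-module that is big:
there is a real constant c > 0 with dim_k H^0(X, L^{⊗n}) > c·n^d for all sufficiently large n. Then
for every closed subscheme Z ⊆ X of dimension < d, with quasi-coherent ideal sheaf I_Z, there is an
integer m > 0 with H^0(X, I_Z ⊗ L^{⊗m}) ≠ 0. -/
theorem result (k : Type u) [Field k] (X : Scheme.{u})
    [X.Over (Spec (CommRingCat.of k))] [IsProper (X ↘ (Spec (CommRingCat.of k)))]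
    (d : ℕ) (hdim : topologicalKrullDim X = d) (L : X.Modules) (hL : PicF.IsInvertible L)
    (hbig : ∃ c : ℝ, 0 < c ∧ ∀ᶠ n : ℕ in Filter.atTop,
      c * (n : ℝ) ^ d < (Module.finrank k (Coh.HH X (CohB1.tensorPow L n) 0) : ℝ))
    (Z : X.IdealSheafData) (hZ : topologicalKrullDim (Z.support : Set X) < d) :
    ∃ m : ℕ, 0 < m ∧
      Nontrivial (Coh.HH X (CohB1.tensorMod (ClSub.idealMod Z) (CohB1.tensorPow L m)) 0) := by
  haveI := CurveCohLib.isNoetherian_of_proper (k := k) (X := X)
  let φ := ClSub.toSubscheme Z
  have hO : Coh.IsCoh (Coh.structureModule X) := Growth22.isCoh_structure k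
  have hQ : Coh.IsCoh (ClSub.quotMod Z) := QCoh.isCoh_push_structure Z.subschemeι
  have hI := QCoh.isCoh_kernel hO hQ φ
  have hsmall : Growth22.Small d (ClSub.quotMod Z) := by
    refine Growth22.Small.of_subset Z.support.isClosed hZ fun x hx => ?_
    by_contra hxZ
    exact hx (AddCommGrpCat.isZero_iff_subsingleton.1 (KFlatLib.isZero_stalk_push Z.subschemeι x
      (by rw [Scheme.IdealSheafData.range_subschemeι]; exact hxZ) _))
  have he := Growth22.seq_growth k hL hQ hsmall 0
  have hle : ∀ m, Growth22.seq k (Coh.structureModule X) L 0 m ≤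
      Growth22.seq k (kernel φ) L 0 m + Growth22.seq k (ClSub.quotMod Z) L 0 m := fun m => by
    let T := AmpleVan.tw (CohB1.tensorPow L m)
    have hP := InvX.isInvertible_tensorPow hL m
    haveI := AmpleVan.isEquivalence_tw hP
    haveI : T.Additive := Functor.additive_of_preserves_binary_products _
    have hA : Coh.IsCoh (T.obj (Coh.structureModule X)) := AmpleVan.isCoh_tensor hO (AmpleVan.isCoh_invertible hP)
    have hB : Coh.IsCoh (T.obj (ClSub.quotMod Z)) := AmpleVan.isCoh_tensor hQ (AmpleVan.isCoh_invertible hP)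
    have hK := QCoh.isCoh_kernel hA hB (T.map φ)
    have hIm := Growth22.isCoh_image hA hB (T.map φ)
    have a1 := Growth22.h_X₂_le k (Growth22.shortExact_kernel_image (T.map φ)) hK hA hIm 0
    have a2 := Growth22.h_zero_le_of_mono k hIm hB (Abelian.image.ι (T.map φ))
    dsimp only at a1
    rw [← Growth22.h_congr k (PreservesKernel.iso T φ) 0] at a1
    unfold Growth22.seq
    exact a1.trans (Nat.add_le_add_left a2 _)
  obtain ⟨c, hc, hev⟩ := hbig
  have ht := he.tendsto (K := 1)
  obtain ⟨m, h1, h2, h3⟩ := (hev.and ((Filter.eventually_ge_atTop 1).and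
    (ht.eventually (gt_mem_nhds hc)))).exists
  refine ⟨m, h2, ?_⟩
  have hm : (0 : ℝ) < (m : ℝ) ^ d := pow_pos (by exact_mod_cast h2) _
  rw [Growth22.nrm, mul_one, div_lt_iff₀ hm] at h3
  have h4 : (Growth22.seq k (Coh.structureModule X) L 0 m : ℝ) ≤
      Growth22.seq k (kernel φ) L 0 m + Growth22.seq k (ClSub.quotMod Z) L 0 m := by exact_mod_cast hle m
  have h5 : (Growth22.seq k (Coh.structureModule X) L 0 m : ℝ) =
      (Module.finrank k (Coh.HH X (CohB1.tensorPow L m) 0) : ℝ) := by
    exact_mod_cast Growth22.seq_structure k L 0 m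
  have h6 : 0 < Growth22.seq k (kernel φ) L 0 m := by
    have : (0 : ℝ) < (Growth22.seq k (kernel φ) L 0 m : ℝ) := by linarith
    exact_mod_cast this
  exact Growth22.nontrivial_of_pos k h6

end Groth.Agent.S17277
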