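import Groth.Statements.S17278
import Groth.Agent.Growth22.Sect
-- import your own Groth.Agent.* helpers here

set_option autoImplicit false
universe u
open CategoryTheory CategoryTheory.Limits AlgebraicGeometry TopologicalSpace
open Variety

namespace Groth.Agent.S17278

set_option linter.style.haveILetI false
set_option linter.unusedSectionVars false
set_option maxHeartbeats 1000000
set_option backward.isDefEq.respectTransparency false
set_option backward.isDefEq.respectTransparency.types false
open scoped Groth.Agent.H23.PicMul in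
/-- Let X be a projective variety over a field k (an integral scheme, proper over k, carrying an ample
invertible module A₀) of dimension d, and L an invertible O_X-module. Then L is big, meaning that
for some real c > 0 one has dim_k H^0(X, L^{⊗n}) > c·n^d for all sufficiently large n, if and only
if for every ample invertible O_X-module A, with a tensor inverse A' (A' ⊗ A ≅ O_X), there is an
integer m > 0 with H^0(X, A' ⊗ L^{⊗m}) ≠ 0. -/
theorem result (k : Type u) [Field k]
    (X : Scheme.{u}) [X.Over (Spec (CommRingCat.of k))] [IsProper (X ↘ (Spec (CommRingCat.of k)))] [IsIntegral X]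
    (A₀ : X.Modules) (hA₀ : CohB1.IsAmple A₀)
    (d : ℕ) (hdim : topologicalKrullDim X = d) (L : X.Modules) (hL : PicF.IsInvertible L) :
    (∃ c : ℝ, 0 < c ∧ ∀ᶠ n : ℕ in Filter.atTop,
        c * (n : ℝ) ^ d < (Module.finrank k (Coh.HH X (CohB1.tensorPow L n) 0) : ℝ)) ↔
      ∀ (A A' : X.Modules), CohB1.IsAmple A → ClSub.IsInverseOf A' A →
        ∃ m : ℕ, 0 < m ∧ Nontrivial (Coh.HH X (CohB1.tensorMod A' (CohB1.tensorPow L m)) 0) := by
  haveI := CurveCohLib.isNoetherian_of_proper (k := k) (X := X)
  have hO := Growth22.isCoh_structure k (X := X)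
  have hs : ∀ m, Growth22.seq k (Coh.structureModule X) L 0 m = Module.finrank k (Coh.HH X (CohB1.tensorPow L m) 0) :=
    Growth22.seq_structure k L 0
  obtain ⟨C, hC⟩ := Growth22.nrm_abs_le (K := (1 : ℝ))
    (Growth22.seq_growth k hL hO (Growth22.small_top hdim.le (Coh.structureModule X)) 0)
  constructor
  · rintro ⟨c, hc, hev⟩ A A' hA hinv
    have hA' : PicF.IsInvertible A' := by
      obtain ⟨B, hB, hB'⟩ := H23.PicInv.exists_inverse hA.1
      obtain ⟨e⟩ := hinv
      refine H23.PicMul.isInvertible_of_iso (H23.PicMul.cl_eq_iff.1 ?_).some hB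
      have h1 : PicF.cl A' * PicF.cl A = 1 := by
        rw [← H23.PicMul.cl_tensor, H23.PicMul.one_def]; exact H23.PicMul.cl_eq_iff.2 ⟨e⟩
      have h2 : PicF.cl A * PicF.cl B = 1 := Growth22.cl_mul_eq_one hB'
      exact (left_inv_eq_right_inv h1 h2).symm
    have hbig : 0 < Filter.limsup (Growth22.nrm 1 d (Growth22.seq k (Coh.structureModule X) L 0)) Filter.atTop := by
      refine lt_of_lt_of_le hc (Filter.le_limsup_of_frequently_le (Filter.Eventually.frequently ?_)
        (Growth22.bdd_of_abs hC).1)
      filter_upwards [hev, Filter.eventually_ge_atTop 1] with m hm h1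
      rw [Growth22.nrm, mul_one, hs, le_div_iff₀ (pow_pos (by exact_mod_cast h1) _)]
      exact hm.le
    obtain ⟨m, hm, hpos⟩ := Growth22.exists_hom_of_limsup_pos k hL hdim hA' hbig
    exact ⟨m, hm, Growth22.nontrivial_of_pos k hpos⟩
  · intro h
    obtain ⟨B, hB, hB'⟩ := H23.PicInv.exists_inverse hA₀.1
    have h2 : PicF.cl A₀ * PicF.cl B = 1 := Growth22.cl_mul_eq_one hB'
    have hBA : ClSub.IsInverseOf B A₀ := H23.PicMul.cl_eq_iff.1 (by
      rw [H23.PicMul.cl_tensor, ← H23.PicMul.one_def, mul_comm]; exact h2)
    obtain ⟨m, hm, hsec⟩ := h A₀ B hA₀ hBA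
    have hpos := Growth22.liminf_pos_of_dominates k hL hA₀ hB ((mul_comm _ _).trans h2) hdim hm hsec
    refine ⟨Filter.liminf (Growth22.nrm 1 d (Growth22.seq k (Coh.structureModule X) L 0)) Filter.atTop / 2, by linarith, ?_⟩
    filter_upwards [Filter.eventually_lt_of_lt_liminf (half_lt_self hpos) (Growth22.bdd_of_abs hC).2,
      Filter.eventually_ge_atTop 1] with j hj h1
    rw [Growth22.nrm, mul_one, hs, lt_div_iff₀ (pow_pos (by exact_mod_cast h1) _)] at hj
    exact hj

end Groth.Agent.S17278
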