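import Groth.Statements.S17280
import Groth.Agent.CurveCohLib.Stable
import Groth.Agent.ZClosLib.CohDescent
import Groth.Agent.Lib.CurveDualPrep
import Groth.Agent.Lib.InvEnd
import Groth.Agent.DimFormula.DedekindFlat
import Groth.Agent.AmpleVan.Vanish
-- import your own Groth.Agent.* helpers here

set_option autoImplicit false
universe u
open CategoryTheory CategoryTheory.Limits AlgebraicGeometry TopologicalSpace
open Variety

namespace Groth.Agent.S17280

set_option linter.style.haveILetI false
set_option linter.unusedSectionVars false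
set_option maxHeartbeats 1000000
set_option backward.isDefEq.respectTransparency false
set_option backward.isDefEq.respectTransparency.types false
open scoped Groth.Agent.H23.PicMul in
/-- Scheme case, curve-test form of nefness: let X be a proper scheme over a field k and 0 → E' → E →
E'' → 0 a short exact sequence whose three terms are finite locally free O_X-modules. Assume that E'
and E'' are nef in the curve-test sense: for every regular projective curve C over k (integral,
proper over k, of dimension one, all local rings regular), every k-morphism f : C → X and every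
invertible quotient M of the pulled-back module, deg M = χ(M) - χ(O_C) ≥ 0. Then E is nef in the
same sense. (The source states this for proper algebraic spaces and nefness of O(1) on P(E); on
proper schemes the two senses agree by the Barton–Kleiman criterion.) -/
theorem result (k : Type u) [Field k] (X : Scheme.{u})
    [X.Over (Spec (CommRingCat.of k))] [IsProper (X ↘ (Spec (CommRingCat.of k)))] (S : ShortComplex X.Modules) (hS : S.ShortExact)
    (h₁ : FlatMod.IsFinLocFree S.X₁) (h₂ : FlatMod.IsFinLocFree S.X₂) (h₃ : FlatMod.IsFinLocFree S.X₃)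
    (hnef₁ : ∀ (C : Scheme.{u}) [C.Over (Spec (CommRingCat.of k))] [IsProper (C ↘ (Spec (CommRingCat.of k)))] [IsIntegral C],
      topologicalKrullDim C = 1 → (∀ x : C, IsRegularLocalRing (C.presheaf.stalk x)) →
      ∀ (f : C ⟶ X), f ≫ (X ↘ (Spec (CommRingCat.of k))) = C ↘ (Spec (CommRingCat.of k)) →
      ∀ (M : C.Modules), PicF.IsInvertible M →
      ∀ (q : (Scheme.Modules.pullback f).obj S.X₁ ⟶ M), Epi q → 0 ≤ Curv2.deg k C M 1)
    (hnef₃ : ∀ (C : Scheme.{u}) [C.Over (Spec (CommRingCat.of k))] [IsProper (C ↘ (Spec (CommRingCat.of k)))] [IsIntegral C],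
      topologicalKrullDim C = 1 → (∀ x : C, IsRegularLocalRing (C.presheaf.stalk x)) →
      ∀ (f : C ⟶ X), f ≫ (X ↘ (Spec (CommRingCat.of k))) = C ↘ (Spec (CommRingCat.of k)) →
      ∀ (M : C.Modules), PicF.IsInvertible M →
      ∀ (q : (Scheme.Modules.pullback f).obj S.X₃ ⟶ M), Epi q → 0 ≤ Curv2.deg k C M 1) :
    ∀ (C : Scheme.{u}) [C.Over (Spec (CommRingCat.of k))] [IsProper (C ↘ (Spec (CommRingCat.of k)))] [IsIntegral C],
    topologicalKrullDim C = 1 → (∀ x : C, IsRegularLocalRing (C.presheaf.stalk x)) →
    ∀ (f : C ⟶ X), f ≫ (X ↘ (Spec (CommRingCat.of k))) = C ↘ (Spec (CommRingCat.of k)) →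
    ∀ (M : C.Modules), PicF.IsInvertible M →
    ∀ (q : (Scheme.Modules.pullback f).obj S.X₂ ⟶ M), Epi q → 0 ≤ Curv2.deg k C M 1 := by
  intro C _ _ _ hC hreg f hf M hM q hq
  haveI := hq
  haveI : IsLocallyNoetherian C := LocallyOfFiniteType.isLocallyNoetherian (C ↘ Spec (CommRingCat.of k))
  haveI : IsLocallyNoetherian X := LocallyOfFiniteType.isLocallyNoetherian (X ↘ Spec (CommRingCat.of k))
  let P := Scheme.Modules.pullback f
  haveI : PreservesColimitsOfSize.{0, 0} P :=
    (Scheme.Modules.pullbackPushforwardAdjunction f).leftAdjoint_preservesColimits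
  let φ : P.obj S.X₁ ⟶ M := P.map S.f ≫ q
  by_cases hφ : φ = 0
  · haveI := hS.epi_g
    let c := CokernelCofork.mapIsColimit _ hS.gIsCokernel P
    obtain ⟨ψ, hψ⟩ : ∃ ψ : P.obj S.X₃ ⟶ M, P.map S.g ≫ ψ = q :=
      ⟨c.desc (CokernelCofork.ofπ q hφ), c.fac _ WalkingParallelPair.one⟩
    haveI : Epi (P.map S.g ≫ ψ) := by rw [hψ]; infer_instance
    exact hnef₃ C hC hreg f hf M hM ψ (epi_of_epi (P.map S.g) ψ)
  have hpid : ∀ x : C, IsPrincipalIdealRing (C.presheaf.stalk x) := fun x =>
    haveI := hreg x
    DimFormula.isPrincipalIdealRing_of_regular_dim_le_one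
      ((CurveCohLib.ringKrullDim_stalk_le_topologicalKrullDim x).trans hC.le)
  have hMc := AmpleVan.isCoh_invertible hM
  have hM1 := InvEnd.isFinLocFreeOfRank_one hM
  have hPc : Coh.IsCoh (P.obj S.X₁) :=
    ZClosLib.isCoh_pullback f (QCoh.isCoh_iff_isFP.2 (QCoh.isFP_of_isFinLocFree h₁))
  let I := Abelian.image φ
  have hI : Coh.IsCoh I := QCoh.isCoh_kernel hMc (QCoh.isCoh_cokernel hPc.1 hMc φ) _
  have hS' : (ShortComplex.mk (Abelian.image.ι φ) (cokernel.π φ) (kernel.condition _)).ShortExact :=
    { exact := ShortComplex.exact_of_f_is_kernel _ (kernelIsKernel (cokernel.π φ)) }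
  have hr := CurveCohLib.genRank_add hS' hMc
  change CurveCohLib.genRank M = CurveCohLib.genRank I + CurveCohLib.genRank (cokernel φ) at hr
  rw [CurveCohLib.genRank_eq hM1] at hr
  have hI' := CurveCohLib.isFinLocFreeOfRank_of_mono hpid (Abelian.image.ι φ) hI
    (ConsPropLib.isFinLocFreeOfRank_iff.1 hM1).1
  rcases Nat.eq_zero_or_pos (CurveCohLib.genRank I) with h0 | h0
  · rw [h0] at hI'
    exact absurd (by rw [← Abelian.image.fac φ,
      (CurveCohLib.isZero_of_isFinLocFreeOfRank_zero hI').eq_of_tgt (Abelian.factorThruImage φ) 0, zero_comp]) hφ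
  · rw [show CurveCohLib.genRank I = 1 by omega] at hI'
    exact (hnef₁ C hC hreg f hf I (CurveDuality.isInvertible_of_rank_one hI') (Abelian.factorThruImage φ) inferInstance).trans
      (CurveCohLib.deg_le_of_mono k hC (Abelian.image.ι φ) hI' hM1).1

end Groth.Agent.S17280
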