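import Groth.Statements.S17284
import Groth.Agent.Growth22.NefBundle
import Groth.Agent.S1641
import Groth.Agent.CurveCohLib.Proper
import Groth.Agent.Lib.InvEnd
-- import your own Groth.Agent.* helpers here

set_option autoImplicit false
universe u
open CategoryTheory CategoryTheory.Limits AlgebraicGeometry TopologicalSpace
open Variety

namespace Groth.Agent.S17284

set_option linter.style.haveILetI false
set_option linter.unusedSectionVars false
set_option maxHeartbeats 1000000
set_option backward.isDefEq.respectTransparency false
set_option backward.isDefEq.respectTransparency.types false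
open scoped Groth.Agent.H23.PicMul in
/-- (iii) ⇒ (ii): let X be a proper scheme over a field k and E a finite locally free O_X-module.
Suppose that for every regular projective curve C over k (integral, proper over k, of dimension one,
all local rings regular), every k-morphism f : C → X and every invertible quotient f^*E → M, deg M =
χ(M) - χ(O_C) ≥ 0. Then for every proper k-scheme C of dimension one (equivalently projective;
possibly reducible or non-reduced), every k-morphism f : C → X and every invertible quotient f^*E →
M, deg M = χ(M) - χ(O_C) ≥ 0. (The source states this for proper algebraic spaces X; this is the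
case of schemes.) -/
theorem result (k : Type u) [Field k]
    (X : Scheme.{u}) [X.Over (Spec (CommRingCat.of k))] [IsProper (X ↘ (Spec (CommRingCat.of k)))] (E : X.Modules) (hE : FlatMod.IsFinLocFree E)
    (hnef : ∀ (C : Scheme.{u}) [C.Over (Spec (CommRingCat.of k))] [IsProper (C ↘ (Spec (CommRingCat.of k)))] [IsIntegral C],
      topologicalKrullDim C = 1 → (∀ x : C, IsRegularLocalRing (C.presheaf.stalk x)) →
      ∀ (f : C ⟶ X), f ≫ (X ↘ (Spec (CommRingCat.of k))) = C ↘ (Spec (CommRingCat.of k)) →
      ∀ (M : C.Modules), PicF.IsInvertible M →
      ∀ (q : (Scheme.Modules.pullback f).obj E ⟶ M), Epi q → 0 ≤ Curv2.deg k C M 1) :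
    ∀ (C : Scheme.{u}) [C.Over (Spec (CommRingCat.of k))] [IsProper (C ↘ (Spec (CommRingCat.of k)))], topologicalKrullDim C = 1 →
    ∀ (f : C ⟶ X), f ≫ (X ↘ (Spec (CommRingCat.of k))) = C ↘ (Spec (CommRingCat.of k)) →
    ∀ (M : C.Modules), PicF.IsInvertible M →
    ∀ (q : (Scheme.Modules.pullback f).obj E ⟶ M), Epi q → 0 ≤ Curv2.deg k C M 1 := by
  intro C _ _ hC f hf M hM q hq
  haveI := hq
  haveI := CurveCohLib.isNoetherian_of_proper (k := k) (X := C)
  rw [S1641.result k C hC.le 1 M (InvEnd.isFinLocFreeOfRank_one hM)]
  refine finsum_induction _ le_rfl (fun _ _ ha hb => add_nonneg ha hb) fun Z => ?_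
  split
  · rename_i hZ
    let J := (C.irreducibleComponentIdeal Z.1 Z.2).radical
    letI := Growth22.subOver k J
    haveI := Growth22.isProper_sub (k := k) J
    have hr : Set.range J.subschemeι = Z.1 := by
      rw [Scheme.IdealSheafData.range_subschemeι, Scheme.IdealSheafData.support_radical]
      rfl
    haveI : IrreducibleSpace ↥J.subscheme := by
      haveI : IrreducibleSpace ↥(Set.range J.subschemeι) := by
        rw [hr]; exact Subtype.irreducibleSpace Z.2.1
      exact J.subschemeι.isClosedEmbedding.isEmbedding.toHomeomorph.symm.surjective.irreducibleSpace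
        J.subschemeι.isClosedEmbedding.isEmbedding.toHomeomorph.symm.continuous
    haveI : IsReduced J.subscheme := by
      show IsReduced (C.irreducibleComponentIdeal Z.1 Z.2).radical.subscheme
      rw [← Scheme.IdealSheafData.vanishingIdeal_support]
      exact H23.RedSub.isReduced_vanishingIdeal _
    haveI : IsIntegral J.subscheme := isIntegral_of_irreducibleSpace_of_isReduced _
    haveI : (Scheme.Modules.pullback J.subschemeι).PreservesEpimorphisms :=
      Functor.preservesEpimorphisms_of_adjunction (Scheme.Modules.pullbackPushforwardAdjunction _)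
    refine mul_nonneg (Int.natCast_nonneg _) (Growth22.CurveNef.deg_nonneg (k := k) hnef (T := J.subscheme) ?_
      (J.subschemeι ≫ f) (by rw [Category.assoc, hf]; rfl) (PicClLib.isInvertible_pullback _ hM)
      (((Scheme.Modules.pullbackComp J.subschemeι f).app E).inv ≫ (Scheme.Modules.pullback J.subschemeι).map q))
    rw [Growth22.dim_sub, ← Scheme.IdealSheafData.range_subschemeι, hr]
    exact hZ
  · exact le_rfl

end Groth.Agent.S17284
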