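import Groth.Statements.S17285
import Groth.Agent.Growth22.PullAsymp
-- import your own Groth.Agent.* helpers here

set_option autoImplicit false
universe u
open CategoryTheory CategoryTheory.Limits AlgebraicGeometry TopologicalSpace
open Variety

namespace Groth.Agent.S17285

set_option linter.style.haveILetI false
set_option linter.unusedSectionVars false
set_option maxHeartbeats 1000000
set_option backward.isDefEq.respectTransparency false
set_option backward.isDefEq.respectTransparency.types false
open scoped Groth.Agent.H23.PicMul in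
/-- Let X and Y be proper varieties over a field k (integral schemes, proper over k) of the same
dimension d, f : Y → X a birational k-morphism (generic point to generic point, with a single point
in that fibre and the same residue field there), and L an invertible O_X-module. Then L is big,
meaning that some real c > 0 has dim_k H^0(X, L^{⊗n}) > c·n^d for all sufficiently large n, if and
only if f^*L is big on Y in the same sense. (The source states this for birational morphisms of
proper schemes over k; it is stated here for integral X and Y, the case in which the printed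
argument's injectivity of O_X → f_*O_Y holds.) -/
theorem result (k : Type u) [Field k] (X Y : Scheme.{u})
    [X.Over (Spec (CommRingCat.of k))] [IsProper (X ↘ (Spec (CommRingCat.of k)))] [IsIntegral X]
    [Y.Over (Spec (CommRingCat.of k))] [IsProper (Y ↘ (Spec (CommRingCat.of k)))] [IsIntegral Y]
    (f : Y ⟶ X) (hf : f ≫ (X ↘ (Spec (CommRingCat.of k))) = Y ↘ (Spec (CommRingCat.of k))) (hbir : RadPt.IsBirational f)
    (d : ℕ) (hdimX : topologicalKrullDim X = d) (hdimY : topologicalKrullDim Y = d)
    (L : X.Modules) (hL : PicF.IsInvertible L) :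
    (∃ c : ℝ, 0 < c ∧ ∀ᶠ n : ℕ in Filter.atTop,
        c * (n : ℝ) ^ d < (Module.finrank k (Coh.HH X (CohB1.tensorPow L n) 0) : ℝ)) ↔
      (∃ c : ℝ, 0 < c ∧ ∀ᶠ n : ℕ in Filter.atTop,
        c * (n : ℝ) ^ d < (Module.finrank k (Coh.HH Y (CohB1.tensorPow ((Scheme.Modules.pullback f).obj L) n) 0) : ℝ)) := by
  have hgen : ∀ (Z : Scheme.{u}) [IsIntegral Z] (z : Z), z ∈ genericPoints Z ↔ z = genericPoint Z := fun Z _ z => by
    constructor
    · intro hz
      have h1 : closure ({z} : Set Z) = Set.univ :=
        (hz.eq_of_subset ⟨IrreducibleSpace.isIrreducible_univ (X := Z) |>.nonempty, PreirreducibleSpace.isPreirreducible_univ⟩ (Set.subset_univ _)).symm ▸ rfl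
      exact ((genericPoint_spec Z).eq (isGenericPoint_def.2 h1)).symm
    · rintro rfl
      show closure ({genericPoint Z} : Set Z) ∈ irreducibleComponents Z
      rw [genericPoint_closure]
      exact ⟨⟨Set.univ_nonempty, PreirreducibleSpace.isPreirreducible_univ⟩, fun _ _ _ => Set.subset_univ _⟩
  obtain ⟨hbij, hres⟩ := hbir
  have hdom : f.base (genericPoint Y) = genericPoint X :=
    (hgen X _).1 (hbij.mapsTo ((hgen Y _).2 rfl))
  have hdeg : f.residueDegree (genericPoint Y) = 1 := by
    have hb := (hres _ ((hgen X _).2 rfl)).2 (genericPoint Y) hdom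
    letI := (f.residueFieldMap (genericPoint Y)).hom.toAlgebra
    have l : X.residueField (f (genericPoint Y)) ≃ₗ[X.residueField (f (genericPoint Y))] Y.residueField (genericPoint Y) :=
      LinearEquiv.ofBijective (Algebra.linearMap _ _) hb
    show Module.finrank (X.residueField (f (genericPoint Y))) (Y.residueField (genericPoint Y)) = 1
    rw [← l.finrank_eq]
    exact Module.finrank_self _
  haveI : IsProper f := Growth22.isProper_of_over k f hf
  have huniq : ∀ y, f y = genericPoint X → y = genericPoint Y :=
    (Growth22.dim_and_fibre_of_genFinite k f hf hdom (hdeg.symm ▸ one_pos)).2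
  haveI := CurveCohLib.isNoetherian_of_proper (k := k) (X := X)
  haveI := CurveCohLib.isNoetherian_of_proper (k := k) (X := Y)
  have hinv := PicClLib.isInvertible_pullback f hL
  have hO := Growth22.isCoh_structure k (X := Y)
  obtain ⟨e, he, h⟩ : ∃ e, Growth22.SmN d e ∧ ∀ m,
      Growth22.h k (CohB1.tensorPow ((Scheme.Modules.pullback f).obj L) m) 0 ≤ Growth22.h k (CohB1.tensorPow L m) 0 + e m ∧
      Growth22.h k (CohB1.tensorPow L m) 0 ≤ Growth22.h k (CohB1.tensorPow ((Scheme.Modules.pullback f).obj L) m) 0 + e m := by
    obtain ⟨e, he, h⟩ := Growth22.seq_rank_near k hdimX.le hL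
      (ExistEasy.isCoh_pushforward_proper f hO)
      ((Growth22.finrank_generic_push f hdom huniq (PicLoc.isInvertible_structureModule Y)).trans hdeg) 0
    refine ⟨e, he, fun m => ?_⟩
    have h2 := h m
    rwa [← Growth22.h_pullback_twist_zero k f hf _ hL, Growth22.seq_structure, Growth22.seq_structure, one_mul] at h2
  have ht := he.tendsto (K := 1)
  have key : ∀ u v : ℕ → ℕ, (∀ m, v m ≤ u m + e m) →
      (∃ c : ℝ, 0 < c ∧ ∀ᶠ n : ℕ in Filter.atTop, c * (n : ℝ) ^ d < (v n : ℝ)) →
      ∃ c : ℝ, 0 < c ∧ ∀ᶠ n : ℕ in Filter.atTop, c * (n : ℝ) ^ d < (u n : ℝ) := by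
    rintro u v huv ⟨c, hc, hev⟩
    refine ⟨c / 2, by linarith, ?_⟩
    filter_upwards [hev, Filter.eventually_ge_atTop 1,
      (ht.eventually (gt_mem_nhds (show (0 : ℝ) < c / 2 by linarith)))] with m h1 h2 h3
    have hm : (0 : ℝ) < (m : ℝ) ^ d := pow_pos (by exact_mod_cast h2) _
    rw [Growth22.nrm, mul_one, div_lt_iff₀ hm] at h3
    have : (v m : ℝ) ≤ u m + e m := by exact_mod_cast huv m
    linarith
  exact ⟨key _ _ fun m => (h m).2, key _ _ fun m => (h m).1⟩

end Groth.Agent.S17285
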