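import Groth.Statements.S1731
import Groth.Agent.LocDual54.FlatExt
import Groth.Agent.EtMVLib.ExtTools
import Mathlib.Algebra.Category.ModuleCat.ChangeOfRings
import Mathlib.Algebra.Category.ModuleCat.Descent
import Mathlib.Algebra.Homology.DerivedCategory.TStructure

set_option autoImplicit false
universe u
open CategoryTheory
open scoped TensorProduct
attribute [local instance] HasDerivedCategory.standard
open LocCoh

namespace Groth.Agent.S1731

theorem nonempty_extAdj (A B : Type u) [CommRing A] [CommRing B] (φ : A →+* B) (inst : Algebra A B)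
    (h : inst = φ.toAlgebra) (hfl : Module.Flat A B)
    (M : ModuleCat.{u} A) (Y : ModuleCat.{u} B) (n : ℕ) :
    Nonempty (Abelian.Ext (ModuleCat.of B (B ⊗[A] M)) Y n ≃+
      Abelian.Ext M ((ModuleCat.restrictScalars φ).obj Y) n) := by
  subst h
  have hφ : φ.Flat := hfl
  haveI := ModuleCat.preservesFiniteLimits_extendScalars_of_flat hφ
  exact ⟨AddEquiv.ofBijective _ (Groth.Agent.EtMVLib.adjExtMap_bijective
    (ModuleCat.extendRestrictScalarsAdj φ) M Y n)⟩

theorem nonempty_ext (A B : Type u) [CommRing A] [CommRing B] [Algebra A B] [Module.Flat A B] (I : Ideal A) (hI : I.FG) (hs : Function.Surjective ((Ideal.Quotient.mk (I.map (algebraMap A B))).comp (algebraMap A B))) (hk : RingHom.ker ((Ideal.Quotient.mk (I.map (algebraMap A B))).comp (algebraMap A B)) = I) (M N : Type u) [AddCommGroup M] [Module A M] [AddCommGroup N] [Module A N] (hM : LocCoh.IsPowerTorsion I M) (n : ℕ) :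
    Nonempty (Abelian.Ext (ModuleCat.of A M) (ModuleCat.of A N) n ≃+
      Abelian.Ext (ModuleCat.of B (B ⊗[A] M)) (ModuleCat.of B (B ⊗[A] N)) n) := by
  let e₁ := AddEquiv.ofBijective
    (AddMonoidHom.mk' (fun x : Abelian.Ext (ModuleCat.of A M) (ModuleCat.of A N) n =>
      x.comp (Abelian.Ext.mk₀ (ModuleCat.ofHom (TensorProduct.mk A B N 1))) (add_zero n))
      fun x y => by rw [Abelian.Ext.add_comp])
    (Groth.Agent.LocDual54.ext_unit_bijective B hI hs hk (ModuleCat.of A M) hM N n)
  let ι : ModuleCat.of A (B ⊗[A] N) ≅ (ModuleCat.restrictScalars (algebraMap A B)).obj (ModuleCat.of B (B ⊗[A] N)) :=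
    (show ↑(ModuleCat.of A (B ⊗[A] N)) ≃ₗ[A]
        ↑((ModuleCat.restrictScalars (algebraMap A B)).obj (ModuleCat.of B (B ⊗[A] N))) from
      { toFun := fun x => x
        invFun := fun x => x
        left_inv := fun _ => rfl
        right_inv := fun _ => rfl
        map_add' := fun _ _ => rfl
        map_smul' := fun a x => (algebraMap_smul B a x).symm }).toModuleIso
  have hb : Function.Bijective fun x : Abelian.Ext (ModuleCat.of A M) (ModuleCat.of A (B ⊗[A] N)) n =>
      x.comp (Abelian.Ext.mk₀ ι.hom) (add_zero n) := by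
    refine Function.bijective_iff_has_inverse.2 ⟨fun x => x.comp (Abelian.Ext.mk₀ ι.inv) (add_zero n),
      fun x => ?_, fun x => ?_⟩
    · simp only [Abelian.Ext.comp_assoc_of_third_deg_zero, Abelian.Ext.mk₀_comp_mk₀, ι.hom_inv_id,
        Abelian.Ext.comp_mk₀_id]
    · simp only [Abelian.Ext.comp_assoc_of_third_deg_zero, Abelian.Ext.mk₀_comp_mk₀, ι.inv_hom_id,
        Abelian.Ext.comp_mk₀_id]
  let e₂ := AddEquiv.ofBijective
    (AddMonoidHom.mk' (fun x : Abelian.Ext (ModuleCat.of A M) (ModuleCat.of A (B ⊗[A] N)) n =>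
      x.comp (Abelian.Ext.mk₀ ι.hom) (add_zero n)) fun x y => by rw [Abelian.Ext.add_comp]) hb
  obtain ⟨e₃⟩ := nonempty_extAdj A B (algebraMap A B) ‹Algebra A B› (Algebra.algebra_ext _ _ fun _ => rfl) inferInstance (ModuleCat.of A M) (ModuleCat.of B (B ⊗[A] N)) n
  exact ⟨(e₁.trans e₂).trans e₃.symm⟩

/-- Statement for modules: let A → B be a flat ring map and I a finitely generated ideal of A such that
A → B/IB is surjective with kernel I (so A/I ≅ B/IB). If M is an I-power torsion A-module, then for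
every A-module N and every integer i the group of maps M → N[i] in D(A) is isomorphic to the group
of maps B ⊗_A M → (B ⊗_A N)[i] in D(B). (Only the existence of an isomorphism is asserted; the
published statement shows that the base-change map is one.) -/
theorem result (A B : Type u) [CommRing A] [CommRing B] [Algebra A B] [Module.Flat A B] (I : Ideal A) (hI : I.FG) (hs : Function.Surjective ((Ideal.Quotient.mk (I.map (algebraMap A B))).comp (algebraMap A B))) (hk : RingHom.ker ((Ideal.Quotient.mk (I.map (algebraMap A B))).comp (algebraMap A B)) = I) (M N : Type u) [AddCommGroup M] [Module A M] [AddCommGroup N] [Module A N] (hM : LocCoh.IsPowerTorsion I M) (i : ℤ) : Nonempty ((Dual.inD A M ⟶ (Dual.inD A N)⟦i⟧) ≃+ (Dual.inD B (B ⊗[A] M) ⟶ (Dual.inD B (B ⊗[A] N))⟦i⟧)) := by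
  obtain ⟨n, rfl⟩ | hi := (em (0 ≤ i)).imp_left Int.eq_ofNat_of_zero_le
  · obtain ⟨e⟩ := nonempty_ext A B I hI hs hk M N hM n
    exact ⟨(Abelian.Ext.homAddEquiv.symm.trans e).trans Abelian.Ext.homAddEquiv⟩
  · haveI : Subsingleton (Dual.inD A M ⟶ (Dual.inD A N)⟦i⟧) := subsingleton_of_forall_eq 0 fun f =>
      DerivedCategory.TStructure.t.zero_of_isLE_of_isGE f 0 (-i) (by omega) inferInstance
        (DerivedCategory.TStructure.t.isGE_shift _ 0 i (-i) (by omega))
    haveI : Subsingleton (Dual.inD B (B ⊗[A] M) ⟶ (Dual.inD B (B ⊗[A] N))⟦i⟧) := subsingleton_of_forall_eq 0 fun f =>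
      DerivedCategory.TStructure.t.zero_of_isLE_of_isGE f 0 (-i) (by omega) inferInstance
        (DerivedCategory.TStructure.t.isGE_shift _ 0 i (-i) (by omega))
    exact ⟨AddEquiv.ofBijective (0 : (Dual.inD A M ⟶ (Dual.inD A N)⟦i⟧) →+ _)
      ⟨fun _ _ _ => Subsingleton.elim _ _, fun y => ⟨0, Subsingleton.elim _ _⟩⟩⟩

end Groth.Agent.S1731
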