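import Mathlib
import Groth.Statements.S17321
import Groth.Agent.CAlgSmall.FiniteReduced

set_option autoImplicit false
universe u v
open CAlg

namespace Groth.Agent.S17321

theorem exists_derivation_ne_zero (k : Type*) [Field k] [IsAlgClosed k]
    (A : Type*) [CommRing A] [Algebra k A] [Module.Finite k A] (hred : ¬ IsReduced A) :
    ∃ D : Derivation k A A, D ≠ 0 := by
  classical
  have : IsArtinianRing A := .of_finite k A
  obtain ⟨m, hm, hne⟩ : ∃ m : Ideal A, m.IsMaximal ∧ m ^ 2 ≠ m := by
    by_contra! h
    apply hred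
    refine ⟨fun x hx => ?_⟩
    by_contra hx0
    have hann : Module.annihilator A (Ideal.span {x}) ≠ ⊤ := by
      intro htop
      apply hx0
      have h1 : (1 : A) ∈ Module.annihilator A (Ideal.span {x}) := htop ▸ Submodule.mem_top
      exact congrArg Subtype.val (show (⟨x, Ideal.mem_span_singleton_self x⟩ : Ideal.span {x}) = 0 by
        simpa using Module.mem_annihilator.mp h1 ⟨x, Ideal.mem_span_singleton_self x⟩)
    obtain ⟨m, hm, hle⟩ := Ideal.exists_le_maximal _ hann
    obtain ⟨e, he, hspan⟩ := (Ideal.isIdempotentElem_iff_of_fg m (IsNoetherian.noetherian m)).mp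
      (show m * m = m by rw [← pow_two]; exact h m hm)
    have hxm : x ∈ Ideal.span {e} := (show m = Ideal.span {e} from hspan) ▸
      (haveI := hm.isPrime; nilradical_le_prime m) (mem_nilradical.mpr hx)
    obtain ⟨y, rfl⟩ := Ideal.mem_span_singleton'.mp hxm
    apply hm.ne_top
    rw [Ideal.eq_top_iff_one, show (1 : A) = (1 - e) + e by ring]
    refine add_mem (hle ?_) ((show m = Ideal.span {e} from hspan).symm ▸ Ideal.mem_span_singleton_self e)
    rw [Module.mem_annihilator]
    rintro ⟨z, hz⟩
    obtain ⟨r, rfl⟩ := Ideal.mem_span_singleton'.mp hz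
    apply Subtype.ext
    have : (e : A) * e = e := he
    simp only [SetLike.val_smul, smul_eq_mul, Submodule.coe_zero]
    linear_combination (-(r * y)) * this
  obtain ⟨-, s, hs⟩ : m.IsPrime ∧ ∃ x : A, m = Submodule.colon ⊥ {x} := by
    rw [← isAssociatedPrime_iff]
    apply Module.associatedPrimes.minimalPrimes_annihilator_subset_associatedPrimes A A
    rw [Module.annihilator_eq_bot.mpr inferInstance]
    exact ⟨⟨hm.isPrime, bot_le⟩, fun q hq hqm =>
      (haveI := hq.1; ((IsArtinianRing.isMaximal_of_isPrime q).eq_of_le hm.ne_top hqm).ge)⟩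
  obtain ⟨c, hc⟩ : ∃ c : A →ₐ[k] k, ∀ a, a - algebraMap k A (c a) ∈ m := by
    letI := Ideal.Quotient.field m
    have hbij := IsAlgClosed.algebraMap_bijective_of_isIntegral (k := k) (K := A ⧸ m)
    let e := AlgEquiv.ofBijective (Algebra.ofId k (A ⧸ m)) hbij
    refine ⟨e.symm.toAlgHom.comp (Ideal.Quotient.mkₐ k m), fun a => ?_⟩
    rw [← Ideal.Quotient.eq_zero_iff_mem, map_sub, sub_eq_zero]
    exact (e.apply_symm_apply (Ideal.Quotient.mk m a)).symm
  let M₂ : Submodule k A := (m ^ 2).restrictScalars k
  obtain ⟨x, hxm, hx⟩ := SetLike.exists_of_lt (lt_of_le_of_ne (Ideal.pow_le_self two_ne_zero) hne)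
  obtain ⟨φ, hφx, hφ⟩ := Submodule.exists_dual_map_eq_bot_of_notMem
    (show x ∉ M₂ from hx) inferInstance
  have hφ' : ∀ y ∈ m ^ 2, φ y = 0 := fun y hy => by
    simpa [Submodule.map_eq_bot_iff] using
      (LinearMap.le_ker_iff_map (f := φ)).mpr hφ (show y ∈ M₂ from hy)
  have hs' : s ≠ 0 := by
    rintro rfl
    apply hm.ne_top
    rw [hs]
    simp
  have hms : ∀ y ∈ m, y * s = 0 := fun y hy => by
    rw [hs, Submodule.mem_colon_singleton] at hy
    simpa using hy
  let L : A →ₗ[k] A :=
    (φ.comp (LinearMap.id - (Algebra.linearMap k A).comp c.toLinearMap)).smulRight s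
  have hL : ∀ a, L a = φ (a - algebraMap k A (c a)) • s := fun a => rfl
  refine ⟨⟨L, ?_, ?_⟩, fun h => ?_⟩
  · simp [hL]
  · intro a b
    simp only [hL, smul_eq_mul, mul_smul_comm]
    have e : a * b - algebraMap k A (c (a * b)) =
        (a - algebraMap k A (c a)) * (b - algebraMap k A (c b)) +
        (c a) • (b - algebraMap k A (c b)) + (c b) • (a - algebraMap k A (c a)) := by
      rw [map_mul, map_mul, Algebra.smul_def, Algebra.smul_def]
      ring
    have hm2 : (a - algebraMap k A (c a)) * (b - algebraMap k A (c b)) ∈ m ^ 2 := by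
      rw [pow_two]; exact Ideal.mul_mem_mul (hc a) (hc b)
    have has : ∀ y : A, y * s = (c y) • s := fun y => by
      rw [Algebra.smul_def, ← sub_eq_zero, ← sub_mul]
      exact hms _ (hc y)
    rw [e, map_add, map_add, map_smul, map_smul, hφ' _ hm2, zero_add, has a, has b]
    simp only [add_smul, smul_smul, smul_eq_mul]
    rw [mul_comm (c a), mul_comm (c b)]
  · have : L x = 0 := congrArg (fun D : Derivation k A A => D x) h
    have hcx : c x = 0 := by
      by_contra hne'
      apply hm.ne_top
      have : algebraMap k A (c x) ∈ m := by simpa using m.sub_mem hxm (hc x)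
      exact Ideal.eq_top_of_isUnit_mem _ this ((IsUnit.mk0 _ hne').map _)
    rw [hL, hcx, map_zero, sub_zero, smul_eq_zero] at this
    exact this.elim hφx hs'


/-- Let k be an algebraically closed field and A a commutative k-algebra which is finite-dimensional as
a k-vector space (the coordinate ring of a finite k-scheme). Then the space Der(A) of k-derivations
A → A is zero if and only if A is reduced. -/
theorem result (k : Type u) [Field k] [IsAlgClosed k]
    (A : Type v) [CommRing A] [Algebra k A] [Module.Finite k A] :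
    Subsingleton (Derivation k A A) ↔ IsReduced A := by
  constructor
  · intro hsub
    by_contra hred
    obtain ⟨D, hD⟩ := exists_derivation_ne_zero k A hred
    exact hD (Subsingleton.elim _ _)
  · intro hred
    have := CAlgSmall.formallyEtale_of_isReduced_of_finite k A
    exact (KaehlerDifferential.linearMapEquivDerivation k A).symm.toEquiv.subsingleton

end Groth.Agent.S17321
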