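import Groth.Statements.S17344
import Groth.Agent.H75.PointCol
import Groth.Agent.SurfInt.Inter
import Groth.Agent.AmpleVan.Uniform
import Groth.Agent.Lib.CurveTensor
import Groth.Agent.AVIdx.EulerPull
import Groth.Agent.SurfInt.Curve
-- import your own Groth.Agent.* helpers here

set_option autoImplicit false
set_option linter.style.haveILetI false
set_option backward.isDefEq.respectTransparency false
set_option backward.isDefEq.respectTransparency.types false
attribute [-instance] CategoryTheory.catToReflQuiver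
universe u
open CategoryTheory CategoryTheory.Limits AlgebraicGeometry
open AdjLin

namespace Groth.Agent.S17344

open Groth.Agent

/-- The Euler characteristic of the quotient by a finite intersection of point-supported ideals. -/
theorem euler_quot_inf_le (k : Type u) [Field k] {X : Scheme.{u}} [X.Over (Spec (CommRingCat.of k))]
    [IsProper (X ↘ (Spec (CommRingCat.of k)))] {ι : Type u} (t : Finset ι) (I : ι → X.IdealSheafData)
    (hI : ∀ i, ∀ y ∈ ((I i).support : Set X), IsClosed ({y} : Set X))
    (c : ℤ) (hc : ∀ i, Curv2.euler k X (ClSub.quotMod (I i)) ≤ c) :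
    (∀ y ∈ ((t.inf I).support : Set X), IsClosed ({y} : Set X)) ∧
      Curv2.euler k X (ClSub.quotMod (t.inf I)) ≤ t.card * c := by
  classical
  haveI := CurveCohLib.isNoetherian_of_proper (k := k) (X := X)
  induction t using Finset.induction with
  | empty =>
    rw [Finset.inf_empty, CurveCohLib.euler_eq_finrank_zero (ParShLib.isCoh_quotMod _)
      fun y hy => absurd (SurfInt.support_quotMod_subset' _ hy) (by simp)]
    refine ⟨by simp, ?_⟩
    rw [CurveCohLib.finrank_HH_zero_eq_zero_of_isZero (AVIdx.isZero_of_support_empty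
      (ParShLib.isCoh_quotMod _).1 (Set.eq_empty_of_forall_notMem fun y hy => by
        simpa using SurfInt.support_quotMod_subset' _ hy))]
    simp
  | insert i t hit ih =>
    obtain ⟨hcl, hle⟩ := ih
    rw [Finset.inf_insert, Finset.card_insert_of_notMem hit]
    refine ⟨fun y hy => ?_, ?_⟩
    · have hle' : I i * t.inf I ≤ I i ⊓ t.inf I := le_inf
        (fun U => by rw [Scheme.IdealSheafData.ideal_mul]; exact Ideal.mul_le_inf.trans inf_le_left)
        (fun U => by rw [Scheme.IdealSheafData.ideal_mul]; exact Ideal.mul_le_inf.trans inf_le_right)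
      have h : y ∈ ((I i).support : Set X) ∪ ((t.inf I).support : Set X) := by
        have h' := Scheme.IdealSheafData.support_antitone hle' hy
        rw [Scheme.IdealSheafData.support_mul] at h'
        exact h'
      exact h.elim (hI i y) (hcl y)
    · have h1 := SurfInt.euler_inf (I i) (t.inf I) k
      have h2 := SurfInt.euler_ideal k (I i)
      have h3 := SurfInt.euler_ideal k (t.inf I)
      have h4 := SurfInt.euler_ideal k (I i ⊓ t.inf I)
      have h5 : 0 ≤ Curv2.euler k X (ClSub.quotMod (I i ⊔ t.inf I)) := by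
        rw [CurveCohLib.euler_eq_finrank_zero (ParShLib.isCoh_quotMod _) fun y hy => hI i y
          (Scheme.IdealSheafData.support_antitone le_sup_left (SurfInt.support_quotMod_subset' _ hy))]
        exact Int.natCast_nonneg _
      have h6 := hc i
      push_cast
      nlinarith

/-- Let k be an algebraically closed field of characteristic zero, X a smooth projective surface over k
(irreducible, proper, smooth of dimension 2, with an ample invertible module), L an ample invertible
O_X-module with tensor inverse L⁻¹, and Z a finite set of closed points of X such that the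
self-intersection number (L²), the alternating sum of Euler characteristics attached to two copies
of L⁻¹, exceeds 4 · #Z. Then for every sufficiently large m there is a non-zero global section of
(⋂_{z ∈ Z} m_z^(2m+1)) ⊗ L^{⊗m}: a divisor in the linear series of L^{⊗m} with multiplicity greater
than 2m at every point of Z. (In the source L is the ample determinant of a globally generated
rank-2 bundle E and Z the reduced zero set of a section of E, so that (L²) = c_1(E)² and #Z =
c_2(E); the assertion is the dimension count under c_1(E)² > 4 c_2(E).) -/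
theorem result (k : Type u) [Field k] [IsAlgClosed k] [CharZero k]
    (X : Scheme.{u}) [X.Over (Spec (CommRingCat.of k))] [IsProper (X ↘ (Spec (CommRingCat.of k)))]
    [Smooth (X ↘ (Spec (CommRingCat.of k)))] [IrreducibleSpace X] (hdim : topologicalKrullDim X = 2)
    (H : X.Modules) (hH : CohB1.IsAmple H)
    (L Linv : X.Modules) (hL : CohB1.IsAmple L) (hLinv : ClSub.IsInverseOf Linv L)
    (Z : Finset X) (hZ : ∀ z ∈ Z, IsClosed ({z} : Set X))
    (hsq : 4 * (Z.card : ℤ) < FGA.intNum k X 2 (fun _ : Fin 2 => Linv) (Coh.structureModule X)) :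
    ∃ m₀ : ℕ, ∀ m : ℕ, m₀ ≤ m →
      Nontrivial (Coh.HH X (CohB1.tensorMod
        (ClSub.idealMod (⨅ z : ↥Z, (W4c2seshadripos.pointIdeal (z : X) (hZ z z.2)) ^ (2 * m + 1)))
        (CohB1.tensorPow L m)) 0) := by
  haveI := CurveCohLib.isNoetherian_of_proper (k := k) (X := X)
  have h2 : topologicalKrullDim X ≤ (2 : ℕ) := hdim.le.trans (by norm_num)
  obtain ⟨e⟩ := hLinv
  have e' : CohB1.tensorMod L Linv ≅ Coh.structureModule X := SurfInt.tComm L Linv ≪≫ e
  have hLi : PicF.IsInvertible Linv := SurfInt.isInvertible_of_tensor_iso hL.1 e'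
  have hP : 4 * (Z.card : ℤ) < SurfInt.pair k L L := by
    rw [show (fun _ : Fin 2 => Linv) = ![Linv, Linv] from funext fun i => by fin_cases i <;> rfl,
      SurfInt.intNum_eq_pair k h2 hLi hLi, SurfInt.pair_inverse_both k h2 hL.1 hLi hL.1 hLi e' e'] at hsq
    exact hsq
  obtain ⟨d₀, hd₀⟩ := AmpleVan.exists_vanishing (A := k) hL
    (AmpleVan.isCoh_invertible (SurfInt.isInvertible_O X))
  set o := Curv2.euler k X (Coh.structureModule X)
  set c := Curv2.euler k X L - o
  set P := SurfInt.pair k L L
  refine ⟨d₀ + (6 * (Z.card : ℤ) + |P| + 2 * |c| + 2 * |o| + 2 * (Z.card : ℤ) + 1).toNat, fun m hm => ?_⟩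
  set J := ⨅ z : ↥Z, (W4c2seshadripos.pointIdeal (z : X) (hZ z z.2)) ^ (2 * m + 1)
  obtain ⟨hJcl, hJ⟩ := euler_quot_inf_le k (Finset.univ : Finset ↥Z)
    (fun z => (W4c2seshadripos.pointIdeal (z : X) (hZ z z.2)) ^ (2 * m + 1))
    (fun z y hy => by
      rw [Scheme.IdealSheafData.support_pow_succ] at hy
      have : y = (z : X) := by simpa [W4c2seshadripos.pointIdeal] using hy
      rw [this]; exact hZ z z.2)
    (((2 * m + 1) * (m + 1) : ℕ) : ℤ)
    (fun z => by
      rw [CurveCohLib.euler_eq_finrank_zero (ParShLib.isCoh_quotMod _) fun y hy => by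
        have hy' := SurfInt.support_quotMod_subset' _ hy
        rw [Scheme.IdealSheafData.support_pow_succ] at hy'
        have : y = (z : X) := by simpa [W4c2seshadripos.pointIdeal] using hy'
        rw [this]; exact hZ z z.2]
      have h := Groth.Agent.H75.two_mul_finrank_quot_pointIdeal_pow_le k h2 (hZ z z.2) (2 * m)
      have h' : (2 * m + 1) * (2 * m + 2) = 2 * ((2 * m + 1) * (m + 1)) := by ring
      rw [h'] at h
      exact_mod_cast (show Module.finrank k _ ≤ (2 * m + 1) * (m + 1) from Nat.le_of_mul_le_mul_left h (by omega)))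
  rw [Finset.inf_univ_eq_iInf] at hJcl hJ
  rw [Finset.card_univ, Fintype.card_coe] at hJ
  by_contra hnon
  rw [not_nontrivial_iff_subsingleton] at hnon
  have hLm := InvX.isInvertible_tensorPow hL.1 m
  haveI := AmpleVan.isEquivalence_tw hLm
  have hS : ((SurfInt.idealSeq J).map (AmpleVan.tw (CohB1.tensorPow L m))).ShortExact :=
    (SurfInt.idealSeq_shortExact J).map_of_exact _
  set S := (SurfInt.idealSeq J).map (AmpleVan.tw (CohB1.tensorPow L m))
  haveI : Subsingleton (Coh.HH X S.X₁ 0) := hnon
  have hQ : Coh.IsCoh S.X₃ := AmpleVan.isCoh_tensor (ParShLib.isCoh_quotMod J) (AmpleVan.isCoh_invertible hLm)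
  haveI := CurveCohLib.finite_HH (k := k) hQ 0
  have hinj : Function.Injective (PnCoh.Finite.mapLin k S.g 0) := by
    rw [← LinearMap.ker_eq_bot, CurveCohLib.ker_mapLin_g k hS 0, LinearMap.range_eq_bot]
    exact LinearMap.ext fun t => (Subsingleton.elim t 0) ▸ map_zero _
  have h1 := LinearMap.finrank_le_finrank_of_injective hinj
  have e2 : S.X₂ ≅ CohB1.tensorPow L m := SurfInt.tUnitL _
  have h3 : Curv2.euler k X S.X₃ = Curv2.euler k X (ClSub.quotMod J) := by
    have hA := SurfInt.euler_ideal_tensor k J hLm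
    have hB := SurfInt.euler_congr k (SurfInt.tComm (ClSub.quotMod J) (CohB1.tensorPow L m))
    have hC := CurveTensor.euler_tensor_torsion k (InvEnd.isFinLocFreeOfRank_one hLm)
      (ParShLib.isCoh_quotMod J) (fun y hy => hJcl y (SurfInt.support_quotMod_subset' _ hy))
    rw [Nat.cast_one, one_mul] at hC
    exact hB.trans hC
  have h4 : Curv2.euler k X S.X₃ = (Module.finrank k (Coh.HH X S.X₃ 0) : ℤ) :=
    CurveCohLib.euler_eq_finrank_zero hQ fun y hy => hJcl y
      (SurfInt.support_quotMod_subset' _ (CurveTensor.support_tensor_subset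
        ((QCoh.support_iso (SurfInt.tComm (ClSub.quotMod J) (CohB1.tensorPow L m)) hQ.1).subset hy)))
  have h5 : Curv2.euler k X (CohB1.tensorPow L m) = (Module.finrank k (Coh.HH X S.X₂ 0) : ℤ) := by
    rw [← SurfInt.euler_congr k e2, CurveCohLib.euler_eq_sum (k := k) (N := 1) fun i hi => ?_]
    · simp
    · obtain ⟨q, rfl⟩ : ∃ q, i = q + 1 := ⟨i - 1, by omega⟩
      exact hd₀ m (by omega) q
  have h6 := SurfInt.two_mul_euler_tensorPow k h2 hL.1 m
  have h1' : (Module.finrank k (Coh.HH X S.X₂ 0) : ℤ) ≤ (Module.finrank k (Coh.HH X S.X₃ 0) : ℤ) := by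
    exact_mod_cast h1
  rw [← h5, ← h4, h3] at h1'
  have hm' : (d₀ : ℤ) + (6 * (Z.card : ℤ) + |P| + 2 * |c| + 2 * |o| + 2 * (Z.card : ℤ) + 1) ≤ (m : ℤ) := by
    have := Int.self_le_toNat (6 * (Z.card : ℤ) + |P| + 2 * |c| + 2 * |o| + 2 * (Z.card : ℤ) + 1)
    have hm2 : ((d₀ + (6 * (Z.card : ℤ) + |P| + 2 * |c| + 2 * |o| + 2 * (Z.card : ℤ) + 1).toNat : ℕ) : ℤ) ≤ m := by
      exact_mod_cast hm
    push_cast at hm2
    linarith
  push_cast at hJ
  have hc1 := neg_abs_le c
  have ho1 := neg_abs_le o
  have hP1 := le_abs_self P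
  have hP2 : (0 : ℤ) ≤ Z.card := Int.natCast_nonneg _
  have hm0 : (0 : ℤ) ≤ (m : ℤ) := Int.natCast_nonneg m
  have hm1 : (1 : ℤ) ≤ (m : ℤ) := by
    linarith [abs_nonneg P, abs_nonneg c, abs_nonneg o, Int.natCast_nonneg d₀]
  have t1 : (4 * (Z.card : ℤ) + 1) * ((m : ℤ) * m) ≤ P * ((m : ℤ) * m) :=
    mul_le_mul_of_nonneg_right hP (mul_nonneg hm0 hm0)
  have t2 : (m : ℤ) * (6 * (Z.card : ℤ) + |P| + 2 * |c| + 2 * |o| + 2 * (Z.card : ℤ) + 1) ≤ (m : ℤ) * m :=
    mul_le_mul_of_nonneg_left (by linarith [Int.natCast_nonneg d₀]) hm0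
  have t3 : (m : ℤ) * P ≤ (m : ℤ) * |P| := mul_le_mul_of_nonneg_left hP1 hm0
  have t4 : (m : ℤ) * (-|c|) ≤ (m : ℤ) * c := mul_le_mul_of_nonneg_left hc1 hm0
  have t5 : 1 * (2 * |o| + 2 * (Z.card : ℤ)) ≤ (m : ℤ) * (2 * |o| + 2 * (Z.card : ℤ)) :=
    mul_le_mul_of_nonneg_right hm1 (by linarith [abs_nonneg o])
  linarith

end Groth.Agent.S17344
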