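import Groth.Statements.S17351
import Groth.Agent.SurfInt.InterCM
import Groth.Agent.Pic13Lib.Cut
import Groth.Agent.Refl70.Sheaf
import Groth.Agent.Div57.Ref.PushExt
import Groth.Agent.Div57.Ref.Extend
import Groth.Agent.Div57.Ref.FreeLocus
import Groth.Agent.NonPureLib.FinPart
import Groth.Agent.TameExt51.Sch
import Groth.Agent.Snapper.IsoOn
import Groth.Agent.ParShLib.Degree
import Groth.Agent.GrpSchLib.SmoothRegular
import Groth.Agent.CurveCohLib.SubBundle
import Groth.Agent.H23.PullPush
import Groth.Agent.KZ.CohClass
import Groth.Agent.KZ.Localization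
import Groth.Agent.Lib.CurveDeg
-- import your own Groth.Agent.* helpers here

set_option autoImplicit false
set_option linter.style.haveILetI false
set_option backward.isDefEq.respectTransparency false
set_option backward.isDefEq.respectTransparency.types false
attribute [-instance] CategoryTheory.catToReflQuiver
universe u
open CategoryTheory CategoryTheory.Limits AlgebraicGeometry
open AdjLin

namespace Groth.Agent.S17351

open Groth.Agent

/-- An ideal mapping compatibly into another is contained in it. -/
theorem le_of_hom {X : Scheme.{u}} {I K : X.IdealSheafData} (φ : ClSub.idealMod I ⟶ ClSub.idealMod K)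
    (hφ : φ ≫ ClSub.idealModι K = ClSub.idealModι I) : I ≤ K := fun W a ha => by
  obtain ⟨z, rfl⟩ := OmegaLib.exists_idealSect_eq I W.1 a (by rw [← RingHom.mem_ker, I.ker_subschemeι_app]; exact ha)
  rw [show OmegaSh.idealSect I W.1 z = OmegaSh.idealSect K W.1 (φ.app W.1 z) from
    (congrArg (fun χ : ClSub.idealMod I ⟶ Coh.structureModule X => χ.app W.1 z) hφ).symm]
  exact OmegaLib.idealSect_mem K W _

/-- The inclusion of an ideal is an isomorphism on stalks away from its zero set. -/
theorem isIso_stalk_idealModι {X : Scheme.{u}} (I : X.IdealSheafData) {x : X} (hx : x ∉ (I.support : Set X)) :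
    IsIso ((DerSch.stalkFunctor X x).map (ClSub.idealModι I)) := by
  have hS : (ShortComplex.mk (ClSub.idealModι I) (ClSub.toSubscheme I) (kernel.condition _)).Exact :=
    ShortComplex.exact_of_f_is_kernel _ (kernelIsKernel _)
  haveI : Mono ((DerSch.stalkFunctor X x).map (ClSub.idealModι I)) := by
    unfold ClSub.idealModι; infer_instance
  haveI : Epi ((DerSch.stalkFunctor X x).map (ClSub.idealModι I)) := (hS.map (DerSch.stalkFunctor X x)).epi_f
    ((Snapper.notMem_support_iff.1 (not_not.2 (ParShLib.subsingleton_stalk_quotMod I hx))).eq_of_tgt _ _)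
  exact isIso_of_mono_of_epi _

/-- Let k be an algebraically closed field of characteristic zero and X a smooth projective surface over
k (irreducible, proper, smooth of dimension 2, with an ample invertible module); let M be an
invertible O_X-module, Z ⊆ X a closed subscheme whose underlying set is finite, with quasi-coherent
ideal I_Z regarded as an O_X-module, and let 0 → M → F → I_Z → 0 be a short exact sequence of
O_X-modules (an extension of L ⊗ I_Z by O_X in the source, here tensored with M = L⁻¹). Then F is
not finite locally free if and only if there exist an ideal sheaf I' strictly containing I_Z (a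
proper closed subscheme Z' of Z, the empty one allowed), a short exact sequence 0 → M → F' → I' → 0
and a morphism g : F → F' which is compatible with the two maps from M and, on the quotients, with
the inclusion I_Z → I' (the unique map commuting with the inclusions into O_X); in other words the
extension class of F is the pull-back of an extension of I' by M. -/
theorem result (k : Type u) [Field k] [IsAlgClosed k] [CharZero k]
    (X : Scheme.{u}) [X.Over (Spec (CommRingCat.of k))] [IsProper (X ↘ (Spec (CommRingCat.of k)))]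
    [Smooth (X ↘ (Spec (CommRingCat.of k)))] [IrreducibleSpace X] (hdim : topologicalKrullDim X = 2)
    (H : X.Modules) (hH : CohB1.IsAmple H)
    (M : X.Modules) (hM : PicF.IsInvertible M)
    (IZ : X.IdealSheafData) (hZ : (IZ.support : Set X).Finite)
    (F : X.Modules) (a : M ⟶ F) (b : F ⟶ ClSub.idealMod IZ) (w : a ≫ b = 0)
    (hex : (ShortComplex.mk a b w).ShortExact) :
    ¬ FlatMod.IsFinLocFree F ↔
      ∃ (I' : X.IdealSheafData) (F' : X.Modules) (a' : M ⟶ F') (b' : F' ⟶ ClSub.idealMod I') (w' : a' ≫ b' = 0)
        (φ : ClSub.idealMod IZ ⟶ ClSub.idealMod I') (g : F ⟶ F'),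
        IZ < I' ∧ (ShortComplex.mk a' b' w').ShortExact ∧ φ ≫ ClSub.idealModι I' = ClSub.idealModι IZ ∧
          a ≫ g = a' ∧ g ≫ b' = b ≫ φ := by
  haveI : IsIntegral X := TameExt51.isIntegral_of_smooth (X ↘ (Spec (CommRingCat.of k)))
  haveI : IsLocallyNoetherian X := LocallyOfFiniteType.isLocallyNoetherian (X ↘ (Spec (CommRingCat.of k)))
  haveI : JacobsonSpace X := LocallyOfFiniteType.jacobsonSpace (X ↘ (Spec (CommRingCat.of k)))
  have hreg : ∀ x : X, IsRegularLocalRing (X.presheaf.stalk x) :=
    GrpSchLib.isRegularLocalRing_stalk_of_smooth (X ↘ (Spec (CommRingCat.of k)))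
  have h2 : ∀ x : X, ringKrullDim (X.presheaf.stalk x) ≤ (2 : ℕ) := fun x =>
    (CurveCohLib.ringKrullDim_stalk_le_topologicalKrullDim x).trans (hdim.le.trans (by norm_num))
  let U : X.Opens := ⟨(IZ.support : Set X)ᶜ, IZ.support.isClosed.isOpen_compl⟩
  have hU : ∀ x : X, x ∉ U → (2 : ℕ∞) ≤ LocCoh.depth (X.presheaf.stalk x) (X.presheaf.stalk x) := fun x hx => by
    haveI := hreg x
    have hxs : x ∈ (IZ.support : Set X) := not_not.1 hx
    refine Refl70.two_le_depth x ?_
    exact_mod_cast SurfInt.le_ringKrullDim_stalk k (SurfInt.isClosed_of_finite_support hZ x hxs) isClosed_univ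
      (IrreducibleSpace.isIrreducible_univ X) (Set.mem_univ x) (n := 2)
      (((IsHomeomorph.topologicalKrullDim_eq _ (Homeomorph.Set.univ X).isHomeomorph)).trans (hdim.trans (by norm_num)))
  -- restriction to `U` followed by extension
  let R := Scheme.Modules.restrictFunctor U.ι
  let P : X.Modules ⥤ X.Modules := R ⋙ Scheme.Modules.pushforward U.ι
  let η : 𝟭 X.Modules ⟶ P := (Scheme.Modules.restrictAdjunction U.ι).unit
  haveI : PreservesFiniteLimits P := by
    haveI : PreservesFiniteLimits R := inferInstance
    haveI : PreservesLimitsOfSize.{0, 0} (Scheme.Modules.pushforward U.ι) :=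
      (Scheme.Modules.restrictAdjunction U.ι).rightAdjoint_preservesLimits
    haveI : PreservesFiniteLimits (Scheme.Modules.pushforward U.ι) :=
      PreservesLimitsOfSize.preservesFiniteLimits _
    exact comp_preservesFiniteLimits _ _
  haveI : (Scheme.Modules.pushforward U.ι).PreservesZeroMorphisms := inferInstance
  haveI : P.PreservesZeroMorphisms := inferInstance
  have hηLF : ∀ {G : X.Modules}, FlatMod.IsFinLocFree G → IsIso (η.app G) := fun {G} hG => by
    have hGc : Coh.IsCoh G := CurveDeg.isCoh_of_isFinLocFree hG
    refine RefX.isIso_unit_of_extendsAcross (RefX.extendsAcross_reflexive hGc ?_ hU)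
    exact (RefX.isReflexive_iff hGc).2 fun x => Div57.Ref.reflexiveAt_of_free hGc (QCoh.free_stalk_of_isFinLocFree hG x)
  haveI := hηLF (H23.PullPush.isFinLocFree_of_isInvertible hM)
  haveI := hηLF (H23.PullPush.isFinLocFree_of_isInvertible (InvX.isInvertible_structureModule (X := X)))
  haveI := hex.mono_f
  haveI := hex.epi_g
  have hιmono : ∀ I : X.IdealSheafData, Mono (ClSub.idealModι I) := fun I => inferInstanceAs (Mono (kernel.ι _))
  constructor
  · intro hF
    -- the direct image from `U`
    let F' := P.obj F
    let a' : M ⟶ F' := a ≫ η.app F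
    let q : F' ⟶ Coh.structureModule X := P.map (b ≫ ClSub.idealModι IZ) ≫ inv (η.app (Coh.structureModule X))
    have hnat : η.app F ≫ q = b ≫ ClSub.idealModι IZ := by
      simp only [q]
      rw [← Category.assoc, IsIso.comp_inv_eq]
      exact (η.naturality (b ≫ ClSub.idealModι IZ)).symm
    have hMc : Coh.IsCoh M := AmpleVan.isCoh_invertible hM
    have hFc : Coh.IsCoh F := KZ.isCoh_X₂ hex hMc (SurfInt.isCoh_idealMod IZ)
    have hfreeU : ∀ x ∈ U, Module.Free (X.presheaf.stalk x) (F.presheaf.stalk x) := fun x hx => by
      have hS := hex.map_of_exact (DerSch.stalkFunctor X x)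
      haveI := isIso_stalk_idealModι IZ (show x ∉ (IZ.support : Set X) from hx)
      have hf1 : Module.Free (X.presheaf.stalk x) (M.presheaf.stalk x) :=
        QCoh.free_stalk_of_isFinLocFree (H23.PullPush.isFinLocFree_of_isInvertible hM) x
      have hf3 : Module.Free (X.presheaf.stalk x) ((ClSub.idealMod IZ).presheaf.stalk x) := by
        haveI : Module.Free (X.presheaf.stalk x)
            ((DerSch.stalkFunctor X x).obj (Coh.structureModule X)) :=
          QCoh.free_stalk_of_isFinLocFree
            (H23.PullPush.isFinLocFree_of_isInvertible (InvX.isInvertible_structureModule (X := X))) x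
        exact Module.Free.of_equiv
          (asIso ((DerSch.stalkFunctor X x).map (ClSub.idealModι IZ))).toLinearEquiv.symm
      exact @ModuleCat.free_shortExact _ _ _ hS hf1 hf3
    obtain ⟨hF'c, hF'r⟩ : Coh.IsCoh F' ∧ RefHull.IsReflexive F' := by
      refine Div57.Ref.isCoh_and_isReflexive_push hU (KZ.Localization.isCoh_restrict U.ι hFc) fun z => ?_
      obtain ⟨V, hV, hfree⟩ := Div57.Ref.exists_freeLocus (QCoh.isCoh_iff_isFP.1 hFc)
      have hle : U ≤ V := fun y hy => (hV y).2 (hfreeU y hy)
      haveI := QCoh.free_stalk_of_isFinLocFree (M := R.obj F)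
        (Div57.Ref.isFinLocFree_restrict_of_charts U fun y hy => by
          obtain ⟨W, n, hyW, -, hW⟩ := Div57.Ref.exists_chart hfree (hle hy)
          exact ⟨W, n, hyW, hW⟩) z
      haveI := QCoh.finite_stalk_of_isFT (KZ.Localization.isCoh_restrict U.ι hFc).1 (KZ.Localization.isCoh_restrict U.ι hFc).2 z
      infer_instance
    have hF'lf : FlatMod.IsFinLocFree F' := by
      obtain ⟨V, hV, hfree⟩ := Div57.Ref.exists_freeLocus (QCoh.isCoh_iff_isFP.1 hF'c)
      intro y
      have hy : y ∈ V := (hV y).2 (by
        by_contra hnf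
        have h3 := (Refl70.three_le_dim hreg hF'c hF'r y hnf).trans (h2 y)
        exact absurd h3 (by norm_num))
      obtain ⟨W, n, hyW, -, hW⟩ := Div57.Ref.exists_chart hfree hy
      exact ⟨W, n, hyW, hW⟩
    have hJc : Coh.IsCoh (Abelian.image q) :=
      QCoh.isCoh_of_mono (Abelian.image.ι q) QCoh.isCoh_structureModule'
        (QCoh.isQCoh_kernel QCoh.isQCoh_structureModule
          (QCoh.isQCoh_cokernel hF'c.1 QCoh.isQCoh_structureModule q) _)
    obtain ⟨I', e, he⟩ := NonPureLib.exists_idealMod_iso hJc (Abelian.image.ι q)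
    let b' : F' ⟶ ClSub.idealMod I' := Abelian.factorThruImage q ≫ e.hom
    have hb' : b' ≫ ClSub.idealModι I' = q := by simp only [b', Category.assoc, he, Abelian.image.fac]
    haveI := hιmono I'
    haveI := hιmono IZ
    have w' : a' ≫ b' = 0 := by
      rw [← cancel_mono (ClSub.idealModι I'), Category.assoc, Category.assoc, hb', hnat, zero_comp, ← Category.assoc,
        w, zero_comp]
    have haP : a' = η.app M ≫ P.map a := (η.naturality a)
    have hker : IsLimit (KernelFork.ofι a' w') := by
      have hk : IsLimit (KernelFork.ofι (P.map a)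
          (show P.map a ≫ P.map b = 0 by rw [← P.map_comp, w, P.map_zero])) :=
        KernelFork.mapIsLimit _ hex.fIsKernel P
      haveI : Mono a' := by rw [haP]; infer_instance
      refine KernelFork.IsLimit.ofι' _ _ fun {T} t ht => ?_
      have ht' : t ≫ P.map b = 0 := by
        have h := congrArg (fun χ => χ ≫ ClSub.idealModι I') ht
        simp only [Category.assoc, hb', zero_comp, q] at h
        rw [← Category.assoc, ← cancel_mono (η.app (Coh.structureModule X)), Category.assoc, IsIso.inv_hom_id,
          Category.comp_id, zero_comp, P.map_comp, ← Category.assoc] at h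
        exact (cancel_mono (P.map (ClSub.idealModι IZ))).1 (h.trans zero_comp.symm)
      refine ⟨(KernelFork.IsLimit.lift' hk t ht').1 ≫ inv (η.app M), ?_⟩
      rw [haP, Category.assoc, IsIso.inv_hom_id_assoc]
      exact (KernelFork.IsLimit.lift' hk t ht').2
    haveI : Mono a' := by rw [haP]; infer_instance
    haveI : Epi b' := epi_comp _ _
    have hex' : (ShortComplex.mk a' b' w').ShortExact :=
      { exact := ShortComplex.exact_of_f_is_kernel _ hker, mono_f := ‹_›, epi_g := ‹_› }
    let φ : ClSub.idealMod IZ ⟶ ClSub.idealMod I' :=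
      hex.gIsCokernel.desc (CokernelCofork.ofπ (η.app F ≫ b') (by
        show a ≫ η.app F ≫ b' = 0
        rw [← Category.assoc]; exact w'))
    have hφb : b ≫ φ = η.app F ≫ b' := hex.gIsCokernel.fac _ WalkingParallelPair.one
    have hφ : φ ≫ ClSub.idealModι I' = ClSub.idealModι IZ := by
      rw [← cancel_epi b, ← Category.assoc, hφb, Category.assoc, hb', hnat]
    refine ⟨I', F', a', b', w', φ, η.app F, lt_of_le_of_ne (le_of_hom φ hφ) (fun hII => hF ?_), hex', hφ, rfl,
      hφb.symm⟩
    subst hII
    have hφid : φ = 𝟙 _ := by rw [← cancel_mono (ClSub.idealModι IZ), Category.id_comp, hφ]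
    let τ : ShortComplex.mk a b w ⟶ ShortComplex.mk a' b' w' :=
      { τ₁ := 𝟙 _, τ₂ := η.app F, τ₃ := 𝟙 _,
        comm₁₂ := by simp [a'], comm₂₃ := by simp only [← hφb, hφid, Category.comp_id] }
    haveI : IsIso τ.τ₁ := inferInstanceAs (IsIso (𝟙 M))
    haveI : IsIso τ.τ₃ := inferInstanceAs (IsIso (𝟙 (ClSub.idealMod IZ)))
    haveI : IsIso τ.τ₂ := ShortComplex.isIso₂_of_shortExact_of_isIso₁₃ τ hex hex'
    exact H23.PullPush.isFinLocFree_of_iso (asIso τ.τ₂).symm hF'lf
  · rintro ⟨I', F', a', b', w', φ, g, hlt, hex', hφ, hag, hgb⟩ hF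
    haveI := hηLF hF
    haveI := hex'.mono_f
    haveI := hex'.epi_g
    haveI := hιmono I'
    haveI := hιmono IZ
    have hg : IsIso (P.map g) := by
      haveI : IsIso (R.map g) := Pic13Lib.isIso_restrict_of_stalks U g fun x hx => by
        haveI := isIso_stalk_idealModι IZ (show x ∉ (IZ.support : Set X) from hx)
        haveI := isIso_stalk_idealModι I' (fun h => (show x ∉ (IZ.support : Set X) from hx)
          (Scheme.IdealSheafData.support_antitone hlt.le h))
        haveI hφx : IsIso ((DerSch.stalkFunctor X x).map φ) := by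
          haveI : IsIso ((DerSch.stalkFunctor X x).map φ ≫ (DerSch.stalkFunctor X x).map (ClSub.idealModι I')) := by
            rw [← Functor.map_comp, hφ]; infer_instance
          exact IsIso.of_isIso_comp_right _ ((DerSch.stalkFunctor X x).map (ClSub.idealModι I'))
        let τ : (ShortComplex.mk a b w).map (DerSch.stalkFunctor X x) ⟶
            (ShortComplex.mk a' b' w').map (DerSch.stalkFunctor X x) :=
          (DerSch.stalkFunctor X x).mapShortComplex.map
            ⟨𝟙 _, g, φ, by simp [hag], hgb⟩
        haveI : IsIso τ.τ₁ := inferInstanceAs (IsIso ((DerSch.stalkFunctor X x).map (𝟙 M)))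
        haveI : IsIso τ.τ₃ := hφx
        exact ShortComplex.isIso₂_of_shortExact_of_isIso₁₃ τ (hex.map_of_exact _) (hex'.map_of_exact _)
      exact inferInstanceAs (IsIso ((Scheme.Modules.pushforward U.ι).map (R.map g)))
    have hI' : Mono (η.app (ClSub.idealMod I')) := by
      haveI : Mono (η.app (ClSub.idealMod I') ≫ P.map (ClSub.idealModι I')) := by
        rw [← η.naturality (ClSub.idealModι I')]
        exact mono_comp _ _
      exact mono_of_mono _ (P.map (ClSub.idealModι I'))
    haveI hmono : Mono (η.app F') := Preadditive.mono_of_cancel_zero _ fun {T} t ht => by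
      have h1 : (t ≫ b') ≫ η.app (ClSub.idealMod I') = 0 := by
        rw [Category.assoc, show b' ≫ η.app (ClSub.idealMod I') = η.app F' ≫ P.map b' from η.naturality b',
          ← Category.assoc, ht, zero_comp]
      have h2 : t ≫ b' = 0 := (cancel_mono (η.app (ClSub.idealMod I'))).1 (h1.trans zero_comp.symm)
      obtain ⟨l, hl⟩ := KernelFork.IsLimit.lift' hex'.fIsKernel t h2
      have h3 : l ≫ η.app M ≫ P.map a' = 0 := by
        rw [show η.app M ≫ P.map a' = a' ≫ η.app F' from (η.naturality a').symm, ← Category.assoc]
        exact (congrArg (· ≫ η.app F') hl).trans ht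
      rw [← Category.assoc] at h3
      have h4 := (cancel_mono (P.map a')).1 (h3.trans zero_comp.symm)
      rw [← hl, (cancel_mono (η.app M)).1 (h4.trans zero_comp.symm)]
      exact zero_comp
    haveI hiso : IsIso (g ≫ η.app F') := by
      rw [show g ≫ η.app F' = η.app F ≫ P.map g from η.naturality g]
      infer_instance
    haveI : Epi (η.app F') := epi_of_epi g (η.app F')
    haveI : IsIso (η.app F') := isIso_of_mono_of_epi _
    haveI : IsIso g := IsIso.of_isIso_comp_right g (η.app F')
    haveI : Epi φ := by
      haveI : Epi (b ≫ φ) := by rw [← hgb]; exact epi_comp _ _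
      exact epi_of_epi b φ
    haveI : Mono φ := mono_of_mono_fac hφ
    haveI : IsIso φ := isIso_of_mono_of_epi φ
    exact hlt.not_ge (le_of_hom (inv φ) (by rw [IsIso.inv_comp_eq, hφ]))

end Groth.Agent.S17351
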