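import Groth.Statements.S17373
import Groth.Agent.Growth22.NumEmb
-- import your own Groth.Agent.* helpers here

set_option autoImplicit false
universe u
open CategoryTheory CategoryTheory.Limits AlgebraicGeometry
open Variety

namespace Groth.Agent.S17373

set_option linter.style.haveILetI false
set_option linter.unusedSectionVars false
set_option maxHeartbeats 1000000
set_option backward.isDefEq.respectTransparency false
set_option backward.isDefEq.respectTransparency.types false
open scoped Groth.Agent.H23.PicMul in
/-- Let X be a geometrically integral scheme proper over a field k and L an ample invertible module on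
X. Then there is an integer m₀ such that for all m ≥ m₀ and every numerically trivial invertible
module N (degree zero on every integral closed one-dimensional subscheme), H^0(X, L^m ⊗ N) has the
same k-dimension as H^0(X, L^m), and that dimension is positive. (The published statement is for a
big divisor D and asserts that every invertible module numerically equivalent to O(mD) comes from an
effective divisor for m large; its argument reduces to ample D and establishes exactly the equality
of dimensions stated here.) -/
theorem result (k : Type u) [Field k] (X : Scheme.{u})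
    [X.Over (Spec (CommRingCat.of k))] [IsIntegral X] [GeometricallyIntegral (X ↘ Spec (CommRingCat.of k))]
    [IsProper (X ↘ Spec (CommRingCat.of k))]
    (L : X.Modules) (hL : CohB1.IsAmple L) :
    ∃ m₀ : ℕ, ∀ m : ℕ, m₀ ≤ m → ∀ N : X.Modules, PicF.IsInvertible N → Pic13.IsNumEquivZero k X N →
      Module.finrank k (Coh.HH X (CohB1.tensorMod (CohB1.tensorPow L m) N) 0) =
          Module.finrank k (Coh.HH X (CohB1.tensorPow L m) 0) ∧
        0 < Module.finrank k (Coh.HH X (CohB1.tensorPow L m) 0) := by
  haveI := CurveCohLib.isNoetherian_of_proper (k := k) (X := X)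
  obtain ⟨d, hd⟩ : ∃ d : ℕ, topologicalKrullDim X = d := by
    obtain ⟨d, hd⟩ := Pic13Lib.exists_dim_le (X ↘ Spec (CommRingCat.of k))
    haveI : Nonempty (TopologicalSpace.IrreducibleCloseds ↥X) :=
      ⟨⟨Set.univ, IrreducibleSpace.isIrreducible_univ ↥X, isClosed_univ⟩⟩
    have h0 : 0 ≤ topologicalKrullDim X := Order.krullDim_nonneg
    obtain ⟨y, hy⟩ := WithBot.ne_bot_iff_exists.1 (fun h : topologicalKrullDim X = ⊥ => by rw [h] at h0; simp at h0)
    rw [← hy] at hd ⊢
    obtain ⟨e, rfl⟩ := ENat.ne_top_iff_exists.1 (fun h : y = ⊤ => by subst h; exact absurd (WithBot.coe_le_coe.1 hd) (not_le.2 (ENat.coe_lt_top d)))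
    exact ⟨e, rfl⟩
  obtain ⟨m₀, h⟩ := Growth22.exists_h_zero_pos (k := k) hL hd
  exact ⟨m₀, fun m hm N hN hN' => h m hm N ⟨hN, hN'⟩⟩

end Groth.Agent.S17373
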