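import Groth.Statements.S17374
import Groth.Agent.Growth22.NumVol
-- import your own Groth.Agent.* helpers here

set_option autoImplicit false
universe u
open CategoryTheory CategoryTheory.Limits AlgebraicGeometry
open scoped ENNReal
open Variety

namespace Groth.Agent.S17374

set_option linter.style.haveILetI false
set_option linter.unusedSectionVars false
set_option maxHeartbeats 1000000
set_option backward.isDefEq.respectTransparency false
set_option backward.isDefEq.respectTransparency.types false
open scoped Groth.Agent.H23.PicMul in
/-- Let X be a geometrically integral scheme of dimension d, proper over a field k and admitting an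
ample invertible module, and let L, N be invertible modules on X with N numerically trivial (degree
zero on every integral closed one-dimensional subscheme). Then the upper limits of dim_k H^0(X, (L ⊗
N)^m) / m^d and of dim_k H^0(X, L^m) / m^d as m → ∞, taken in the extended non-negative reals,
agree; that is, the volume of an invertible module depends only on its numerical equivalence class. -/
theorem result (k : Type u) [Field k] (X : Scheme.{u})
    [X.Over (Spec (CommRingCat.of k))] [IsIntegral X] [GeometricallyIntegral (X ↘ Spec (CommRingCat.of k))]
    [IsProper (X ↘ Spec (CommRingCat.of k))]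
    (hproj : ∃ A : X.Modules, CohB1.IsAmple A) (d : ℕ) (hd : topologicalKrullDim X = d)
    (L N : X.Modules) (hL : PicF.IsInvertible L) (hN : PicF.IsInvertible N) (hNum : Pic13.IsNumEquivZero k X N) :
    Filter.limsup (fun m : ℕ => (Module.finrank k (Coh.HH X (CohB1.tensorPow (CohB1.tensorMod L N) m) 0) : ℝ≥0∞) /
        (m : ℝ≥0∞) ^ d) Filter.atTop =
      Filter.limsup (fun m : ℕ => (Module.finrank k (Coh.HH X (CohB1.tensorPow L m) 0) : ℝ≥0∞) /
        (m : ℝ≥0∞) ^ d) Filter.atTop := by
  haveI := CurveCohLib.isNoetherian_of_proper (k := k) (X := X)
  have hO := QCoh.isCoh_structureModule' (X := X)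
  have key : ∀ {M : X.Modules}, PicF.IsInvertible M →
      Filter.limsup (fun m : ℕ => (Module.finrank k (Coh.HH X (CohB1.tensorPow M m) 0) : ℝ≥0∞) /
          (m : ℝ≥0∞) ^ d) Filter.atTop =
        ENNReal.ofReal (Filter.limsup (Growth22.nrm 1 d (Growth22.seq k (Coh.structureModule X) M 0)) Filter.atTop) :=
    fun {M} hM => by
      rw [← (Growth22.ennreal_limsup_eq (Growth22.seq_growth k hM hO (Growth22.small_top hd.le _) 0)).1]
      refine congrArg (Filter.limsup · Filter.atTop) (funext fun m => ?_)
      rw [Growth22.seq_structure, Growth22.h]
  rw [key (H23.PicMul.isInvertible_tensor hL hN), key hL,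
    Growth22.limsup_numTriv_eq k hproj hd hL ⟨hN, hNum⟩]

end Groth.Agent.S17374
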