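import Groth.Statements.S17411
import Groth.Agent.VarDim.Fibre
import Groth.Agent.VarDim.Top

set_option autoImplicit false
universe u
open CategoryTheory AlgebraicGeometry
open Prym5

namespace Groth.Agent.S17411

/-- Let k be an algebraically closed field of characteristic zero and X, Y, Z schemes of finite type
over k, with Y and Z irreducible of the same dimension, η : Y → Z a dominant k-morphism and ρ : X →
Y a k-morphism. Then the composite ρ ≫ η is dominant exactly when ρ is dominant. (The published
statement concerns the forgetful map from the moduli space of étale double covers of genus-five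
curves to the moduli space of genus-five curves, both irreducible of dimension 12, and a morphism
into the former; its argument uses only the hypotheses kept here.) -/
theorem result (k : Type u) [Field k] [IsAlgClosed k]
    [CharZero k] (X Y Z : Scheme.{u}) [X.Over (Spec (CommRingCat.of k))] [Y.Over (Spec (CommRingCat.of k))]
    [Z.Over (Spec (CommRingCat.of k))]
    [LocallyOfFiniteType (X ↘ Spec (CommRingCat.of k))] [QuasiCompact (X ↘ Spec (CommRingCat.of k))]
    [LocallyOfFiniteType (Y ↘ Spec (CommRingCat.of k))] [QuasiCompact (Y ↘ Spec (CommRingCat.of k))]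
    [LocallyOfFiniteType (Z ↘ Spec (CommRingCat.of k))] [QuasiCompact (Z ↘ Spec (CommRingCat.of k))]
    [IrreducibleSpace Y] [IrreducibleSpace Z] (hdim : topologicalKrullDim Y = topologicalKrullDim Z)
    (ρ : X ⟶ Y) [ρ.IsOver (Spec (CommRingCat.of k))] (η : Y ⟶ Z) [η.IsOver (Spec (CommRingCat.of k))]
    [IsDominant η] :
    IsDominant (ρ ≫ η) ↔ IsDominant ρ := by
  constructor
  · intro h
    haveI : IsLocallyNoetherian X := LocallyOfFiniteType.isLocallyNoetherian (X ↘ Spec (CommRingCat.of k))
    haveI : CompactSpace X := QuasiCompact.compactSpace_of_compactSpace (X ↘ Spec (CommRingCat.of k))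
    haveI : IsNoetherian X := {}
    haveI : TopologicalSpace.NoetherianSpace X := inferInstance
    have hfin := TopologicalSpace.NoetherianSpace.finite_irreducibleComponents (α := X)
    set Z' := ⋃ C ∈ irreducibleComponents X, closure ((ρ ≫ η).base '' C) with hZ'
    have hcl : IsClosed Z' := hfin.isClosed_biUnion fun C _ => isClosed_closure
    have hgen : genericPoint Z ∈ Z' := by
      have hsub : Set.range (ρ ≫ η).base ⊆ Z' := by
        rintro _ ⟨x, rfl⟩
        exact Set.mem_biUnion (irreducibleComponent_mem_irreducibleComponents x)
          (subset_closure ⟨x, mem_irreducibleComponent, rfl⟩)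
      exact closure_minimal hsub hcl ((ρ ≫ η).denseRange.closure_range ▸ Set.mem_univ _)
    obtain ⟨C, hC, hgC⟩ := Set.mem_iUnion₂.1 hgen
    have hCi : IsIrreducible C := hC.1
    have hCc : IsClosed C := isClosed_of_mem_irreducibleComponents C hC
    obtain ⟨x, hx⟩ := QuasiSober.sober hCi hCc
    have hxZ : η (ρ x) = genericPoint Z := by
      have h1 : closure ((ρ ≫ η).base '' C) ⊆ closure {(ρ ≫ η).base x} := by
        refine closure_minimal ?_ isClosed_closure
        rintro _ ⟨y, hy, rfl⟩
        exact ((hx.specializes hy).map (ρ ≫ η).continuous).mem_closure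
      exact ((specializes_iff_mem_closure.2 (h1 hgC)).antisymm (genericPoint_specializes _)).eq
    have hρx : ρ x = genericPoint Y := by
      by_contra hne
      have hd := Groth.Agent.VarDim.deg_map_le (p := Y ↘ Spec (CommRingCat.of k))
        (q := Z ↘ Spec (CommRingCat.of k)) η (comp_over η (Spec (CommRingCat.of k))) (ρ x)
      rw [hxZ] at hd
      rw [Groth.Agent.VarDim.topologicalKrullDim_eq_deg_genericPoint (Y ↘ Spec (CommRingCat.of k)),
        Groth.Agent.VarDim.topologicalKrullDim_eq_deg_genericPoint (Z ↘ Spec (CommRingCat.of k))] at hdim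
      have hlt := Groth.Agent.VarDim.deg_strictMono (Y ↘ Spec (CommRingCat.of k))
        (lt_iff_le_not_ge.2 ⟨genericPoint_specializes (ρ x), fun h' => hne ((show genericPoint Y ⤳ ρ x from genericPoint_specializes _).antisymm h').eq.symm⟩)
      have : Groth.Agent.VarDim.deg (Y ↘ Spec (CommRingCat.of k)) (genericPoint Y) =
          Groth.Agent.VarDim.deg (Z ↘ Spec (CommRingCat.of k)) (genericPoint Z) := by exact_mod_cast hdim
      omega
    refine ⟨fun y => ?_⟩
    have h2 : ρ x ⤳ y := hρx ▸ genericPoint_specializes y
    exact closure_mono (Set.singleton_subset_iff.2 (Set.mem_range_self x)) h2.mem_closure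
  · intro h
    infer_instance

end Groth.Agent.S17411
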