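import Groth.Statements.S17447
import Groth.Agent.HensEt88.FinitePart

set_option autoImplicit false
set_option linter.style.haveILetI false
universe u
open CategoryTheory CategoryTheory.Limits AlgebraicGeometry
open Hensel

namespace Groth.Agent.S17447

/-- Let R be a henselian local ring and X → Spec R a quasi-finite separated morphism (locally of finite
type, quasi-compact, with discrete fibres). Then X decomposes uniquely as the disjoint union of an
open and closed subscheme finite over Spec R and an open and closed subscheme with empty special
fibre: there is exactly one open subset W of X which is closed, finite over Spec R (as an open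
subscheme) and contains every point lying over the closed point of Spec R. (No Noetherian hypothesis
on R.) -/
theorem result (R : Type u) [CommRing R] [HenselianLocalRing R]
    {X : Scheme.{u}} (f : X ⟶ Spec (CommRingCat.of R))
    [LocallyQuasiFinite f] [LocallyOfFiniteType f] [QuasiCompact f] [IsSeparated f] :
    ∃! W : X.Opens, IsClosed (W : Set X) ∧ IsFinite (W.ι ≫ f) ∧
      ∀ x : X, f.base x = IsLocalRing.closedPoint R → x ∈ W := by
  obtain ⟨W, hW⟩ := HensEt88.exists_finitePart f
  refine ⟨W, hW, fun W' hW' => ?_⟩
  have key : ∀ V V' : X.Opens, IsFinite (V.ι ≫ f) →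
      (∀ x : X, f.base x = IsLocalRing.closedPoint R → x ∈ V') → V ≤ V' := by
    intro V V' hV hV' x hx
    haveI := hV
    obtain ⟨x0, hspec, hx0⟩ : ∃ x0 : ↥(V.toScheme), (⟨x, hx⟩ : ↥(V.toScheme)) ⤳ x0 ∧
        (V.ι ≫ f).base x0 = IsLocalRing.closedPoint R :=
      (V.ι ≫ f).isClosedMap.specializingMap (IsLocalRing.specializes_closedPoint _)
    exact (hspec.map V.ι.continuous).mem_open V'.isOpen (hV' _ ((Scheme.Hom.comp_apply V.ι f x0).symm.trans hx0))
  exact le_antisymm (key _ _ hW'.2.1 hW.2.2) (key _ _ hW.2.1 hW'.2.2)

end Groth.Agent.S17447
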