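import Groth.Statements.S17464
import Groth.Agent.AlgGrpQ.LineLimit
import Groth.Agent.RedSub30.TorusOverField
import Groth.Agent.GrpSchLib.Descent
import Groth.Agent.GrpSchLib.HomFinite
import Mathlib.AlgebraicGeometry.Sites.Fpqc

set_option autoImplicit false
universe u
open CategoryTheory MonoidalCategory CartesianMonoidalCategory MonObj GrpObj AlgebraicGeometry CategoryTheory.Limits
open AlgGrp

namespace Groth.Agent.S17464

open Groth.Agent.GrpSchLib

/-- Let k be an algebraically closed field, T a k-torus and U a smooth connected affine k-group scheme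
of finite type with a composition series whose successive quotients are additive groups: closed
subgroup schemes U_0 → U_1 → … → U_n = U (homomorphisms which are closed immersions, U_i ↦ U_{i+1}),
with U_0 the trivial group, U_n identified with U by an isomorphism of group schemes, and each U_i
the kernel of a flat surjective homomorphism from U_{i+1} onto the additive group. Then every
homomorphism from U to T is the trivial one. (The published statement is over an arbitrary field for
a torus and a smooth connected unipotent group, unipotent meaning that such a composition series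
exists over an algebraic closure; this row states the case of an algebraically closed base field.
The companion assertion, that homomorphisms from T to U are trivial, is an existing statement about
groups of multiplicative type.) -/
theorem result (k : Type u) [Field k] [IsAlgClosed k]
    (T U : Over (Spec (CommRingCat.of k))) [GrpObj T] [GrpObj U] (hT : Red.IsTorus T)
    [Smooth U.hom] [QuasiCompact U.hom] [ConnectedSpace ↥U.left] [IsAffine U.left]
    (n : ℕ) (Us : Fin (n + 1) → Over (Spec (CommRingCat.of k))) [∀ i, GrpObj (Us i)]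
    (h0 : Red.IsTrivialGrp (Us 0))
    (e : Us (Fin.last n) ≅ U) [IsMonHom e.hom]
    (incl : ∀ i : Fin n, Us i.castSucc ⟶ Us i.succ) [∀ i, IsMonHom (incl i)]
    [∀ i, IsClosedImmersion (incl i).left]
    (quot : ∀ i : Fin n, Us i.succ ⟶ Red.Ga (Spec (CommRingCat.of k))) [∀ i, IsMonHom (quot i)]
    [∀ i, Surjective (quot i).left] [∀ i, Flat (quot i).left]
    (hker : ∀ i : Fin n, AlgGrp.IsKernel (incl i) (quot i))
    (f : U ⟶ T) [IsMonHom f] :
    f = 1 := by
  obtain ⟨r, ⟨eT⟩⟩ := Groth.Agent.RedSub30.exists_splitTorus_iso T hT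
  let A := MonoidAlgebra k (Multiplicative (Fin r → ℤ))
  let e' : AffineHopf.sp k A ≅ T := (Grp.forget _).mapIso eT
  have line : ∀ h : Red.Ga (Spec (CommRingCat.of k)) ⟶ T, η[Red.Ga (Spec (CommRingCat.of k))] ≫ h = η[T] → h = 1 := by
    intro h h1
    let p₀ : AffineHopf.sp k (Polynomial k) ⟶ Red.Ga (Spec (CommRingCat.of k)) :=
      GaPts.ptOfFn (Groth.Agent.AlgGrpQ.LineLimit.fn k (Polynomial.X : Polynomial k))
    let ψ : CommRingCat.of (Polynomial k) ⟶ Γ((Red.Ga (Spec (CommRingCat.of k))).left, ⊤) :=
      CommRingCat.ofHom (Polynomial.eval₂RingHom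
        ((Scheme.ΓSpecIso (CommRingCat.of k)).inv ≫ (Red.Ga (Spec (CommRingCat.of k))).hom.appTop).hom
        (Red.gaFn (𝟙 (Red.Ga (Spec (CommRingCat.of k))))))
    have hψ : CommRingCat.ofHom (algebraMap k (Polynomial k)) ≫ ψ =
        (Scheme.ΓSpecIso (CommRingCat.of k)).inv ≫ (Red.Ga (Spec (CommRingCat.of k))).hom.appTop := by
      ext a
      simp [ψ]
    let g₀ : Red.Ga (Spec (CommRingCat.of k)) ⟶ AffineHopf.sp k (Polynomial k) :=
      Groth.Agent.AlgGrpQ.LineLimit.toSp k _ ψ hψ
    have hg : g₀ ≫ p₀ = 𝟙 _ := by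
      refine GaPts.gaFn_injective ?_
      show Red.gaFn _ = Red.gaFn _
      refine (GaPts.gaFn_comp g₀ p₀).trans ((congrArg g₀.left.appTop (GaPts.gaFn_ptOfFn _)).trans ?_)
      refine (Groth.Agent.AlgGrpQ.LineLimit.appTop_toSp k _ ψ hψ _).trans ?_
      simp [ψ]
    obtain ⟨φ, hφ⟩ := AffineHopf.exists_eq_spMap (p₀ ≫ h ≫ e'.inv)
    let φ₀ : A →ₐ[k] k := (Polynomial.aeval (0 : k)).comp φ
    have hconst : φ = (Algebra.ofId k (Polynomial k)).comp φ₀ := by
      refine MonoidAlgebra.algHom_ext (fun m => ?_) (by ext)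
      have hu : IsUnit (φ (MonoidAlgebra.single m 1)) :=
        ((Group.isUnit m).map (MonoidAlgebra.of k (Multiplicative (Fin r → ℤ)))).map φ
      obtain ⟨c, -, hc⟩ := Polynomial.isUnit_iff.mp hu
      show φ (MonoidAlgebra.single m 1) = algebraMap k (Polynomial k) (Polynomial.aeval (0 : k) (φ (MonoidAlgebra.single m 1)))
      rw [← hc, Polynomial.aeval_C, Polynomial.algebraMap_eq]
      rfl
    have h2 : h ≫ e'.inv = (g₀ ≫ AffineHopf.spMap (Algebra.ofId k (Polynomial k))) ≫ AffineHopf.spMap φ₀ := by
      rw [Category.assoc, AffineHopf.spMap_comp, ← hconst, ← hφ, reassoc_of% hg]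
    have h3 : g₀ ≫ AffineHopf.spMap (Algebra.ofId k (Polynomial k)) =
        toUnit _ ≫ Groth.Agent.AlgGrpQ.LineLimit.unitToSp k :=
      Groth.Agent.AlgGrpQ.LineLimit.eq_toUnit k _
    have h4 : h = toUnit _ ≫ ((Groth.Agent.AlgGrpQ.LineLimit.unitToSp k ≫ AffineHopf.spMap φ₀) ≫ e'.hom) :=
      ((Category.comp_id h).symm.trans ((congrArg (h ≫ ·) e'.inv_hom_id.symm).trans
        (Category.assoc h e'.inv e'.hom).symm)).trans
        (((congrArg (· ≫ e'.hom) (h2.trans (congrArg (· ≫ AffineHopf.spMap φ₀) h3))).trans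
          (congrArg (· ≫ e'.hom) (Category.assoc _ _ _))).trans (Category.assoc _ _ _))
    rw [h4, ← Category.assoc, toUnit_unique (η[Red.Ga (Spec (CommRingCat.of k))] ≫ toUnit _) (𝟙 _),
      Category.id_comp] at h1
    rw [h4, h1]
    rfl
  have hqc : ∀ i, QuasiCompact (Us i).hom := by
    intro i
    induction i using Fin.reverseInduction with
    | last =>
      have : IsIso e.hom.left := (Over.forget _).map_isIso e.hom
      have : QuasiCompact (e.hom.left ≫ U.hom) := inferInstance
      rwa [Over.w] at this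
    | cast i ih =>
      have : QuasiCompact ((incl i).left ≫ (Us i.succ).hom) := inferInstance
      rwa [Over.w] at this
  suffices H : ∀ i (g : Us i ⟶ T), IsMonHom g → g = 1 by
    have := H (Fin.last n) (e.hom ≫ f) inferInstance
    rw [← cancel_epi e.hom, this, MonObj.comp_one]
  intro i
  induction i using Fin.induction with
  | zero =>
    intro g hg
    have : IsIso (Us 0).hom := h0
    have he : toUnit (Us 0) ≫ η[Us 0] = 𝟙 _ := by
      refine Over.OverMorphism.ext ((cancel_mono (Us 0).hom).mp ?_)
      rw [Over.w, Over.w]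
    rw [← Category.id_comp g, ← he, Category.assoc, IsMonHom.one_hom]
    rfl
  | succ i ih =>
    intro g hg
    have h1 : incl i ≫ g = 1 := ih (incl i ≫ g) inferInstance
    have := hqc i.succ
    obtain ⟨_, _, _⟩ := isCover_of_flat_surjective (quot i)
    let g₀ : (Red.Ga (Spec (CommRingCat.of k))).left ⟶ T.left :=
      EffectiveEpi.desc (quot i).left g.left fun {W} a b hab => by
        let W' : Over (Spec (CommRingCat.of k)) := Over.mk (a ≫ (Us i.succ).hom)
        let a' : W' ⟶ Us i.succ := Over.homMk a rfl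
        let b' : W' ⟶ Us i.succ := Over.homMk b (by
          show b ≫ (Us i.succ).hom = a ≫ (Us i.succ).hom
          rw [← Over.w (quot i), reassoc_of% hab])
        have hk : (a' * b'⁻¹) ≫ quot i = toUnit W' ≫ η[Red.Ga (Spec (CommRingCat.of k))] := by
          rw [MonObj.mul_comp a' b'⁻¹ (quot i), GrpObj.inv_comp b' (quot i), show a' ≫ quot i = b' ≫ quot i from Over.OverMorphism.ext hab,
            mul_inv_cancel]
          rfl
        have h2 : (a' * b'⁻¹) ≫ g = 1 := by
          rw [← (hker i).lift_fst _ _ hk, Category.assoc, h1, MonObj.comp_one]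
        rw [MonObj.mul_comp a' b'⁻¹ g, GrpObj.inv_comp b' g, mul_inv_eq_one] at h2
        exact congrArg CommaMorphism.left h2
    have hg₀ : (quot i).left ≫ g₀ = g.left := EffectiveEpi.fac _ _ _
    let gbar : Red.Ga (Spec (CommRingCat.of k)) ⟶ T := Over.homMk g₀ (by
      rw [← cancel_epi (quot i).left, reassoc_of% hg₀, Over.w g, Over.w (quot i)])
    have hgb : quot i ≫ gbar = g := Over.OverMorphism.ext hg₀
    have h3 : η[Red.Ga (Spec (CommRingCat.of k))] ≫ gbar = η[T] := by
      have hq : η[Us i.succ] ≫ quot i = η[Red.Ga (Spec (CommRingCat.of k))] := IsMonHom.one_hom _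
      rw [← hq, Category.assoc, hgb, IsMonHom.one_hom]
    rw [← hgb, line gbar h3, MonObj.comp_one]

end Groth.Agent.S17464
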