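import Groth.Statements.S17482
import Groth.Agent.NumSurf32.Connected

set_option autoImplicit false
universe u
open CategoryTheory CategoryTheory.Limits AlgebraicGeometry
open Surf

namespace Groth.Agent.S17482

/-- Let k be an algebraically closed field of characteristic zero and X a smooth projective surface over
k (an integral scheme of dimension two with all local rings regular, admitting a closed immersion
into some P^n_k over k) such that H^1(X, O_X) = 0. Let D be a nonempty closed subscheme of X, given
by a quasi-coherent ideal sheaf whose associated O_X-module I_D is invertible (a nonzero effective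
divisor). If H^1(X, I_D) = 0, then D is connected. (The published statement is for rational
surfaces; this row assumes only H^1(X, O_X) = 0. Since H^1(X, I_D) depends only on the isomorphism
class of I_D, the same holds for every effective divisor linearly equivalent to D.) -/
theorem result
    (k : Type u) [Field k] [IsAlgClosed k] [CharZero k]
    (X : Scheme.{u}) [X.Over (Spec (CommRingCat.of k))] [AlgebraicGeometry.IsIntegral X]
    (hdim : topologicalKrullDim X = 2) (hreg : ∀ x : X, IsRegularLocalRing (X.presheaf.stalk x))
    (hproj : ∃ (n : ℕ) (ι : X ⟶ CohB1.ProjSpace n k), IsClosedImmersion ι ∧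
      ι ≫ CohB1.ProjSpace.toSpec n k = (X ↘ (Spec (CommRingCat.of k))))
    (hH1 : Subsingleton (Coh.HH X (Coh.structureModule X) 1))
    (D : X.IdealSheafData) (hD : PicF.IsInvertible (ClSub.idealMod D)) (hne : Nonempty ↥D.subscheme)
    (hvan : Subsingleton (Coh.HH X (ClSub.idealMod D) 1)) :
    ConnectedSpace ↥D.subscheme := by
  obtain ⟨n, ι, hι, hιk⟩ := hproj
  haveI := hι
  haveI := Groth.Agent.SurfInt.isProper_of_projective k hι hιk
  have hA := Groth.Agent.NumSurf32.isAmple_hyperplane k ι
  have hE : BlowUp.IsEffCartierIdeal D := (Groth.Agent.S8914.result D).1 hD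
  obtain ⟨x⟩ := hne
  have hDtop : D ≠ ⊤ := fun h => by
    have hx : D.subschemeι x ∈ (D.support : Set X) := by rw [← Scheme.IdealSheafData.range_subschemeι]; exact ⟨x, rfl⟩
    rw [show (D.support : Set X) = ∅ by rw [h, Scheme.IdealSheafData.support_top]; rfl] at hx
    exact hx.elim
  letI : D.subscheme.Over (Spec (CommRingCat.of k)) := ⟨D.subschemeι ≫ (X ↘ Spec (CommRingCat.of k))⟩
  haveI := hvan
  obtain ⟨e⟩ := Groth.Agent.SurfInt.nonempty_HH_push k D.subschemeι rfl
    (Groth.Agent.QCoh.isQCoh_structureModule (X := D.subscheme)) 0
  exact Groth.Agent.CurveBC.connectedSpace_of_h0 k D.subscheme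
    (e.finrank_eq.trans (Groth.Agent.NumSurf32.finrank_h0_quotMod_eq_one k hdim hE hDtop hA))

end Groth.Agent.S17482
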