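import Groth.Statements.S17508
import Groth.Agent.AVIdx.IndexBc

set_option linter.style.haveILetI false
set_option backward.isDefEq.respectTransparency false
set_option backward.isDefEq.respectTransparency.types false

set_option autoImplicit false
universe u
open CategoryTheory CategoryTheory.Limits MonoidalCategory CartesianMonoidalCategory MonObj GrpObj AlgebraicGeometry
open AbVar

namespace Groth.Agent.S17508

open Groth.Agent
open scoped Groth.Agent.H23.PicMul

/-- Let X be an abelian variety over a field k (a proper, geometrically integral k-group scheme) whose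
underlying space has Krull dimension g, let L be an invertible O_X-module with an inverse L' (an
O_X-module with L ⊗ L' ≅ O_X), and let i be a natural number such that H^j(X, L) = 0 for j ≠ i and
H^i(X, L) ≠ 0. Then i ≤ g, H^j(X, L') = 0 for j ≠ g − i and H^{g−i}(X, L') ≠ 0: the index of the
inverse bundle is g − i(L). (Non-degeneracy with index i is expressed by the equivalent condition
that the cohomology is concentrated in degree i and non-zero there.) -/
theorem result
    (k : Type u) [Field k] (X : Over (Spec (CommRingCat.of k))) [GrpObj X] [IsProper X.hom] [GeometricallyIntegral X.hom]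
    (g : ℕ) (hg : topologicalKrullDim ↥X.left = g)
    (L L' : X.left.Modules) (hL : PicF.IsInvertible L)
    (hL' : Nonempty (CohB1.tensorMod L L' ≅ Coh.structureModule X.left)) (i : ℕ)
    (hvan : ∀ j : ℕ, j ≠ i → Subsingleton (Coh.HH X.left L j)) (hne : Nontrivial (Coh.HH X.left L i)) :
    i ≤ g ∧ (∀ j : ℕ, j ≠ g - i → Subsingleton (Coh.HH X.left L' j)) ∧
      Nontrivial (Coh.HH X.left L' (g - i)) := by
  have hcl : PicF.cl L * PicF.cl L' = 1 := by
    rw [← H23.PicMul.cl_tensor, H23.PicMul.cl_eq_iff.2 hL']
    rfl
  obtain ⟨d, ⟨M, rfl, hM⟩, hLM⟩ := AVPair.exists_inv (c := PicF.cl L) ⟨L, rfl, hL⟩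
  obtain ⟨e⟩ := H23.PicMul.cl_eq_iff.1 (left_inv_eq_right_inv (a := PicF.cl L) ((_root_.mul_comm _ _).trans hcl) hLM)
  obtain ⟨hi, hvan', hne'⟩ := AVIdx.index_inverse X hg hL hM hLM i hvan (not_subsingleton_iff_nontrivial.2 hne)
  exact ⟨hi, fun j hj => QCoh.subsingleton_HH_of_iso e.symm j (hvan' j hj),
    not_subsingleton_iff_nontrivial.1 fun h => hne' (QCoh.subsingleton_HH_of_iso e _ h)⟩

end Groth.Agent.S17508
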