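import Groth.Statements.S17510
import Groth.Agent.AVIdx.IndexField

set_option linter.style.haveILetI false
set_option backward.isDefEq.respectTransparency false
set_option backward.isDefEq.respectTransparency.types false

set_option autoImplicit false
universe u
open CategoryTheory CategoryTheory.Limits MonoidalCategory CartesianMonoidalCategory MonObj GrpObj AlgebraicGeometry
open AbVar

namespace Groth.Agent.S17510

open Groth.Agent
open scoped Groth.Agent.H23.PicMul

/-- Let X be an abelian variety over a field k (a proper, geometrically integral k-group scheme), let L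
be an invertible O_X-module with H^j(X, L) = 0 for j ≠ i and H^i(X, L) ≠ 0, H an ample invertible
O_X-module, and M an O_X-module isomorphic to L ⊗ H with H^j(X, M) = 0 for j ≠ i' and H^{i'}(X, M) ≠
0 (so L and L ⊗ H are non-degenerate with indices i and i'). Let Φ be a polynomial with rational
coefficients such that Φ(n) = χ(X, L ⊗ H^{⊗ n}) for every natural number n, and suppose Φ has
exactly one real root τ in the interval [0, 1], with τ ≠ 1. Then i ≤ i' + μ, where μ is the
multiplicity of τ as a root of Φ. (Non-degeneracy with index i is expressed by the equivalent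
condition that the cohomology is concentrated in degree i and non-zero there.) -/
theorem result
    (k : Type u) [Field k] (X : Over (Spec (CommRingCat.of k))) [GrpObj X] [IsProper X.hom] [GeometricallyIntegral X.hom]
    (L H M : X.left.Modules) (hL : PicF.IsInvertible L) (hH : CohB1.IsAmple H)
    (hM : Nonempty (M ≅ CohB1.tensorMod L H)) (i i' : ℕ)
    (hvan : ∀ j : ℕ, j ≠ i → Subsingleton (Coh.HH X.left L j)) (hne : Nontrivial (Coh.HH X.left L i))
    (hvan' : ∀ j : ℕ, j ≠ i' → Subsingleton (Coh.HH X.left M j)) (hne' : Nontrivial (Coh.HH X.left M i'))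
    (Φ : Polynomial ℚ)
    (hΦ : ∀ n : ℕ, Φ.eval (n : ℚ) =
      (@Curv2.euler k _ X.left ⟨X.hom⟩ (CohB1.tensorMod L (CohB1.tensorPow H n)) : ℚ))
    (τ : ℝ) (hτ0 : 0 ≤ τ) (hτ1 : τ < 1) (hτ : (Φ.map (algebraMap ℚ ℝ)).eval τ = 0)
    (huniq : ∀ t : ℝ, 0 ≤ t → t ≤ 1 → (Φ.map (algebraMap ℚ ℝ)).eval t = 0 → t = τ) :
    i ≤ i' + (Φ.map (algebraMap ℚ ℝ)).rootMultiplicity τ := by
  have e := (AVIdx.index_card hL hH 0 (M := L) (by rw [pow_zero, _root_.mul_one]) hvan
    (not_subsingleton_iff_nontrivial.2 hne) Φ hΦ).2
  have e' := (AVIdx.index_card hL hH 1 (M := M) (by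
    rw [pow_one, H23.PicMul.cl_eq_iff.2 hM, H23.PicMul.cl_tensor]) hvan'
    (not_subsingleton_iff_nontrivial.2 hne') Φ hΦ).2
  simp only [Nat.cast_zero, Nat.cast_one] at e e'
  rw [e, e', ← Polynomial.count_roots, Multiset.count_eq_card_filter_eq, ← Multiset.card_add,
    Multiset.filter_add_filter, Multiset.card_add]
  refine le_add_right (Multiset.card_le_card (le_of_eq_of_le (Multiset.filter_eq_self.2 fun r hr => ?_).symm
    (Multiset.filter_le_filter _ (Multiset.filter_le _ _))))
  exact (lt_or_ge 1 r).imp_right fun h => (huniq r (Multiset.mem_filter.1 hr).2.le h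
    (Polynomial.mem_roots'.1 (Multiset.mem_filter.1 hr).1).2).symm

end Groth.Agent.S17510
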