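import Groth.Statements.S17514
import Groth.Agent.AVIdx.GeomLift
import Groth.Agent.Lib.AVMulN

set_option linter.style.haveILetI false
set_option backward.isDefEq.respectTransparency false
set_option backward.isDefEq.respectTransparency.types false

set_option autoImplicit false
universe u
open CategoryTheory CategoryTheory.Limits MonoidalCategory CartesianMonoidalCategory MonObj GrpObj AlgebraicGeometry
open AbVar

namespace Groth.Agent.S17514

open Groth.Agent

/-- Let k be a field with algebraic closure k̄, ℓ a prime number invertible in k, X and Y abelian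
varieties over k (proper, geometrically integral, commutative k-group schemes), f : X → Y an isogeny
(a homomorphism which is finite and surjective) and i : N → X its kernel (the square formed by i, f,
the unit of Y and the structure map of N is cartesian). Let T_ℓ denote the Tate module formed with
k̄-valued points and T_ℓ f : T_ℓ X → T_ℓ Y the induced ℤ_ℓ-linear map. Then T_ℓ f is injective and
its cokernel is isomorphic, as a group, to the ℓ-primary part of the finite group N(k̄) of k̄-valued
points of N (existence of an isomorphism; the published sequence 0 → T_ℓ X → T_ℓ Y → N_ℓ(k_s) → 0 is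
moreover Galois-equivariant with a specific connecting map, and uses points over a separable
closure, which for ℓ-power torsion gives the same groups). -/
theorem result
    (k : Type u) [Field k] (ℓ : ℕ) [Fact ℓ.Prime] (hℓ : (ℓ : k) ≠ 0)
    (X Y : Over (Spec (CommRingCat.of k)))
    [GrpObj X] [IsCommMonObj X] [IsProper X.hom] [GeometricallyIntegral X.hom]
    [GrpObj Y] [IsCommMonObj Y] [IsProper Y.hom] [GeometricallyIntegral Y.hom]
    (f : X ⟶ Y) [IsMonHom f] [IsFinite f.left] [Surjective f.left]
    (N : Over (Spec (CommRingCat.of k))) [GrpObj N] [IsCommMonObj N] (i : N ⟶ X) [IsMonHom i]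
    (hN : AlgGrp.IsKernel i f) :
    Function.Injective (AbDual.tateMapₗ (l := ℓ)
        (T := Over.mk (Spec.map (CommRingCat.ofHom (algebraMap k (AlgebraicClosure k))))) f) ∧
      Nonempty ((AbDual.TateMod Y ℓ (Over.mk (Spec.map (CommRingCat.ofHom (algebraMap k (AlgebraicClosure k))))) ⧸
          LinearMap.range (AbDual.tateMapₗ (l := ℓ)
            (T := Over.mk (Spec.map (CommRingCat.ofHom (algebraMap k (AlgebraicClosure k))))) f)) ≃+
        Additive ↥(CommGroup.primaryComponent
          (Over.mk (Spec.map (CommRingCat.ofHom (algebraMap k (AlgebraicClosure k)))) ⟶ N) ℓ)) := by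
  classical
  let K := AlgebraicClosure k
  let T : Over (Spec (CommRingCat.of k)) := Over.mk (AVIdx.fieldMap (k := k) K)
  let F : Additive (T ⟶ X) →+ Additive (T ⟶ Y) :=
    { toFun := fun x => Additive.ofMul (x.toMul ≫ f)
      map_zero' := congrArg Additive.ofMul (MonObj.one_comp f)
      map_add' := fun a b => congrArg Additive.ofMul (MonObj.mul_comp _ _ f) }
  have hone : η[Y] = (1 : 𝟙_ (Over (Spec (CommRingCat.of k))) ⟶ Y) := by
    rw [Hom.one_def, toUnit_unique (toUnit (𝟙_ _)) (𝟙 _), Category.id_comp]
  haveI : Finite F.ker := by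
    haveI := AVIdx.finite_geom_fibre K f (1 : T ⟶ Y)
    exact Finite.of_injective
      (fun a => (⟨a.1.toMul, congrArg Additive.toMul (AddMonoidHom.mem_ker.1 a.2)⟩ : {x : T ⟶ X // x ≫ f = 1}))
      fun a b h => Subtype.ext (Additive.toMul.injective (congrArg Subtype.val h))
  have hF : Function.Surjective F := fun y => by
    obtain ⟨x, hx⟩ := AVIdx.exists_geom_lift K f y.toMul
    exact ⟨Additive.ofMul x, congrArg Additive.ofMul hx⟩
  have hdiv : ∀ a : Additive (T ⟶ X), ∃ b : Additive (T ⟶ X), ℓ • b = a := by
    intro a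
    haveI := AVMulN.surjective_pow (A := X) ℓ (Fact.out : ℓ.Prime).one_le
    haveI := AVMulN.isFinite_pow (A := X) ℓ (Fact.out : ℓ.Prime).one_le
    obtain ⟨b, hb⟩ := AVIdx.exists_geom_lift K (𝟙 X ^ ℓ : X ⟶ X) a.toMul
    rw [MonObj.comp_pow, Category.comp_id] at hb
    exact ⟨Additive.ofMul b, congrArg Additive.ofMul hb⟩
  -- the kernel as the group of points of `N`
  have hi1 : i ≫ f = 1 := by
    rw [hN.w, hone, MonObj.comp_one]
  have hinj : ∀ a b : T ⟶ N, a ≫ i = b ≫ i → a = b := fun a b h => hN.hom_ext h (toUnit_unique _ _)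
  let E₀ : Additive (T ⟶ N) →+ F.ker :=
    { toFun := fun a => (⟨Additive.ofMul (a.toMul ≫ i), by
        show Additive.ofMul ((a.toMul ≫ i) ≫ f) = Additive.ofMul 1
        rw [Category.assoc, hi1, MonObj.comp_one]⟩ : F.ker)
      map_zero' := Subtype.ext (congrArg Additive.ofMul (MonObj.one_comp i))
      map_add' := fun a b => Subtype.ext (congrArg Additive.ofMul (MonObj.mul_comp _ _ i)) }
  let E : Additive (T ⟶ N) ≃+ F.ker := AddEquiv.ofBijective E₀
    ⟨fun a b h => Additive.toMul.injective (hinj _ _ (congrArg (fun t => Additive.toMul t.1) h)), fun a => by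
      have h : a.1.toMul ≫ f = toUnit T ≫ η[Y] := by
        rw [hone, MonObj.comp_one]
        exact congrArg Additive.toMul (AddMonoidHom.mem_ker.1 a.2)
      refine ⟨Additive.ofMul (hN.lift a.1.toMul (toUnit T) h), Subtype.ext ?_⟩
      exact congrArg Additive.ofMul (hN.lift_fst _ _ h)⟩
  refine ⟨?_, ?_⟩
  · intro x y hxy
    exact AVIdx.TateCoker.seqMap_injective (l := ℓ) F hxy
  obtain ⟨Φ⟩ := AVIdx.TateCoker.nonempty_coker (l := ℓ) F hF hdiv
  let P : AddCommMonoid.primaryComponent F.ker ℓ ≃+
      Additive ↥(CommGroup.primaryComponent (T ⟶ N) ℓ) :=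
    { toFun := fun a => Additive.ofMul ⟨(E.symm a.1).toMul, a.2.elim fun j hj => ⟨j, by
        have h := congrArg E.symm hj
        rw [map_nsmul, map_zero] at h
        exact congrArg Additive.toMul h⟩⟩
      invFun := fun a => ⟨E (Additive.ofMul a.toMul.1), a.toMul.2.elim fun j hj => ⟨j, by
        rw [← map_nsmul, ← map_zero E]
        exact congrArg (fun t => E (Additive.ofMul t)) hj⟩⟩
      left_inv := fun a => Subtype.ext (E.apply_symm_apply _)
      right_inv := fun a => congrArg Additive.ofMul (Subtype.ext (congrArg Additive.toMul (E.symm_apply_apply _)))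
      map_add' := fun a b => congrArg Additive.ofMul (Subtype.ext (congrArg Additive.toMul (map_add E.symm _ _))) }
  exact ⟨Φ.trans P⟩

end Groth.Agent.S17514
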