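import Groth.Statements.S17518
import Groth.Agent.HTop83.FTDescent
import Groth.Agent.HTop83.Noeth

set_option autoImplicit false
set_option backward.isDefEq.respectTransparency false
universe u
open CategoryTheory AlgebraicGeometry
open HTop

namespace Groth.Agent.S17518

/-- Let `f : X' ⟶ X` be a universally submersive morphism of Noetherian schemes (every base change of
`f` is a quotient map of topological spaces) and `g : X ⟶ Y` a morphism to a Noetherian scheme. If
`f ≫ g` is locally of finite type, then `g` is locally of finite type. (Both morphisms are then of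
finite type, their sources being Noetherian.) -/
theorem result
    {X' X Y : Scheme.{u}} [IsNoetherian X'] [IsNoetherian X] [IsNoetherian Y]
    (f : X' ⟶ X) (hf : SGA1.UnivSubmersive f) (g : X ⟶ Y)
    [LocallyOfFiniteType (f ≫ g)] : LocallyOfFiniteType g := by
  have hlift := Groth.Agent.HTop83.hasValLift_of_hasDVRLift.{0} f
    (Groth.Agent.HTop83.hasDVRLift_of_univSubmersive f hf)
  refine (HasRingHomProperty.iff_exists_appLE (P := @LocallyOfFiniteType)
    (RingHom.finiteType_stableUnderComposition.stableUnderCompositionWithLocalizationAway RingHom.finiteType_holdsForLocalizationAway).1).2 fun x => ?_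
  obtain ⟨W, hW, hxW, -⟩ := exists_isAffineOpen_mem_and_subset (show g x ∈ (⊤ : Y.Opens) from trivial)
  obtain ⟨U, hU, hxU, hUW⟩ := exists_isAffineOpen_mem_and_subset (show x ∈ g ⁻¹ᵁ W from hxW)
  refine ⟨⟨W, hW⟩, ⟨U, hU⟩, hxU, hUW, ?_⟩
  letI : Algebra Γ(Y, W) Γ(X, U) := (g.appLE W U hUW).hom.toAlgebra
  haveI : IsNoetherianRing Γ(Y, W) := IsLocallyNoetherian.component_noetherian ⟨W, hW⟩
  haveI : IsNoetherianRing Γ(X, U) := IsLocallyNoetherian.component_noetherian ⟨U, hU⟩
  show Algebra.FiniteType Γ(Y, W) Γ(X, U)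
  haveI : TopologicalSpace.NoetherianSpace X' := inferInstance
  have hc : IsCompact ((f ⁻¹ᵁ U : X'.Opens) : Set X') := TopologicalSpace.NoetherianSpace.isCompact _
  obtain ⟨t, ht⟩ := hc.elim_finite_subcover (fun D : {D : X'.affineOpens // D.1 ≤ f ⁻¹ᵁ U} => (D.1.1 : Set X'))
    (fun D => D.1.1.2) fun z hz => by
      obtain ⟨D, hD, hzD, hle⟩ := exists_isAffineOpen_mem_and_subset (show z ∈ f ⁻¹ᵁ U from hz)
      exact Set.mem_iUnion.2 ⟨⟨⟨D, hD⟩, hle⟩, hzD⟩
  let D : Fin t.card → X'.affineOpens := fun k => (t.equivFin.symm k).1.1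
  have hle : ∀ k, (D k).1 ≤ f ⁻¹ᵁ U := fun k => (t.equivFin.symm k).1.2
  let n := nilradical Γ(X, U)
  letI : ∀ k, Algebra Γ(X, U) Γ(X', (D k).1) := fun k => (f.appLE U (D k).1 (hle k)).hom.toAlgebra
  letI : ∀ k, Algebra Γ(Y, W) Γ(X', (D k).1) := fun k =>
    ((f.appLE U (D k).1 (hle k)).hom.comp (g.appLE W U hUW).hom).toAlgebra
  haveI : ∀ k, IsScalarTower Γ(Y, W) Γ(X, U) Γ(X', (D k).1) := fun k => IsScalarTower.of_algebraMap_eq fun _ => rfl
  have hft : ∀ k, Algebra.FiniteType Γ(Y, W) Γ(X', (D k).1) := fun k => by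
    have h1 := (f ≫ g).finiteType_appLE hW (D k).2 ((hle k).trans (f.preimage_mono hUW))
    show ((f.appLE U (D k).1 (hle k)).hom.comp (g.appLE W U hUW).hom).FiniteType
    rw [← CommRingCat.hom_comp, Scheme.Hom.appLE_comp_appLE]
    exact h1
  let C : Fin t.card → Type u := fun k => Γ(X', (D k).1) ⧸ n.map (algebraMap Γ(X, U) Γ(X', (D k).1))
  letI : ∀ k, Algebra (Γ(X, U) ⧸ n) (C k) := fun k =>
    (Ideal.Quotient.lift n ((Ideal.Quotient.mk _).comp (algebraMap Γ(X, U) Γ(X', (D k).1))) fun a ha =>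
      Ideal.Quotient.eq_zero_iff_mem.2 (Ideal.mem_map_of_mem _ ha)).toAlgebra
  haveI : ∀ k, IsScalarTower Γ(Y, W) (Γ(X, U) ⧸ n) (C k) := fun k => IsScalarTower.of_algebraMap_eq fun _ => rfl
  haveI : ∀ k, Algebra.FiniteType Γ(Y, W) (C k) := fun k => by
    haveI := hft k
    exact Algebra.FiniteType.of_surjective (Ideal.Quotient.mkₐ Γ(Y, W) _) Ideal.Quotient.mk_surjective
  haveI : ∀ k, Algebra.FiniteType Γ(X, U) Γ(X', (D k).1) := fun k => by
    haveI := hft k
    exact .of_restrictScalars_finiteType Γ(Y, W) _ _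
  haveI : _root_.IsReduced (Γ(X, U) ⧸ n) := (Ideal.isRadical_iff_quotient_reduced _).1 (Ideal.radical_isRadical _)
  haveI : Algebra.FiniteType Γ(Y, W) (Γ(X, U) ⧸ n) := by
    refine Groth.Agent.HTop83.finiteType_of_family (A := Γ(Y, W)) C fun V _ _ _ hV α => ?_
    let β : Γ(X, U) →+* V := α.comp (Ideal.Quotient.mk n)
    haveI : IsDomain (CommRingCat.of V) := inferInstanceAs (IsDomain V)
    haveI : ValuationRing (CommRingCat.of V) := inferInstanceAs (ValuationRing V)
    obtain ⟨W', hW', hW'', φ, ⟨hinj, hloc⟩, j, g', hg'⟩ :=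
      hlift (CommRingCat.of V) (Spec.map (CommRingCat.ofHom β) ≫ hU.fromSpec)
    have hg'' : g' ≫ f = Spec.map φ ≫ Spec.map (CommRingCat.ofHom β) ≫ hU.fromSpec := hg'
    have hmem : (show Spec W' ⟶ X' from g') (IsLocalRing.closedPoint W') ∈ f ⁻¹ᵁ U := by
      show f ((show Spec W' ⟶ X' from g') _) ∈ U
      rw [← Scheme.Hom.comp_apply, hg'', ← SetLike.mem_coe, ← hU.range_fromSpec]
      exact ⟨_, rfl⟩
    obtain ⟨D₀, hD₀t, hzD⟩ := Set.mem_iUnion₂.1 (ht hmem)
    have hk : D (t.equivFin ⟨D₀, hD₀t⟩) = D₀.1 := by simp [D]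
    set k := t.equivFin ⟨D₀, hD₀t⟩
    obtain ⟨l, hl⟩ := Groth.Agent.HTopCov.exists_lift_of_closedPoint (D k).2.fromSpec (show Spec W' ⟶ X' from g')
      (by rw [(D k).2.range_fromSpec, hk]; exact hzD)
    obtain ⟨γ, rfl⟩ := Spec.map_surjective l
    have e : Spec.map (f.appLE U (D k).1 (hle k) ≫ γ) = Spec.map (CommRingCat.ofHom β ≫ φ) := by
      rw [← cancel_mono hU.fromSpec, Spec.map_comp, Spec.map_comp, Category.assoc,
        hU.SpecMap_appLE_fromSpec f (D k).2 (hle k), ← Category.assoc, hl, Category.assoc]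
      exact hg''
    haveI := hloc
    obtain ⟨c, hc⟩ := Groth.Agent.HTop83.exists_ringHom_of_ext (C := Γ(X', (D k).1)) hV φ.hom hinj β γ.hom
      (congrArg CommRingCat.Hom.hom (Spec.map_injective e))
    refine ⟨k, Ideal.Quotient.lift _ c fun a ha => ?_, RingHom.ext fun a => ?_⟩
    · have : n.map (algebraMap Γ(X, U) Γ(X', (D k).1)) ≤ RingHom.ker c :=
        Ideal.map_le_iff_le_comap.2 fun b hb => by
          show c (algebraMap _ _ b) = 0
          rw [← RingHom.comp_apply, hc]
          show α (Ideal.Quotient.mk n b) = 0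
          rw [Ideal.Quotient.eq_zero_iff_mem.2 hb, map_zero]
      exact this ha
    · obtain ⟨b, rfl⟩ := Ideal.Quotient.mk_surjective a
      exact RingHom.congr_fun hc b
  exact Groth.Agent.HTop83.finiteType_of_quotient n (IsNoetherian.noetherian n)
    (IsNoetherianRing.isNilpotent_nilradical _)

end Groth.Agent.S17518
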