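import Groth.Statements.S17534
import Groth.Agent.AlgGrpQ.ExactReductive
import Groth.Agent.GrpSchLib.AffineHopf
import Groth.Agent.DescLib.Amitsur
import Mathlib.RingTheory.RingHom.FaithfullyFlat

set_option autoImplicit false
universe u
open CategoryTheory MonoidalCategory CartesianMonoidalCategory AlgebraicGeometry
open HopfRep

namespace Groth.Agent.S17534

open scoped TensorProduct
open WithConv CategoryTheory MonoidalCategory CartesianMonoidalCategory MonObj AlgebraicGeometry
open Groth.Agent.GrpSchLib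

/-- Let `k` be an algebraically closed field, `AG` a commutative Hopf algebra of finite type over `k`
which is linearly reductive (every finite-dimensional comodule semisimple; `G = Spec AG`), `AH` a
commutative Hopf algebra of finite type and `ψ : AG → AH` a surjective bialgebra map, so that `H =
Spec AH → G` is a closed subgroup (assumed a homomorphism of group schemes), and let `q : G ⟶ Q`
present the `k`-scheme `Q` as the fppf quotient `G/H` (`q` surjective, flat and locally of finite
presentation, and the square with the projection and the multiplication `G × H → G` cartesian). If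
`Q` is affine, then `H` is linearly reductive. (The direct direction — `Q` affine whenever `H` is
linearly reductive — holds without hypothesis on `G`; together they form the published equivalence.) -/
theorem result
    (k : Type u) [Field k] [IsAlgClosed k]
    (AG AH : Type u) [CommRing AG] [HopfAlgebra k AG] [Algebra.FiniteType k AG]
    [CommRing AH] [HopfAlgebra k AH] [Algebra.FiniteType k AH]
    (hG : HopfRep.IsLinearlyReductive k AG)
    (ψ : AG →ₐc[k] AH) (hψ : Function.Surjective ψ)
    [IsMonHom (CoactBr.pt (ψ : AG →ₐ[k] AH))]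
    (Q : Over (Spec (CommRingCat.of k))) (q : CoactBr.sp k AG ⟶ Q)
    (hq : RedSub.IsQuotient (CoactBr.pt (ψ : AG →ₐ[k] AH)) q) :
    IsAffine Q.left → HopfRep.IsLinearlyReductive k AH := by
  intro hQ
  obtain ⟨hsurj, hflat, -, hsq⟩ := hq
  let C : CommRingCat.{u} := Γ(Q.left, ⊤)
  letI algC : Algebra k C := ((Scheme.ΓSpecIso (CommRingCat.of k)).inv ≫ Q.hom.appTop).hom.toAlgebra
  let fh : C ⟶ CommRingCat.of AG := q.left.appTop ≫ (Scheme.ΓSpecIso (CommRingCat.of AG)).hom
  let f : C →ₐ[k] AG :=
    { fh.hom with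
      commutes' := fun r => by
        have h : (Scheme.ΓSpecIso (CommRingCat.of k)).inv ≫ Q.hom.appTop ≫ q.left.appTop ≫
            (Scheme.ΓSpecIso (CommRingCat.of AG)).hom = CommRingCat.ofHom (algebraMap k AG) := by
          rw [← Category.assoc Q.hom.appTop, ← Scheme.Hom.comp_appTop, Over.w q]
          show _ ≫ (Spec.map (CommRingCat.ofHom (algebraMap k AG))).appTop ≫ _ = _
          rw [← Category.assoc, ← Scheme.ΓSpecIso_inv_naturality, Category.assoc, Iso.inv_hom_id, Category.comp_id]
        exact ConcreteCategory.congr_hom h r }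
  let e : AffineHopf.sp k C ⟶ Q := Over.homMk Q.left.isoSpec.inv (by
    show Q.left.isoSpec.inv ≫ Q.hom = Spec.map (CommRingCat.ofHom (algebraMap k C))
    rw [← Scheme.isoSpec_inv_naturality, Scheme.isoSpec_Spec_inv, ← Spec.map_comp]
    rfl)
  have he : Mono e := Over.mono_of_mono_left _
  have hqf : AffineHopf.spMap f ≫ e = q := by
    refine Over.OverMorphism.ext ?_
    show Spec.map fh ≫ Q.left.isoSpec.inv = q.left
    rw [Spec.map_comp]
    refine Eq.trans (congrArg (fun r => (r ≫ Spec.map q.left.appTop) ≫ Q.left.isoSpec.inv)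
      (SpecMap_ΓSpecIso_hom (CommRingCat.of AG))) ?_
    show ((Spec (CommRingCat.of AG)).toSpecΓ ≫ Spec.map q.left.appTop) ≫ Q.left.isoSpec.inv = q.left
    rw [← Scheme.toSpecΓ_naturality, Category.assoc, Scheme.toSpecΓ_isoSpec_inv, Category.comp_id]
  letI : Algebra C AG := f.toRingHom.toAlgebra
  haveI : IsScalarTower k C AG := IsScalarTower.of_algebraMap_eq fun c => (f.commutes c).symm
  haveI : Module.FaithfullyFlat C AG := by
    have h : Spec.map (CommRingCat.ofHom f.toRingHom) = q.left ≫ Q.left.isoSpec.hom := by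
      exact (Iso.comp_inv_eq _).mp (congrArg CommaMorphism.left hqf)
    have h1 : Flat (Spec.map (CommRingCat.ofHom f.toRingHom)) :=
      h ▸ (MorphismProperty.cancel_right_of_respectsIso (P := @Flat) q.left Q.left.isoSpec.hom).mpr hflat
    have h2 : Surjective (Spec.map (CommRingCat.ofHom f.toRingHom)) :=
      h ▸ (MorphismProperty.cancel_right_of_respectsIso (P := @Surjective) q.left Q.left.isoSpec.hom).mpr hsurj
    exact RingHom.FaithfullyFlat.iff_flat_and_comap_surjective.mpr
      ⟨(HasRingHomProperty.Spec_iff (P := @Flat)).mp h1, h2.surj⟩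
  have key : ∀ {T : Type u} [CommRing T] [Algebra k T] (x : AG →ₐ[k] T) (y : AG →ₐ[k] T),
      x.comp f = y.comp f → AffineHopf.spMap x ≫ q = AffineHopf.spMap y ≫ q := by
    intro T _ _ x y h
    rw [← hqf, ← Category.assoc, ← Category.assoc, AffineHopf.spMap_comp, AffineHopf.spMap_comp, h]
  have hactP : ∀ {T : Type u} [CommRing T] [Algebra k T] (x : AG →ₐ[k] T) (h : AH →ₐ[k] T),
      lift (AffineHopf.spMap x) (AffineHopf.spMap h) ≫
          (CoactBr.sp k AG ◁ CoactBr.pt (ψ : AG →ₐ[k] AH)) ≫ μ[CoactBr.sp k AG] =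
        AffineHopf.spMap (toConv x * toConv (h.comp (ψ : AG →ₐ[k] AH))).ofConv := by
    intro T _ _ x h
    rw [lift_whiskerLeft_assoc, ← AffineHopf.spMap_mul, ← AffineHopf.spMap_comp, Hom.mul_def]
    rfl
  let L : AG →ₐ[k] AG ⊗[C] AG := (Algebra.TensorProduct.includeLeft : AG →ₐ[C] AG ⊗[C] AG).restrictScalars k
  let R : AG →ₐ[k] AG ⊗[C] AG := (Algebra.TensorProduct.includeRight : AG →ₐ[C] AG ⊗[C] AG).restrictScalars k
  have hLR : R.comp f = L.comp f := AlgHom.ext fun c =>
    ((Algebra.TensorProduct.includeRight : AG →ₐ[C] AG ⊗[C] AG).commutes c).trans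
      ((Algebra.TensorProduct.includeLeft : AG →ₐ[C] AG ⊗[C] AG).commutes c).symm
  obtain ⟨η₀, hη⟩ : ∃ η₀ : AH →ₐ[k] AG ⊗[C] AG, toConv L = toConv R * toConv (η₀.comp (ψ : AG →ₐ[k] AH)) := by
    let z := hsq.lift (AffineHopf.spMap R) (AffineHopf.spMap L) (key R L hLR)
    have hz1 : z ≫ fst _ _ = AffineHopf.spMap R := hsq.lift_fst _ _ _
    obtain ⟨η₀, hη₀⟩ := AffineHopf.exists_eq_spMap (z ≫ snd _ _ : AffineHopf.sp k (AG ⊗[C] AG) ⟶ AffineHopf.sp k AH)
    have hz : z = lift (AffineHopf.spMap R) (AffineHopf.spMap η₀) :=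
      CartesianMonoidalCategory.hom_ext _ _ ((hz1).trans (lift_fst _ _).symm) (hη₀.trans (lift_snd _ _).symm)
    have h : z ≫ (CoactBr.sp k AG ◁ CoactBr.pt (ψ : AG →ₐ[k] AH)) ≫ μ[CoactBr.sp k AG] = AffineHopf.spMap L :=
      hsq.lift_snd _ _ _
    rw [hz, hactP] at h
    exact ⟨η₀, congrArg toConv (AffineHopf.spMap_injective h).symm⟩
  refine Groth.Agent.AlgGrpQ.ExactReductive.isLinearlyReductive_of_galois ψ hψ hG (C := C) ?_ ?_ ?_
  · intro c
    have hw : lift (AffineHopf.spMap (Algebra.TensorProduct.includeLeft : AG →ₐ[k] AG ⊗[k] AH))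
        (AffineHopf.spMap (Algebra.TensorProduct.includeRight : AH →ₐ[k] AG ⊗[k] AH)) ≫ (fst _ _ ≫ q) =
        lift (AffineHopf.spMap (Algebra.TensorProduct.includeLeft : AG →ₐ[k] AG ⊗[k] AH))
        (AffineHopf.spMap (Algebra.TensorProduct.includeRight : AH →ₐ[k] AG ⊗[k] AH)) ≫
          (((CoactBr.sp k AG ◁ CoactBr.pt (ψ : AG →ₐ[k] AH)) ≫ μ[CoactBr.sp k AG]) ≫ q) := by
      rw [hsq.w]
    rw [← Category.assoc, lift_fst, ← Category.assoc, hactP, Groth.Agent.AlgGrpQ.ExactReductive.ρ₁_eq,
      WithConv.ofConv_toConv, ← hqf, ← Category.assoc, ← Category.assoc, cancel_mono, AffineHopf.spMap_comp,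
      AffineHopf.spMap_comp] at hw
    have h := congrArg CommRingCat.Hom.hom (Spec.map_injective (congrArg CommaMorphism.left hw))
    exact (RingHom.congr_fun h c).symm
  · intro a ha
    let m : AG ⊗[k] AH →ₐ[k] AG ⊗[C] AG := Algebra.TensorProduct.lift R η₀ fun _ _ => Commute.all _ _
    have hm : m.comp (Groth.Agent.AlgGrpQ.ExactReductive.ρ₁ ψ) = L := by
      rw [show Groth.Agent.AlgGrpQ.ExactReductive.ρ₁ ψ = (toConv (Algebra.TensorProduct.includeLeft) *
          toConv ((Algebra.TensorProduct.includeRight).comp (ψ : AG →ₐ[k] AH))).ofConv from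
          (congrArg WithConv.ofConv (Groth.Agent.AlgGrpQ.ExactReductive.ρ₁_eq ψ)).symm,
        AlgHom.comp_convMul_distrib]
      refine Eq.trans ?_ (congrArg WithConv.ofConv hη).symm
      congr 2
      · exact congrArg toConv (AlgHom.ext fun x => by simp [m])
      · exact congrArg toConv (AlgHom.ext fun x => by simp [m])
    have h1 : a ⊗ₜ[C] (1 : AG) = (1 : AG) ⊗ₜ[C] a := by
      have h := (AlgHom.congr_fun hm a).symm
      rw [AlgHom.comp_apply, ha] at h
      simpa [m, L, R] using h
    obtain ⟨c, hc⟩ := Groth.Agent.DescLib.mem_range_of_one_tmul_mem (A := AG) (Algebra.linearMap C AG) a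
      ⟨a ⊗ₜ[C] (1 : C), by rw [LinearMap.lTensor_tmul, Algebra.linearMap_apply, map_one]; exact h1⟩
    exact ⟨c, hc⟩
  · intro a ha
    show (toConv (R.comp (HopfAlgebra.antipodeAlgHom k AG)) * toConv L).ofConv a = 0
    rw [hη, ← _root_.mul_assoc, HopfQuot.inv_convMul_self, _root_.one_mul]
    show η₀ (ψ a) = 0
    rw [ha, map_zero]

end Groth.Agent.S17534
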