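import Groth.Statements.S17586
import Groth.Agent.H75.Big

set_option autoImplicit false
open CategoryTheory CategoryTheory.Limits AlgebraicGeometry
open PosLin

namespace Groth.Agent.S17586

/-- Let X be a projective variety over the complex numbers (an integral scheme, proper over ℂ, with an
ample invertible module) of dimension n, and L an invertible O_X-module (the module of a Cartier
divisor D). The following two characterisations of bigness of D are equivalent: (a) for every ample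
invertible O_X-module A there are m > 0 and a monomorphism A → L^⊗m (that is, mD is linearly
equivalent to A plus an effective divisor); (b) there are a constant C > 0 and m₁ such that dim_ℂ
H^0(X, L^⊗m) ≥ C·m^n for all m ≥ m₁. (In the text both are shown equivalent to D having Iitaka
dimension n; this row states their equivalence with each other.) -/
theorem result (X : Scheme.{0}) [X.Over (Spec (CommRingCat.of ℂ))] [IsIntegral X]
    [IsProper (X ↘ Spec (CommRingCat.of ℂ))] (H : X.Modules) (hH : CohB1.IsAmple H)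
    (n : ℕ) (hn : topologicalKrullDim X = n)
    (L : X.Modules) (hL : PicF.IsInvertible L) :
    (∀ A : X.Modules, CohB1.IsAmple A → ∃ (m : ℕ) (φ : A ⟶ CohB1.tensorPow L m), 0 < m ∧ Mono φ) ↔
      ∃ C : ℝ, 0 < C ∧ ∃ m₁ : ℕ, ∀ m : ℕ, m₁ ≤ m →
        C * (m : ℝ) ^ n ≤ (Module.finrank ℂ (Coh.HH X (CohB1.tensorPow L m) 0) : ℝ) := by
  haveI : X.IsSeparated := ⟨by
    rw [Subsingleton.elim (terminal.from X) ((X ↘ Spec (CommRingCat.of ℂ)) ≫ terminal.from _)]
    infer_instance⟩
  haveI : CompactSpace X := QuasiCompact.compactSpace_of_compactSpace (X ↘ Spec (CommRingCat.of ℂ))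
  constructor
  · intro hbig
    obtain ⟨b, m₁, hb, h⟩ := Groth.Agent.H75.exists_growth_of_big ℂ hH hL hn hbig
    refine ⟨1 / (b : ℝ), by positivity, m₁, fun m hm => ?_⟩
    rw [div_mul_eq_mul_div, one_mul, div_le_iff₀ (by exact_mod_cast hb), mul_comm]
    exact_mod_cast h m hm
  · rintro ⟨C, hC, m₁, hg⟩ A hA
    obtain ⟨a, ha⟩ := exists_nat_gt (1 / C)
    have hgr : ∀ μ : ℕ, 1 ≤ μ → μ ^ n ≤ a * Groth.Agent.VanGrowth.h0 ℂ (CohB1.tensorPow L ((m₁ + 1) * μ)) := by
      intro μ hμ
      have h1 := hg ((m₁ + 1) * μ) (by nlinarith)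
      have h2 : (μ : ℝ) ^ n ≤ (((m₁ + 1) * μ : ℕ) : ℝ) ^ n := by
        refine pow_le_pow_left₀ (Nat.cast_nonneg μ) ?_ n
        exact_mod_cast Nat.le_mul_of_pos_left μ (Nat.succ_pos m₁)
      have h3 : C * (μ : ℝ) ^ n ≤ (Module.finrank ℂ (Coh.HH X (CohB1.tensorPow L ((m₁ + 1) * μ)) 0) : ℝ) :=
        (mul_le_mul_of_nonneg_left h2 hC.le).trans h1
      have h4 : (μ : ℝ) ^ n ≤ (a : ℝ) * (Module.finrank ℂ (Coh.HH X (CohB1.tensorPow L ((m₁ + 1) * μ)) 0) : ℝ) := by
        have haC : 1 ≤ (a : ℝ) * C := ((div_lt_iff₀ hC).1 ha).le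
        calc (μ : ℝ) ^ n = 1 * (μ : ℝ) ^ n := (one_mul _).symm
          _ ≤ (a : ℝ) * C * (μ : ℝ) ^ n := mul_le_mul_of_nonneg_right haC (by positivity)
          _ = (a : ℝ) * (C * (μ : ℝ) ^ n) := mul_assoc _ _ _
          _ ≤ _ := mul_le_mul_of_nonneg_left h3 (Nat.cast_nonneg a)
      exact_mod_cast h4
    obtain ⟨ν, B, φ, hν, hB, hφ⟩ := Groth.Agent.VanGrowth.exists_mono_of_growth ℂ hH hL hn
      (Nat.succ_pos m₁) hgr
    haveI := hφ
    exact Groth.Agent.H75.exists_mono_of_dominates hL hB hA.1 hν φ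

end Groth.Agent.S17586
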