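import Groth.Statements.S17587
import Groth.Agent.H75.Sections
import Groth.Agent.AmpleX.Separated

set_option autoImplicit false
open CategoryTheory CategoryTheory.Limits AlgebraicGeometry
open PosLin

namespace Groth.Agent.S17587

/-- Let X be a projective variety over the complex numbers (an integral scheme, proper over ℂ, with an
ample invertible module), and L an invertible O_X-module which is big, bigness being expressed
through the equivalent condition that every ample invertible O_X-module A admits a monomorphism A →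
L^⊗m for some m > 0. Then the exponent of L is 1, that is, H^0(X, L^⊗m) ≠ 0 for every sufficiently
large m. -/
theorem result (X : Scheme.{0}) [X.Over (Spec (CommRingCat.of ℂ))] [IsIntegral X]
    [IsProper (X ↘ Spec (CommRingCat.of ℂ))] (H : X.Modules) (hH : CohB1.IsAmple H)
    (L : X.Modules) (hL : PicF.IsInvertible L)
    (hbig : ∀ A : X.Modules, CohB1.IsAmple A → ∃ (m : ℕ) (φ : A ⟶ CohB1.tensorPow L m), 0 < m ∧ Mono φ) :
    ∃ m₁ : ℕ, ∀ m : ℕ, m₁ ≤ m → Nontrivial (Coh.HH X (CohB1.tensorPow L m) 0) := by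
  haveI : X.IsSeparated := ⟨by
    rw [Subsingleton.elim (terminal.from X) ((X ↘ Spec (CommRingCat.of ℂ)) ≫ terminal.from _)]
    infer_instance⟩
  haveI : CompactSpace X := QuasiCompact.compactSpace_of_compactSpace (X ↘ Spec (CommRingCat.of ℂ))
  obtain ⟨n₁, -, h₁⟩ := Groth.Agent.H75.exists_ne_zero_twist hH
    (Groth.Agent.InvX.isInvertible_structureModule (X := X))
  obtain ⟨n₂, hn₂, h₂⟩ := Groth.Agent.H75.exists_ne_zero_twist hH hL
  let a := n₁ + n₂
  obtain ⟨m, φ, hm, hφ⟩ := hbig (CohB1.tensorPow H a) (Groth.Agent.AmpleX.isAmple_tensorPow hH (by omega))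
  haveI := hφ
  have hs : ∃ s : Coh.structureModule X ⟶ CohB1.tensorPow L m, s ≠ 0 :=
    Groth.Agent.H75.exists_ne_zero_of_mono φ (Groth.Agent.H75.exists_ne_zero_of_cl
      (Groth.Agent.H23.PicMul.cl_eq_iff.2 (Groth.Agent.H23.PicMul.unit _)) (h₁ a (by omega)))
  obtain ⟨ψ, hψ⟩ := Groth.Agent.H75.exists_mono_tensor hL φ
  have hs' : ∃ s : Coh.structureModule X ⟶ CohB1.tensorPow L (m + 1), s ≠ 0 :=
    @Groth.Agent.H75.exists_ne_zero_of_mono _ _ _ ψ hψ (h₂ a (by omega))
  exact ⟨m * (m + 1), fun N hN => Groth.Agent.H75.nontrivial_HH_zero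
    (Groth.Agent.H75.exists_ne_zero_eventually hL hm hs hs' N hN)⟩

end Groth.Agent.S17587
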