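import Groth.Statements.S17588
import Groth.Agent.H75.NefBig

set_option autoImplicit false
open CategoryTheory CategoryTheory.Limits AlgebraicGeometry
open PosLin

namespace Groth.Agent.S17588

/-- Let X be a projective variety over the complex numbers (an integral scheme, proper over ℂ, with an
ample invertible module) of dimension n, L an invertible O_X-module which is numerically effective
(its restriction to every integral one-dimensional closed subscheme has non-negative degree), and
L⁻¹ a tensor inverse of L. Then L is big, bigness being expressed through the equivalent growth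
condition dim_ℂ H^0(X, L^⊗m) ≥ C·m^n for some constant C > 0 and all sufficiently large m, if and
only if the self-intersection number (L^n) = ∫ c_1(L)^n · [O_X] (the alternating sum of Euler
characteristics attached to n copies of L⁻¹) is positive. -/
theorem result (X : Scheme.{0}) [X.Over (Spec (CommRingCat.of ℂ))] [IsIntegral X]
    [IsProper (X ↘ Spec (CommRingCat.of ℂ))] (H : X.Modules) (hH : CohB1.IsAmple H)
    (n : ℕ) (hn : topologicalKrullDim X = n)
    (L Linv : X.Modules) (hL : PicF.IsInvertible L) (hLinv : ClSub.IsInverseOf Linv L)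
    (hnef : ∀ (Z : Scheme.{0}) (i : Z ⟶ X) [IsClosedImmersion i], IsIntegral Z → topologicalKrullDim Z = 1 →
      0 ≤ Pic13.curveDeg ℂ (i ≫ (X ↘ Spec (CommRingCat.of ℂ))) ((Scheme.Modules.pullback i).obj L)) :
    (∃ C : ℝ, 0 < C ∧ ∃ m₁ : ℕ, ∀ m : ℕ, m₁ ≤ m →
        C * (m : ℝ) ^ n ≤ (Module.finrank ℂ (Coh.HH X (CohB1.tensorPow L m) 0) : ℝ)) ↔
      0 < FGA.intNum ℂ X n (fun _ : Fin n => Linv) (Coh.structureModule X) := by
  haveI : X.IsSeparated := ⟨by
    rw [Subsingleton.elim (terminal.from X) ((X ↘ Spec (CommRingCat.of ℂ)) ≫ terminal.from _)]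
    infer_instance⟩
  haveI : CompactSpace X := QuasiCompact.compactSpace_of_compactSpace (X ↘ Spec (CommRingCat.of ℂ))
  have hnef' : NumR.IsNef ℂ X L := fun Y i hi hY hY1 => hnef Y i hY hY1
  rw [Groth.Agent.H75.NefBig.intNum_inverse ℂ hL hLinv hn]
  constructor
  · rintro ⟨C, hC, m₁, hg⟩
    obtain ⟨a, ha⟩ := exists_nat_gt (1 / C)
    have hgr : ∀ μ : ℕ, 1 ≤ μ → μ ^ n ≤ a * Groth.Agent.VanGrowth.h0 ℂ (CohB1.tensorPow L ((m₁ + 1) * μ)) := by
      intro μ hμ
      have h1 := hg ((m₁ + 1) * μ) (by nlinarith)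
      have h2 : (μ : ℝ) ^ n ≤ (((m₁ + 1) * μ : ℕ) : ℝ) ^ n := by
        refine pow_le_pow_left₀ (Nat.cast_nonneg μ) ?_ n
        exact_mod_cast Nat.le_mul_of_pos_left μ (Nat.succ_pos m₁)
      have h3 := (mul_le_mul_of_nonneg_left h2 hC.le).trans h1
      have haC : 1 ≤ (a : ℝ) * C := ((div_lt_iff₀ hC).1 ha).le
      have h4 := (le_mul_of_one_le_left (pow_nonneg (Nat.cast_nonneg μ) n) haC).trans
        ((mul_assoc _ _ _).trans_le (mul_le_mul_of_nonneg_left h3 (Nat.cast_nonneg a)))
      exact_mod_cast h4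
    obtain ⟨ν, B, φ, hν, hB, hφ⟩ := Groth.Agent.VanGrowth.exists_mono_of_growth ℂ hH hL hn
      (Nat.succ_pos m₁) hgr
    haveI := hφ
    exact Groth.Agent.H75.NefBig.mult_pos_of_mono ℂ hL hnef' hB hn φ
  · intro hpos
    obtain ⟨b, m₁, hb, h⟩ := Groth.Agent.H75.exists_growth_of_big ℂ hH hL hn
      (Groth.Agent.H75.NefBig.isBig_of_mult_pos ℂ hL hnef' hH hn hpos)
    refine ⟨1 / (b : ℝ), by positivity, m₁, fun m hm => ?_⟩
    rw [div_mul_eq_mul_div, one_mul, div_le_iff₀ (by exact_mod_cast hb), mul_comm]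
    exact_mod_cast h m hm

end Groth.Agent.S17588
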