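import Groth.Statements.S17591
import Groth.Agent.H75.BasePt

set_option autoImplicit false
open CategoryTheory CategoryTheory.Limits AlgebraicGeometry
open PosLin

namespace Groth.Agent.S17591

/-- Let X be a projective variety over the complex numbers (an integral scheme, proper over ℂ, with an
ample invertible module) which is normal, and L an invertible O_X-module (the module of a Cartier
divisor D) which is numerically effective (non-negative degree on every integral one-dimensional
closed subscheme) and big, bigness being expressed through the equivalent condition that every ample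
invertible O_X-module A admits a monomorphism A → L^⊗m for some m > 0. In the text the remaining
hypothesis is that the section ring R(X, D) = ⊕_m H^0(X, mD) is a finitely generated ℂ-algebra, and
the proof uses it only through its consequence that for a suitable n > 0 with H^0(X, nD) ≠ 0 the
Veronese subring ⊕_k H^0(X, knD) is generated by H^0(X, nD); this row takes that consequence as the
hypothesis: n > 0, H^0(X, L^⊗n) ≠ 0, and for every k ≥ 1 the multiplication map H^0(X, (L^⊗n)^⊗k) ⊗
H^0(X, L^⊗n) → H^0(X, (L^⊗n)^⊗(k+1)) is surjective (written as the map from the global sections of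
the sectionwise tensor product presheaf to those of its sheafification). Then L^⊗n is globally
generated; in particular D is semiample. -/
theorem result (X : Scheme.{0}) [X.Over (Spec (CommRingCat.of ℂ))] [IsIntegral X]
    [IsProper (X ↘ Spec (CommRingCat.of ℂ))] (H : X.Modules) (hH : CohB1.IsAmple H)
    (hXn : Pi1.IsNormalScheme X)
    (L : X.Modules) (hL : PicF.IsInvertible L)
    (hnef : ∀ (Z : Scheme.{0}) (i : Z ⟶ X) [IsClosedImmersion i], IsIntegral Z → topologicalKrullDim Z = 1 →
      0 ≤ Pic13.curveDeg ℂ (i ≫ (X ↘ Spec (CommRingCat.of ℂ))) ((Scheme.Modules.pullback i).obj L))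
    (hbig : ∀ A : X.Modules, CohB1.IsAmple A → ∃ (m : ℕ) (φ : A ⟶ CohB1.tensorPow L m), 0 < m ∧ Mono φ)
    (n : ℕ) (hn : 0 < n) (hsec : Nontrivial (Coh.HH X (CohB1.tensorPow L n) 0))
    (hgen : ∀ k : ℕ, 0 < k → Function.Surjective
      ((toSheafify (Opens.grothendieckTopology X)
        (CohB1.tensorPre (CohB1.tensorPow (CohB1.tensorPow L n) k) (CohB1.tensorPow L n)).presheaf).app
        (Opposite.op ⊤))) :
    Curv2.IsGloballyGenerated (CohB1.tensorPow L n) := by
  obtain ⟨c, φ, hc, hφ⟩ := hbig H hH
  haveI := hφ
  exact Groth.Agent.H75.BasePt.isGloballyGenerated_pow ℂ hH hL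
    (fun Y i hi hY hY1 => hnef Y i hY hY1) hc φ hn hgen

end Groth.Agent.S17591
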