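import Groth.Statements.S17619
import Groth.Agent.AssFiber.Basic
import Mathlib.AlgebraicGeometry.Geometrically.Integral
import Mathlib.RingTheory.Ideal.AssociatedPrime.Finiteness
import Mathlib.RingTheory.Filtration
-- import your own Groth.Agent.* helpers here

set_option autoImplicit false
universe u
open FlatMor
set_option backward.isDefEq.respectTransparency false
set_option linter.style.haveILetI false
set_option maxHeartbeats 1000000

namespace Groth.Agent.S17619

open AlgebraicGeometry CategoryTheory TensorProduct

theorem isDomain_fiber {A B : Type u} [CommRing A] [CommRing B] [Algebra A B]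
    (hfib : FlatCA.GeomIntegralFibres A B) (p : Ideal A) [p.IsPrime] : IsDomain (p.Fiber B) := by
  have h := @GeometricallyIntegral.geometrically_isIntegral _ _ _ hfib
  have hc := (isPullback_SpecMap_of_isPushout _ _ _ _ (CommRingCat.isPushout_tensorProduct A p.ResidueField B)).flip
  haveI : IsIntegral (Spec (CommRingCat.of (p.Fiber B))) :=
    h (K := p.ResidueField) (Spec.map (CommRingCat.ofHom (algebraMap A p.ResidueField))) _ _ hc
  exact (affine_isIntegral_iff (CommRingCat.of (p.Fiber B))).1 inferInstance

/-- An element congruent to one along a section is regular on every base change to a finite module. -/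
theorem injective_mul_rTensor {A B : Type u} [CommRing A] [IsNoetherianRing A] [CommRing B] [Algebra A B]
    [Module.Flat A B] (hfib : FlatCA.GeomIntegralFibres A B) (u : B →ₐ[A] A) (s : B) (hs : u s = 1)
    (M : Type u) [AddCommGroup M] [Module A M] [Module.Finite A M] :
    Function.Injective ((LinearMap.mulLeft A s).rTensor M) := by
  refine IsNoetherianRing.induction_on_isQuotientEquivQuotientPrime A (M := M) inferInstance
    (motive := fun N _ _ _ => Function.Injective ((LinearMap.mulLeft A s).rTensor N)) ?_ ?_ ?_
  · intro N _ _ _ _ x y _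
    exact Subsingleton.elim x y
  · intro N _ _ _ p e
    let p' : Ideal A := p.asIdeal
    haveI : IsDomain (p'.Fiber B) := isDomain_fiber hfib p'
    let κ := p'.ResidueField
    have hu : (Algebra.TensorProduct.includeRight (R := A) (A := κ) s) ≠ 0 := by
      intro h0
      have := congrArg (Algebra.TensorProduct.lift (AlgHom.id A κ) ((IsScalarTower.toAlgHom A A κ).comp u)
        fun _ _ => Commute.all _ _) h0
      simp [hs] at this
    have hj : Function.Injective (Submodule.liftQ p' (Algebra.linearMap A κ)
        (fun a ha => Ideal.algebraMap_residueField_eq_zero.2 ha)) := by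
      rw [← LinearMap.ker_eq_bot, Submodule.ker_liftQ_eq_bot]
      intro a ha
      exact Ideal.algebraMap_residueField_eq_zero.1 ha
    let j : N →ₗ[A] κ := (Submodule.liftQ p' (Algebra.linearMap A κ)
        (fun a ha => Ideal.algebraMap_residueField_eq_zero.2 ha)).comp e.toLinearMap
    have hjN : Function.Injective (j.lTensor B) :=
      Module.Flat.lTensor_preserves_injective_linearMap j (hj.comp e.injective)
    rw [injective_iff_map_eq_zero]
    intro x hx
    refine hjN (((TensorProduct.comm A B κ).injective ?_).trans (map_zero _).symm)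
    rw [map_zero]
    have key : ∀ z : B ⊗[A] κ, TensorProduct.comm A B κ ((LinearMap.mulLeft A s).rTensor κ z) =
        (Algebra.TensorProduct.includeRight (R := A) (A := κ) s) * TensorProduct.comm A B κ z := fun z => by
      induction z with
      | zero => simp
      | tmul b c => simp
      | add z w hz hw => simp [hz, hw, mul_add]
    refine (mul_eq_zero.1 ?_).resolve_left hu
    rw [← key, ← LinearMap.comp_apply, LinearMap.rTensor_comp_lTensor, ← LinearMap.lTensor_comp_rTensor,
      LinearMap.comp_apply, hx, map_zero, map_zero]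
  · intro N₁ _ _ _ N₂ _ _ _ N₃ _ _ _ f g hf hg hfg h₁ h₃
    rw [injective_iff_map_eq_zero]
    intro x hx
    have h3 : g.lTensor B x = 0 := by
      refine h₃ ?_
      rw [← LinearMap.comp_apply, LinearMap.rTensor_comp_lTensor, ← LinearMap.lTensor_comp_rTensor,
        LinearMap.comp_apply, hx, map_zero, map_zero]
    obtain ⟨y, rfl⟩ := (lTensor_exact B hfg hg x).1 h3
    have h1 : f.lTensor B ((LinearMap.mulLeft A s).rTensor N₁ y) = 0 := by
      rw [← hx, ← LinearMap.comp_apply, LinearMap.lTensor_comp_rTensor, ← LinearMap.rTensor_comp_lTensor,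
        LinearMap.comp_apply]
    rw [h₁ (((Module.Flat.lTensor_preserves_injective_linearMap f hf) (h1.trans (map_zero _).symm)).trans
      (map_zero _).symm), map_zero]


/-- Let A be a Noetherian ring and B a smooth A-algebra whose fibres are geometrically integral, and let
u : B → A be an A-algebra retraction with kernel I (the situation reached, after a faithfully flat
base change, in the proof that flat and pure modules are projective). Let B̂ be the I-adic
completion of B, presented as a B-algebra, compatibly an A-algebra, that is I B̂-adically complete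
and for which every truncation B/I^n → B̂/I^n B̂ is bijective. Then the canonical map B → B̂ is
universally injective over A: it remains injective after tensoring over A with any A-module (modules
in the universe of A). -/
theorem result (A : Type u) [CommRing A]
    [IsNoetherianRing A] (B : Type u) [CommRing B] [Algebra A B] [Algebra.Smooth A B]
    (hfib : FlatCA.GeomIntegralFibres A B) (u : B →ₐ[A] A)
    (Bh : Type u) [CommRing Bh] [Algebra B Bh] [Algebra A Bh] [IsScalarTower A B Bh]
    [IsAdicComplete ((RingHom.ker u).map (algebraMap B Bh)) Bh]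
    (hq : ∀ n : ℕ, Function.Bijective (Ideal.quotientMap ((RingHom.ker u ^ n).map (algebraMap B Bh))
      (algebraMap B Bh) Ideal.le_comap_map)) :
    FlatCA.UnivInj A (IsScalarTower.toAlgHom A B Bh).toLinearMap := by
  haveI : IsNoetherianRing B := Algebra.FiniteType.isNoetherianRing A B
  let T := (IsScalarTower.toAlgHom A B Bh).toLinearMap
  intro Q _ _
  rw [injective_iff_map_eq_zero]
  intro z hz
  apply (TensorProduct.comm A Q B).injective
  rw [map_zero]
  obtain ⟨M, hM, hxM⟩ := TensorProduct.exists_finite_submodule_right_of_setFinite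
    {(TensorProduct.comm A Q B z)} (Set.finite_singleton _)
  obtain ⟨x₀, hx₀⟩ := hxM rfl
  rw [← hx₀]
  have hz' : M.subtype.lTensor Bh (T.rTensor M x₀) = 0 := by
    rw [← LinearMap.comp_apply, LinearMap.lTensor_comp_rTensor, ← LinearMap.rTensor_comp_lTensor,
      LinearMap.comp_apply, hx₀, show T.rTensor Q (TensorProduct.comm A Q B z) =
        TensorProduct.comm A Q Bh (T.lTensor Q z) from DFunLike.congr_fun (TensorProduct.ext' (g := T.rTensor Q ∘ₗ (TensorProduct.comm A Q B).toLinearMap) (h := (TensorProduct.comm A Q Bh).toLinearMap ∘ₗ T.lTensor Q) fun a b => rfl) z, hz,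
      map_zero]
  obtain ⟨M', hle, hM', h0⟩ := AssFiber.exists_fg_lTensor_inclusion_eq_zero (R := A) (N := Bh) M (Module.Finite.iff_fg.1 hM) _ hz'
  haveI : Module.Finite A M' := Module.Finite.iff_fg.2 hM'
  rw [← LinearMap.comp_apply, LinearMap.lTensor_comp_rTensor, ← LinearMap.rTensor_comp_lTensor,
    LinearMap.comp_apply] at h0
  suffices hy : (Submodule.inclusion hle).lTensor B x₀ = 0 by
    rw [show M.subtype = M'.subtype ∘ₗ Submodule.inclusion hle from rfl, LinearMap.lTensor_comp,
      LinearMap.comp_apply, hy, map_zero]
  generalize (Submodule.inclusion hle).lTensor B x₀ = y at h0 ⊢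
  let I := RingHom.ker u
  have hpow : ∀ n : ℕ, y ∈ I ^ n • (⊤ : Submodule B (B ⊗[A] M')) := by
    intro n
    let q := (Ideal.Quotient.mkₐ A (I ^ n)).toLinearMap
    let π₁ : B ⧸ I ^ n →ₐ[A] Bh ⧸ (I ^ n).map (algebraMap B Bh) :=
      Ideal.quotientMapₐ _ (IsScalarTower.toAlgHom A B Bh) Ideal.le_comap_map
    let e := LinearEquiv.ofBijective π₁.toLinearMap (hq n)
    let ψ : Bh →ₗ[A] B ⧸ I ^ n :=
      e.symm.toLinearMap ∘ₗ (Ideal.Quotient.mkₐ A ((I ^ n).map (algebraMap B Bh))).toLinearMap
    have hψ : ψ ∘ₗ T = q := LinearMap.ext fun b => e.symm_apply_apply (Ideal.Quotient.mk (I ^ n) b)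
    have hy0 : q.rTensor M' y = 0 := by
      rw [← hψ, LinearMap.rTensor_comp, LinearMap.comp_apply, h0, map_zero]
    have hex : Function.Exact (((I ^ n).restrictScalars A).subtype.rTensor M') (q.rTensor M') :=
      rTensor_exact (M := ↥((I ^ n).restrictScalars A)) M' (fun b => ⟨fun hb => ⟨⟨b, Ideal.Quotient.eq_zero_iff_mem.1 hb⟩, rfl⟩,
        by rintro ⟨⟨b, hb⟩, rfl⟩; exact Ideal.Quotient.eq_zero_iff_mem.2 hb⟩) Ideal.Quotient.mk_surjective
    obtain ⟨w, rfl⟩ := (hex y).1 hy0
    clear hy0 h0
    induction w with
    | zero => simp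
    | tmul a m =>
      have : ((a : B) ⊗ₜ[A] m) = (a : B) • ((1 : B) ⊗ₜ[A] m) := by
        rw [TensorProduct.smul_tmul', smul_eq_mul, mul_one]
      rw [LinearMap.rTensor_tmul, Submodule.subtype_apply, this]
      exact Submodule.smul_mem_smul a.2 Submodule.mem_top
    | add a b ha hb =>
      rw [map_add]
      exact add_mem ha hb
  obtain ⟨r, hr⟩ := (I.mem_iInf_smul_pow_eq_bot_iff y).1 (Submodule.mem_iInf _ |>.2 hpow)
  refine injective_mul_rTensor hfib u (1 - r.1) (by rw [map_sub, map_one, RingHom.mem_ker.1 r.2, sub_zero]) M' ?_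
  rw [map_zero]
  have key : ∀ w : B ⊗[A] M', (LinearMap.mulLeft A (1 - r.1)).rTensor M' w = (1 - r.1) • w := fun w => by
    induction w with
    | zero => simp
    | tmul b m => rw [LinearMap.rTensor_tmul, TensorProduct.smul_tmul', LinearMap.mulLeft_apply, smul_eq_mul]
    | add a b ha hb => simp [ha, hb]
  rw [key]
  exact (sub_smul (1 : B) r.1 y).trans (by rw [hr, one_smul, sub_self])

end Groth.Agent.S17619
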