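import Groth.Statements.S17626
import Groth.Agent.Growth22.Sect
import Groth.Agent.Growth22.Generic
import Groth.Agent.Snapper.DimVanish
import Groth.Agent.AmpleVan.Uniform
-- import your own Groth.Agent.* helpers here

set_option autoImplicit false
universe u
open CategoryTheory CategoryTheory.Limits AlgebraicGeometry
open Variety

namespace Groth.Agent.S17626

set_option linter.style.haveILetI false
set_option linter.unusedSectionVars false
set_option maxHeartbeats 1000000
set_option backward.isDefEq.respectTransparency false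
set_option backward.isDefEq.respectTransparency.types false
open scoped Groth.Agent.H23.PicMul in
/-- Let X be an integral scheme, proper over an algebraically closed field k of characteristic zero and
admitting an ample invertible module, of dimension n ≥ 1 (stated in the source over the complex
numbers), and L an invertible O_X-module which is big, in the sense that its volume ĥ^0(X, L) =
limsup_m dim_k H^0(X, L^{⊗m}) · n!/m^n is positive. Then ĥ^n(X, L) = 0. (The published statement
allows n = 0, where it fails: X is then a point, every L is big and ĥ^0(X, L) = 1; the printed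
argument uses that L and its inverse cannot both be big, which needs n ≥ 1.) -/
theorem result (k : Type u) [Field k] [IsAlgClosed k] [CharZero k] (X : Scheme.{u})
    [X.Over (Spec (CommRingCat.of k))] [AlgebraicGeometry.IsIntegral X]
    [IsProper (X ↘ Spec (CommRingCat.of k))] (hproj : ∃ A : X.Modules, CohB1.IsAmple A)
    (n : ℕ) (hn : topologicalKrullDim X = n) (hn1 : 1 ≤ n)
    (L : X.Modules) (hL : PicF.IsInvertible L) (hbig : 0 < W4c5asymptcohfn.hhat k X n 0 L) :
    W4c5asymptcohfn.hhat k X n n L = 0 := by
  obtain ⟨A, hA⟩ := hproj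
  haveI := CurveCohLib.isNoetherian_of_proper (k := k) (X := X)
  haveI : X.IsSeparated := AmpleVan.isSeparated_of_proper (A := k)
  obtain ⟨A', hA', hinv⟩ := H23.PicInv.exists_inverse hA.1
  have hO := Growth22.isCoh_structure k (X := X)
  have hbig1 : 0 < Filter.limsup (Growth22.nrm 1 n (Growth22.seq k (Coh.structureModule X) L 0)) Filter.atTop := by
    by_contra hle
    push Not at hle
    obtain ⟨C, hC⟩ := Growth22.nrm_abs_le (K := (1 : ℝ))
      (Growth22.seq_growth k hL hO (Growth22.small_top hn.le (Coh.structureModule X)) 0)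
    obtain ⟨C', hC'⟩ := Growth22.nrm_abs_le (K := (n.factorial : ℝ))
      (Growth22.seq_growth k hL hO (Growth22.small_top hn.le (Coh.structureModule X)) 0)
    refine not_le.2 hbig ?_
    rw [Growth22.hhat_eq]
    refine le_of_forall_pos_le_add fun ε hε => ?_
    rw [zero_add]
    refine Filter.limsup_le_of_le (Growth22.bdd_of_abs hC').2.isCoboundedUnder_le ?_
    have hn0 : (0 : ℝ) < n.factorial := by exact_mod_cast n.factorial_pos
    filter_upwards [Filter.eventually_lt_of_limsup_lt (show Filter.limsup (Growth22.nrm 1 n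
      (Growth22.seq k (Coh.structureModule X) L 0)) Filter.atTop < ε / n.factorial from
        lt_of_le_of_lt hle (by positivity)) (Growth22.bdd_of_abs hC).1] with m hm
    rw [lt_div_iff₀ hn0, Growth22.nrm, mul_one, div_mul_eq_mul_div] at hm
    exact hm.le
  obtain ⟨b, hb, hsec⟩ := Growth22.exists_hom_of_limsup_pos k hL hn hA' hbig1
  obtain ⟨s, hs⟩ := Growth22.exists_hom_of_pos k hsec
  let N := CohB1.tensorMod A' (CohB1.tensorPow L b)
  have hN : PicF.IsInvertible N := H23.PicMul.isInvertible_tensor hA' (InvX.isInvertible_tensorPow hL b)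
  have hinv' : PicF.cl A' * PicF.cl A = 1 := (mul_comm _ _).trans (Growth22.cl_mul_eq_one hinv)
  obtain ⟨d₀, hd₀⟩ := AmpleVan.exists_vanishing (A := k) hA hO
  obtain ⟨p, rfl⟩ := Nat.exists_eq_add_of_le hn1
  -- the multiples of `b` have no top cohomology
  have hzero : ∀ j, d₀ ≤ j → Growth22.seq k (Coh.structureModule X) L (1 + p) (b * j) = 0 := fun j hj => by
    obtain ⟨t, ht⟩ := Growth22.tensorPow_section_ne_zero hN hs j
    have ht0 : t ≠ 0 := fun h0 => by
      subst h0
      haveI := ht
      have h1 : 𝟙 (Coh.structureModule X) = (0 : _ ⟶ _) :=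
        (cancel_mono (0 : Coh.structureModule X ⟶ CohB1.tensorPow N j)).1 (by simp)
      exact one_ne_zero (α := Γ(X, ⊤))
        (congrArg (fun φ : Coh.structureModule X ⟶ Coh.structureModule X => φ.app ⊤ (1 : Γ(X, ⊤))) h1)
    have hP := InvX.isInvertible_tensorPow hA.1 j
    obtain ⟨φ, hφ⟩ := Growth22.mono_tensor (InvX.isInvertible_tensorPow hN j) ht0 (CohB1.tensorPow A j) hP
    have hc1 : Coh.IsCoh ((AmpleVan.tw (CohB1.tensorPow A j)).obj (Coh.structureModule X)) :=
      AmpleVan.isCoh_tensor hO (AmpleVan.isCoh_invertible hP)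
    have hc2 : Coh.IsCoh ((AmpleVan.tw (CohB1.tensorPow A j)).obj (CohB1.tensorPow N j)) :=
      AmpleVan.isCoh_tensor (AmpleVan.isCoh_invertible (InvX.isInvertible_tensorPow hN j)) (AmpleVan.isCoh_invertible hP)
    have hS := Growth22.shortExact_image_cokernel φ
    have hle := (Growth22.h_map_le k hc1 hc2 φ (1 + p)).2
    have e1 : Growth22.h k ((AmpleVan.tw (CohB1.tensorPow A j)).obj (Coh.structureModule X)) (1 + p) = 0 := by
      haveI : Subsingleton (Coh.HH X ((AmpleVan.tw (CohB1.tensorPow A j)).obj (Coh.structureModule X)) (1 + p)) := by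
        rw [add_comm]; exact hd₀ j hj p
      exact Module.finrank_zero_of_subsingleton
    have hK0 : ∀ i, Growth22.h k (kernel φ) i = 0 := fun i =>
      Growth22.h_eq_zero_of_isZero k (isZero_kernel_of_mono φ) i
    have hC := QCoh.isCoh_cokernel hc1.1 hc2 φ
    have hCsmall : Growth22.Small (1 + p) (cokernel φ) := by
      obtain ⟨U, hU, e, he⟩ := InvX.exists_frame (InvX.isInvertible_tensorPow hN j) (genericPoint X)
      refine Growth22.small_cokernel_of_mono k hn.le hc1 hc2 φ ?_
      exact Growth22.generic_notMem_cokernel_twist (InvX.isInvertible_tensorPow hN j) hP φ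
    have htop : Subsingleton (Coh.HH X (cokernel φ) (1 + p)) := by
      obtain ⟨C, hC1, hC2⟩ := hCsmall
      exact Snapper.subsingleton_HH_of_dim_lt (1 + p) C hC1 _ hC.1 hC2 _ le_rfl
    have e3 : Growth22.h k (cokernel φ) (1 + p) = 0 := Module.finrank_zero_of_subsingleton
    rw [e1, zero_add] at hle
    have hI := Growth22.isCoh_image hc1 hc2 φ
    have a1 := Growth22.h_X₂_le k hS hI hc2 hC (1 + p)
    have a2 := Growth22.h_X₃_le k (Growth22.shortExact_kernel_image φ) (QCoh.isCoh_kernel hc1 hc2 φ) hc1 hI (1 + p)
    dsimp only at a1 a2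
    rw [e1, hK0, zero_add] at a2
    rw [e3, Nat.eq_zero_of_le_zero a2] at a1
    refine le_antisymm (le_trans (le_of_eq ?_) a1) (Nat.zero_le _)
    refine Growth22.h_congr k (H23.PicMul.cl_eq_iff.1 ?_).some _
    show _ = PicF.cl (CohB1.tensorMod (CohB1.tensorPow N j) (CohB1.tensorPow A j))
    simp only [H23.PicMul.cl_tensor, H23.PicMul.cl_tensorPow, N, pow_mul, ← mul_pow]
    rw [← H23.PicMul.one_def, one_mul, mul_comm (PicF.cl A'), mul_assoc, hinv', mul_one]
  obtain ⟨e, he, hstep⟩ := Growth22.seq_step k hL hO (Growth22.small_top hn.le _) (1 + p)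
  have hu := Growth22.seq_growth k hL hO (Growth22.small_top hn.le _) (1 + p)
  have h1 := Growth22.limsup_nrm_mul (K := ((1 + p).factorial : ℝ)) hb hu he hstep
  have h2 : Filter.limsup (Growth22.nrm ((1 + p).factorial : ℝ) (1 + p)
      (fun m => Growth22.seq k (Coh.structureModule X) L (1 + p) (b * m))) Filter.atTop = 0 :=
    Filter.Tendsto.limsup_eq (tendsto_const_nhds.congr' (by
      filter_upwards [Filter.eventually_ge_atTop d₀] with j hj
      simp [Growth22.nrm, hzero j hj]))
  rw [Growth22.hhat_eq]
  exact (mul_eq_zero.1 (h1.symm.trans h2)).resolve_left (by positivity)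

end Groth.Agent.S17626
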