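import Groth.Statements.S17632
import Groth.Agent.Growth22.Lip
-- import your own Groth.Agent.* helpers here

set_option autoImplicit false
universe u
open CategoryTheory CategoryTheory.Limits AlgebraicGeometry
open Variety

namespace Groth.Agent.S17632

set_option linter.style.haveILetI false
set_option linter.unusedSectionVars false
set_option maxHeartbeats 1000000
set_option backward.isDefEq.respectTransparency false
set_option backward.isDefEq.respectTransparency.types false
open scoped Groth.Agent.H23.PicMul in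
/-- Let X be an integral scheme, proper over an uncountable algebraically closed field k of
characteristic zero and admitting an ample invertible module, of dimension n (stated in the source
over the complex numbers), L an invertible O_X-module and A an ample invertible O_X-module with
inverse A', i.e. A ⊗ A' ≅ O_X. Then for every i ≥ 0, (ĥ^i(X, L^{⊗p} ⊗ A') − ĥ^i(X, L^{⊗p})) / p^n
tends to 0 as p → ∞, where ĥ^i(X, M) = limsup_m dim_k H^i(X, M^{⊗m}) · n!/m^n. -/
theorem result (k : Type u) [Field k] [IsAlgClosed k] [CharZero k] [Uncountable k] (X : Scheme.{u})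
    [X.Over (Spec (CommRingCat.of k))] [AlgebraicGeometry.IsIntegral X]
    [IsProper (X ↘ Spec (CommRingCat.of k))] (hproj : ∃ A : X.Modules, CohB1.IsAmple A)
    (n : ℕ) (hn : topologicalKrullDim X = n)
    (L : X.Modules) (hL : PicF.IsInvertible L) (A A' : X.Modules) (hA : CohB1.IsAmple A)
    (hA' : ClSub.IsInverseOf A A') (i : ℕ) :
    Filter.Tendsto (fun p : ℕ =>
        (W4c5asymptcohfn.hhat k X n i (CohB1.tensorMod (CohB1.tensorPow L p) A') -
          W4c5asymptcohfn.hhat k X n i (CohB1.tensorPow L p)) / (p : ℝ) ^ n)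
      Filter.atTop (nhds 0) := by
  let D : Growth22.Pairs X 2 :=
    { L := ![L, A]
      M := ![(H23.PicInv.exists_inverse hL).choose, A']
      invL := Fin.forall_fin_two.2 ⟨hL, hA.1⟩
      inv := Fin.forall_fin_two.2 ⟨(H23.PicInv.exists_inverse hL).choose_spec.2, hA'⟩ }
  have hp : ∀ p : ℕ, PicF.cl (CohB1.tensorPow L p) = PicF.cl (D.N ![(p : ℤ), 0]) := fun p => by
    rw [H23.PicMul.cl_tensorPow, D.cl_N, Fin.prod_univ_two]
    simp [D, Growth22.Pairs.unit]
  have hq : ∀ p : ℕ, PicF.cl (CohB1.tensorMod (CohB1.tensorPow L p) A') = PicF.cl (D.N ![(p : ℤ), -1]) := fun p => by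
    rw [H23.PicMul.cl_tensor, H23.PicMul.cl_tensorPow, D.cl_N, Fin.prod_univ_two]
    simp [D, Growth22.Pairs.unit]
  have heq : ∀ p : ℕ, W4c5asymptcohfn.hhat k X n i (CohB1.tensorMod (CohB1.tensorPow L p) A') -
      W4c5asymptcohfn.hhat k X n i (CohB1.tensorPow L p) =
      W4c5asymptcohfn.hhat k X n i (D.N ![(p : ℤ), -1]) - W4c5asymptcohfn.hhat k X n i (D.N ![(p : ℤ), 0]) := fun p => by
    rw [Growth22.hhat_congr k (hp p), Growth22.hhat_congr k (hq p)]
  simp only [heq]
  cases n with
  | zero =>
    refine tendsto_const_nhds.congr fun p => ?_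
    rw [Growth22.hhat_const k D hn.le i ![(p : ℤ), -1] ![(p : ℤ), 0]]
    simp
  | succ d =>
    obtain ⟨C, hC0, hC⟩ := Growth22.exists_hhat_lipschitz k D hn.le i
    refine squeeze_zero_norm' (a := fun p : ℕ => C * (4 : ℝ) ^ d / p) ?_ (tendsto_const_div_atTop_nhds_zero_nat _)
    filter_upwards [Filter.eventually_ge_atTop 1] with p hp1
    have hp' : (0 : ℝ) < p := by exact_mod_cast hp1
    have h := hC ![(p : ℤ), -1] ![(p : ℤ), 0]
    have hsz : Growth22.sz (![(p : ℤ), -1] - ![(p : ℤ), 0]) = 1 := by simp [Growth22.sz, Fin.sum_univ_two]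
    have h1 : Growth22.sz ![(p : ℤ), -1] = p + 1 := by simp [Growth22.sz, Fin.sum_univ_two]
    have h2 : Growth22.sz ![(p : ℤ), 0] = p := by simp [Growth22.sz, Fin.sum_univ_two]
    rw [hsz, h1, h2, Nat.cast_one, mul_one, Nat.cast_add, Nat.cast_one] at h
    rw [Real.norm_eq_abs, abs_div, abs_of_pos (pow_pos hp' (d + 1)), div_le_div_iff₀ (pow_pos hp' _) hp']
    have hp1' : (1 : ℝ) ≤ p := by exact_mod_cast hp1
    calc _ ≤ C * (1 + ((p : ℝ) + 1) + p) ^ d * p := mul_le_mul_of_nonneg_right h hp'.le
      _ ≤ C * (4 * p) ^ d * p := by gcongr; linarith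
      _ = _ := by rw [mul_pow, pow_succ]; ring

end Groth.Agent.S17632
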