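import Groth.Statements.S17633
import Groth.Agent.Growth22.Lip
-- import your own Groth.Agent.* helpers here

set_option autoImplicit false
universe u
open CategoryTheory CategoryTheory.Limits AlgebraicGeometry
open Variety

namespace Groth.Agent.S17633

set_option linter.style.haveILetI false
set_option linter.unusedSectionVars false
set_option maxHeartbeats 1000000
set_option backward.isDefEq.respectTransparency false
set_option backward.isDefEq.respectTransparency.types false
open scoped Groth.Agent.H23.PicMul in
/-- Let X be an integral scheme, proper over an uncountable algebraically closed field k of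
characteristic zero and admitting an ample invertible module, of dimension n (the published
statement is over the complex numbers), and let L_1, …, L_r be invertible O_X-modules with inverses
M_1, …, M_r. For a ∈ ℤ^r write L^a = ⊗_j L_j^{a_j} (negative powers taken through the M_j) and ‖a‖ =
max_j |a_j|. Then for every i (the published statement takes 0 ≤ i ≤ n; for i > n both sides vanish)
there is a constant C such that for all a, b ∈ ℤ^r, |ĥ^i(X, L^a) − ĥ^i(X, L^b)| ≤ C · Σ_{q=1}^{n}
max(‖a‖, ‖b‖)^{n−q} · ‖a − b‖^q, where ĥ^i(X, L) = limsup_m dim_k H^i(X, L^{⊗m}) · n!/m^n. (The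
published statement gives this Lipschitz-type estimate for ĥ^i as a function on the rational
Néron–Severi space with any fixed norm, together with its homogeneity of degree n; restricted to the
classes spanned by L_1, …, L_r with the maximum norm on coordinates it reads as here.) -/
theorem result (k : Type u) [Field k] [IsAlgClosed k] [CharZero k] [Uncountable k] (X : Scheme.{u})
    [X.Over (Spec (CommRingCat.of k))] [AlgebraicGeometry.IsIntegral X]
    [IsProper (X ↘ Spec (CommRingCat.of k))] (hproj : ∃ A : X.Modules, CohB1.IsAmple A)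
    (n : ℕ) (hn : topologicalKrullDim X = n)
    (r : ℕ) (L M : Fin r → X.Modules) (hL : ∀ j, PicF.IsInvertible (L j))
    (hM : ∀ j, ClSub.IsInverseOf (L j) (M j)) (i : ℕ) :
    ∃ C : ℝ, ∀ a b : Fin r → ℤ,
      |W4c5asymptcohfn.hhat k X n i (W4c5asymptcohfn.ztwist X L M a) -
          W4c5asymptcohfn.hhat k X n i (W4c5asymptcohfn.ztwist X L M b)| ≤
        C * (Finset.Icc 1 n).sum (fun q =>
          (max ‖(fun j => ((a j : ℤ) : ℝ))‖ ‖(fun j => ((b j : ℤ) : ℝ))‖) ^ (n - q) *
            ‖(fun j => ((a j - b j : ℤ) : ℝ))‖ ^ q) := by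
  let D : Growth22.Pairs X r := ⟨L, M, hL, hM⟩
  show ∃ C : ℝ, ∀ a b : Fin r → ℤ,
      |W4c5asymptcohfn.hhat k X n i (D.N a) - W4c5asymptcohfn.hhat k X n i (D.N b)| ≤ _
  cases n with
  | zero => exact ⟨0, fun a b => by rw [Growth22.hhat_const k D hn.le i a b, sub_self, abs_zero, zero_mul]⟩
  | succ d =>
    obtain ⟨C, hC0, hC⟩ := Growth22.exists_hhat_lipschitz k D hn.le i
    refine ⟨C * (1 + 2 * r : ℝ) ^ d * r, fun a b => ?_⟩
    set A := ‖(fun j => ((a j : ℤ) : ℝ))‖
    set B := ‖(fun j => ((b j : ℤ) : ℝ))‖
    set E := ‖(fun j => ((a j - b j : ℤ) : ℝ))‖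
    have hsum : (max A B) ^ d * E ≤ (Finset.Icc 1 (d + 1)).sum (fun q => (max A B) ^ (d + 1 - q) * E ^ q) := by
      refine le_trans (le_of_eq ?_) (Finset.single_le_sum (f := fun q => (max A B) ^ (d + 1 - q) * E ^ q)
        (fun q _ => by positivity) (Finset.mem_Icc.2 ⟨le_refl 1, by omega⟩))
      rw [Nat.add_sub_cancel, pow_one]
    refine le_trans ?_ (mul_le_mul_of_nonneg_left hsum (by positivity))
    by_cases hab : a = b
    · subst hab
      rw [sub_self, abs_zero]
      positivity
    have hm : 1 ≤ max A B := by
      by_cases ha : a = 0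
      · exact le_max_of_le_right (Growth22.one_le_norm fun hb => hab (ha.trans hb.symm))
      · exact le_max_of_le_left (Growth22.one_le_norm ha)
    have h1 : (Growth22.sz a : ℝ) ≤ r * max A B :=
      (Growth22.sz_le_norm a).trans (mul_le_mul_of_nonneg_left (le_max_left _ _) (Nat.cast_nonneg _))
    have h2 : (Growth22.sz b : ℝ) ≤ r * max A B :=
      (Growth22.sz_le_norm b).trans (mul_le_mul_of_nonneg_left (le_max_right _ _) (Nat.cast_nonneg _))
    have h3 : (Growth22.sz (a - b) : ℝ) ≤ r * E := Growth22.sz_le_norm (a - b)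
    calc _ ≤ C * (1 + Growth22.sz a + Growth22.sz b : ℝ) ^ d * Growth22.sz (a - b) := hC a b
      _ ≤ C * ((1 + 2 * r) * max A B) ^ d * (r * E) := by gcongr; linarith
      _ = _ := by rw [mul_pow]; ring

end Groth.Agent.S17633
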