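import Groth.Statements.S17634
import Groth.Agent.Growth22.Lip
-- import your own Groth.Agent.* helpers here

set_option autoImplicit false
universe u
open CategoryTheory CategoryTheory.Limits AlgebraicGeometry
open Variety

namespace Groth.Agent.S17634

set_option linter.style.haveILetI false
set_option linter.unusedSectionVars false
set_option maxHeartbeats 1000000
set_option backward.isDefEq.respectTransparency false
set_option backward.isDefEq.respectTransparency.types false
open scoped Groth.Agent.H23.PicMul in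
/-- Let X be an integral scheme, proper over an uncountable algebraically closed field k of
characteristic zero and admitting an ample invertible module, of dimension n (stated in the source
over the complex numbers), and L_1, …, L_r invertible O_X-modules with inverses M_1, …, M_r; for a ∈
ℤ^r write L^a = ⊗_j L_j^{a_j} (negative powers through the M_j) and ‖a‖ = max_j |a_j|. Then for
every i there is a constant C with ĥ^i(X, L^a) ≤ C · ‖a‖^n for all a ∈ ℤ^r, where ĥ^i(X, L) =
limsup_m dim_k H^i(X, L^{⊗m}) · n!/m^n. (The source states the bound for all real classes in the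
Néron–Severi space with any fixed norm.) -/
theorem result (k : Type u) [Field k] [IsAlgClosed k] [CharZero k] [Uncountable k] (X : Scheme.{u})
    [X.Over (Spec (CommRingCat.of k))] [AlgebraicGeometry.IsIntegral X]
    [IsProper (X ↘ Spec (CommRingCat.of k))] (hproj : ∃ A : X.Modules, CohB1.IsAmple A)
    (n : ℕ) (hn : topologicalKrullDim X = n)
    (r : ℕ) (L M : Fin r → X.Modules) (hL : ∀ j, PicF.IsInvertible (L j))
    (hM : ∀ j, ClSub.IsInverseOf (L j) (M j)) (i : ℕ) :
    ∃ C : ℝ, ∀ a : Fin r → ℤ,
      W4c5asymptcohfn.hhat k X n i (W4c5asymptcohfn.ztwist X L M a) ≤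
        C * ‖(fun j => ((a j : ℤ) : ℝ))‖ ^ n := by
  let D : Growth22.Pairs X r := ⟨L, M, hL, hM⟩
  show ∃ C : ℝ, ∀ a : Fin r → ℤ, W4c5asymptcohfn.hhat k X n i (D.N a) ≤ C * ‖(fun j => ((a j : ℤ) : ℝ))‖ ^ n
  cases n with
  | zero =>
    exact ⟨W4c5asymptcohfn.hhat k X 0 i (D.N 0), fun a => by
      rw [pow_zero, mul_one, Growth22.hhat_const k D hn.le i a 0]⟩
  | succ d =>
    obtain ⟨C, hC0, hC⟩ := Growth22.exists_hhat_lipschitz k D hn.le i
    have hzero : W4c5asymptcohfn.hhat k X (d + 1) i (D.N 0) = 0 := by
      rw [Growth22.hhat_eq]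
      refine Filter.Tendsto.limsup_eq ?_
      obtain ⟨c, hc⟩ : ∃ c : ℕ, ∀ m, Growth22.seq k (Coh.structureModule X) (D.N 0) i m ≤ c :=
        ⟨_, fun m => (le_of_eq (by rw [Growth22.seq_N, smul_zero]))⟩
      exact Growth22.SmN.tendsto ⟨c, fun m => (hc m).trans (Nat.le_mul_of_pos_right _ (by positivity))⟩
    refine ⟨C * (1 + r : ℝ) ^ d * r, fun a => ?_⟩
    by_cases ha : a = 0
    · subst ha
      rw [hzero]
      positivity
    have h := (abs_le.1 (hC a 0)).2
    rw [hzero, sub_zero, sub_zero] at h
    have h0 : Growth22.sz (0 : Fin r → ℤ) = 0 := by simp [Growth22.sz]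
    have h1 := Growth22.sz_le_norm a
    have h2 := Growth22.one_le_norm ha
    rw [h0, Nat.cast_zero, add_zero] at h
    refine h.trans ?_
    calc C * (1 + (Growth22.sz a : ℝ)) ^ d * Growth22.sz a
        ≤ C * ((1 + r) * ‖(fun j => ((a j : ℤ) : ℝ))‖) ^ d * (r * ‖(fun j => ((a j : ℤ) : ℝ))‖) := by
          gcongr; rw [add_mul, one_mul]; linarith
      _ = _ := by rw [mul_pow, pow_succ]; ring

end Groth.Agent.S17634
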