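import Groth.Statements.S17637
import Groth.Agent.Growth22.NumEmb
import Groth.Agent.Growth22.GenBy
import Groth.Agent.Pic13Lib.ProjNum
import Groth.Agent.Ega2Va.Main
-- import your own Groth.Agent.* helpers here

set_option autoImplicit false
universe u
open CategoryTheory CategoryTheory.Limits AlgebraicGeometry
open Variety

namespace Groth.Agent.S17637

set_option linter.style.haveILetI false
set_option linter.unusedSectionVars false
set_option maxHeartbeats 1000000
set_option backward.isDefEq.respectTransparency false
set_option backward.isDefEq.respectTransparency.types false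
open scoped Groth.Agent.H23.PicMul in
/-- Let X be an integral scheme, proper over an algebraically closed field k of characteristic zero and
admitting an ample invertible module (the published statement is over the complex numbers). Then
there is a very ample invertible O_X-module A — A ≅ i^*O(1) for an immersion i : X → P^N_k over k —
such that A ⊗ N is again very ample for every invertible O_X-module N which is numerically
equivalent to zero. (The published statement also provides one flat family over a quasi-projective
base whose fibres include every divisor of every |A ⊗ N|; that clause is not stated here.) -/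
theorem result (k : Type u) [Field k] [IsAlgClosed k] [CharZero k] (X : Scheme.{u})
    [X.Over (Spec (CommRingCat.of k))] [AlgebraicGeometry.IsIntegral X]
    [IsProper (X ↘ Spec (CommRingCat.of k))] (hproj : ∃ A : X.Modules, CohB1.IsAmple A) :
    ∃ A : X.Modules, PicF.IsInvertible A ∧
      RelAmple.IsRelVeryAmplePn (X ↘ Spec (CommRingCat.of k)) A ∧
      ∀ N : X.Modules, PicF.IsInvertible N → Pic13.IsNumEquivZero k X N →
        RelAmple.IsRelVeryAmplePn (X ↘ Spec (CommRingCat.of k)) (CohB1.tensorMod A N) := by
  haveI := CurveCohLib.isNoetherian_of_proper (k := k) (X := X)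
  obtain ⟨A₀, hA₀⟩ := hproj
  obtain ⟨a', -, hva⟩ := Ega2Va.exists_pow_veryAmple (X ↘ Spec (CommRingCat.of k)) hA₀
  obtain ⟨a, ha, n, j, hj, hjk, hcl⟩ := Growth22.exists_embedding_pow k hA₀
  haveI := hj
  obtain ⟨m, hm⟩ := Pic13Lib.exists_isGloballyGenerated_twist j hjk
  have hA' := InvX.isInvertible_tensorPow hA₀.1 a'
  have hh := Pic13Lib.isInvertible_hyp j m
  let A := CohB1.tensorMod (CohB1.tensorPow A₀ a') (Pic13Lib.hyp j m)
  have key : ∀ N : X.Modules, Pic13Lib.NumTriv k N → ∀ B : X.Modules,
      PicF.cl B = PicF.cl (CohB1.tensorPow A₀ a') * (PicF.cl N * PicF.cl (Pic13Lib.hyp j m)) →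
      RelAmple.IsRelVeryAmplePn (X ↘ Spec (CommRingCat.of k)) B := fun N hN B hB => by
    have hG : PicF.IsInvertible (Pic13.twistOn k j N m) := H23.PicMul.isInvertible_tensor hN.1 hh
    obtain ⟨ι, t, ht⟩ := Growth22.exists_generatedBy_of_isGloballyGenerated hG (hm N hN)
    obtain ⟨r, t', ht'⟩ := Ega2Va.exists_fin_generated hG t ht
    refine Ega2Va.isRelVeryAmplePn_of_iso (H23.PicMul.cl_eq_iff.1 ?_).some
      (Ega2Va.tensor_generated (X ↘ Spec (CommRingCat.of k)) hA' hva hG t' ht')
    rw [H23.PicMul.cl_tensor, Pic13Lib.cl_twistOn, hB]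
  refine ⟨A, H23.PicMul.isInvertible_tensor hA' hh, key (Coh.structureModule X) Pic13Lib.numTriv_structure A ?_,
    fun N hN hN' => key N ⟨hN, hN'⟩ _ ?_⟩
  · rw [← H23.PicMul.one_def, one_mul, H23.PicMul.cl_tensor]
  · rw [H23.PicMul.cl_tensor, H23.PicMul.cl_tensor, mul_assoc, mul_comm (PicF.cl (Pic13Lib.hyp j m))]

end Groth.Agent.S17637
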