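import Groth.Statements.S17653
import Groth.Agent.Growth22.QFDim
import Groth.Agent.H23.TopDim
import Groth.Agent.H23.RedSub
-- import your own Groth.Agent.* helpers here

set_option autoImplicit false
universe u
open CategoryTheory CategoryTheory.Limits AlgebraicGeometry TopologicalSpace
open Variety

namespace Groth.Agent.S17653

set_option linter.style.haveILetI false
set_option linter.unusedSectionVars false
set_option maxHeartbeats 1000000
set_option backward.isDefEq.respectTransparency false
set_option backward.isDefEq.respectTransparency.types false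
/-- Suppose X and Y are locally Noetherian schemes of the same pure dimension d (every irreducible
component of X and every irreducible component of Y has topological Krull dimension d), and π : X →
Y is a proper morphism between them. If there is a point x of X which is isolated in its fibre
π⁻¹(π(x)), i.e. some open neighbourhood of x meets that fibre only in x, then the image of π, with
the subspace topology, has the same dimension as Y. -/
theorem result
    (X Y : Scheme.{u}) [IsLocallyNoetherian X] [IsLocallyNoetherian Y] (π : X ⟶ Y) [IsProper π]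
    (d : WithBot ℕ∞) (hX : ∀ Z ∈ irreducibleComponents ↥X, topologicalKrullDim ↥Z = d)
    (hY : ∀ Z ∈ irreducibleComponents ↥Y, topologicalKrullDim ↥Z = d)
    (x : ↥X) (hx : ∃ U : X.Opens, x ∈ U ∧ ∀ x' ∈ U, π x' = π x → x' = x) :
    topologicalKrullDim ↥(Set.range (fun z : ↥X => π z)) = topologicalKrullDim ↥Y := by
  obtain ⟨O, hxO, hO⟩ := hx
  -- `π` is quasi-finite at `x`
  have hqf : π.QuasiFiniteAt x := by
    rw [Scheme.Hom.quasiFiniteAt_iff_isOpen_singleton_asFiber, ← (π.fiberHomeo (π x)).isOpen_image]
    simp only [Set.image_singleton, Scheme.Hom.asFiber, Homeomorph.apply_symm_apply]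
    refine ⟨O, O.2, ?_⟩
    ext ⟨a, ha⟩
    refine ⟨fun hm => Subtype.ext (hO a hm ha), fun hm => ?_⟩
    have h' : a = x := congrArg Subtype.val hm
    show a ∈ O
    rw [h']
    exact hxO
  -- the component of `x`, with its reduced structure
  let T := irreducibleComponent x
  have hT : T ∈ irreducibleComponents ↥X := irreducibleComponent_mem_irreducibleComponents x
  let I : X.IdealSheafData :=
    Scheme.IdealSheafData.vanishingIdeal (⟨T, isClosed_irreducibleComponent⟩ : TopologicalSpace.Closeds X)
  let i := I.subschemeι
  have hran : Set.range i = T := I.range_subschemeι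
  haveI : IrreducibleSpace I.subscheme := by
    have hT' : IsIrreducible (Set.range i) := hran ▸ isIrreducible_irreducibleComponent
    haveI : IrreducibleSpace ↥(Set.range i) := Subtype.irreducibleSpace hT'
    exact i.isClosedEmbedding.isEmbedding.toHomeomorph.symm.surjective.irreducibleSpace
      i.isClosedEmbedding.isEmbedding.toHomeomorph.symm.continuous
  haveI : AlgebraicGeometry.IsReduced I.subscheme := Groth.Agent.H23.RedSub.isReduced_vanishingIdeal _
  haveI : AlgebraicGeometry.IsIntegral I.subscheme := isIntegral_of_irreducibleSpace_of_isReduced _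
  have hdim : topologicalKrullDim ↥I.subscheme = d := by
    rw [IsHomeomorph.topologicalKrullDim_eq _
      (i.isClosedEmbedding.isEmbedding.toHomeomorph.trans (Homeomorph.setCongr hran)).isHomeomorph]
    exact hX T hT
  let g := i ≫ π
  have hgen : g.QuasiFiniteAt (genericPoint ↥I.subscheme) := by
    have h1 : i (genericPoint ↥I.subscheme) ∈ π.quasiFiniteLocus := by
      obtain ⟨z, hz⟩ : x ∈ Set.range i := hran ▸ mem_irreducibleComponent
      exact ((genericPoint_specializes z).map i.continuous).mem_open π.quasiFiniteLocus.2
        (show i z ∈ π.quasiFiniteLocus by rw [hz]; exact hqf)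
    show (g.stalkMap _).hom.QuasiFinite
    rw [Scheme.Hom.stalkMap_comp]
    exact (Scheme.Hom.quasiFiniteAt i _).comp h1
  refine le_antisymm (π.isClosedMap.isClosed_range.isClosedEmbedding_subtypeVal.topologicalKrullDim_le) ?_
  have hY' : topologicalKrullDim ↥Y ≤ d := by
    rw [Groth.Agent.H23.TopDim.dim_eq_iSup_irreducibleComponents]
    exact iSup₂_le fun Z hZ => (hY Z hZ).le
  refine hY'.trans ?_
  -- the image, as a scheme
  let J : Y.IdealSheafData := Scheme.IdealSheafData.vanishingIdeal
    (⟨Set.range π, π.isClosedMap.isClosed_range⟩ : TopologicalSpace.Closeds Y)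
  have hranJ : Set.range J.subschemeι = Set.range π := J.range_subschemeι
  obtain ⟨g', hg'⟩ : ∃ g' : I.subscheme ⟶ J.subscheme, g' ≫ J.subschemeι = g := by
    refine Groth.Agent.H23.RedSub.exists_lift_closed g J.subschemeι ?_
    rw [hranJ]
    rintro y ⟨w, rfl⟩
    exact ⟨i w, rfl⟩
  haveI : LocallyOfFiniteType g' := by
    have : LocallyOfFiniteType (g' ≫ J.subschemeι) := by rw [hg']; infer_instance
    exact locallyOfFiniteType_of_comp g' J.subschemeι
  have hg'q : g'.QuasiFiniteAt (genericPoint ↥I.subscheme) := by
    rw [← Scheme.Hom.quasiFiniteAt_comp_iff (g := J.subschemeι), hg']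
    exact hgen
  haveI : IsLocallyNoetherian J.subscheme := LocallyOfFiniteType.isLocallyNoetherian J.subschemeι
  rw [← hdim]
  refine (Groth.Agent.Growth22.QFDim.dim_le g' hg'q).trans (le_of_eq ?_)
  exact IsHomeomorph.topologicalKrullDim_eq _
    (J.subschemeι.isClosedEmbedding.isEmbedding.toHomeomorph.trans (Homeomorph.setCongr hranJ)).isHomeomorph

end Groth.Agent.S17653
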