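import Groth.Statements.S17655
import Groth.Agent.LS17.CurveH1

set_option autoImplicit false
universe u
open CategoryTheory CategoryTheory.Limits AlgebraicGeometry TopologicalSpace
attribute [local instance] HasDerivedCategory.standard
open Curves

namespace Groth.Agent.S17655

/-- Let k be an algebraically closed field and B a connected scheme, proper over k, of dimension one,
with at-worst-nodal singularities and H^1(B, O_B) = 0, and let ω_B be its dualizing module over k
(the cohomology sheaf in degree −1 of the upper-shriek pull-back of O_{Spec k}; the existence of the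
upper-shriek functor is assumed). Call a finite locally free O_B-module deformation ample when it is
generated by global sections and H^1(B, E ⊗ ω_B) = 0. If φ : E₁ → E₂ is a morphism of finite locally
free O_B-modules whose cokernel is a torsion module (every point of its support is closed) and E₁ is
deformation ample, then E₂ is deformation ample. (The source states this for a family of prestable
genus-zero curves over an arbitrary base T, with relative global generation and R^1 of the direct
image in place of global generation and H^1; this is the case T = Spec k of a field base, the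
general case needing relative duality not available here. The source also assumes the sheaves
nonzero (positive rank), which the conclusion does not need.) -/
theorem result (k : Type u) [Field k] [IsAlgClosed k]
    (B : Scheme.{u}) [B.Over (Spec (CommRingCat.of k))] [IsProper (B ↘ Spec (CommRingCat.of k))]
    [ConnectedSpace ↥B] (hdim : topologicalKrullDim ↥B = 1) (hnod : Curv2.AtWorstNodal k B)
    (hg : Subsingleton (Coh.HH B (Coh.structureModule B) 1))
    [DCoh.HasRpush (B ↘ Spec (CommRingCat.of k))] (h : DCoh.RpushPreservesQCoh (B ↘ Spec (CommRingCat.of k))) [DCoh.HasShriek (B ↘ Spec (CommRingCat.of k)) h]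
    (OY : DCoh.DQCoh (Spec (CommRingCat.of k))) (hOY : Nonempty (OY.obj ≅ DCoh.inD (Spec (CommRingCat.of k)) (Coh.structureModule (Spec (CommRingCat.of k)))))
    (E₁ E₂ : B.Modules) (hE₁ : FlatMod.IsFinLocFree E₁) (hE₂ : FlatMod.IsFinLocFree E₂) (φ : E₁ ⟶ E₂)
    (htors : ∀ x ∈ CohB1.support (cokernel φ), IsClosed ({x} : Set ↥B))
    (h₁ : (Curv2.IsGloballyGenerated E₁ ∧ Subsingleton (Coh.HH B (CohB1.tensorMod E₁ (DCoh.dualizingMod (B ↘ Spec (CommRingCat.of k)) h OY 1)) 1))) :
    (Curv2.IsGloballyGenerated E₂ ∧ Subsingleton (Coh.HH B (CohB1.tensorMod E₂ (DCoh.dualizingMod (B ↘ Spec (CommRingCat.of k)) h OY 1)) 1)) := by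
  haveI := CurveCohLib.isNoetherian_of_proper (k := k) (X := B)
  let G := DCoh.tensorBi.flip.obj (DCoh.dualizingMod (B ↘ Spec (CommRingCat.of k)) h OY 1)
  let S := ShortComplex.mk φ (cokernel.π φ) (cokernel.condition φ)
  have hS : S.Exact := ShortComplex.exact_cokernel φ
  haveI : Epi S.g := (inferInstance : Epi (cokernel.π φ))
  have hc₁ := CurveDeg.isCoh_of_isFinLocFree hE₁
  have hc : Coh.IsCoh (cokernel φ) := QCoh.isCoh_cokernel hc₁.1 (CurveDeg.isCoh_of_isFinLocFree hE₂) φ
  refine ⟨LS17.CurveH1.gg_middle k hdim.le hg hS hc₁ h₁.1
    (Euler.good_of_support hc fun x hx => (htors x hx).closure_eq).2, ?_⟩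
  have hex : (S.map G).Exact := hS.map_of_epi_of_preservesCokernel G inferInstance inferInstance
  haveI : Epi (S.map G).g := (inferInstance : Epi (G.map S.g))
  refine LS17.CurveH1.subsingleton_H1_middle k hdim.le hex h₁.2 ?_
  have hfin := CurveCohLib.finite_of_closedPoints (QCoh.isClosed_support_of_isFT hc.1 hc.2) htors
  refine CurveVanish.subsingleton_HH_of_finite hfin htors (fun x hx => ?_) 0
  haveI : Subsingleton ((DerSch.stalkFunctor B x).obj (cokernel φ)) :=
    (not_not.1 hx : Subsingleton ((cokernel φ).presheaf.stalk x))
  refine @Equiv.subsingleton _ _ (KFlatLib.stalkTensorIso x (cokernel φ)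
    (DCoh.dualizingMod (B ↘ Spec (CommRingCat.of k)) h OY 1)).symm.toLinearEquiv.toEquiv
      (subsingleton_of_forall_eq 0 fun t => ?_)
  induction t using TensorProduct.induction_on with
  | zero => rfl
  | tmul a b => rw [Subsingleton.elim a 0, TensorProduct.zero_tmul]
  | add a b ha hb => rw [ha, hb, add_zero]

end Groth.Agent.S17655
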