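import Groth.Statements.S17690
import Groth.Agent.S2654
import Groth.Agent.N12Aux.Nagata
import Mathlib.RingTheory.DedekindDomain.PID

set_option autoImplicit false
universe u
open Neron

namespace Groth.Agent.S17690

/-- Let R be an excellent discrete valuation ring (Noetherian, universally catenary, G-ring, J-2) with
fraction field K, and let L be a finite purely inseparable field extension of K. Then the integral
closure S of R in L is a discrete valuation ring, and S is a finite R-module. -/
theorem result
    (R K L : Type u) [CommRing R] [IsDomain R] [IsDiscreteValuationRing R] (hR : EGA4.IsExcellent R)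
    [Field K] [Algebra R K] [IsFractionRing R K] [Field L] [Algebra K L] [FiniteDimensional K L]
    [IsPurelyInseparable K L] [Algebra R L] [IsScalarTower R K L] :
    IsDiscreteValuationRing ↥(integralClosure R L) ∧ Module.Finite R ↥(integralClosure R L) := by
  have hN : CAlg.IsN2 R :=
    N12Aux.isN2_of_isNagata (S2654.result R ⟨hR.1, hR.2.2.1, hR.2.2.2⟩)
  let F := FractionRing R
  let eF : F ≃ₐ[R] K := IsLocalization.algEquiv (nonZeroDivisors R) F K
  letI : Algebra F K := eF.toAlgHom.toAlgebra
  haveI : Module.Finite F K := Module.Finite.of_surjective (Algebra.linearMap F K) eF.surjective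
  letI : Algebra F L := ((algebraMap K L).comp (algebraMap F K)).toAlgebra
  haveI : IsScalarTower F K L := IsScalarTower.of_algebraMap_eq fun _ => rfl
  haveI : IsScalarTower R F L := IsScalarTower.of_algebraMap_eq fun r => by
    rw [IsScalarTower.algebraMap_apply R K L]
    exact congrArg (algebraMap K L) (eF.commutes r).symm
  haveI : FiniteDimensional F L := Module.Finite.trans K L
  haveI hfin : Module.Finite R ↥(integralClosure R L) := hN L inferInstance
  refine ⟨?_, hfin⟩
  let S := ↥(integralClosure R L)
  haveI : Algebra.IsAlgebraic R K := IsLocalization.isAlgebraic K (nonZeroDivisors R)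
  haveI : Algebra.IsAlgebraic R L := Algebra.IsAlgebraic.trans R K L
  haveI : IsIntegralClosure S R L := integralClosure.isIntegralClosure R L
  haveI : IsFractionRing S L := integralClosure.isFractionRing_of_finite_extension K L
  haveI : IsNoetherianRing S := IsNoetherianRing.of_finite R S
  haveI : Algebra.IsIntegral R S := Algebra.IsIntegral.of_finite R S
  haveI : Ring.DimensionLEOne S := Ring.DimensionLEOne.integralClosure R L
  haveI : IsIntegrallyClosed S := integralClosure.isIntegrallyClosedOfFiniteExtension K
  haveI : IsDedekindDomain S := { }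
  obtain ⟨q, hq⟩ := ExpChar.exists K
  haveI := hq
  have hpow : ∀ s : S, ∃ (n : ℕ) (r : R), algebraMap R S r = s ^ q ^ n := fun s => by
    obtain ⟨n, y, hy⟩ := IsPurelyInseparable.pow_mem K q (s : L)
    have hint : IsIntegral R y := by
      refine (isIntegral_algHom_iff (IsScalarTower.toAlgHom R K L) (algebraMap K L).injective).mp ?_
      change IsIntegral R (algebraMap K L y)
      rw [hy]
      exact (s.2 : IsIntegral R (s : L)).pow _
    obtain ⟨r, rfl⟩ := IsIntegrallyClosed.isIntegral_iff.mp hint
    refine ⟨n, r, Subtype.ext ?_⟩
    rw [SubmonoidClass.coe_pow, ← hy, ← IsScalarTower.algebraMap_apply]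
    rfl
  have huniq : ∀ P Q : Ideal S, P.IsMaximal → Q.IsMaximal → P = Q := by
    intro P Q hP hQ
    refine hP.eq_of_le hQ.ne_top fun s hs => ?_
    obtain ⟨n, r, hr⟩ := hpow s
    have h1 : (P.comap (algebraMap R S)) = Q.comap (algebraMap R S) :=
      (IsLocalRing.eq_maximalIdeal (Ideal.isMaximal_comap_of_isIntegral_of_isMaximal P)).trans
        (IsLocalRing.eq_maximalIdeal (Ideal.isMaximal_comap_of_isIntegral_of_isMaximal Q)).symm
    have h2 : r ∈ P.comap (algebraMap R S) := by
      rw [Ideal.mem_comap, hr]
      exact P.pow_mem_of_mem hs _ (pow_pos (expChar_pos K q) _)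
    rw [h1, Ideal.mem_comap, hr] at h2
    exact hQ.isPrime.mem_of_pow_mem _ h2
  haveI : IsLocalRing S := IsLocalRing.of_unique_max_ideal <| by
    obtain ⟨M, hM⟩ := Ideal.exists_maximal S
    exact ⟨M, hM, fun P hP => huniq P M hP hM⟩
  haveI : IsPrincipalIdealRing S := IsPrincipalIdealRing.of_finite_maximals
    (Set.Subsingleton.finite fun P hP Q hQ => huniq P Q hP hQ)
  have hnf : IsLocalRing.maximalIdeal S ≠ ⊥ := by
    intro h
    apply IsDiscreteValuationRing.not_a_field R
    rw [← IsLocalRing.eq_maximalIdeal (Ideal.isMaximal_comap_of_isIntegral_of_isMaximal (R := R) (IsLocalRing.maximalIdeal S)), h]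
    exact (RingHom.injective_iff_ker_eq_bot (algebraMap R S)).1 fun a b hab => IsFractionRing.injective R K ((algebraMap K L).injective (by rw [← IsScalarTower.algebraMap_apply, ← IsScalarTower.algebraMap_apply]; exact congrArg Subtype.val hab))
  exact { not_a_field' := hnf }

end Groth.Agent.S17690
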