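import Groth.Statements.S17692
import Groth.Agent.H84WeilRes.Chart
-- import your own Groth.Agent.* helpers here

set_option autoImplicit false
universe u
open CategoryTheory CategoryTheory.Limits AlgebraicGeometry
open WeilRes

namespace Groth.Agent.S17692

/-- Suppose f : S' → S is a finite, locally free morphism of schemes (i.e. finite, flat and locally of
finite presentation) that is also a universal homeomorphism, and let X' be an arbitrary scheme over
S' (no condition on finite sets of points lying in a common affine open). Then the Weil restriction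
of X' along f is representable by an S-scheme: there exist an S-scheme R and an S'-morphism q from
the base change R ×_S S' to X' such that, for every S-scheme T, sending an S-morphism g : T → R to
(g ×_S S') followed by q is a bijection onto the S'-morphisms T ×_S S' → X'. (The published
statement writes X' as a scheme over S; the proof treats an S'-scheme, as here.) -/
theorem result
    {S S' : Scheme.{u}} (f : S' ⟶ S) [IsFinite f] [Flat f] [LocallyOfFinitePresentation f]
    (hf : FlatMor.IsUnivHomeo f) (X' : Over S') :
    ∃ (R : Over S) (q : Red.bc f R ⟶ X'), WeilRes.IsWeilRes f X' R q := by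
  have hsurj : Surjective f := ⟨(hf (𝟙 S') (𝟙 S) f (IsPullback.of_vert_isIso ⟨by simp⟩)).surjective⟩
  refine Groth.Agent.H84WeilRes.exists_isWeilRes_of_cover fun T h t => ?_
  have hfst : IsHomeomorph (pullback.fst T.hom f) :=
    hf (pullback.snd T.hom f) T.hom (pullback.fst T.hom f) (IsPullback.of_hasPullback T.hom f)
  obtain ⟨z, hz⟩ := hfst.surjective t
  obtain ⟨V, hV, hzV, -⟩ := exists_isAffineOpen_mem_and_subset (U := ⊤)
    (TopologicalSpace.Opens.mem_top ((X'.hom ≫ f) (h.left z)))
  obtain ⟨U, hU, hzU, hUV⟩ := exists_isAffineOpen_mem_and_subset (U := (X'.hom ≫ f) ⁻¹ᵁ V) hzV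
  refine ⟨⟨U, Groth.Agent.H84WeilRes.mem_idx hU hV hUV⟩, Groth.Agent.H84WeilRes.mem_locus.2 fun z' hz' => ?_⟩
  rw [hfst.injective (hz'.trans hz.symm)]
  exact hzU

end Groth.Agent.S17692
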