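import Groth.Statements.S17693
import Groth.Agent.H84GrpAffine.Basic
import Groth.Agent.H84WeilRes.Chart
import Mathlib.RingTheory.Artinian.Module

set_option autoImplicit false
universe u
open CategoryTheory CategoryTheory.Limits AlgebraicGeometry
open WeilRes

set_option backward.isDefEq.respectTransparency.types false

namespace Groth.Agent.S17693

/-- Let k be a field, A a finite k-algebra and G a group scheme of finite type over Spec A, not
necessarily smooth. Then the Weil restriction of G along Spec A → Spec k is representable: there
exist a k-scheme R and an A-morphism q : R ×_k Spec A → G such that for every k-scheme T the map g ↦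
(g ×_k Spec A) ≫ q is a bijection from k-morphisms T → R onto A-morphisms T ×_k Spec A → G. (The
published statement adds that the representing k-group scheme is quasi-projective; only
representability is stated here.) -/
theorem result
    (k A : Type u) [Field k] [CommRing A] [Algebra k A] [Module.Finite k A]
    (G : Over (Spec (CommRingCat.of A))) [GrpObj G] [LocallyOfFiniteType G.hom] [QuasiCompact G.hom] :
    ∃ (R : Over (Spec (CommRingCat.of k)))
      (q : Red.bc (Spec.map (CommRingCat.ofHom (algebraMap k A))) R ⟶ G),
      WeilRes.IsWeilRes (Spec.map (CommRingCat.ofHom (algebraMap k A))) G R q := by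
  rcases subsingleton_or_nontrivial A with hA | hA
  · haveI : IsEmpty ↥(Spec (CommRingCat.of A)) := inferInstanceAs (IsEmpty (PrimeSpectrum A))
    haveI he : ∀ T : Over (Spec (CommRingCat.of k)), IsEmpty ↥(Red.bc (Spec.map (CommRingCat.ofHom (algebraMap k A))) T).left :=
      fun T => Function.isEmpty (Red.bc (Spec.map (CommRingCat.ofHom (algebraMap k A))) T).hom
    let R : Over (Spec (CommRingCat.of k)) := Over.mk (𝟙 _)
    refine ⟨R, Over.homMk (isInitialOfIsEmpty.to G.left) (isInitialOfIsEmpty.hom_ext _ _), fun T => ⟨fun a b _ => ?_, fun h => ?_⟩⟩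
    · refine Over.OverMorphism.ext ?_
      have ha := Over.w a
      have hb := Over.w b
      simp only [R, Over.mk_hom] at ha hb
      exact (Category.comp_id _).symm.trans (ha.trans (hb.symm.trans (Category.comp_id _)))
    · exact ⟨Over.homMk T.hom (Category.comp_id _), Over.OverMorphism.ext (isInitialOfIsEmpty.hom_ext _ _)⟩
  haveI : IsArtinianRing A := IsArtinianRing.of_finite k A
  let f := Spec.map (CommRingCat.ofHom (algebraMap k A))
  haveI : IsFinite f := (IsFinite.SpecMap_iff _).mpr (RingHom.finite_algebraMap.2 inferInstance)
  haveI : Surjective f := by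
    obtain ⟨m, hm⟩ := Ideal.exists_maximal A
    exact ⟨fun x => ⟨(⟨m, hm.isPrime⟩ : PrimeSpectrum A), Subsingleton.elim (α := PrimeSpectrum k) _ _⟩⟩
  haveI : Flat f := inferInstance
  haveI : LocallyOfFinitePresentation f := inferInstance
  refine Groth.Agent.H84WeilRes.exists_isWeilRes_of_cover fun T h t => ?_
  obtain ⟨U, hU, hTU⟩ := Groth.Agent.H84GrpAffine.exists_affineOpen_artinian A G
    (((pullback.fst T.hom f).finite_preimage_singleton t).image h.left)
  exact ⟨⟨U, Groth.Agent.H84WeilRes.mem_idx hU (isAffineOpen_top _) le_top⟩,
    Groth.Agent.H84WeilRes.mem_locus.2 fun z hz => hTU ⟨z, hz, rfl⟩⟩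

end Groth.Agent.S17693
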