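import Groth.Statements.S17706
import Groth.Agent.LogDRGeo45.Coh
import Groth.Agent.GrpSchLib.SmoothReduced
-- import your own Groth.Agent.* helpers here

set_option autoImplicit false
universe u
open CategoryTheory CategoryTheory.Limits AlgebraicGeometry Opposite TopologicalSpace
open Vanish

namespace Groth.Agent.S17706

/-- Let k be an algebraically closed field and X an irreducible proper smooth k-scheme carrying an ample
invertible O_X-module (a projective manifold). Let (Ω', d) be a universal receptacle for the
differentials of X over k, D_1, …, D_r quasi-coherent ideal sheaves forming a strict normal crossing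
divisor D (étale-locally distinct coordinate hyperplanes, so D is reduced) with pinned log module
Ω¹(log D), and E a finite locally free O_X-module with a logarithmic connection ∇ : E → E ⊗ Ω¹(log
D) and a logarithmic de Rham complex K (in particular ∇ is integrable). Assume the E_1-degeneration:
the Hodge to de Rham spectral sequence of the hypercohomology of K over X degenerates at the first
page, in the form that for all a, i the map H^a(X, σ_{≥ i+1} K) → H^a(X, σ_{≥ i} K) is injective and
H^a(X, σ_{≥ i} K) → H^a(X, K^i in degree i) is surjective. Let D' = Σ μ_j D_j be an effective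
divisor supported in D, with ideal 𝓘' = ∏ 𝓘_{D_j}^{μ_j}; let ∇' be the logarithmic connection
induced on E(−D') = E ⊗ 𝓘' (pinned by compatibility with ∇ under E(−D') → E) and K' its logarithmic
de Rham complex, both taken as given. For each j let the residue ρ_j : E → E ⊗ O_{D_j} of ∇ factor
through an O_X-linear endomorphism R_j of E ⊗ O_{D_j} (restriction followed by R_j equals ρ_j), and
assume that R_j + μ·id is an isomorphism for every j and every natural number μ < μ_j (components
with μ_j = 0 carry no condition; asking it for all j and all natural numbers μ is condition (!), no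
non-positive integer being an eigenvalue of a residue). Then for every b the natural map H^b(X, E ⊗
𝓘') → H^b(X, E), induced by 𝓘' ⊆ O_X and the unit isomorphism, is surjective. (The module is written
as the left tensor factor.) -/
theorem result (k : Type u) [Field k] [IsAlgClosed k]
    (X : Scheme.{u}) [X.Over (Spec (CommRingCat.of k))] [IsProper (X ↘ Spec (CommRingCat.of k))]
    [Smooth (X ↘ Spec (CommRingCat.of k))] [IrreducibleSpace X] (H : X.Modules) (hH : CohB1.IsAmple H)
    {Ω' : X.Modules} (d : OmegaSh.Der (X ↘ Spec (CommRingCat.of k)) Ω') (hd : OmegaSh.IsUniversal d)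
    {r : ℕ} (D : Fin r → X.IdealSheafData) (hD : LogNCD.IsNCD D (X ↘ Spec (CommRingCat.of k))) (Λ : LogNCD.LogMod d D)
    (E : X.Modules) (hE : FlatMod.IsFinLocFree E)
    (nabla : Coh.toAb E ⟶ Coh.toAb (CohB1.tensorMod E Λ.L)) (hc : ConnSh.IsConn (LogNCD.der Λ) E nabla)
    (K : ConnSh.Cx (LogNCD.der Λ) E nabla)
    [HasDerivedCategory.{u} (Sheaf (Opens.grothendieckTopology X) AddCommGrpCat.{u})]
    (hE1 : E1Deg.HyperDegenerates K.KZ (⊤ : X.Opens))
    (μ : Fin r → ℕ)
    (nabla' : Coh.toAb (CohB1.tensorMod E (ClSub.idealMod (∏ j, D j ^ μ j))) ⟶ Coh.toAb (CohB1.tensorMod (CohB1.tensorMod E (ClSub.idealMod (∏ j, D j ^ μ j))) Λ.L))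
    (ht : LogNCD.IsTwist Λ E nabla (∏ j, D j ^ μ j) nabla') (hc' : ConnSh.IsConn (LogNCD.der Λ) (CohB1.tensorMod E (ClSub.idealMod (∏ j, D j ^ μ j))) nabla')
    (K' : ConnSh.Cx (LogNCD.der Λ) (CohB1.tensorMod E (ClSub.idealMod (∏ j, D j ^ μ j))) nabla')
    (ρ : ∀ j : Fin r, E ⟶ CohB1.tensorMod E (ClSub.quotMod (D j))) (hρ : ∀ j, LogNCD.IsResidue Λ E nabla j (ρ j))
    (R : ∀ j : Fin r, CohB1.tensorMod E (ClSub.quotMod (D j)) ⟶ CohB1.tensorMod E (ClSub.quotMod (D j)))
    (hR : ∀ j, (SecTwist.unitorR E).inv ≫ KoszTw.tensorMap (𝟙 E) (ClSub.toSubscheme (D j)) ≫ R j = ρ j)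
    (hres : ∀ (j : Fin r) (m : ℕ), m < μ j → IsIso (R j + m • 𝟙 (CohB1.tensorMod E (ClSub.quotMod (D j)))))
    (b : ℕ) :
    Function.Surjective (Sheaf.H.map ((SheafOfModules.toSheaf X.ringCatSheaf).map
      (LogNCD.inclTwist E (∏ j, D j ^ μ j))) b) := by
  haveI : IsReduced X := Groth.Agent.GrpSchLib.isReduced_of_smooth_field (X ↘ Spec (CommRingCat.of k))
  haveI : IsIntegral X := isIntegral_of_irreducibleSpace_of_isReduced X
  haveI : IsLocallyNoetherian X := LocallyOfFiniteType.isLocallyNoetherian (X ↘ Spec (CommRingCat.of k))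
  exact Groth.Agent.LogDRGeo45.surjective_H_incl K μ hd hD hE K' ht
    (fun U F _ i l hl m hm => Groth.Agent.LogDRGeo45.thetaF_bij K (hρ i) (hR i) F hE (hres i m hm) hl) hE1 b

end Groth.Agent.S17706
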