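import Groth.Statements.S17708
import Groth.Agent.LogDRGeo45.UpperVanish
import Groth.Agent.GrpSchLib.SmoothReduced
-- import your own Groth.Agent.* helpers here

set_option autoImplicit false
universe u
open CategoryTheory CategoryTheory.Limits AlgebraicGeometry Opposite TopologicalSpace
open Vanish

namespace Groth.Agent.S17708

/-- Let k be an algebraically closed field and X an irreducible proper smooth k-scheme of dimension n
carrying an ample invertible O_X-module (X projective). Let (Ω', d) be a universal receptacle for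
the differentials of X over k, D_1, …, D_r quasi-coherent ideal sheaves forming a strict normal
crossing divisor D (reduced) with pinned log module Ω¹(log D), E a finite locally free O_X-module
with a logarithmic connection ∇ : E → E ⊗ Ω¹(log D) and a logarithmic de Rham complex K (in
particular ∇ is integrable). Assume the E_1-degeneration: the Hodge to de Rham spectral sequence of
the hypercohomology of K over X degenerates at the first page, in the form that for all a, i the map
H^a(X, σ_{≥ i+1} K) → H^a(X, σ_{≥ i} K) is injective and H^a(X, σ_{≥ i} K) → H^a(X, K^i in degree i)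
is surjective. For each j let the residue ρ_j : E → E ⊗ O_{D_j} of ∇ factor through an O_X-linear
endomorphism R_j of E ⊗ O_{D_j} (restriction followed by R_j equals ρ_j), and assume condition (*):
R_j − μ·id is an isomorphism for every j and every integer μ ≥ 1 (no positive integer is an
eigenvalue of a residue). Suppose the coherent cohomological dimension cd(X, D) is at most c: there
is an effective divisor B = Σ β_j D_j with all β_j ≥ 1 (so B_red = D) such that for every coherent
O_X-module G and every q > c some ν₀ > 0 has H^q(X, G ⊗ O_X(νB)) = 0 for all positive multiples ν of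
ν₀ (O_X(νB) meaning any tensor inverse of ∏ 𝓘_{D_j}^{νβ_j}). Let Ω^a(log D) be an a-th exterior
power of Ω¹(log D). Then H^b(X, E ⊗ Ω^a(log D)) = 0 whenever a + b > n + c. (The module is written
as the left tensor factor.) -/
theorem result (k : Type u) [Field k] [IsAlgClosed k]
    (X : Scheme.{u}) [X.Over (Spec (CommRingCat.of k))] [IsProper (X ↘ Spec (CommRingCat.of k))]
    [Smooth (X ↘ Spec (CommRingCat.of k))] [IrreducibleSpace X] (n : ℕ) (hn : topologicalKrullDim X = n) (H : X.Modules) (hH : CohB1.IsAmple H)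
    {Ω' : X.Modules} (d : OmegaSh.Der (X ↘ Spec (CommRingCat.of k)) Ω') (hd : OmegaSh.IsUniversal d)
    {r : ℕ} (D : Fin r → X.IdealSheafData) (hD : LogNCD.IsNCD D (X ↘ Spec (CommRingCat.of k))) (Λ : LogNCD.LogMod d D)
    (E : X.Modules) (hE : FlatMod.IsFinLocFree E)
    (nabla : Coh.toAb E ⟶ Coh.toAb (CohB1.tensorMod E Λ.L)) (hc : ConnSh.IsConn (LogNCD.der Λ) E nabla)
    (K : ConnSh.Cx (LogNCD.der Λ) E nabla)
    [HasDerivedCategory.{u} (Sheaf (Opens.grothendieckTopology X) AddCommGrpCat.{u})]
    (hE1 : E1Deg.HyperDegenerates K.KZ (⊤ : X.Opens))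
    (ρ : ∀ j : Fin r, E ⟶ CohB1.tensorMod E (ClSub.quotMod (D j))) (hρ : ∀ j, LogNCD.IsResidue Λ E nabla j (ρ j))
    (R : ∀ j : Fin r, CohB1.tensorMod E (ClSub.quotMod (D j)) ⟶ CohB1.tensorMod E (ClSub.quotMod (D j)))
    (hR : ∀ j, (SecTwist.unitorR E).inv ≫ KoszTw.tensorMap (𝟙 E) (ClSub.toSubscheme (D j)) ≫ R j = ρ j)
    (hstar : ∀ (j : Fin r) (m : ℕ), 1 ≤ m → IsIso (R j - m • 𝟙 (CohB1.tensorMod E (ClSub.quotMod (D j)))))
    (c : ℕ) (β : Fin r → ℕ) (hβ : ∀ j, 1 ≤ β j)
    (hcd : ∀ (G : X.Modules), Coh.IsCoh G → ∀ q : ℕ, c < q → ∃ ν₀ : ℕ, 0 < ν₀ ∧ ∀ ν : ℕ, 0 < ν → ν₀ ∣ ν →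
        ∀ M : X.Modules, ClSub.IsInverseOf M (ClSub.idealMod (∏ j, D j ^ (ν * β j))) →
          Subsingleton (Coh.HH X (CohB1.tensorMod G M) q))
    (a : ℕ) (La : X.Modules) (hLa : ExtPow.IsExtPow a Λ.L La) (b : ℕ) (hab : n + c < a + b) :
    Subsingleton (Coh.HH X (CohB1.tensorMod E La) b) := by
  haveI : IsReduced X := Groth.Agent.GrpSchLib.isReduced_of_smooth_field (X ↘ Spec (CommRingCat.of k))
  haveI : IsIntegral X := isIntegral_of_irreducibleSpace_of_isReduced X
  haveI : IsLocallyNoetherian X := LocallyOfFiniteType.isLocallyNoetherian (X ↘ Spec (CommRingCat.of k))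
  haveI := Groth.Agent.LogDRGeo45.subsingleton_HT_of_cd_upper K hd hD hE hρ hR n hn.le Finset.univ
    (fun j _ => hstar j) c β (fun j hj => absurd (Finset.mem_univ j) hj) hcd (a + b) hab
  haveI : Subsingleton (E1Deg.HT (CohCx.freeSheaf (Opens.grothendieckTopology X) (⊤ : X.Opens)) K.KZ ((a : ℤ) + b)) := by
    simpa only [Nat.cast_add] using (inferInstance : Subsingleton (E1Deg.HT (CohCx.freeSheaf (Opens.grothendieckTopology X) (⊤ : X.Opens)) K.KZ ((a + b : ℕ) : ℤ)))
  exact Groth.Agent.LogDRGeo45.subsingleton_HH_of_HT K hd hD hE hE1 a b hLa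

end Groth.Agent.S17708
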