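import Groth.Statements.S17710
import Groth.Agent.LogDRGeo45.UpperVanish
import Groth.Agent.LogDRGeo45.LowerVanish
import Groth.Agent.SerreVan45.HDual
import Groth.Agent.GrpSchLib.SmoothReduced
-- import your own Groth.Agent.* helpers here

set_option autoImplicit false
universe u
open CategoryTheory CategoryTheory.Limits AlgebraicGeometry Opposite TopologicalSpace
open Vanish

namespace Groth.Agent.S17710

/-- Let k be an algebraically closed field and X an irreducible proper smooth k-scheme of dimension n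
carrying an ample invertible O_X-module (X projective). Let (Ω', d) be a universal receptacle for
the differentials of X over k, D_1, …, D_r quasi-coherent ideal sheaves forming a strict normal
crossing divisor D (reduced) with pinned log module Ω¹(log D), E a finite locally free O_X-module
with a logarithmic connection ∇ : E → E ⊗ Ω¹(log D) and a logarithmic de Rham complex K (in
particular ∇ is integrable). Assume the E_1-degeneration: the Hodge to de Rham spectral sequence of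
the hypercohomology of K over X degenerates at the first page, in the form that for all a, i the map
H^a(X, σ_{≥ i+1} K) → H^a(X, σ_{≥ i} K) is injective and H^a(X, σ_{≥ i} K) → H^a(X, K^i in degree i)
is surjective. For each j let the residue ρ_j : E → E ⊗ O_{D_j} of ∇ factor through an O_X-linear
endomorphism R_j of E ⊗ O_{D_j} (restriction followed by R_j equals ρ_j). Let D_* and D_! be two
sub-divisors of D, given by sets of indices s₁ and s₂, such that (i) R_j − μ·id is an isomorphism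
for every j ∈ s₁ and every integer μ ≥ 1, and (ii) R_j + μ·id is an isomorphism for every j ∈ s₂ and
every natural number μ. Suppose cd(X, D_*) ≤ c₁ and cd(X, D_!) ≤ c₂: for i = 1, 2 there is an
effective divisor B_i = Σ β_{i,j} D_j with β_{i,j} ≥ 1 for j ∈ s_i and β_{i,j} = 0 otherwise (so
(B_i)_red is D_* resp. D_!) such that for every coherent O_X-module G and every q > c_i some ν₀ > 0
has H^q(X, G ⊗ O_X(νB_i)) = 0 for all positive multiples ν of ν₀ (O_X(νB_i) meaning any tensor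
inverse of ∏ 𝓘_{D_j}^{νβ_{i,j}}). Let Ω^a(log D) be an a-th exterior power of Ω¹(log D). Then H^b(X,
E ⊗ Ω^a(log D)) = 0 whenever a + b > n + c₁ or a + b < n − c₂. (The module is written as the left
tensor factor.) -/
theorem result (k : Type u) [Field k] [IsAlgClosed k]
    (X : Scheme.{u}) [X.Over (Spec (CommRingCat.of k))] [IsProper (X ↘ Spec (CommRingCat.of k))]
    [Smooth (X ↘ Spec (CommRingCat.of k))] [IrreducibleSpace X] (n : ℕ) (hn : topologicalKrullDim X = n) (H : X.Modules) (hH : CohB1.IsAmple H)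
    {Ω' : X.Modules} (d : OmegaSh.Der (X ↘ Spec (CommRingCat.of k)) Ω') (hd : OmegaSh.IsUniversal d)
    {r : ℕ} (D : Fin r → X.IdealSheafData) (hD : LogNCD.IsNCD D (X ↘ Spec (CommRingCat.of k))) (Λ : LogNCD.LogMod d D)
    (E : X.Modules) (hE : FlatMod.IsFinLocFree E)
    (nabla : Coh.toAb E ⟶ Coh.toAb (CohB1.tensorMod E Λ.L)) (hc : ConnSh.IsConn (LogNCD.der Λ) E nabla)
    (K : ConnSh.Cx (LogNCD.der Λ) E nabla)
    [HasDerivedCategory.{u} (Sheaf (Opens.grothendieckTopology X) AddCommGrpCat.{u})]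
    (hE1 : E1Deg.HyperDegenerates K.KZ (⊤ : X.Opens))
    (ρ : ∀ j : Fin r, E ⟶ CohB1.tensorMod E (ClSub.quotMod (D j))) (hρ : ∀ j, LogNCD.IsResidue Λ E nabla j (ρ j))
    (R : ∀ j : Fin r, CohB1.tensorMod E (ClSub.quotMod (D j)) ⟶ CohB1.tensorMod E (ClSub.quotMod (D j)))
    (hR : ∀ j, (SecTwist.unitorR E).inv ≫ KoszTw.tensorMap (𝟙 E) (ClSub.toSubscheme (D j)) ≫ R j = ρ j)
    (s₁ s₂ : Finset (Fin r))
    (hstar : ∀ j ∈ s₁, ∀ (m : ℕ), 1 ≤ m → IsIso (R j - m • 𝟙 (CohB1.tensorMod E (ClSub.quotMod (D j)))))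
    (hbang : ∀ j ∈ s₂, ∀ (m : ℕ), IsIso (R j + m • 𝟙 (CohB1.tensorMod E (ClSub.quotMod (D j)))))
    (c₁ : ℕ) (β₁ : Fin r → ℕ) (hβ₁ : ∀ j, j ∈ s₁ → 1 ≤ β₁ j) (hβ₁' : ∀ j, j ∉ s₁ → β₁ j = 0)
    (hcd₁ : ∀ (G : X.Modules), Coh.IsCoh G → ∀ q : ℕ, c₁ < q → ∃ ν₀ : ℕ, 0 < ν₀ ∧ ∀ ν : ℕ, 0 < ν → ν₀ ∣ ν →
        ∀ M : X.Modules, ClSub.IsInverseOf M (ClSub.idealMod (∏ j, D j ^ (ν * β₁ j))) →
          Subsingleton (Coh.HH X (CohB1.tensorMod G M) q))
    (c₂ : ℕ) (β₂ : Fin r → ℕ) (hβ₂ : ∀ j, j ∈ s₂ → 1 ≤ β₂ j) (hβ₂' : ∀ j, j ∉ s₂ → β₂ j = 0)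
    (hcd₂ : ∀ (G : X.Modules), Coh.IsCoh G → ∀ q : ℕ, c₂ < q → ∃ ν₀ : ℕ, 0 < ν₀ ∧ ∀ ν : ℕ, 0 < ν → ν₀ ∣ ν →
        ∀ M : X.Modules, ClSub.IsInverseOf M (ClSub.idealMod (∏ j, D j ^ (ν * β₂ j))) →
          Subsingleton (Coh.HH X (CohB1.tensorMod G M) q))
    (a : ℕ) (La : X.Modules) (hLa : ExtPow.IsExtPow a Λ.L La) (b : ℕ) (hab : n + c₁ < a + b ∨ a + b + c₂ < n) :
    Subsingleton (Coh.HH X (CohB1.tensorMod E La) b) := by
  haveI : IsReduced X := Groth.Agent.GrpSchLib.isReduced_of_smooth_field (X ↘ Spec (CommRingCat.of k))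
  haveI : IsIntegral X := isIntegral_of_irreducibleSpace_of_isReduced X
  haveI : IsLocallyNoetherian X := LocallyOfFiniteType.isLocallyNoetherian (X ↘ Spec (CommRingCat.of k))
  haveI : Subsingleton (E1Deg.HT (CohCx.freeSheaf (Opens.grothendieckTopology X) (⊤ : X.Opens)) K.KZ ((a + b : ℕ) : ℤ)) := by
    rcases hab with h | h
    · exact Groth.Agent.LogDRGeo45.subsingleton_HT_of_cd_upper K hd hD hE hρ hR n hn.le s₁ hstar c₁ β₁ hβ₁' hcd₁ (a + b) h
    · exact Groth.Agent.LogDRGeo45.subsingleton_HT_of_cd_lower K hd hD hE hρ hR n hn.le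
        (Groth.Agent.SerreVan45.exists_dual_vanishing_ideal (X ↘ Spec (CommRingCat.of k)) hH n hn) s₂ hbang c₂ β₂ hβ₂'
        hcd₂ (a + b) h
  haveI : Subsingleton (E1Deg.HT (CohCx.freeSheaf (Opens.grothendieckTopology X) (⊤ : X.Opens)) K.KZ ((a : ℤ) + b)) := by
    simpa only [Nat.cast_add] using (inferInstance : Subsingleton (E1Deg.HT (CohCx.freeSheaf (Opens.grothendieckTopology X) (⊤ : X.Opens)) K.KZ ((a + b : ℕ) : ℤ)))
  exact Groth.Agent.LogDRGeo45.subsingleton_HH_of_HT K hd hD hE hE1 a b hLa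

end Groth.Agent.S17710
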