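import Groth.Statements.S17734
import Groth.Agent.PicFRel.InvApprox
import Groth.Agent.MorLib.BaseChangeLim
import Groth.Agent.IndEtLib.Localization
import Groth.Agent.PicClLib.Basic

set_option autoImplicit false
universe u
open PicF

namespace Groth.Agent.S17734

set_option backward.isDefEq.respectTransparency false
set_option backward.isDefEq.respectTransparency.types false
open CategoryTheory CategoryTheory.Limits AlgebraicGeometry
open Groth.Agent.IndEtLib Groth.Agent.MorLib


open CategoryTheory AlgebraicGeometry Limits in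
/-- Let f : X → S be a proper morphism of finite presentation, s a point of S, and L an invertible
module on the base change X^s of X to the spectrum of the local ring of S at s. Then there are an
open neighbourhood V of s in S and an invertible module L' on the open subscheme f⁻¹(V) = X ×_S V
such that the pullback of L' along the canonical morphism X^s → f⁻¹(V) (the unique one compatible
with the projection X^s → X) is isomorphic to L. -/
theorem result
    {X S : Scheme.{u}} (f : X ⟶ S) [IsProper f] [LocallyOfFinitePresentation f] (s : S)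
    (L : (pullback f (S.fromSpecStalk s)).Modules) (hL : PicF.IsInvertible L) :
    ∃ (V : S.Opens) (_ : s ∈ V) (L' : (↑(f ⁻¹ᵁ V) : Scheme.{u}).Modules), PicF.IsInvertible L' ∧
      ∀ (ι : pullback f (S.fromSpecStalk s) ⟶ ↑(f ⁻¹ᵁ V)),
        ι ≫ (f ⁻¹ᵁ V).ι = pullback.fst f (S.fromSpecStalk s) →
        Nonempty ((Scheme.Modules.pullback ι).obj L' ≅ L) := by
  classical
  haveI : IsProper f := inferInstance
  obtain ⟨_, ⟨U, hU, rfl⟩, hsU, -⟩ :=
    S.isBasis_affineOpens.exists_subset_of_mem_open (Set.mem_univ s) isOpen_univ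
  let U : S.Opens := U
  let A : Type u := Γ(S, U)
  let p : PrimeSpectrum A := hU.primeIdealOf ⟨s, hsU⟩
  let M : Submonoid A := p.asIdeal.primeCompl
  let B : Type u := S.presheaf.stalk s
  letI : Algebra A B := TopCat.Presheaf.algebra_section_stalk S.presheaf (U := U) ⟨s, hsU⟩
  haveI : IsLocalization M B := hU.isLocalization_stalk ⟨s, hsU⟩
  obtain ⟨hcol⟩ := nonempty_isColimit_locCocone M B
  have : IsConnected (LocIdx M) := IsFiltered.isConnected _
  let F := locDiagram M ⋙ Under.forget (CommRingCat.of A)
  let D := F.op ⋙ Scheme.Spec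
  let c := Scheme.Spec.mapCone ((Under.forget (CommRingCat.of A)).mapCocone (locCocone M B)).op
  have hc : IsLimit c :=
    isLimitOfPreserves Scheme.Spec (isColimitOfPreserves (Under.forget _) hcol).op
  haveI : ∀ {i j} (φ : i ⟶ j), IsAffineHom (D.map φ) := fun φ => isAffineHom_of_isAffine (Spec.map _)
  let o : (LocIdx M)ᵒᵖ := Opposite.op (⟨1, one_mem M⟩ : M)
  let st : ∀ j : (LocIdx M)ᵒᵖ, D.obj j ⟶ S := fun j =>
    Spec.map (CommRingCat.ofHom (algebraMap A j.unop.Stage)) ≫ hU.fromSpec
  have hst : ∀ {i j : (LocIdx M)ᵒᵖ} (φ : i ⟶ j), D.map φ ≫ st j = st i := fun {i j} φ => by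
    show Spec.map _ ≫ Spec.map _ ≫ _ = Spec.map _ ≫ _
    rw [← Category.assoc, ← Spec.map_comp]
    congr 2
    exact CommRingCat.hom_ext (LocIdx.tr φ.unop.le).comp_algebraMap
  have hcst : c.π.app o ≫ st o = S.fromSpecStalk s := by
    rw [← hU.fromSpecStalk_eq_fromSpecStalk hsU]
    show Spec.map _ ≫ Spec.map _ ≫ _ = Spec.map _ ≫ _
    rw [← Category.assoc, ← Spec.map_comp]
    congr 2
    exact CommRingCat.hom_ext (LocIdx.toLoc B _).comp_algebraMap
  haveI : ∀ j, IsOpenImmersion (st j) := fun j => by
    haveI : IsOpenImmersion (Spec.map (CommRingCat.ofHom (algebraMap A j.unop.Stage))) :=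
      IsOpenImmersion.of_isLocalization j.unop.el
    infer_instance
  let str := st o
  let xi : pullback f str ⟶ D.obj o := pullback.snd f str
  haveI : IsAffine (D.obj o) := inferInstanceAs (IsAffine (Spec (CommRingCat.of _)))
  haveI : CompactSpace ↥(pullback f str) := QuasiCompact.compactSpace_of_compactSpace xi
  haveI : QuasiSeparatedSpace ↥(pullback f str) := quasiSeparatedSpace_of_quasiSeparated xi
  have hbig : IsPullback (pullback.fst f (S.fromSpecStalk s)) (pullback.snd f (S.fromSpecStalk s)) f
      (c.π.app o ≫ str) := by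
    rw [show c.π.app o ≫ str = S.fromSpecStalk s from hcst]
    exact IsPullback.of_hasPullback f (S.fromSpecStalk s)
  let pX : pullback f (S.fromSpecStalk s) ⟶ c.pt := pullback.snd f (S.fromSpecStalk s)
  let qX : pullback f (S.fromSpecStalk s) ⟶ pullback f str :=
    pullback.lift (pullback.fst f _) (pX ≫ c.π.app o) (by rw [Category.assoc]; exact hbig.w)
  have hX : IsPullback qX pX xi (c.π.app o) :=
    IsPullback.of_right (by rw [pullback.lift_fst]; exact hbig) (pullback.lift_snd _ _ _)
      (IsPullback.of_hasPullback f str)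
  obtain ⟨j, N, hN, ⟨ψ⟩⟩ := PicFRel.InvApprox.exists_invertible_stage (D := BC.diag D xi)
    (c := BC.cone D xi hX) (BC.isLimitCone D xi hX hc) L hL
  let γ : pullback xi (D.map j.hom) ⟶ X := pullback.fst xi (D.map j.hom) ≫ pullback.fst f str
  have hγ : IsPullback γ (pullback.snd xi (D.map j.hom)) f (st j.left) := by
    rw [← hst j.hom]
    exact (IsPullback.of_hasPullback xi (D.map j.hom)).paste_horiz (IsPullback.of_hasPullback f str)
  haveI : IsOpenImmersion γ := MorphismProperty.of_isPullback hγ.flip inferInstance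
  let V : S.Opens := (st j.left).opensRange
  have hr : Set.range (f ⁻¹ᵁ V).ι ⊆ Set.range γ := by
    rw [Scheme.Opens.range_ι]
    rintro x ⟨y, hy⟩
    obtain ⟨w, hw, -⟩ := Scheme.exists_preimage_of_isPullback hγ x y hy.symm
    exact ⟨w, hw⟩
  let β := IsOpenImmersion.lift γ (f ⁻¹ᵁ V).ι hr
  refine ⟨V, ?_, (Scheme.Modules.pullback β).obj N, PicClLib.isInvertible_pullback _ hN, fun ι hι => ?_⟩
  · refine ⟨c.π.app j.left (show c.pt from IsLocalRing.closedPoint (S.presheaf.stalk s)), ?_⟩
    rw [← Scheme.Hom.comp_apply, ← hst j.hom, ← Category.assoc, c.w, hcst]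
    exact Scheme.fromSpecStalk_closedPoint
  · have key : ι ≫ β = BC.proj D xi hX j := by
      rw [← cancel_mono γ, Category.assoc, IsOpenImmersion.lift_fac, hι]
      show _ = BC.proj D xi hX j ≫ pullback.fst xi _ ≫ pullback.fst f str
      rw [BC.proj_fst_assoc, pullback.lift_fst]
    exact ⟨(Scheme.Modules.pullbackComp ι β).app N ≪≫ (Scheme.Modules.pullbackCongr key).app N ≪≫ ψ⟩

end Groth.Agent.S17734
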