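import Mathlib
import Groth.Agent.NodeAnalytic.Primes
import Groth.Agent.RegLoc6.Basic
import Groth.Statements.S17735
-- import your own Groth.Agent.* helpers here

set_option autoImplicit false
set_option linter.style.haveILetI false
set_option linter.unusedSectionVars false
universe u
open CAlg

namespace Groth.Agent.S17735

open IsLocalRing

theorem flat_node {R : Type u} [CommRing R] [IsNoetherianRing R] (g : MvPolynomial (Fin 2) R)
    (ι : (MvPolynomial (Fin 2) R ⧸ Ideal.span {g}) →+* (MvPowerSeries (Fin 2) R ⧸ Ideal.span {(g : MvPowerSeries (Fin 2) R)}))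
    (hι : ι.comp (Ideal.Quotient.mk _) =
      (Ideal.Quotient.mk _).comp (MvPolynomial.coeToMvPowerSeries.ringHom : MvPolynomial (Fin 2) R →+* MvPowerSeries (Fin 2) R)) :
    ι.Flat := by
  let T := MvPolynomial (Fin 2) R
  let S := MvPowerSeries (Fin 2) R
  haveI : Module.Flat T (AdicCompletion (MvPolynomial.idealOfVars (Fin 2) R) T) :=
    AdicCompletion.flat_of_isNoetherian _
  haveI : Module.Flat T S :=
    Module.Flat.of_linearEquiv (MvPowerSeries.toAdicCompletionAlgEquiv (Fin 2) R).toLinearEquiv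
  have halg : (algebraMap T S) = MvPolynomial.coeToMvPowerSeries.ringHom := by
    refine RingHom.ext fun q => ?_
    rw [MvPowerSeries.algebraMap_apply']
    simp [MvPowerSeries.map_id]
    rfl
  have hmap : (Ideal.span {g}).map (algebraMap T S) = Ideal.span {(g : S)} := by
    rw [Ideal.map_span, Set.image_singleton, halg, MvPolynomial.coeToMvPowerSeries.ringHom_apply]
  haveI : Module.Flat (T ⧸ Ideal.span {g}) (S ⧸ (Ideal.span {g}).map (algebraMap T S)) :=
    Groth.Agent.CplFib6.flat_quot (C := T) (D := S) (Ideal.span {g})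
  have hfl : (algebraMap (T ⧸ Ideal.span {g}) (S ⧸ (Ideal.span {g}).map (algebraMap T S))).Flat :=
    RingHom.flat_algebraMap_iff.2 inferInstance
  have e : ι = (Ideal.quotEquivOfEq hmap).toRingHom.comp
      (algebraMap (T ⧸ Ideal.span {g}) (S ⧸ (Ideal.span {g}).map (algebraMap T S))) :=
    Ideal.Quotient.ringHom_ext (hι.trans (RingHom.ext fun q => by
      show Ideal.Quotient.mk _ (MvPolynomial.coeToMvPowerSeries.ringHom q) = _
      rw [← halg]
      rfl))
  rw [e]
  exact RingHom.Flat.comp hfl (RingHom.Flat.of_bijective (Ideal.quotEquivOfEq hmap).bijective)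

open IsLocalRing in

theorem height_comap_eq_one {S T : Type u} [CommRing S] [IsNoetherianRing S] [IsDomain S] [CommRing T] [IsNoetherianRing T] [Algebra S T]
    [Algebra.HasGoingDown S T] (𝔓 : Ideal T) [𝔓.IsPrime] (hht : 𝔓.height = 1)
    (hne : Ideal.comap (algebraMap S T) 𝔓 ≠ ⊥) : (Ideal.comap (algebraMap S T) 𝔓).height = 1 := by
  haveI : (Ideal.comap (algebraMap S T) 𝔓).IsPrime := Ideal.IsPrime.comap _
  haveI : 𝔓.LiesOver (Ideal.comap (algebraMap S T) 𝔓) := ⟨rfl⟩
  refine le_antisymm ?_ (Order.one_le_iff_pos.2 (pos_iff_ne_zero.2 fun h0 => hne (Ideal.height_eq_zero_iff_eq_bot.1 h0)))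
  rw [← hht, Ideal.height_eq_height_add_of_liesOver_of_hasGoingDown (Ideal.comap (algebraMap S T) 𝔓) 𝔓]
  exact le_self_add

theorem exists_heightOne_over {S T : Type u} [CommRing S] [IsNoetherianRing S] [CommRing T] [IsNoetherianRing T] [Algebra S T]
    [Module.FaithfullyFlat S T] (𝔮 : Ideal S) [𝔮.IsPrime] (hht : 𝔮.height = 1) :
    ∃ 𝔓 : Ideal T, 𝔓.IsPrime ∧ 𝔓.height = 1 ∧ Ideal.comap (algebraMap S T) 𝔓 = 𝔮 := by
  haveI : Algebra.HasGoingDown S T := Algebra.HasGoingDown.of_flat
  obtain ⟨𝔓, h𝔓, hc⟩ := Ideal.exists_minimalPrimes_comap_eq (I := 𝔮.map (algebraMap S T)) (algebraMap S T) 𝔮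
    (by rw [Ideal.comap_map_eq_self_of_faithfullyFlat, Ideal.minimalPrimes_eq_subsingleton_self]
        exact Set.mem_singleton _)
  haveI := h𝔓.isPrime
  haveI : 𝔓.LiesOver 𝔮 := ⟨hc.symm⟩
  refine ⟨𝔓, inferInstance, ?_, hc⟩
  rw [Ideal.height_eq_height_add_of_liesOver_of_hasGoingDown 𝔮 𝔓, hht]
  have hmin : 𝔓.map (Ideal.Quotient.mk (𝔮.map (algebraMap S T))) ∈ minimalPrimes (T ⧸ 𝔮.map (algebraMap S T)) := by
    rw [Ideal.minimalPrimes_eq_comap] at h𝔓
    obtain ⟨𝔔, hm, rfl⟩ := h𝔓
    rwa [Ideal.map_comap_of_surjective _ Ideal.Quotient.mk_surjective]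
  haveI := hmin.isPrime
  rw [Ideal.height_eq_zero_iff.2 hmin, add_zero]

set_option maxHeartbeats 2000000 in
/-- Let R be a regular local ring complete for its maximal ideal, r a non-zero element of R, A the
quotient of the power series ring in x, y over R by xy − r, B the quotient of the polynomial ring in
x, y over R by xy − r, ι : B → A the natural map, P the ideal of B generated by x, y and the maximal
ideal of R, à the localization of B at P and φ : à → A the map extending ι. Call a prime of height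
one of A (or of Ã) fibral when it contains a non-zero element of R. Then contraction along φ is a
bijection from the set of fibral height-one primes of A onto the set of fibral height-one primes of
Ã; equivalently it induces an isomorphism between the free abelian groups of fibral Weil divisors. -/
theorem result
    (R : Type u) [CommRing R] [IsRegularLocalRing R]
    [IsAdicComplete (maximalIdeal R) R]
    (r : R) (hr : r ≠ 0)
    (ι : (MvPolynomial (Fin 2) R ⧸ Ideal.span {(MvPolynomial.X 0 * MvPolynomial.X 1 - MvPolynomial.C r : MvPolynomial (Fin 2) R)}) →+*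
      (MvPowerSeries (Fin 2) R ⧸ Ideal.span {(MvPowerSeries.X 0 * MvPowerSeries.X 1 - MvPowerSeries.C r : MvPowerSeries (Fin 2) R)}))
    (hι : ι.comp (Ideal.Quotient.mk _) =
      (Ideal.Quotient.mk _).comp (MvPolynomial.coeToMvPowerSeries.ringHom : MvPolynomial (Fin 2) R →+* MvPowerSeries (Fin 2) R))
    (P : Ideal (MvPolynomial (Fin 2) R ⧸ Ideal.span {(MvPolynomial.X 0 * MvPolynomial.X 1 - MvPolynomial.C r : MvPolynomial (Fin 2) R)})) [P.IsPrime]
    (hP : P = Ideal.span {Ideal.Quotient.mk _ (MvPolynomial.X 0), Ideal.Quotient.mk _ (MvPolynomial.X 1)} ⊔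
      (maximalIdeal R).map (algebraMap R _))
    (φ : Localization.AtPrime P →+* (MvPowerSeries (Fin 2) R ⧸ Ideal.span {(MvPowerSeries.X 0 * MvPowerSeries.X 1 - MvPowerSeries.C r : MvPowerSeries (Fin 2) R)}))
    (hφ : φ.comp (algebraMap _ (Localization.AtPrime P)) = ι) :
    Set.BijOn (fun 𝔓 => Ideal.comap φ 𝔓)
      {𝔓 | 𝔓.IsPrime ∧ 𝔓.height = 1 ∧ Ideal.comap (algebraMap R _) 𝔓 ≠ ⊥}
      {𝔮 : Ideal (Localization.AtPrime P) | 𝔮.IsPrime ∧ @Ideal.height (Localization.AtPrime P) _ 𝔮 = 1 ∧ Ideal.comap (algebraMap R (Localization.AtPrime P)) 𝔮 ≠ ⊥} := by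
  classical
  haveI := Groth.Agent.RegLoc6.isDomain_of_isRegularLocalRing R
  let g : MvPolynomial (Fin 2) R := MvPolynomial.X 0 * MvPolynomial.X 1 - MvPolynomial.C r
  let gS : MvPowerSeries (Fin 2) R := MvPowerSeries.X 0 * MvPowerSeries.X 1 - MvPowerSeries.C r
  let B := MvPolynomial (Fin 2) R ⧸ Ideal.span {g}
  let A := MvPowerSeries (Fin 2) R ⧸ Ideal.span {gS}
  let Bt := Localization.AtPrime P
  let π : MvPowerSeries (Fin 2) R →+* A := Ideal.Quotient.mk _
  have hgc : (g : MvPowerSeries (Fin 2) R) = gS := by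
    rw [← MvPolynomial.coeToMvPowerSeries.ringHom_apply, map_sub, map_mul]
    simp [gS]
  have hrm : r ∈ maximalIdeal R := by
    by_contra hr'
    rw [IsLocalRing.notMem_maximalIdeal] at hr'
    have h1 : Ideal.Quotient.mk (Ideal.span {g}) (MvPolynomial.C r) ∈ P := by
      have h2 : Ideal.Quotient.mk (Ideal.span {g}) (MvPolynomial.C r) =
          Ideal.Quotient.mk (Ideal.span {g}) (MvPolynomial.X 0 * MvPolynomial.X 1) := by
        rw [eq_comm, Ideal.Quotient.eq]
        exact Ideal.mem_span_singleton_self _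
      rw [h2, map_mul, hP]
      exact Ideal.mem_sup_left (Ideal.mul_mem_right _ _ (Ideal.subset_span (Or.inl rfl)))
    exact ‹P.IsPrime›.ne_top (Ideal.eq_top_of_isUnit_mem _ h1
      ((hr'.map MvPolynomial.C).map (Ideal.Quotient.mk (Ideal.span {g}))))
  have hflat : ι.Flat := by
    have h : ∀ (G : MvPowerSeries (Fin 2) R) (_ : (g : MvPowerSeries (Fin 2) R) = G)
        (j : B →+* MvPowerSeries (Fin 2) R ⧸ Ideal.span {G}),
        j.comp (Ideal.Quotient.mk _) = (Ideal.Quotient.mk _).comp MvPolynomial.coeToMvPowerSeries.ringHom →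
        j.Flat := fun G hG j hj => by
      subst hG
      exact flat_node g j hj
    exact h gS hgc ι hι
  letI : Algebra B A := ι.toAlgebra
  letI : Algebra Bt A := φ.toAlgebra
  haveI : IsScalarTower B Bt A := IsScalarTower.of_algebraMap_eq (R := B) (S := Bt) (A := A) fun b => (RingHom.congr_fun hφ b).symm
  haveI : Module.Flat B A := hflat
  haveI : Module.Flat Bt A := (Module.flat_iff_of_isLocalization Bt P.primeCompl A).2 inferInstance
  haveI hAdom : IsDomain A := by
    haveI : (⊥ : Ideal R).IsPrime := Ideal.isPrime_bot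
    have h := Groth.Agent.NodeAnalytic.isPrime_sup_node (⊥ : Ideal R) hrm (by simpa using hr)
    rw [Ideal.map_bot, bot_sup_eq] at h
    exact (Ideal.Quotient.isDomain_iff_prime _).2 h
  haveI : IsLocalRing A := IsLocalRing.of_surjective' π Ideal.Quotient.mk_surjective
  have hcompat : ∀ a : R, φ (algebraMap R Bt a) = π (MvPowerSeries.C a) := fun a => by
    rw [IsScalarTower.algebraMap_apply R B Bt, ← RingHom.comp_apply φ, hφ]
    have h := RingHom.congr_fun hι (MvPolynomial.C a)
    simp only [RingHom.comp_apply, MvPolynomial.coeToMvPowerSeries.ringHom_apply, MvPolynomial.coe_C] at h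
    exact h
  have hX : ∀ i : Fin 2, φ (algebraMap B Bt (Ideal.Quotient.mk _ (MvPolynomial.X i))) = π (MvPowerSeries.X i) :=
    fun i => by
      rw [← RingHom.comp_apply φ, hφ]
      have h := RingHom.congr_fun hι (MvPolynomial.X i)
      simp only [RingHom.comp_apply, MvPolynomial.coeToMvPowerSeries.ringHom_apply, MvPolynomial.coe_X] at h
      exact h
  haveI : IsLocalHom (algebraMap Bt A) := by
    refine ((IsLocalRing.local_hom_TFAE (algebraMap Bt A)).out 0 2).mpr ?_
    rw [← Localization.AtPrime.map_eq_maximalIdeal, Ideal.map_map, ← IsScalarTower.algebraMap_eq, hP,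
      Ideal.map_sup, Ideal.map_span, sup_le_iff, Ideal.span_le, Ideal.map_map, Ideal.map_le_iff_le_comap]
    refine ⟨?_, fun a ha => ?_⟩
    · rintro _ ⟨_, (rfl | rfl), rfl⟩
      all_goals
        rw [SetLike.mem_coe, IsScalarTower.algebraMap_apply B Bt A]
        show φ _ ∈ _
        rw [hX, ← map_maximalIdeal_of_surjective π Ideal.Quotient.mk_surjective]
        refine Ideal.mem_map_of_mem _ ?_
        rw [mem_maximalIdeal, mem_nonunits_iff, MvPowerSeries.isUnit_iff_constantCoeff,
          MvPowerSeries.constantCoeff_X]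
        exact not_isUnit_zero
    · rw [Ideal.mem_comap, RingHom.comp_apply, IsScalarTower.algebraMap_apply B Bt A,
        ← IsScalarTower.algebraMap_apply R B Bt]
      show φ _ ∈ _
      rw [hcompat, ← map_maximalIdeal_of_surjective π Ideal.Quotient.mk_surjective]
      refine Ideal.mem_map_of_mem _ ?_
      rwa [mem_maximalIdeal, mem_nonunits_iff, MvPowerSeries.isUnit_iff_constantCoeff,
        MvPowerSeries.constantCoeff_C]
  haveI : IsNoetherianRing Bt := IsLocalization.isNoetherianRing P.primeCompl Bt inferInstance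
  haveI hff : Module.FaithfullyFlat Bt A := Module.FaithfullyFlat.of_flat_of_isLocalHom
  haveI : Algebra.HasGoingDown Bt A := Algebra.HasGoingDown.of_flat
  have hinj : Function.Injective φ := (Module.FaithfullyFlat.faithfulSMul (A := Bt) (B := A)).algebraMap_injective
  haveI : IsDomain Bt := Function.Injective.isDomain φ hinj
  have hfib : ∀ 𝔓 : Ideal A, Ideal.comap (algebraMap R Bt) (Ideal.comap φ 𝔓) = Ideal.comap (algebraMap R A) 𝔓 := by
    intro 𝔓
    ext a
    rw [Ideal.mem_comap, Ideal.mem_comap, Ideal.mem_comap, hcompat]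
    exact Iff.rfl
  -- every fibral prime of height one comes from below
  have hgen : ∀ 𝔓 : Ideal A, 𝔓.IsPrime → 𝔓.height = 1 → Ideal.comap (algebraMap R A) 𝔓 ≠ ⊥ →
      (Ideal.comap φ 𝔓).map φ = 𝔓 := by
    intro 𝔓 h𝔓 hht hne
    refine le_antisymm Ideal.map_comap_le ?_
    let p := Ideal.comap (algebraMap R A) 𝔓
    have hp : p.map (algebraMap R A) ≤ (Ideal.comap φ 𝔓).map φ := Ideal.map_le_iff_le_comap.2 fun a ha => by
      rw [Ideal.mem_comap, show algebraMap R A a = φ (algebraMap R Bt a) from (hcompat a).symm]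
      refine Ideal.mem_map_of_mem _ ?_
      rw [Ideal.mem_comap, hcompat]
      exact ha
    suffices h : ∃ Q : Ideal A, Q.IsPrime ∧ p.map (algebraMap R A) ≤ Q ∧ Q ≤ 𝔓 ∧ Q ≤ (Ideal.comap φ 𝔓).map φ by
      obtain ⟨Q, hQ, hpQ, hQ𝔓, hQle⟩ := h
      have hQ0 : Q ≠ ⊥ := fun h0 => by
        obtain ⟨a, ha, ha0⟩ := Submodule.exists_mem_ne_zero_of_ne_bot hne
        have h1 : algebraMap R A a = 0 := (Submodule.mem_bot A).1 (h0 ▸ hpQ (Ideal.mem_map_of_mem _ ha))
        rw [show algebraMap R A a = π (MvPowerSeries.C a) from rfl, Ideal.Quotient.eq_zero_iff_mem,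
          Ideal.mem_span_singleton'] at h1
        obtain ⟨q, hq⟩ := h1
        -- compare the constant coefficients along `x = y`
        have h2 := congrArg MvPowerSeries.constantCoeff hq
        simp only [gS, map_mul, map_sub, MvPowerSeries.constantCoeff_X, MvPowerSeries.constantCoeff_C, mul_zero,
          zero_sub] at h2
        have hd : r ∈ maximalIdeal R := hrm
        have h3 := Groth.Agent.NodeAnalytic.cN_node_mul hd q 0
        rw [show Groth.Agent.NodeAnalytic.node r * q = MvPowerSeries.C a by rw [← hq, mul_comm]; rfl] at h3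
        have h4 := Groth.Agent.NodeAnalytic.cN_of_reduced hd (f := MvPowerSeries.C a) (fun i j hi hj => by
          rw [MvPowerSeries.coeff_C, if_neg]
          intro h
          have := congrArg (fun e : Fin 2 →₀ ℕ => e 0) h
          simp at this
          omega) (i := 0) (j := 0) (Or.inl rfl)
        simp only [Nat.cast_zero, sub_zero, pow_zero, one_mul] at h4
        rw [h3] at h4
        exact ha0 (h4.trans (by simp [Groth.Agent.NodeAnalytic.idx])).symm
      rcases hQ𝔓.lt_or_eq with hlt | rfl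
      · haveI := hQ
        have h1 := Ideal.height_add_one_le_of_lt_of_isPrime hlt
        rw [hht] at h1
        have h2 : Q.height = 0 := by
          have h3 : Q.height + 1 ≤ 0 + 1 := h1.trans_eq (zero_add 1).symm
          exact nonpos_iff_eq_zero.1 ((ENat.add_le_add_iff_right ENat.one_ne_top).1 h3)
        exact absurd (Ideal.height_eq_zero_iff_eq_bot.1 h2) hQ0
      · exact hQle
    haveI : p.IsPrime := Ideal.IsPrime.comap _
    have hpA : p.map (algebraMap R A) = (p.map (MvPowerSeries.C : R →+* MvPowerSeries (Fin 2) R)).map π := by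
      rw [Ideal.map_map]; rfl
    have hp𝔓 : p.map (algebraMap R A) ≤ 𝔓 := Ideal.map_comap_le
    have hgker : RingHom.ker π = Ideal.span {gS} := Ideal.mk_ker
    by_cases hrp : r ∈ p
    · have hxy : π (MvPowerSeries.X 0) * π (MvPowerSeries.X 1) ∈ 𝔓 := by
        have h1 : π (MvPowerSeries.X 0) * π (MvPowerSeries.X 1) = π (MvPowerSeries.C r) := by
          rw [← map_mul]
          exact Ideal.Quotient.eq.2 (Ideal.mem_span_singleton_self _)
        rw [h1]
        exact hrp
      obtain ⟨i, hi⟩ : ∃ i : Fin 2, π (MvPowerSeries.X i) ∈ 𝔓 :=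
        (h𝔓.mem_or_mem hxy).elim (fun h => ⟨0, h⟩) (fun h => ⟨1, h⟩)
      haveI := Groth.Agent.NodeAnalytic.isPrime_sup_X p i
      refine ⟨(p.map (MvPowerSeries.C : R →+* MvPowerSeries (Fin 2) R) ⊔ Ideal.span {MvPowerSeries.X i}).map π,
        Ideal.map_isPrime_of_surjective Ideal.Quotient.mk_surjective ?_, ?_, ?_, ?_⟩
      · rw [hgker, Ideal.span_singleton_le_iff_mem]
        refine sub_mem (Ideal.mem_sup_right ?_) (Ideal.mem_sup_left (Ideal.mem_map_of_mem _ hrp))
        fin_cases i
        · exact Ideal.mul_mem_right _ _ (Ideal.mem_span_singleton_self _)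
        · exact Ideal.mul_mem_left _ _ (Ideal.mem_span_singleton_self _)
      · rw [hpA]; exact Ideal.map_mono le_sup_left
      · rw [Ideal.map_sup, ← hpA, Ideal.map_span, Set.image_singleton, sup_le_iff, Ideal.span_singleton_le_iff_mem]
        exact ⟨hp𝔓, hi⟩
      · rw [Ideal.map_sup, ← hpA, Ideal.map_span, Set.image_singleton, sup_le_iff, Ideal.span_singleton_le_iff_mem]
        refine ⟨hp, ?_⟩
        rw [← hX] at hi ⊢
        exact Ideal.mem_map_of_mem _ hi
    · haveI := Groth.Agent.NodeAnalytic.isPrime_sup_node p hrm hrp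
      refine ⟨(p.map (MvPowerSeries.C : R →+* MvPowerSeries (Fin 2) R) ⊔
          Ideal.span {Groth.Agent.NodeAnalytic.node r}).map π,
        Ideal.map_isPrime_of_surjective Ideal.Quotient.mk_surjective ?_, ?_, ?_, ?_⟩
      · rw [hgker]
        exact (le_of_eq (show Ideal.span {gS} = Ideal.span {Groth.Agent.NodeAnalytic.node r} from rfl)).trans le_sup_right
      · rw [hpA]; exact Ideal.map_mono le_sup_left
      all_goals
        rw [Ideal.map_sup, ← hpA, Ideal.map_span, Set.image_singleton, sup_le_iff, Ideal.span_singleton_le_iff_mem,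
          show π (Groth.Agent.NodeAnalytic.node r) = 0 from
            Ideal.Quotient.eq_zero_iff_mem.2 (Ideal.mem_span_singleton_self _)]
      · exact ⟨hp𝔓, zero_mem _⟩
      · exact ⟨hp, zero_mem _⟩
  refine ⟨fun 𝔓 h => ?_, fun 𝔓₁ h₁ 𝔓₂ h₂ he => ?_, fun 𝔮 h => ?_⟩
  · obtain ⟨hp𝔓, hht, hne⟩ := h
    haveI := hp𝔓
    haveI : (Ideal.comap φ 𝔓).IsPrime := Ideal.IsPrime.comap φ
    have hne' : Ideal.comap (algebraMap Bt A) 𝔓 ≠ ⊥ := fun h0 => hne (by
      rw [← hfib 𝔓, show Ideal.comap φ 𝔓 = ⊥ from h0, ← RingHom.ker_eq_comap_bot,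
        (RingHom.injective_iff_ker_eq_bot _).1]
      intro a b hab
      have h1 := congrArg φ hab
      rw [hcompat, hcompat] at h1
      have h2 : π (MvPowerSeries.C (a - b)) = 0 := by rw [map_sub, map_sub, h1, sub_self]
      rw [Ideal.Quotient.eq_zero_iff_mem] at h2
      have h3 := (Groth.Agent.NodeAnalytic.mem_span_node_iff hrm hr _).1 h2 0
      rw [show (0 : ℤ) = ((0 : ℕ) : ℤ) - (0 : ℕ) by simp,
        Groth.Agent.NodeAnalytic.cN_of_reduced hrm (fun i j hi hj => by
          rw [MvPowerSeries.coeff_C, if_neg]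
          intro h
          have := congrArg (fun e : Fin 2 →₀ ℕ => e 0) h
          simp at this
          omega) (Or.inl rfl)] at h3
      simpa [Groth.Agent.NodeAnalytic.idx, sub_eq_zero] using h3)
    exact ⟨inferInstance, height_comap_eq_one (S := Bt) (T := A) 𝔓 hht hne', fun h0 => hne ((hfib 𝔓).symm.trans h0)⟩
  · calc 𝔓₁ = (Ideal.comap φ 𝔓₁).map φ := (hgen _ h₁.1 h₁.2.1 h₁.2.2).symm
      _ = (Ideal.comap φ 𝔓₂).map φ := congrArg (Ideal.map φ) he
      _ = 𝔓₂ := hgen _ h₂.1 h₂.2.1 h₂.2.2
  · obtain ⟨hp𝔮, hht, hne⟩ := h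
    haveI := hp𝔮
    obtain ⟨𝔓, h𝔓, hh, hc⟩ := exists_heightOne_over (S := Bt) (T := A) 𝔮 hht
    exact ⟨𝔓, ⟨h𝔓, hh, fun h0 => hne (by rw [← hc]; exact (hfib 𝔓).trans h0)⟩, hc⟩

end Groth.Agent.S17735
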