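import Groth.Prelude.Def_DerCA
import Groth.Agent.LC.ExtCechAcyclic
import Groth.Agent.LC.ExtCechZero
import Groth.Agent.LC.CohLoc

set_option autoImplicit false

universe u

open CategoryTheory Limits Pretriangulated HomotopyCategory

namespace Groth.Agent.S17778

open Groth.Agent.LC Groth.Agent.LC.ExtCech

variable {R : Type u} [CommRing R]

theorem isZero_locCx_degree (S : Submonoid R) (K : Cx R) (q : ℤ) (hK : IsZero (K.homology q)) :
    IsZero (((DerCA.locCx S).obj K).homology q) := by
  have h := (K.exactAt_iff' (q - 1) q (q + 1) (by simp) (by simp)).1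
    ((K.exactAt_iff_isZero_homology q).2 hK)
  rw [ShortComplex.moduleCat_exact_iff_ker_sub_range] at h
  refine ((DerCA.locCx S).obj K).exactAt_iff_isZero_homology q |>.1 ?_
  rw [((DerCA.locCx S).obj K).exactAt_iff' (q - 1) q (q + 1) (by simp) (by simp),
    ShortComplex.moduleCat_exact_iff]
  exact fun x hx => ((IsLocalizedModule.map_exact S (LocalizedModule.mkLinearMap S (K.X (q - 1)))
    (LocalizedModule.mkLinearMap S (K.X q)) (LocalizedModule.mkLinearMap S (K.X (q + 1)))
    (K.d (q - 1) q).hom (K.d q (q + 1)).hom (fun y => ⟨fun hy => h hy, fun ⟨z, hz⟩ => hz ▸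
      ConcreteCategory.congr_hom (K.d_comp_d (q - 1) q (q + 1)) z⟩)) x).1 hx

theorem isZero_shift_degree {K : Cx R} (a q : ℤ) (h : IsZero (K.homology (a + q))) :
    IsZero ((K⟦a⟧ : Cx R).homology q) :=
  h.of_iso (((HomologicalComplex.homologyFunctor (ModuleCat.{u} R) (ComplexShape.up ℤ) 0).shiftIso
    a q (a + q) rfl).app K)

theorem isZero_cone_degree {K L : Cx R} (φ : K ⟶ L) (m : ℤ)
    (hφ : Epi (HomologicalComplex.homologyMap φ m)) (hK : IsZero (K.homology (1 + m))) :
    IsZero ((CochainComplex.mappingCone φ).homology m) := by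
  refine (isZero_quotient_iff _ m).1 ?_
  let F := homologyFunctor (ModuleCat.{u} R) (ComplexShape.up ℤ) m
  have hT := mappingCone_triangleh_distinguished φ
  refine (F.map_distinguished_exact _ (rot_of_distTriang _ hT)).isZero_of_both_zeros ?_ ?_
  · have hzero := ((F.map_comp _ _).symm.trans (congrArg F.map (comp_distTriang_mor_zero₁₂ _ hT))).trans
      (F.map_zero _ _)
    haveI : Epi (HomologicalComplex.homologyMap φ m) := hφ
    haveI : Epi (F.map ((HomotopyCategory.quotient _ _).map φ)) := by
      let α := homologyFunctorFactors (ModuleCat.{u} R) (ComplexShape.up ℤ) m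
      haveI : Epi ((HomologicalComplex.homologyFunctor (ModuleCat.{u} R) (ComplexShape.up ℤ) m).map φ) := hφ
      have h : Epi (α.hom.app K ≫
          (HomologicalComplex.homologyFunctor (ModuleCat.{u} R) (ComplexShape.up ℤ) m).map φ ≫ α.inv.app L) :=
        inferInstance
      have h' := NatIso.naturality_1 α.symm φ
      exact (show _ = F.map ((HomotopyCategory.quotient _ _).map φ) from h') ▸ h
    exact (cancel_epi (F.map ((HomotopyCategory.quotient _ _).map φ))).1 (hzero.trans comp_zero.symm)
  · have h : IsZero ((homologyFunctor (ModuleCat.{u} R) (ComplexShape.up ℤ) m).obj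
        (((HomotopyCategory.quotient _ _).obj K)⟦(1 : ℤ)⟧)) :=
      ((isZero_quotient_iff (K⟦(1 : ℤ)⟧) m).2 (isZero_shift_degree 1 m hK)).of_iso
        ((homologyFunctor (ModuleCat.{u} R) (ComplexShape.up ℤ) m).mapIso
          (((HomotopyCategory.quotient (ModuleCat.{u} R) (ComplexShape.up ℤ)).commShiftIso (1 : ℤ)).app K).symm)
    exact h.eq_of_tgt _ _

variable [IsNoetherianRing R]

theorem exists_cocycle (E : ModuleCat.{u} R) [Module.Injective R E] (g : R) (fs : List R)
    (z : ((DerCA.locCx (Submonoid.powers g)).obj (DerCA.extCech E fs)).X 0)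
    (hz : (((DerCA.locCx (Submonoid.powers g)).obj (DerCA.extCech E fs)).d 0 1).hom z = 0) :
    ∃ w : (DerCA.extCech E fs).X 0, ((DerCA.extCech E fs).d 0 1).hom w = 0 ∧
      ((DerCA.locCxUnit (Submonoid.powers g) (DerCA.extCech E fs)).f 0).hom w = z := by
  obtain ⟨e, he⟩ := exists_X0_iso E fs
  let K := DerCA.extCech E fs
  obtain ⟨⟨x, ⟨_, n, rfl⟩⟩, rfl⟩ := IsLocalizedModule.mk'_surjective (Submonoid.powers g)
    (LocalizedModule.mkLinearMap (Submonoid.powers g) (K.X 0)) z
  simp only [Function.uncurry_apply_pair] at hz ⊢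
  have hd : IsLocalizedModule.map (Submonoid.powers g) (LocalizedModule.mkLinearMap (Submonoid.powers g) (K.X 0))
      (LocalizedModule.mkLinearMap (Submonoid.powers g) (K.X 1)) (K.d 0 1).hom
      (IsLocalizedModule.mk' (LocalizedModule.mkLinearMap (Submonoid.powers g) (K.X 0)) x
        (⟨g ^ n, n, rfl⟩ : Submonoid.powers g)) = 0 := hz
  rw [IsLocalizedModule.map_mk', IsLocalizedModule.mk'_eq_zero' (LocalizedModule.mkLinearMap (Submonoid.powers g) (K.X 1))] at hd
  obtain ⟨⟨_, k, rfl⟩, hk⟩ := hd
  let a := Ideal.span {r : R | r ∈ fs}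
  have hy : e.hom (g ^ k • x) ∈ DRing.torsionSub a E :=
    (mem_torsionSub_span_iff fs _).2 ((he _).1 ((map_smul _ _ _).trans hk))
  have hinj : Module.Injective R (DRing.torsionSub a E) := by
    rw [torsionSub_eq_iSup]; exact injective_torsion a
  obtain ⟨w, hw⟩ := surjective_mkLinearMap_of_injective (DRing.torsionSub a E) g
    (LocalizedModule.mk ⟨_, hy⟩ ⟨g ^ (n + k), _, rfl⟩)
  rw [LocalizedModule.mkLinearMap_apply, LocalizedModule.mk_eq] at hw
  obtain ⟨⟨_, t, rfl⟩, ht⟩ := hw
  simp only [Submonoid.smul_def, one_smul] at ht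
  have hei : e.hom (e.inv (w : E)) = w := ConcreteCategory.congr_hom e.inv_hom_id (w : E)
  refine ⟨e.inv (w : E), (he _).2 (hei.symm ▸ (mem_torsionSub_span_iff fs _).1 w.2), ?_⟩
  show LocalizedModule.mkLinearMap (Submonoid.powers g) (K.X 0) (e.inv (w : E)) = _
  rw [← IsLocalizedModule.mk'_one (Submonoid.powers g)
    (LocalizedModule.mkLinearMap (Submonoid.powers g) (K.X 0)), IsLocalizedModule.mk'_eq_mk'_iff]
  refine ⟨⟨g ^ (t + k), _, rfl⟩, ?_⟩
  simp only [Submonoid.smul_def, one_smul]
  have ht' : g ^ t • g ^ (n + k) • (w : E) = g ^ t • e.hom (g ^ k • x) := congrArg Subtype.val ht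
  apply (ConcreteCategory.bijective_of_isIso e.hom).1
  show e.hom.hom _ = e.hom.hom _
  simp only [map_smul]
  rw [map_smul] at ht'
  have hei' : e.hom.hom (e.inv (w : E)) = w := hei
  rw [hei']
  simpa [smul_smul, pow_add, mul_comm, mul_left_comm, mul_assoc] using ht'.symm

theorem isZero_homology_ne_zero (E : ModuleCat.{u} R) [Module.Injective R E] :
    ∀ (fs : List R) (q : ℤ), q ≠ 0 → IsZero ((DerCA.extCech E fs).homology q)
  | [], q, hq => by
    rw [← HomologicalComplex.exactAt_iff_isZero_homology]
    exact ShortComplex.exact_of_isZero_X₂ _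
      (HomologicalComplex.isZero_single_obj_X (ComplexShape.up ℤ) 0 E q hq)
  | g :: fs, q, hq => by
    let K := DerCA.extCech E fs
    show IsZero ((CochainComplex.mappingCocone (DerCA.locCxUnit (Submonoid.powers g) K)).homology q)
    refine isZero_shift_degree (-1) q (isZero_cone_degree _ _ ?_ (isZero_homology_ne_zero E fs _ (by omega)))
    rcases eq_or_ne (-1 + q) 0 with h0 | h0
    · rw [h0]
      let L := (DerCA.locCx (Submonoid.powers g)).obj K
      let φ : K ⟶ L := DerCA.locCxUnit (Submonoid.powers g) K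
      have : Epi (HomologicalComplex.cyclesMap φ 0) := by
        rw [ModuleCat.epi_iff_surjective]
        intro c
        have hc : (L.d 0 1).hom ((L.iCycles 0).hom c) = 0 :=
          ConcreteCategory.congr_hom (L.iCycles_d 0 1) c
        obtain ⟨w, hw, hwc⟩ := exists_cocycle E g fs _ hc
        refine ⟨K.cyclesMk w 1 (by simp) hw, (ModuleCat.mono_iff_injective (L.iCycles 0)).1 inferInstance ?_⟩
        have h := ConcreteCategory.congr_hom (HomologicalComplex.cyclesMap_i φ 0) (K.cyclesMk w 1 (by simp) hw)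
        refine h.trans ?_
        exact (congrArg (φ.f 0).hom (K.i_cyclesMk w 1 (by simp) hw)).trans hwc
      have : Epi (K.homologyπ 0 ≫ HomologicalComplex.homologyMap φ 0) := by
        rw [HomologicalComplex.homologyπ_naturality]
        infer_instance
      exact epi_of_epi (K.homologyπ 0) _
    · exact ⟨fun _ _ _ => (isZero_locCx_degree _ K _ (isZero_homology_ne_zero E fs _ h0)).eq_of_src _ _⟩

/-- Let R be a Noetherian commutative ring, x_1, …, x_n a finite list of elements of R and E an
injective R-module. Then the cohomology of the extended Čech complex of E on x_1, …, x_n vanishes in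
every positive degree. -/
theorem result (R : Type u) [CommRing R] [IsNoetherianRing R] (fs : List R) (E : Type u) [AddCommGroup E] [Module R E] [Module.Injective R E] (q : ℤ) (hq : 1 ≤ q) : IsZero (DerCA.extCechH fs (ModuleCat.of R E) q) :=
  haveI : Module.Injective R ↥(ModuleCat.of R E) := ‹_›
  isZero_homology_ne_zero (ModuleCat.of R E) fs q (by omega)

end Groth.Agent.S17778
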