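import Groth.Statements.S17803
import Groth.Agent.FormalFib6.Cplt
import Groth.Agent.FlatLoc6.GeomComp
import Groth.Agent.FlatLoc6.GeomProp
import Groth.Agent.CplFib6.Excellent
import Groth.Agent.S5785

set_option autoImplicit false
universe u
open EGA4

namespace Groth.Agent.S17803

/-- Let A be an excellent normal domain which is a quotient of a regular ring, I an ideal of A and f ∈
A. Then the I-adic completion of the localization A_f is a normal ring (its localization at every
prime ideal is an integrally closed domain), and it is a quotient of a regular ring. -/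
theorem result (A : Type u) [CommRing A] [IsDomain A] [IsIntegrallyClosed A] (hexc : EGA4.IsExcellent A) (hreg : ∃ (R : Type u) (_ : CommRing R) (_ : IsRegularRing R) (φ : R →+* A), Function.Surjective φ) (I : Ideal A) (f : A) : EGA4.IsNormalRing (AdicCompletion (I.map (algebraMap A (Localization.Away f))) (Localization.Away f)) ∧ ∃ (R' : Type u) (_ : CommRing R') (_ : IsRegularRing R') (ψ : R' →+* AdicCompletion (I.map (algebraMap A (Localization.Away f))) (Localization.Away f)), Function.Surjective ψ := by
  classical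
  obtain ⟨R, _, _, φ, hφ⟩ := hreg
  obtain ⟨g, hg⟩ := hφ f
  haveI := hexc.1
  let B := Localization.Away f
  haveI : IsNoetherianRing B := IsLocalization.isNoetherianRing (Submonoid.powers f) B inferInstance
  let IB : Ideal B := I.map (algebraMap A B)
  let Bh := AdicCompletion IB B
  haveI : IsNoetherianRing Bh := Groth.Agent.FormalFib6.isNoetherianRing_adicCompletion B IB
  have hG : CAlg.IsGRing B := Groth.Agent.CplFib6.isGRing_localization hexc.2.2.1 (Submonoid.powers f) B
  have hgn : ∀ (p : Ideal B) [p.IsPrime], EGA4.HasGeomNormalFormalFibres (Localization.AtPrime p) := fun p _ => by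
    haveI : IsNoetherianRing (EGA4.Cpl (Localization.AtPrime p)) := Groth.Agent.FlatLoc6.isNoetherianRing_cpl _
    exact (Groth.Agent.FlatLoc6.isNormalHom_of_isRegularHom (Localization.AtPrime p) (EGA4.Cpl (Localization.AtPrime p)) (hG.2 p)).2
  have hN := Groth.Agent.FormalFib6.isNormalHom_adicCompletion B hgn IB
  have hA : EGA4.IsNormalRing A := fun p _ =>
    ⟨IsLocalization.isDomain_of_atPrime _ p,
      isIntegrallyClosed_of_isLocalization (Localization.AtPrime p) p.primeCompl p.primeCompl_le_nonZeroDivisors⟩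
  have hB : EGA4.IsNormalRing B :=
    Groth.Agent.FlatLoc6.isNormalRing_of_isLocalization (Submonoid.powers f) B hA
  haveI : Module.Flat B Bh := hN.1
  refine ⟨Groth.Agent.FlatLoc6.normal_of_flat_of_fibres B Bh hB fun p _ => ?_, ?_⟩
  · have h1 := hN.2 p p.ResidueField inferInstance
    exact Groth.Agent.FlatLoc6.isNormalRing_of_ringEquiv (Algebra.TensorProduct.lid p.ResidueField (p.Fiber Bh)).toRingEquiv h1
  -- a regular ring mapping onto the completion
  subst hg
  let R' := Localization.Away g
  haveI : IsRegularRing R' := Groth.Agent.GeomReg.isRegularRing_of_isLocalization (Submonoid.powers g) R'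
  haveI : IsNoetherianRing R' := inferInstance
  have hmap : Submonoid.powers g ≤ (Submonoid.powers (φ g)).comap φ := by
    rintro _ ⟨n, rfl⟩
    exact ⟨n, (map_pow φ g n).symm⟩
  let φ' : R' →+* B := IsLocalization.map B φ hmap
  have hφ' : Function.Surjective φ' := fun b => by
    obtain ⟨a, s, rfl⟩ := IsLocalization.exists_mk'_eq (Submonoid.powers (φ g)) b
    obtain ⟨a, rfl⟩ := hφ a
    obtain ⟨_, n, rfl⟩ := s
    refine ⟨IsLocalization.mk' R' a (⟨g ^ n, n, rfl⟩ : Submonoid.powers g), ?_⟩
    rw [IsLocalization.map_mk']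
    exact congrArg _ (Subtype.ext (map_pow φ g n))
  let J : Ideal R' := IB.comap φ'
  have hJ : J.map φ' = IB := Ideal.map_comap_of_surjective _ hφ' _
  let Rh := AdicCompletion J R'
  haveI : IsRegularRing Rh := Groth.Agent.S5785.result R' J
  let q : ∀ n, Rh →+* B ⧸ IB ^ n := fun n =>
    (Ideal.quotientMap (IB ^ n) φ' (by rw [← Ideal.map_le_iff_le_comap, Ideal.map_pow, hJ])).comp
      (AdicCompletion.evalₐ J n).toRingHom
  have hq : ∀ {m n : ℕ} (hle : m ≤ n), (Ideal.Quotient.factorPow IB hle).comp (q n) = q m := by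
    intro m n hle
    refine RingHom.ext fun x => ?_
    obtain ⟨a, rfl⟩ := AdicCompletion.mk_surjective J R' x
    simp only [q, RingHom.comp_apply, AlgHom.toRingHom_eq_coe, RingHom.coe_coe, AdicCompletion.evalₐ_mk,
      Ideal.quotientMap_mk]
    show Ideal.Quotient.mk _ (φ' (a n)) = Ideal.Quotient.mk _ (φ' (a m))
    rw [Ideal.Quotient.eq, ← map_sub]
    have h1 : a n - a m ∈ J ^ m := by simpa using neg_mem (SModEq.sub_mem.1 (a.property hle))
    rw [← hJ, ← Ideal.map_pow]
    exact Ideal.mem_map_of_mem _ h1
  let ψ : Rh →+* Bh := AdicCompletion.liftRingHom IB q hq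
  have hψ : ∀ r : R', ψ (algebraMap R' Rh r) = algebraMap B Bh (φ' r) := fun r => by
    refine AdicCompletion.ext_evalₐ fun n => ?_
    rw [AdicCompletion.evalₐ_liftRingHom, AlgHom.commutes]
    simp only [q, RingHom.comp_apply, AlgHom.toRingHom_eq_coe, RingHom.coe_coe, AlgHom.commutes]
    rfl
  refine ⟨Rh, inferInstance, inferInstance, ψ, ?_⟩
  have hfg : IB.FG := IsNoetherian.noetherian _
  haveI := AdicCompletion.isAdicComplete_self IB hfg
  haveI := AdicCompletion.isAdicComplete_self J (IsNoetherian.noetherian _)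
  have hI : (J.map (algebraMap R' Rh)).map ψ = IB.map (algebraMap B Bh) := by
    rw [Ideal.map_map, show ψ.comp (algebraMap R' Rh) = (algebraMap B Bh).comp φ' from RingHom.ext hψ,
      ← Ideal.map_map, hJ]
  haveI : IsHausdorff ((J.map (algebraMap R' Rh)).map ψ) Bh := by
    rw [hI]; infer_instance
  refine surjective_of_mk_map_comp_surjective (I := J.map (algebraMap R' Rh)) ψ fun z => ?_
  obtain ⟨z, rfl⟩ := Ideal.Quotient.mk_surjective z
  obtain ⟨b, hb⟩ := Ideal.Quotient.mk_surjective (AdicCompletion.evalOneₐ IB z)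
  obtain ⟨r, rfl⟩ := hφ' b
  refine ⟨algebraMap R' Rh r, Ideal.Quotient.eq.2 ?_⟩
  rw [hI, hψ, ← AdicCompletion.ker_evalOneₐ_eq_map IB hfg, RingHom.mem_ker]
  show AdicCompletion.evalOneₐ IB (algebraMap B Bh (φ' r) - z) = 0
  rw [map_sub, AlgHom.commutes, ← hb, Ideal.Quotient.algebraMap_eq, sub_self]

end Groth.Agent.S17803
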