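import Groth.Statements.S17807
import Groth.Agent.JacTheta.Twist
import Groth.Agent.Lib.CurveStable

set_option autoImplicit false
universe u
open CategoryTheory CategoryTheory.Limits AlgebraicGeometry
open JacVar

namespace Groth.Agent.S17807

/-- Let C be a smooth proper geometrically connected curve of genus g > 0 over a field k with a
k-rational point, and let L be an invertible module on C with h¹(C, L) > 0. Under these hypotheses,
C contains some nonempty open U with the following property: whenever Q is a k-rational point of C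
and M is an invertible module satisfying M ⊗ I_Q ≅ L (so M is L(Q)), one has h¹(C, M) = h¹(C, L) − 1
if Q belongs to U, and h¹(C, M) = h¹(C, L) if Q does not. (The published statement is phrased for
all closed points Q; for a closed point of degree d > 1 the drop can exceed one, so this row states
it for k-rational points Q.) -/
theorem result (k : Type u) [Field k]
    (C : Scheme.{u}) [C.Over (Spec (CommRingCat.of k))]
    [IsProper (C ↘ Spec (CommRingCat.of k))] [Smooth (C ↘ Spec (CommRingCat.of k))] [GeometricallyConnected (C ↘ Spec (CommRingCat.of k))]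
    (hdim : topologicalKrullDim ↥C = 1)
    (hg : 0 < Curv2.genus k C)
    (σ₀ : Spec (CommRingCat.of k) ⟶ C) (hσ₀ : σ₀ ≫ (C ↘ Spec (CommRingCat.of k)) = 𝟙 _)
    (L : C.Modules) (hL : PicF.IsInvertible L) (hL1 : 0 < Module.finrank k (Coh.HH C L 1)) :
    ∃ U : C.Opens, (U : Set ↥C).Nonempty ∧
      ∀ (σ : Spec (CommRingCat.of k) ⟶ C) (hσ : σ ≫ (C ↘ Spec (CommRingCat.of k)) = 𝟙 _) (M : C.Modules) (hM : PicF.IsInvertible M)
        (hML : Nonempty (CohB1.tensorMod M (ClSub.idealMod σ.ker) ≅ L)),
        ((∀ p, σ.base p ∈ U) → Module.finrank k (Coh.HH C M 1) = Module.finrank k (Coh.HH C L 1) - 1) ∧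
        ((∀ p, σ.base p ∉ U) → Module.finrank k (Coh.HH C M 1) = Module.finrank k (Coh.HH C L 1)) := by
  open Groth.Agent.JacTheta Groth.Agent.H23 in
  open scoped Groth.Agent.H23.PicMul in
  · haveI := CurveStable.isIntegral_of_geometricallyConnected k (X := C)
    let d : LB C := can k hdim * (lb L hL)⁻¹
    have hd : hh k 0 (d : PicF.Cl C) = Module.finrank k (Coh.HH C L 1) := by
      rw [← serre hdim, lb_val, hh_cl]
    obtain ⟨B, -, hcl, hne, hB⟩ := exists_base_locus hdim d (hd ▸ hL1)
    refine ⟨⟨Bᶜ, hcl.isOpen_compl⟩, hne, fun σ hσ M hM hML => ?_⟩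
    let x : Pt k C := ⟨σ, hσ⟩
    have hc : lb M hM = lb L hL * O hdim x := by
      rw [← mul_inv_eq_iff_eq_mul, Units.ext_iff, Units.val_mul, lb_val, lb_val, O_inv_val,
        ← PicMul.cl_tensor]
      exact PicMul.cl_eq_iff.2 hML
    have h1 : Module.finrank k (Coh.HH C M 1) = hh k 0 ((d * (O hdim x)⁻¹ : LB C) : PicF.Cl C) := by
      rw [← hh_cl, ← lb_val M hM, serre hdim, hc, mul_inv, ← mul_assoc]
    refine ⟨fun h => ?_, fun h => ?_⟩
    · have := (hB x).1 (h (IsLocalRing.closedPoint k))
      omega
    · have := (hB x).2 (not_not.1 (h (IsLocalRing.closedPoint k)))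
      omega

end Groth.Agent.S17807
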