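import Groth.Statements.S17808
import Groth.Agent.JacTheta.General
import Groth.Agent.Lib.CurveStable

set_option autoImplicit false
universe u
open CategoryTheory CategoryTheory.Limits AlgebraicGeometry
open JacVar

namespace Groth.Agent.S17808

/-- Let C be a smooth proper connected curve of genus g > 0 over an algebraically closed field k (with a
chosen point), and let r ≤ g. Then there is a nonempty open subset U of the r-fold fibre power C ×_k
⋯ ×_k C such that for every k-point (P_1, …, P_r) of U (closed points, k being algebraically closed)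
and every invertible module M on C with M ⊗ I_{P_1} ⊗ ⋯ ⊗ I_{P_r} ≅ O_C (so M is O(P_1 + ⋯ + P_r)),
h⁰(C, M) = 1. (The published statement, over the ground field of the section, says only that U is
open; this row also asserts that U is non-empty; k is taken algebraically closed so that the
k-points of U are its closed points.) -/
theorem result (k : Type u) [Field k] [IsAlgClosed k]
    (C : Scheme.{u}) [C.Over (Spec (CommRingCat.of k))]
    [IsProper (C ↘ Spec (CommRingCat.of k))] [Smooth (C ↘ Spec (CommRingCat.of k))] [GeometricallyConnected (C ↘ Spec (CommRingCat.of k))]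
    (hdim : topologicalKrullDim ↥C = 1)
    (hg : 0 < Curv2.genus k C)
    (σ₀ : Spec (CommRingCat.of k) ⟶ C) (hσ₀ : σ₀ ≫ (C ↘ Spec (CommRingCat.of k)) = 𝟙 _)
    (r : ℕ) (hr : r ≤ Curv2.genus k C) :
    ∃ U : (SymProd.fibPow (C ↘ Spec (CommRingCat.of k)) r).Opens, (U : Set ↥(SymProd.fibPow (C ↘ Spec (CommRingCat.of k)) r)).Nonempty ∧
      ∀ (x : Spec (CommRingCat.of k) ⟶ SymProd.fibPow (C ↘ Spec (CommRingCat.of k)) r)
        (hx : x ≫ WidePullback.base (fun (_ : Fin r) => (C ↘ Spec (CommRingCat.of k))) = 𝟙 _)
        (hxU : ∀ p, x.base p ∈ U) (M : C.Modules) (hM : PicF.IsInvertible M)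
        (hMD : Nonempty (CohB1.tensorMod M (FGA.tensorList (List.ofFn fun i : Fin r =>
          ClSub.idealMod (x ≫ WidePullback.π (fun (_ : Fin r) => (C ↘ Spec (CommRingCat.of k))) i).ker)) ≅ Coh.structureModule C)),
        Module.finrank k (Coh.HH C M 0) = 1 := by
  open Groth.Agent.JacTheta Groth.Agent.H23 in
  open scoped Groth.Agent.H23.PicMul in
  · haveI := CurveStable.isIntegral_of_geometricallyConnected k (X := C)
    obtain ⟨U, hne, hU⟩ := exists_open hdim (exists_pt (k := k) hdim) (can k hdim) r
    refine ⟨U, hne, fun x hx hxU M hM hMD => ?_⟩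
    have h1 := PicMul.cl_eq_iff.2 hMD
    rw [PicMul.cl_tensor, cl_tensorList_ofFn hdim (powPt x hx), ← lb_val M hM, ← PicMul.one_def, ← Units.val_mul,
      Units.val_eq_one, mul_inv_eq_one] at h1
    have h2 := rr hdim (k := k) (lb M hM)
    rw [serre hdim, h1, hU x hx hxU, hh_can_zero hdim, dgr_prod hdim] at h2
    simp only [dgr_O, Finset.sum_const, Finset.card_univ, Fintype.card_fin, nsmul_one] at h2
    rw [← hh_cl, ← lb_val M hM, h1]
    omega

end Groth.Agent.S17808
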