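import Groth.Statements.S17812
import Groth.Agent.JacTheta.WSets

set_option autoImplicit false
universe u
open CategoryTheory CategoryTheory.Limits AlgebraicGeometry MonoidalCategory CartesianMonoidalCategory MonObj
open JacVar

namespace Groth.Agent.S17812

/-- Let k be an algebraically closed field, C a smooth proper connected curve of genus g ≥ 2 over k with
a k-point P, (J, ψ) its Jacobian (a commutative group scheme over k, coarse moduli scheme on all
k-schemes for degree-0 line bundles modulo twisting from the base, group law induced by tensor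
product) and j : C ⟶ J the Abel map with base point P. Write W^r ⊂ J for the image of the r-fold
product C ×_k ⋯ ×_k C under (x_1, …, x_r) ↦ j(x_1) ⋯ j(x_r) (the image of the r-th symmetric power;
W^0 is the origin), and W^r_a for its translate by a k-point a of J. Then for 0 ≤ r ≤ g − 1 and
k-points a, b of J one has W^r_a ⊆ W^{g−1}_b if and only if a lies in W^{g−1−r}_b (inclusions of
sets of points of J). -/
theorem result (k : Type u) [Field k] [IsAlgClosed k]
    (C : Scheme.{u}) [C.Over (Spec (CommRingCat.of k))]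
    [IsProper (C ↘ Spec (CommRingCat.of k))] [Smooth (C ↘ Spec (CommRingCat.of k))] [GeometricallyConnected (C ↘ Spec (CommRingCat.of k))]
    (hdim : topologicalKrullDim ↥C = 1)
    (g : ℕ) (hg : Curv2.genus k C = g) (hg2 : 2 ≤ g)
    (σ : Spec (CommRingCat.of k) ⟶ C) (hσ : σ ≫ (C ↘ Spec (CommRingCat.of k)) = 𝟙 _)
    (J : Over (Spec (CommRingCat.of k))) [GrpObj J] [IsCommMonObj J]
    (ψ : (ModFun.PicDeg (C ↘ Spec (CommRingCat.of k)) 0).Hom ⊤ J) (hJ : Jac.IsJacobian (C ↘ Spec (CommRingCat.of k)) ⊤ J ψ)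
    (j : Over.mk (C ↘ Spec (CommRingCat.of k)) ⟶ J) (hj : Jac.IsAbelJacobiAt (C ↘ Spec (CommRingCat.of k)) σ ψ j)
    (r : ℕ) (hr : r ≤ g - 1) (a b : 𝟙_ (Over (Spec (CommRingCat.of k))) ⟶ J) :
    ((Jac.transl J a).left.base '' Set.range ((List.ofFn fun i : Fin r =>
        (Over.homMk (WidePullback.π (fun (_ : Fin r) => (C ↘ Spec (CommRingCat.of k))) i)
          (WidePullback.π_arrow (fun (_ : Fin r) => (C ↘ Spec (CommRingCat.of k))) i) : Over.mk (WidePullback.base fun (_ : Fin r) => (C ↘ Spec (CommRingCat.of k))) ⟶ Over.mk (C ↘ Spec (CommRingCat.of k))) ≫ j).prod).left.base) ⊆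
      ((Jac.transl J b).left.base '' Set.range ((List.ofFn fun i : Fin (g - 1) =>
        (Over.homMk (WidePullback.π (fun (_ : Fin (g - 1)) => (C ↘ Spec (CommRingCat.of k))) i)
          (WidePullback.π_arrow (fun (_ : Fin (g - 1)) => (C ↘ Spec (CommRingCat.of k))) i) : Over.mk (WidePullback.base fun (_ : Fin (g - 1)) => (C ↘ Spec (CommRingCat.of k))) ⟶ Over.mk (C ↘ Spec (CommRingCat.of k))) ≫ j).prod).left.base) ↔
    ∀ p, a.left.base p ∈ ((Jac.transl J b).left.base '' Set.range ((List.ofFn fun i : Fin (g - 1 - r) =>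
        (Over.homMk (WidePullback.π (fun (_ : Fin (g - 1 - r)) => (C ↘ Spec (CommRingCat.of k))) i)
          (WidePullback.π_arrow (fun (_ : Fin (g - 1 - r)) => (C ↘ Spec (CommRingCat.of k))) i) : Over.mk (WidePullback.base fun (_ : Fin (g - 1 - r)) => (C ↘ Spec (CommRingCat.of k))) ⟶ Over.mk (C ↘ Spec (CommRingCat.of k))) ≫ j).prod).left.base) := by
  open Groth.Agent.JacTheta Groth.Agent.H23 in
  open scoped Groth.Agent.H23.PicMul in
  · haveI := CurveStable.isIntegral_of_geometricallyConnected k (X := C)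
    obtain ⟨A, hA, rfl⟩ := ptJ_surj hJ a
    obtain ⟨B, hB, rfl⟩ := ptJ_surj hJ b
    let P0 : LB C := O hdim ⟨σ, hσ⟩
    rw [forall_rpt]
    refine (W_subset_iff hdim hσ hJ hj r (g - 1) hA hB).trans ?_
    refine Iff.trans ?_ (rpt_mem_W_iff hdim hσ hJ hj (g - 1 - r) hA hB).symm
    have hL : dgr k ((A * B⁻¹ * P0 ^ (g - 1 - r) : LB C) : PicF.Cl C) = ((g - 1 - r : ℕ) : ℤ) := by
      rw [dgr_mul hdim, dgr_mul hdim, dgr_inv hdim, dgr_pow hdim, hA, hB, dgr_O hdim]
      ring
    refine Iff.trans ?_ (exists_eq_Dv_iff hdim (g - 1 - r) _ hL).symm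
    refine Iff.trans ?_ (forall_hh_pos_iff hdim r _ (by rw [hL, hg]; omega))
    refine forall_congr' fun x => ?_
    have hx : shift hdim hσ x * A * B⁻¹ * P0 ^ (g - 1) = A * B⁻¹ * P0 ^ (g - 1 - r) * Dv hdim x := by
      have e : P0 ^ (g - 1) = P0 ^ (g - 1 - r) * P0 ^ r := by rw [← pow_add, Nat.sub_add_cancel hr]
      rw [shift, e]
      simp [P0, mul_comm, mul_left_comm, _root_.mul_assoc]
    rw [← hx]
    refine exists_eq_Dv_iff hdim (g - 1) _ ?_
    rw [hx, dgr_mul hdim, hL, dgr_Dv hdim]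
    omega

end Groth.Agent.S17812
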