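import Groth.Statements.S17813
import Groth.Agent.JacTheta.WSets

set_option autoImplicit false
universe u
open CategoryTheory CategoryTheory.Limits AlgebraicGeometry MonoidalCategory CartesianMonoidalCategory MonObj
open JacVar

namespace Groth.Agent.S17813

/-- Let k be an algebraically closed field, C a smooth proper connected curve of genus g ≥ 2 over k with
a k-point P, (J, ψ) its Jacobian (a commutative group scheme over k, coarse moduli scheme on all
k-schemes for degree-0 line bundles modulo twisting from the base, group law induced by tensor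
product) and j : C ⟶ J the Abel map with base point P. Write W^r ⊂ J for the image of the r-fold
product C ×_k ⋯ ×_k C under (x_1, …, x_r) ↦ j(x_1) ⋯ j(x_r) (the image of the r-th symmetric power;
W^0 is the origin), and W^r_a for its translate by a k-point a of J. Then for 0 ≤ r ≤ g − 1 the set
W^{g−1−r} is the intersection of the translates W^{g−1}_{a⁻¹} over all k-points a of J lying in W^r.
(The companion equality for the images under x ↦ κ·x⁻¹, κ the image of a canonical divisor, is not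
stated.) -/
theorem result (k : Type u) [Field k] [IsAlgClosed k]
    (C : Scheme.{u}) [C.Over (Spec (CommRingCat.of k))]
    [IsProper (C ↘ Spec (CommRingCat.of k))] [Smooth (C ↘ Spec (CommRingCat.of k))] [GeometricallyConnected (C ↘ Spec (CommRingCat.of k))]
    (hdim : topologicalKrullDim ↥C = 1)
    (g : ℕ) (hg : Curv2.genus k C = g) (hg2 : 2 ≤ g)
    (σ : Spec (CommRingCat.of k) ⟶ C) (hσ : σ ≫ (C ↘ Spec (CommRingCat.of k)) = 𝟙 _)
    (J : Over (Spec (CommRingCat.of k))) [GrpObj J] [IsCommMonObj J]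
    (ψ : (ModFun.PicDeg (C ↘ Spec (CommRingCat.of k)) 0).Hom ⊤ J) (hJ : Jac.IsJacobian (C ↘ Spec (CommRingCat.of k)) ⊤ J ψ)
    (j : Over.mk (C ↘ Spec (CommRingCat.of k)) ⟶ J) (hj : Jac.IsAbelJacobiAt (C ↘ Spec (CommRingCat.of k)) σ ψ j)
    (r : ℕ) (hr : r ≤ g - 1) :
    Set.range ((List.ofFn fun i : Fin (g - 1 - r) =>
        (Over.homMk (WidePullback.π (fun (_ : Fin (g - 1 - r)) => (C ↘ Spec (CommRingCat.of k))) i)
          (WidePullback.π_arrow (fun (_ : Fin (g - 1 - r)) => (C ↘ Spec (CommRingCat.of k))) i) : Over.mk (WidePullback.base fun (_ : Fin (g - 1 - r)) => (C ↘ Spec (CommRingCat.of k))) ⟶ Over.mk (C ↘ Spec (CommRingCat.of k))) ≫ j).prod).left.base =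
      ⋂ (a : 𝟙_ (Over (Spec (CommRingCat.of k))) ⟶ J) (_ : ∀ p, a.left.base p ∈ Set.range ((List.ofFn fun i : Fin r =>
        (Over.homMk (WidePullback.π (fun (_ : Fin r) => (C ↘ Spec (CommRingCat.of k))) i)
          (WidePullback.π_arrow (fun (_ : Fin r) => (C ↘ Spec (CommRingCat.of k))) i) : Over.mk (WidePullback.base fun (_ : Fin r) => (C ↘ Spec (CommRingCat.of k))) ⟶ Over.mk (C ↘ Spec (CommRingCat.of k))) ≫ j).prod).left.base),
        ((Jac.transl J a⁻¹).left.base '' Set.range ((List.ofFn fun i : Fin (g - 1) =>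
        (Over.homMk (WidePullback.π (fun (_ : Fin (g - 1)) => (C ↘ Spec (CommRingCat.of k))) i)
          (WidePullback.π_arrow (fun (_ : Fin (g - 1)) => (C ↘ Spec (CommRingCat.of k))) i) : Over.mk (WidePullback.base fun (_ : Fin (g - 1)) => (C ↘ Spec (CommRingCat.of k))) ⟶ Over.mk (C ↘ Spec (CommRingCat.of k))) ≫ j).prod).left.base) := by
  open Groth.Agent.JacTheta Groth.Agent.H23 in
  open scoped Groth.Agent.H23.PicMul in
  · haveI := CurveStable.isIntegral_of_geometricallyConnected k (X := C)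
    have : ∀ n, IsProper (Pw k C n).hom := isProper_base _
    let P0 : LB C := O hdim ⟨σ, hσ⟩
    have key : ∀ (e : LB C), dgr k (e : PicF.Cl C) = 0 →
        ((∃ y : Fin (g - 1 - r) → Pt k C, e * P0 ^ (g - 1 - r) = Dv hdim y) ↔
          ∀ x : Fin r → Pt k C, ∃ y : Fin (g - 1) → Pt k C,
            e * (shift hdim hσ x)⁻¹⁻¹ * P0 ^ (g - 1) = Dv hdim y) := by
      intro e he
      have hL : dgr k ((e * P0 ^ (g - 1 - r) : LB C) : PicF.Cl C) = ((g - 1 - r : ℕ) : ℤ) := by
        rw [dgr_mul hdim, dgr_pow hdim, he, dgr_O hdim]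
        ring
      refine (exists_eq_Dv_iff hdim (g - 1 - r) _ hL).trans ?_
      refine (forall_hh_pos_iff hdim r _ (by rw [hL, hg]; omega)).symm.trans ?_
      refine forall_congr' fun x => ?_
      have hx : e * (shift hdim hσ x)⁻¹⁻¹ * P0 ^ (g - 1) = e * P0 ^ (g - 1 - r) * Dv hdim x := by
        have e1 : P0 ^ (g - 1) = P0 ^ (g - 1 - r) * P0 ^ r := by rw [← pow_add, Nat.sub_add_cancel hr]
        rw [inv_inv, shift, e1]
        simp only [P0]
        simp [mul_comm, mul_left_comm, _root_.mul_assoc]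
      rw [hx]
      refine (exists_eq_Dv_iff hdim (g - 1) _ ?_).symm
      rw [dgr_mul hdim, hL, dgr_Dv hdim]
      omega
    apply Set.Subset.antisymm
    · refine Set.subset_iInter fun a => Set.subset_iInter fun ha => ?_
      rw [forall_rpt] at ha
      obtain ⟨z, rfl⟩ := (rpt_mem_range_iff (Wm j r) a).1 ha
      rw [comp_Wm hdim hσ hJ hj, ← ptJ_inv hdim hJ (dgr_shift hdim hσ _)]
      have hc : IsClosed ((Jac.transl J (ptJ ψ (shift hdim hσ (coords z))⁻¹)).left.base ''
          Set.range (Wm j (g - 1)).left.base) := by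
        rw [image_range]; exact isClosed_range _
      refine (range_subset_iff _ hc).2 fun w => ?_
      rw [comp_Wm hdim hσ hJ hj]
      refine (rpt_mem_W_iff hdim hσ hJ hj (g - 1) (dgr_shift hdim hσ _)
        (by rw [dgr_inv hdim, dgr_shift hdim, neg_zero])).2 ((key _ (dgr_shift hdim hσ _)).1 ?_ _)
      exact ⟨coords w, by rw [shift, inv_mul_cancel_right]⟩
    · intro p hp
      obtain ⟨u, hu⟩ : ∃ u, rpt (ptJ ψ (shift hdim hσ u)) ∈ Set.range (Wm j r).left.base :=
        ⟨fun _ => ⟨σ, hσ⟩, by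
          rw [← coords_ofCoords (fun _ : Fin r => (⟨σ, hσ⟩ : Pt k C)), ← comp_Wm hdim hσ hJ hj]
          exact (rpt_mem_range_iff (Wm j r) _).2 ⟨_, rfl⟩⟩
      have h0 := Set.mem_iInter₂.1 hp (ptJ ψ (shift hdim hσ u)) ((forall_rpt _ _).2 hu)
      rw [image_range] at h0
      obtain ⟨q, rfl⟩ := h0
      let φ := Wm j (g - 1) ≫ Jac.transl J (ptJ ψ (shift hdim hσ u))⁻¹
      let Z : Set J.left := ⋂ (a : 𝟙_ (Over (Spec (CommRingCat.of k))) ⟶ J) (_ : ∀ p, a.left.base p ∈ Set.range (Wm j r).left.base),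
        ((Jac.transl J a⁻¹).left.base '' Set.range (Wm j (g - 1)).left.base)
      show φ.left q ∈ Set.range (Wm j (g - 1 - r)).left.base
      have hqZ : φ.left q ∈ Z := hp
      have := LocallyOfFiniteType.jacobsonSpace (Pw k C (g - 1)).hom
      have hZ : IsClosed Z := isClosed_iInter fun a => isClosed_iInter fun _ => by
        rw [image_range]; exact isClosed_range _
      by_contra hq
      obtain ⟨y, ⟨hy1, hy2⟩, hyc⟩ := nonempty_inter_closedPoints
        (Z := (φ.left ⁻¹' Z) ∩ (φ.left ⁻¹' Set.range (Wm j (g - 1 - r)).left.base)ᶜ)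
        ⟨q, hqZ, hq⟩ (IsLocallyClosed.inter (hZ.preimage φ.left.continuous).isLocallyClosed
          ((isClosed_range (Wm j (g - 1 - r))).preimage φ.left.continuous).isOpen_compl.isLocallyClosed)
      refine hy2 ?_
      let w := AVFac.ptAt y (mem_closedPoints_iff.1 hyc)
      have hw : rpt (w ≫ φ) = φ.left y := by rw [rpt_comp, rpt, AVFac.ptAt_apply]
      obtain ⟨e, he, hwe⟩ := ptJ_surj hJ (w ≫ φ)
      show φ.left y ∈ Set.range (Wm j (g - 1 - r)).left.base
      rw [← hw, ← hwe]
      refine (rpt_mem_W₀_iff hdim hσ hJ hj _ he).2 ((key e he).2 fun x => ?_)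
      have h1 := Set.mem_iInter₂.1 (show φ.left y ∈ Z from hy1) (ptJ ψ (shift hdim hσ x)) ((forall_rpt _ _).2 (by
          rw [← coords_ofCoords x, ← comp_Wm hdim hσ hJ hj]
          exact (rpt_mem_range_iff (Wm j r) _).2 ⟨_, rfl⟩))
      rw [← hw, ← hwe, ← ptJ_inv hdim hJ (dgr_shift hdim hσ _)] at h1
      exact (rpt_mem_W_iff hdim hσ hJ hj (g - 1) he (by rw [dgr_inv hdim, dgr_shift hdim, neg_zero])).1 h1

end Groth.Agent.S17813
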