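import Groth.Statements.S19877
import Groth.Agent.JacTheta.Rigid

set_option autoImplicit false
universe u
open CategoryTheory CategoryTheory.Limits AlgebraicGeometry MonoidalCategory CartesianMonoidalCategory MonObj
open JacVar

namespace Groth.Agent.S19877

/-- Let k be an algebraically closed field, C and C' smooth proper connected curves of the same genus g
≥ 2 over k with k-points P and P', (J, ψ) and (J', ψ') their Jacobians (commutative group schemes
over k, coarse moduli schemes on all k-schemes for degree-0 line bundles modulo twisting from the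
base, group law induced by tensor product), j and j' the Abel maps with base points P and P', and β
: J ≅ J' an isomorphism of group schemes over k. Fix a sign s ∈ {1, −1}. If isomorphisms α₁, α₂ : C
≅ C' over k and k-points c₁, c₂ of J' satisfy j' ∘ α_i = (β ∘ j)^s · c_i for i = 1, 2 (group of
morphisms C ⟶ J'), then α₁ = α₂ and c₁ = c₂. This holds whether or not C is hyperelliptic; for C not
hyperelliptic the sign is determined as well, which is a separate statement. (The published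
statement takes β an isomorphism of the canonically polarized Jacobians; this row allows any
isomorphism of group schemes β.) -/
theorem result (k : Type u) [Field k] [IsAlgClosed k]
    (C : Scheme.{u}) [C.Over (Spec (CommRingCat.of k))]
    [IsProper (C ↘ Spec (CommRingCat.of k))] [Smooth (C ↘ Spec (CommRingCat.of k))] [GeometricallyConnected (C ↘ Spec (CommRingCat.of k))]
    (hdim : topologicalKrullDim ↥C = 1)
    (C' : Scheme.{u}) [C'.Over (Spec (CommRingCat.of k))]
    [IsProper (C' ↘ Spec (CommRingCat.of k))] [Smooth (C' ↘ Spec (CommRingCat.of k))] [GeometricallyConnected (C' ↘ Spec (CommRingCat.of k))]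
    (hdim' : topologicalKrullDim ↥C' = 1)
    (g : ℕ) (hg : Curv2.genus k C = g) (hg' : Curv2.genus k C' = g) (hg2 : 2 ≤ g)
    (σ : Spec (CommRingCat.of k) ⟶ C) (hσ : σ ≫ (C ↘ Spec (CommRingCat.of k)) = 𝟙 _) (σ' : Spec (CommRingCat.of k) ⟶ C') (hσ' : σ' ≫ (C' ↘ Spec (CommRingCat.of k)) = 𝟙 _)
    (J : Over (Spec (CommRingCat.of k))) [GrpObj J] [IsCommMonObj J]
    (ψ : (ModFun.PicDeg (C ↘ Spec (CommRingCat.of k)) 0).Hom ⊤ J) (hJ : Jac.IsJacobian (C ↘ Spec (CommRingCat.of k)) ⊤ J ψ)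
    (J' : Over (Spec (CommRingCat.of k))) [GrpObj J'] [IsCommMonObj J']
    (ψ' : (ModFun.PicDeg (C' ↘ Spec (CommRingCat.of k)) 0).Hom ⊤ J') (hJ' : Jac.IsJacobian (C' ↘ Spec (CommRingCat.of k)) ⊤ J' ψ')
    (j : Over.mk (C ↘ Spec (CommRingCat.of k)) ⟶ J) (hj : Jac.IsAbelJacobiAt (C ↘ Spec (CommRingCat.of k)) σ ψ j)
    (j' : Over.mk (C' ↘ Spec (CommRingCat.of k)) ⟶ J') (hj' : Jac.IsAbelJacobiAt (C' ↘ Spec (CommRingCat.of k)) σ' ψ' j')
    (β : J ≅ J') [IsMonHom β.hom]
    (α₁ α₂ : C ≅ C') (hα₁ : α₁.hom ≫ (C' ↘ Spec (CommRingCat.of k)) = (C ↘ Spec (CommRingCat.of k))) (hα₂ : α₂.hom ≫ (C' ↘ Spec (CommRingCat.of k)) = (C ↘ Spec (CommRingCat.of k)))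
    (c₁ c₂ : 𝟙_ (Over (Spec (CommRingCat.of k))) ⟶ J') (s : ℤ) (hs : s = 1 ∨ s = -1)
    (h₁ : Over.homMk α₁.hom hα₁ ≫ j' = (j ≫ β.hom) ^ s * (toUnit (Over.mk (C ↘ Spec (CommRingCat.of k))) ≫ c₁))
    (h₂ : Over.homMk α₂.hom hα₂ ≫ j' = (j ≫ β.hom) ^ s * (toUnit (Over.mk (C ↘ Spec (CommRingCat.of k))) ≫ c₂)) :
    α₁ = α₂ ∧ c₁ = c₂ := by
  open Groth.Agent.JacTheta Groth.Agent.H23 in
  open scoped Groth.Agent.H23.PicMul in
  · have := CurveStable.isIntegral_of_geometricallyConnected k (X := C)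
    obtain ⟨K, hK⟩ := exists_classes hdim hσ β hJ hj h₁ h₂
    have hss : s * s = 1 := by rcases hs with rfl | rfl <;> norm_num
    have hK' : ∀ x : Pt k C, ∃ y : Pt k C, y.1 = x.1 ≫ α₂.hom ≫ α₁.inv ∧ K ^ s * O hdim x = O hdim y := fun x => by
      obtain ⟨y, hy, he⟩ := hK x
      refine ⟨y, hy, ?_⟩
      have h := congrArg (· ^ s) he
      simp only [mul_zpow, ← zpow_mul, hss, zpow_one] at h
      refine mul_right_cancel (b := (O hdim ⟨σ, hσ⟩)⁻¹) ?_
      rw [h]
      simp [mul_comm, mul_left_comm, _root_.mul_assoc]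
    have hd : dgr k ((K ^ s : LB C) : PicF.Cl C) = 0 := by
      obtain ⟨y, -, he⟩ := hK' ⟨σ, hσ⟩
      have h := congrArg (fun z : LB C => dgr k (z : PicF.Cl C)) he
      simp only [dgr_mul hdim, dgr_O hdim] at h
      omega
    have h1 : K ^ s = 1 := class_const_eq_one hdim (by omega) _ hd fun x =>
      let ⟨y, _, he⟩ := hK' x
      ⟨y, he⟩
    have hα : α₁ = α₂ := iso_eq_of_pts hdim hσ hα₂ hα₁ fun x => by
      obtain ⟨y, hy, he⟩ := hK' x
      rw [h1, _root_.one_mul] at he
      rw [← hy, ← O_injective hdim (by omega) he]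
    subst hα
    refine ⟨rfl, ?_⟩
    have e := congrArg ((ptOver (⟨σ, hσ⟩ : Pt k C)) ≫ ·) (mul_left_cancel (h₁.symm.trans h₂))
    simp only [← Category.assoc] at e
    rw [toUnit_unique (ptOver (⟨σ, hσ⟩ : Pt k C) ≫ toUnit _) (𝟙 _), Category.id_comp, Category.id_comp] at e
    exact e

end Groth.Agent.S19877
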