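import Groth.Statements.S17819
import Groth.Agent.JacTheta.Canonical

set_option autoImplicit false
universe u
open CategoryTheory CategoryTheory.Limits AlgebraicGeometry MonoidalCategory CartesianMonoidalCategory MonObj
open JacVar

namespace Groth.Agent.S17819

/-- Let k be an algebraically closed field, C a smooth proper connected curve of genus g ≥ 2 over k with
a k-point P, (J, ψ) its Jacobian (a commutative group scheme over k, coarse moduli scheme on all
k-schemes for degree-0 line bundles modulo twisting from the base, group law induced by tensor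
product) and j : C ⟶ J the Abel map with base point P. Write W^r ⊂ J for the image of the r-fold
product C ×_k ⋯ ×_k C under (x_1, …, x_r) ↦ j(x_1) ⋯ j(x_r) (the image of the r-th symmetric power;
W^0 is the origin), and W^r_a for its translate by a k-point a of J. Let κ be the k-point of J given
by ψ on the degree-0 module Ω_{C/k} ⊗ I_P^{⊗(2g−2)} (the image of a canonical divisor), and for Z ⊂
J let Z^* be the image of Z under x ↦ κ·x⁻¹. Then for every k-point a of J one has (W^{g−1}_a)^* =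
W^{g−1}_{a⁻¹} as subsets of J. -/
theorem result (k : Type u) [Field k] [IsAlgClosed k]
    (C : Scheme.{u}) [C.Over (Spec (CommRingCat.of k))]
    [IsProper (C ↘ Spec (CommRingCat.of k))] [Smooth (C ↘ Spec (CommRingCat.of k))] [GeometricallyConnected (C ↘ Spec (CommRingCat.of k))]
    (hdim : topologicalKrullDim ↥C = 1)
    (g : ℕ) (hg : Curv2.genus k C = g) (hg2 : 2 ≤ g)
    (σ : Spec (CommRingCat.of k) ⟶ C) (hσ : σ ≫ (C ↘ Spec (CommRingCat.of k)) = 𝟙 _)
    (J : Over (Spec (CommRingCat.of k))) [GrpObj J] [IsCommMonObj J]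
    (ψ : (ModFun.PicDeg (C ↘ Spec (CommRingCat.of k)) 0).Hom ⊤ J) (hJ : Jac.IsJacobian (C ↘ Spec (CommRingCat.of k)) ⊤ J ψ)
    (j : Over.mk (C ↘ Spec (CommRingCat.of k)) ⟶ J) (hj : Jac.IsAbelJacobiAt (C ↘ Spec (CommRingCat.of k)) σ ψ j)
    (Kf : (PicF.XT (C ↘ Spec (CommRingCat.of k)) (𝟙_ (Over (Spec (CommRingCat.of k))))).Modules)
    (hKf : Nonempty (Kf ≅ (Scheme.Modules.pullback (pullback.fst (C ↘ Spec (CommRingCat.of k)) (𝟙_ (Over (Spec (CommRingCat.of k)))).hom)).obj
      (CohB1.tensorMod (Omega.sheaf (C ↘ Spec (CommRingCat.of k))) (CohB1.tensorPow (ClSub.idealMod σ.ker) (2 * g - 2)))))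
    (hT₁ : (⊤ : ObjectProperty (Over (Spec (CommRingCat.of k)))) (𝟙_ (Over (Spec (CommRingCat.of k))))) (hKok : (ModFun.PicDeg (C ↘ Spec (CommRingCat.of k)) 0).ok (𝟙_ (Over (Spec (CommRingCat.of k)))) Kf)
    (κ : (𝟙_ (Over (Spec (CommRingCat.of k)))) ⟶ J) (hκ : ψ.app (𝟙_ (Over (Spec (CommRingCat.of k)))) Kf hT₁ hKok = κ)
    (a : (𝟙_ (Over (Spec (CommRingCat.of k)))) ⟶ J) :
    (Jac.transl J κ).left.base '' (((𝟙 J)⁻¹).left.base '' ((Jac.transl J a).left.base '' Set.range ((List.ofFn fun i : Fin (g - 1) =>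
        (Over.homMk (WidePullback.π (fun (_ : Fin (g - 1)) => (C ↘ Spec (CommRingCat.of k))) i)
          (WidePullback.π_arrow (fun (_ : Fin (g - 1)) => (C ↘ Spec (CommRingCat.of k))) i) : Over.mk (WidePullback.base fun (_ : Fin (g - 1)) => (C ↘ Spec (CommRingCat.of k))) ⟶ Over.mk (C ↘ Spec (CommRingCat.of k))) ≫ j).prod).left.base)) =
      ((Jac.transl J a⁻¹).left.base '' Set.range ((List.ofFn fun i : Fin (g - 1) =>
        (Over.homMk (WidePullback.π (fun (_ : Fin (g - 1)) => (C ↘ Spec (CommRingCat.of k))) i)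
          (WidePullback.π_arrow (fun (_ : Fin (g - 1)) => (C ↘ Spec (CommRingCat.of k))) i) : Over.mk (WidePullback.base fun (_ : Fin (g - 1)) => (C ↘ Spec (CommRingCat.of k))) ⟶ Over.mk (C ↘ Spec (CommRingCat.of k))) ≫ j).prod).left.base) := by
  open Groth.Agent.JacTheta Groth.Agent.H23 in
  open scoped Groth.Agent.H23.PicMul in
  · have := CurveStable.isIntegral_of_geometricallyConnected k (X := C)
    have hp : ∀ n, IsProper (Pw k C n).hom := isProper_base _
    obtain ⟨A, hA, rfl⟩ := ptJ_surj hJ a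
    rw [kappa_eq hdim hσ ψ g hg (by omega) Kf hKf hT₁ hKok] at hκ
    subst hκ
    subst hg
    have hK := dgr_kappaCl hdim hσ (k := k) (by omega)
    rw [← ptJ_inv hdim hJ hA]
    simp only [image_range]
    have hA' : dgr k ((A⁻¹ : LB C) : PicF.Cl C) = 0 := by rw [dgr_inv hdim, hA, neg_zero]
    have hr : ∀ x : Fin (Curv2.genus k C - 1) → Pt k C, ∃ y : Fin (Curv2.genus k C - 1) → Pt k C,
        (shift hdim hσ x)⁻¹ * kappaCl hdim hσ = shift hdim hσ y := fun x => by
      obtain ⟨y, hy⟩ := exists_eq_Dv (k := k) hdim (Curv2.genus k C - 1) (omegaCl k hdim * (Dv hdim x)⁻¹) (by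
        rw [dgr_mul hdim, dgr_inv hdim, dgr_Dv hdim, ← can_eq_omegaCl hdim, dgr_can hdim]
        omega) (by rw [hh_residual hdim _ (by rw [dgr_Dv hdim]; omega)]; exact hh_Dv_pos hdim x)
      refine ⟨y, ?_⟩
      rw [shift, shift, ← hy, kappaCl, show 2 * Curv2.genus k C - 2 = (Curv2.genus k C - 1) + (Curv2.genus k C - 1) by omega,
        pow_add]
      simp [mul_comm, mul_left_comm, _root_.mul_assoc]
    have hl : ∀ x : Fin (Curv2.genus k C - 1) → Pt k C, ∀ z, coords z = x →
        z ≫ ((Wm j _ ≫ Jac.transl J (ptJ ψ A)) ≫ (𝟙 J)⁻¹) ≫ Jac.transl J (ptJ ψ (kappaCl hdim hσ)) =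
          ptJ ψ ((shift hdim hσ x)⁻¹ * kappaCl hdim hσ * A⁻¹) := fun x z hz => by
      have h1 : dgr k ((shift hdim hσ x * A : LB C) : PicF.Cl C) = 0 := by
        rw [dgr_mul hdim, dgr_shift hdim, hA, add_zero]
      rw [← Category.assoc, ← Category.assoc, comp_Wm_transl hdim hσ hJ hj z hA, hz, comp_inv_id,
        comp_transl, ← ptJ_inv hdim hJ h1, ← ptJ_mul hdim hJ (by rw [dgr_inv hdim, h1, neg_zero]) hK]
      congr 1
      simp [mul_comm, mul_left_comm, _root_.mul_assoc]
    refine range_eq_of_pts _ _ (fun z => ?_) (fun z' => ?_)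
    · obtain ⟨y, hy⟩ := hr (coords z)
      refine ⟨ofCoords y, ?_⟩
      rw [hl _ z rfl, comp_Wm_transl hdim hσ hJ hj _ hA', coords_ofCoords, hy]
    · obtain ⟨x, hx⟩ := hr (coords z')
      refine ⟨ofCoords x, ?_⟩
      rw [hl _ _ (coords_ofCoords x), comp_Wm_transl hdim hσ hJ hj _ hA', ← hx]
      congr 1
      simp [mul_comm, mul_left_comm, _root_.mul_assoc]

end Groth.Agent.S17819
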