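import Groth.Statements.S17822
import Groth.Agent.JacTheta.Canonical
import Groth.Agent.JacTheta.Support

set_option autoImplicit false
universe u
open CategoryTheory CategoryTheory.Limits AlgebraicGeometry MonoidalCategory CartesianMonoidalCategory MonObj
open JacVar

namespace Groth.Agent.S17822

/-- Let k be an algebraically closed field, C a smooth proper connected curve of genus g ≥ 2 over k with
a k-point P, (J, ψ) its Jacobian (a commutative group scheme over k, coarse moduli scheme on all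
k-schemes for degree-0 line bundles modulo twisting from the base, group law induced by tensor
product) and j : C ⟶ J the Abel map with base point P. Write W^r ⊂ J for the image of the r-fold
product C ×_k ⋯ ×_k C under (x_1, …, x_r) ↦ j(x_1) ⋯ j(x_r) (the image of the r-th symmetric power;
W^0 is the origin), and W^r_a for its translate by a k-point a of J. Let κ be the k-point of J given
by ψ on Ω_{C/k} ⊗ I_P^{⊗(2g−2)} and Z^* the image of Z ⊂ J under x ↦ κ·x⁻¹. Let 0 ≤ r ≤ g − 2 and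
let a, b, x, y be k-points of J with x in W^1, y in W^{g−1−r} and a·x = b·y. If W^{r+1}_a is not
contained in W^{g−1}_b, then W^{r+1}_a ∩ W^{g−1}_b = W^r_{a·x} ∪ (W^{r+1}_a ∩ (W^{g−2}_{y·a⁻¹})^*)
as subsets of J. -/
theorem result (k : Type u) [Field k] [IsAlgClosed k]
    (C : Scheme.{u}) [C.Over (Spec (CommRingCat.of k))]
    [IsProper (C ↘ Spec (CommRingCat.of k))] [Smooth (C ↘ Spec (CommRingCat.of k))] [GeometricallyConnected (C ↘ Spec (CommRingCat.of k))]
    (hdim : topologicalKrullDim ↥C = 1)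
    (g : ℕ) (hg : Curv2.genus k C = g) (hg2 : 2 ≤ g)
    (σ : Spec (CommRingCat.of k) ⟶ C) (hσ : σ ≫ (C ↘ Spec (CommRingCat.of k)) = 𝟙 _)
    (J : Over (Spec (CommRingCat.of k))) [GrpObj J] [IsCommMonObj J]
    (ψ : (ModFun.PicDeg (C ↘ Spec (CommRingCat.of k)) 0).Hom ⊤ J) (hJ : Jac.IsJacobian (C ↘ Spec (CommRingCat.of k)) ⊤ J ψ)
    (j : Over.mk (C ↘ Spec (CommRingCat.of k)) ⟶ J) (hj : Jac.IsAbelJacobiAt (C ↘ Spec (CommRingCat.of k)) σ ψ j)
    (Kf : (PicF.XT (C ↘ Spec (CommRingCat.of k)) (𝟙_ (Over (Spec (CommRingCat.of k))))).Modules)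
    (hKf : Nonempty (Kf ≅ (Scheme.Modules.pullback (pullback.fst (C ↘ Spec (CommRingCat.of k)) (𝟙_ (Over (Spec (CommRingCat.of k)))).hom)).obj
      (CohB1.tensorMod (Omega.sheaf (C ↘ Spec (CommRingCat.of k))) (CohB1.tensorPow (ClSub.idealMod σ.ker) (2 * g - 2)))))
    (hT₁ : (⊤ : ObjectProperty (Over (Spec (CommRingCat.of k)))) (𝟙_ (Over (Spec (CommRingCat.of k))))) (hKok : (ModFun.PicDeg (C ↘ Spec (CommRingCat.of k)) 0).ok (𝟙_ (Over (Spec (CommRingCat.of k)))) Kf)
    (κ : (𝟙_ (Over (Spec (CommRingCat.of k)))) ⟶ J) (hκ : ψ.app (𝟙_ (Over (Spec (CommRingCat.of k)))) Kf hT₁ hKok = κ)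
    (r : ℕ) (hr : r ≤ g - 2) (a b x y : (𝟙_ (Over (Spec (CommRingCat.of k)))) ⟶ J)
    (hx : ∀ p, x.left.base p ∈ Set.range ((List.ofFn fun i : Fin 1 =>
        (Over.homMk (WidePullback.π (fun (_ : Fin 1) => (C ↘ Spec (CommRingCat.of k))) i)
          (WidePullback.π_arrow (fun (_ : Fin 1) => (C ↘ Spec (CommRingCat.of k))) i) : Over.mk (WidePullback.base fun (_ : Fin 1) => (C ↘ Spec (CommRingCat.of k))) ⟶ Over.mk (C ↘ Spec (CommRingCat.of k))) ≫ j).prod).left.base)
    (hy : ∀ p, y.left.base p ∈ Set.range ((List.ofFn fun i : Fin (g - 1 - r) =>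
        (Over.homMk (WidePullback.π (fun (_ : Fin (g - 1 - r)) => (C ↘ Spec (CommRingCat.of k))) i)
          (WidePullback.π_arrow (fun (_ : Fin (g - 1 - r)) => (C ↘ Spec (CommRingCat.of k))) i) : Over.mk (WidePullback.base fun (_ : Fin (g - 1 - r)) => (C ↘ Spec (CommRingCat.of k))) ⟶ Over.mk (C ↘ Spec (CommRingCat.of k))) ≫ j).prod).left.base)
    (hab : a * x = b * y)
    (hnot : ¬ (((Jac.transl J a).left.base '' Set.range ((List.ofFn fun i : Fin (r + 1) =>
        (Over.homMk (WidePullback.π (fun (_ : Fin (r + 1)) => (C ↘ Spec (CommRingCat.of k))) i)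
          (WidePullback.π_arrow (fun (_ : Fin (r + 1)) => (C ↘ Spec (CommRingCat.of k))) i) : Over.mk (WidePullback.base fun (_ : Fin (r + 1)) => (C ↘ Spec (CommRingCat.of k))) ⟶ Over.mk (C ↘ Spec (CommRingCat.of k))) ≫ j).prod).left.base) ⊆ ((Jac.transl J b).left.base '' Set.range ((List.ofFn fun i : Fin (g - 1) =>
        (Over.homMk (WidePullback.π (fun (_ : Fin (g - 1)) => (C ↘ Spec (CommRingCat.of k))) i)
          (WidePullback.π_arrow (fun (_ : Fin (g - 1)) => (C ↘ Spec (CommRingCat.of k))) i) : Over.mk (WidePullback.base fun (_ : Fin (g - 1)) => (C ↘ Spec (CommRingCat.of k))) ⟶ Over.mk (C ↘ Spec (CommRingCat.of k))) ≫ j).prod).left.base))) :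
    ((Jac.transl J a).left.base '' Set.range ((List.ofFn fun i : Fin (r + 1) =>
        (Over.homMk (WidePullback.π (fun (_ : Fin (r + 1)) => (C ↘ Spec (CommRingCat.of k))) i)
          (WidePullback.π_arrow (fun (_ : Fin (r + 1)) => (C ↘ Spec (CommRingCat.of k))) i) : Over.mk (WidePullback.base fun (_ : Fin (r + 1)) => (C ↘ Spec (CommRingCat.of k))) ⟶ Over.mk (C ↘ Spec (CommRingCat.of k))) ≫ j).prod).left.base) ∩ ((Jac.transl J b).left.base '' Set.range ((List.ofFn fun i : Fin (g - 1) =>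
        (Over.homMk (WidePullback.π (fun (_ : Fin (g - 1)) => (C ↘ Spec (CommRingCat.of k))) i)
          (WidePullback.π_arrow (fun (_ : Fin (g - 1)) => (C ↘ Spec (CommRingCat.of k))) i) : Over.mk (WidePullback.base fun (_ : Fin (g - 1)) => (C ↘ Spec (CommRingCat.of k))) ⟶ Over.mk (C ↘ Spec (CommRingCat.of k))) ≫ j).prod).left.base) =
      ((Jac.transl J (a * x)).left.base '' Set.range ((List.ofFn fun i : Fin r =>
        (Over.homMk (WidePullback.π (fun (_ : Fin r) => (C ↘ Spec (CommRingCat.of k))) i)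
          (WidePullback.π_arrow (fun (_ : Fin r) => (C ↘ Spec (CommRingCat.of k))) i) : Over.mk (WidePullback.base fun (_ : Fin r) => (C ↘ Spec (CommRingCat.of k))) ⟶ Over.mk (C ↘ Spec (CommRingCat.of k))) ≫ j).prod).left.base) ∪
      (((Jac.transl J a).left.base '' Set.range ((List.ofFn fun i : Fin (r + 1) =>
        (Over.homMk (WidePullback.π (fun (_ : Fin (r + 1)) => (C ↘ Spec (CommRingCat.of k))) i)
          (WidePullback.π_arrow (fun (_ : Fin (r + 1)) => (C ↘ Spec (CommRingCat.of k))) i) : Over.mk (WidePullback.base fun (_ : Fin (r + 1)) => (C ↘ Spec (CommRingCat.of k))) ⟶ Over.mk (C ↘ Spec (CommRingCat.of k))) ≫ j).prod).left.base) ∩ ((Jac.transl J κ).left.base '' (((𝟙 J)⁻¹).left.base '' ((Jac.transl J (y * a⁻¹)).left.base '' Set.range ((List.ofFn fun i : Fin (g - 2) =>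
        (Over.homMk (WidePullback.π (fun (_ : Fin (g - 2)) => (C ↘ Spec (CommRingCat.of k))) i)
          (WidePullback.π_arrow (fun (_ : Fin (g - 2)) => (C ↘ Spec (CommRingCat.of k))) i) : Over.mk (WidePullback.base fun (_ : Fin (g - 2)) => (C ↘ Spec (CommRingCat.of k))) ⟶ Over.mk (C ↘ Spec (CommRingCat.of k))) ≫ j).prod).left.base)))) := by
  open Groth.Agent.JacTheta Groth.Agent.H23 in
  open scoped Groth.Agent.H23.PicMul in
  · have := CurveStable.isIntegral_of_geometricallyConnected k (X := C)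
    have hp : ∀ n, IsProper (Pw k C n).hom := isProper_base _
    rw [kappa_eq hdim hσ ψ g hg (by omega) Kf hKf hT₁ hKok] at hκ
    subst hκ
    subst hg
    obtain ⟨t, ht⟩ : ∃ t, Curv2.genus k C = r + t + 2 := ⟨Curv2.genus k C - 2 - r, by omega⟩
    rw [show Curv2.genus k C - 1 - r = t + 1 by omega] at hy
    rw [show Curv2.genus k C - 1 = r + t + 1 by omega] at hnot ⊢
    rw [show Curv2.genus k C - 2 = r + t by omega]
    obtain ⟨A, hA, rfl⟩ := ptJ_surj hJ a
    obtain ⟨B, hB, rfl⟩ := ptJ_surj hJ b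
    obtain ⟨X, hX, rfl⟩ := ptJ_surj hJ x
    obtain ⟨Y, hY, rfl⟩ := ptJ_surj hJ y
    have hK := dgr_kappaCl hdim hσ (k := k) (by omega)
    have hAi : dgr k ((A⁻¹ : LB C) : PicF.Cl C) = 0 := by rw [dgr_inv hdim, hA, neg_zero]
    have hAX : dgr k ((A * X : LB C) : PicF.Cl C) = 0 := by rw [dgr_mul hdim, hA, hX, add_zero]
    have hYA : dgr k ((Y * A⁻¹ : LB C) : PicF.Cl C) = 0 := by rw [dgr_mul hdim, hY, hAi, add_zero]
    obtain ⟨zp, hzp⟩ := (rpt_mem_W₀_iff hdim hσ hJ hj 1 hX).1 ((forall_rpt _ _).1 hx)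
    obtain ⟨q, hq⟩ := (rpt_mem_W₀_iff hdim hσ hJ hj (t + 1) hY).1 ((forall_rpt _ _).1 hy)
    have habc : A * X = B * Y := ptJ_inj hJ hAX (by rw [dgr_mul hdim, hB, hY, add_zero])
      (by rw [ptJ_mul hdim hJ hA hX, ptJ_mul hdim hJ hB hY, hab])
    let p := zp 0
    let P : LB C := O hdim ⟨σ, hσ⟩
    have hX' : X = O hdim p * P⁻¹ := by
      rw [eq_mul_inv_iff_mul_eq, ← show Dv hdim zp = O hdim p from Fin.prod_univ_one _, ← hzp, pow_one]
    have hY' : Y = Dv hdim q * (P ^ (t + 1))⁻¹ := by rw [eq_mul_inv_iff_mul_eq, hq]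
    have hB' : B = A * X * Y⁻¹ := by rw [habc, mul_inv_cancel_right]
    rw [← ptJ_inv hdim hJ hA, ← ptJ_mul hdim hJ hA hX, ← ptJ_mul hdim hJ hY hAi]
    simp only [image_range]
    -- the three conditions
    have cB : ∀ D : Fin (r + 1) → Pt k C, shift hdim hσ D * A * B⁻¹ * P ^ (r + t + 1) =
        Dv hdim D * Dv hdim q * (O hdim p)⁻¹ := fun D => by
      rw [shift, hB', hX', hY']
      (apply Additive.ofMul.injective; simp only [P, pow_add, pow_one, mul_inv, inv_inv, ofMul_mul, ofMul_inv, ofMul_one]; abel)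
    have hsub : Set.range (Wm j r ≫ Jac.transl J (ptJ ψ (A * X))).left ⊆
        Set.range (Wm j (r + 1) ≫ Jac.transl J (ptJ ψ A)).left := by
      refine (range_subset_iff _ (isClosed_range _)).2 fun z => ?_
      rw [rpt_mem_range_iff]
      refine ⟨ofCoords (Fin.cons p (coords z)), ?_⟩
      rw [comp_Wm_transl hdim hσ hJ hj _ hA, comp_Wm_transl hdim hσ hJ hj _ hAX, coords_ofCoords,
        shift, shift, Dv_cons, hX']
      congr 1
      (apply Additive.ofMul.injective; simp only [P, pow_add, pow_one, mul_inv, inv_inv, ofMul_mul, ofMul_inv, ofMul_one]; abel)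
    rw [← Set.inter_eq_right.2 hsub, ← Set.inter_union_distrib_left]
    refine range_inter_eq _ (isClosed_range _) ((isClosed_range _).union (isClosed_range _)) fun z => ?_
    rw [comp_Wm_transl hdim hσ hJ hj z hA, Set.mem_union]
    set D := coords z with hD
    have hu : dgr k ((shift hdim hσ D * A : LB C) : PicF.Cl C) = 0 := by
      rw [dgr_mul hdim, dgr_shift hdim, hA, add_zero]
    have m1 : rpt (ptJ ψ (shift hdim hσ D * A)) ∈
        Set.range (Wm j (r + t + 1) ≫ Jac.transl J (ptJ ψ B)).left ↔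
        0 < hh k 0 ((Dv hdim D * Dv hdim q * (O hdim p)⁻¹ : LB C) : PicF.Cl C) := by
      rw [← image_range]
      refine (rpt_mem_W_iff hdim hσ hJ hj _ hu hB).trans ?_
      rw [cB D]
      refine exists_eq_Dv_iff hdim _ _ ?_
      simp only [dgr_mul hdim, dgr_inv hdim, dgr_Dv hdim, dgr_O hdim]
      omega
    have m2 : rpt (ptJ ψ (shift hdim hσ D * A)) ∈
        Set.range (Wm j r ≫ Jac.transl J (ptJ ψ (A * X))).left ↔
        0 < hh k 0 ((Dv hdim D * (O hdim p)⁻¹ : LB C) : PicF.Cl C) := by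
      rw [← image_range]
      refine (rpt_mem_W_iff hdim hσ hJ hj _ hu hAX).trans ?_
      rw [show shift hdim hσ D * A * (A * X)⁻¹ * P ^ r = Dv hdim D * (O hdim p)⁻¹ by
        rw [shift, hX']; (apply Additive.ofMul.injective; simp only [P, pow_add, pow_one, mul_inv, inv_inv, ofMul_mul, ofMul_inv, ofMul_one]; abel)]
      refine exists_eq_Dv_iff hdim _ _ ?_
      simp only [dgr_mul hdim, dgr_inv hdim, dgr_Dv hdim, dgr_O hdim]
      omega
    have m3 : rpt (ptJ ψ (shift hdim hσ D * A)) ∈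
        Set.range (((Wm j (r + t) ≫ Jac.transl J (ptJ ψ (Y * A⁻¹))) ≫ (𝟙 J)⁻¹) ≫
          Jac.transl J (ptJ ψ (kappaCl hdim hσ))).left ↔
        0 < hh k 0 ((omegaCl k hdim * (Dv hdim D * Dv hdim q)⁻¹ : LB C) : PicF.Cl C) := by
      rw [rpt_mem_range_iff]
      refine Iff.trans ?_ (exists_eq_Dv_iff hdim (r + t) _ ?_)
      swap
      · simp only [dgr_mul hdim, dgr_inv hdim, dgr_Dv hdim, ← can_eq_omegaCl hdim, dgr_can hdim]
        omega
      have hv : ∀ w : Rp k ⟶ Pw k C (r + t), w ≫ ((Wm j (r + t) ≫ Jac.transl J (ptJ ψ (Y * A⁻¹))) ≫ (𝟙 J)⁻¹) ≫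
          Jac.transl J (ptJ ψ (kappaCl hdim hσ)) =
            ptJ ψ ((shift hdim hσ (coords w) * (Y * A⁻¹))⁻¹ * kappaCl hdim hσ) ∧
          dgr k (((shift hdim hσ (coords w) * (Y * A⁻¹))⁻¹ * kappaCl hdim hσ : LB C) : PicF.Cl C) = 0 := fun w => by
        have h1 : dgr k ((shift hdim hσ (coords w) * (Y * A⁻¹) : LB C) : PicF.Cl C) = 0 := by
          rw [dgr_mul hdim, dgr_shift hdim, hYA, add_zero]
        have h2 : dgr k (((shift hdim hσ (coords w) * (Y * A⁻¹))⁻¹ : LB C) : PicF.Cl C) = 0 := by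
          rw [dgr_inv hdim, h1, neg_zero]
        refine ⟨?_, by rw [dgr_mul hdim, h2, hK, add_zero]⟩
        rw [← Category.assoc, ← Category.assoc, comp_Wm_transl hdim hσ hJ hj w hYA, comp_inv_id,
          comp_transl, ← ptJ_inv hdim hJ h1, ← ptJ_mul hdim hJ h2 hK]
      have hsolve : ∀ w : Fin (r + t) → Pt k C, (shift hdim hσ w * (Y * A⁻¹))⁻¹ * kappaCl hdim hσ =
          shift hdim hσ D * A ↔ omegaCl k hdim * (Dv hdim D * Dv hdim q)⁻¹ = Dv hdim w := fun w => by
        have e : (shift hdim hσ w * (Y * A⁻¹))⁻¹ * kappaCl hdim hσ * (shift hdim hσ D * A)⁻¹ =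
            omegaCl k hdim * (Dv hdim D * Dv hdim q)⁻¹ * (Dv hdim w)⁻¹ := by
          rw [shift, shift, hY', kappaCl,
            show 2 * Curv2.genus k C - 2 = (r + t) + ((r + 1) + (t + 1)) by omega]
          (apply Additive.ofMul.injective; simp only [P, pow_add, pow_one, mul_inv, inv_inv, ofMul_mul, ofMul_inv, ofMul_one]; abel)
        rw [← mul_inv_eq_one, e, mul_inv_eq_one]
      constructor
      · rintro ⟨w, hw⟩
        rw [(hv w).1] at hw
        exact ⟨coords w, (hsolve _).1 (ptJ_inj hJ (hv w).2 hu hw)⟩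
      · rintro ⟨w, hw⟩
        refine ⟨ofCoords w, (hv _).1.trans ?_⟩
        rw [coords_ofCoords, (hsolve w).2 hw]
    rw [m1, m2, m3]
    let E : Fin (r + 1 + (t + 1)) → Pt k C := Fin.append D q
    have hE : Dv hdim E = Dv hdim D * Dv hdim q := by
      rw [Dv, Fin.prod_univ_add]
      simp [E, Dv]
    have hrr := rr (k := k) hdim (Dv hdim E)
    rw [serre hdim, can_eq_omegaCl hdim, dgr_Dv hdim, hE] at hrr
    constructor
    · intro hL
      by_contra hc
      push Not at hc
      have h1 : hh k 0 ((Dv hdim E : LB C) : PicF.Cl C) = 1 := by rw [hE]; omega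
      by_cases hmem : ∃ i, E i = p
      · obtain ⟨i, hi⟩ := hmem
        induction i using Fin.addCases with
        | left i =>
          have hi' : D i = p := by rw [← hi]; simp [E]
          have : 0 < hh k 0 ((Dv hdim D * (O hdim p)⁻¹ : LB C) : PicF.Cl C) := by
            rw [Dv, Fin.prod_univ_succAbove _ i, hi', mul_comm (O hdim p), mul_inv_cancel_right]
            exact hh_Dv_pos hdim _
          omega
        | right i =>
          have hi' : q i = p := by rw [← hi]; simp [E]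
          refine hnot ((W_subset_iff hdim hσ hJ hj (r + 1) (r + t + 1) hA hB).2 fun w => ?_)
          rw [cB w]
          refine (exists_eq_Dv_iff hdim _ _ ?_).2 ?_
          · simp only [dgr_mul hdim, dgr_inv hdim, dgr_Dv hdim, dgr_O hdim]
            omega
          · rw [show Dv hdim q = O hdim p * ∏ l, O hdim (q (i.succAbove l)) by
              rw [Dv, Fin.prod_univ_succAbove _ i, hi'], _root_.mul_assoc, mul_comm (O hdim p),
              mul_inv_cancel_right]
            exact (hh_Dv_pos hdim w).trans_le (hh_le_mul_Dv hdim (fun l => q (i.succAbove l)) _)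
      · push Not at hmem
        have h2 := hh_drop_of_notMem hdim E p hmem
        rw [hE] at h2 h1
        omega
    · rintro (h | h)
      · refine h.trans_le ?_
        have := hh_le_mul_Dv hdim q (Dv hdim D * (O hdim p)⁻¹)
        rwa [show Dv hdim D * (O hdim p)⁻¹ * Dv hdim q = Dv hdim D * Dv hdim q * (O hdim p)⁻¹ by
          rw [_root_.mul_assoc, mul_comm (O hdim p)⁻¹, ← _root_.mul_assoc]] at this
      · have := (hh_twist_bounds hdim p (Dv hdim D * Dv hdim q)).2
        omega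

end Groth.Agent.S17822
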