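import Mathlib
import Groth.Statements.S17843
-- import your own Groth.Agent.* helpers here

set_option autoImplicit false
universe u v
open CAlg

namespace Groth.Agent.S17843


open Polynomial

variable {R : Type u} [CommRing R] (r : R)

/-- A polynomial over `R[1/r]` with constant term from `R` is integral after rescaling. -/
theorem exists_lift_rescale (q : Polynomial (Localization.Away r)) (c : R)
    (hc : q.coeff 0 = algebraMap R _ c) :
    ∃ N, ∀ n, N ≤ n → ∃ p : Polynomial R, p.coeff 0 = c ∧
      p.map (algebraMap R (Localization.Away r)) =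
        q.comp (C (algebraMap R (Localization.Away r) (r ^ n)) * X) := by
  classical
  obtain ⟨⟨_, N, rfl⟩, hN⟩ := IsLocalization.exist_integer_multiples (Submonoid.powers r)
    q.support q.coeff
  refine ⟨N, fun n hn => ?_⟩
  have h : ∀ j, ∃ a : R, algebraMap R (Localization.Away r) a =
      q.coeff (j + 1) * algebraMap R _ (r ^ n) ^ (j + 1) := by
    intro j
    by_cases hj : j + 1 ∈ q.support
    · obtain ⟨a, ha⟩ := hN _ hj
      refine ⟨a * r ^ (n * (j + 1) - N), ?_⟩
      rw [map_mul, ha, Algebra.smul_def, ← map_pow, mul_comm _ (q.coeff (j + 1)), mul_assoc,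
        ← map_mul, ← pow_add, ← pow_mul, Nat.add_sub_cancel']
      exact hn.trans (Nat.le_mul_of_pos_right n j.succ_pos)
    · exact ⟨0, by rw [map_zero, notMem_support_iff.mp hj, zero_mul]⟩
  choose a ha using h
  refine ⟨C c + ∑ j ∈ Finset.range q.natDegree, C (a j) * X ^ (j + 1), ?_, ?_⟩
  · simp [finsetSum_coeff]
  · rw [comp_eq_sum_left, sum_over_range' _ (by simp) (q.natDegree + 1) (Nat.lt_succ_self _),
      Finset.sum_range_succ', Polynomial.map_add, Polynomial.map_sum, add_comm]
    congr 1
    · refine Finset.sum_congr rfl fun j _ => ?_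
      simp only [Polynomial.map_mul, map_C, Polynomial.map_pow, map_X, ha, map_mul, map_pow,
        mul_pow]
      ring
    · simp [hc]

/-- A polynomial without constant term which vanishes over `R[1/r]` vanishes after rescaling. -/
theorem exists_rescale_eq_zero (p : Polynomial R) (h0 : p.coeff 0 = 0)
    (h : p.map (algebraMap R (Localization.Away r)) = 0) :
    ∃ K, ∀ k, K ≤ k → p.comp (C (r ^ k) * X) = 0 := by
  classical
  have h1 : ∀ j, ∃ K, r ^ K * p.coeff j = 0 := fun j => by
    obtain ⟨⟨_, K, rfl⟩, hK⟩ := (IsLocalization.map_eq_zero_iff (Submonoid.powers r)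
      (Localization.Away r) (p.coeff j)).mp (by rw [← coeff_map, h, Polynomial.coeff_zero])
    exact ⟨K, hK⟩
  choose K hK using h1
  refine ⟨p.support.sup K, fun k hk => ?_⟩
  ext j
  rw [Polynomial.comp_C_mul_X_coeff, Polynomial.coeff_zero]
  rcases Nat.eq_zero_or_pos j with rfl | hj
  · rw [h0, zero_mul]
  by_cases hjs : j ∈ p.support
  · have hle : K j ≤ k * j :=
      ((Finset.le_sup hjs).trans hk).trans (Nat.le_mul_of_pos_right k hj)
    obtain ⟨e, he⟩ := Nat.exists_eq_add_of_le hle
    rw [← pow_mul, he, pow_add, ← mul_assoc, mul_comm (p.coeff j), hK, zero_mul]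
  · rw [notMem_support_iff.mp hjs, zero_mul]

/-- In the case of an affine scheme of finite presentation, let B be a finitely presented R-algebra, r ∈
R, and x : B → R[1/r][T] an R-algebra homomorphism whose value at T = 0, a homomorphism B → R[1/r],
is induced by a homomorphism x̃₀ : B → R. Then for every large enough n, the homomorphism x(rⁿT) : B
→ R[1/r][T] is induced by a homomorphism x̃ : B → R[T] whose value at T = 0 is x̃₀. The published
statement is for algebraic spaces locally of finite presentation over R; this row takes an affine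
scheme of finite presentation. -/
theorem result
    (R : Type u) (B : Type v) [CommRing R] [CommRing B] [Algebra R B]
    [Algebra.FinitePresentation R B] (r : R)
    (x : B →ₐ[R] Polynomial (Localization.Away r))
    (x₀ : B →ₐ[R] R)
    (hx₀ : (algebraMap R (Localization.Away r)).comp x₀.toRingHom =
      (Polynomial.evalRingHom 0).comp x.toRingHom) :
    ∃ N : ℕ, ∀ n : ℕ, N ≤ n →
      ∃ y : B →ₐ[R] Polynomial R,
        (Polynomial.evalRingHom 0).comp y.toRingHom = x₀.toRingHom ∧
        (Polynomial.mapRingHom (algebraMap R (Localization.Away r))).comp y.toRingHom =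
          (Polynomial.aeval (Polynomial.C (algebraMap R (Localization.Away r) (r ^ n)) * Polynomial.X) :
              Polynomial (Localization.Away r) →ₐ[Localization.Away r] Polynomial (Localization.Away r)).toRingHom.comp
            x.toRingHom := by
  classical
  obtain ⟨l, π, hπ, hker⟩ := (inferInstance : Algebra.FinitePresentation R B).out
  obtain ⟨g, hg⟩ := hker
  have hc : ∀ i, (x (π (MvPolynomial.X i))).coeff 0 = algebraMap R _ (x₀ (π (MvPolynomial.X i))) :=
    fun i => by
      rw [Polynomial.coeff_zero_eq_eval_zero]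
      exact (RingHom.congr_fun hx₀ (π (MvPolynomial.X i))).symm
  choose N hN using fun i => exists_lift_rescale r _ _ (hc i)
  obtain ⟨N₀, hN₀⟩ : ∃ N₀, N₀ = Finset.univ.sup N := ⟨_, rfl⟩
  choose p hp0 hp using fun i => hN i N₀ (hN₀ ▸ Finset.le_sup (Finset.mem_univ i))
  let F : MvPolynomial (Fin l) R →ₐ[R] Polynomial R := MvPolynomial.aeval p
  let T : ℕ → (Polynomial (Localization.Away r) →ₐ[Localization.Away r]
      Polynomial (Localization.Away r)) := fun n =>
    Polynomial.aeval (Polynomial.C (algebraMap R (Localization.Away r) (r ^ n)) * Polynomial.X)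
  have hFT : ∀ f, (F f).map (algebraMap R (Localization.Away r)) = T N₀ (x (π f)) := by
    intro f
    have h : ((Polynomial.mapAlg R (Localization.Away r)).comp F) =
        (((T N₀).restrictScalars R).comp (x.comp π)) :=
      MvPolynomial.algHom_ext fun i => by
        simp only [AlgHom.coe_comp, Function.comp_apply, F, MvPolynomial.aeval_X]
        rw [Polynomial.mapAlg_eq_map]
        refine (hp i).trans ?_
        simp only [AlgHom.restrictScalars_apply, T, Polynomial.comp_eq_aeval]
    have h2 := DFunLike.congr_fun h f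
    rwa [AlgHom.comp_apply, Polynomial.mapAlg_eq_map] at h2
  have hF0 : ∀ f, (F f).coeff 0 = x₀ (π f) := by
    intro f
    have h : (Polynomial.aeval (0 : R)).comp F = x₀.comp π :=
      MvPolynomial.algHom_ext fun i => by simp [F, ← Polynomial.coeff_zero_eq_eval_zero, hp0]
    have h2 := DFunLike.congr_fun h f
    rwa [AlgHom.comp_apply, ← Polynomial.coeff_zero_eq_aeval_zero] at h2
  have hgK : ∀ f ∈ g, ∃ K, ∀ k, K ≤ k → (F f).comp (Polynomial.C (r ^ k) * Polynomial.X) = 0 := by
    intro f hf
    have hf0 : π f = 0 := by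
      have : f ∈ RingHom.ker π.toRingHom := hg ▸ Ideal.subset_span (Finset.mem_coe.mpr hf)
      exact this
    exact exists_rescale_eq_zero r _ (by rw [hF0, hf0, map_zero])
      (by rw [hFT, hf0, map_zero, map_zero])
  choose! K hK using hgK
  refine ⟨N₀ + g.sup K, fun n hn => ?_⟩
  obtain ⟨k, rfl⟩ := Nat.exists_eq_add_of_le ((Nat.le_add_right _ _).trans hn)
  let U : Polynomial R →ₐ[R] Polynomial R := Polynomial.aeval (Polynomial.C (r ^ k) * Polynomial.X)
  have hle : RingHom.ker π.toRingHom ≤ RingHom.ker (U.comp F).toRingHom := by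
    intro f hf
    replace hf : f ∈ Ideal.span (g : Set (MvPolynomial (Fin l) R)) := hg.symm ▸ hf
    refine (Ideal.span_le.mpr ?_) hf
    intro f hf
    show U (F f) = 0
    rw [← Polynomial.comp_eq_aeval]
    exact hK f hf k (by have := Finset.le_sup (f := K) (Finset.mem_coe.mp hf); omega)
  refine ⟨AlgHom.liftOfSurjective π hπ (U.comp F) hle, ?_, ?_⟩
  · refine RingHom.ext fun b => ?_
    obtain ⟨f, rfl⟩ := hπ b
    show Polynomial.eval 0 ((AlgHom.liftOfSurjective π hπ (U.comp F) hle) (π f)) = x₀ (π f)
    rw [AlgHom.liftOfSurjective_apply, AlgHom.comp_apply]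
    rw [← hF0, show U (F f) = (F f).comp _ from (Polynomial.comp_eq_aeval).symm, Polynomial.eval_comp]
    simp [Polynomial.coeff_zero_eq_eval_zero]
  · refine RingHom.ext fun b => ?_
    obtain ⟨f, rfl⟩ := hπ b
    show Polynomial.map _ ((AlgHom.liftOfSurjective π hπ (U.comp F) hle) (π f)) = T _ (x (π f))
    rw [AlgHom.liftOfSurjective_apply, AlgHom.comp_apply]
    rw [show U (F f) = (F f).comp _ from (Polynomial.comp_eq_aeval).symm, Polynomial.map_comp, hFT]
    simp only [T, ← Polynomial.comp_eq_aeval, Polynomial.comp_assoc, Polynomial.map_mul,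
      Polynomial.map_C, Polynomial.map_X, Polynomial.mul_comp, Polynomial.C_comp,
      Polynomial.X_comp, pow_add, map_mul]
    rw [mul_assoc]

end Groth.Agent.S17843
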