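import Groth.Statements.S17886
import Groth.Agent.AmpleX.QAHom

set_option backward.isDefEq.respectTransparency false
set_option linter.style.haveILetI false

set_option autoImplicit false
universe u
open CategoryTheory AlgebraicGeometry
open FlatMor

namespace Groth.Agent.S17886

open TopologicalSpace

/-- Dense affine neighbourhoods. -/
theorem exists_dense_affine {X : Scheme.{u}} [IsNoetherian X] (x : X) :
    ∃ U : X.Opens, IsAffineOpen U ∧ x ∈ U ∧ Dense (U : Set X) := by
  suffices key : ∀ U : X.Opens, IsAffineOpen U → x ∈ U →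
      ∃ V : X.Opens, IsAffineOpen V ∧ x ∈ V ∧ Dense (V : Set X) by
    obtain ⟨_, ⟨U, hU, rfl⟩, hxU, -⟩ :=
      X.isBasis_affineOpens.exists_subset_of_mem_open (Set.mem_univ x) isOpen_univ
    exact key U hU hxU
  intro U
  induction U using WellFoundedGT.induction with
  | _ U ih =>
    intro hU hxU
    by_cases hd : Dense (U : Set X)
    · exact ⟨U, hU, hxU, hd⟩
    rw [dense_iff_inter_open] at hd
    push Not at hd
    obtain ⟨O, hO, ⟨y, hy⟩, hOU⟩ := hd
    obtain ⟨_, ⟨V, hV, rfl⟩, hyV, hVO⟩ := X.isBasis_affineOpens.exists_subset_of_mem_open hy hO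
    have hdisj : Disjoint U V := disjoint_iff.2 (Opens.ext (Set.eq_empty_of_forall_notMem fun z hz =>
      Set.eq_empty_iff_forall_notMem.1 hOU z ⟨hVO hz.2, hz.1⟩))
    refine ih (U ⊔ V) (lt_of_le_of_ne le_sup_left fun h => ?_) (hU.sup_of_disjoint hV hdisj)
      ((le_sup_left : U ≤ U ⊔ V) hxU)
    exact Set.eq_empty_iff_forall_notMem.1 hOU y ⟨hy, h.symm ▸ (le_sup_right : V ≤ U ⊔ V) hyV⟩

end Groth.Agent.S17886

namespace Groth.Agent.S17886

/-- Let S be a Noetherian scheme and f : X → S separated and of finite type. Then X is covered by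
finitely many affine opens U_1, …, U_n each of which is dense in X and quasi-projective over S (of
finite type with a relatively ample invertible module). -/
theorem result {S X : Scheme.{u}} (f : X ⟶ S)
    [IsNoetherian S] [IsSeparated f] [QuasiCompact f] [LocallyOfFiniteType f] :
    ∃ (n : ℕ) (U : Fin n → X.Opens), (⨆ i, U i) = ⊤ ∧
      ∀ i, IsAffineOpen (U i) ∧ Dense ((U i : Set X)) ∧ RelProj.IsQuasiProjective ((U i).ι ≫ f) := by
  haveI : IsLocallyNoetherian X := LocallyOfFiniteType.isLocallyNoetherian f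
  haveI : CompactSpace X := QuasiCompact.compactSpace_of_compactSpace f
  haveI : IsNoetherian X := {}
  choose U hU hxU hd using exists_dense_affine (X := X)
  obtain ⟨t, ht⟩ := isCompact_univ.elim_finite_subcover (fun x : X => (U x : Set X)) (fun x => (U x).2)
    (fun x _ => Set.mem_iUnion.2 ⟨x, hxU x⟩)
  refine ⟨t.card, fun i => U (t.equivFin.symm i), top_le_iff.1 fun x _ => ?_,
    fun i => ⟨hU _, hd _, ?_⟩⟩
  · obtain ⟨y, hy, hxy⟩ := Set.mem_iUnion₂.1 (ht (Set.mem_univ x))
    exact TopologicalSpace.Opens.mem_iSup.2 ⟨t.equivFin ⟨y, hy⟩, by simpa using hxy⟩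
  · haveI : QuasiCompact ((U (t.equivFin.symm i)).ι ≫ f) := inferInstance
    haveI : IsAffine (U (t.equivFin.symm i) : Scheme.{u}) := hU _
    refine ⟨inferInstance, inferInstance, _, (AmpleX.isQuasiAffine_iff_isRelAmple _).1 ⟨inferInstance, fun V hV => ?_⟩⟩
    haveI : CompactSpace (((U (t.equivFin.symm i)).ι ≫ f) ⁻¹ᵁ V : Scheme.{u}) :=
      isCompact_iff_compactSpace.mp (((U (t.equivFin.symm i)).ι ≫ f).isCompact_preimage hV.isCompact)
    exact Scheme.IsQuasiAffine.of_isImmersion (((U (t.equivFin.symm i)).ι ≫ f) ⁻¹ᵁ V).ι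

end Groth.Agent.S17886
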