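import Groth.Statements.S17892
import Groth.Agent.AmpleX.Comp
import Groth.Agent.InvX.GenLocusPull

set_option backward.isDefEq.respectTransparency false
set_option backward.isDefEq.respectTransparency.types false
set_option linter.style.haveILetI false

set_option autoImplicit false
universe u
open CategoryTheory AlgebraicGeometry
open FlatMor

namespace Groth.Agent.S17892

open Groth.Agent.InvX TopologicalSpace

/-- A section is an isomorphism exactly when it generates everywhere. -/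
theorem isIso_iff_genLocus {X : Scheme.{u}} {M : X.Modules} (s : Coh.structureModule X ⟶ M) :
    IsIso s ↔ CohB1.genLocus M s = ⊤ := by
  refine ⟨fun _ => top_le_iff.1 (le_sSup (show IsIso ((Scheme.Modules.restrictFunctor (⊤ : X.Opens).ι).map s)
    from inferInstance)), fun h => Scheme.Modules.Hom.isIso_iff_isIso_app.2 fun W =>
      (ConcreteCategory.isIso_iff_bijective _).2 ?_⟩
  have hf := AmpleX.isFrame_res_of_le (one s) (h.ge.trans (AmpleX.genLocus_eq_locus s).le) W le_top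
  simp only [AModX.res_res] at hf
  have key : (s.app W : _ → _) = fun r : Γ(X, W) => r • AModX.res M (le_top : W ≤ ⊤) (one s) :=
    funext fun r => app_eq_smul s r
  rw [key]
  exact hf

/-- A pullback of a section of an invertible module is an isomorphism exactly when the image lies in the
generating locus. -/
theorem isIso_pullback_iff {X Y : Scheme.{u}} (f : Y ⟶ X) {M : X.Modules} (hM : PicF.IsInvertible M)
    (s : Coh.structureModule X ⟶ M) :
    IsIso ((Scheme.Modules.pullback f).map s) ↔ f ⁻¹ᵁ CohB1.genLocus M s = ⊤ := by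
  haveI : IsIso (SheafOfModules.pullbackObjUnitToUnit f.toRingCatSheafHom) := inferInstance
  let e : Coh.structureModule Y ≅ (Scheme.Modules.pullback f).obj (Coh.structureModule X) :=
    (asIso (SheafOfModules.pullbackObjUnitToUnit f.toRingCatSheafHom)).symm
  rw [← InvX.genLocus_pullback f hM s e, ← isIso_iff_genLocus]
  exact (isIso_comp_left_iff e.hom _).symm

end Groth.Agent.S17892

namespace Groth.Agent.S17892

open Groth.Agent.InvX TopologicalSpace

/-- Here f : Y → X is an affine morphism with X and Y quasi-compact and quasi-separated; a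
Y-modification of X is a factorization f = fᵢ ≫ gᵢ with fᵢ : Y → Xᵢ schematically dominant and gᵢ :
Xᵢ → X proper, and it is a Y-blow-up of X when Xᵢ carries a gᵢ-ample module L with a section ε : O →
L whose pullback along fᵢ is an isomorphism (a Y-trivialization). If (Xᵢ, fᵢ, gᵢ) is a Y-blow-up of
X and (Xⱼ, fⱼ, gᵢⱼ) is a Y-blow-up of Xᵢ (with respect to fᵢ : Y → Xᵢ), then (Xⱼ, fⱼ, gᵢⱼ ≫ gᵢ) is a
Y-blow-up of X. -/
theorem result {X Y : Scheme.{u}} (f : Y ⟶ X)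
    [CompactSpace X] [QuasiSeparatedSpace X] [CompactSpace Y] [QuasiSeparatedSpace Y] [IsAffineHom f]
    {Xᵢ Xⱼ : Scheme.{u}} (fᵢ : Y ⟶ Xᵢ) (gᵢ : Xᵢ ⟶ X) (fⱼ : Y ⟶ Xⱼ) (gᵢⱼ : Xⱼ ⟶ Xᵢ)
    (hᵢ : IsSchemeTheoreticallyDominant fᵢ ∧ IsProper gᵢ ∧ fᵢ ≫ gᵢ = f ∧
        ∃ (L : Xᵢ.Modules) (ε : Coh.structureModule Xᵢ ⟶ L),
          RelAmple.IsRelAmple gᵢ L ∧ IsIso ((Scheme.Modules.pullback fᵢ).map ε))
    (hⱼ : IsSchemeTheoreticallyDominant fⱼ ∧ IsProper gᵢⱼ ∧ fⱼ ≫ gᵢⱼ = fᵢ ∧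
        ∃ (L : Xⱼ.Modules) (ε : Coh.structureModule Xⱼ ⟶ L),
          RelAmple.IsRelAmple gᵢⱼ L ∧ IsIso ((Scheme.Modules.pullback fⱼ).map ε)) :
    IsSchemeTheoreticallyDominant fⱼ ∧ IsProper (gᵢⱼ ≫ gᵢ) ∧ fⱼ ≫ (gᵢⱼ ≫ gᵢ) = f ∧
        ∃ (L : Xⱼ.Modules) (ε : Coh.structureModule Xⱼ ⟶ L),
          RelAmple.IsRelAmple (gᵢⱼ ≫ gᵢ) L ∧ IsIso ((Scheme.Modules.pullback fⱼ).map ε) := by
  obtain ⟨-, hpi, hfi, Li, εi, hLi, hεi⟩ := hᵢ
  obtain ⟨hdj, hpj, hfj, Lj, εj, hLj, hεj⟩ := hⱼ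
  haveI := hpi
  haveI := hpj
  refine ⟨hdj, inferInstance, by rw [← Category.assoc, hfj, hfi], ?_⟩
  obtain ⟨n₀, hn₀, hamp⟩ := AmpleX.eventually_isRelAmple_comp gᵢⱼ gᵢ hLj hLi
  obtain ⟨m, rfl⟩ : ∃ m, n₀ = m + 1 := ⟨n₀ - 1, by omega⟩
  have hiLi := AmpleX.isInvertible_of_isRelAmple hLi
  have hiLj := AmpleX.isInvertible_of_isRelAmple hLj
  let P := (Scheme.Modules.pullback gᵢⱼ).obj (CohB1.tensorPow Li (m + 1))
  have hP : PicF.IsInvertible P := PicClLib.isInvertible_pullback _ (isInvertible_tensorPow hiLi _)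
  haveI : IsIso (SheafOfModules.pullbackObjUnitToUnit gᵢⱼ.toRingCatSheafHom) := inferInstance
  let e : Coh.structureModule Xⱼ ≅ (Scheme.Modules.pullback gᵢⱼ).obj (Coh.structureModule Xᵢ) :=
    (asIso (SheafOfModules.pullbackObjUnitToUnit gᵢⱼ.toRingCatSheafHom)).symm
  let t : Coh.structureModule Xⱼ ⟶ P := e.hom ≫ (Scheme.Modules.pullback gᵢⱼ).map (powHom εi (m + 1))
  refine ⟨CohB1.tensorMod Lj P, mulHom εj t, hamp (m + 1) le_rfl, ?_⟩
  rw [isIso_pullback_iff fⱼ (isInvertible_tensorMod hiLj hP), genLocus_mulHom hiLj hP,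
    InvX.genLocus_pullback gᵢⱼ (isInvertible_tensorPow hiLi _) _ e, genLocus_powHom hiLi,
    Scheme.Hom.preimage_inf, (isIso_pullback_iff fⱼ hiLj εj).1 hεj, top_inf_eq]
  refine Eq.trans ?_ ((isIso_pullback_iff fᵢ hiLi εi).1 hεi)
  rw [← Scheme.Hom.comp_preimage, hfj]

end Groth.Agent.S17892
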