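import Mathlib
import Groth.Agent.FlatMisc.ValuationFP
import Groth.Statements.S17899
-- import your own Groth.Agent.* helpers here

set_option autoImplicit false
universe u
open TensorProduct
open CAlg

namespace Groth.Agent.S17899


open MvPolynomial

section Core

attribute [local instance] MvPolynomial.algebraMvPolynomial

variable {O A C : Type u} [CommRing O] [CommRing A] [Algebra O A] [CommRing C] [Algebra O C]
variable (S : Submonoid O) [IsLocalization S A] (P : Ideal O)

/-- Elements of `P C` are divisible by every element of `S` inside `P C`. -/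
theorem exists_smul_eq_of_mem (hdiv : ∀ s ∈ S, ∀ m ∈ P, ∃ m' ∈ P, s * m' = m) (s : O) (hs : s ∈ S)
    {c : C} (hc : c ∈ P • (⊤ : Submodule O C)) : ∃ v ∈ P • (⊤ : Submodule O C), s • v = c := by
  induction hc using Submodule.smul_induction_on' with
  | smul m hm y hy =>
    obtain ⟨m', hm', rfl⟩ := hdiv s hs m hm
    exact ⟨m' • y, Submodule.smul_mem_smul hm' Submodule.mem_top, (mul_smul s m' y).symm⟩
  | add y hy z hz ihy ihz =>
    obtain ⟨v, hv, rfl⟩ := ihy
    obtain ⟨w, hw, rfl⟩ := ihz
    exact ⟨v + w, add_mem hv hw, smul_add s v w⟩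

theorem mem_smul_top_iff (c : C) :
    c ∈ P • (⊤ : Submodule O C) ↔ c ∈ P.map (algebraMap O C) := by
  rw [Ideal.smul_top_eq_map, Submodule.restrictScalars_mem]

theorem torsionFree_of_injective
    (hadm : Function.Injective (Algebra.TensorProduct.includeRight : C →ₐ[O] A ⊗[O] C))
    (s : O) (hs : s ∈ S) (c : C) (hc : s • c = 0) : c = 0 := by
  refine hadm ?_
  rw [map_zero]
  have h := congrArg (Algebra.TensorProduct.includeRight : C →ₐ[O] A ⊗[O] C) hc
  rw [map_smul, map_zero, ← algebraMap_smul A] at h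
  exact (IsLocalization.map_units A (⟨s, hs⟩ : S)).smul_eq_zero.mp h

set_option maxHeartbeats 1600000 in
/-- Flatness from flatness over the localization and modulo `P`. -/
theorem flat_of_flat_localization_of_flat_quotient
    (hinj : Function.Injective (algebraMap O A)) (hdiv : ∀ s ∈ S, ∀ m ∈ P, ∃ m' ∈ P, s * m' = m)
    (hadm : Function.Injective (Algebra.TensorProduct.includeRight : C →ₐ[O] A ⊗[O] C))
    [Module.Flat A (A ⊗[O] C)] [Module.Flat (O ⧸ P) (C ⧸ P.map (algebraMap O C))] :
    Module.Flat O C := by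
  classical
  have : IsLocalizedModule S (TensorProduct.mk O A C 1) :=
    (isLocalizedModule_iff_isBaseChange S A _).mpr (TensorProduct.isBaseChange O C A)
  rw [Module.Flat.iff_forall_isTrivialRelation]
  intro l f x hfx
  -- trivialise over the localization
  have hA : ∑ i, algebraMap O A (f i) • ((1 : A) ⊗ₜ[O] x i) = 0 := by
    simp_rw [algebraMap_smul, ← TensorProduct.tmul_smul, ← TensorProduct.tmul_sum]
    rw [hfx, TensorProduct.tmul_zero]
  obtain ⟨k, a, z, hxz, hfa⟩ : Module.IsTrivialRelation (fun i => algebraMap O A (f i))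
      (fun i => (1 : A) ⊗ₜ[O] x i) := Module.Flat.isTrivialRelation_of_sum_smul_eq_zero hA
  replace hxz : ∀ i, (1 : A) ⊗ₜ[O] x i = ∑ j, a i j • z j := hxz
  replace hfa : ∀ j, ∑ i, algebraMap O A (f i) * a i j = 0 := hfa
  obtain ⟨t, ht⟩ := IsLocalization.exist_integer_multiples_of_finite S
    (fun p : Fin l × Fin k => a p.1 p.2)
  choose o ho using ht
  obtain ⟨t', ht'⟩ := IsLocalizedModule.exist_integer_multiples_of_finite S
    (TensorProduct.mk O A C 1) z
  choose y hy using ht'
  obtain ⟨s, hsS, hs⟩ : ∃ s, s ∈ S ∧ s = (t : O) * t' := ⟨_, mul_mem t.2 t'.2, rfl⟩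
  have hsx : ∀ i, s • x i = ∑ j, o (i, j) • y j := by
    intro i
    refine hadm ?_
    rw [map_sum]
    simp only [Algebra.TensorProduct.includeRight_apply, TensorProduct.tmul_smul]
    rw [hxz i, Finset.smul_sum]
    refine Finset.sum_congr rfl fun j _ => ?_
    have h1 : ((1 : A) ⊗ₜ[O] y j) = (t' : O) • z j := hy j
    have h2 : algebraMap O A (o (i, j)) = (t : O) • a i j := ho (i, j)
    rw [h1, ← algebraMap_smul A (o (i, j)), h2, smul_assoc, hs, mul_smul,
      smul_comm (a i j) (t' : O)]
  have hfo : ∀ j, ∑ i, f i * o (i, j) = 0 := by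
    intro j
    refine hinj ?_
    rw [map_sum, map_zero]
    have h2 : ∀ i, algebraMap O A (o (i, j)) = (t : O) • a i j := fun i => ho (i, j)
    simp only [map_mul, h2, Algebra.mul_smul_comm, ← Finset.smul_sum, hfa j, smul_zero]
  -- trivialise modulo `P`
  let π := Ideal.Quotient.mk P
  let ρ : C →ₐ[O] C ⧸ P.map (algebraMap O C) := Ideal.Quotient.mkₐ O _
  let row : Fin l → (Fin k ⊕ Fin l → O ⧸ P) := fun i =>
    (∑ j, π (o (i, j)) • Pi.single (Sum.inl j) (1 : O ⧸ P)) -
      π s • Pi.single (Sum.inr i) (1 : O ⧸ P)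
  let F := Fintype.linearCombination (O ⧸ P) row
  let X := Fintype.linearCombination (O ⧸ P) (Sum.elim (fun j => ρ (y j)) fun i => ρ (x i))
  have hρ : ∀ (r : O) (c : C), π r • ρ c = ρ (r • c) := fun r c => by
    rw [map_smul]
    exact algebraMap_smul (O ⧸ P) r (ρ c)
  have hXF : X.comp F = 0 := by
    apply LinearMap.pi_ext'
    intro i
    ext
    simp only [F, X, row, LinearMap.comp_apply, LinearMap.coe_single,
      Fintype.linearCombination_apply_single, one_smul, map_sub, map_sum, map_smul,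
      Sum.elim_inl, Sum.elim_inr, hρ]
    simp only [← map_smul, ← map_sum, hsx, sub_self]
    rfl
  obtain ⟨q, α, Y, hXY, hαF⟩ := Module.Flat.exists_factorization_of_comp_eq_zero_of_free hXF
  choose b hb using fun (j : Fin k) (p : Fin q) =>
    Ideal.Quotient.mk_surjective (α (Pi.single (Sum.inl j) 1) p)
  choose e he using fun (i : Fin l) (p : Fin q) =>
    Ideal.Quotient.mk_surjective (α (Pi.single (Sum.inr i) 1) p)
  choose w hw using fun p : Fin q => Ideal.Quotient.mk_surjective (Y (Finsupp.single p 1))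
  have hdiff : ∀ i p, ∃ m ∈ P, s * m = (∑ j, o (i, j) * b j p) - s * e i p := by
    intro i p
    refine hdiv s hsS _ ?_
    rw [← Ideal.Quotient.eq_zero_iff_mem]
    have h0 := congrArg (fun v : Fin q →₀ O ⧸ P => v p) (LinearMap.congr_fun hαF (Pi.single i 1))
    simp only [F, row, LinearMap.comp_apply, Fintype.linearCombination_apply_single, one_smul,
      map_sub, map_sum, map_smul, Finsupp.sub_apply, Finsupp.finsetSum_apply, Finsupp.smul_apply,
      smul_eq_mul, LinearMap.zero_apply, Finsupp.zero_apply, ← hb, ← he] at h0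
    simpa only [map_sub, map_sum, map_mul] using h0
  choose m hm hm' using hdiff
  have hy' : ∀ j, ∃ v, s • v = y j - ∑ p, b j p • w p := by
    intro j
    have h0 : y j - ∑ p, b j p • w p ∈ P • (⊤ : Submodule O C) := by
      rw [mem_smul_top_iff, ← Ideal.Quotient.eq_zero_iff_mem]
      have h1 := LinearMap.congr_fun hXY (Pi.single (Sum.inl j) 1)
      rw [LinearMap.comp_apply, ← Finsupp.univ_sum_single (α (Pi.single (Sum.inl j) 1))] at h1
      simp only [X, Fintype.linearCombination_apply_single, one_smul, Sum.elim_inl, map_sum] at h1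
      show ρ (y j - ∑ p, b j p • w p) = 0
      rw [map_sub, map_sum, h1, sub_eq_zero]
      refine Finset.sum_congr rfl fun p _ => ?_
      rw [← Finsupp.smul_single_one, map_smul, ← hb, ← hw, ← hρ]
      rfl
    obtain ⟨v, -, hv⟩ := exists_smul_eq_of_mem S P hdiv s hsS h0
    exact ⟨v, hv⟩
  choose v hv using hy'
  refine ⟨q + k, fun i => Fin.append (fun p => e i p + m i p) (fun j => o (i, j)),
    Fin.append w v, fun i => ?_, fun p => ?_⟩
  · refine sub_eq_zero.mp (torsionFree_of_injective (A := A) S hadm s hsS _ ?_)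
    rw [smul_sub, sub_eq_zero, hsx, Fin.sum_univ_add]
    simp only [Fin.append_left, Fin.append_right, smul_add, Finset.smul_sum]
    have h2 : ∀ p, s • ((e i p + m i p) • w p) = ∑ j, o (i, j) • (b j p • w p) := fun p => by
      rw [smul_smul, mul_add, hm', add_sub_cancel, Finset.sum_smul]
      simp only [smul_smul]
    have h3 : ∀ j, s • (o (i, j) • v j) = o (i, j) • y j - ∑ p, o (i, j) • (b j p • w p) :=
      fun j => by rw [smul_comm, hv, smul_sub, Finset.smul_sum]
    simp only [h2, h3, Finset.sum_sub_distrib]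
    rw [Finset.sum_comm]
    abel
  · induction p using Fin.addCases with
    | left p =>
      simp only [Fin.append_left]
      refine hinj ((IsLocalization.map_units A (⟨s, hsS⟩ : S)).mul_right_eq_zero.mp ?_ |>.trans
        (map_zero _).symm)
      rw [← map_mul, Finset.mul_sum]
      have h2 : ∀ i, s * (f i * (e i p + m i p)) = ∑ j, f i * o (i, j) * b j p := fun i => by
        rw [mul_left_comm, mul_add, hm', add_sub_cancel, Finset.mul_sum]
        simp only [mul_assoc]
      simp only [h2]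
      rw [Finset.sum_comm]
      simp only [← Finset.sum_mul, hfo, zero_mul, Finset.sum_const_zero, map_zero]
    | right j => simpa only [Fin.append_right] using hfo j

set_option maxHeartbeats 1600000 in
/-- Finite presentation from finite presentation over the localization and modulo `P`. -/
theorem finitePresentation_of_localization_of_quotient
    (hdiv : ∀ s ∈ S, ∀ m ∈ P, ∃ m' ∈ P, s * m' = m)
    (hadm : Function.Injective (Algebra.TensorProduct.includeRight : C →ₐ[O] A ⊗[O] C))
    [Algebra.FiniteType O C] [Module.Flat O C] [Algebra.FinitePresentation A (A ⊗[O] C)]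
    [Algebra.FinitePresentation (O ⧸ P) (C ⧸ P.map (algebraMap O C))] :
    Algebra.FinitePresentation O C := by
  classical
  obtain ⟨n, φ, hφ⟩ :=
    Algebra.FiniteType.iff_quotient_mvPolynomial''.mp (inferInstance : Algebra.FiniteType O C)
  refine Algebra.FinitePresentation.of_surjective hφ ?_
  -- generators over the localization
  let ψ : MvPolynomial (Fin n) A →ₐ[A] A ⊗[O] C := aeval fun i => (1 : A) ⊗ₜ[O] φ (X i)
  have hψ : ∀ p, ψ (MvPolynomial.map (algebraMap O A) p) = (1 : A) ⊗ₜ[O] φ p := by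
    intro p
    rw [MvPolynomial.aeval_map_algebraMap]
    have h : aeval (fun i => (1 : A) ⊗ₜ[O] φ (X i)) =
        (Algebra.TensorProduct.includeRight : C →ₐ[O] A ⊗[O] C).comp φ :=
      MvPolynomial.algHom_ext fun i => by simp
    rw [h]
    rfl
  have hψs : Function.Surjective ψ := by
    intro z
    induction z with
    | zero => exact ⟨0, map_zero _⟩
    | tmul a c =>
      obtain ⟨p, rfl⟩ := hφ c
      exact ⟨a • MvPolynomial.map (algebraMap O A) p, by
        rw [map_smul, hψ, TensorProduct.smul_tmul', smul_eq_mul, mul_one]⟩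
    | add z w hz hw =>
      obtain ⟨p, rfl⟩ := hz
      obtain ⟨r, rfl⟩ := hw
      exact ⟨p + r, map_add _ _ _⟩
  obtain ⟨G₁, hG₁⟩ := Algebra.FinitePresentation.ker_fG_of_surjective ψ hψs
  have hloc : ∀ G ∈ G₁, ∃ g, φ g = 0 ∧ ∃ s ∈ S,
      MvPolynomial.map (algebraMap O A) g = MvPolynomial.C (algebraMap O A s) * G := by
    intro G hG
    obtain ⟨⟨g, ⟨_, s, hs, rfl⟩⟩, hg⟩ :=
      IsLocalization.surj (S.map (MvPolynomial.C : O →+* MvPolynomial (Fin n) O)) G
    simp only [MvPolynomial.algebraMap_def, MvPolynomial.map_C] at hg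
    refine ⟨g, hadm ?_, s, hs, by rw [← hg, mul_comm]⟩
    have hGk : G ∈ RingHom.ker ψ := hG₁ ▸ Ideal.subset_span (Finset.mem_coe.mpr hG)
    rw [map_zero, Algebra.TensorProduct.includeRight_apply, ← hψ, ← hg, map_mul,
      RingHom.mem_ker.mp hGk, zero_mul]
  choose! g₁ hg₁ s₁ hs₁ hgs₁ using hloc
  -- generators modulo `P`
  let π := Ideal.Quotient.mk P
  let ρ : C →ₐ[O] C ⧸ P.map (algebraMap O C) := Ideal.Quotient.mkₐ O _
  let θ : MvPolynomial (Fin n) (O ⧸ P) →ₐ[O ⧸ P] C ⧸ P.map (algebraMap O C) :=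
    aeval fun i => ρ (φ (X i))
  have hθ : ∀ p, θ (MvPolynomial.map π p) = ρ (φ p) := by
    intro p
    show θ (MvPolynomial.map (algebraMap O (O ⧸ P)) p) = _
    rw [MvPolynomial.aeval_map_algebraMap]
    have h : aeval (fun i => ρ (φ (X i))) = ρ.comp φ := MvPolynomial.algHom_ext fun i => by simp
    rw [h]
    rfl
  have hπs : Function.Surjective (MvPolynomial.map π : MvPolynomial (Fin n) O →+* _) :=
    MvPolynomial.map_surjective _ Ideal.Quotient.mk_surjective
  have hθs : Function.Surjective θ := by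
    intro z
    obtain ⟨c, rfl⟩ := Ideal.Quotient.mk_surjective z
    obtain ⟨p, rfl⟩ := hφ c
    exact ⟨_, hθ p⟩
  obtain ⟨G₂, hG₂⟩ := Algebra.FinitePresentation.ker_fG_of_surjective θ hθs
  have hlift : ∀ G ∈ G₂, ∃ g, φ g = 0 ∧ MvPolynomial.map π g = G := by
    intro G hG
    obtain ⟨g, rfl⟩ := hπs G
    have hGk : MvPolynomial.map π g ∈ RingHom.ker θ := hG₂ ▸ Ideal.subset_span (Finset.mem_coe.mpr hG)
    rw [RingHom.mem_ker, hθ] at hGk
    have h0 : φ g ∈ P • (⊤ : Submodule O C) := by
      rw [mem_smul_top_iff, ← Ideal.Quotient.eq_zero_iff_mem]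
      exact hGk
    rw [show (⊤ : Submodule O C) = (⊤ : Submodule O (MvPolynomial (Fin n) O)).map φ.toLinearMap by
      rw [Submodule.map_top, LinearMap.range_eq_top.mpr hφ], ← Submodule.map_smul''] at h0
    obtain ⟨r, hr, hrg⟩ := h0
    refine ⟨g - r, ?_, ?_⟩
    · rw [map_sub, sub_eq_zero]
      exact hrg.symm
    · rw [map_sub, sub_eq_self]
      refine Submodule.smul_induction_on hr (fun a ha b _ => ?_) (fun a b ha hb => ?_)
      · rw [MvPolynomial.smul_eq_C_mul, map_mul, MvPolynomial.map_C,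
          Ideal.Quotient.eq_zero_iff_mem.mpr ha, MvPolynomial.C_0, zero_mul]
      · rw [map_add, ha, hb, add_zero]
  choose! g₂ hg₂ hgπ using hlift
  let J := Ideal.span ((G₁.image g₁ ∪ G₂.image g₂ : Finset _) : Set (MvPolynomial (Fin n) O))
  refine ⟨G₁.image g₁ ∪ G₂.image g₂, le_antisymm ?_ ?_⟩
  · rw [Submodule.span_le]
    intro g hg
    simp only [Finset.coe_union, Finset.coe_image, Set.mem_union, Set.mem_image,
      Finset.mem_coe] at hg
    rcases hg with ⟨G, hG, rfl⟩ | ⟨G, hG, rfl⟩
    exacts [hg₁ G hG, hg₂ G hG]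
  show RingHom.ker φ.toRingHom ≤ J
  -- every relation is a multiple of the generators up to `S`
  have hS : ∀ h, φ h = 0 → ∃ s ∈ S, MvPolynomial.C s * h ∈ J := by
    intro h hh
    have h1 : algebraMap (MvPolynomial (Fin n) O) (MvPolynomial (Fin n) A) h ∈
        J.map (algebraMap (MvPolynomial (Fin n) O) (MvPolynomial (Fin n) A)) := by
      simp only [MvPolynomial.algebraMap_def]
      have h2 : MvPolynomial.map (algebraMap O A) h ∈ RingHom.ker ψ := by
        rw [RingHom.mem_ker, hψ, hh, TensorProduct.tmul_zero]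
      replace h2 : MvPolynomial.map (algebraMap O A) h ∈
          Ideal.span (G₁ : Set (MvPolynomial (Fin n) A)) := hG₁.symm ▸ h2
      refine (Ideal.span_le.mpr ?_) h2
      intro G hG
      obtain ⟨u, hu⟩ := (IsLocalization.map_units A (⟨s₁ G, hs₁ G hG⟩ : S)).map
        (MvPolynomial.C : A →+* MvPolynomial (Fin n) A)
      have h3 : MvPolynomial.map (algebraMap O A) (g₁ G) ∈
          J.map (MvPolynomial.map (algebraMap O A)) :=
        Ideal.mem_map_of_mem _ (Ideal.subset_span (Finset.mem_coe.mpr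
          (Finset.mem_union_left _ (Finset.mem_image_of_mem _ hG))))
      rw [hgs₁ G hG] at h3
      have h4 := Ideal.mul_mem_left (J.map (MvPolynomial.map (algebraMap O A))) (↑u⁻¹) h3
      rw [← mul_assoc, show MvPolynomial.C (algebraMap O A (s₁ G)) = (u : MvPolynomial (Fin n) A)
        from hu.symm, Units.inv_mul, one_mul] at h4
      exact h4
    rw [IsLocalization.algebraMap_mem_map_algebraMap_iff
      (S.map (MvPolynomial.C : O →+* MvPolynomial (Fin n) O))] at h1
    obtain ⟨_, ⟨s, hs, rfl⟩, h5⟩ := h1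
    exact ⟨s, hs, h5⟩
  intro h hh
  replace hh : φ h = 0 := hh
  -- remove the part which is visible modulo `P`
  obtain ⟨h', hh', hmap⟩ : ∃ h' ∈ J, MvPolynomial.map π h' = MvPolynomial.map π h := by
    rw [← Ideal.mem_map_iff_of_surjective _ hπs]
    have h2 : MvPolynomial.map π h ∈ RingHom.ker θ := by
      rw [RingHom.mem_ker, hθ, hh, map_zero]
    replace h2 : MvPolynomial.map π h ∈ Ideal.span (G₂ : Set (MvPolynomial (Fin n) (O ⧸ P))) :=
      hG₂.symm ▸ h2
    refine (Ideal.span_le.mpr ?_) h2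
    intro G hG
    rw [← hgπ G hG]
    exact Ideal.mem_map_of_mem _ (Ideal.subset_span (Finset.mem_coe.mpr
      (Finset.mem_union_right _ (Finset.mem_image_of_mem _ hG))))
  have hh'φ : φ h' = 0 := by
    refine RingHom.mem_ker.mp ((?_ : J ≤ RingHom.ker φ.toRingHom) hh')
    rw [Ideal.span_le]
    intro g hg
    simp only [Finset.coe_union, Finset.coe_image, Set.mem_union, Set.mem_image,
      Finset.mem_coe] at hg
    rcases hg with ⟨G, hG, rfl⟩ | ⟨G, hG, rfl⟩
    exacts [hg₁ G hG, hg₂ G hG]
  suffices hsub : h - h' ∈ J by simpa using add_mem hsub hh'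
  obtain ⟨d, hd⟩ : ∃ d, d = h - h' := ⟨_, rfl⟩
  rw [← hd]
  have hdφ : φ d = 0 := by rw [hd, map_sub, hh, hh'φ, sub_zero]
  have hdP : ∀ ν, d.coeff ν ∈ P := fun ν => by
    rw [← Ideal.Quotient.eq_zero_iff_mem, ← MvPolynomial.coeff_map, hd, map_sub, hmap, sub_self,
      MvPolynomial.coeff_zero]
  -- `P ∩ ker = P * ker` by flatness
  have hrel : ∑ ν : d.support, d.coeff (ν : Fin n →₀ ℕ) • φ (monomial (ν : Fin n →₀ ℕ) 1) = 0 := by
    rw [← hdφ, Finset.sum_coe_sort d.support fun ν => d.coeff ν • φ (monomial ν 1)]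
    conv_rhs => rw [d.as_sum, map_sum]
    refine Finset.sum_congr rfl fun ν _ => ?_
    rw [← map_smul, smul_monomial, smul_eq_mul, mul_one]
  obtain ⟨k, a, y, hxy, hfa⟩ : Module.IsTrivialRelation
      (fun ν : d.support => d.coeff (ν : Fin n →₀ ℕ))
      (fun ν : d.support => φ (monomial (ν : Fin n →₀ ℕ) 1)) :=
    Module.Flat.isTrivialRelation_of_sum_smul_eq_zero (R := O) (M := C)
      (f := fun ν : d.support => d.coeff (ν : Fin n →₀ ℕ))
      (x := fun ν : d.support => φ (monomial (ν : Fin n →₀ ℕ) 1)) hrel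
  replace hxy : ∀ ν : d.support, φ (monomial (ν : Fin n →₀ ℕ) 1) = ∑ j, a ν j • y j := hxy
  replace hfa : ∀ j, ∑ ν : d.support, d.coeff (ν : Fin n →₀ ℕ) * a ν j = 0 := hfa
  choose Y hY using fun j => hφ (y j)
  have hdsum : d = ∑ ν : d.support,
      MvPolynomial.C (d.coeff (ν : Fin n →₀ ℕ)) *
        (monomial (ν : Fin n →₀ ℕ) 1 - ∑ j, MvPolynomial.C (a ν j) * Y j) := by
    simp only [mul_sub, Finset.mul_sum, Finset.sum_sub_distrib]
    rw [Finset.sum_comm (f := fun (ν : d.support) j => _ * (MvPolynomial.C (a ν j) * Y j))]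
    simp only [← mul_assoc, ← map_mul, ← Finset.sum_mul, ← map_sum, hfa, map_zero, zero_mul,
      Finset.sum_const_zero, sub_zero, C_mul_monomial, mul_one]
    rw [Finset.sum_coe_sort d.support fun ν => monomial ν (d.coeff ν)]
    exact d.as_sum
  rw [hdsum]
  refine sum_mem fun ν _ => ?_
  have hD : φ (monomial (ν : Fin n →₀ ℕ) 1 - ∑ j, MvPolynomial.C (a ν j) * Y j) = 0 := by
    rw [map_sub, map_sum, hxy ν, sub_eq_zero]
    refine Finset.sum_congr rfl fun j _ => ?_
    rw [← MvPolynomial.smul_eq_C_mul, map_smul, hY]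
  obtain ⟨s, hs, hsJ⟩ := hS _ hD
  obtain ⟨m', -, hm'⟩ := hdiv s hs _ (hdP ν)
  rw [← hm', map_mul, mul_comm (MvPolynomial.C s), mul_assoc]
  exact Ideal.mul_mem_left _ _ hsJ

end Core

section Semivaluation

variable {A : Type u} [CommRing A] [IsLocalRing A] (R : ValuationSubring (IsLocalRing.ResidueField A))
  (O : Subring A)

theorem mem_or_inv_mem (hO : O = R.toSubring.comap (IsLocalRing.residue A)) (a : A) :
    a ∈ O ∨ ∃ u : Aˣ, (u : A) = a ∧ ((u⁻¹ : Aˣ) : A) ∈ O := by
  subst hO
  rcases R.mem_or_inv_mem (IsLocalRing.residue A a) with h | h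
  · exact Or.inl h
  · by_cases ha : IsUnit a
    · obtain ⟨u, rfl⟩ := ha
      refine Or.inr ⟨u, rfl, ?_⟩
      show IsLocalRing.residue A _ ∈ R
      rwa [map_units_inv]
    · refine Or.inl ?_
      show IsLocalRing.residue A a ∈ R
      rw [(IsLocalRing.residue_eq_zero_iff a).mpr ha]
      exact zero_mem R

theorem mem_of_mem_maximalIdeal (hO : O = R.toSubring.comap (IsLocalRing.residue A)) (a : A)
    (ha : a ∈ IsLocalRing.maximalIdeal A) : a ∈ O := by
  subst hO
  show IsLocalRing.residue A a ∈ R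
  rw [(IsLocalRing.residue_eq_zero_iff a).mpr ha]
  exact zero_mem R

end Semivaluation

/-- Let A be a local ring with residue field K, R a valuation ring of K and O ⊆ A the preimage of R
under A → K (so O is a semi-valuation ring with semi-fraction ring A, S = Spec O is glued from U =
Spec A and T = Spec R). Let C be an O-algebra of finite type which is U-admissible (C → A ⊗_O C
injective) and such that A ⊗_O C is flat and of finite presentation over A. Then C is flat and of
finite presentation over O. (The published assertion is more general: the base may be any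
quasi-compact quasi-separated U-admissible scheme over Spec O, and the scheme over it any
quasi-compact quasi-separated admissible scheme. This row is the case of an affine scheme over Spec
O itself, the case in which the published proof carries out its argument.) -/
theorem result
    (A : Type u) [CommRing A] [IsLocalRing A] (R : ValuationSubring (IsLocalRing.ResidueField A))
    (O : Subring A) (hO : O = R.toSubring.comap (IsLocalRing.residue A))
    (C : Type u) [CommRing C] [Algebra ↥O C] [Algebra.FiniteType ↥O C]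
    (hadm : Function.Injective (Algebra.TensorProduct.includeRight : C →ₐ[↥O] A ⊗[↥O] C))
    (hflat : Module.Flat A (A ⊗[↥O] C)) (hfp : Algebra.FinitePresentation A (A ⊗[↥O] C)) :
    Module.Flat ↥O C ∧ Algebra.FinitePresentation ↥O C := by
  classical
  let P : Ideal ↥O := (IsLocalRing.maximalIdeal A).comap O.subtype
  have hP : P.IsPrime := Ideal.IsPrime.comap _
  let S : Submonoid ↥O := P.primeCompl
  have hinj : Function.Injective (algebraMap ↥O A) := Subtype.val_injective
  have hunit : ∀ s ∈ S, IsUnit ((s : ↥O) : A) := fun s hs =>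
    IsLocalRing.notMem_maximalIdeal.mp hs
  have : IsLocalization S A :=
    { map_units := fun y => hunit y.1 y.2
      surj := fun a => by
        rcases mem_or_inv_mem R O hO a with h | ⟨u, rfl, hu⟩
        · exact ⟨(⟨a, h⟩, 1), by simp; rfl⟩
        · refine ⟨(1, ⟨⟨_, hu⟩, fun h => (IsLocalRing.mem_maximalIdeal _).mp h (Units.isUnit u⁻¹)⟩),
            ?_⟩
          show (u : A) * ((u⁻¹ : Aˣ) : A) = 1
          exact Units.mul_inv u
      exists_of_eq := fun h => ⟨1, by rw [hinj h]⟩ }
  have hdiv : ∀ s ∈ S, ∀ m ∈ P, ∃ m' ∈ P, s * m' = m := by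
    intro s hs m hm
    obtain ⟨u, hu⟩ := hunit s hs
    have hmem : ((u⁻¹ : Aˣ) : A) * (m : A) ∈ IsLocalRing.maximalIdeal A :=
      Ideal.mul_mem_left _ _ hm
    refine ⟨⟨_, mem_of_mem_maximalIdeal R O hO _ hmem⟩, hmem, Subtype.ext ?_⟩
    show (s : A) * (((u⁻¹ : Aˣ) : A) * (m : A)) = m
    rw [← hu, Units.mul_inv_cancel_left]
  have : IsDomain (↥O ⧸ P) := Ideal.Quotient.isDomain P
  have : ValuationRing (↥O ⧸ P) := by
    rw [ValuationRing.iff_dvd_total]
    refine ⟨fun x y => ?_⟩
    obtain ⟨a, rfl⟩ := Ideal.Quotient.mk_surjective x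
    obtain ⟨b, rfl⟩ := Ideal.Quotient.mk_surjective y
    by_cases ha : a ∈ P
    · exact Or.inr (by rw [Ideal.Quotient.eq_zero_iff_mem.mpr ha]; exact dvd_zero _)
    obtain ⟨u, hu⟩ := hunit a ha
    rcases mem_or_inv_mem R O hO (((u⁻¹ : Aˣ) : A) * (b : A)) with h | ⟨w, hw, hw'⟩
    · refine Or.inl (map_dvd _ ⟨⟨_, h⟩, Subtype.ext ?_⟩)
      show (b : A) = (a : A) * (((u⁻¹ : Aˣ) : A) * (b : A))
      rw [← hu, Units.mul_inv_cancel_left]
    · refine Or.inr (map_dvd _ ⟨⟨_, hw'⟩, Subtype.ext ?_⟩)
      show (a : A) = (b : A) * ((w⁻¹ : Aˣ) : A)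
      rw [← hu, Units.eq_mul_inv_iff_mul_eq, hw, Units.mul_inv_cancel_left]
  have : Module.Flat A (A ⊗[↥O] C) := hflat
  have : Algebra.FinitePresentation A (A ⊗[↥O] C) := hfp
  have : Module.Flat (↥O ⧸ P) (C ⧸ P.map (algebraMap ↥O C)) := by
    rw [Module.Flat.flat_iff_torsion_eq_bot_of_isBezout, eq_bot_iff]
    rintro x ⟨⟨r, hr⟩, hx⟩
    obtain ⟨s, rfl⟩ := Ideal.Quotient.mk_surjective r
    have hs : s ∈ S := fun h => nonZeroDivisors.ne_zero hr (Ideal.Quotient.eq_zero_iff_mem.mpr h)
    obtain ⟨c, rfl⟩ := Ideal.Quotient.mk_surjective x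
    replace hx : s • (Ideal.Quotient.mk (P.map (algebraMap ↥O C)) c) = 0 :=
      (algebraMap_smul (↥O ⧸ P) s _).symm.trans hx
    rw [Algebra.smul_def] at hx
    have hx' : s • c ∈ P • (⊤ : Submodule ↥O C) := by
      rw [mem_smul_top_iff, ← Ideal.Quotient.eq_zero_iff_mem, Algebra.smul_def, map_mul]
      exact hx
    obtain ⟨v, hv, hvc⟩ := exists_smul_eq_of_mem S P hdiv s hs hx'
    have hcv : c = v := sub_eq_zero.mp
      (torsionFree_of_injective (A := A) S hadm s hs _ (by rw [smul_sub, hvc, sub_self]))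
    rw [Submodule.mem_bot, Ideal.Quotient.eq_zero_iff_mem, hcv, ← mem_smul_top_iff]
    exact hv
  have : Algebra.FiniteType ↥O (C ⧸ P.map (algebraMap ↥O C)) :=
    Algebra.FiniteType.of_surjective (Ideal.Quotient.mkₐ ↥O _) Ideal.Quotient.mk_surjective
  have : Algebra.FiniteType (↥O ⧸ P) (C ⧸ P.map (algebraMap ↥O C)) :=
    Algebra.FiniteType.of_restrictScalars_finiteType ↥O (↥O ⧸ P) _
  have : Algebra.FinitePresentation (↥O ⧸ P) (C ⧸ P.map (algebraMap ↥O C)) :=
    Groth.Agent.FlatMisc.ValuationFP.algebra_finitePresentation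
  have : Module.Flat ↥O C := flat_of_flat_localization_of_flat_quotient S P hinj hdiv hadm
  exact ⟨inferInstance, finitePresentation_of_localization_of_quotient S P hdiv hadm⟩

end Groth.Agent.S17899
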