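import Groth.Statements.S17902
import Mathlib

set_option autoImplicit false
universe u
open CAlg

namespace Groth.Agent.S17902

theorem linearIndependent_of_span_eq_top {K N : Type*} [CommRing K] [AddCommGroup N] [Module K N]
    {n : ℕ} (b : Module.Basis (Fin n) K N) {v : Fin n → N}
    (h : Submodule.span K (Set.range v) = ⊤) : LinearIndependent K v := by
  haveI := Module.Finite.of_basis b
  have hs : Function.Surjective (b.constr ℕ v) := by
    rw [← LinearMap.range_eq_top, Module.Basis.constr_range, h]
  have hinj := (OrzechProperty.bijective_of_surjective_endomorphism (b.constr ℕ v) hs).1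
  have : v = (b.constr ℕ v) ∘ b := by ext i; simp
  rw [this]
  exact b.linearIndependent.map' _ (LinearMap.ker_eq_bot.mpr hinj)

/-- If `t • Q ⊆ p • Q` with `t` outside the prime `p`, then `Q` vanishes at `p`. -/
theorem notMem_support_of_smul_le {A Q : Type*} [CommRing A] [AddCommGroup Q] [Module A Q]
    [Module.Finite A Q] (p : PrimeSpectrum A) (t : A) (ht : t ∉ p.asIdeal)
    (h : ∀ x : Q, t • x ∈ p.asIdeal • (⊤ : Submodule A Q)) : p ∉ Module.support A Q := by
  obtain ⟨P, hmonic, hdeg, hcoeff, haeval⟩ :=
    LinearMap.exists_monic_and_natDegree_eq_and_coeff_mem_pow_and_aeval_eq_zero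
      A (t • LinearMap.id : Module.End A Q) p.asIdeal (by rintro _ ⟨x, rfl⟩; exact h x)
  have key : ∀ x : Q, P.eval t • x = 0 := fun x => by
    have h1 : Polynomial.aeval (t • LinearMap.id : Module.End A Q) P =
        algebraMap A (Module.End A Q) (P.eval t) := by
      rw [show (t • LinearMap.id : Module.End A Q) = algebraMap A (Module.End A Q) t from rfl,
        Polynomial.aeval_algebraMap_apply]
      rfl
    simpa [Module.algebraMap_end_apply] using LinearMap.congr_fun (h1.symm.trans haeval) x
  refine Module.notMem_support_iff'.mpr fun x => ⟨P.eval t, fun hmem => ht ?_, key x⟩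
  rw [Polynomial.eval_eq_sum_range, Finset.sum_range_succ, hmonic.coeff_natDegree, one_mul] at hmem
  refine p.isPrime.mem_of_pow_mem P.natDegree ?_
  have h2 : ∑ i ∈ Finset.range P.natDegree, P.coeff i * t ^ i ∈ p.asIdeal :=
    Ideal.sum_mem _ fun i hi => Ideal.mul_mem_right _ _
      (Ideal.pow_le_self (by have := Finset.mem_range.mp hi; omega) (hcoeff i))
  exact (p.asIdeal.add_mem_iff_right h2).mp hmem

theorem exists_basis (A : Type*) [CommRing A] (M : Type*) [AddCommGroup M] [Module A M]
    [Module.Finite A M] [Module.Projective A M] (n : ℕ) (P : Finset (PrimeSpectrum A))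
    (hP : ∀ p ∈ P, ∃ g : A, g ∉ p.asIdeal ∧
      Nonempty (Module.Basis (Fin n) (Localization.Away g) (LocalizedModule (Submonoid.powers g) M))) :
    ∃ (s : Fin n → M) (U : Set (PrimeSpectrum A)), IsOpen U ∧ (∀ p ∈ P, p ∈ U) ∧
      ∀ q ∈ U,
        LinearIndependent (Localization.AtPrime q.asIdeal)
            (fun j => LocalizedModule.mkLinearMap q.asIdeal.primeCompl M (s j)) ∧
          Submodule.span (Localization.AtPrime q.asIdeal)
            (Set.range fun j => LocalizedModule.mkLinearMap q.asIdeal.primeCompl M (s j)) = ⊤ := by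
  classical
  haveI : Module.FinitePresentation A M := Module.finitePresentation_of_projective A M
  have hrank : ∀ p ∈ P, Module.rankAtStalk (R := A) M p = n := by
    intro p hp
    obtain ⟨g, hg, ⟨b⟩⟩ := hP p hp
    obtain ⟨q, rfl⟩ : p ∈ Set.range (PrimeSpectrum.comap (algebraMap A (Localization.Away g))) := by
      rw [PrimeSpectrum.localization_away_comap_range (Localization.Away g) g]
      exact hg
    haveI := Module.Free.of_basis b
    haveI : Nontrivial (Localization.Away g) := nontrivial_of_ne 1 0 fun h =>
      q.isPrime.ne_top ((Ideal.eq_top_iff_one _).mpr (h ▸ q.asIdeal.zero_mem))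
    rw [← Module.rankAtStalk_isBaseChange (LocalizedModule.isBaseChange (Submonoid.powers g) M) q,
      Module.rankAtStalk_eq_finrank_of_free, Pi.natCast_apply, Nat.cast_id,
      Module.finrank_eq_card_basis b, Fintype.card_fin]
  have hgen : ∀ p : PrimeSpectrum A, ∃ v : Fin n → M, Module.rankAtStalk (R := A) M p = n →
      ∀ m : M, ∃ r : A, r ∉ p.asIdeal ∧ r • m ∈ Submodule.span A (Set.range v) := by
    intro p
    by_cases hr : Module.rankAtStalk (R := A) M p = n
    swap
    · exact ⟨0, fun h => absurd h hr⟩
    let K := Localization.AtPrime p.asIdeal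
    let N := LocalizedModule p.asIdeal.primeCompl M
    let b : Module.Basis (Fin n) K N :=
      haveI : Module.Free K N := Module.free_of_flat_of_isLocalRing
      Module.finBasisOfFinrankEq K N hr
    choose x hx using fun i => IsLocalizedModule.surj p.asIdeal.primeCompl
      (LocalizedModule.mkLinearMap p.asIdeal.primeCompl M) (b i)
    refine ⟨fun i => (x i).1, fun _ m => ?_⟩
    have hmem : (LocalizedModule.mkLinearMap p.asIdeal.primeCompl M) m ∈
        Submodule.localized' K p.asIdeal.primeCompl
          (LocalizedModule.mkLinearMap p.asIdeal.primeCompl M)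
          (Submodule.span A (Set.range fun i => (x i).1)) := by
      rw [← b.sum_repr ((LocalizedModule.mkLinearMap p.asIdeal.primeCompl M) m)]
      refine Submodule.sum_mem _ fun i _ => Submodule.smul_mem _ _ ?_
      refine ⟨(x i).1, Submodule.subset_span ⟨i, rfl⟩, (x i).2, ?_⟩
      rw [IsLocalizedModule.mk'_eq_iff, hx]
    obtain ⟨w, hw, s, hs⟩ := hmem
    rw [IsLocalizedModule.mk'_eq_iff, Submonoid.smul_def, ← map_smul] at hs
    obtain ⟨c, hc⟩ := (IsLocalizedModule.eq_iff_exists p.asIdeal.primeCompl _).mp hs
    refine ⟨(c : A) * s, Ideal.IsPrime.mul_notMem p.isPrime c.2 s.2, ?_⟩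
    rw [mul_smul]
    have : (c : A) • (s : A) • m = (c : A) • w := by simpa [Submonoid.smul_def] using hc.symm
    rw [this]
    exact Submodule.smul_mem _ _ hw
  choose v hv using hgen
  let P' := P.filter fun p => ∀ p' ∈ P, p ≤ p' → p' ≤ p
  have hsep : ∀ p ∈ P', ∃ e : A, e ∉ p.asIdeal ∧ ∀ p' ∈ P', p' ≠ p → e ∈ p'.asIdeal := by
    intro p hp
    have hne : ∀ p' ∈ P'.erase p, ∃ a ∈ p'.asIdeal, a ∉ p.asIdeal := by
      intro p' hp'
      obtain ⟨hne, hp'⟩ := Finset.mem_erase.mp hp'
      exact SetLike.not_le_iff_exists.mp fun hle => hne <|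
        le_antisymm hle ((Finset.mem_filter.mp hp').2 p (Finset.mem_filter.mp hp).1 hle)
    choose a ha ha' using hne
    refine ⟨∏ q ∈ (P'.erase p).attach, a q.1 q.2, fun h => ?_, fun p' hp' hne => ?_⟩
    · obtain ⟨q, -, hq⟩ := (Ideal.IsPrime.prod_mem_iff (hp := p.isPrime)).mp h
      exact ha' q.1 q.2 hq
    · exact Ideal.prod_mem _ (Finset.mem_attach _ ⟨p', Finset.mem_erase.mpr ⟨hne, hp'⟩⟩) (ha p' _)
  choose! e he he' using hsep
  let s : Fin n → M := fun j => ∑ p ∈ P', e p • v p j
  let Q := M ⧸ Submodule.span A (Set.range s)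
  refine ⟨s, (Module.support A Q)ᶜ ∩ (Module.rankAtStalk (R := A) M) ⁻¹' {n},
    (Module.isClosed_support.isOpen_compl).inter
      ((Module.isLocallyConstant_rankAtStalk (R := A) (M := M)).isOpen_fiber n), ?_, ?_⟩
  · intro p hp
    obtain ⟨p', hpp', hmax⟩ := P.exists_le_maximal hp
    have hp' : p' ∈ P' := Finset.mem_filter.mpr ⟨hmax.prop, fun q hq hle => hmax.2 hq hle⟩
    refine ⟨?_, hrank p hp⟩
    suffices p' ∉ Module.support A Q from fun h => this (Module.mem_support_mono hpp' h)
    obtain ⟨G, hG⟩ := Module.Finite.fg_top (R := A) (M := M)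
    choose r hr hrm using fun m : M => hv p' (hrank p' hmax.prop) m
    refine notMem_support_of_smul_le p' (e p' * ∏ m ∈ G, r m) (Ideal.IsPrime.mul_notMem p'.isPrime (he p' hp')
      (fun h => ?_)) fun x => ?_
    · obtain ⟨m, -, hm⟩ := (Ideal.IsPrime.prod_mem_iff (hp := p'.isPrime)).mp h
      exact hr m hm
    · obtain ⟨m, rfl⟩ := Submodule.Quotient.mk_surjective _ x
      have hvQ : ∀ j, e p' • (Submodule.Quotient.mk (v p' j) : Q) ∈
          p'.asIdeal • (⊤ : Submodule A Q) := by
        intro j
        have h0 : (Submodule.Quotient.mk (s j) : Q) = 0 :=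
          (Submodule.Quotient.mk_eq_zero _).mpr (Submodule.subset_span ⟨j, rfl⟩)
        simp only [s, ← Finset.add_sum_erase _ _ hp', Submodule.Quotient.mk_add,
          Submodule.Quotient.mk_smul] at h0
        rw [add_eq_zero_iff_eq_neg] at h0
        rw [h0, ← Submodule.mkQ_apply, map_sum]
        refine neg_mem (Submodule.sum_mem _ fun q hq => ?_)
        obtain ⟨hne, hq⟩ := Finset.mem_erase.mp hq
        rw [map_smul]
        exact Submodule.smul_mem_smul (he' q hq p' hp' hne.symm) Submodule.mem_top
      have hm : m ∈ Submodule.span A (G : Set M) := hG ▸ Submodule.mem_top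
      induction hm using Submodule.span_induction with
      | mem y hy =>
        rw [← Finset.mul_prod_erase G r hy, show e p' * (r y * ∏ i ∈ G.erase y, r i) =
          (∏ i ∈ G.erase y, r i) * e p' * r y by ring, mul_smul, mul_smul,
          ← Submodule.Quotient.mk_smul (p := Submodule.span A (Set.range s)) (r y) y]
        refine Submodule.smul_mem _ _ ?_
        obtain ⟨c, hc⟩ := (Submodule.mem_span_range_iff_exists_fun A).mp (hrm y)
        rw [← hc, ← Submodule.mkQ_apply, map_sum, Finset.smul_sum]
        refine Submodule.sum_mem _ fun j _ => ?_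
        rw [map_smul, smul_comm]
        exact Submodule.smul_mem _ _ (hvQ j)
      | zero => simp
      | add y z _ _ hy hz => rw [Submodule.Quotient.mk_add, smul_add]; exact add_mem hy hz
      | smul c y _ hy => rw [Submodule.Quotient.mk_smul, smul_comm]; exact Submodule.smul_mem _ _ hy
  · rintro q ⟨hq, hqn⟩
    let K := Localization.AtPrime q.asIdeal
    let N := LocalizedModule q.asIdeal.primeCompl M
    have hspan : Submodule.span K
        (Set.range fun j => LocalizedModule.mkLinearMap q.asIdeal.primeCompl M (s j)) = ⊤ := by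
      refine eq_top_iff.mpr fun x _ => ?_
      obtain ⟨⟨m, t⟩, hx⟩ := IsLocalizedModule.mk'_surjective q.asIdeal.primeCompl
        (LocalizedModule.mkLinearMap q.asIdeal.primeCompl M) x
      obtain ⟨r, hr, hrm⟩ := Module.notMem_support_iff'.mp hq (Submodule.Quotient.mk m)
      rw [← Submodule.Quotient.mk_smul, Submodule.Quotient.mk_eq_zero] at hrm
      have h1 : LocalizedModule.mkLinearMap q.asIdeal.primeCompl M (r • m) ∈
          (Submodule.span K (Set.range fun j =>
            LocalizedModule.mkLinearMap q.asIdeal.primeCompl M (s j))).restrictScalars A := by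
        refine (?_ : Submodule.map (LocalizedModule.mkLinearMap q.asIdeal.primeCompl M)
          (Submodule.span A (Set.range s)) ≤ _) (Submodule.mem_map_of_mem hrm)
        rw [Submodule.map_span, Submodule.span_le, ← Set.range_comp]
        exact Submodule.subset_span
      have hu : IsUnit (algebraMap A K (r * (t : A))) :=
        IsLocalization.map_units K (⟨r * t, Ideal.IsPrime.mul_notMem q.isPrime hr t.2⟩ : q.asIdeal.primeCompl)
      rw [← Submodule.smul_mem_iff_of_isUnit _ hu, algebraMap_smul, mul_smul, ← hx,
        Function.uncurry_apply_pair, ← Submonoid.smul_def, IsLocalizedModule.mk'_cancel', ← map_smul]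
      exact h1
    refine ⟨?_, hspan⟩
    haveI : Module.Free K N := Module.free_of_flat_of_isLocalRing
    exact linearIndependent_of_span_eq_top (Module.finBasisOfFinrankEq K N hqn) hspan


/-- Let A be a commutative ring, M a finitely generated projective A-module, n a natural number and P a
finite set of prime ideals of A such that for every p in P there is g outside p with M_g free of
rank n over A_g. Then there exist n elements of M and an open subset U of Spec A containing P such
that for every prime q in U the images of these elements in M_q form a basis of M_q over A_q. (The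
published conclusion is that the associated sheaf is free of rank n on some open neighbourhood of P;
the form given here, with n global elements of M, is what its proof produces.) -/
theorem result (A : Type u) [CommRing A] (M : Type u) [AddCommGroup M] [Module A M]
    [Module.Finite A M] [Module.Projective A M] (n : ℕ) (P : Finset (PrimeSpectrum A))
    (hP : ∀ p ∈ P, ∃ g : A, g ∉ p.asIdeal ∧
      Nonempty (Module.Basis (Fin n) (Localization.Away g) (LocalizedModule (Submonoid.powers g) M))) :
    ∃ (s : Fin n → M) (U : Set (PrimeSpectrum A)), IsOpen U ∧ (∀ p ∈ P, p ∈ U) ∧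
      ∀ q ∈ U,
        LinearIndependent (Localization.AtPrime q.asIdeal)
            (fun j => LocalizedModule.mkLinearMap q.asIdeal.primeCompl M (s j)) ∧
          Submodule.span (Localization.AtPrime q.asIdeal)
            (Set.range fun j => LocalizedModule.mkLinearMap q.asIdeal.primeCompl M (s j)) = ⊤ := by
  exact exists_basis A M n P hP

end Groth.Agent.S17902
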