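import Groth.Statements.S17909
import Groth.Agent.ZBNormBC.Basic

set_option autoImplicit false
universe u
open scoped TensorProduct
open PolLaw

namespace Groth.Agent.S17909

/-- Affine-free form, stated through the universal property of the norm module. Let R → R' be a
commutative algebra, free of finite rank as an R-module; let Q be a commutative R-algebra and Q' a
commutative ring under both Q and R' which is their pushout over R; let M' be an R'-module and f :
M' → M'' an R'-linear map into a Q'-module that exhibits M'' as Q' ⊗_{R'} M'. Let (N, ν) be a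
universal normic pair for M' over R (ν a polynomial law M' → N over R with ν(x · m) = norm(x) · ν(m)
over every commutative test ring, through which every normic law factors by a unique linear map) and
(N'', ν'') a universal normic pair for M'' over Q. Then there is an R-linear map u : N → N'' which
is compatible with the two laws over every commutative Q-algebra P, in the sense ν''_P (p ⊗ f m) =
(p ⊗ u)(ν_P (p ⊗ m)), and whose Q-linear extension Q ⊗_R N → N'' is an isomorphism (N'' is the base
change of N along R → Q via u). (The published statements are for the norm modules constructed from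
divided powers, for a finite locally free extension of constant rank; here the extension is free
over an affine base and the norm modules enter through their universal property.) -/
theorem result {R R' Q Q' : Type u} [CommRing R] [CommRing R'] [Algebra R R']
    [CommRing Q] [Algebra R Q] [CommRing Q'] [Algebra R Q'] [Algebra Q Q'] [Algebra R' Q']
    [IsScalarTower R Q Q'] [IsScalarTower R R' Q'] [Algebra.IsPushout R R' Q Q']
    [Module.Free R R'] [Module.Finite R R']
    {M' : Type u} [AddCommGroup M'] [Module R M'] [Module R' M'] [IsScalarTower R R' M']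
    {M'' : Type u} [AddCommGroup M''] [Module R M''] [Module R' M''] [Module Q M''] [Module Q' M'']
    [IsScalarTower R R' M''] [IsScalarTower R Q M''] [IsScalarTower R' Q' M''] [IsScalarTower Q Q' M'']
    (f : M' →ₗ[R'] M'') (hf : IsBaseChange Q' f)
    {N : Type u} [AddCommGroup N] [Module R N] (ν : M' →ₚₗ[R] N) (hν : PolLaw.IsUnivNormic R' ν)
    {N'' : Type u} [AddCommGroup N''] [Module R N''] [Module Q N''] [IsScalarTower R Q N'']
    (ν'' : M'' →ₚₗ[Q] N'') (hν'' : PolLaw.IsUnivNormic Q' ν'') :
    ∃ u : N →ₗ[R] N'',
      (∀ (P : Type u) [CommRing P] [Algebra R P] [Algebra Q P] [IsScalarTower R Q P] (m : P ⊗[R] M'),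
          ν''.toFun' P (PolLaw.bcAlong (f.restrictScalars R) P m) = PolLaw.bcAlong u P (ν.toFun' P m)) ∧
      IsBaseChange Q u := by
  have hg : IsBaseChange Q (f.restrictScalars R) :=
    Groth.Agent.ZBNormBC.isBaseChange_restrict (R' := R') (Q' := Q') f hf
  obtain ⟨u, hu, -⟩ := hν.2 N'' _ (Groth.Agent.ZBNormBC.isNormic_res (Q' := Q') hg ν'' hν''.1)
  have hcompat : ∀ (P : Type _) [CommRing P] [Algebra R P] [Algebra Q P] [IsScalarTower R Q P]
      (m : P ⊗[R] M'), ν''.toFun' P (PolLaw.bcAlong (f.restrictScalars R) P m) =
        PolLaw.bcAlong u P (ν.toFun' P m) := by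
    intro P _ _ _ _ m
    have hm : u.lTensor P (ν.toFun' P m) = (Groth.Agent.ZBNormBC.res hg ν'').toFun' P m := by
      rw [← hu]; rfl
    have hbc : ∀ z, PolLaw.bcAlong u P z =
        PolLaw.bcAlong (LinearMap.id : N'' →ₗ[R] N'') P (u.lTensor P z) := fun z => by
      induction z using TensorProduct.induction_on with
      | zero => simp
      | tmul p n => simp [PolLaw.bcAlong]
      | add a b ha hb => exact ((PolLaw.bcAlong (Q := Q) u P).map_add a b).trans ((congrArg₂ (· + ·) ha hb).trans (by simp only [map_add]))
    let φ : Q ⊗[R] P →ₐ[Q] P :=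
      Algebra.TensorProduct.lift (Algebra.ofId Q P) (AlgHom.id R P) fun _ _ => Commute.all _ _
    have hk : ∀ z, PolLaw.bcAlong (LinearMap.id : N'' →ₗ[R] N'') P
        (Groth.Agent.ZBNormBC.beta Q N'' P z) = φ.toLinearMap.rTensor N'' z := fun z => by
      induction z using TensorProduct.induction_on with
      | zero => simp
      | tmul w e =>
        induction w using TensorProduct.induction_on with
        | zero => simp
        | tmul q t =>
          simp [PolLaw.bcAlong, φ, Algebra.ofId_apply, ← Algebra.smul_def, TensorProduct.smul_tmul]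
        | add a b ha hb => simp only [TensorProduct.add_tmul, map_add, ha, hb]
      | add a b ha hb => simp only [map_add, ha, hb]
    have hφ : (φ.restrictScalars R).comp (Groth.Agent.ZBNormBC.inc (Q := Q) P) = AlgHom.id R P :=
      AlgHom.ext fun p => by simp [φ, Groth.Agent.ZBNormBC.inc]
    rw [hbc, hm]
    show _ = PolLaw.bcAlong _ P (Groth.Agent.ZBNormBC.beta Q N'' P _)
    rw [hk, ← Function.comp_apply (f := φ.toLinearMap.rTensor N''), ν''.isCompat' φ,
      Function.comp_apply, Groth.Agent.ZBNormBC.A_nat, ← LinearMap.rTensor_comp_apply,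
      ← AlgHom.comp_toLinearMap, hφ, AlgHom.toLinearMap_id, LinearMap.rTensor_id_apply,
      Groth.Agent.ZBNormBC.A_eq_bcAlong]
  refine ⟨u, hcompat, ?_⟩
  obtain ⟨φ, hφ, -⟩ := hν''.2 (Q ⊗[R] N) _ (Groth.Agent.ZBNormBC.isNormic_extQ (Q' := Q') hg ν hν.1)
  let uQ : Q ⊗[R] N →ₗ[Q] N'' := u.liftBaseChange Q
  have h1 : uQ ∘ₗ φ = LinearMap.id := by
    refine (hν''.2 N'' ν'' hν''.1).unique ?_ ?_
    · refine Groth.Agent.PolLib.law_ext' fun n p => ?_
      show (uQ ∘ₗ φ).lTensor _ (ν''.toFun' _ p) = _
      rw [LinearMap.lTensor_comp_apply,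
        show φ.lTensor _ (ν''.toFun' _ p) = (Groth.Agent.ZBNormBC.extQ hg ν).toFun' _ p by
          rw [← hφ]; rfl, Groth.Agent.ZBNormBC.extQ_apply]
      have := hcompat (MvPolynomial (Fin n) Q) ((Groth.Agent.ZBNormBC.A hg _).symm p)
      rw [← Groth.Agent.ZBNormBC.A_eq_bcAlong hg, LinearEquiv.apply_symm_apply] at this
      rw [this]
      rfl
    · refine Groth.Agent.PolLib.law_ext' fun n p => ?_
      show (LinearMap.id).lTensor _ _ = _
      simp
  have h2 : φ.restrictScalars R ∘ₗ u = (TensorProduct.mk R Q N 1) := by
    refine (hν.2 _ _ (Groth.Agent.ZBNormBC.isNormic_postcomp ν hν.1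
      (TensorProduct.mk R Q N 1))).unique ?_ rfl
    refine Groth.Agent.PolLib.law_ext' fun n p => ?_
    show (φ.restrictScalars R ∘ₗ u).lTensor _ (ν.toFun' _ p) =
      (TensorProduct.mk R Q N 1).lTensor _ (ν.toFun' _ p)
    rw [LinearMap.lTensor_comp_apply,
      show u.lTensor _ (ν.toFun' _ p) = (Groth.Agent.ZBNormBC.res hg ν'').toFun' _ p by rw [← hu]; rfl]
    have hnat : ∀ (S : Type _) [CommRing S] [Algebra R S] (z : (Q ⊗[R] S) ⊗[Q] N''),
        (φ.restrictScalars R).lTensor S (Groth.Agent.ZBNormBC.beta Q N'' S z) =
          Groth.Agent.ZBNormBC.beta Q (Q ⊗[R] N) S (φ.lTensor (Q ⊗[R] S) z) := by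
      intro S _ _ z
      induction z using TensorProduct.induction_on with
      | zero => simp
      | tmul w e =>
        induction w using TensorProduct.induction_on with
        | zero => simp
        | tmul q t => simp
        | add a b ha hb => simp only [TensorProduct.add_tmul, map_add, ha, hb]
      | add a b ha hb => simp only [map_add, ha, hb]
    show (φ.restrictScalars R).lTensor _ (Groth.Agent.ZBNormBC.beta Q N'' _ _) = _
    rw [hnat]
    set m' := (Groth.Agent.ZBNormBC.inc (Q := Q) (MvPolynomial (Fin n) R)).toLinearMap.rTensor M' p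
      with hm'
    rw [show ∀ w, φ.lTensor (Q ⊗[R] MvPolynomial (Fin n) R) (ν''.toFun' _ w) =
        (Groth.Agent.ZBNormBC.extQ hg ν).toFun' _ w from fun w => by rw [← hφ]; rfl,
      Groth.Agent.ZBNormBC.extQ_apply, LinearEquiv.symm_apply_apply, hm',
      ← Function.comp_apply (f := ν.toFun' _),
      ← ν.isCompat' (Groth.Agent.ZBNormBC.inc (Q := Q) (MvPolynomial (Fin n) R)),
      Function.comp_apply]
    generalize ν.toFun' _ p = z
    induction z using TensorProduct.induction_on with
    | zero => simp
    | tmul s e => simp [Groth.Agent.ZBNormBC.inc]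
    | add a b ha hb => simp only [map_add, ha, hb]
  have h3 : φ ∘ₗ uQ = LinearMap.id := by
    refine TensorProduct.AlgebraTensorModule.ext fun q n => ?_
    have := DFunLike.congr_fun h2 n
    simp only [LinearMap.comp_apply, LinearMap.restrictScalars_apply, TensorProduct.mk_apply] at this
    simp [uQ, this, TensorProduct.smul_tmul']
  exact IsBaseChange.of_equiv (LinearEquiv.ofLinearMap uQ φ h1 h3) fun n => by simp [uQ]

end Groth.Agent.S17909
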