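import Groth.Statements.S17963
import Groth.Agent.PBC50.ConnFibre

set_option linter.style.haveILetI false
set_option backward.isDefEq.respectTransparency.types false

set_option autoImplicit false
open CategoryTheory CategoryTheory.Limits AlgebraicGeometry
universe u
open Hensel

namespace Groth.Agent.S17963

/-- Let (A, I) be a henselian pair and f : X ⟶ Spec A a proper morphism of finite presentation, and let
X₀ = X ×_{Spec A} Spec (A/I). Then X is nonempty and connected if and only if X₀ is nonempty and
connected. -/
theorem result
    (A : Type u) [CommRing A] (I : Ideal A) [HenselianRing A I] {X : Scheme.{u}}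
    (f : X ⟶ Spec (CommRingCat.of A)) [IsProper f] [LocallyOfFinitePresentation f] :
    ConnectedSpace ↥X ↔ ConnectedSpace ↥(pullback f (Spec.map (CommRingCat.ofHom (Ideal.Quotient.mk I)))) := by
  let i := Spec.map (CommRingCat.ofHom (Ideal.Quotient.mk I))
  haveI : IsClosedImmersion i := IsClosedImmersion.spec_of_surjective _ Ideal.Quotient.mk_surjective
  let φ := pullback.fst f i
  haveI : IsClosedImmersion φ := inferInstance
  have hr : Set.range φ = f ⁻¹' PrimeSpectrum.zeroLocus (I : Set A) := by
    rw [show Set.range φ = f ⁻¹' Set.range i from Scheme.Pullback.range_fst f i]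
    congr 1
    show Set.range (PrimeSpectrum.comap (Ideal.Quotient.mk I)) = _
    rw [range_comap_of_surjective _ _ Ideal.Quotient.mk_surjective, Ideal.mk_ker]
  haveI := PBC50.spectralSpace f
  haveI := PBC50.spectralSpace (pullback.snd f i)
  have hemb : Topology.IsEmbedding φ := φ.isClosedEmbedding.isEmbedding
  have hbij : Function.Bijective hemb.continuous.connectedComponentsMap :=
    ⟨PBC50.injective_connectedComponentsMap I f hemb hr, PBC50.surjective_connectedComponentsMap I f hemb.continuous hr⟩
  let e := Equiv.ofBijective _ hbij
  rw [connectedSpace_iff_connectedComponent, connectedSpace_iff_connectedComponent]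
  constructor
  · rintro ⟨x, hx⟩
    obtain ⟨p₀, hp₀⟩ := _root_.ConnectedComponents.surjective_coe (e.symm (x : _root_.ConnectedComponents X))
    refine ⟨p₀, Set.eq_univ_of_forall fun q => _root_.ConnectedComponents.coe_eq_coe'.mp (e.injective ?_)⟩
    obtain ⟨a, ha⟩ := _root_.ConnectedComponents.surjective_coe (e (q : _root_.ConnectedComponents _))
    obtain ⟨b, hb⟩ := _root_.ConnectedComponents.surjective_coe (e (p₀ : _root_.ConnectedComponents _))
    rw [← ha, ← hb, _root_.ConnectedComponents.coe_eq_coe']
    rw [connectedComponent_eq (hx ▸ Set.mem_univ b : b ∈ connectedComponent x) |>.symm, hx]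
    trivial
  · rintro ⟨p₀, hp₀⟩
    refine ⟨φ p₀, Set.eq_univ_of_forall fun x => _root_.ConnectedComponents.coe_eq_coe'.mp ?_⟩
    obtain ⟨c, hc⟩ := e.surjective (x : _root_.ConnectedComponents X)
    obtain ⟨q, rfl⟩ := _root_.ConnectedComponents.surjective_coe c
    have h1 : q ∈ connectedComponent p₀ := by rw [hp₀]; trivial
    rw [← hc, _root_.ConnectedComponents.coe_eq_coe'.mpr h1]
    rfl

end Groth.Agent.S17963
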