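import Groth.Statements.S1798
import Groth.Agent.LocDual54.LocFreeKill
import Groth.Agent.LocDual54.Punctured

set_option autoImplicit false
universe u
open CategoryTheory AlgebraicGeometry
open LocCoh

namespace Groth.Agent.S1798

/-- Let A be a ring, J ⊆ I finitely generated ideals, U the open complement of V(I) in Spec A and p ≥ 0.
If some power of J kills H^p(U, O_U), then for each finite locally free O_U-module F some power of J
kills H^p(U, F). -/
theorem result (A : Type u) [CommRing A] (J I : Ideal A) (hJI : J ≤ I) (hJ : J.FG) (hI : I.FG) (p n : ℕ) (hO : ∀ a ∈ J ^ n, ∀ x : Coh.HH (↑(LocCoh.puncturedOpen A I)) (Coh.structureModule (↑(LocCoh.puncturedOpen A I))) p, a • x = 0) (F : (↑(LocCoh.puncturedOpen A I) : Scheme.{u}).Modules) (hF : FlatMod.IsFinLocFree F) : ∃ m : ℕ, ∀ a ∈ J ^ m, ∀ x : Coh.HH (↑(LocCoh.puncturedOpen A I)) F p, a • x = 0 := by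
  haveI := Groth.Agent.LocDual54.compactSpace_puncturedOpen hI
  haveI := Groth.Agent.LocDual54.quasiSeparatedSpace_puncturedOpen (I := I)
  let K : Ideal A := Module.annihilator A (Coh.HH (↑(LocCoh.puncturedOpen A I)) F p)
  have hrad : I ≤ (Submodule.colon K ((J ^ n : Ideal A) : Set A)).radical := by
    intro f hf
    obtain ⟨N, hN⟩ := Groth.Agent.LocDual54.exists_pow_kill (A := A) hF p f
      (Groth.Agent.LocDual54.isAffineOpen_basicOpen_puncturedOpen hf)
    refine ⟨N, Submodule.mem_colon.2 fun a ha => Module.mem_annihilator.2 fun x => ?_⟩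
    rw [smul_eq_mul, mul_comm]
    exact hN a (hO a ha) x
  obtain ⟨M, hM⟩ := Ideal.exists_pow_le_of_le_radical_of_fg hrad hI
  refine ⟨n + M, fun a ha x => ?_⟩
  have hle : J ^ (n + M) ≤ K := by
    rw [pow_add]
    refine Ideal.mul_le.2 fun r hr s hs => ?_
    have h := Submodule.mem_colon.1 (hM (Ideal.pow_right_mono hJI M hs)) r hr
    rwa [smul_eq_mul, mul_comm] at h
  exact Module.mem_annihilator.1 (hle ha) x

end Groth.Agent.S1798
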