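import Groth.Statements.S17986
import Groth.Agent.WeilNumLib.EnlargedGor
import Groth.Agent.WeilNumLib.Family
import Groth.Agent.WeilNumLib.Ordinary
import Mathlib.RingTheory.Polynomial.UniqueFactorization

set_option autoImplicit false
universe u
open MvPolynomial
open scoped Classical
open WeilNum

namespace Groth.Agent.S17986

/-- Let p be a prime, e ≥ 1, and assume q = p^e = s² for an integer s (of either sign; s is then a
rational Weil q-number). Let (π_i) be a finite family of pairwise nonconjugate nonrational Weil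
q-numbers: π_i lies in a field K_i of characteristic zero, is integral over ℤ with minimal
polynomial P_i of degree different from 1, every complex root of P_i has absolute value √q, and P_i
≠ P_j for i ≠ j (since q is a square these π_i are nonreal, so Σ_i deg P_i = 2D is even). Put P_v =
∏_i P_i and let h ∈ ℤ[F, V] (F = X_0, V = X_1) be any polynomial with F^D · h ≡ P_v(F) modulo FV −
q. Consider the ring map ℤ[F, V] → (∏_i K_i) × ℚ sending F to ((π_i)_i, s) and V to ((q/π_i)_i, s);
its image R_w is the minimal central order of the family enlarged by s. Then: (1) its kernel is the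
ideal generated by FV − q, h · (F − s) and h · (V − s); (2) R_w is a Gorenstein ring if and only if
every π_i is ordinary, meaning that exactly half of the roots of P_i in an algebraic closure of ℚ_p,
counted with multiplicity, are p-adic units. -/
theorem result (p e : ℕ) [Fact p.Prime] (he : 0 < e)
    (s : ℤ) (hs : s ^ 2 = (p : ℤ) ^ e)
    (ι : Type) [Fintype ι] (K : ι → Type u) [∀ i, Field (K i)] [∀ i, CharZero (K i)] (π : ∀ i, K i)
    (hint : ∀ i, IsIntegral ℤ (π i)) (hdeg : ∀ i, (minpoly ℤ (π i)).natDegree ≠ 1)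
    (hweil : ∀ i, ∀ z ∈ (minpoly ℤ (π i)).aroots ℂ, ‖z‖ = Real.sqrt ((p : ℝ) ^ e))
    (hinj : ∀ i j, minpoly ℤ (π i) = minpoly ℤ (π j) → i = j)
    (D : ℕ) (hD : ∑ i, (minpoly ℤ (π i)).natDegree = 2 * D)
    (h : MvPolynomial (Fin 2) ℤ)
    (hh : X 0 ^ D * h - Polynomial.aeval (X 0 : MvPolynomial (Fin 2) ℤ) (∏ i, minpoly ℤ (π i)) ∈
      Ideal.span ({X 0 * X 1 - C ((p : ℤ) ^ e)} : Set (MvPolynomial (Fin 2) ℤ))) :
    RingHom.ker (MvPolynomial.aeval ![(⟨fun i => π i, (s : ℚ)⟩ : ((i : ι) → K i) × ℚ), ⟨fun i => ((p : K i) ^ e) / π i, (s : ℚ)⟩] :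
        MvPolynomial (Fin 2) ℤ →ₐ[ℤ] (((i : ι) → K i) × ℚ)) =
        Ideal.span {X 0 * X 1 - C ((p : ℤ) ^ e), h * (X 0 - C s), h * (X 1 - C s)} ∧
      (LocCoh.IsGorensteinRing (MvPolynomial.aeval ![(⟨fun i => π i, (s : ℚ)⟩ : ((i : ι) → K i) × ℚ), ⟨fun i => ((p : K i) ^ e) / π i, (s : ℚ)⟩] :
        MvPolynomial (Fin 2) ℤ →ₐ[ℤ] (((i : ι) → K i) × ℚ)).range ↔
        ∀ i, 2 * Multiset.card (((minpoly ℤ (π i)).aroots (PadicAlgCl p)).filter (fun z => ‖z‖ = 1)) = (minpoly ℤ (π i)).natDegree) := by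
  have hq := Groth.Agent.WeilNumLib.natCast_pow_ne_zero p e
  have hWi : ∀ i, Groth.Agent.WeilNumLib.IsWeilPoly ((p : ℤ) ^ e) (minpoly ℤ (π i)) := fun i =>
    Groth.Agent.WeilNumLib.IsWeilPoly.of_minpoly (hint i) (hweil i)
  have hev0 : ∀ i (t : ℤ), (minpoly ℤ (π i)).eval t ≠ 0 := by
    intro i t ht
    apply hdeg i
    have hdvd : Polynomial.X - Polynomial.C t ∣ minpoly ℤ (π i) := Polynomial.dvd_iff_isRoot.2 ht
    have hass := (Polynomial.irreducible_X_sub_C t).associated_of_dvd (minpoly.irreducible (hint i)) hdvd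
    rw [← Polynomial.eq_of_monic_of_associated (Polynomial.monic_X_sub_C t) (minpoly.monic (hint i)) hass,
      Polynomial.natDegree_X_sub_C]
  have heven : ∀ i, Even (minpoly ℤ (π i)).natDegree := by
    intro i
    refine ((hWi i).nonreal fun z hz him => ?_).1
    have hn := hweil i z hz
    have hre : (z.re : ℂ) = z := Complex.ext (by simp) (by simp [him])
    have hsq : z.re ^ 2 = (s : ℝ) ^ 2 := by
      have h1 : ‖z‖ ^ 2 = z.re ^ 2 := by
        rw [← hre, Complex.norm_real, Real.norm_eq_abs, sq_abs, Complex.ofReal_re]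
      rw [← h1, hn, Real.sq_sqrt (by positivity)]
      exact_mod_cast hs.symm
    obtain ⟨t, ht⟩ : ∃ t : ℤ, (t : ℂ) = z := by
      rcases sq_eq_sq_iff_eq_or_eq_neg.1 hsq with h1 | h1
      · exact ⟨s, by rw [← hre, h1]; simp⟩
      · exact ⟨-s, by rw [← hre, h1]; simp⟩
    apply hev0 i t
    have := (Polynomial.mem_aroots.1 hz).2
    rw [← ht, ← eq_intCast (algebraMap ℤ ℂ) t, Polynomial.aeval_algebraMap_apply_eq_algebraMap_eval] at this
    exact (algebraMap ℤ ℂ).injective_int (by rw [this, map_zero])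
  have hP := Groth.Agent.WeilNumLib.isWeilPoly_prod p e K π hint hweil
  have hD' := (Groth.Agent.WeilNumLib.natDegree_prod_minpoly K π hint).trans hD
  have hPs : (∏ i, minpoly ℤ (π i)).eval s ≠ 0 := by
    rw [Polynomial.eval_prod]
    exact Finset.prod_ne_zero_iff.2 fun i _ => hev0 i s
  let x := Groth.Agent.WeilNumLib.familyPt p e K π hint hweil hinj D hD
  have hh' : Groth.Agent.WeilNumLib.IsSymOf ((p : ℤ) ^ e) (∏ i, minpoly ℤ (π i)) D h := hh
  refine ⟨x.ker_eval₁ hh' hP hq hD' hs hPs, ?_⟩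
  rw [Groth.Agent.WeilNumLib.forall_ordinary_iff_prod p he hWi heven hD']
  by_cases hdvd : (p : ℤ) ∣ (∏ i, minpoly ℤ (π i)).coeff D
  · refine iff_of_false (x.not_gorensteinRing_enlarged he ?_ ?_ hh' hP hD' hs hPs hdvd) (fun h' => h' hdvd)
    · rcases Nat.eq_zero_or_pos D with h0 | h0
      · subst h0
        rw [Polynomial.eq_one_of_monic_natDegree_zero hP.monic hD', Polynomial.coeff_one_zero] at hdvd
        exact absurd hdvd (Nat.prime_iff_prime_int.1 Fact.out).not_dvd_one
      · exact h0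
    · exact Pi.isUnit_iff.2 fun i =>
        isUnit_iff_ne_zero.2 (by simpa using (Fact.out : p.Prime).ne_zero)
  · exact iff_of_true (x.gorensteinRing_enlarged he hh' hP hD' hs hPs hdvd) hdvd

end Groth.Agent.S17986
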