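import Groth.Agent.ResidualLib.GorDimOne
import Groth.Agent.VarDim.Basic
import Groth.Statements.S17988
-- import your own Groth.Agent.* helpers here

set_option autoImplicit false
universe u
open CAlg

namespace Groth.Agent.S17988


open scoped nonZeroDivisors

/-- A finite module without torsion over a reduced finite free algebra over a domain is a direct
summand of a free module up to a nonzero scalar of the base. -/
theorem exists_smul_eq_sum (Λ : Type u) [CommRing Λ] [IsDomain Λ] [IsNoetherianRing Λ]
    (S : Type u) [CommRing S] [Algebra Λ S] [Module.Finite Λ S] [Module.IsTorsionFree Λ S] [IsReduced S]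
    (M : Type u) [AddCommGroup M] [Module S M] [Module Λ M] [IsScalarTower Λ S M] [Module.Finite S M]
    [Module.IsTorsionFree Λ M] :
    ∃ (t : Λ) (n : ℕ) (φ : Fin n → M →ₗ[S] S) (m : Fin n → M), t ≠ 0 ∧
      ∀ x, t • x = ∑ i, φ i x • m i := by
  classical
  have : IsNoetherianRing S := IsNoetherianRing.of_finite Λ S
  let T : Submonoid S := Algebra.algebraMapSubmonoid S Λ⁰
  let A := Localization T
  have hcomap : ∀ q : Ideal S, Disjoint (T : Set S) q → q.comap (algebraMap Λ S) = ⊥ := by
    intro q hq
    rw [eq_bot_iff]
    intro a ha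
    by_contra ha0
    exact Set.disjoint_left.mp hq ⟨a, mem_nonZeroDivisors_of_ne_zero ha0, rfl⟩ ha
  have : Ring.KrullDimLE 0 A := by
    refine Ring.KrullDimLE.mk₀ fun P hP => ?_
    obtain ⟨Q, hQmax, hPQ⟩ := Ideal.exists_le_maximal P hP.ne_top
    obtain ⟨hp, hpd⟩ := (IsLocalization.isPrime_iff_isPrime_disjoint T A P).mp hP
    obtain ⟨hq, hqd⟩ := (IsLocalization.isPrime_iff_isPrime_disjoint T A Q).mp hQmax.isPrime
    have heq : P.comap (algebraMap S A) = Q.comap (algebraMap S A) := by
      by_contra hne
      have hlt := lt_of_le_of_ne (Ideal.comap_mono hPQ) hne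
      obtain ⟨x, hx, hxn⟩ := SetLike.exists_of_lt hlt
      have h1 := Ideal.comap_lt_comap_of_integral_mem_sdiff (I := P.comap (algebraMap S A))
        (J := Q.comap (algebraMap S A)) (R := Λ) (Ideal.comap_mono hPQ) ⟨hx, hxn⟩
        (Algebra.IsIntegral.isIntegral x)
      rw [hcomap _ hqd, hcomap _ hpd] at h1
      exact lt_irrefl _ h1
    have : P = Q := by
      rw [← IsLocalization.map_under T A P, ← IsLocalization.map_under T A Q]
      exact congrArg (Ideal.map (algebraMap S A)) heq
    exact this ▸ hQmax
  have : IsArtinianRing A := IsNoetherianRing.isArtinianRing_of_krullDimLE_zero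
  have : IsReduced A := inferInstance
  have : IsSemisimpleRing A := IsArtinianRing.isSemisimpleRing_iff_jacobson.mpr (by
    rw [Ring.jacobson_eq_nilradical_of_krullDimLE_zero, nilradical_eq_zero]; rfl)
  let MA := LocalizedModule T M
  have : Module.Projective A MA := Module.projective_of_isSemisimpleRing A MA
  obtain ⟨n, π, hπ⟩ := Module.Finite.exists_fin' S M
  let ι : (Fin n → S) →ₗ[S] (Fin n → A) :=
    LinearMap.pi fun i => Algebra.linearMap S A ∘ₗ LinearMap.proj i
  let mk := LocalizedModule.mkLinearMap T M
  let πA := IsLocalizedModule.mapExtendScalars T ι mk A π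
  have hπA : Function.Surjective πA := IsLocalizedModule.map_surjective T ι mk π hπ
  obtain ⟨σ, hσ⟩ := Module.projective_lifting_property πA LinearMap.id hπA
  have : Module.FinitePresentation S M := Module.finitePresentation_of_finite S M
  obtain ⟨σ₀, ⟨_, t, ht, rfl⟩, hσ₀⟩ :=
    Module.FinitePresentation.exists_lift_of_isLocalizedModule T ι (σ.restrictScalars S ∘ₗ mk)
  have hinj : Function.Injective mk := by
    intro x y hxy
    obtain ⟨⟨_, a, ha, rfl⟩, h⟩ := (IsLocalizedModule.eq_iff_exists T mk).mp hxy
    simp only [Submonoid.smul_def, algebraMap_smul] at h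
    rw [← sub_eq_zero, ← smul_sub, smul_eq_zero] at h
    exact sub_eq_zero.mp (h.resolve_left (nonZeroDivisors.ne_zero ha))
  refine ⟨t, n, fun i => LinearMap.proj i ∘ₗ σ₀, fun i => π (Pi.single i 1),
    nonZeroDivisors.ne_zero ht, fun x => ?_⟩
  have h2 : ∑ i, (LinearMap.proj i ∘ₗ σ₀) x • π (Pi.single i 1) = π (σ₀ x) := by
    simp only [LinearMap.comp_apply, LinearMap.proj_apply, ← map_smul, ← map_sum]
    congr 1
    exact (pi_eq_sum_univ' (σ₀ x)).symm
  rw [h2]
  apply hinj
  have h1 : πA (ι (σ₀ x)) = mk (π (σ₀ x)) := IsLocalizedModule.map_apply T ι mk π (σ₀ x)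
  have h3 : ι (σ₀ x) = algebraMap Λ S t • σ (mk x) := LinearMap.congr_fun hσ₀ x
  rw [← h1, h3, algebraMap_smul, LinearMap.map_smul_of_tower πA,
    show πA (σ (mk x)) = mk x from LinearMap.congr_fun hσ (mk x), LinearMap.map_smul_of_tower mk]

/-- Let Λ be a principal ideal domain and S a commutative Λ-algebra which is finitely generated and free
as a Λ-module and reduced as a ring; let M be a finitely generated S-module. Then M is torsionless
(the canonical map M → M** to the double S-dual is injective) if and only if M is free as a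
Λ-module. If in addition S is a Gorenstein ring (it has Krull dimension at most 1, being finite over
Λ), then M is reflexive (M → M** bijective) if and only if M is free as a Λ-module, so that for such
S torsionless and reflexive finitely generated modules coincide. The published statement is the case
Λ = ℤ, resp. Λ = ℤ_ℓ for a prime ℓ, with S the minimal central order R_w of a finite set of Weil
q-numbers, resp. its ℓ-adic completion R_w ⊗ ℤ_ℓ, under the assumption that R_w is Gorenstein; the
argument given there uses only that S is finite free over Λ, reduced, and (for reflexivity)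
Gorenstein of dimension one. -/
theorem result (Λ : Type u) [CommRing Λ] [IsDomain Λ] [IsPrincipalIdealRing Λ]
    (S : Type u) [CommRing S] [Algebra Λ S] [Module.Finite Λ S] [Module.Free Λ S] [IsReduced S]
    (M : Type u) [AddCommGroup M] [Module S M] [Module Λ M] [IsScalarTower Λ S M] [Module.Finite S M] :
    (Function.Injective (Module.Dual.eval S M) ↔ Module.Free Λ M) ∧
      (LocCoh.IsGorensteinRing S → (Module.IsReflexive S M ↔ Module.Free Λ M)) := by
  classical
  have hkey : Module.IsTorsionFree Λ M → ∃ (t : Λ) (n : ℕ) (φ : Fin n → M →ₗ[S] S) (m : Fin n → M),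
      t ≠ 0 ∧ ∀ x, t • x = ∑ i, φ i x • m i := fun _ => exists_smul_eq_sum Λ S M
  have hML : Module.Finite Λ M := Module.Finite.trans S M
  have hto : Module.Free Λ M → Function.Injective (Module.Dual.eval S M) := by
    intro hfree
    obtain ⟨t, n, φ, m, ht, hφ⟩ := hkey inferInstance
    rw [injective_iff_map_eq_zero]
    intro x hx
    have h : t • x = 0 := by
      rw [hφ x]
      exact Finset.sum_eq_zero fun i _ => by
        rw [show φ i x = 0 from LinearMap.congr_fun hx (φ i), zero_smul]
    exact (smul_eq_zero.mp h).resolve_left ht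
  have hfrom : Function.Injective (Module.Dual.eval S M) → Module.Free Λ M := by
    intro hM
    have : Module.IsTorsionFree Λ M := Module.isTorsionFree_iff_smul_eq_zero.2 fun c x hx => by
      by_contra! hcx
      refine hcx.2 (hM ?_)
      rw [map_zero]
      refine LinearMap.ext fun φ => ?_
      have h : c • φ x = 0 := by rw [← LinearMap.map_smul_of_tower, hx, map_zero]
      exact (smul_eq_zero.mp h).resolve_left hcx.1
    exact Module.free_of_finite_type_torsion_free'
  refine ⟨⟨hfrom, hto⟩, fun hGor => ⟨fun h => hfrom h.bijective_dual_eval'.1, fun hfree => ?_⟩⟩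
  obtain ⟨t, n, φ, m, ht, hφ⟩ := hkey inferInstance
  have htS : algebraMap Λ S t ∈ nonZeroDivisors S := mem_nonZeroDivisors_iff_right.mpr fun y hy => by
    rw [mul_comm, ← Algebra.smul_def] at hy
    exact (smul_eq_zero.mp hy).resolve_left ht
  have hdim : ringKrullDim S ≤ 1 := by
    refine le_trans (Order.krullDim_le_of_strictMono _
      (VarDim.strictMono_comap_of_isIntegral (R := Λ) (S := S))) ?_
    exact Ring.krullDimLE_iff.mp (inferInstance : Ring.KrullDimLE 1 Λ)
  refine ResidualLib.isReflexive_of_smul_mem_range hdim M (hto hfree) fun y => ⟨_, htS, ?_⟩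
  refine ⟨∑ i, y (φ i) • m i, LinearMap.ext fun ψ => ?_⟩
  have h1 : ∑ i, ψ (m i) • φ i = algebraMap Λ S t • ψ := LinearMap.ext fun x => by
    simp only [LinearMap.sum_apply, LinearMap.smul_apply, smul_eq_mul]
    rw [← Algebra.smul_def, ← LinearMap.map_smul_of_tower, hφ, map_sum]
    simp only [map_smul, smul_eq_mul, mul_comm]
  have h2 := congrArg y h1
  simp only [map_sum, map_smul, smul_eq_mul] at h2
  show ψ (∑ i, y (φ i) • m i) = algebraMap Λ S t * y ψ
  rw [← h2, map_sum]
  refine Finset.sum_congr rfl fun i _ => ?_
  rw [map_smul, smul_eq_mul]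
  exact mul_comm _ _

end Groth.Agent.S17988
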