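import Mathlib
import Groth.Statements.S17990
-- import your own Groth.Agent.* helpers here

set_option autoImplicit false
universe u
open CAlg

namespace Groth.Agent.S17990


open IsLocalRing

section Local

variable (A : Type u) [CommRing A] [IsLocalRing A] [IsNoetherianRing A] [Ring.KrullDimLE 1 A]
  (M : Type u) [AddCommGroup M] [Module A M]

theorem local_equiv_self [Module.IsReflexive A M]
    (hend : Function.Bijective (algebraMap A (Module.End A M))) : Nonempty (M ≃ₗ[A] A) := by
  classical
  by_cases hsur : ∃ φ : M →ₗ[A] A, ∃ x, φ x = 1
  · obtain ⟨φ, x₀, hx₀⟩ := hsur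
    obtain ⟨c, hc⟩ := hend.2 (φ.smulRight x₀)
    have hc' : ∀ z, c • z = φ z • x₀ := fun z => by
      have := LinearMap.congr_fun hc z
      rwa [Module.algebraMap_end_apply, LinearMap.smulRight_apply] at this
    have hc1 : c = 1 := by
      have := congrArg φ (hc' x₀)
      rwa [map_smul, map_smul, hx₀, smul_eq_mul, smul_eq_mul, one_mul, mul_one] at this
    refine ⟨LinearEquiv.ofLinearMap φ (LinearMap.toSpanSingleton A M x₀) ?_ ?_⟩
    · ext
      simp [hx₀]
    · refine LinearMap.ext fun z => ?_
      simpa [hc1] using (hc' z).symm
  exfalso
  push Not at hsur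
  have hm : ∀ (φ : M →ₗ[A] A) z, φ z ∈ maximalIdeal A := by
    intro φ z
    by_contra hz
    obtain ⟨u, hu⟩ := notMem_maximalIdeal.mp hz
    exact hsur (((u⁻¹ : Aˣ) : A) • φ) z (by rw [LinearMap.smul_apply, ← hu, smul_eq_mul, Units.inv_mul])
  -- the trace ideal contains a nonzerodivisor
  let τ : Ideal A := Ideal.span {b | ∃ (φ : M →ₗ[A] A) (z : M), φ z = b}
  have hfaith : ∀ a : A, (∀ (φ : M →ₗ[A] A) z, a * φ z = 0) → a = 0 := by
    intro a ha
    refine hend.1 ?_
    rw [map_zero]
    refine LinearMap.ext fun z => (Module.bijective_dual_eval A M).1 (LinearMap.ext fun φ => ?_)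
    simp only [Module.algebraMap_end_apply, map_smul, LinearMap.smul_apply, Module.Dual.eval_apply,
      smul_eq_mul, ha, LinearMap.zero_apply, map_zero]
  have : FaithfulSMul A τ := ⟨fun {a b} hab => by
    rw [← sub_eq_zero]
    refine hfaith _ fun φ z => ?_
    have h := congrArg Subtype.val (hab ⟨φ z, Ideal.subset_span ⟨φ, z, rfl⟩⟩)
    simp only [Submodule.coe_smul, smul_eq_mul] at h
    rw [sub_mul, h, sub_self]⟩
  obtain ⟨t, htτ, ht⟩ := Ideal.nonempty_inter_nonZeroDivisors_of_faithfulSMul (I := τ)
  have hτm : τ ≤ maximalIdeal A :=
    Ideal.span_le.mpr fun b ⟨φ, z, h⟩ => h ▸ hm φ z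
  have htm : t ∈ maximalIdeal A := hτm htτ
  -- some power of the maximal ideal lies in `(t)`
  have hrad : maximalIdeal A ≤ (Ideal.span {t}).radical := by
    rw [Ideal.radical_eq_sInf]
    refine le_sInf ?_
    rintro q ⟨hq, hqp⟩
    rcases Ring.krullDimLE_one_iff.mp ‹_› q hqp with hmin | hmax
    · exact absurd ht (Set.disjoint_left.mp
        (Ideal.disjoint_nonZeroDivisors_of_mem_minimalPrimes hmin)
        (hq (Ideal.mem_span_singleton_self t)))
    · rw [eq_maximalIdeal hmax]
  have hex : ∃ n, maximalIdeal A ^ n ≤ Ideal.span {t} :=
    Ideal.exists_pow_le_of_le_radical_of_fg hrad (IsNoetherian.noetherian _)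
  have hn0 : Nat.find hex ≠ 0 := fun h0 => by
    have h := Nat.find_spec hex
    rw [h0, pow_zero, Ideal.one_eq_top, top_le_iff] at h
    exact (maximalIdeal.isMaximal A).ne_top
      (top_le_iff.mp (h ▸ (Ideal.span_singleton_le_iff_mem _).mpr htm))
  obtain ⟨k, hk⟩ := Nat.exists_eq_succ_of_ne_zero hn0
  obtain ⟨y, hy, hyt⟩ :=
    SetLike.not_le_iff_exists.mp (Nat.find_min hex (by omega : k < Nat.find hex))
  have hmy : ∀ a ∈ maximalIdeal A, ∃ b, a * y = t * b := by
    intro a ha
    have h : a * y ∈ maximalIdeal A ^ (k + 1) := by
      rw [pow_succ']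
      exact Ideal.mul_mem_mul ha hy
    exact Ideal.mem_span_singleton.mp (Nat.find_spec hex (by rwa [hk]))
  choose fb hfb using hmy
  have hcancel : ∀ a b, t * a = t * b → a = b := fun a b h =>
    (mul_cancel_left_mem_nonZeroDivisors ht).mp h
  let f : maximalIdeal A →ₗ[A] A :=
    { toFun := fun a => fb a.1 a.2
      map_add' := fun a b => hcancel _ _ (by
        rw [mul_add, ← hfb, ← hfb, ← hfb, Submodule.coe_add, add_mul])
      map_smul' := fun r a => hcancel _ _ (by
        rw [← hfb, RingHom.id_apply, smul_eq_mul, mul_left_comm, ← hfb, Submodule.coe_smul,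
          smul_eq_mul, mul_assoc]) }
  by_cases hf : ∀ a, f a ∈ maximalIdeal A
  · -- `f` defines an endomorphism of `M`, hence a scalar
    let G : M →ₗ[A] Module.Dual A (Module.Dual A M) :=
      LinearMap.mk₂ A (fun z φ => f ⟨φ z, hm φ z⟩)
        (fun z z' φ => by rw [← map_add]; congr 1; exact Subtype.ext (map_add φ z z'))
        (fun r z φ => by rw [← map_smul]; congr 1; exact Subtype.ext (map_smul φ r z))
        (fun z φ φ' => by rw [← map_add]; rfl)
        (fun r z φ => by rw [← map_smul]; rfl)
    obtain ⟨c, hc⟩ := hend.2 ((Module.evalEquiv A M).symm.toLinearMap ∘ₗ G)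
    have hkey : ∀ (φ : M →ₗ[A] A) z, f ⟨φ z, hm φ z⟩ = c * φ z := by
      intro φ z
      have h : c • z = (Module.evalEquiv A M).symm (G z) :=
        (Module.algebraMap_end_apply (R := A) (S := A) (M := M) c z).symm.trans
          (LinearMap.congr_fun hc z)
      have h2 := congrArg (fun w => Module.evalEquiv A M w φ) h
      simp only [LinearEquiv.apply_symm_apply, map_smul, LinearMap.smul_apply, smul_eq_mul] at h2
      exact h2.symm
    have hall : ∀ b (hb : b ∈ τ), f ⟨b, hτm hb⟩ = c * b := by
      intro b hb
      induction hb using Submodule.span_induction with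
      | mem b hb =>
        obtain ⟨φ, z, rfl⟩ := hb
        exact hkey φ z
      | zero => rw [mul_zero]; exact map_zero f
      | add b b' hb hb' h h' => rw [mul_add, ← h, ← h', ← map_add]; rfl
      | smul r b hb h =>
        calc _ = f (r • (⟨b, hτm hb⟩ : maximalIdeal A)) := rfl
          _ = r • (c * b) := by rw [map_smul, h]
          _ = c * (r • b) := by rw [smul_eq_mul, smul_eq_mul, mul_left_comm]
    have h : t * y = t * (c * t) := by
      rw [← hall t htτ]
      exact hfb t htm
    exact hyt (Ideal.mem_span_singleton.mpr ⟨c, by rw [hcancel _ _ h, mul_comm]⟩)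
  · -- the maximal ideal is principal, so every functional vanishes
    push Not at hf
    obtain ⟨⟨a, ha⟩, hfa⟩ := hf
    obtain ⟨u, hu⟩ := notMem_maximalIdeal.mp hfa
    have hay : a * y = t * u := hu ▸ hfb a ha
    have hnzd : ∀ x x', a * x = a * x' → x = x' := by
      intro x x' hxx
      have h := congrArg (· * y) hxx
      simp only [mul_right_comm a _ y, hay] at h
      rw [mul_assoc, mul_assoc] at h
      exact u.isUnit.mul_left_cancel (hcancel _ _ h)
    have hprin : ∀ b ∈ maximalIdeal A, ∃ e, b = a * e := by
      intro b hb
      refine ⟨fb b hb * ((u⁻¹ : Aˣ) : A), hcancel _ _ ?_⟩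
      have h1 := hfb b hb
      calc t * b = (t * u) * b * ((u⁻¹ : Aˣ) : A) := by
            rw [mul_right_comm t, mul_assoc (t * b), Units.mul_inv, mul_one]
        _ = a * (b * y) * ((u⁻¹ : Aˣ) : A) := by rw [← hay]; ring
        _ = t * (a * (fb b hb * ((u⁻¹ : Aˣ) : A))) := by rw [h1]; ring
    have hzero : ∀ (φ : M →ₗ[A] A) z, φ z ∈ (⊥ : Ideal A) := by
      intro φ z
      rw [← Ideal.iInf_pow_eq_bot_of_isLocalRing (maximalIdeal A) (maximalIdeal.isMaximal A).ne_top,
        Submodule.mem_iInf]
      intro i
      induction i generalizing φ with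
      | zero => simp
      | succ i ih =>
        choose e he using fun w => hprin _ (hm φ w)
        let ψ : M →ₗ[A] A :=
          { toFun := e
            map_add' := fun w w' => hnzd _ _ (by rw [mul_add, ← he, ← he, ← he, map_add])
            map_smul' := fun r w => hnzd _ _ (by
              rw [← he, RingHom.id_apply, smul_eq_mul, mul_left_comm, ← he, map_smul, smul_eq_mul]) }
        rw [he z, pow_succ']
        exact Ideal.mul_mem_mul ha (ih ψ)
    exact one_ne_zero (hfaith 1 fun φ z => by rw [one_mul]; exact hzero φ z)

end Local

section Localization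

variable {R : Type u} [CommRing R] [IsNoetherianRing R] (M : Type u) [AddCommGroup M] [Module R M]
  [Module.Finite R M] (S : Submonoid R)

omit [IsNoetherianRing R] in
theorem mapExtendScalars_apply_apply {M N M' N' A : Type*} [AddCommGroup M] [Module R M]
    [AddCommGroup N] [Module R N] [AddCommGroup M'] [Module R M'] [AddCommGroup N'] [Module R N']
    [CommRing A] [Algebra R A] [IsLocalization S A] [Module A M'] [Module A N']
    [IsScalarTower R A M'] [IsScalarTower R A N'] (f : M →ₗ[R] M') (g : N →ₗ[R] N')
    [IsLocalizedModule S f] [IsLocalizedModule S g] (h : M →ₗ[R] N) (x : M) :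
    IsLocalizedModule.mapExtendScalars S f g A h (f x) = g (h x) := by
  simp [IsLocalizedModule.mapExtendScalars, IsLocalizedModule.map_apply]

theorem localized_reflexive [Module.IsReflexive R M] :
    Module.IsReflexive (Localization S) (LocalizedModule S M) := by
  let mk := LocalizedModule.mkLinearMap S M
  let j := Algebra.linearMap R (Localization S)
  have : IsLocalizedModule S j :=
    (isLocalizedModule_iff_isLocalization' S _).mpr inferInstance
  have := Module.finitePresentation_of_finite R M
  let ι₁ := IsLocalizedModule.mapExtendScalars S mk j (Localization S) (M := M) (N := R)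
  have := Module.finitePresentation_of_finite R (Module.Dual R M)
  let ι₂ := IsLocalizedModule.mapExtendScalars S ι₁ j (Localization S) (M := Module.Dual R M) (N := R)
  let ev := (Module.Dual.eval (Localization S) (LocalizedModule S M)).restrictScalars R
  have key : IsLocalizedModule.map S mk ι₂ (Module.Dual.eval R M) = ev := by
    refine IsLocalizedModule.linearMap_ext S mk ι₂ (LinearMap.ext fun z => ?_)
    rw [LinearMap.comp_apply, IsLocalizedModule.map_apply, LinearMap.comp_apply]
    refine LinearMap.restrictScalars_injective R ?_
    refine IsLocalizedModule.linearMap_ext S ι₁ j (LinearMap.ext fun φ => ?_)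
    show ι₂ (Module.Dual.eval R M z) (ι₁ φ) = (ι₁ φ) (mk z)
    rw [mapExtendScalars_apply_apply S, mapExtendScalars_apply_apply S]
    rfl
  refine ⟨?_⟩
  have hb : Function.Bijective (IsLocalizedModule.map S mk ι₂ (Module.Dual.eval R M)) :=
    ⟨IsLocalizedModule.map_injective S mk ι₂ _ (Module.bijective_dual_eval R M).1,
      IsLocalizedModule.map_surjective S mk ι₂ _ (Module.bijective_dual_eval R M).2⟩
  rw [key] at hb
  exact hb

theorem map_algebraMap_end [Module.FinitePresentation R M] :
    IsLocalizedModule.map S (Algebra.linearMap R (Localization S))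
      (IsLocalizedModule.mapExtendScalars S (LocalizedModule.mkLinearMap S M)
        (LocalizedModule.mkLinearMap S M) (Localization S))
      (Algebra.linearMap R (Module.End R M)) =
    (Algebra.linearMap (Localization S)
      (Module.End (Localization S) (LocalizedModule S M))).restrictScalars R := by
  have : IsLocalizedModule S (Algebra.linearMap R (Localization S)) :=
    (isLocalizedModule_iff_isLocalization' S _).mpr inferInstance
  have := Module.finitePresentation_of_finite R M
  refine IsLocalizedModule.linearMap_ext S (Algebra.linearMap R (Localization S))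
    (IsLocalizedModule.mapExtendScalars S (LocalizedModule.mkLinearMap S M)
      (LocalizedModule.mkLinearMap S M) (Localization S)) (LinearMap.ext fun r => ?_)
  rw [LinearMap.comp_apply, IsLocalizedModule.map_apply, LinearMap.comp_apply]
  refine LinearMap.restrictScalars_injective R ?_
  refine IsLocalizedModule.linearMap_ext S (LocalizedModule.mkLinearMap S M)
    (LocalizedModule.mkLinearMap S M) (LinearMap.ext fun z => ?_)
  simp [Module.algebraMap_end_apply, algebraMap_smul]
  rw [← LocalizedModule.mkLinearMap_apply, IsLocalizedModule.map_apply,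
    Module.algebraMap_end_apply, map_smul]

theorem localized_end_bijective (h : Function.Bijective (algebraMap R (Module.End R M))) :
    Function.Bijective
      (algebraMap (Localization S) (Module.End (Localization S) (LocalizedModule S M))) := by
  have : IsLocalizedModule S (Algebra.linearMap R (Localization S)) :=
    (isLocalizedModule_iff_isLocalization' S _).mpr inferInstance
  have := Module.finitePresentation_of_finite R M
  have hb : Function.Bijective ((Algebra.linearMap (Localization S)
      (Module.End (Localization S) (LocalizedModule S M))).restrictScalars R) := by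
    rw [← map_algebraMap_end M S]
    exact ⟨IsLocalizedModule.map_injective S _ _ _ h.1, IsLocalizedModule.map_surjective S _ _ _ h.2⟩
  exact hb

end Localization

/-- Let S be a reduced Gorenstein ring (Noetherian, all localizations at primes of finite injective
dimension over themselves) whose Krull dimension is ≤ 1; let M be a finitely generated S-module
which is reflexive (M → M** bijective). Then M is locally free of rank 1, i.e. the localization M_P
is isomorphic to S_P as an S_P-module for every prime ideal P of S, if and only if the natural ring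
map S → End_S(M), sending s to multiplication by s, is bijective. -/
theorem result (S : Type u) [CommRing S]
    [IsReduced S] [LocCoh.IsGorensteinRing S] (hdim : ringKrullDim S ≤ 1)
    (M : Type u) [AddCommGroup M] [Module S M] [Module.Finite S M] [Module.IsReflexive S M] :
    (∀ (P : Ideal S) (_ : P.IsPrime),
        Nonempty (LocalizedModule P.primeCompl M ≃ₗ[Localization.AtPrime P] Localization.AtPrime P)) ↔
      Function.Bijective (algebraMap S (Module.End S M)) := by
  constructor
  · intro h
    have := Module.finitePresentation_of_finite S M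
    refine bijective_of_isLocalized_maximal
      (fun P _ => Localization.AtPrime P) (fun P _ => Algebra.linearMap S (Localization.AtPrime P))
      (fun P _ => Module.End (Localization.AtPrime P) (LocalizedModule P.primeCompl M))
      (fun P _ => IsLocalizedModule.mapExtendScalars P.primeCompl
        (LocalizedModule.mkLinearMap P.primeCompl M) (LocalizedModule.mkLinearMap P.primeCompl M)
        (Localization.AtPrime P))
      (Algebra.linearMap S (Module.End S M)) fun P hP => ?_
    rw [map_algebraMap_end M P.primeCompl]
    obtain ⟨e⟩ := h P hP.isPrime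
    have : Module.Invertible (Localization.AtPrime P) (LocalizedModule P.primeCompl M) :=
      Module.Invertible.congr e.symm
    exact Module.Invertible.toModuleEnd_bijective (Localization.AtPrime P) (LocalizedModule P.primeCompl M)
  · intro h P _
    have := localized_reflexive M P.primeCompl
    have : Ring.KrullDimLE 1 (Localization.AtPrime P) := by
      rw [Ring.krullDimLE_iff]
      refine le_trans (Order.krullDim_le_of_strictMono
        (PrimeSpectrum.comap (algebraMap S (Localization.AtPrime P))) ?_) hdim
      refine Monotone.strictMono_of_injective (fun q q' hq => Ideal.comap_mono hq) ?_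
      exact PrimeSpectrum.localization_comap_injective (Localization.AtPrime P) P.primeCompl
    exact local_equiv_self _ _ (localized_end_bijective M P.primeCompl h)

end Groth.Agent.S17990
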