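import Groth.Statements.S18019
import Mathlib.Algebra.CharP.Two
import Mathlib.Algebra.Polynomial.Div
import Mathlib.Algebra.Polynomial.Monic
import Mathlib.Algebra.CharP.Algebra
import Mathlib.Tactic.LinearCombination
import Mathlib.Tactic.SetLike

set_option backward.isDefEq.respectTransparency false
set_option backward.isDefEq.respectTransparency.types false

set_option autoImplicit false
universe u
open ClassStk

namespace Groth.Agent.S18019

open Polynomial in
/-- Let R be an integral domain of characteristic 2 and let a be a nonzero element of R, so that x ↦ x +
a defines an R-algebra involution of the polynomial ring R[x] (an action of the group of order two).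
A polynomial f is invariant, f(x + a) = f(x), if and only if f belongs to the R-subalgebra generated
by u = x (x + a); in other words the ring of invariants is the polynomial ring R[u]. -/
theorem result (R : Type u) [CommRing R] [IsDomain R]
    [CharP R 2] (a : R) (ha : a ≠ 0) (f : Polynomial R) :
    f.comp (X + C a) = f ↔ f ∈ Algebra.adjoin R ({X * (X + C a)} : Set (Polynomial R)) := by
  have hua : (X * (X + C a) : R[X]).comp (X + C a) = X * (X + C a) := by
    have h2 : (C a + C a : R[X]) = 0 := CharTwo.add_self_eq_zero _
    simp only [mul_comp, X_comp, add_comp, C_comp]
    rw [add_assoc, h2, add_zero, mul_comm]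
  constructor
  · intro hf
    have key : ∀ n : ℕ, ∀ g : R[X], g.natDegree ≤ n → g.comp (X + C a) = g →
        g ∈ Algebra.adjoin R ({X * (X + C a)} : Set R[X]) := by
      intro n
      induction n using Nat.strong_induction_on with
      | _ n ih =>
        intro g hg hfix
        set u : R[X] := X * (X + C a) with hu
        have hm : u.Monic := Polynomial.Monic.mul monic_X (monic_X_add_C a)
        have hdeg : u.natDegree = 2 := by
          rw [hu, Monic.natDegree_mul monic_X (monic_X_add_C a)]; simp
        have hdiv := modByMonic_add_div g u
        have hr : (g %ₘ u).natDegree < 2 := hdeg ▸ natDegree_modByMonic_lt g hm (by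
          intro h; rw [h] at hdeg; simp at hdeg)
        obtain ⟨c1, c0, hc⟩ : ∃ c1 c0, g %ₘ u = C c1 * X + C c0 :=
          ⟨_, _, eq_X_add_C_of_natDegree_le_one (by omega)⟩
        have hsplit : u * ((g /ₘ u).comp (X + C a) - g /ₘ u) + C (c1 * a) = 0 := by
          have e := congrArg (fun p => p.comp (X + C a)) hdiv
          simp only [add_comp, mul_comp, hfix, hua] at e
          rw [hc] at e hdiv
          simp only [add_comp, mul_comp, C_comp, X_comp] at e
          rw [map_mul]
          linear_combination e - hdiv
        have hq : (g /ₘ u).comp (X + C a) - g /ₘ u = 0 := by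
          by_contra hne
          have : u * ((g /ₘ u).comp (X + C a) - g /ₘ u) = - C (c1 * a) := eq_neg_of_add_eq_zero_left hsplit
          have hd := congrArg natDegree this
          rw [hm.natDegree_mul' hne, natDegree_neg, natDegree_C, hdeg] at hd
          omega
        rw [hq, mul_zero, zero_add, C_eq_zero, mul_eq_zero] at hsplit
        have hc1 : c1 = 0 := hsplit.resolve_right ha
        rw [← hdiv, hc, hc1, map_zero, zero_mul, zero_add]
        refine add_mem (Subalgebra.algebraMap_mem _ c0) (mul_mem (Algebra.subset_adjoin rfl) ?_)
        by_cases hg2 : g.natDegree < 2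
        · have : g /ₘ u = 0 := by
            rw [divByMonic_eq_zero_iff hm]
            exact degree_lt_degree (by omega)
          rw [this]; exact zero_mem _
        · refine ih (g /ₘ u).natDegree ?_ _ le_rfl (sub_eq_zero.mp hq)
          rw [natDegree_divByMonic g hm, hdeg]
          omega
    exact key _ f le_rfl hf
  · intro hf
    induction hf using Algebra.adjoin_induction with
    | mem x hx => rw [Set.mem_singleton_iff] at hx; subst hx; exact hua
    | algebraMap r => simp
    | add x y _ _ hx hy => rw [add_comp, hx, hy]
    | mul x y _ _ hx hy => rw [mul_comp, hx, hy]

end Groth.Agent.S18019
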