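import Groth.Statements.S18026
import Groth.Agent.Hensel.QuasiFiniteSplit
import Mathlib.AlgebraicGeometry.Morphisms.Flat
import Mathlib.AlgebraicGeometry.Morphisms.UniversallyOpen
import Mathlib.AlgebraicGeometry.Morphisms.Finite
import Mathlib.AlgebraicGeometry.Morphisms.Etale

set_option autoImplicit false
set_option linter.style.haveILetI false
universe u
open Hensel

namespace Groth.Agent.S18026

open AlgebraicGeometry CategoryTheory in
/-- Let `A` be a henselian discrete valuation ring and `f : T ⟶ Spec A` an étale surjective morphism of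
schemes. Then some open subscheme `U` of `T` is finite over `Spec A` and still maps onto it; in
particular `U → Spec A` is a finite étale cover sitting inside `T` as an open subscheme (étaleness
of the restriction is automatic, and surjectivity records that `U` meets the closed fibre). (The
published statement asks for an open component of `T` finite étale over `Spec A`; when `T` is not
separated — two copies of `Spec A` glued along the generic point — no open and closed subset of `T`
is finite over `Spec A`, while the published proof constructs an open subscheme, the spectrum of the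
local ring of `T` at a point of the closed fibre; so this row asks only for an open subscheme.) -/
theorem result
    (A : Type u) [CommRing A] [IsDomain A] [IsDiscreteValuationRing A] [HenselianLocalRing A]
    (T : Scheme.{u}) (f : T ⟶ Spec (CommRingCat.of A)) [Etale f] [Surjective f] :
    ∃ U : T.Opens, IsFinite (U.ι ≫ f) ∧ Surjective (U.ι ≫ f) := by
  classical
  obtain ⟨x, hx⟩ := f.surjective (IsLocalRing.closedPoint A)
  obtain ⟨S, j, hj, ⟨y, hy⟩, -⟩ := Scheme.exists_affine_mem_range_and_range_subset
    (x := x) (U := (⊤ : T.Opens)) (by simp)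
  obtain ⟨φR, hφR⟩ := Spec.map_surjective (j ≫ f)
  algebraize [φR.hom]
  have : Algebra.Etale A S := by
    have h : Etale (Spec.map φR) := by rw [hφR]; infer_instance
    exact (HasRingHomProperty.Spec_iff (P := @Etale)).mp h
  have hq : y.asIdeal.comap (algebraMap A S) = IsLocalRing.maximalIdeal A := by
    have h1 : (Spec.map φR).base y = IsLocalRing.closedPoint A := by
      rw [hφR, Scheme.Hom.comp_apply, hy]; exact hx
    exact congr(($h1).asIdeal)
  haveI : y.asIdeal.IsPrime := y.isPrime
  haveI : y.asIdeal.LiesOver (IsLocalRing.maximalIdeal A) := ⟨hq.symm⟩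
  obtain ⟨e, he, heq, hfin, -⟩ := Groth.Agent.Hensel.exists_idempotent_of_quasiFiniteAt A y.asIdeal
  let B := (S : Type u) ⧸ Ideal.span {1 - e}
  haveI : IsLocalization.Away e B :=
    IsLocalization.away_of_isIdempotentElem he (Ideal.mk_ker) Ideal.Quotient.mk_surjective
  let π : S ⟶ CommRingCat.of B := CommRingCat.ofHom (algebraMap S B)
  haveI : IsOpenImmersion (Spec.map π) := IsOpenImmersion.of_isLocalization e
  let k : Spec (CommRingCat.of B) ⟶ T := Spec.map π ≫ j
  haveI : IsFinite (k ≫ f) := by
    rw [show k ≫ f = Spec.map (φR ≫ π) by rw [Spec.map_comp, hφR, Category.assoc], IsFinite.SpecMap_iff]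
    exact RingHom.finite_algebraMap.mpr hfin
  refine ⟨k.opensRange, ?_, ?_⟩
  · have h1 : k.opensRange.ι ≫ f = k.isoOpensRange.inv ≫ (k ≫ f) := by
      rw [← Category.assoc, Scheme.Hom.isoOpensRange_inv_comp]
    rw [h1]
    infer_instance
  · haveI : Flat (k.opensRange.ι ≫ f) := inferInstance
    refine ⟨fun p => ?_⟩
    have hx' : x ∈ k.opensRange := by
      have hyr : y ∈ Set.range (PrimeSpectrum.comap (algebraMap S B)) := by
        rw [PrimeSpectrum.localization_away_comap_range B e]
        exact heq
      obtain ⟨z, hz⟩ := hyr
      refine ⟨z, ?_⟩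
      exact ((Scheme.Hom.comp_apply (Spec.map π) j _).trans (congrArg j hz)).trans hy
    have hsp : p ⤳ IsLocalRing.closedPoint A :=
      (PrimeSpectrum.le_iff_specializes p _).mp (IsLocalRing.le_maximalIdeal p.isPrime.ne_top)
    have hy' : (k.opensRange.ι ≫ f).base ⟨x, hx'⟩ = IsLocalRing.closedPoint A := hx
    obtain ⟨w, -, hw⟩ := Flat.generalizingMap (k.opensRange.ι ≫ f) (hy'.symm ▸ hsp :
      p ⤳ (k.opensRange.ι ≫ f).base ⟨x, hx'⟩)
    exact ⟨w, hw⟩

end Groth.Agent.S18026
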