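import Groth.Statements.S1809
import Groth.Agent.Dual59.SchLocus
-- import your own Groth.Agent.* helpers here

set_option autoImplicit false
universe u
open CategoryTheory CategoryTheory.Limits AlgebraicGeometry
attribute [local instance] HasDerivedCategory.standard
open Dual

namespace Groth.Agent.S1809

/-- Let X be a locally Noetherian scheme and ω a dualizing complex on X (affine-locally the derived
tilde of a dualizing complex of the ring; exactness of restriction of module sheaves to opens and of
M ↦ M~ is assumed through instance binders). Then for every point x the local ring O_{X,x} is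
Cohen–Macaulay if and only if exactly one cohomology sheaf of ω has nonzero stalk at x; and the set
of points whose local ring is Cohen–Macaulay is open. -/
theorem result (X : Scheme.{u}) [IsLocallyNoetherian X] [∀ (U : Scheme.{u}) (j : U ⟶ X) [IsOpenImmersion j], PreservesFiniteLimits (Scheme.Modules.restrictFunctor j)] [∀ (R : CommRingCat.{u}), PreservesFiniteLimits (tilde.functor R)] (ω : DCoh.D X) (hω : Dual2.IsDualizingSch X ω) : (∀ x : X, LocCoh.IsCohenMacaulayLocalRing (X.presheaf.stalk x) ↔ ∃! i : ℤ, Nontrivial ((DCoh.HD ω i).presheaf.stalk x)) ∧ IsOpen {x : X | LocCoh.IsCohenMacaulayLocalRing (X.presheaf.stalk x)} := by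
  have key : ∀ x : X, ∃ (A : Type u) (_ : CommRing A) (j : Spec (CommRingCat.of A) ⟶ X)
      (_ : IsOpenImmersion j) (p : PrimeSpectrum A) (w : Dual.D A), j p = x ∧ Dual.IsDualizing A w ∧
        Nonempty ((DCoh.restrictD j).obj ω ≅ (DCoh.tildeD (CommRingCat.of A)).obj w) := fun x => by
    obtain ⟨A, _, j, _, p, hp⟩ := Groth.Agent.Dual3Lib.exists_chart X x
    obtain ⟨w, hw, e⟩ := hω A j
    exact ⟨A, inferInstance, j, inferInstance, p, w, hp, hw, e⟩
  refine ⟨fun x => ?_, isOpen_iff_forall_mem_open.2 fun x hx => ?_⟩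
  · obtain ⟨A, _, j, _, p, w, rfl, hw, ⟨e⟩⟩ := key x
    exact Groth.Agent.Dual59.isCM_stalk_iff j hw e p
  · obtain ⟨A, _, j, _, p, w, rfl, hw, ⟨e⟩⟩ := key x
    haveI := hw.isNoetherianRing
    have hiff : ∀ q : PrimeSpectrum A, LocCoh.IsCohenMacaulayLocalRing (X.presheaf.stalk (j q)) ↔
        LocCoh.IsCohenMacaulayLocalRing (Localization.AtPrime q.asIdeal) := fun q => by
      obtain ⟨es⟩ := Groth.Agent.Dual3Lib.nonempty_stalk_equiv j q
      haveI : IsNoetherianRing (X.presheaf.stalk (j q)) := isNoetherianRing_of_ringEquiv _ es.symm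
      exact ⟨fun h => @Groth.Agent.LC.Liaison.isCMLocal_of_ringEquiv _ _ h _ _ _ _ es,
        fun h => @Groth.Agent.LC.Liaison.isCMLocal_of_ringEquiv _ _ h _ _ _ _ es.symm⟩
    refine ⟨j '' {q | LocCoh.IsCohenMacaulayLocalRing (Localization.AtPrime q.asIdeal)}, ?_, ?_, ?_⟩
    · rintro _ ⟨q, hq, rfl⟩
      exact (hiff q).2 hq
    · exact j.isOpenEmbedding.isOpenMap _ (Groth.Agent.Dual59.isOpen_cmLocus hw)
    · exact ⟨p, (hiff p).1 hx, rfl⟩

end Groth.Agent.S1809
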