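import Groth.Statements.S18110
import Groth.Agent.DRHyp.CartierForms

set_option autoImplicit false
universe u
open DeRham

namespace Groth.Agent.S18110

open exteriorPower in
/-- Let p be a prime, A a perfect ring of characteristic p (its Frobenius is bijective), B a smooth
A-algebra, and d a de Rham differential on the exterior powers of Ω_{B/A} (a degreewise family
obeying the de Rham rule with d ∘ d = 0). Then there is exactly one additive map C from the closed
1-forms (the kernel of d in degree 1) to the 1-forms such that C(f^p ω) = f C(ω) for f in B and ω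
closed, C(ω) = 0 if and only if ω is exact, and C(f^{p-1} df) = df for f in B. (The source states
this for all degrees r at once on a smooth scheme over a perfect base, with two further conditions,
C(1) = 1 in degree 0 and multiplicativity for wedge products of closed forms, which involve other
degrees; this row is the degree-one, affine case, where those two conditions are empty.) -/
theorem result
    (p : ℕ) [Fact p.Prime] (A B : Type u) [CommRing A] [CharP A p] [PerfectRing A p]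
    [CommRing B] [Algebra A B] [Algebra.Smooth A B]
    (d : ∀ q : ℕ, ↥(⋀[B]^q (Ω[B⁄A])) →ₗ[A] ↥(⋀[B]^(q + 1) (Ω[B⁄A])))
    (hd : DeRham.IsDiff (KaehlerDifferential.D A B) d) :
    ∃! C : ↥(DeRham.cocycles d 1) →+ ↥(⋀[B]^1 (Ω[B⁄A])),
      (∀ (f : B) (ω ω' : ↥(DeRham.cocycles d 1)),
          (ω' : ↥(⋀[B]^1 (Ω[B⁄A]))) = f ^ p • (ω : ↥(⋀[B]^1 (Ω[B⁄A]))) → C ω' = f • C ω) ∧
      (∀ ω : ↥(DeRham.cocycles d 1), C ω = 0 ↔ (ω : ↥(⋀[B]^1 (Ω[B⁄A]))) ∈ DeRham.coboundaries d 1) ∧
      (∀ (f : B) (ω : ↥(DeRham.cocycles d 1)),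
          (ω : ↥(⋀[B]^1 (Ω[B⁄A]))) = f ^ (p - 1) • d 0 ((exteriorPower.zeroEquiv B (Ω[B⁄A])).symm f) →
            C ω = d 0 ((exteriorPower.zeroEquiv B (Ω[B⁄A])).symm f)) := by
  classical
  rcases subsingleton_or_nontrivial B with hB | hB
  · have : Subsingleton ↥(⋀[B]^1 (Ω[B⁄A])) := Module.subsingleton B _
    refine ⟨0, ⟨fun f ω ω' _ => Subsingleton.elim _ _, fun ω => ⟨fun _ => ?_, fun _ => rfl⟩,
      fun f ω _ => Subsingleton.elim _ _⟩, fun C _ => AddMonoidHom.ext fun ω => Subsingleton.elim _ _⟩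
    rw [Subsingleton.elim (ω : ↥(⋀[B]^1 (Ω[B⁄A]))) 0]
    exact zero_mem _
  open Groth.Agent.DRHyp.Cartier in
  have : CharP B p := charP_of_nontrivial (A := A) p B
  open Groth.Agent.DRHyp.Cartier in
  obtain ⟨hinj, hsurj⟩ := cartier_global p hd.1
  let W := exteriorPower.oneEquiv B (Ω[B⁄A])
  open Groth.Agent.DRHyp.Cartier in
  have hclosed : ∀ ω : ↥(DeRham.cocycles d 1), dOne d (W ω) = 0 := fun ω =>
    (congrArg (d 1) (W.symm_apply_apply _)).trans ω.2
  have hd0 : ∀ h : B, d 0 ((exteriorPower.zeroEquiv B (Ω[B⁄A])).symm h) =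
      W.symm (KaehlerDifferential.D A B h) := fun h => by
    have e : (exteriorPower.zeroEquiv B (Ω[B⁄A])).symm h =
        DeRham.gen (KaehlerDifferential.D A B) 0 h Fin.elim0 := by
      refine (exteriorPower.zeroEquiv B (Ω[B⁄A])).injective ?_
      rw [LinearEquiv.apply_symm_apply, DeRham.gen, map_smul, exteriorPower.zeroEquiv_ιMulti,
        smul_eq_mul, mul_one]
    rw [e, hd.1 0 h Fin.elim0, Groth.Agent.DRHyp.Cartier.oneEquiv_symm_apply]
    exact congrArg _ (funext fun i => by fin_cases i; rfl)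
  choose η hη using fun ω : ↥(DeRham.cocycles d 1) => hsurj _ (hclosed ω)
  open Groth.Agent.DRHyp.Cartier in
  have hadd : ∀ ω ω', η (ω + ω') = η ω + η ω' := fun ω ω' => hinj (by
    rw [map_add, hη, hη, hη, Submodule.coe_add, map_add, map_add])
  let C : ↥(DeRham.cocycles d 1) →+ ↥(⋀[B]^1 (Ω[B⁄A])) :=
    AddMonoidHom.mk' (fun ω => W.symm (η ω)) fun ω ω' => by rw [hadd, map_add]
  open Groth.Agent.DRHyp.Cartier in
  have hexact : ∀ ω : ↥(DeRham.cocycles d 1),
      cl p A B (W ω) = 0 ↔ (ω : ↥(⋀[B]^1 (Ω[B⁄A]))) ∈ DeRham.coboundaries d 1 := fun ω => by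
    rw [cl_eq_zero_iff]
    constructor
    · rintro ⟨h, hh⟩
      exact ⟨(exteriorPower.zeroEquiv B (Ω[B⁄A])).symm h, by rw [hd0, hh, LinearEquiv.symm_apply_apply]⟩
    · rintro ⟨x, hx⟩
      refine ⟨exteriorPower.zeroEquiv B (Ω[B⁄A]) x, ?_⟩
      rw [← (exteriorPower.zeroEquiv B (Ω[B⁄A])).symm_apply_apply x, hd0] at hx
      rw [← hx, LinearEquiv.apply_symm_apply]
  open Groth.Agent.DRHyp.Cartier in
  refine ⟨C, ⟨fun f ω ω' h => ?_, fun ω => ?_, fun f ω h => ?_⟩, fun C' hC' => ?_⟩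
  · refine (congrArg W.symm (hinj ?_)).trans (map_smul W.symm f (η ω))
    rw [hη, map_smul, hη, smul_cl, h, map_smul]
  · show W.symm (η ω) = 0 ↔ _
    rw [LinearEquiv.map_eq_zero_iff, ← hexact, ← hη]
    exact ⟨fun e => by rw [e, map_zero], fun e => hinj (e.trans (map_zero _).symm)⟩
  · show W.symm (η ω) = _
    rw [hd0]
    refine congrArg _ (hinj ?_)
    rw [hη, cinv_D, h, hd0, map_smul, LinearEquiv.apply_symm_apply]
  obtain ⟨hC1, hC2, hC3⟩ := hC'
  have key : ∀ (z : Ω[B⁄A]) (ω : ↥(DeRham.cocycles d 1)),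
      cinv p A B z = cl p A B (W ω) → C' ω = W.symm z := by
    intro z
    induction z using omega_induction with
    | h0 =>
      intro ω h
      rw [map_zero] at h
      rw [map_zero, (hC2 ω).2 ((hexact ω).1 h.symm)]
    | hadd x y hx hy =>
      intro ω h
      obtain ⟨w, hw, hw'⟩ := exists_closed_cinv p hd.1 x
      let ω₁ : ↥(DeRham.cocycles d 1) := ⟨W.symm w, hw⟩
      have e₁ : C' ω₁ = W.symm x := hx ω₁ (by
        rw [← hw']; exact congrArg _ (W.apply_symm_apply w).symm)
      have e₂ : C' (ω - ω₁) = W.symm y := hy (ω - ω₁) (by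
        rw [Submodule.coe_sub, map_sub, map_sub, ← h, map_add, LinearEquiv.apply_symm_apply, hw',
          add_sub_cancel_left])
      have e₃ : C' ω = C' (ω - ω₁) + C' ω₁ := (congrArg C' (sub_add_cancel ω ω₁).symm).trans (C'.map_add _ _)
      rw [e₃, e₂, e₁, map_add, add_comm]
    | hgen a f =>
      intro ω h
      have h₀ := dOne_cartier p hd.1 1 f
      rw [one_pow, one_mul] at h₀
      let ω₀ : ↥(DeRham.cocycles d 1) := ⟨W.symm (f ^ (p - 1) • KaehlerDifferential.D A B f), h₀⟩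
      let ω₁ : ↥(DeRham.cocycles d 1) :=
        ⟨W.symm ((a ^ p * f ^ (p - 1)) • KaehlerDifferential.D A B f), dOne_cartier p hd.1 a f⟩
      have e₀ : C' ω₀ = W.symm (KaehlerDifferential.D A B f) :=
        (hC3 f ω₀ (by rw [hd0, ← map_smul])).trans (hd0 f)
      have e₁ : C' ω₁ = W.symm (a • KaehlerDifferential.D A B f) := by
        rw [hC1 a ω₀ ω₁ ((congrArg W.symm (mul_smul (a ^ p) (f ^ (p - 1))
          (KaehlerDifferential.D A B f))).trans (map_smul W.symm _ _)), e₀, map_smul]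
      have e₂ : C' (ω - ω₁) = 0 := (hC2 _).2 ((hexact _).1 (by
        rw [Submodule.coe_sub, map_sub, map_sub, ← h, cinv_smul_D, LinearEquiv.apply_symm_apply,
          sub_self]))
      have e₃ : C' ω = C' (ω - ω₁) + C' ω₁ := (congrArg C' (sub_add_cancel ω ω₁).symm).trans (C'.map_add _ _)
      rw [e₃, e₂, e₁, zero_add]
  exact AddMonoidHom.ext fun ω => key (η ω) ω (hη ω)

end Groth.Agent.S18110
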