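import Groth.Statements.S18128
import Groth.Agent.CAlgOdd.Acyclicity
import Groth.Agent.KFlatLib.Ring.KerDepth
import Mathlib.RingTheory.Ideal.AssociatedPrime.Basic


set_option autoImplicit false
universe u
open CAlg

namespace Groth.Agent.S18128

open CategoryTheory Groth.Agent.CAlgOdd.Acyclicity

variable {R : Type u} [CommRing R]

/-- Clearing denominators in a localized exactness statement. -/
theorem exists_smul_mem_range {a b : ℕ} (M : Matrix (Fin b) (Fin a) R) (p : Ideal R) [p.IsPrime]
    (z : Fin b → R)
    (h : (algebraMap R (Localization.AtPrime p)) ∘ z ∈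
      LinearMap.range (M.map (algebraMap R (Localization.AtPrime p))).mulVecLin) :
    ∃ s : R, s ∉ p ∧ ∃ v, M.mulVecLin v = s • z := by
  classical
  obtain ⟨v, hv⟩ := h
  obtain ⟨c, hc⟩ := IsLocalization.exist_integer_multiples_of_finite p.primeCompl v
  choose w hw using hc
  have h1 : ∀ i, algebraMap R (Localization.AtPrime p) (M.mulVec w i) =
      algebraMap R (Localization.AtPrime p) ((c : R) * z i) := fun i => by
    have hw' : (fun j => algebraMap R (Localization.AtPrime p) (w j)) = (c : R) • v :=
      funext fun j => (hw j).trans rfl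
    rw [RingHom.map_mulVec, map_mul]
    show (M.map (algebraMap R (Localization.AtPrime p))).mulVec
      (fun j => algebraMap R (Localization.AtPrime p) (w j)) i = _
    rw [hw', Matrix.mulVec_smul, Pi.smul_apply, Algebra.smul_def]
    congr 1
    exact congrFun hv i
  choose t ht using fun i => (IsLocalization.eq_iff_exists p.primeCompl _).1 (h1 i)
  let T : p.primeCompl := ∏ i, t i
  refine ⟨(T : R) * (c : R), p.primeCompl.mul_mem T.2 c.2, (T : R) • w, ?_⟩
  funext i
  obtain ⟨d, hd⟩ : (t i : R) ∣ (T : R) :=
    map_dvd p.primeCompl.subtype (Finset.dvd_prod_of_mem t (Finset.mem_univ i))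
  rw [map_smul, Pi.smul_apply, Pi.smul_apply, smul_eq_mul, smul_eq_mul, Matrix.mulVecLin_apply, hd,
    mul_comm (t i : R) d, mul_assoc d, ht i, mul_assoc d, mul_assoc d, mul_assoc]

/-- Local step of Buchsbaum–Eisenbud: let R be a Noetherian local ring with maximal ideal m, and 0 →
R^(n_e) → ⋯ → R^(n_1) → R^(n_0) a complex of finite free modules, the map R^(n_(i+1)) → R^(n_i)
being given by the matrix A i, with 1 ≤ e and e at most the depth of R (there is an R-regular
sequence of length e inside m). If for every prime ideal p ≠ m the complex of matrices over R_p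
obtained by localization is exact at R_p^(n_e), …, R_p^(n_1), then the complex is exact at R^(n_e),
…, R^(n_1). -/
theorem result
    {R : Type u} [CommRing R] [IsLocalRing R] [IsNoetherianRing R]
    (e : ℕ) (he : 1 ≤ e) (n : ℕ → ℕ) (A : (i : ℕ) → Matrix (Fin (n i)) (Fin (n (i + 1))) R)
    (hA : ∀ i, i + 2 ≤ e → A i * A (i + 1) = 0)
    (rs : List R) (hlen : rs.length = e) (hmem : ∀ x ∈ rs, x ∈ IsLocalRing.maximalIdeal R)
    (hreg : RingTheory.Sequence.IsRegular R rs)
    (hloc : ∀ (p : Ideal R) [p.IsPrime], p ≠ IsLocalRing.maximalIdeal R →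
      LinearMap.ker ((A (e - 1)).map (algebraMap R (Localization.AtPrime p))).mulVecLin = ⊥ ∧
        ∀ i, i + 2 ≤ e →
          LinearMap.ker ((A i).map (algebraMap R (Localization.AtPrime p))).mulVecLin =
            LinearMap.range ((A (i + 1)).map (algebraMap R (Localization.AtPrime p))).mulVecLin) :
    LinearMap.ker (A (e - 1)).mulVecLin = ⊥ ∧
      ∀ i, i + 2 ≤ e → LinearMap.ker (A i).mulVecLin = LinearMap.range (A (i + 1)).mulVecLin := by
  classical
  -- the complex, extended by zero beyond degree `e`
  let X : (j : ℕ) → Submodule R (Fin (n j) → R) := fun j => if j ≤ e then ⊤ else ⊥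
  have hX : ∀ j, j ≤ e → X j = ⊤ := fun j hj => if_pos hj
  have hX' : ∀ j, e < j → X j = ⊥ := fun j hj => if_neg (Nat.not_le.2 hj)
  let d : (j : ℕ) → X (j + 1) →ₗ[R] X j := fun j =>
    LinearMap.codRestrict (X j) ((A j).mulVecLin ∘ₗ (X (j + 1)).subtype) fun x => by
      by_cases h : j + 1 ≤ e
      · simp [hX j (by omega)]
      · have hx : (x : Fin (n (j + 1)) → R) = 0 := by
          simpa [hX' (j + 1) (by omega)] using x.2
        simp [hx]
  have hdd : ∀ j, d j ∘ₗ d (j + 1) = 0 := fun j => by
    refine LinearMap.ext fun x => Subtype.ext ?_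
    show (A j).mulVec ((A (j + 1)).mulVec (x : Fin (n (j + 1 + 1)) → R)) = 0
    by_cases h : j + 2 ≤ e
    · rw [Matrix.mulVec_mulVec, hA j h, Matrix.zero_mulVec]
    · have hx : (x : Fin (n (j + 1 + 1)) → R) = 0 := by
        simpa [hX' (j + 1 + 1) (by omega)] using x.2
      simp [hx]
  let C : ChainComplex (ModuleCat.{u} R) ℕ :=
    ChainComplex.of (fun j => ModuleCat.of R (X j)) (fun j => ModuleCat.ofHom (d j))
      (fun j => ModuleCat.hom_ext (hdd j))
  have hzero : ∀ j, e < j → Limits.IsZero (C.X j) := fun j hj => by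
    have : Subsingleton (X j) := by
      rw [hX' j hj]; infer_instance
    exact ModuleCat.isZero_of_subsingleton (ModuleCat.of R (X j))
  have hR : ∀ j, j ≤ e → (j : ℕ∞) ≤ LocCoh.idealDepth (IsLocalRing.maximalIdeal R) R := fun j hj => by
    rw [LocCoh.idealDepth]
    split
    · exact le_top
    · refine le_trans (Nat.cast_le.2 (hj.trans hlen.ge)) ?_
      exact le_iSup₂ (f := fun (l : List R) (_ : RingTheory.Sequence.IsWeaklyRegular R l ∧
        ∀ r ∈ l, r ∈ IsLocalRing.maximalIdeal R) => (l.length : ℕ∞)) rs ⟨hreg.1, hmem⟩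
  have hdepth : ∀ j, j ≤ e → DepthGE j (C.X j) := fun j hj => by
    rw [depthGE_iff]
    show (j : ℕ∞) ≤ LocCoh.depth R (X j)
    rw [LocCoh.depth, Groth.Agent.LC.idealDepth_congr (IsLocalRing.maximalIdeal R)
      (LinearEquiv.ofTop (X j) (hX j hj))]
    exact Groth.Agent.KFlatLib.le_idealDepth_pi _ j (hR j hj) (n j)
  -- elementwise exactness at degree `i + 1`, by descending induction
  have hC : ∀ j, C.d (j + 1) j = ModuleCat.ofHom (d j) := fun j =>
    ChainComplex.of_d (fun j => ModuleCat.of R (X j)) (fun j => ModuleCat.ofHom (d j)) j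
  have key : ∀ k i, e - i ≤ k → C.ExactAt (i + 1) := by
    intro k
    induction k with
    | zero => exact fun i hi => .of_isZero (hzero (i + 1) (by omega))
    | succ k ih =>
      intro i hi
      by_cases hie : e ≤ i
      · exact .of_isZero (hzero (i + 1) (by omega))
      have habove : ∀ j, i + 1 < j → C.ExactAt j := fun j hj => by
        obtain ⟨j, rfl⟩ : ∃ l, j = l + 1 := ⟨j - 1, by omega⟩
        exact ih j (by omega)
      rw [HomologicalComplex.exactAt_iff' C (i + 1 + 1) (i + 1) i (by simp) (by simp),
        ShortComplex.moduleCat_exact_iff]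
      intro (z : X (i + 1)) hz
      change (C.d (i + 1) i).hom z = 0 at hz
      rw [hC i] at hz
      change d i z = 0 at hz
      show ∃ v : X (i + 1 + 1), (C.d (i + 1 + 1) (i + 1)).hom v = z
      rw [hC (i + 1)]
      show ∃ v : X (i + 1 + 1), d (i + 1) v = z
      let B : Submodule R (X (i + 1)) := LinearMap.range (d (i + 1))
      by_contra hne
      have hzB : z ∉ B := hne
      obtain ⟨p, hpass, hle⟩ := exists_le_isAssociatedPrime_of_isNoetherianRing R (B.mkQ z)
        fun h => hzB ((Submodule.Quotient.mk_eq_zero B).1 h)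
      obtain ⟨hpp, y, hy⟩ := isAssociatedPrime_iff.1 hpass
      have hyp : ∀ r : R, r • y = 0 ↔ r ∈ p := fun r => by
        rw [hy, Submodule.mem_colon_singleton, Submodule.mem_bot]
      have hy0 : y ≠ 0 := fun h => hpp.ne_top ((Ideal.eq_top_iff_one p).2 ((hyp 1).1 (by simp [h])))
      have hpm : p = IsLocalRing.maximalIdeal R := by
        by_contra hpm
        haveI := hpp
        obtain ⟨hl1, hl2⟩ := hloc p hpm
        have hz0 : (A i).mulVec ((z : X (i + 1)) : Fin (n (i + 1)) → R) = 0 := by
          exact congrArg Subtype.val hz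
        have hz1 : ((A i).map (algebraMap R (Localization.AtPrime p))).mulVec
            ((algebraMap R (Localization.AtPrime p)) ∘ ((z : X (i + 1)) : Fin (n (i + 1)) → R)) = 0 := by
          funext l
          rw [← RingHom.map_mulVec, hz0]
          simp
        obtain ⟨s, hs, hsB⟩ : ∃ s : R, s ∉ p ∧ s • z ∈ B := by
          by_cases hei : i + 1 = e
          · obtain rfl : i = e - 1 := by omega
            rw [LinearMap.ker_eq_bot'] at hl1
            have h0 := hl1 _ hz1
            choose t ht using fun l => (IsLocalization.map_eq_zero_iff p.primeCompl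
              (Localization.AtPrime p) (((z : X (e - 1 + 1)) : Fin (n (e - 1 + 1)) → R) l)).1
              (congrFun h0 l)
            refine ⟨((∏ l, t l : p.primeCompl) : R), (∏ l, t l).2, ?_⟩
            have : ((∏ l, t l : p.primeCompl) : R) • z = 0 := by
              refine Subtype.ext (funext fun l => ?_)
              obtain ⟨c, hc⟩ : (t l : R) ∣ ((∏ l, t l : p.primeCompl) : R) :=
                map_dvd p.primeCompl.subtype (Finset.dvd_prod_of_mem t (Finset.mem_univ l))
              show ((∏ l, t l : p.primeCompl) : R) * _ = 0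
              rw [hc, mul_comm (t l : R) c, mul_assoc, ht l, mul_zero]
            rw [this]; exact B.zero_mem
          · obtain ⟨s, hs, v, hv⟩ := exists_smul_mem_range (A (i + 1)) p _
              ((hl2 i (by omega)).le hz1)
            refine ⟨s, hs, ⟨v, by rw [hX (i + 1 + 1) (by omega)]; trivial⟩, ?_⟩
            exact Subtype.ext hv
        refine hs (hle ?_)
        rw [Submodule.mem_colon_singleton, Submodule.mem_bot, ← map_smul, Submodule.mkQ_apply]
        exact (Submodule.Quotient.mk_eq_zero B).2 hsB
      -- but `X/B` has positive depth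
      let S : ShortComplex (ModuleCat.{u} R) := ShortComplex.mk
        (X₁ := ModuleCat.of R B) (X₂ := ModuleCat.of R (X (i + 1)))
        (X₃ := ModuleCat.of R (X (i + 1) ⧸ B))
        (ModuleCat.ofHom B.subtype) (ModuleCat.ofHom B.mkQ)
        (ModuleCat.hom_ext (LinearMap.ext fun x => (Submodule.Quotient.mk_eq_zero B).2 x.2))
      have hS : S.ShortExact :=
        { exact := by
            rw [ShortComplex.moduleCat_exact_iff]
            exact fun x hx => ⟨⟨x, (Submodule.Quotient.mk_eq_zero B).1 hx⟩, rfl⟩
          mono_f := (ModuleCat.mono_iff_injective _).mpr Subtype.val_injective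
          epi_g := (ModuleCat.epi_iff_surjective _).mpr (Submodule.mkQ_surjective B) }
      have hsub := Groth.Agent.LC.ext_subsingleton_X₃ hS
        (ModuleCat.of R (R ⧸ IsLocalRing.maximalIdeal R)) 0 (hdepth (i + 1) (by omega) 0 (by omega))
        (by
          have hb := depthGE_bnd C e hzero hdepth (i + 1) habove (i + 1) le_rfl 1 (by omega)
          change Subsingleton (Abelian.Ext _ (ModuleCat.of R
            (LinearMap.range (C.d (i + 1 + 1) (i + 1)).hom)) 1) at hb
          rw [hC (i + 1)] at hb
          exact hb)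
      have : Subsingleton (ModuleCat.of R (R ⧸ IsLocalRing.maximalIdeal R) ⟶ S.X₃) :=
        Abelian.Ext.addEquiv₀.symm.subsingleton
      have hker : IsLocalRing.maximalIdeal R ≤ LinearMap.ker (LinearMap.toSpanSingleton R _ y) :=
        fun r hr => (hyp r).2 (hpm ▸ hr)
      have h0 := congrArg (fun g => g.hom (Submodule.Quotient.mk (1 : R)))
        (Subsingleton.elim (ModuleCat.ofHom (Submodule.liftQ (IsLocalRing.maximalIdeal R)
          (LinearMap.toSpanSingleton R _ y) hker) : ModuleCat.of R (R ⧸ IsLocalRing.maximalIdeal R) ⟶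
            S.X₃) 0)
      refine hy0 ?_
      rw [← one_smul R y]
      exact h0
  have main : ∀ i, i < e → ∀ z, (A i).mulVec z = 0 →
      ∃ v : X (i + 1 + 1), (A (i + 1)).mulVec (v : Fin (n (i + 1 + 1)) → R) = z := by
    intro i hi z hz
    have h := key e i (by omega)
    rw [HomologicalComplex.exactAt_iff' C (i + 1 + 1) (i + 1) i (by simp) (by simp),
      ShortComplex.moduleCat_exact_iff] at h
    obtain ⟨v, hv⟩ := h ⟨z, by rw [hX (i + 1) (by omega)]; trivial⟩
      (by
        show (C.d (i + 1) i).hom _ = 0
        rw [hC i]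
        exact Subtype.ext hz)
    exact ⟨v, by
      change (C.d (i + 1 + 1) (i + 1)).hom v = _ at hv
      rw [hC (i + 1)] at hv
      exact congrArg Subtype.val hv⟩
  constructor
  · obtain ⟨k, rfl⟩ : ∃ k, e = k + 1 := ⟨e - 1, by omega⟩
    rw [LinearMap.ker_eq_bot']
    intro z hz
    obtain ⟨⟨v, hv'⟩, hv⟩ := main k (by omega) z hz
    have hv0 : v = 0 := by simpa [hX' (k + 1 + 1) (by omega)] using hv'
    subst hv0
    rw [← hv, Matrix.mulVec_zero]
  · intro i hi
    refine le_antisymm (fun z hz => ?_) ?_
    · obtain ⟨v, hv⟩ := main i (by omega) z hz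
      exact ⟨v, hv⟩
    · rintro z ⟨v, rfl⟩
      simp [LinearMap.mem_ker, Matrix.mulVec_mulVec, hA i hi]

end Groth.Agent.S18128
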