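import Groth.Statements.S18133
import Groth.Agent.ShStabX.FreeSub
import Groth.Agent.ShStabX.CurveTwist
import Groth.Agent.SurfInt.Curve
import Groth.Agent.IntNum47.Push
import Groth.Agent.Lib.CurveTensor
import Groth.Agent.Lib.RegEpiGen
import Groth.Agent.KFlatLib.Perfect.LocFree

set_option autoImplicit false
universe u
open CategoryTheory CategoryTheory.Limits AlgebraicGeometry Polynomial
open ShStab StabCat Groth.Agent Groth.Agent.ShStabX
open scoped Groth.Agent.H23.PicMul
set_option linter.style.haveILetI false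
set_option backward.isDefEq.respectTransparency false
set_option backward.isDefEq.respectTransparency.types false

namespace Groth.Agent.S18133

/-- On an integral curve every invertible module has the multiplicity of the structure module. -/
theorem mult_invertible_curve {k : Type u} [Field k] {C : Scheme.{u}} [C.Over (Spec (CommRingCat.of k))]
    [IsIntegral C] [IsProper (C ↘ Spec (CommRingCat.of k))] (hC : topologicalKrullDim C = 1)
    {LC : C.Modules} (hLC : PicF.IsInvertible LC) {A : C.Modules} (hA : PicF.IsInvertible A) :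
    HilbPoly.mult k LC 1 A = HilbPoly.mult k LC 1 (Coh.structureModule C) := by
  haveI : IsNoetherian C := CurveCohLib.isNoetherian_of_proper (k := k)
  have hd1 : topologicalKrullDim C ≤ ((1 : ℕ) : WithBot ℕ∞) := hC.le
  have hO : PicF.IsInvertible (Coh.structureModule C) := PicLoc.isInvertible_structureModule C
  have key : ∀ {B : C.Modules}, PicF.IsInvertible B →
      HilbPoly.mult k LC 1 B = Curv2.euler k C LC - Curv2.euler k C (Coh.structureModule C) := by
    intro B hB
    have hB1 := InvEnd.isFinLocFreeOfRank_one hB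
    have h1 := CurveTensor.euler_tensor k hC hB1 (isRef1_data hLC).1
    have h2 := CurveTensor.euler_tensor k hC hB1 (isRef1_data hO).1
    rw [CurveBundle.rk_eq (InvEnd.isFinLocFreeOfRank_one hLC)] at h1
    rw [CurveBundle.rk_eq (InvEnd.isFinLocFreeOfRank_one hO)] at h2
    have h3 := euler_twist k hd1 hLC (isRef1_data hB).1 1
    obtain ⟨e1⟩ : Nonempty (ShStab.twist C LC B 1 ≅ (DCoh.tensorBi.obj B).obj LC) := by
      refine H23.PicMul.cl_eq_iff.1 ?_
      show PicF.cl (CohB1.tensorMod B _) = PicF.cl (CohB1.tensorMod B LC)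
      simp only [H23.PicMul.cl_tensor, H23.PicMul.cl_tensorPow, pow_one]
    have e2 : (DCoh.tensorBi.obj B).obj (Coh.structureModule C) ≅ B := AmpleVan.twUnit.app B
    rw [CurveCohLib.euler_congr e1, h1, decMult_eq] at h3
    rw [CurveCohLib.euler_congr e2] at h2
    push_cast at h2 h3
    linarith
  rw [key hA, key hO]

theorem support_empty {X : Scheme.{u}} {F : X.Modules} (h : IsZero F) : CohB1.support F = ∅ :=
  Set.eq_empty_iff_forall_notMem.2 fun x hx =>
    hx (ModuleCat.subsingleton_of_isZero ((DerSch.stalkFunctor X x).map_isZero h))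

/-- Let X be a K3 surface over an algebraically closed field k of characteristic zero — an integral
scheme, smooth and proper over k, of dimension two, carrying an ample invertible module, whose
structure sheaf is a second exterior power of its sheaf of differentials (trivial canonical sheaf)
and with H^1(X, O_X) = 0. Let i : C → X be a closed immersion over k with C integral, smooth over k
and of dimension one, whose ideal sheaf I_C is invertible with the Picard group of X infinite cyclic
generated by its class, and let H be an ample O_X-module which is a tensor inverse of I_C (the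
module O_X(C)). Let A be an invertible O_C-module and lam : O_X^e → i_*A an epimorphism inducing a
bijection H^0(X, O_X^e) → H^0(X, i_*A), with kernel F (the Lazarsfeld–Mukai bundle). Then F is
coherent with torsion-free stalks and is slope-stable of dimension 2 with respect to H: it has no
coherent submodule with one-dimensional support, and every coherent submodule whose multiplicity
lies strictly between 0 and that of F has strictly smaller slope. -/
theorem result (k : Type u) [Field k] [IsAlgClosed k] [CharZero k]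
    (X : Scheme.{u}) [X.Over (Spec (CommRingCat.of k))] [IsIntegral X]
    [Smooth (X ↘ Spec (CommRingCat.of k))] (hdim : topologicalKrullDim X = 2)
    [IsProper (X ↘ Spec (CommRingCat.of k))]
    (H : X.Modules) (hHa : CohB1.IsAmple H)
    (hK : Canon.IsTopDiff (X ↘ Spec (CommRingCat.of k)) 2 (Coh.structureModule X))
    (hq : Module.finrank k (Coh.HH X (Coh.structureModule X) 1) = 0)
    [PicGrp.Law X]
    (C : Scheme.{u}) [C.Over (Spec (CommRingCat.of k))] [IsIntegral C]
    [Smooth (C ↘ Spec (CommRingCat.of k))] (hC : topologicalKrullDim C = 1)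
    (i : C ⟶ X) [IsClosedImmersion i] (hi : i ≫ (X ↘ Spec (CommRingCat.of k)) = C ↘ Spec (CommRingCat.of k))
    (hI : PicF.IsInvertible (ClSub.idealMod i.ker))
    (hgen : ∀ c : PicLoc.PicSet X, ∃ n : ℤ, c = PicGrp.cls (ClSub.idealMod i.ker) hI ^ n)
    (hfree : ∀ n : ℤ, PicGrp.cls (ClSub.idealMod i.ker) hI ^ n = 1 → n = 0)
    (Hc : X.Modules) (hHc : ClSub.IsInverseOf Hc (ClSub.idealMod i.ker)) (hHca : CohB1.IsAmple Hc)
    (A : C.Modules) (hA : PicF.IsInvertible A) (e : ℕ)
    (lam : FlatMod.freeMod X e ⟶ (Coh.push i).obj A) [Epi lam]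
    (hlam : Function.Bijective (Sheaf.H.map ((SheafOfModules.toSheaf _).map lam) 0)) :
    Coh.IsCoh (kernel lam) ∧ TorSh.IsTorsionFree (kernel lam) ∧
      ShStab.IsMuStable k X Hc (kernel lam) 2 := by
  haveI : IsNoetherian X := CurveCohLib.isNoetherian_of_proper (k := k)
  haveI : IsProper (C ↘ Spec (CommRingCat.of k)) := hi ▸ inferInstance
  haveI : IsNoetherian C := CurveCohLib.isNoetherian_of_proper (k := k)
  have hd : topologicalKrullDim ↥X = ((2 : ℕ) : WithBot ℕ∞) := hdim
  have hdE : ∀ E : X.Modules, topologicalKrullDim ↥(CohB1.support E) ≤ ((2 : ℕ) : WithBot ℕ∞) := fun E =>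
    (topologicalKrullDim_subspace_le X _).trans hd.le
  let O := Coh.structureModule X
  let I := ClSub.idealMod i.ker
  obtain ⟨hOc, -, hOt⟩ := isRef1_data (PicLoc.isInvertible_structureModule X)
  have hO0 : ¬ IsZero O := fun hz => by
    obtain ⟨e', he', -⟩ :=
      Div57.Ref.exists_gen_basis (Div57.Ref.isRef1_of_isInvertible (PicLoc.isInvertible_structureModule X)).2.2
    exact he' (@Subsingleton.elim _
      (ModuleCat.subsingleton_of_isZero ((DerSch.stalkFunctor X (genericPoint X)).map_isZero hz)) e' 0)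
  obtain ⟨pO, hpO, -⟩ := HilbPoly.exists_hilb (k := k) hHca.1 hOc (hdE O)
  have hA0 := HilbPoly.alpha_pos hHca hOc (isPure_of_torsionFree_integral hOt hd O (𝟙 O) inferInstance hOc hO0) hpO
  -- the Picard group is generated by `Hc`
  have hgen' : ∀ c : PicLoc.PicSet X, ∃ n : ℤ, c = PicGrp.cls Hc hHca.1 ^ n := fun c => by
    obtain ⟨n, rfl⟩ := hgen c
    refine ⟨-n, ?_⟩
    rw [eq_inv_of_mul_eq_one_left ((PicGrp.cls_mul_cls_eq_one_iff hHca.1 hI).2 hHc), inv_zpow, zpow_neg, inv_inv]
  -- degree of the curve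
  obtain ⟨hIc, -, -⟩ := isRef1_data hI
  obtain ⟨pI, hpI, -⟩ := HilbPoly.exists_hilb (k := k) hHca.1 hIc (hdE I)
  obtain ⟨eI⟩ : Nonempty (ShStab.twist X Hc I 1 ≅ ShStab.twist X Hc O 0) := by
    refine H23.PicMul.cl_eq_iff.1 ?_
    show PicF.cl (CohB1.tensorMod I _) = PicF.cl (CohB1.tensorMod O _)
    simp only [H23.PicMul.cl_tensor, H23.PicMul.cl_tensorPow, pow_one, pow_zero, mul_one]
    rw [mul_comm, ← H23.PicMul.cl_tensor]
    exact H23.PicMul.cl_eq_iff.2 hHc
  obtain ⟨hI2, hI1⟩ := alpha_of_twist_iso hd hHca hIc hOc hpI hpO 1 0 eI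
  simp only [Nat.cast_one, one_mul, Nat.cast_zero, zero_mul, add_zero] at hI1
  obtain ⟨eQ⟩ := SurfInt.nonempty_quotMod_ker i
  have hOC := isRef1_data (PicLoc.isInvertible_structureModule C)
  have hQc : Coh.IsCoh ((Coh.push i).obj (Coh.structureModule C)) := QCoh.isCoh_push i hOC.1
  have hAc : Coh.IsCoh ((Coh.push i).obj A) := QCoh.isCoh_push i (isRef1_data hA).1
  have hdi : topologicalKrullDim ↥(Set.range i) = ((1 : ℕ) : WithBot ℕ∞) :=
    ((IsHomeomorph.topologicalKrullDim_eq _ (i.isEmbedding.toHomeomorph).isHomeomorph).symm).trans hC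
  have hdQ : topologicalKrullDim ↥(CohB1.support ((Coh.push i).obj (Coh.structureModule C))) ≤
      ((1 : ℕ) : WithBot ℕ∞) := (H23.TopDim.dim_le_dim_of_subset (QCoh.support_push_subset i hOC.1.1)).trans hdi.le
  have hdA : topologicalKrullDim ↥(CohB1.support ((Coh.push i).obj A)) ≤ ((1 : ℕ) : WithBot ℕ∞) :=
    (H23.TopDim.dim_le_dim_of_subset (QCoh.support_push_subset i (isRef1_data hA).1.1)).trans hdi.le
  obtain ⟨pQ, hpQ, hQd, hQ1⟩ := HilbPoly.exists_hilb (k := k) hHca.1 hQc hdQ
  obtain ⟨pA, hpA, hAd, hA1⟩ := HilbPoly.exists_hilb (k := k) hHca.1 hAc hdA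
  have hsum : pO = pI + pQ :=
    HilbPoly.isHilbPoly_unique hpO (HilbPoly.hilb_add hHca.1 (SurfInt.idealSeq_shortExact i.ker) hIc hOc
      (HilbPoly.isCoh_of_iso eQ.symm hQc) hpI (HilbPoly.hilb_iso eQ.symm hpQ))
  have hmult : ∀ {B : C.Modules}, Coh.IsCoh B → HilbPoly.mult k Hc 1 ((Coh.push i).obj B) =
      HilbPoly.mult k ((Scheme.Modules.pullback i).obj Hc) 1 B := fun {B} hB => by
    have h := IntNum47.iterD_push k i hi (List.replicate 1 Hc)
      (fun D hD => (List.eq_of_mem_replicate hD) ▸ hHca.1) B hB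
    rwa [List.map_replicate] at h
  have hA1' : alpha 1 pA = alpha 2 pO := by
    rw [hA1, hmult (isRef1_data hA).1, mult_invertible_curve hC (PicClLib.isInvertible_pullback i hHca.1) hA,
      ← hmult hOC.1, ← hQ1]
    rw [hsum, HilbPoly.alpha_add] at hI1
    linarith
  have hA2 : alpha 2 pA = 0 := by simp only [alpha]; rw [coeff_eq_zero_of_natDegree_lt (by omega), mul_zero]
  -- invariants of `F`
  have hfree : Coh.IsCoh (FlatMod.freeMod X e) :=
    CurveDeg.isCoh_of_isFinLocFree (KFlatLib.isFinLocFree_freeMod e)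
  obtain ⟨hFc, -, hpF⟩ := HilbPoly.kernel_data hHca hfree hAc (hdE _) lam (hilb_freeMod hHca.1 hpO e) hpA
  have hF2 : alpha 2 ((e : ℚ) • pO - pA) = e * alpha 2 pO := by
    simp only [alpha, coeff_sub, coeff_smul, smul_eq_mul] at hA2 ⊢; linarith
  have hF1 : alpha 1 ((e : ℚ) • pO - pA) = e * alpha 1 pO - alpha 2 pO := by
    rw [← hA1']; simp only [alpha, coeff_sub, coeff_smul, smul_eq_mul]; ring
  have hFt : TorSh.IsTorsionFree (kernel lam) :=
    torsionFree_sub (kernel.ι lam) (isTorsionFree_of_locFree (r := e) fun x =>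
      ⟨⊤, trivial, ⟨(Scheme.Modules.restrictFunctorIsoPullback _).app _ ≪≫ KFlatLib.pullFreeIso _ e⟩⟩)
  have hF0 : ¬ IsZero (kernel lam) := fun hz => by
    have h := HilbPoly.isHilbPoly_unique hpF (HilbPoly.hilb_isZero hz)
    rw [h] at hF1 hF2
    simp only [alpha, coeff_zero, mul_zero] at hF1 hF2
    rcases mul_eq_zero.1 hF2.symm with h' | h'
    · rw [h', zero_mul, zero_sub] at hF1
      simp only [alpha] at hA0
      linarith
    · simp only [alpha] at hA0; linarith
  have hFp := isPure_of_torsionFree_integral hFt hd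
  refine ⟨hFc, hFt, hFc, hF0, hFp _ (𝟙 _) inferInstance hFc hF0, fun E j hj hEc he => ?_,
    fun E j hj hEc pE pF' hpE hpF' h0 hlt => ?_⟩
  · by_cases hz : IsZero E
    · rw [support_empty hz] at he
      rw [show topologicalKrullDim ↥(∅ : Set X) = ⊥ from Order.krullDim_eq_bot_iff.2
        ⟨fun s => s.2.1.elim fun x _ => x.2⟩, WithBot.bot_add] at he
      exact WithBot.bot_ne_coe he
    · rw [hFp E j hj hEc hz] at he
      norm_cast at he
  haveI := hj
  obtain rfl := HilbPoly.isHilbPoly_unique hpF' hpF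
  have hE0 : ¬ IsZero E := fun h => by
    obtain rfl := HilbPoly.isHilbPoly_unique hpE (HilbPoly.hilb_isZero h)
    simp [alpha] at h0
  obtain ⟨r, d, hE2, hE1, hd0, hdG⟩ := deg_sub_free hd hHca hHca.1 hgen' hpO hA0 e E hEc hE0
    (fun l => (j ≫ kernel.ι lam) ≫ freeProj e l)
    (fun T g hg => (cancel_mono (j ≫ kernel.ι lam)).1 ((freeProj_jointlyMono e _ fun l => by
      rw [Category.assoc]; exact hg l).trans Limits.zero_comp.symm)) pE hpE
  rw [hatSlope, hatSlope, div_lt_div_iff₀ h0 (h0.trans hlt)]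
  rw [hF2, hE2] at hlt
  simp only [show (2 : ℕ) - 1 = 1 from rfl, hF1, hF2, hE1, hE2]
  have hre : (r : ℚ) < e := lt_of_mul_lt_mul_right hlt hA0.le
  rcases hd0.lt_or_eq with hneg | rfl
  · have h1 : (d : ℚ) ≤ -1 := by exact_mod_cast (show d ≤ -1 by omega)
    have h2 : (e : ℚ) * d + r < 0 := by nlinarith
    nlinarith [mul_pos hA0 hA0]
  exfalso
  obtain ⟨G, g, h, hGc, hG0, hg, hh, hdh⟩ := hdG rfl
  haveI := hg; haveI := hh
  -- the map `G → O^e` extends to `O`
  let Z : Set X := CohB1.support (cokernel h)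
  have hCc : Coh.IsCoh (cokernel h) := QCoh.isCoh_cokernel hGc.1 hOc h
  have hZc : IsClosed Z := QCoh.isClosed_support_of_isFT hCc.1 hCc.2
  let U : X.Opens := ⟨Zᶜ, hZc.isOpen_compl⟩
  have hdepth : ∀ x : X, x ∉ U → (2 : ℕ∞) ≤ LocCoh.depth (X.presheaf.stalk x) (X.presheaf.stalk x) :=
    fun x hx => two_le_depth_of_dim_add_two_le (X ↘ Spec (CommRingCat.of k)) hd hZc (fun n hn => by
      have : (n : WithBot ℕ∞) ≤ ((0 : ℕ) : WithBot ℕ∞) := hn.trans hdh
      norm_cast at this
      omega) (not_not.1 hx)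
  let φ : G ⟶ FlatMod.freeMod X e := g ≫ j ≫ kernel.ι lam
  choose ψc hψc using fun l => exists_extend h (U := U) (fun x hx => hx) (RefX.extendsAcross_unit hdepth)
    (φ ≫ freeProj e l)
  let ψ : O ⟶ FlatMod.freeMod X e := ∑ l, ψc l ≫ Sigma.ι (fun _ : Fin e => O) l
  have hψ : h ≫ ψ = φ := by
    simp only [ψ, Preadditive.comp_sum, ← Category.assoc, hψc]
    simp only [Category.assoc, ← Preadditive.comp_sum]
    exact (congrArg (φ ≫ ·) (freeProj_total e)).trans (Category.comp_id φ)
  have hψ0 : ψ ≠ 0 := fun h0' => hG0 ((IsZero.iff_id_eq_zero G).2 ((cancel_mono φ).1 (by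
    rw [Category.id_comp, ← hψ, h0', Limits.comp_zero, Limits.zero_comp])))
  refine hψ0 ((RegEpi.evalOneLin_bijective k _).1 (hlam.1 ?_))
  -- `ψ` composed with `lam` vanishes outside `Z`, hence everywhere
  have hz : ψ ≫ lam = 0 := by
    have hhz : h ≫ ψ ≫ lam = 0 := by
      rw [reassoc_of% hψ]
      simp [φ]
    have hAt := (isRef1_data hA).2.2
    have hiη : i (genericPoint C) ∈ U := fun hx => by
      have h1 : Set.range i ⊆ Z := (QCoh.range_eq_closure i).le.trans
        (hZc.closure_subset_iff.2 (Set.singleton_subset_iff.2 hx))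
      have h2 := (H23.TopDim.dim_le_dim_of_subset h1).trans hdh
      rw [hdi] at h2
      norm_cast at h2
    refine Scheme.Modules.hom_ext _ _ fun V => ?_
    ext o
    show (ψ ≫ lam).app V o = 0
    let s : Γ(A, i ⁻¹ᵁ V) := (ψ ≫ lam).app V o
    show s = 0
    by_cases hV : Nonempty (i ⁻¹ᵁ V : C.Opens)
    swap
    · refine TopCat.Presheaf.section_ext ⟨A.presheaf, A.isSheaf⟩ _ _ _ fun z hz => ?_
      exact absurd ⟨⟨z, hz⟩⟩ hV
    have hηV : genericPoint C ∈ i ⁻¹ᵁ V := TorLib.genericPoint_mem hV.some.2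
    refine TorLib.eq_zero_of_germ_genericPoint (isRef1_data hA).1.1 hAt hηV s ?_
    have h0 : (cokernel.π h).app (V ⊓ U) (AModX.res O inf_le_left o) = 0 := by
      refine TopCat.Presheaf.section_ext ⟨(cokernel h).presheaf, (cokernel h).isSheaf⟩ _ _ _ fun z hz => ?_
      haveI : Subsingleton ((cokernel h).presheaf.stalk z) := not_not.1 hz.2
      exact Subsingleton.elim _ _
    obtain ⟨t, ht⟩ := QCoh.exists_app_f_eq (S := ShortComplex.mk h (cokernel.π h) (cokernel.condition h))
      (.mk' (ShortComplex.exact_of_g_is_cokernel _ (cokernelIsCokernel h)) inferInstance inferInstance) _ _ h0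
    have hres : AModX.res ((Coh.push i).obj A) (inf_le_left : V ⊓ U ≤ V) ((ψ ≫ lam).app V o) = 0 := by
      rw [← AModX.app_res (ψ ≫ lam) inf_le_left o, ← ht]
      show (h ≫ ψ ≫ lam).app (V ⊓ U) t = 0
      rw [hhz]
      rfl
    have hW : genericPoint C ∈ i ⁻¹ᵁ (V ⊓ U) := ⟨hηV, hiη⟩
    have h1 := congrArg (A.presheaf.germ (i ⁻¹ᵁ (V ⊓ U)) (genericPoint C) hW) hres
    rw [map_zero] at h1
    exact (TopCat.Presheaf.germ_res_apply A.presheaf
      ((TopologicalSpace.Opens.map i.base).map (homOfLE (inf_le_left : V ⊓ U ≤ V))) _ hW s).symm.trans h1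
  show Sheaf.H.map _ 0 (Sheaf.H.map _ 0 (RegEpi.oneClass X)) = Sheaf.H.map _ 0 (RegEpi.evalOneLin k _ 0)
  rw [← Sheaf.H.map_comp_apply, ← Functor.map_comp, hz, map_zero, map_zero]
  exact (show RegEpi.evalOneLin k _ (0 : O ⟶ (Coh.push i).obj A) = 0 from map_zero _)

end Groth.Agent.S18133
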