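import Groth.Statements.S18156
import Mathlib
import Groth.Agent.CplFib6.DerivCompl

set_option autoImplicit false
universe u v
open CAlg

namespace Groth.Agent.S18156

/-- Let k be a field and A a regular local ring that is a k-algebra, with maximal ideal m and m-adic
completion Â. Then every k-derivation D of A into itself extends to a k-derivation D̂ of Â into
itself along the canonical map ρ : A → Â, in the sense that D̂(ρ(a)) = ρ(D(a)) for every a ∈ A. (The
source works throughout over an algebraically closed field of characteristic p; neither assumption
enters this statement.) -/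
theorem result
    (k : Type u) [Field k] (A : Type v) [CommRing A] [Algebra k A] [IsRegularLocalRing A]
    (D : Derivation k A A) :
    ∃ Dhat : Derivation k (AdicCompletion (IsLocalRing.maximalIdeal A) A)
        (AdicCompletion (IsLocalRing.maximalIdeal A) A),
      ∀ a : A, Dhat (algebraMap A (AdicCompletion (IsLocalRing.maximalIdeal A) A) a) =
        algebraMap A (AdicCompletion (IsLocalRing.maximalIdeal A) A) (D a) := by
  let D' : Derivation ℤ A A :=
    Derivation.mk' D.toLinearMap.toAddMonoidHom.toIntLinearMap fun a b => D.leibniz a b
  obtain ⟨E, hE⟩ := CplFib6.exists_derivation_adicCompletion (IsLocalRing.maximalIdeal A) D'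
  have hconst : ∀ c : k, E (algebraMap k (AdicCompletion (IsLocalRing.maximalIdeal A) A) c) = 0 := by
    intro c
    rw [IsScalarTower.algebraMap_apply k A (AdicCompletion (IsLocalRing.maximalIdeal A) A), hE]
    show algebraMap A _ (D (algebraMap k A c)) = 0
    rw [Derivation.map_algebraMap, map_zero]
  refine ⟨Derivation.mk'
    { toFun := E
      map_add' := map_add E
      map_smul' := fun c x => ?_ } fun a b => E.leibniz a b, fun a => hE a⟩
  simp only [RingHom.id_apply, Algebra.smul_def, E.leibniz, hconst, Algebra.algebraMap_self, RingHom.id_apply, mul_zero, add_zero]

end Groth.Agent.S18156
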