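import Groth.Statements.S18200
import Groth.Agent.LocImm10.Factor
import Groth.Agent.LocImm10.QFFinite
-- import your own Groth.Agent.* helpers here

set_option backward.isDefEq.respectTransparency false

set_option autoImplicit false
universe u
open LocImm

namespace Groth.Agent.S18200

open CategoryTheory AlgebraicGeometry in
/-- Let `f : X ⟶ Y` be a separated morphism of Noetherian schemes that is essentially quasi-finite:
essentially of finite type with every fibre the spectrum of a finite algebra over the residue field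
(equivalently, `f` locally quasi-finite in the fibrewise sense, which carries no finite-type
condition). Then `f` factors as a localizing immersion `i : X ⟶ Z` (localizing and injective on
points, `Z` Noetherian) followed by a finite morphism `h : Z ⟶ Y`. -/
theorem result {X Y : Scheme.{u}} [IsNoetherian X] [IsNoetherian Y] (f : X ⟶ Y) [IsSeparated f] [EssFT.EssFiniteType f] [LocallyQuasiFinite f] :
    ∃ (Z : Scheme.{u}) (i : X ⟶ Z) (h : Z ⟶ Y), IsNoetherian Z ∧ LocImm.IsLocImmersion i ∧ IsFinite h ∧ i ≫ h = f := by
  obtain ⟨Y₁, k, p, hY₁, hk, hp, hp', hpqc, rfl⟩ := Groth.Agent.LocImm10.exists_factorization f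
  haveI := hY₁; haveI := hp; haveI := hp'; haveI := hpqc
  have hq : ∀ x, p.QuasiFiniteAt (k x) := fun x => by
    haveI := Groth.Agent.LocImm10.isIso_stalkMap hk.1 x
    have h := (k ≫ p).quasiFiniteAt x
    simp only [Scheme.Hom.QuasiFiniteAt, Scheme.Hom.stalkMap_comp, CommRingCat.hom_comp,
      RingHom.QuasiFinite.respectsIso.cancel_right_isIso] at h
    exact h
  let V := p.quasiFiniteLocus
  haveI := Groth.Agent.LocImm10.isNoetherian_open V
  obtain ⟨Z, i, h, hi, hh, hfac⟩ := Groth.Agent.LocImm10.exists_finite_factor (V.ι ≫ p)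
  haveI := hi
  haveI := hh
  let k' : X ⟶ (V : Scheme.{u}) := IsOpenImmersion.lift V.ι k (by
    rw [Scheme.Opens.range_ι]; rintro _ ⟨x, rfl⟩; exact hq x)
  have hk' : k' ≫ V.ι = k := IsOpenImmersion.lift_fac _ _ _
  have hlk' : LocImm.IsLocImmersion k' :=
    Groth.Agent.LocImm10.isLocImmersion_of_comp_openImmersion (ι := V.ι) (by rwa [hk'])
  haveI : IsLocallyNoetherian Z := LocallyOfFiniteType.isLocallyNoetherian h
  haveI : CompactSpace Z := QuasiCompact.compactSpace_of_compactSpace h
  exact ⟨Z, k' ≫ i, h, ⟨⟩, ⟨Groth.Agent.LocImm10.isLocalizing_comp_openImmersion hlk'.1 i,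
    fun a b e => hlk'.2 (i.isOpenEmbedding.injective e)⟩, hh, by rw [Category.assoc, hfac, reassoc_of% hk']⟩

end Groth.Agent.S18200
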