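import Groth.Statements.S18205
import Groth.Agent.LocImm10.Affine
import Mathlib.Topology.NoetherianSpace

set_option backward.isDefEq.respectTransparency false
set_option linter.style.haveILetI false
-- import your own Groth.Agent.* helpers here

set_option autoImplicit false
universe u
open LocImm

namespace Groth.Agent.S18205

open CategoryTheory AlgebraicGeometry in
/-- Let `f : X ⟶ Y` be a localizing immersion (localizing and injective on points) of Noetherian schemes
whose image is closed. Then `f` is an open immersion (so its image is open and closed and `f` is an
isomorphism onto a union of connected components of `Y`); in particular a surjective localizing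
immersion is an isomorphism. -/
theorem result {X Y : Scheme.{u}} [IsNoetherian X] [IsNoetherian Y]
    (f : X ⟶ Y) (hf : LocImm.IsLocImmersion f) (hc : IsClosed (Set.range (fun x => f x))) : IsOpenImmersion f := by
  obtain ⟨hemb, hgen, hiso⟩ := Groth.Agent.S18203.result f hf
  refine @IsOpenImmersion.of_isIso_stalkMap _ _ f ⟨hemb, ?_⟩ hiso
  set R : Set Y := Set.range (fun x => f x) with hR
  have hRc : Rᶜ = ⋃ T ∈ {T ∈ irreducibleComponents Y | Disjoint T R}, T := by
    ext y
    simp only [Set.mem_compl_iff, Set.mem_iUnion, Set.mem_ofPred_eq, exists_prop]
    refine ⟨fun hy => ⟨irreducibleComponent y, ⟨irreducibleComponent_mem_irreducibleComponents y, ?_⟩,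
      mem_irreducibleComponent⟩, fun ⟨T, ⟨_, hT⟩, hyT⟩ => Set.disjoint_left.1 hT hyT⟩
    rw [Set.disjoint_left]
    intro z hz hzR
    have hirr := isIrreducible_irreducibleComponent (x := y)
    have hgp := hirr.isGenericPoint_genericPoint isClosed_irreducibleComponent
    exact hy (((hgp.specializes mem_irreducibleComponent)).mem_closed hc (hgen (hgp.specializes hz) hzR))
  show IsOpen R
  rw [← isClosed_compl_iff, hRc]
  exact ((TopologicalSpace.NoetherianSpace.finite_irreducibleComponents).subset fun T hT => hT.1).isClosed_biUnion
    fun T hT => isClosed_of_mem_irreducibleComponents T hT.1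

end Groth.Agent.S18205
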