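import Groth.Statements.S18213
import Groth.Agent.LocImm10.Localizable
import Groth.Agent.FlatLocus.Basic
-- import your own Groth.Agent.* helpers here

set_option backward.isDefEq.respectTransparency false

set_option autoImplicit false
universe u
open LocImm

namespace Groth.Agent.S18213

open CategoryTheory AlgebraicGeometry in
/-- Let `f : X ⟶ Y` be a separated morphism of Noetherian schemes, essentially of finite type. Then the
set of points `x` for which the composite `Spec O_{X,x} ⟶ X ⟶ Y` is flat is open, and if `f` is flat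
it factors as a localizing immersion `i : X ⟶ Z` (localizing and injective on points, `Z`
Noetherian) followed by a separated flat morphism of finite type `h : Z ⟶ Y`. -/
theorem result {X Y : Scheme.{u}} [IsNoetherian X] [IsNoetherian Y] (f : X ⟶ Y) [IsSeparated f] [EssFT.EssFiniteType f] :
    IsOpen {x : X | Flat (X.fromSpecStalk x ≫ f)} ∧
      (Flat f → ∃ (Z : Scheme.{u}) (i : X ⟶ Z) (h : Z ⟶ Y), IsNoetherian Z ∧ LocImm.IsLocImmersion i ∧ IsSeparated h ∧ LocallyOfFiniteType h ∧ QuasiCompact h ∧ Flat h ∧ i ≫ h = f) := by
  have key : ∀ {A B : Scheme.{u}} (g : A ⟶ B) (a : A),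
      Flat (A.fromSpecStalk a ≫ g) ↔ (g.stalkMap a).hom.Flat := fun {A B} g a => by
    refine ⟨fun h => ?_, fun h => ?_⟩
    · haveI := Groth.Agent.LocImm10.isIso_stalkMap (Groth.Agent.LocImm10.isLocImmersion_fromSpecStalk a).1
        (IsLocalRing.closedPoint (A.presheaf.stalk a))
      have := Flat.stalkMap (A.fromSpecStalk a ≫ g) (IsLocalRing.closedPoint (A.presheaf.stalk a))
      rw [Scheme.Hom.stalkMap_comp, Groth.Agent.FlatLocus.flat_comp_isIso] at this
      suffices ∀ z, A.fromSpecStalk a (IsLocalRing.closedPoint (A.presheaf.stalk a)) = z → (g.stalkMap z).hom.Flat from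
        this _ Scheme.fromSpecStalk_closedPoint
      rintro z rfl
      exact this
    · rw [← Scheme.SpecMap_stalkMap_fromSpecStalk]
      haveI : Flat (B.fromSpecStalk (g a)) :=
        Groth.Agent.LocImm10.flat (Groth.Agent.LocImm10.isLocImmersion_fromSpecStalk _).1
      haveI : Flat (Spec.map (g.stalkMap a)) := (HasRingHomProperty.Spec_iff (P := @Flat)).2 h
      infer_instance
  obtain ⟨-, hopen, hfac⟩ := Groth.Agent.LocImm10.localizable @Flat.{u}
    (fun i g _ _ hi hg => by
      haveI := hg
      haveI := Groth.Agent.LocImm10.flat hi.1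
      infer_instance)
    (fun g _ _ h => Flat.of_stalkMap g fun a => (key g a).1 (h a))
    (fun g _ _ => by
      haveI : LocallyOfFinitePresentation g := inferInstance
      simp only [key]
      exact Groth.Agent.FlatLocus.isOpen_flat_locus g) f
  exact ⟨hopen, hfac⟩

end Groth.Agent.S18213
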