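import Groth.Statements.S18233
import Groth.Agent.MdlA1.RepSmooth
import Groth.Agent.S18231

set_option autoImplicit false
universe u
open CategoryTheory MonoidalCategory CartesianMonoidalCategory AlgebraicGeometry Opposite
open Magnet

namespace Groth.Agent.S18233

/-- Let S be a scheme, M a finitely generated abelian group, N a submonoid of M, X and Y schemes over S
with actions of the diagonalizable group scheme D(M)_S, and f : X → Y a smooth equivariant
S-morphism. If the attractors X^N and Y^N are represented by S-schemes Z_X and Z_Y, and j : Z_X →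
Z_Y is the S-morphism that corresponds to f^N : X^N → Y^N under the two representing bijections,
then j is smooth. (Stated for schemes; the published statement is for algebraic spaces over S and
representability by algebraic spaces.) -/
theorem result (S : Scheme.{u}) (M : Type) [AddCommGroup M] [AddGroup.FG M]
    (N : AddSubmonoid M) {X Y : Over S} (aX : Magnet.MonAct (Magnet.AMonS S M) X)
    (aY : Magnet.MonAct (Magnet.AMonS S M) Y) (f : X ⟶ Y) (hf : Magnet.MonAct.IsEquivariant aX aY f)
    [Smooth f.left] {ZX ZY : Over S} (eX : (Magnet.attr aX N).RepresentableBy ZX) (eY : (Magnet.attr aY N).RepresentableBy ZY)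
    (j : ZX ⟶ ZY) (hj : ∀ (T : Over S) (z : T ⟶ ZX),
      eY.homEquiv (z ≫ j) = (Magnet.MonAct.eqvHom.postcomp (Magnet.subAct S M N) f hf).app (op T) (eX.homEquiv z)) :
    Smooth j.left := by
  refine MdlA1.smooth_of_represents (Magnet.MonAct.eqvHom.postcomp (Magnet.subAct S M N) f hf) eX eY j hj
    (fun A _ I hI str x y h => S18231.result S M N aX aY f hf A I hI str x y h) ?_
  intro I _ _ E _ c hc x y hy hx
  obtain ⟨i, x₀, h1, h2⟩ := MdlA1.exists_descend_eqv E c hc (Magnet.subAct S M N) aX aY f hf y
    (fun g => congrArg Subtype.val (hy g)) x (fun i => congrArg Subtype.val (hx i))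
  exact ⟨i, x₀, Subtype.ext h1, Subtype.ext h2⟩

end Groth.Agent.S18233
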