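import Groth.Statements.S18237
import Groth.Agent.MdlA1.AtlasImage
import Groth.Agent.H28.MagnetPure
-- import your own Groth.Agent.* helpers here

set_option autoImplicit false
universe u
open CategoryTheory MonoidalCategory CartesianMonoidalCategory AlgebraicGeometry Opposite
open Magnet

namespace Groth.Agent.S18237

/-- Let S be a quasi-compact scheme, M a finitely generated abelian group, X a scheme which is
quasi-compact, separated and locally of finite presentation over S with an action of the
diagonalizable group scheme D(M)_S, and N a submonoid of M with subgroup of invertible elements Z =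
N*. Assume X admits an S-affine N*-FPR atlas: an equivariant, étale and surjective g : U → X with U
affine over S such that, for the actions restricted along D(M/Z)_S → D(M)_S, the square of
fixed-point subfunctors U^{D(M/Z)} → X^{D(M/Z)} over U → X is cartesian. Then there is a finitely
generated submonoid N_c of N with the same invertible elements as N such that the canonical map of
attractors X^{N_c} → X^N is an isomorphism of functors. (Stated for schemes, the published statement
being for algebraic spaces. The published statement assumes only M finitely generated and X → S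
quasi-compact and separated; it fails without X locally of finite presentation over S or without S
quasi-compact, so this row assumes both, and it assumes an S-affine N*-FPR atlas, which the
published argument obtains from a general existence result.) -/
theorem result (S : Scheme.{u}) [CompactSpace S] (M : Type)
    [AddCommGroup M] [AddGroup.FG M] {X : Over S} [QuasiCompact X.hom] [IsSeparated X.hom]
    [LocallyOfFinitePresentation X.hom] (a : Magnet.MonAct (Magnet.AMonS S M) X) (N : AddSubmonoid M)
    (Z : AddSubgroup M) (hZ : ∀ m : M, m ∈ Z ↔ (m ∈ N ∧ -m ∈ N)) (U : Over S) [IsAffineHom U.hom]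
    (aU : Magnet.MonAct (Magnet.AMonS S M) U) (g : U ⟶ X) (hg : Magnet.MonAct.IsEquivariant aU a g)
    [Etale g.left] [Surjective g.left]
    (hgZ : Magnet.MonAct.IsEquivariant (aU.restrict (Magnet.AMonS.map S (QuotientAddGroup.mk' Z))) (a.restrict (Magnet.AMonS.map S (QuotientAddGroup.mk' Z))) g)
    (hfpr : IsPullback (Magnet.MonAct.fixedPsh.map g hgZ)
      (Magnet.MonAct.fixedPshι (aU.restrict (Magnet.AMonS.map S (QuotientAddGroup.mk' Z))))
      (Magnet.MonAct.fixedPshι (a.restrict (Magnet.AMonS.map S (QuotientAddGroup.mk' Z)))) (yoneda.map g)) :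
    ∃ (Nc : AddSubmonoid M) (h : Nc ≤ N), Nc.FG ∧ (∀ m : M, (m ∈ Nc ∧ -m ∈ Nc) ↔ (m ∈ N ∧ -m ∈ N)) ∧
      IsIso (Magnet.attrMap a h) := by
  classical
  haveI : LocallyOfFinitePresentation U.hom := by rw [← Over.w g]; infer_instance
  haveI : Module.Finite ℤ M := Module.Finite.iff_addGroup_fg.2 ‹AddGroup.FG M›
  haveI : IsNoetherian ℤ M := isNoetherian_of_isNoetherianRing_of_finite ℤ M
  obtain ⟨E, hE⟩ := Groth.Agent.H28.MagnetAff.exists_degrees_global aU
  have hQ : Z.toAddSubmonoid = Magnet.unitFace N := by
    ext m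
    refine (hZ m).trans ⟨fun h => ⟨h.1, -m, h.2, add_neg_cancel m⟩, ?_⟩
    rintro ⟨hm, y, hy, h⟩
    exact ⟨hm, by rw [← eq_neg_of_add_eq_zero_right h]; exact hy⟩
  have hZfg : Z.toAddSubmonoid.FG := by
    rw [← AddSubgroup.fg_iff_addSubmonoid_fg, ← AddSubgroup.toIntSubmodule_toAddSubgroup Z,
      ← Submodule.fg_iff_addSubgroup_fg]
    exact IsNoetherian.noetherian _
  let Nc := Z.toAddSubmonoid ⊔ AddSubmonoid.closure ((E.filter (· ∈ N) : Finset M) : Set M)
  have hle : Nc ≤ N := sup_le (fun m hm => ((hZ m).1 hm).1)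
    (AddSubmonoid.closure_le.2 fun m hm => (Finset.mem_filter.1 hm).2)
  have hmem : ∀ m ∈ E, m ∈ N ↔ m ∈ Nc := fun m hm =>
    ⟨fun h => AddSubmonoid.mem_sup_right (AddSubmonoid.subset_closure (Finset.mem_coe.2 (Finset.mem_filter.2 ⟨hm, h⟩))),
      fun h => hle h⟩
  refine ⟨Nc, hle, hZfg.sup ⟨_, rfl⟩, fun m => ⟨fun h => ⟨hle h.1, hle h.2⟩, fun h => ⟨AddSubmonoid.mem_sup_left ((hZ m).2 h),
    AddSubmonoid.mem_sup_left (Z.neg_mem ((hZ m).2 h))⟩⟩, ?_⟩
  have hval : ∀ (T : Over S) (ψ : (Magnet.attr a Nc).obj (op T)),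
      (Magnet.attrToX a N).app (op T) ((Magnet.attrMap a hle).app (op T) ψ) = (Magnet.attrToX a Nc).app (op T) ψ := fun T ψ => by
    rw [Groth.Agent.MdlA1.attrToX_apply, Groth.Agent.MdlA1.attrToX_apply]
    show lift _ _ ≫ (Magnet.AMonS.map S _ ▷ T) ≫ ψ.1 = _
    rw [lift_whiskerRight_assoc, MonObj.one_comp]
  haveI : ∀ T, IsIso ((Magnet.attrMap a hle).app T) := by
    rintro ⟨T⟩
    refine (ConcreteCategory.isIso_iff_bijective _).2 ⟨Groth.Agent.MagnetLib.attrMap_injective a hle T, fun φ => ?_⟩
    obtain ⟨ψ, hψ⟩ := Groth.Agent.MdlA1.exists_attrToX_eq_of_atlas aU a g hg Z (N := N) (L := Nc)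
      (Magnet.isFace_unitFace N) hQ hgZ hfpr
      (fun T' χ => hE N Nc hmem T' _ ⟨χ, rfl⟩) T φ
    exact ⟨ψ, Groth.Agent.MagnetLib.attrToX_injective a N T ((hval T ψ).trans hψ)⟩
  exact NatIso.isIso_of_isIso_app _

end Groth.Agent.S18237
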