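import Groth.Statements.S18240
import Groth.Agent.MdlA1.FaceAct
import Groth.Agent.MdlA1.EqvLift
import Groth.Agent.MdlA1.SpecThick

set_option autoImplicit false
universe u
open CategoryTheory MonoidalCategory CartesianMonoidalCategory AlgebraicGeometry Opposite
open Magnet

namespace Groth.Agent.S18240

/-- Let S be a scheme, M a finitely generated abelian group, N a submonoid of M and F a face of N (x + y
∈ F iff x ∈ F and y ∈ F), and X an S-scheme with an action of the diagonalizable group scheme D(M)_S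
such that X → S is smooth. Then the canonical map X^N → X^F (restriction along the closed immersion
A(F) → A(N) of the face) is formally smooth as a transformation of functors on S-schemes: for every
ring A, ideal I with I² = 0 and Spec A → S, writing T = Spec (A/I) ⊂ T' = Spec A, every x in X^N(T)
and y in X^F(T') with the same image in X^F(T) admit some l in X^N(T') with l|_T = x mapping to y.
(Stated for schemes; the published statement is for algebraic spaces over S.) -/
theorem result (S : Scheme.{u}) (M : Type) [AddCommGroup M] [AddGroup.FG M]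
    {N F : AddSubmonoid M} (hF : Magnet.IsFace N F) {X : Over S} [Smooth X.hom]
    (a : Magnet.MonAct (Magnet.AMonS S M) X) (A : Type u) [CommRing A] (I : Ideal A) (hI : I ^ 2 = ⊥)
    (str : Spec (CommRingCat.of A) ⟶ S)
    (x : (Magnet.attr a N).obj (op (Over.mk (Spec.map (CommRingCat.ofHom (Ideal.Quotient.mk I)) ≫ str))))
    (y : (Magnet.attr a F).obj (op (Over.mk str)))
    (h : (Magnet.attrFace a hF).app _ x = (Magnet.attr a F).map (Over.homMk (Spec.map (CommRingCat.ofHom (Ideal.Quotient.mk I))) rfl :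
        Over.mk (Spec.map (CommRingCat.ofHom (Ideal.Quotient.mk I)) ≫ str) ⟶ Over.mk str).op y) :
    ∃ l : (Magnet.attr a N).obj (op (Over.mk str)),
      (Magnet.attr a N).map (Over.homMk (Spec.map (CommRingCat.ofHom (Ideal.Quotient.mk I))) rfl :
        Over.mk (Spec.map (CommRingCat.ofHom (Ideal.Quotient.mk I)) ≫ str) ⟶ Over.mk str).op l = x ∧ (Magnet.attrFace a hF).app _ l = y := by
  haveI : IsAffine (Over.mk str).left := inferInstanceAs (IsAffine (Spec _))
  haveI : IsAffine (Over.mk (Spec.map (CommRingCat.ofHom (Ideal.Quotient.mk I)) ≫ str)).left :=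
    inferInstanceAs (IsAffine (Spec _))
  let t : Over.mk (Spec.map (CommRingCat.ofHom (Ideal.Quotient.mk I)) ≫ str) ⟶ Over.mk str :=
    Over.homMk (Spec.map (CommRingCat.ofHom (Ideal.Quotient.mk I))) rfl
  have ht : MdlA1.Thick t := MdlA1.thick_quotientMk I hI str
  have hpo := MdlA1.facePO_isPushout hF t ht
  have hw : (Magnet.AMonS S F ◁ t) ≫ y.1 = (Magnet.AMonS.faceMap S hF ▷ _) ≫ x.1 :=
    (congrArg Subtype.val h).symm
  let k := hpo.desc y.1 x.1 hw
  have hk := MdlA1.isEquivariant_of_legs hF t ht a k (by rw [hpo.inl_desc]; exact y.2)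
    (by rw [hpo.inr_desc]; exact x.2)
  haveI : Smooth (toUnit X).left := inferInstanceAs (Smooth X.hom)
  have hu : ∀ {Z : Over S} (b : Magnet.MonAct (Magnet.AMonS S M) Z),
      Magnet.MonAct.IsEquivariant b (Magnet.MonAct.trivial _ (𝟙_ (Over S))) (toUnit Z) :=
    fun b => toUnit_unique _ _
  obtain ⟨l, hl1, -, hl3⟩ := MdlA1.exists_equivariant_lift (MdlA1.faceE_thick hF t ht)
    (MdlA1.bigAct S N (Over.mk str)) (MdlA1.faceAct hF t).act (MdlA1.faceAct_faceE hF t) a
    (Magnet.MonAct.trivial _ (𝟙_ (Over S))) (toUnit X) (hu a) k hk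
    (toUnit _) (hu _) (toUnit_unique _ _)
  refine ⟨⟨l, hl3⟩, Subtype.ext ?_, Subtype.ext ?_⟩
  · show (Magnet.AMonS S N ◁ t) ≫ l = x.1
    rw [← MdlA1.faceNu₂_faceE hF t, Category.assoc, hl1, hpo.inr_desc]
  · show (Magnet.AMonS.faceMap S hF ▷ Over.mk str) ≫ l = y.1
    rw [← MdlA1.faceNu₁_faceE hF t, Category.assoc, hl1, hpo.inl_desc]

end Groth.Agent.S18240
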