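import Groth.Statements.S18241
import Groth.Agent.MdlA1.RepSmooth
import Groth.Agent.S18240

set_option autoImplicit false
universe u
open CategoryTheory MonoidalCategory CartesianMonoidalCategory AlgebraicGeometry Opposite
open Magnet

namespace Groth.Agent.S18241

/-- Let S be a scheme, M a finitely generated abelian group, N a submonoid of M and F a face of N, and X
an S-scheme smooth over S with an action of the diagonalizable group scheme D(M)_S. If the
attractors X^N and X^F are represented by S-schemes Z_N and Z_F, and j : Z_N → Z_F is the S-morphism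
that corresponds to the canonical map X^N → X^F under the two representing bijections, then j is
smooth. (Stated for schemes; the published statement is for algebraic spaces over S.) -/
theorem result (S : Scheme.{u}) (M : Type) [AddCommGroup M] [AddGroup.FG M]
    {N F : AddSubmonoid M} (hF : Magnet.IsFace N F) {X : Over S} [Smooth X.hom]
    (a : Magnet.MonAct (Magnet.AMonS S M) X) {ZN ZF : Over S} (eN : (Magnet.attr a N).RepresentableBy ZN)
    (eF : (Magnet.attr a F).RepresentableBy ZF) (j : ZN ⟶ ZF)
    (hj : ∀ (T : Over S) (z : T ⟶ ZN), eF.homEquiv (z ≫ j) = (Magnet.attrFace a hF).app (op T) (eN.homEquiv z)) :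
    Smooth j.left := by
  refine MdlA1.smooth_of_represents (Magnet.attrFace a hF) eN eF j hj
    (fun A _ I hI str x y h => S18240.result S M hF a A I hI str x y h) ?_
  intro I _ _ E _ c hc x y hy hx
  haveI : LocallyOfFinitePresentation (toUnit X).left := inferInstanceAs (LocallyOfFinitePresentation X.hom)
  have hu : Magnet.MonAct.IsEquivariant a (Magnet.MonAct.trivial _ (𝟙_ (Over S))) (toUnit X) := toUnit_unique _ _
  obtain ⟨i, x₀, -, h2⟩ := MdlA1.exists_descend_eqv E c hc (Magnet.subAct S M N) a
    (Magnet.MonAct.trivial _ (𝟙_ (Over S))) (toUnit X) hu (fun i => ⟨toUnit _, toUnit_unique _ _⟩)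
    (fun _ => toUnit_unique _ _) x (fun _ => toUnit_unique _ _)
  obtain ⟨k, g, hk⟩ := MdlA1.exists_descend_eq E c hc (toUnit X) F
    ((Magnet.AMonS.faceMap S hF ▷ E.obj i) ≫ x₀.1) (y i).1 (fun _ => toUnit _)
    (fun _ => toUnit_unique _ _) (toUnit_unique _ _) (toUnit_unique _ _) (by
      rw [whisker_exchange_assoc, h2]
      exact (congrArg Subtype.val (hx i)).symm)
  refine ⟨k, (Magnet.attr a N).map (E.map g).op x₀, Subtype.ext ?_, Subtype.ext ?_⟩
  · show (Magnet.AMonS.faceMap S hF ▷ E.obj k) ≫ (Magnet.AMonS S N ◁ E.map g) ≫ x₀.1 = (y k).1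
    rw [← whisker_exchange_assoc, hk]
    exact congrArg Subtype.val (hy g)
  · show (Magnet.AMonS S N ◁ c.π.app k) ≫ (Magnet.AMonS S N ◁ E.map g) ≫ x₀.1 = x.1
    rw [← MonoidalCategory.whiskerLeft_comp_assoc, c.w g, h2]

end Groth.Agent.S18241
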