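import Groth.Statements.S18243
import Groth.Agent.MdlA1.FaceAct
import Groth.Agent.MorLib.FirstOrder

set_option autoImplicit false
universe u
open CategoryTheory MonoidalCategory CartesianMonoidalCategory AlgebraicGeometry Opposite
open Magnet

namespace Groth.Agent.S18243

/-- Let T be an affine scheme and T̄ → T a first-order thickening, M a finitely generated abelian group,
N a submonoid of M and F a face of N. Consider the span A(F)_T ← A(F)_T ×_T T̄ → A(N)_T ×_T T̄
formed by the first projection and by the face closed immersion A(F) → A(N) times T̄, everything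
with its action of the diagonalizable group scheme D(M)_T (acting trivially on T̄). Then there are a
T-scheme P, affine, with morphisms ν₁ : A(F)_T → P and ν₂ : A(N)_T ×_T T̄ → P forming a push-out
square in T-schemes, and an action of D(M)_T on P for which ν₁ and ν₂ are equivariant, such that P
is also a push-out for equivariant morphisms: for every T-scheme X with an action of D(M)_T and
equivariant f₁ : A(F)_T → X, f₂ : A(N)_T ×_T T̄ → X agreeing on A(F)_T ×_T T̄, the induced morphism
P → X is equivariant. (Stated for schemes over T; the published statement is in algebraic spaces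
over T.) -/
theorem result (T : Scheme.{u}) [IsAffine T] (M : Type) [AddCommGroup M]
    [AddGroup.FG M] {N F : AddSubmonoid M} (hF : Magnet.IsFace N F) (Tb : Over T)
    (hTb : MoreMor.IsFirstOrderThickening Tb.hom) :
    ∃ (P : Over T) (ν₁ : Magnet.AMonS T F ⟶ P) (ν₂ : Magnet.AMonS T N ⊗ Tb ⟶ P)
      (hP : IsPushout (CartesianMonoidalCategory.fst (Magnet.AMonS T F) Tb) (Magnet.AMonS.faceMap T hF ▷ Tb) ν₁ ν₂)
      (aP : Magnet.MonAct (Magnet.AMonS T M) P),
      IsAffine P.left ∧ Magnet.MonAct.IsEquivariant (Magnet.subAct T M F) aP ν₁ ∧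
      Magnet.MonAct.IsEquivariant ((Magnet.subAct T M N).prod (Magnet.MonAct.trivial (Magnet.AMonS T M) Tb)) aP ν₂ ∧
      ∀ (X : Over T) (aX : Magnet.MonAct (Magnet.AMonS T M) X) (f₁ : Magnet.AMonS T F ⟶ X)
        (f₂ : Magnet.AMonS T N ⊗ Tb ⟶ X)
        (w : CartesianMonoidalCategory.fst (Magnet.AMonS T F) Tb ≫ f₁ = (Magnet.AMonS.faceMap T hF ▷ Tb) ≫ f₂),
        Magnet.MonAct.IsEquivariant (Magnet.subAct T M F) aX f₁ →
        Magnet.MonAct.IsEquivariant ((Magnet.subAct T M N).prod (Magnet.MonAct.trivial (Magnet.AMonS T M) Tb)) aX f₂ →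
        Magnet.MonAct.IsEquivariant aP aX (hP.desc f₁ f₂ w) := by
  haveI : IsAffine (𝟙_ (Over T)).left := inferInstanceAs (IsAffine T)
  haveI hc : IsClosedImmersion Tb.hom := hTb.1.1
  haveI : IsAffine Tb.left := isAffine_of_isAffineHom Tb.hom
  let t : Tb ⟶ 𝟙_ (Over T) := toUnit Tb
  have hsq : RingHom.ker Tb.hom.appTop.hom ^ 2 = ⊥ := MorLib.ker_appTop_sq_eq_bot Tb.hom hTb.2
  have ht : MdlA1.Thick t :=
    ⟨Tb.hom.app_surjective ⊤ (isAffineOpen_top T), fun a b ha hb => by
      have : a * b ∈ RingHom.ker Tb.hom.appTop.hom ^ 2 := by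
        rw [pow_two]
        exact Ideal.mul_mem_mul ha hb
      rwa [hsq, Ideal.mem_bot] at this⟩
  let ν₁ : Magnet.AMonS T F ⟶ MdlA1.facePO hF t := (ρ_ (Magnet.AMonS T F)).inv ≫ MdlA1.faceNu₁ hF t
  have hP : IsPushout (CartesianMonoidalCategory.fst (Magnet.AMonS T F) Tb) (Magnet.AMonS.faceMap T hF ▷ Tb)
      ν₁ (MdlA1.faceNu₂ hF t) :=
    (MdlA1.facePO_isPushout hF t ht).of_iso (Iso.refl _) (ρ_ (Magnet.AMonS T F)) (Iso.refl _) (Iso.refl _)
      (by rw [Iso.refl_hom, Category.id_comp, rightUnitor_hom, whiskerLeft_fst])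
      (by simp) (by simp [ν₁]) (by simp)
  have hρ : ∀ (K : AddSubmonoid M) (X : Over T) (aX : Magnet.MonAct (Magnet.AMonS T M) X)
      (g : Magnet.AMonS T K ⟶ X), Magnet.MonAct.IsEquivariant (Magnet.subAct T M K) aX g ↔
      Magnet.MonAct.IsEquivariant (MdlA1.bigAct T K (𝟙_ (Over T))) aX ((ρ_ _).hom ≫ g) := by
    intro K X aX g
    rw [Magnet.MonAct.isEquivariant_iff, Magnet.MonAct.isEquivariant_iff]
    constructor
    · intro hg V γ z
      rw [← lift_comp_fst_snd z, rightUnitor_hom, Magnet.MonAct.lift_prod_act_assoc, lift_fst_assoc, Category.assoc, hg,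
        lift_fst_assoc]
    · intro hg V γ z
      have := hg V γ (lift z (toUnit V))
      rw [rightUnitor_hom, Magnet.MonAct.lift_prod_act_assoc, lift_fst_assoc, lift_fst_assoc] at this
      exact (Category.assoc _ _ _).symm.trans ((Category.assoc _ _ _).trans this)
  refine ⟨MdlA1.facePO hF t, ν₁, MdlA1.faceNu₂ hF t, hP, MdlA1.faceAct hF t, inferInstance, ?_,
    MdlA1.isEquivariant_faceNu₂ hF t, ?_⟩
  · rw [hρ, show (ρ_ _).hom ≫ ν₁ = MdlA1.faceNu₁ hF t from Iso.hom_inv_id_assoc _ _]
    exact MdlA1.isEquivariant_faceNu₁ hF t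
  · intro X aX f₁ f₂ w h₁ h₂
    refine MdlA1.isEquivariant_of_legs hF t ht aX _ ?_ (by rw [hP.inr_desc]; exact h₂)
    rw [hρ] at h₁
    convert h₁ using 1
    rw [← show (ρ_ _).hom ≫ ν₁ = MdlA1.faceNu₁ hF t from Iso.hom_inv_id_assoc _ _, Category.assoc, hP.inl_desc]

end Groth.Agent.S18243
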