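import Groth.Statements.S18245
import Groth.Agent.MdlA1.BundleAct
import Groth.Agent.MdlA1.GradOfAct
import Groth.Agent.MdlA1.BundleIso
import Groth.Agent.S18241

set_option autoImplicit false
universe u
open CategoryTheory MonoidalCategory CartesianMonoidalCategory AlgebraicGeometry Opposite
open Magnet

namespace Groth.Agent.S18245

/-- Let S be a scheme, M a finitely generated abelian group, X a scheme smooth and locally of finite
presentation over S with an action a of the diagonalizable group scheme D(M)_S which is Zariski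
locally linearizable (every point of X lies in a D(M)_S-stable open subscheme affine over S), and N
a submonoid of M such that N is finitely generated or X is quasi-compact over S. If the attractors
X^N and X^{N*} are represented by S-schemes Z_N and Z_* and j : Z_N → Z_* is the S-morphism
corresponding to the canonical map X^N → X^{N*} under the two representing bijections, then j is a
vector bundle, in the following Zariski-local sense: every point of Z_* has an affine open
neighbourhood W with a finitely generated projective module P over B = Γ(W, O) and an isomorphism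
j⁻¹(W) ≅ Spec Sym_B(P) over W. (Stated for schemes and for the local structure only; the published
statement is for algebraic spaces over S and says that X^N → X^{N*} is a vector bundle.) -/
theorem result (S : Scheme.{u}) (M : Type) [AddCommGroup M]
    [AddGroup.FG M] {X : Over S} [LocallyOfFinitePresentation X.hom] [Smooth X.hom]
    (a : Magnet.MonAct (Magnet.AMonS S M) X)
    (hlin : ∀ x : X.left, ∃ V : X.left.Opens, x ∈ V ∧ IsAffineHom (V.ι ≫ X.hom) ∧
      (CartesianMonoidalCategory.snd (Magnet.AMonS S M) X).left ⁻¹ᵁ V ≤ a.act.left ⁻¹ᵁ V)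
    (N : AddSubmonoid M) (hN : N.FG ∨ QuasiCompact X.hom) {ZN Z0 : Over S}
    (eN : (Magnet.attr a N).RepresentableBy ZN) (e0 : (Magnet.attr a (Magnet.unitFace N)).RepresentableBy Z0)
    (j : ZN ⟶ Z0) (hj : ∀ (T : Over S) (z : T ⟶ ZN),
      e0.homEquiv (z ≫ j) = (Magnet.attrFace a (Magnet.isFace_unitFace N)).app (op T) (eN.homEquiv z))
    (z : Z0.left) :
    ∃ (W : Z0.left.Opens) (hW : IsAffineOpen W), z ∈ W ∧
      ∃ (P : Type u) (_ : AddCommGroup P) (_ : Module Γ(Z0.left, W) P),
        Module.Finite Γ(Z0.left, W) P ∧ Module.Projective Γ(Z0.left, W) P ∧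
        ∃ e : (↑(j.left ⁻¹ᵁ W) : Scheme.{u}) ≅ Spec (CommRingCat.of (SymmetricAlgebra Γ(Z0.left, W) P)),
          e.hom ≫ Spec.map (CommRingCat.ofHom (algebraMap Γ(Z0.left, W) (SymmetricAlgebra Γ(Z0.left, W) P))) =
            (j.left ∣_ W) ≫ hW.isoSpec.hom := by
  let Q0 : Z0.left.Opens := (MdlA1.ev0 a e0).left ⁻¹ᵁ (hlin ((MdlA1.ev0 a e0).left z)).choose
  obtain ⟨hzV, hVaff, hVst⟩ := (hlin ((MdlA1.ev0 a e0).left z)).choose_spec
  set V := (hlin ((MdlA1.ev0 a e0).left z)).choose
  haveI : IsAffineHom (MdlA1.opOver V).hom := hVaff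
  haveI : IsSeparated (MdlA1.opOver V).hom := inferInstance
  obtain ⟨aV, hiV⟩ := MdlA1.exists_resAct a V hVst
  haveI hsrc : IsAffineHom (MdlA1.opOver (j.left ⁻¹ᵁ Q0)).hom :=
    MdlA1.isAffineHom_restrict a V hVst eN e0 j hj hiV
  -- the base is separated
  haveI hsepQ : IsSeparated (MdlA1.opOver Q0).hom := by
    obtain ⟨m, hm⟩ := MdlA1.exists_opLift V (MdlA1.opIncl Q0 ≫ MdlA1.ev0 a e0) fun t => t.2
    haveI : Mono (MdlA1.opIncl Q0 ≫ MdlA1.ev0 a e0) := MdlA1.mono_ev0_restrict a V hVst eN e0 j hj hiV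
    haveI : Mono m := by
      haveI : Mono (m ≫ MdlA1.opIncl V) := by rw [hm]; infer_instance
      exact mono_of_mono m (MdlA1.opIncl V)
    haveI : Mono m.left := (Over.forget S).map_mono m
    rw [← Over.w m]
    infer_instance
  haveI : IsAffineHom (j.left ∣_ Q0) := by
    haveI : IsAffineHom ((j.left ∣_ Q0) ≫ (MdlA1.opOver Q0).hom) := by
      show IsAffineHom ((j.left ∣_ Q0) ≫ Q0.ι ≫ Z0.hom)
      rw [← Category.assoc, morphismRestrict_ι, Category.assoc, Over.w j]
      exact hsrc
    exact IsAffineHom.of_comp (j.left ∣_ Q0) (MdlA1.opOver Q0).hom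
  obtain ⟨_, ⟨(W : Z0.left.Opens), hW, rfl⟩, hzW, hWQ⟩ :=
    Z0.left.isBasis_affineOpens.exists_subset_of_mem_open (show z ∈ (Q0 : Set Z0.left) from hzV) Q0.isOpen
  replace hW : IsAffineOpen W := hW
  have hpre : IsAffineOpen (j.left ⁻¹ᵁ W) := by
    have hW' : IsAffineOpen (Q0.ι ⁻¹ᵁ W) := hW.preimage_of_isOpenImmersion Q0.ι (by
      rw [Scheme.Opens.opensRange_ι]; exact hWQ)
    have h := (hW'.preimage (j.left ∣_ Q0)).image_of_isOpenImmersion (j.left ⁻¹ᵁ Q0).ι
    rwa [image_morphismRestrict_preimage, Scheme.Hom.image_preimage_eq_opensRange_inf, Scheme.Opens.opensRange_ι,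
      inf_eq_right.mpr (show W ≤ Q0 from hWQ)] at h
  refine ⟨W, hW, hzW, ?_⟩
  haveI : IsAffine W.toScheme := hW
  haveI : IsAffine (j.left ⁻¹ᵁ W).toScheme := hpre
  haveI : IsAffine (MdlA1.opOver W).left := hW
  haveI : IsAffine (MdlA1.opOver (j.left ⁻¹ᵁ W)).left := hpre
  let jW : MdlA1.opOver (j.left ⁻¹ᵁ W) ⟶ MdlA1.opOver W := Over.homMk (j.left ∣_ W) (by
    show (j.left ∣_ W) ≫ W.ι ≫ Z0.hom = (j.left ⁻¹ᵁ W).ι ≫ ZN.hom
    rw [← Category.assoc, morphismRestrict_ι, Category.assoc, Over.w j])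
  have hjW : jW ≫ MdlA1.opIncl W = MdlA1.opIncl _ ≫ j := Over.OverMorphism.ext (morphismRestrict_ι _ _)
  obtain ⟨sW, hsW⟩ := MdlA1.exists_opLift (j.left ⁻¹ᵁ W) (MdlA1.opIncl W ≫ MdlA1.sec a eN e0) fun t => by
    show ((MdlA1.opIncl W ≫ MdlA1.sec a eN e0) ≫ j).left t ∈ W
    rw [Category.assoc, MdlA1.sec_comp a eN e0 j hj, Category.comp_id]
    exact t.2
  have hsj : sW ≫ jW = 𝟙 _ := by
    rw [← cancel_mono (MdlA1.opIncl W), Category.assoc, hjW, ← Category.assoc, hsW, Category.assoc,
      MdlA1.sec_comp a eN e0 j hj, Category.comp_id, Category.id_comp]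
  obtain ⟨aU, hinv, hlim⟩ := MdlA1.exists_sharpAct a eN e0 j hj W
  obtain ⟨e, he1, he0⟩ := MdlA1.exists_zeroPt (S := S) N (MdlA1.opOver (j.left ⁻¹ᵁ W))
  haveI : Smooth j.left := S18241.result S M (Magnet.isFace_unitFace N) a eN e0 j hj
  haveI : Smooth jW.left := IsZariskiLocalAtTarget.restrict (P := @Smooth) ‹_› W
  have hsm : jW.left.appTop.hom.Smooth := (HasRingHomProperty.iff_of_isAffine (P := @Smooth)).mp inferInstance
  obtain ⟨g⟩ := MdlA1.exists_augGrading (MdlA1.sharpQ_sharp N) aU jW sW hsj (by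
      rw [← cancel_mono (MdlA1.opIncl W), Category.assoc, Category.assoc, hjW]
      exact hinv)
    e he1 he0 (by
      rw [← cancel_mono (MdlA1.opIncl _), Category.assoc, Category.assoc,
        hlim e (MdlA1.zeroPt_eq_facePt N e he1 he0), hsW, ← Category.assoc, hjW])
    (RingHom.FiniteType.of_finitePresentation hsm.finitePresentation)
  haveI : Smooth (j.left ∣_ W) := IsZariskiLocalAtTarget.restrict (P := @Smooth) ‹_› W
  exact MdlA1.exists_bundle hW (j.left ∣_ W) g

end Groth.Agent.S18245
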