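import Groth.Statements.S18257
import Groth.Agent.Div57.Units.Main

set_option autoImplicit false
set_option linter.style.haveILetI false
set_option backward.isDefEq.respectTransparency false
set_option backward.isDefEq.respectTransparency.types false
universe u
open UnitsSh

namespace Groth.Agent.S18257

open CategoryTheory CategoryTheory.Limits AlgebraicGeometry in
/-- In the case of the multiplicative group, for schemes and with Zariski cohomology of the sheaf of
units. Let A be a local ring with maximal ideal m, t a nonzero element of m with m·t = 0, and X' a
scheme flat over Spec A; let i : X ⟶ X' be the closed subscheme cut out by t (base change to A/(t))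
and X₀ the closed fibre (base change to the residue field). If H^{q+1}(X₀, O_{X₀}) = 0, then the map
H^q(X', O_{X'}^×) → H^q(X', i_* O_X^×) induced by the units map of i is surjective. (The published
statement covers any smooth commutative group scheme in place of the multiplicative group, with the
Lie algebra of its closed fibre in place of O_{X₀}, uses étale cohomology, and takes A Artinian;
this row allows any local ring A with t as stated.) -/
theorem result
    (A : Type u) [CommRing A] [IsLocalRing A]
    (t : A) (ht0 : t ≠ 0) (ht : t ∈ IsLocalRing.maximalIdeal A)
    (hmt : ∀ x ∈ IsLocalRing.maximalIdeal A, x * t = 0)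
    (X' : Scheme.{u}) [X'.Over (Spec (CommRingCat.of A))] [Flat (X' ↘ Spec (CommRingCat.of A))]
    (q : ℕ)
    (hvan : Subsingleton (Coh.HH
      (pullback (X' ↘ Spec (CommRingCat.of A)) (Spec.map (CommRingCat.ofHom (IsLocalRing.residue A))))
      (Coh.structureModule _) (q + 1))) :
    Function.Surjective (Sheaf.H.map (UnitsSh.comap
      (pullback.fst (X' ↘ Spec (CommRingCat.of A))
        (Spec.map (CommRingCat.ofHom (Ideal.Quotient.mk (Ideal.span ({t} : Set A))))))) q) := by
  let f := X' ↘ Spec (CommRingCat.of A)
  have htm : IsNilpotent t := ⟨2, by rw [pow_two]; exact hmt t ht⟩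
  have hq : Function.Surjective (Ideal.Quotient.mk (Ideal.span ({t} : Set A))) := Ideal.Quotient.mk_surjective
  have hs : Groth.Agent.Div57.Units.Small (Ideal.Quotient.mk (Ideal.span ({t} : Set A))) (RingHom.id A)
      (IsLocalRing.residue A) t :=
    Groth.Agent.Div57.Units.small_of_socle t _ hq _ Function.surjective_id Ideal.mk_ker ((RingHom.injective_iff_ker_eq_bot (RingHom.id _)).1 Function.injective_id) bot_le
      (Ideal.mem_span_singleton_self t) (by simpa using ht0) le_sup_right
      (fun x hx => by rw [mul_comm, hmt x hx]; exact Submodule.zero_mem _) ht htm
  refine Groth.Agent.Div57.Units.H_map_comap_surjective f _ hq ?_ q ?_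
  · rw [Ideal.mk_ker, Ideal.span_singleton_le_iff_mem]
    exact htm
  · exact Groth.Agent.Div57.Units.subsingleton_step f _ _ _ hs (q + 1)
      (Sheaf.subsingleton_H_of_isZero (Groth.Agent.Div57.Units.isZero_K1 f _ Function.surjective_id ((RingHom.injective_iff_ker_eq_bot (RingHom.id _)).1 Function.injective_id)) _) hvan

end Groth.Agent.S18257
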