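import Groth.Statements.S18258
import Groth.Agent.Div57.Units.Main

set_option autoImplicit false
set_option linter.style.haveILetI false
set_option backward.isDefEq.respectTransparency false
set_option backward.isDefEq.respectTransparency.types false
universe u
open UnitsSh

namespace Groth.Agent.S18258

open CategoryTheory CategoryTheory.Limits AlgebraicGeometry in
/-- In the case of the multiplicative group, for schemes and with Zariski cohomology of the sheaf of
units. Let k be a field, X₀ a k-scheme, X' = X₀ ×_k Spec k[ε] (k[ε] the dual numbers) and i : X ⟶ X'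
the closed subscheme ε = 0 (base change of X' along k[ε] → k, a copy of X₀). Then for every q the
kernel of the map H^q(X', O_{X'}^×) → H^q(X', i_* O_X^×) induced by the units map of i — the tangent
space at the origin of the functor A ↦ H^q(X₀ ⊗_k A, O^×) on local Artinian k-algebras — is
isomorphic, as an additive group, to H^q(X, O_X). (Existence of an isomorphism only. The published
statement covers any smooth commutative group scheme in place of the multiplicative group, with the
Lie algebra of its closed fibre in place of the structure sheaf, and uses étale cohomology.) -/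
theorem result
    (k : Type u) [Field k] (X₀ : Scheme.{u}) [X₀.Over (Spec (CommRingCat.of k))] (q : ℕ) :
    Nonempty ((Sheaf.H.map (UnitsSh.comap (pullback.fst (pullback.snd (X₀ ↘ Spec (CommRingCat.of k)) (Spec.map (CommRingCat.ofHom (algebraMap k (DualNumber k))))) (Spec.map (CommRingCat.ofHom (TrivSqZeroExt.fstHom k k k).toRingHom)))) q).ker ≃+
      Coh.HH (pullback (pullback.snd (X₀ ↘ Spec (CommRingCat.of k)) (Spec.map (CommRingCat.ofHom (algebraMap k (DualNumber k))))) (Spec.map (CommRingCat.ofHom (TrivSqZeroExt.fstHom k k k).toRingHom))) (Coh.structureModule (pullback (pullback.snd (X₀ ↘ Spec (CommRingCat.of k)) (Spec.map (CommRingCat.ofHom (algebraMap k (DualNumber k))))) (Spec.map (CommRingCat.ofHom (TrivSqZeroExt.fstHom k k k).toRingHom)))) q) := by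
  let f := pullback.snd (X₀ ↘ Spec (CommRingCat.of k)) (Spec.map (CommRingCat.ofHom (algebraMap k (DualNumber k))))
  haveI : Flat (X₀ ↘ Spec (CommRingCat.of k)) := inferInstance
  haveI : Flat f := MorphismProperty.pullback_snd _ _ inferInstance
  let fst' : DualNumber k →+* k := (TrivSqZeroExt.fstHom k k k).toRingHom
  have hsurj : Function.Surjective fst' := fun a => ⟨TrivSqZeroExt.inl a, rfl⟩
  have hker : ∀ x, x ∈ RingHom.ker fst' ↔ TrivSqZeroExt.fst x = 0 := fun x => RingHom.mem_ker
  have hsq : ∀ x ∈ RingHom.ker fst', x * x = 0 := fun x hx => by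
    rw [hker] at hx
    ext <;> simp [hx]
  have hnil : RingHom.ker fst' ≤ nilradical (DualNumber k) := fun x hx => ⟨2, by rw [pow_two]; exact hsq x hx⟩
  have hε : fst' DualNumber.eps = 0 := DualNumber.fst_eps
  have hs : Groth.Agent.Div57.Units.Small fst' (RingHom.id (DualNumber k)) fst' DualNumber.eps := by
    refine ⟨hsurj, Function.surjective_id, hsurj, (fun x hx => by
      rw [RingHom.mem_ker, RingHom.id_apply] at hx
      rw [hx]; exact Submodule.zero_mem _), hε, fun x hx => ?_, fun a => ?_,
      DualNumber.eps_mul_eps, ⟨2, by rw [pow_two]; exact DualNumber.eps_mul_eps⟩⟩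
    · refine Ideal.mem_sup_right (Ideal.mem_span_singleton.2 ⟨TrivSqZeroExt.inl (TrivSqZeroExt.snd x), ?_⟩)
      rw [hker] at hx
      ext <;> simp [hx]
    · rw [RingHom.mem_ker, RingHom.id_apply, hker]
      refine ⟨fun h => ?_, fun h => ?_⟩
      · simpa using congrArg TrivSqZeroExt.snd h
      · ext <;> simp [h]
  let i := Groth.Agent.Div57.Units.inc f fst'
  let str := X₀ ↘ Spec (CommRingCat.of k)
  let p := pullback.fst str (Spec.map (CommRingCat.ofHom (algebraMap k (DualNumber k))))
  have hcomp : Spec.map (CommRingCat.ofHom fst') ≫ Spec.map (CommRingCat.ofHom (algebraMap k (DualNumber k))) = 𝟙 _ := by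
    rw [← Spec.map_comp, ← Spec.map_id]
    congr 1
  let j : X₀ ⟶ pullback str (Spec.map (CommRingCat.ofHom (algebraMap k (DualNumber k)))) :=
    pullback.lift (𝟙 _) (str ≫ Spec.map (CommRingCat.ofHom fst'))
      (by rw [Category.assoc, hcomp, Category.id_comp, Category.comp_id])
  let s : pullback str (Spec.map (CommRingCat.ofHom (algebraMap k (DualNumber k)))) ⟶
      pullback f (Spec.map (CommRingCat.ofHom fst')) :=
    p ≫ pullback.lift j str (pullback.lift_snd _ _ _)
  have h2 : i ≫ f = pullback.snd f (Spec.map (CommRingCat.ofHom fst')) ≫ Spec.map (CommRingCat.ofHom fst') :=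
    pullback.condition
  have h1 : (i ≫ p) ≫ str = pullback.snd f (Spec.map (CommRingCat.ofHom fst')) := by
    rw [Category.assoc]
    erw [pullback.condition]
    rw [← Category.assoc]
    erw [h2]
    rw [Category.assoc, hcomp, Category.comp_id]
  have his : i ≫ s = 𝟙 _ := by
    apply pullback.hom_ext
    · rw [Category.id_comp]
      simp only [s, Category.assoc, pullback.lift_fst]
      apply pullback.hom_ext
      · simp only [j, Category.assoc]
        erw [pullback.lift_fst]
        simp only [Category.comp_id]
        rfl
      · simp only [j, Category.assoc]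
        erw [pullback.lift_snd]
        rw [← Category.assoc p, ← Category.assoc i, ← Category.assoc i, h1]
        exact pullback.condition.symm
    · rw [Category.id_comp]
      simp only [s, Category.assoc, pullback.lift_snd]
      rw [← Category.assoc]
      exact h1
  haveI : Surjective (Spec.map (CommRingCat.ofHom fst')) := ⟨fun x => by
    have hx : RingHom.ker fst' ≤ x.asIdeal := hnil.trans (nilradical_le_prime x.asIdeal)
    have := range_comap_of_surjective _ fst' hsurj
    exact (Set.ext_iff.1 this x).2 hx⟩
  haveI : Surjective i := MorphismProperty.pullback_fst (P := @Surjective) _ _ inferInstance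
  obtain ⟨σ, hσ⟩ := Groth.Agent.Div57.Units.exists_section i s his
  obtain ⟨e1⟩ := Groth.Agent.Div57.Units.nonempty_ker_equiv
    (Groth.Agent.Div57.Units.shortExact_units f fst' hsurj hnil) σ hσ q
  obtain ⟨e⟩ := Groth.Agent.Div57.Units.nonempty_iso_step f fst' _ fst' hs
    (Groth.Agent.Div57.Units.isZero_K1 f _ Function.surjective_id ((RingHom.injective_iff_ker_eq_bot (RingHom.id _)).1 Function.injective_id))
  obtain ⟨e2⟩ := Groth.Agent.Div57.Units.nonempty_H_equiv e q
  obtain ⟨e3⟩ := Groth.Agent.Div57.Units.nonempty_H_push₀ f fst' hsurj q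
  exact ⟨(e1.trans e2).trans e3.symm⟩

end Groth.Agent.S18258
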