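import Groth.Statements.S18265
import Mathlib.RingTheory.Polynomial.UniqueFactorization
import Mathlib.RingTheory.Localization.FractionRing
import Mathlib.RingTheory.Polynomial.RationalRoot

set_option autoImplicit false
universe u
open InvQ

namespace Groth.Agent.S18265

open W4c5pointsetsdelpezzo

/-- A subring of an integrally closed domain that contains every element `r` with `b * r = a` for
`a, b` in the subring (`b ≠ 0`) is integrally closed. -/
lemma isIntegrallyClosed_of_div {S R : Type*} [CommRing S] [IsDomain S] [CommRing R] [IsDomain R]
    [IsIntegrallyClosed R] (f : S →+* R) (hf : Function.Injective f)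
    (hdiv : ∀ (a b : S) (r : R), b ≠ 0 → r * f b = f a → ∃ c, f c = r) : IsIntegrallyClosed S := by
  rw [isIntegrallyClosed_iff (FractionRing S)]
  intro x hx
  let g : S →+* FractionRing R := (algebraMap R (FractionRing R)).comp f
  have hg : Function.Injective g := (IsFractionRing.injective R (FractionRing R)).comp hf
  let ι : FractionRing S →+* FractionRing R := IsFractionRing.lift hg
  have hι : ∀ s, ι (algebraMap S (FractionRing S) s) = g s := IsFractionRing.lift_algebraMap hg
  obtain ⟨p, hp, hp0⟩ := hx
  have hint : IsIntegral R (ι x) := by
    refine ⟨p.map f, hp.map f, ?_⟩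
    have h0 : ι (Polynomial.eval₂ (algebraMap S (FractionRing S)) x p) = 0 := by rw [hp0, map_zero]
    rw [Polynomial.hom_eval₂, show ι.comp (algebraMap S (FractionRing S)) = g from RingHom.ext hι] at h0
    rw [Polynomial.eval₂_map]
    exact h0
  obtain ⟨r, hr⟩ := IsIntegrallyClosed.isIntegral_iff.1 hint
  obtain ⟨a, b, hb, rfl⟩ := IsFractionRing.div_surjective (A := S) x
  have hb0 : b ≠ 0 := nonZeroDivisors.ne_zero hb
  have hgb : g b ≠ 0 := (map_ne_zero_iff g hg).2 hb0
  obtain ⟨c, hc⟩ := hdiv a b r hb0 (by
    apply IsFractionRing.injective R (FractionRing R)
    rw [map_mul, hr, map_div₀, hι, hι]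
    exact div_mul_cancel₀ (g a) hgb)
  refine ⟨c, ι.injective ?_⟩
  rw [hι, ← hr, ← hc]
  rfl

/-- Let k be an algebraically closed field and n, m natural numbers, and let R be the ring of polynomial
functions of m vectors of k^(n+1) invariant under the special linear group SL(n+1, k) acting on all
the vectors at once and under the rescalings of the individual vectors by units with product 1
(equivalently: invariant and homogeneous of one and the same degree in each vector) — the graded
ring of invariant sections whose Proj is the quotient variety of ordered m-point sets in projective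
n-space. Then R is integrally closed in its field of fractions; hence that quotient variety is
normal. (Only the normality assertion of the source's statement is given here; its dimension,
rationality and singular-locus assertions are not.) -/
theorem result (k : Type u) [Field k] [IsAlgClosed k] (n m : ℕ) :
    IsIntegrallyClosed (W4c5pointsetsdelpezzo.invRing k n m) := by
  refine isIntegrallyClosed_of_div (invRing k n m).val.toRingHom Subtype.val_injective ?_
  intro a b r hb hab
  refine ⟨⟨r, ?_⟩, rfl⟩
  have hb0 : (b : TupleRing k n m) ≠ 0 := fun h => hb (Subtype.ext h)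
  have key : ∀ σ : TupleRing k n m →ₐ[k] TupleRing k n m, σ a = a → σ b = b → σ r = r := by
    intro σ ha' hb'
    have := congrArg σ hab
    change σ (r * (b : TupleRing k n m)) = σ a at this
    rw [map_mul, hb', ha'] at this
    exact mul_right_cancel₀ hb0 (this.trans hab.symm)
  have ha := a.2
  have hb' := b.2
  simp only [invRing, Algebra.mem_inf, Algebra.mem_iInf, AlgHom.mem_equalizer, AlgHom.id_apply] at ha hb' ⊢
  exact ⟨fun g => key _ (ha.1 g) (hb'.1 g), fun s => key _ (ha.2 s) (hb'.2 s)⟩

end Groth.Agent.S18265
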