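import Groth.Statements.S18267
import Groth.Agent.S0220
import Groth.Agent.S2346
import Groth.Agent.SmoothReg.Scheme
import Groth.Agent.PnCoh.Chow.Proper
import Mathlib.AlgebraicGeometry.ZariskisMainTheorem

set_option autoImplicit false
set_option linter.style.haveILetI false
open CategoryTheory CategoryTheory.Limits AlgebraicGeometry
open ZCorr

namespace Groth.Agent.S18267

open Groth.Agent

universe u

theorem isProper_toBase (n : ℕ) (S : Scheme.{u}) : IsProper (CohB1.ProjSpaceOver.toBase n S) :=
  haveI := Groth.Agent.PnCoh.Chow.isProper_toSpec n (ULift.{u} ℤ)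
  (inferInstance : IsProper (pullback.snd (CohB1.ProjSpace.toSpec n (ULift.{u} ℤ))
    (specULiftZIsTerminal.from S)))

theorem normal_of_smooth_curve {k : Type u} [Field k] {Y : Scheme.{u}} (q : Y ⟶ Spec (CommRingCat.of k))
    [IsIntegral Y] [Smooth q] (hY : topologicalKrullDim Y = 1) (y : Y) :
    IsDomain (Y.presheaf.stalk y) ∧ IsIntegrallyClosed (Y.presheaf.stalk y) := by
  refine ⟨inferInstance, ?_⟩
  by_cases hc : IsClosed ({y} : Set Y)
  · have hs : y ∈ q.smoothLocus := by rw [q.smoothLocus_eq_top]; trivial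
    have hreg : IsRegularLocalRing (Y.presheaf.stalk y) :=
      SmoothReg.isRegularLocalRing_stalk_of_mem_smoothLocus q hs
    have hd : ringKrullDim (Y.presheaf.stalk y) = 1 :=
      (SmoothReg.ringKrullDim_stalk_closedPoint q hc).trans hY
    haveI : IsLocallyNoetherian Y := LocallyOfFiniteType.isLocallyNoetherian q
    haveI : IsDiscreteValuationRing (Y.presheaf.stalk y) := by
      refine IsLocalRing.finrank_CotangentSpace_eq_one_iff.mp ?_
      rw [IsRegularLocalRing.iff_finrank_cotangentSpace, hd] at hreg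
      exact_mod_cast hreg
    infer_instance
  · have h0 : VarDim.deg q y ≠ 0 := fun h => hc ((VarDim.closedPoint_iff_deg_eq_zero q y).2 h)
    have h1 : VarDim.deg q (genericPoint Y) = 1 := by
      exact_mod_cast (VarDim.topologicalKrullDim_eq_deg_genericPoint q).symm.trans hY
    have hy : genericPoint Y = y :=
      VarDim.eq_of_specializes_of_deg_le q (genericPoint_specializes y) (by omega)
    subst hy
    let : Field (Y.presheaf.stalk (genericPoint Y)) := inferInstanceAs (Field Y.functionField)
    infer_instance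

/-- Over the complex numbers, suppose C is a quasi-projective curve that is smooth and irreducible and X
is a projective variety that is smooth and irreducible; take Z to be an integral closed subscheme of
C × X of dimension one whose projection to C is surjective (a non-vertical irreducible component of
a correspondence from C to X). Then the projection Z → C is finite and flat. -/
theorem result
    (C X : Scheme.{0}) [C.Over (Spec (CommRingCat.of ℂ))] [X.Over (Spec (CommRingCat.of ℂ))]
    [AlgebraicGeometry.IsIntegral C] [Smooth (C ↘ Spec (CommRingCat.of ℂ))] (hC : RelProj.IsHQuasiProjective (C ↘ Spec (CommRingCat.of ℂ)))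
    (hdimC : topologicalKrullDim C = 1)
    [AlgebraicGeometry.IsIntegral X] [Smooth (X ↘ Spec (CommRingCat.of ℂ))] (hX : RelProj.IsHProjective (X ↘ Spec (CommRingCat.of ℂ)))
    {Z : Scheme.{0}} (i : Z ⟶ pullback (C ↘ Spec (CommRingCat.of ℂ)) (X ↘ Spec (CommRingCat.of ℂ))) [IsClosedImmersion i]
    [AlgebraicGeometry.IsIntegral Z] (hdimZ : topologicalKrullDim Z = 1)
    (hsurj : Function.Surjective ⇑(i ≫ pullback.fst (C ↘ Spec (CommRingCat.of ℂ)) (X ↘ Spec (CommRingCat.of ℂ)))) :
    IsFinite (i ≫ pullback.fst (C ↘ Spec (CommRingCat.of ℂ)) (X ↘ Spec (CommRingCat.of ℂ))) ∧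
      Flat (i ≫ pullback.fst (C ↘ Spec (CommRingCat.of ℂ)) (X ↘ Spec (CommRingCat.of ℂ))) := by
  let q := C ↘ Spec (CommRingCat.of ℂ)
  let f : Z ⟶ C := i ≫ pullback.fst (C ↘ Spec (CommRingCat.of ℂ)) (X ↘ Spec (CommRingCat.of ℂ))
  haveI : Smooth q := ‹Smooth (C ↘ Spec (CommRingCat.of ℂ))›
  obtain ⟨n, j, hj, hjq, hjC⟩ := hC
  obtain ⟨m, c, hc, hcX⟩ := hX
  haveI := isProper_toBase n (Spec (CommRingCat.of ℂ))
  haveI := isProper_toBase m (Spec (CommRingCat.of ℂ))
  haveI : IsProper (X ↘ Spec (CommRingCat.of ℂ)) := hcX ▸ (inferInstance : IsProper (c ≫ _))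
  haveI : IsSeparated q := show IsSeparated (C ↘ Spec (CommRingCat.of ℂ)) from hjC ▸ (inferInstance : IsSeparated (j ≫ _))
  haveI : QuasiCompact q := show QuasiCompact (C ↘ Spec (CommRingCat.of ℂ)) from hjC ▸ (inferInstance : QuasiCompact (j ≫ _))
  haveI : IsProper f := inferInstanceAs (IsProper (i ≫ pullback.fst (C ↘ Spec (CommRingCat.of ℂ)) (X ↘ Spec (CommRingCat.of ℂ))))
  let p := f ≫ q
  haveI : IsSeparated p := inferInstanceAs (IsSeparated (f ≫ q))
  haveI : LocallyOfFiniteType p := inferInstanceAs (LocallyOfFiniteType (f ≫ q))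
  haveI : QuasiCompact p := inferInstanceAs (QuasiCompact (f ≫ q))
  have hnt : (Set.range f.base).Nontrivial := by
    rw [show Set.range f.base = Set.univ from Set.range_eq_univ.2 hsurj, Set.nontrivial_univ_iff]
    by_contra h
    rw [not_nontrivial_iff_subsingleton] at h
    rw [VarDim.topologicalKrullDim_eq_deg_genericPoint q] at hdimC
    have : VarDim.deg q (genericPoint C) = 0 :=
      (VarDim.closedPoint_iff_deg_eq_zero q _).1 ((Set.subsingleton_of_subsingleton).isClosed)
    rw [this] at hdimC
    norm_num at hdimC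
  have hflat : Flat f :=
    S0220.result ℂ Z C p q hdimZ hdimC (normal_of_smooth_curve q hdimC) f rfl hnt
  refine ⟨?_, hflat⟩
  letI : Z.Over (Spec (CommRingCat.of ℂ)) := ⟨p⟩
  haveI : LocallyOfFiniteType (Z ↘ Spec (CommRingCat.of ℂ)) := inferInstanceAs (LocallyOfFiniteType p)
  haveI : QuasiCompact (Z ↘ Spec (CommRingCat.of ℂ)) := inferInstanceAs (QuasiCompact p)
  haveI : IsSeparated (Z ↘ Spec (CommRingCat.of ℂ)) := inferInstanceAs (IsSeparated p)
  haveI : Surjective f := ⟨hsurj⟩
  have hfin := (S2346.result ℂ Z C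
    (fun z hz => (SmoothReg.ringKrullDim_stalk_closedPoint p hz).trans hdimZ)
    (fun z hz => (SmoothReg.ringKrullDim_stalk_closedPoint q hz).trans hdimC) f rfl).1 inferInstance
  haveI : LocallyQuasiFinite f := LocallyQuasiFinite.of_finite_preimage_singleton f hfin
  exact IsFinite.of_isProper_of_locallyQuasiFinite f

end Groth.Agent.S18267
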