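import Groth.Statements.S18275
import Groth.Agent.ZBMove.Main
import Groth.Agent.LimMor.LocQP
import Groth.Agent.AmpleX.FiniteSet
import Groth.Agent.AmpleX.Separated
import Groth.Agent.GrpSchLib.SmoothRegular
import Groth.Agent.PnCoh.Chow.Proper

set_option autoImplicit false
open CategoryTheory CategoryTheory.Limits AlgebraicGeometry
open ZCorr

namespace Groth.Agent.S18275

/-- Over the complex numbers let W be a smooth irreducible projective variety, U ⊂ W a nonempty open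
subset and z a 0-cycle on W (dimension function induced from the base). Then z is rationally
equivalent to a 0-cycle supported in U. -/
theorem result
    (W : Scheme.{0}) [W.Over (Spec (CommRingCat.of ℂ))]
    [AlgebraicGeometry.IsIntegral W] [Smooth (W ↘ Spec (CommRingCat.of ℂ))] (hW : RelProj.IsHProjective (W ↘ Spec (CommRingCat.of ℂ)))
    (δ : W → ℤ) (hδ : Cyc.DeltaCompat (W ↘ Spec (CommRingCat.of ℂ)) δ (fun _ => 0))
    (U : W.Opens) (hU : (U : Set W).Nonempty)
    (z : AlgebraicCycle W ℤ) (hz : z ∈ Cyc.Zk W δ 0) :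
    ∃ z' : AlgebraicCycle W ℤ, z' ∈ Cyc.Zk W δ 0 ∧ (∀ w, z' w ≠ 0 → w ∈ U) ∧ Cyc.RatEquiv δ 0 z z' := by
  haveI hP : ∀ n, IsProper (CohB1.ProjSpaceOver.toBase n (Spec (CommRingCat.of ℂ))) := fun n =>
    haveI := Groth.Agent.PnCoh.Chow.isProper_toSpec n (ULift.{0} ℤ)
    (inferInstance : IsProper (pullback.snd (CohB1.ProjSpace.toSpec n (ULift.{0} ℤ))
      (specULiftZIsTerminal.from _)))
  obtain ⟨m, c, hc, hcX⟩ := hW
  haveI : IsProper (W ↘ Spec (CommRingCat.of ℂ)) := hcX ▸ (inferInstance : IsProper (c ≫ _))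
  haveI : CompactSpace W := QuasiCompact.compactSpace_of_compactSpace (W ↘ Spec (CommRingCat.of ℂ))
  have hqp : RelProj.IsQuasiProjective (W ↘ Spec (CommRingCat.of ℂ)) :=
    Groth.Agent.LimMor.isQuasiProjective_of_isHQuasiProjective ⟨m, c, inferInstance, inferInstance, hcX⟩
  refine Groth.Agent.ZBMove.exists_ratEquiv_supported (W ↘ Spec (CommRingCat.of ℂ)) hδ U hU (fun T _ => ?_)
    (fun w _ => Groth.Agent.GrpSchLib.isRegularLocalRing_stalk_of_smooth (W ↘ Spec (CommRingCat.of ℂ)) w) z hz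
  obtain ⟨-, -, L, -, hL⟩ := hqp
  let S : (Spec (CommRingCat.of ℂ)).affineOpens := ⟨⊤, isAffineOpen_top _⟩
  let O := (W ↘ Spec (CommRingCat.of ℂ)) ⁻¹ᵁ S.1
  have hL' := hL S
  have : O.toScheme.IsSeparated := Groth.Agent.AmpleX.isSeparated_of_isAmple hL'
  obtain ⟨n, s, hs, -, haff⟩ := Groth.Agent.AmpleX.exists_finite_nhd hL' (Z := O.ι ⁻¹' (T : Set W))
    (T.finite_toSet.preimage O.ι.isOpenEmbedding.injective.injOn) (U := ⊤) (by simp)
  exact ⟨O.ι ''ᵁ CohB1.genLocus _ s, haff.image_of_isOpenImmersion O.ι,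
    fun z hz => ⟨⟨z, trivial⟩, hs (show O.ι ⟨z, trivial⟩ ∈ (T : Set W) from hz), rfl⟩⟩

end Groth.Agent.S18275
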