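import Groth.Statements.S18281
import Groth.Agent.S10860
import Groth.Agent.FlatLocus.Basic
import Groth.Agent.VarDim.Top
import Groth.Agent.VarDim.Fibre
import Groth.Agent.PnCoh.Chow.Proper

set_option autoImplicit false
open CategoryTheory CategoryTheory.Limits AlgebraicGeometry
open ZCorr

namespace Groth.Agent.S18281

/-- Over the complex numbers let W be a smooth irreducible quasi-projective variety of dimension n, X a
smooth irreducible projective variety, and Z an integral closed subscheme of X × W of dimension n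
(an irreducible component of a correspondence from W to X), with projection π : Z → W. (a) The set
of points of W over which π is flat (flat at every point of the fibre) is open and nonempty. (b) The
set U of points of W with finite fibre is open and nonempty, and π restricted over U is finite. -/
theorem result
    (W X : Scheme.{0}) [W.Over (Spec (CommRingCat.of ℂ))] [X.Over (Spec (CommRingCat.of ℂ))]
    [AlgebraicGeometry.IsIntegral W] [Smooth (W ↘ Spec (CommRingCat.of ℂ))] (hW : RelProj.IsHQuasiProjective (W ↘ Spec (CommRingCat.of ℂ)))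
    (n : ℕ) (hdimW : topologicalKrullDim W = n)
    [AlgebraicGeometry.IsIntegral X] [Smooth (X ↘ Spec (CommRingCat.of ℂ))] (hX : RelProj.IsHProjective (X ↘ Spec (CommRingCat.of ℂ)))
    {Z : Scheme.{0}} (i : Z ⟶ pullback (X ↘ Spec (CommRingCat.of ℂ)) (W ↘ Spec (CommRingCat.of ℂ))) [IsClosedImmersion i]
    [AlgebraicGeometry.IsIntegral Z] (hdimZ : topologicalKrullDim Z = n) :
    (IsOpen {w : W | ∀ z : Z, (i ≫ pullback.snd (X ↘ Spec (CommRingCat.of ℂ)) (W ↘ Spec (CommRingCat.of ℂ))) z = w →
        ((i ≫ pullback.snd (X ↘ Spec (CommRingCat.of ℂ)) (W ↘ Spec (CommRingCat.of ℂ))).stalkMap z).hom.Flat} ∧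
      {w : W | ∀ z : Z, (i ≫ pullback.snd (X ↘ Spec (CommRingCat.of ℂ)) (W ↘ Spec (CommRingCat.of ℂ))) z = w →
        ((i ≫ pullback.snd (X ↘ Spec (CommRingCat.of ℂ)) (W ↘ Spec (CommRingCat.of ℂ))).stalkMap z).hom.Flat}.Nonempty) ∧
    ∃ U : W.Opens, (U : Set W) = {w : W | ((i ≫ pullback.snd (X ↘ Spec (CommRingCat.of ℂ)) (W ↘ Spec (CommRingCat.of ℂ))) ⁻¹' {w}).Finite} ∧
      (U : Set W).Nonempty ∧ IsFinite ((i ≫ pullback.snd (X ↘ Spec (CommRingCat.of ℂ)) (W ↘ Spec (CommRingCat.of ℂ))) ∣_ U) := by
  obtain ⟨m, c, hc, hcX⟩ := hX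
  haveI hP : ∀ n, IsProper (CohB1.ProjSpaceOver.toBase n (Spec (CommRingCat.of ℂ))) := fun n =>
    haveI := Groth.Agent.PnCoh.Chow.isProper_toSpec n (ULift.{0} ℤ)
    (inferInstance : IsProper (pullback.snd (CohB1.ProjSpace.toSpec n (ULift.{0} ℤ))
      (specULiftZIsTerminal.from _)))
  haveI : IsProper (X ↘ Spec (CommRingCat.of ℂ)) := hcX ▸ (inferInstance : IsProper (c ≫ _))
  let q := W ↘ Spec (CommRingCat.of ℂ)
  let π := i ≫ pullback.snd (X ↘ Spec (CommRingCat.of ℂ)) q
  haveI : IsProper π := inferInstance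
  haveI : IsLocallyNoetherian W := LocallyOfFiniteType.isLocallyNoetherian q
  haveI : LocallyOfFinitePresentation π := LocallyOfFinitePresentation.iff_locallyOfFiniteType.2 inferInstance
  haveI : LocallyOfFiniteType (π ≫ q) := inferInstance
  have hnW : VarDim.deg q (genericPoint W) = n := by
    have h := (VarDim.topologicalKrullDim_eq_deg_genericPoint q).symm.trans hdimW
    exact_mod_cast h
  have hnZ : VarDim.deg (π ≫ q) (genericPoint Z) = n := by
    have h := (VarDim.topologicalKrullDim_eq_deg_genericPoint (π ≫ q)).symm.trans hdimZ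
    exact_mod_cast h
  have hfib : ∀ z : Z, π z = genericPoint W → z = genericPoint Z := by
    intro z hz
    by_contra hne
    have h1 := VarDim.deg_strictMono (π ≫ q) (a := z) (b := genericPoint Z) (lt_iff_le_not_ge.2
      ⟨genericPoint_specializes z, fun h => hne ((show z ⤳ genericPoint Z from h).antisymm (genericPoint_specializes z)).eq⟩)
    rw [hnZ, VarDim.deg_comp_eq, hz, hnW] at h1
    omega
  refine ⟨⟨?_, ⟨genericPoint W, fun z hz => ?_⟩⟩, ?_⟩
  · have hset : {w : W | ∀ z : Z, π z = w → (π.stalkMap z).hom.Flat} =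
        (π '' {z : Z | (π.stalkMap z).hom.Flat}ᶜ)ᶜ := by
      ext w
      simp only [Set.mem_compl_iff, Set.mem_image, Set.mem_ofPred_eq, not_exists, not_and]
      exact ⟨fun h z hz he => hz (h z he), fun h z he => by_contra fun hz => h z hz he⟩
    rw [hset]
    exact (π.isClosedMap _ (Groth.Agent.FlatLocus.isOpen_flat_locus π).isClosed_compl).isOpen_compl
  · have hF : IsField (W.presheaf.stalk (π z)) := by
      rw [hz]
      exact Field.toIsField W.functionField
    letI := hF.toField
    letI := (π.stalkMap z).hom.toAlgebra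
    exact (inferInstance : Module.Flat (W.presheaf.stalk (π z)) (Z.presheaf.stalk z))
  · obtain ⟨U, hU, hfin⟩ := Groth.Agent.S10860.result π
    refine ⟨U, hU, ⟨genericPoint W, ?_⟩, hfin⟩
    rw [hU]
    exact (Set.finite_singleton (genericPoint Z)).subset fun z hz => hfib z hz

end Groth.Agent.S18281
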