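import Groth.Statements.S18318
import Groth.Agent.SchTorsor.Point
import Groth.Agent.EtFound.Descent
import Groth.Agent.NonAbLib.TorsorSch
import Mathlib.FieldTheory.PurelyInseparable.Exponent
import Mathlib.AlgebraicGeometry.Morphisms.FlatRank

set_option autoImplicit false
universe u
open CategoryTheory AlgebraicGeometry
open NonAbH1 CategoryTheory.Limits MonoidalCategory CartesianMonoidalCategory

namespace Groth.Agent.S18318

theorem exponent_le (K L : Type*) [Field K] [Field L] [Algebra K L] [IsPurelyInseparable K L]
    [FiniteDimensional K L] (p : ℕ) [hp : ExpChar K p] {d : ℕ} (hd : Module.finrank K L ≤ d) :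
    IsPurelyInseparable.exponent K L ≤ d := by
  by_contra! h
  obtain ⟨a, ha⟩ := IsPurelyInseparable.exponent_min' p h
  have h1 := IsPurelyInseparable.elemExponent_def' K p a
  have h3 := IsPurelyInseparable.minpoly_natDegree_eq' K p a
  rcases hp with _ | ⟨hprime⟩
  · simp only [one_pow] at ha h1
    exact ha h1
  have h2 : IsPurelyInseparable.elemExponent K a < p ^ IsPurelyInseparable.elemExponent K a :=
    Nat.lt_pow_self hprime.one_lt
  have h4 : (minpoly K a).natDegree ≤ Module.finrank K L := minpoly.natDegree_le a
  have h5 : IsPurelyInseparable.elemExponent K a + (d - IsPurelyInseparable.elemExponent K a) = d := by omega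
  obtain ⟨y, hy⟩ := h1
  exact ha ⟨y ^ p ^ (d - IsPurelyInseparable.elemExponent K a), by rw [map_pow, hy, ← pow_mul, ← pow_add, h5]⟩

/-- Let K be a field of exponential characteristic p and G a finite connected K-group scheme. Then there
is an integer n ≥ 0 such that every G-torsor X over Spec K for the fppf topology (simply transitive
action, a section over the members of some fppf covering) becomes trivial over the purely
inseparable extension K^{1/p^n} of K: equivalently, X admits a K-morphism from Spec K regarded as a
K-scheme through the n-th iterate x ↦ x^(p^n) of the Frobenius endomorphism of K. The source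
moreover bounds n by p^n ≤ (#G)!; only the existence of a uniform n is stated here. In particular (p
= 1, characteristic zero) every such torsor is trivial. -/
theorem result (K : Type u) [Field K]
    (p : ℕ) [ExpChar K p] (G : Over (Spec (CommRingCat.of K))) [GrpObj G] [IsFinite G.hom] [ConnectedSpace G.left] :
    ∃ n : ℕ, ∀ (X : Over (Spec (CommRingCat.of K))) (a : AlgGrp.Action G X), NonAbH1.IsTorsorFor Scheme.fppfPrecoverage a →
      NonAbH1.HasSectionOver X (Spec.map (CommRingCat.ofHom (iterateFrobenius K p n))) := by
  let pt : ↥(Spec (CommRingCat.of K)) := IsLocalRing.closedPoint K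
  refine ⟨G.hom.finrank pt, fun X a ha => ?_⟩
  have ha' := NonAbLib.torsor_mono NonAbLib.fppf_le_fpqc ha
  have : IsZariskiLocalAtTarget (@IsFinite : MorphismProperty Scheme.{u}) :=
    by set_option backward.isDefEq.respectTransparency.types false in infer_instance
  have := EtFound.fpqc_isFinite.{u}
  have : IsFinite X.hom := SchTorsor.torsor_property @IsFinite ha' inferInstance
  have : Surjective X.hom := SchTorsor.surjective_hom ha'
  have := SchTorsor.universallyInjective_hom ha'
  have : IsAffine X.left := isAffine_of_isAffineHom X.hom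
  obtain ⟨φ, hφ⟩ := Spec.map_surjective (X.left.isoSpec.inv ≫ X.hom)
  algebraize [φ.hom]
  have : IsFinite (Spec.map φ) := by rw [hφ]; infer_instance
  have : Module.Finite K Γ(X.left, ⊤) := (IsFinite.SpecMap_iff φ).mp inferInstance
  obtain ⟨x, -⟩ := X.hom.surjective pt
  obtain ⟨m, hm⟩ : ∃ m : Ideal Γ(X.left, ⊤), m.IsMaximal := by
    have : Nontrivial Γ(X.left, ⊤) :=
      PrimeSpectrum.nonempty_iff_nontrivial.1 ⟨(X.left.isoSpec.hom x : PrimeSpectrum Γ(X.left, ⊤))⟩
    exact Ideal.exists_maximal _
  let : Field (Γ(X.left, ⊤) ⧸ m) := Ideal.Quotient.field m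
  let L := Γ(X.left, ⊤) ⧸ m
  let q : Spec (CommRingCat.of L) ⟶ X.left :=
    Spec.map (CommRingCat.ofHom (Ideal.Quotient.mk m)) ≫ X.left.isoSpec.inv
  let π : Spec (CommRingCat.of L) ⟶ Spec (CommRingCat.of K) := Spec.map (CommRingCat.ofHom (algebraMap K L))
  have hq : q ≫ X.hom = π := by
    rw [Category.assoc, ← hφ, ← Spec.map_comp]
    rfl
  have : IsClosedImmersion (Spec.map (CommRingCat.ofHom (Ideal.Quotient.mk m))) :=
    IsClosedImmersion.spec_of_surjective _ Ideal.Quotient.mk_surjective
  have : IsPurelyInseparable K L := by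
    rw [isPurelyInseparable_iff_subsingleton_emb]
    refine ⟨fun f g => ?_⟩
    have hinj := ((tfae_universallyInjective X.hom).out 0 1 rfl rfl).1 inferInstance (AlgebraicClosure L)
    have hcomp : ∀ f : L →ₐ[K] AlgebraicClosure L, (Spec.map (CommRingCat.ofHom f.toRingHom) ≫ q) ≫ X.hom =
        Spec.map (CommRingCat.ofHom (algebraMap K (AlgebraicClosure L))) := fun f => by
      rw [Category.assoc, hq, ← Spec.map_comp]
      congr 1
      ext c
      exact f.commutes c
    have h := hinj ((hcomp f).trans (hcomp g).symm)
    exact AlgHom.coe_ringHom_injective (congrArg CommRingCat.Hom.hom (Spec.map_injective ((cancel_mono q).1 h)))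
  have hd : Module.finrank K L ≤ G.hom.finrank pt := by
    refine ((Ideal.Quotient.mkₐ K m).toLinearMap.finrank_le_finrank_of_surjective
      Ideal.Quotient.mk_surjective).trans (le_of_eq ?_)
    have h1 : (Spec.map φ).finrank pt = Module.finrank K Γ(X.left, ⊤) :=
      (Scheme.Hom.finrank_SpecMap_algebraMap K Γ(X.left, ⊤) pt).trans
        (congrFun Module.rankAtStalk_eq_finrank_of_free _)
    rw [← h1, hφ, Scheme.Hom.finrank_comp_left_of_isIso]
    let σ : Over.mk π ⟶ X := Over.homMk q hq
    let e := lift ((G ◁ σ) ≫ a.act) (snd G (Over.mk π))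
    have : IsIso e := SchTorsor.isIso_of_section ha.1 σ
    have : IsIso e.left := (Over.forget _).map_isIso e
    have h2 : e.left ≫ pullback.snd X.hom π = pullback.snd G.hom π :=
      congrArg CommaMorphism.left (show e ≫ snd X (Over.mk π) = snd G (Over.mk π) from lift_snd _ _)
    let t : ↥(Spec (CommRingCat.of L)) := IsLocalRing.closedPoint L
    have ht : π t = pt := Subsingleton.elim _ _
    rw [← ht, ← Scheme.Hom.finrank_pullback_snd, ← Scheme.Hom.finrank_pullback_snd, ← h2]
    exact (congrFun (Scheme.Hom.finrank_comp_left_of_isIso e.left (pullback.snd X.hom π)) t).symm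
  refine ⟨Spec.map (CommRingCat.ofHom (IsPurelyInseparable.iterateFrobenius K L p (exponent_le K L p hd))) ≫ q, ?_⟩
  rw [Category.assoc, hq, ← Spec.map_comp]
  congr 1
  refine CommRingCat.hom_ext (RingHom.ext fun c => ?_)
  show IsPurelyInseparable.iterateFrobenius K L p (exponent_le K L p hd) (algebraMap K L c) = iterateFrobenius K p _ c
  rw [IsPurelyInseparable.iterateFrobenius_algebraMap L p (exponent_le K L p hd) c, iterateFrobenius_def]

end Groth.Agent.S18318
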