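import Groth.Statements.S18364
import Mathlib
import Groth.Agent.CAlgSmall.Modification

set_option autoImplicit false
universe u
open CAlg

namespace Groth.Agent.S18364

/-- Let A be a Noetherian ring, π an element of A, and (𝔓_i)_{i ∈ ι} an injective finite family listing
exactly the minimal prime ideals over (π). Let M be a finitely generated A-module and M̄ = M/πM. For
a subset T of ι let K(T) ⊆ M̄ be the submodule of elements whose image in the localisation of M̄ at
𝔓_i is zero for every i ∈ T, and N(T) ⊆ M its preimage in M. Assume K(ι) = 0, i.e. no nonzero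
element of M̄ vanishes at all the minimal primes (every associated prime of M̄ is one of the 𝔓_i).
Then for every subset Y of ι with complement Z one has N(Y) ∩ N(Z) = πM, and the same construction
applied to the module N(Y) instead of M — the preimage in N(Y) of the elements of N(Y)/πN(Y)
vanishing at every 𝔓_i with i ∈ Z — is, as a submodule of M, equal to N(Y) ∩ N(Z). (Geometric
meaning: A is the local ring of a flat family of curves over a discrete valuation ring with
uniformizer π at a point of the reduced special fibre, M the stalk of a torsion-free rank-one sheaf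
I, Y a set of components of the special fibre through the point, and N(Y) the stalk of the kernel
I^Y of I → I(s)_Y; the statement is (I^Y)^Z = I^Y ∩ I^Z = πI. Reducedness of A/πA, flatness and rank
one are not used.) -/
theorem result
    (A : Type u) [CommRing A] [IsNoetherianRing A] (π : A)
    (ι : Type) [Finite ι] (𝔓 : ι → Ideal A) [∀ i, (𝔓 i).IsPrime]
    (h𝔓 : ∀ i, 𝔓 i ∈ (Ideal.span {π}).minimalPrimes) (h𝔓inj : Function.Injective 𝔓)
    (h𝔓surj : ∀ 𝔔 ∈ (Ideal.span {π}).minimalPrimes, ∃ i, 𝔓 i = 𝔔)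
    (M : Type u) [AddCommGroup M] [Module A M] [Module.Finite A M]
    (K : Set ι → Submodule A (M ⧸ Ideal.span {π} • (⊤ : Submodule A M)))
    (hK : ∀ T : Set ι, K T = ⨅ i ∈ T, LinearMap.ker
      (LocalizedModule.mkLinearMap (𝔓 i).primeCompl (M ⧸ Ideal.span {π} • (⊤ : Submodule A M))))
    (htf : K Set.univ = ⊥)
    (N : Set ι → Submodule A M)
    (hN : ∀ T : Set ι, N T = (K T).comap (Submodule.mkQ (Ideal.span {π} • (⊤ : Submodule A M))))
    (Y : Set ι) :
    N Y ⊓ N Yᶜ = Ideal.span {π} • (⊤ : Submodule A M) ∧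
    Submodule.map (N Y).subtype
      ((⨅ i ∈ Yᶜ, LinearMap.ker (LocalizedModule.mkLinearMap (𝔓 i).primeCompl
          (↥(N Y) ⧸ Ideal.span {π} • (⊤ : Submodule A ↥(N Y))))).comap
        (Submodule.mkQ (Ideal.span {π} • (⊤ : Submodule A ↥(N Y)))))
      = N Y ⊓ N Yᶜ := by
  classical
  have hKmem : ∀ (T : Set ι) (m : M ⧸ (Ideal.span {π} • (⊤ : Submodule A M))), m ∈ K T ↔ ∀ i ∈ T, ∃ t : A, t ∉ 𝔓 i ∧ t • m = 0 := by
    intro T m
    simp only [hK, Submodule.mem_iInf, CAlgSmall.mem_ker_mkLinearMap_iff]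
  have hNmem : ∀ (T : Set ι) (m : M), m ∈ N T ↔ ∀ i ∈ T, ∃ t : A, t ∉ 𝔓 i ∧ t • m ∈ (Ideal.span {π} • (⊤ : Submodule A M)) := by
    intro T m
    rw [hN, Submodule.mem_comap, hKmem]
    simp only [Submodule.mkQ_apply, ← Submodule.Quotient.mk_smul, Submodule.Quotient.mk_eq_zero]
  refine ⟨le_antisymm ?_ ?_, ?_⟩
  · rintro m ⟨h1, h2⟩
    rw [← Submodule.Quotient.mk_eq_zero (Ideal.span {π} • (⊤ : Submodule A M)), ← Submodule.mem_bot A, ← htf, hKmem]
    intro i _
    rcases Classical.em (i ∈ Y) with hi | hi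
    · obtain ⟨t, ht, htm⟩ := (hNmem Y m).mp h1 i hi
      exact ⟨t, ht, by rwa [← Submodule.Quotient.mk_smul, Submodule.Quotient.mk_eq_zero]⟩
    · obtain ⟨t, ht, htm⟩ := (hNmem Yᶜ m).mp h2 i hi
      exact ⟨t, ht, by rwa [← Submodule.Quotient.mk_smul, Submodule.Quotient.mk_eq_zero]⟩
  · intro m hm
    exact ⟨(hNmem Y m).mpr fun i _ => ⟨1, fun h => Ideal.IsPrime.ne_top (I := 𝔓 i) inferInstance
        ((Ideal.eq_top_iff_one _).mpr h), by rwa [one_smul]⟩,
      (hNmem Yᶜ m).mpr fun i _ => ⟨1, fun h => Ideal.IsPrime.ne_top (I := 𝔓 i) inferInstance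
        ((Ideal.eq_top_iff_one _).mpr h), by rwa [one_smul]⟩⟩
  · ext m
    simp only [Submodule.mem_map, Submodule.mem_comap, Submodule.mem_iInf,
      CAlgSmall.mem_ker_mkLinearMap_iff, Submodule.mkQ_apply, ← Submodule.Quotient.mk_smul,
      Submodule.Quotient.mk_eq_zero, Submodule.subtype_apply]
    constructor
    · rintro ⟨⟨m, hmY⟩, hm, rfl⟩
      refine ⟨hmY, (hNmem Yᶜ m).mpr fun i hi => ?_⟩
      obtain ⟨t, ht, htm⟩ := hm i hi
      refine ⟨t, ht, ?_⟩
      obtain ⟨z, -, hz⟩ := CAlgSmall.mem_span_singleton_smul_top.mp htm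
      exact CAlgSmall.mem_span_singleton_smul_top.mpr ⟨z, trivial, congrArg Subtype.val hz⟩
    · rintro ⟨hmY, hmZ⟩
      refine ⟨⟨m, hmY⟩, fun i hi => ?_, rfl⟩
      obtain ⟨t, ht, htm⟩ := (hNmem Yᶜ m).mp hmZ i hi
      obtain ⟨z, -, hz⟩ := CAlgSmall.mem_span_singleton_smul_top.mp htm
      obtain ⟨s, hs, hsY⟩ := CAlgSmall.exists_scalar (M := M) h𝔓 h𝔓inj (i := i) (Y := Y) hi
      have hsz : s • z ∈ N Y := (hNmem Y _).mpr fun j hj => by
        obtain ⟨t', ht', h'⟩ := hsY j hj
        exact ⟨t', ht', h' z⟩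
      refine ⟨s * t, Ideal.IsPrime.mul_notMem inferInstance hs ht,
        CAlgSmall.mem_span_singleton_smul_top.mpr ⟨⟨s • z, hsz⟩, trivial, Subtype.ext ?_⟩⟩
      show π • s • z = (s * t) • m
      rw [mul_smul, ← hz, smul_comm]

end Groth.Agent.S18364
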