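import Groth.Statements.S18365
import Mathlib
import Groth.Agent.CAlgSmall.Modification

set_option autoImplicit false
universe u
open CAlg

namespace Groth.Agent.S18365

/-- Let A be a Noetherian ring, π an element of A, (𝔓_i)_{i ∈ ι} an injective finite family listing
exactly the minimal prime ideals over (π), and M a finitely generated A-module on which π acts
injectively; put M̄ = M/πM. For T ⊆ ι let K(T) ⊆ M̄ be the submodule of elements whose image in the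
localisation of M̄ at 𝔓_i vanishes for every i ∈ T, and N(T) ⊆ M its preimage; assume K(ι) = 0.
Suppose that M̄ decomposes at Y, i.e. K(Y) + K(Yᶜ) = M̄, and that for a subset Z the module
N(Y)/πN(Y) decomposes at Z, i.e. its submodule of elements vanishing at every 𝔓_i (i ∈ Z) and its
submodule of elements vanishing at every 𝔓_i (i ∉ Z) together span it. Then M̄ decomposes at Z: K(Z)
+ K(Zᶜ) = M̄. (Geometric meaning: for a flat family of curves over a discrete valuation ring with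
uniformizer π, I a torsion-free rank-one sheaf flat over the base, Y a subcurve of the special fibre
X(s) at which I(s) decomposes and I^Y = ker(I → I(s)_Y): if I^Y(s) decomposes at a subcurve Z then
so does I(s); decomposition of a sheaf at Z is the surjectivity of I(s) → I(s)_Z ⊕ I(s)_{Z^c},
checked on stalks. Reducedness of the special fibre and rank one are not used.) -/
theorem result
    (A : Type u) [CommRing A] [IsNoetherianRing A] (π : A)
    (ι : Type) [Finite ι] (𝔓 : ι → Ideal A) [∀ i, (𝔓 i).IsPrime]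
    (h𝔓 : ∀ i, 𝔓 i ∈ (Ideal.span {π}).minimalPrimes) (h𝔓inj : Function.Injective 𝔓)
    (h𝔓surj : ∀ 𝔔 ∈ (Ideal.span {π}).minimalPrimes, ∃ i, 𝔓 i = 𝔔)
    (M : Type u) [AddCommGroup M] [Module A M] [Module.Finite A M]
    (hπ : ∀ m : M, π • m = 0 → m = 0)
    (K : Set ι → Submodule A (M ⧸ Ideal.span {π} • (⊤ : Submodule A M)))
    (hK : ∀ T : Set ι, K T = ⨅ i ∈ T, LinearMap.ker
      (LocalizedModule.mkLinearMap (𝔓 i).primeCompl (M ⧸ Ideal.span {π} • (⊤ : Submodule A M))))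
    (htf : K Set.univ = ⊥)
    (N : Set ι → Submodule A M)
    (hN : ∀ T : Set ι, N T = (K T).comap (Submodule.mkQ (Ideal.span {π} • (⊤ : Submodule A M))))
    (Y Z : Set ι) (hY : K Y ⊔ K Yᶜ = ⊤)
    (K' : Set ι → Submodule A (↥(N Y) ⧸ Ideal.span {π} • (⊤ : Submodule A ↥(N Y))))
    (hK' : ∀ T : Set ι, K' T = ⨅ i ∈ T, LinearMap.ker
      (LocalizedModule.mkLinearMap (𝔓 i).primeCompl (↥(N Y) ⧸ Ideal.span {π} • (⊤ : Submodule A ↥(N Y)))))
    (hZ : K' Z ⊔ K' Zᶜ = ⊤) :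
    K Z ⊔ K Zᶜ = ⊤ := by
  classical
  have hKmem : ∀ (T : Set ι) (m : M ⧸ (Ideal.span {π} • (⊤ : Submodule A M))), m ∈ K T ↔ ∀ i ∈ T, ∃ t : A, t ∉ 𝔓 i ∧ t • m = 0 := by
    intro T m
    simp only [hK, Submodule.mem_iInf, CAlgSmall.mem_ker_mkLinearMap_iff]
  have hK'mem : ∀ (T : Set ι) (m : ↥(N Y) ⧸ (Ideal.span {π} • (⊤ : Submodule A ↥(N Y)))), m ∈ K' T ↔ ∀ i ∈ T, ∃ t : A, t ∉ 𝔓 i ∧ t • m = 0 := by
    intro T m
    simp only [hK', Submodule.mem_iInf, CAlgSmall.mem_ker_mkLinearMap_iff]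
  let Φ : (↥(N Y) ⧸ (Ideal.span {π} • (⊤ : Submodule A ↥(N Y)))) →ₗ[A] M ⧸ (Ideal.span {π} • (⊤ : Submodule A M)) := Submodule.mapQ (Ideal.span {π} • (⊤ : Submodule A ↥(N Y))) (Ideal.span {π} • (⊤ : Submodule A M)) (N Y).subtype (by
    intro x hx
    obtain ⟨z, -, hz⟩ := CAlgSmall.mem_span_singleton_smul_top.mp hx
    exact CAlgSmall.mem_span_singleton_smul_top.mpr ⟨(z : M), trivial, congrArg Subtype.val hz⟩)
  have hΦ : ∀ T : Set ι, ∀ u ∈ K' T, Φ u ∈ K T := fun T u hu => (hKmem T _).mpr fun i hi => by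
    obtain ⟨t, ht, htu⟩ := (hK'mem T u).mp hu i hi
    exact ⟨t, ht, by rw [← map_smul, htu, map_zero]⟩
  have hdisj : ∀ (T : Set ι) (u : M ⧸ (Ideal.span {π} • (⊤ : Submodule A M))), u ∈ K T → u ∈ K Tᶜ → u = 0 := fun T u h1 h2 => by
    rw [← Submodule.mem_bot A, ← htf, hKmem]
    intro i _
    rcases Classical.em (i ∈ T) with hi | hi
    exacts [(hKmem T u).mp h1 i hi, (hKmem Tᶜ u).mp h2 i hi]
  -- elements coming from `N Y` are fine
  have hNY : ∀ m : M, Submodule.Quotient.mk m ∈ K Y → Submodule.Quotient.mk m ∈ K Z ⊔ K Zᶜ := by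
    intro m hm
    have hmN : m ∈ N Y := by rw [hN]; exact hm
    obtain ⟨u, hu, v, hv, huv⟩ := Submodule.mem_sup.mp
      (hZ.ge (Submodule.mem_top : (Submodule.Quotient.mk ⟨m, hmN⟩ : ↥(N Y) ⧸ (Ideal.span {π} • (⊤ : Submodule A ↥(N Y)))) ∈ ⊤))
    refine Submodule.mem_sup.mpr ⟨Φ u, hΦ Z u hu, Φ v, hΦ Zᶜ v hv, ?_⟩
    rw [← map_add, huv]
    rfl
  -- the key step
  have hdiv : ∀ (T : Set ι) (x : M) (hx : π • x ∈ N Y),
      (Submodule.Quotient.mk ⟨π • x, hx⟩ : ↥(N Y) ⧸ (Ideal.span {π} • (⊤ : Submodule A ↥(N Y)))) ∈ K' T →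
      ∀ a ∈ K Y, ∀ b ∈ K Yᶜ, a + b = Submodule.Quotient.mk x → b ∈ K T := by
    intro T x hx hxT a ha b hb hab
    refine (hKmem T b).mpr fun i hi => ?_
    rcases Classical.em (i ∈ Y) with hiY | hiY
    · obtain ⟨t, ht, htx⟩ := (hK'mem T _).mp hxT i hi
      rw [← Submodule.Quotient.mk_smul, Submodule.Quotient.mk_eq_zero] at htx
      obtain ⟨z, -, hz⟩ := CAlgSmall.mem_span_singleton_smul_top.mp htx
      have hz' : π • (z : M) = π • (t • x) := by
        rw [smul_comm π t x]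
        exact congrArg Subtype.val hz
      have hzx : (z : M) = t • x := sub_eq_zero.mp (hπ _ (by rw [smul_sub, hz', sub_self]))
      have hzK : Submodule.Quotient.mk (z : M) ∈ K Y := by
        have := (hN Y).le z.2
        exact this
      obtain ⟨t₁, ht₁, h₁⟩ := (hKmem Y _).mp hzK i hiY
      obtain ⟨t₂, ht₂, h₂⟩ := (hKmem Y _).mp ha i hiY
      refine ⟨t₁ * t₂ * t, Ideal.IsPrime.mul_notMem inferInstance
        (Ideal.IsPrime.mul_notMem inferInstance ht₁ ht₂) ht, ?_⟩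
      have hbx : b = Submodule.Quotient.mk x - a := by rw [← hab]; abel
      rw [hbx, smul_sub, mul_smul, mul_smul, ← Submodule.Quotient.mk_smul, ← hzx,
        show t₁ • t₂ • (Submodule.Quotient.mk (z : M) : M ⧸ (Ideal.span {π} • (⊤ : Submodule A M))) = 0 by rw [smul_comm, h₁, smul_zero],
        mul_smul, mul_smul, smul_comm t₂ t a, h₂, smul_zero, smul_zero, sub_zero]
    · exact (hKmem Yᶜ b).mp hb i hiY
  have hA : ∀ a ∈ K Y, a ∈ K Z ⊔ K Zᶜ := fun a ha => by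
    obtain ⟨m, rfl⟩ := Submodule.Quotient.mk_surjective _ a
    exact hNY m ha
  rw [eq_top_iff]
  intro y _
  obtain ⟨a, ha, b, hb, rfl⟩ := Submodule.mem_sup.mp (hY.ge (Submodule.mem_top : y ∈ ⊤))
  refine add_mem (hA a ha) ?_
  obtain ⟨x, rfl⟩ := Submodule.Quotient.mk_surjective _ b
  have hone : ∀ i, (1 : A) ∉ 𝔓 i := fun i h =>
    Ideal.IsPrime.ne_top (I := 𝔓 i) inferInstance ((Ideal.eq_top_iff_one _).mpr h)
  have hPN : ∀ z : M, π • z ∈ N Y := fun z => by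
    rw [hN, Submodule.mem_comap, hKmem]
    exact fun i _ => ⟨1, hone i, by
      rw [one_smul, Submodule.mkQ_apply, Submodule.Quotient.mk_eq_zero]
      exact Submodule.smul_mem_smul (Ideal.mem_span_singleton_self π) trivial⟩
  have hπ0 : ∀ z : M, (Submodule.Quotient.mk (π • z) : M ⧸ (Ideal.span {π} • (⊤ : Submodule A M))) = 0 := fun z =>
    (Submodule.Quotient.mk_eq_zero _).mpr
      (Submodule.smul_mem_smul (Ideal.mem_span_singleton_self π) trivial)
  obtain ⟨u, hu, v, hv, huv⟩ := Submodule.mem_sup.mp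
    (hZ.ge (Submodule.mem_top : (Submodule.Quotient.mk ⟨π • x, hPN x⟩ : ↥(N Y) ⧸ (Ideal.span {π} • (⊤ : Submodule A ↥(N Y)))) ∈ ⊤))
  obtain ⟨u', rfl⟩ := Submodule.Quotient.mk_surjective _ u
  obtain ⟨v', rfl⟩ := Submodule.Quotient.mk_surjective _ v
  have hsum0 : Φ (Submodule.Quotient.mk u') + Φ (Submodule.Quotient.mk v') = 0 := by
    rw [← map_add, huv]
    exact hπ0 x
  have hu0 : Φ (Submodule.Quotient.mk u') = 0 := hdisj Z _ (hΦ Z _ hu) (by
    rw [eq_neg_of_add_eq_zero_left hsum0]; exact neg_mem (hΦ Zᶜ _ hv))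
  have hv0 : Φ (Submodule.Quotient.mk v') = 0 := by rwa [hu0, zero_add] at hsum0
  obtain ⟨u₂, -, hu₂⟩ := CAlgSmall.mem_span_singleton_smul_top.mp
    ((Submodule.Quotient.mk_eq_zero (Ideal.span {π} • (⊤ : Submodule A M))).mp hu0)
  obtain ⟨v₂, -, hv₂⟩ := CAlgSmall.mem_span_singleton_smul_top.mp
    ((Submodule.Quotient.mk_eq_zero (Ideal.span {π} • (⊤ : Submodule A M))).mp hv0)
  rw [← Submodule.Quotient.mk_add, Submodule.Quotient.eq] at huv
  obtain ⟨w, -, hw⟩ := CAlgSmall.mem_span_singleton_smul_top.mp huv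
  have hx : x = u₂ + v₂ - (w : M) := by
    refine sub_eq_zero.mp (hπ _ ?_)
    have h1 := congrArg Subtype.val hw
    simp only [SetLike.val_smul, AddSubgroupClass.coe_sub, Submodule.coe_add] at h1
    have hu₂' : π • u₂ = (u' : M) := hu₂
    have hv₂' : π • v₂ = (v' : M) := hv₂
    simp only [smul_sub, smul_add, hu₂', hv₂', h1]
    abel
  have hu₂N : (Submodule.Quotient.mk ⟨π • u₂, hPN u₂⟩ : ↥(N Y) ⧸ (Ideal.span {π} • (⊤ : Submodule A ↥(N Y)))) ∈ K' Z := by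
    rwa [show (⟨π • u₂, hPN u₂⟩ : ↥(N Y)) = u' from Subtype.ext hu₂]
  have hv₂N : (Submodule.Quotient.mk ⟨π • v₂, hPN v₂⟩ : ↥(N Y) ⧸ (Ideal.span {π} • (⊤ : Submodule A ↥(N Y)))) ∈ K' Zᶜ := by
    rwa [show (⟨π • v₂, hPN v₂⟩ : ↥(N Y)) = v' from Subtype.ext hv₂]
  obtain ⟨a₁, ha₁, b₁, hb₁, hab₁⟩ := Submodule.mem_sup.mp
    (hY.ge (Submodule.mem_top : (Submodule.Quotient.mk u₂ : M ⧸ (Ideal.span {π} • (⊤ : Submodule A M))) ∈ ⊤))
  obtain ⟨a₂, ha₂, b₂, hb₂, hab₂⟩ := Submodule.mem_sup.mp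
    (hY.ge (Submodule.mem_top : (Submodule.Quotient.mk v₂ : M ⧸ (Ideal.span {π} • (⊤ : Submodule A M))) ∈ ⊤))
  have hbZ := hdiv Z u₂ (hPN u₂) hu₂N a₁ ha₁ b₁ hb₁ hab₁
  have hbZc := hdiv Zᶜ v₂ (hPN v₂) hv₂N a₂ ha₂ b₂ hb₂ hab₂
  have hwK : (Submodule.Quotient.mk (w : M) : M ⧸ (Ideal.span {π} • (⊤ : Submodule A M))) ∈ K Y := by
    have := (hN Y).le w.2
    exact this
  rw [hx, Submodule.Quotient.mk_sub, Submodule.Quotient.mk_add, ← hab₁, ← hab₂]
  refine sub_mem (add_mem (add_mem (hA _ ha₁) (Submodule.mem_sup_left hbZ))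
    (add_mem (hA _ ha₂) (Submodule.mem_sup_right hbZc))) (hA _ hwK)

end Groth.Agent.S18365
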