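import Groth.Statements.S18366
import Groth.Agent.GrpSchLib.SepPoints
import Groth.Agent.FlatMisc.SpreadSmooth
-- import your own Groth.Agent.* helpers here

set_option autoImplicit false
universe u
open scoped TensorProduct
open CategoryTheory CategoryTheory.Limits AlgebraicGeometry
open Variety

namespace Groth.Agent.S18366

set_option linter.style.haveILetI false
set_option linter.unusedSectionVars false
set_option maxHeartbeats 1000000
set_option backward.isDefEq.respectTransparency false
set_option backward.isDefEq.respectTransparency.types false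
/-- Let k be a separably closed field and X a non-empty k-scheme of finite type which is geometrically
reduced. Then X has a k-rational point, i.e. the structure morphism admits a section. (Non-emptiness
is part of the hypotheses: the empty scheme is geometrically reduced of finite type and has no
point. The published statement does not assume X non-empty; this row does, since the empty scheme
has no rational point.) -/
theorem result (k : Type u) [Field k] [IsSepClosed k]
    {X : Scheme.{u}} (f : X ⟶ Spec (CommRingCat.of k)) [LocallyOfFiniteType f] [QuasiCompact f] [GeometricallyReduced f]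
    [Nonempty X] :
    ∃ s : Spec (CommRingCat.of k) ⟶ X, s ≫ f = 𝟙 (Spec (CommRingCat.of k)) := by
  obtain ⟨x⟩ := (inferInstance : Nonempty X)
  obtain ⟨U, hU, hxU, -⟩ := exists_isAffineOpen_mem_and_subset (X := X) (x := x) (U := ⊤) trivial
  let A : CommRingCat.{u} := Γ(X, U)
  let φ : CommRingCat.of k ⟶ A := Spec.preimage (hU.fromSpec ≫ f)
  have hφ : Spec.map φ = hU.fromSpec ≫ f := Spec.map_preimage _
  letI : Algebra k A := φ.hom.toAlgebra
  haveI : LocallyOfFiniteType (Spec.map φ) := by rw [hφ]; infer_instance
  haveI : Algebra.FiniteType k A := HasRingHomProperty.Spec_iff.mp (inferInstance : LocallyOfFiniteType (Spec.map φ))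
  haveI : Algebra.IsGeometricallyReduced k A := by
    rw [Algebra.isGeometricallyReduced_field_iff]
    let ω : CommRingCat.of k ⟶ CommRingCat.of (AlgebraicClosure k) := CommRingCat.ofHom (algebraMap k _)
    haveI : AlgebraicGeometry.IsReduced (pullback f (Spec.map ω)) :=
      GeometricallyReduced.geometrically_isReduced _ _ _ (IsPullback.of_hasPullback f (Spec.map ω))
    let m : pullback (Spec.map φ) (Spec.map ω) ⟶ pullback f (Spec.map ω) :=
      pullback.map _ _ _ _ hU.fromSpec (𝟙 _) (𝟙 _) (by rw [Category.comp_id, hφ]) (by simp)
    haveI : AlgebraicGeometry.IsReduced (pullback (Spec.map φ) (Spec.map ω)) := isReduced_of_isOpenImmersion m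
    haveI : AlgebraicGeometry.IsReduced (pullback (Spec.map ω) (Spec.map φ)) :=
      isReduced_of_isOpenImmersion (pullbackSymmetry _ _).hom
    haveI : AlgebraicGeometry.IsReduced (Spec (CommRingCat.of (AlgebraicClosure k ⊗[k] A))) :=
      isReduced_of_isOpenImmersion (pullbackSpecIso k (AlgebraicClosure k) A).inv
    exact isReduced_of_injective _
      (Scheme.ΓSpecIso (CommRingCat.of (AlgebraicClosure k ⊗[k] A))).symm.commRingCatIsoToRingEquiv.injective
  obtain ⟨g, hg, hsm⟩ := Groth.Agent.FlatMisc.SpreadRed.exists_smooth_nzd k A
  let B := Localization.Away g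
  let ψ : CommRingCat.of k ⟶ CommRingCat.of B := CommRingCat.ofHom (algebraMap k B)
  haveI : Smooth (Spec.map ψ) := HasRingHomProperty.Spec_iff.mpr
    ((RingHom.smooth_algebraMap).mpr hsm)
  haveI : Nonempty U := ⟨⟨x, hxU⟩⟩
  haveI : Nontrivial A := PrimeSpectrum.nonempty_iff_nontrivial.mp ⟨hU.primeIdealOf ⟨x, hxU⟩⟩
  haveI : Nontrivial B := (IsLocalization.injective B
    (Submonoid.powers_le.mpr hg : Submonoid.powers g ≤ nonZeroDivisors A)).nontrivial
  obtain ⟨p⟩ : Nonempty (PrimeSpectrum B) := inferInstance
  obtain ⟨s, hs, -⟩ := Groth.Agent.GrpSchLib.exists_point_of_smooth (Spec.map ψ) ⊤ (x := p) trivial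
  refine ⟨s ≫ Spec.map (CommRingCat.ofHom (algebraMap A B)) ≫ hU.fromSpec, ?_⟩
  rw [Category.assoc, Category.assoc, ← hφ, ← Spec.map_comp]
  exact hs

end Groth.Agent.S18366
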