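import Groth.Statements.S18367
import Groth.Agent.LC.DepthExt
import Groth.Agent.KFlatLib.Ring.KerDepth
import Groth.Agent.S6291

set_option autoImplicit false
universe u
open CategoryTheory CategoryTheory.Limits
open LocAlg

namespace Groth.Agent.S18367

open IsLocalRing

variable {R : Type u} [CommRing R] (K : CochainComplex (ModuleCat.{u} R) ℕ)

/-- Coboundaries. -/
def bdry : (n : ℕ) → Submodule R (K.X n)
  | 0 => ⊥
  | n + 1 => LinearMap.range (K.d n (n + 1)).hom

theorem bdry_le_ker (n : ℕ) : bdry K n ≤ LinearMap.ker (K.d n (n + 1)).hom := by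
  rcases n with _ | n
  · exact bot_le
  · rintro _ ⟨y, rfl⟩
    exact ConcreteCategory.congr_hom (K.d_comp_d n (n + 1) (n + 2)) y

theorem exactAt_iff_le (n : ℕ) : K.ExactAt n ↔ LinearMap.ker (K.d n (n + 1)).hom ≤ bdry K n := by
  rcases n with _ | n
  · rw [K.exactAt_iff' 0 0 1 (by simp) (by simp), ShortComplex.moduleCat_exact_iff]
    refine ⟨fun h x hx => ?_, fun h x hx => ⟨0, ?_⟩⟩
    · obtain ⟨y, hy⟩ := h x hx
      exact (Submodule.mem_bot R).2 (hy ▸ show (K.d 0 0).hom y = 0 by rw [K.shape 0 0 (by simp)]; rfl)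
    · exact (map_zero _).trans ((Submodule.mem_bot R).1 (h hx)).symm
  · rw [K.exactAt_iff' n (n + 1) (n + 2) (by simp) (by simp), ShortComplex.moduleCat_exact_iff]
    exact Iff.rfl

/-- `0 → B → M → M / B → 0`. -/
noncomputable abbrev quotSeq (n : ℕ) : ShortComplex (ModuleCat.{u} R) :=
  ShortComplex.mk (X₁ := ModuleCat.of R (bdry K n)) (X₂ := K.X n) (X₃ := ModuleCat.of R (K.X n ⧸ bdry K n))
    (ModuleCat.ofHom (bdry K n).subtype) (ModuleCat.ofHom (bdry K n).mkQ)
    (ModuleCat.hom_ext (LinearMap.ext fun x => (Submodule.Quotient.mk_eq_zero _).2 x.2))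

/-- `0 → B^n → K^n → B^(n+1) → 0` at an exact spot. -/
noncomputable abbrev stepSeq (n : ℕ) : ShortComplex (ModuleCat.{u} R) :=
  ShortComplex.mk (X₁ := ModuleCat.of R (bdry K n)) (X₂ := K.X n) (X₃ := ModuleCat.of R (bdry K (n + 1)))
    (ModuleCat.ofHom (bdry K n).subtype) (ModuleCat.ofHom (K.d n (n + 1)).hom.rangeRestrict)
    (ModuleCat.hom_ext (LinearMap.ext fun x => Subtype.ext (bdry_le_ker K n x.2)))

theorem quotSeq_shortExact (n : ℕ) : (quotSeq K n).ShortExact :=
  ModuleCat.shortComplex_shortExact _ (LinearMap.exact_subtype_mkQ _) Subtype.val_injective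
    (Submodule.mkQ_surjective _)

theorem stepSeq_shortExact (n : ℕ) (h : K.ExactAt n) : (stepSeq K n).ShortExact := by
  refine ModuleCat.shortComplex_shortExact _ (fun x => ⟨fun hx => ?_, ?_⟩) Subtype.val_injective
    (LinearMap.surjective_rangeRestrict _)
  · exact ⟨⟨x, (exactAt_iff_le K n).1 h (congrArg Subtype.val hx)⟩, rfl⟩
  · rintro ⟨y, rfl⟩
    exact Subtype.ext (bdry_le_ker K n y.2)

theorem exists_killed {M : Type u} [AddCommGroup M] [Module R M] (I : Ideal R) :
    ∀ (n : ℕ) (q : M), q ≠ 0 → (∀ a ∈ I ^ n, a • q = 0) → ∃ q' : M, q' ≠ 0 ∧ ∀ a ∈ I, a • q' = 0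
  | 0, q, hq, h => absurd (by simpa using h 1 (by simp)) hq
  | n + 1, q, hq, h => by
    by_cases hc : ∀ a ∈ I ^ n, a • q = 0
    · exact exists_killed I n q hq hc
    · push Not at hc
      obtain ⟨a, ha, haq⟩ := hc
      exact ⟨a • q, haq, fun b hb => by
        rw [smul_smul]; exact h _ (by rw [pow_succ']; exact Ideal.mul_mem_mul hb ha)⟩

theorem isZero_of_depth [IsLocalRing R] [IsNoetherianRing R] (g : ℕ)
    (hd : ∀ n, ∀ t < g, Subsingleton (Abelian.Ext (ModuleCat.of R (R ⧸ maximalIdeal R)) (K.X n) t))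
    (hfl : ∀ i, IsFiniteLength R (K.homology i)) (i : ℕ) (hi : i < g) : IsZero (K.homology i) := by
  let F := ModuleCat.of R (R ⧸ maximalIdeal R)
  induction i using Nat.strong_induction_on with
  | _ i ih =>
  have hB : ∀ n ≤ i, ∀ t, t + n ≤ g → Subsingleton (Abelian.Ext F (ModuleCat.of R (bdry K n)) t) := by
    intro n
    induction n with
    | zero =>
      intro _ t _
      have : Subsingleton (bdry K 0) := ⟨fun x y => Subtype.ext
        (((Submodule.mem_bot R).1 x.2).trans ((Submodule.mem_bot R).1 y.2).symm)⟩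
      have hz : IsZero (ModuleCat.of R (bdry K 0)) := ModuleCat.isZero_of_subsingleton _
      exact subsingleton_of_forall_eq 0 fun x => by
        rw [← Abelian.Ext.comp_mk₀_id x, hz.eq_of_src (𝟙 _) 0, Abelian.Ext.mk₀_zero, Abelian.Ext.comp_zero]
    | succ n ihn =>
      intro hn t ht
      exact LC.ext_subsingleton_X₃ (stepSeq_shortExact K n ((K.exactAt_iff_isZero_homology n).2
        (ih n (by omega) (by omega)))) F t (hd n t (by omega)) (ihn (by omega) (t + 1) (by omega))
  have h0 := LC.ext_subsingleton_X₃ (quotSeq_shortExact K i) F 0 (hd i 0 (by omega))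
    (hB i le_rfl 1 (by omega))
  refine (K.exactAt_iff_isZero_homology i).1 ((exactAt_iff_le K i).2 fun x hx => ?_)
  by_contra hxB
  obtain ⟨n, hn⟩ := Groth.Agent.S6291.result (K.homology i) (hfl i)
  have key : ∀ a ∈ maximalIdeal R ^ n, a • x ∈ bdry K i := by
    intro a ha
    let c : K.cycles i := K.cyclesMk x (i + 1) (by simp) hx
    have hc : (K.homologyπ i).hom (a • c) = 0 := by
      rw [map_smul]
      exact (Submodule.mem_bot R).1 (hn ▸ Submodule.smul_mem_smul ha Submodule.mem_top)
    have hxi : (K.iCycles i).hom c = x := K.i_cyclesMk x (i + 1) (by simp) hx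
    rcases i with _ | i
    · have : IsIso (K.homologyπ 0) := K.isIso_homologyπ 0 0 (by simp) (K.shape 0 0 (by simp))
      have h := (ConcreteCategory.bijective_of_isIso (K.homologyπ 0)).1 (hc.trans (map_zero _).symm)
      refine (Submodule.mem_bot R).2 ?_
      rw [← hxi, ← map_smul, h, map_zero]
    · have hex : (ShortComplex.mk _ _ (K.toCycles_comp_homologyπ i (i + 1))).Exact :=
        ShortComplex.exact_of_g_is_cokernel _ (K.homologyIsCokernel i (i + 1) (by simp))
      obtain ⟨y, hy⟩ := (ShortComplex.moduleCat_exact_iff _).1 hex (a • c) hc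
      refine ⟨y, ?_⟩
      have h := ConcreteCategory.congr_hom (K.toCycles_i i (i + 1)) y
      rw [← hxi, ← map_smul]
      exact h.symm.trans (congrArg (K.iCycles (i + 1)).hom hy)
  obtain ⟨q, hq0, hq⟩ := exists_killed (maximalIdeal R) n ((bdry K i).mkQ x)
    (fun h => hxB ((Submodule.Quotient.mk_eq_zero _).1 h))
    (fun a ha => by rw [← map_smul]; exact (Submodule.Quotient.mk_eq_zero _).2 (key a ha))
  let φ : F ⟶ ModuleCat.of R (K.X i ⧸ bdry K i) := ModuleCat.ofHom (Submodule.liftQ _
    (LinearMap.toSpanSingleton R _ q) fun a ha => hq a ha)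
  have : Subsingleton (F ⟶ ModuleCat.of R (K.X i ⧸ bdry K i)) :=
    (Abelian.Ext.addEquiv₀ (X := F) (Y := ModuleCat.of R (K.X i ⧸ bdry K i))).symm.subsingleton
  have h := ConcreteCategory.congr_hom (Subsingleton.elim φ 0) (Submodule.Quotient.mk (1 : R))
  exact hq0 ((one_smul R q).symm.trans h)

/-- Let R be a Cohen–Macaulay local ring of Krull dimension g and K = (K^0 → K^1 → ⋯) a bounded cochain
complex of finitely generated free R-modules (K^i = 0 for i > N) such that every cohomology module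
H^i(K) has finite length. Then H^i(K) = 0 for all i < g. -/
theorem result (R : Type u) [CommRing R]
    [LocCoh.IsCohenMacaulayLocalRing R] (g : ℕ) (hg : ringKrullDim R = g) (K : CochainComplex (ModuleCat.{u} R) ℕ)
    (N : ℕ) (hbd : ∀ i, N < i → IsZero (K.X i)) (hfree : ∀ i, Module.Free R (K.X i) ∧ Module.Finite R (K.X i))
    (hfl : ∀ i, IsFiniteLength R (K.homology i)) (i : ℕ) (hi : i < g) :
    IsZero (K.homology i) := by
  refine isZero_of_depth K g (fun n => ?_) hfl i hi
  obtain ⟨hf, hfin⟩ := hfree n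
  have hdep : (g : ℕ∞) = LocCoh.depth R R := by
    have h := LocCoh.IsCohenMacaulayLocalRing.supportDim_eq_depth (R := R)
    rw [Module.supportDim_self_eq_ringKrullDim, hg] at h
    exact_mod_cast h
  have hpi := KFlatLib.le_idealDepth_pi (maximalIdeal R) g hdep.le
    (Module.finrank R (K.X n))
  let e : (Fin (Module.finrank R (K.X n)) → R) ≃ₗ[R] K.X n := (Module.finBasis R (K.X n)).equivFun.symm
  rw [LC.idealDepth_congr (maximalIdeal R) e] at hpi
  exact (LC.le_idealDepth_iff_ext (maximalIdeal R) (K.X n) g).1 hpi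

end Groth.Agent.S18367
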