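import Groth.Statements.S18369
import Groth.Agent.AVIdx.AmpleAdd
import Groth.Agent.Lib.AVDual

set_option linter.style.haveILetI false
set_option backward.isDefEq.respectTransparency false
set_option backward.isDefEq.respectTransparency.types false

set_option autoImplicit false
universe u
open CategoryTheory CategoryTheory.Limits MonoidalCategory CartesianMonoidalCategory MonObj GrpObj AlgebraicGeometry
open AbVar

namespace Groth.Agent.S18369

open Groth.Agent
open scoped Groth.Agent.H23.PicMul

/-- Let k be a field, A an abelian variety over k (a proper smooth k-group scheme with geometrically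
connected fibres) with group law m : A × A → A and projections p₁, p₂, L an ample invertible
O_A-module, and N an invertible O_A-module whose class lies in the dual abelian variety, expressed
as m^*N ≅ p₁^*N ⊗ p₂^*N. Then L ⊗ N is again ample; so ampleness of an invertible module on A
depends only on its class modulo Pic⁰. -/
theorem result (k : Type u) [Field k]
    (A : Over (Spec (CommRingCat.of k))) [GrpObj A] [IsProper A.hom] [Smooth A.hom] [GeometricallyConnected A.hom]
    (L N : A.left.Modules) (hL : CohB1.IsAmple L) (hN : PicF.IsInvertible N)
    (hN0 : Nonempty ((Scheme.Modules.pullback μ[A].left).obj N ≅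
      CohB1.tensorMod ((Scheme.Modules.pullback (fst A A).left).obj N) ((Scheme.Modules.pullback (snd A A).left).obj N))) :
    CohB1.IsAmple (CohB1.tensorMod L N) := by
  haveI : GeometricallyIntegral A.hom := AVDual.geometricallyIntegral_of_smooth A
  refine AVIdx.isAmple_tensor_of_isAdd hL hN fun T f g => ?_
  have h := congrArg (AVPair.pl (lift f g)) (H23.PicMul.cl_eq_iff.2 hN0)
  rw [H23.PicMul.cl_tensor, map_mul] at h
  have h1 : AVIdx.pu (lift f g ≫ μ[A]) (PicF.cl N) =
      AVIdx.pu (lift f g ≫ fst A A) (PicF.cl N) * AVIdx.pu (lift f g ≫ snd A A) (PicF.cl N) := by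
    rw [← AVIdx.pu_pu, ← AVIdx.pu_pu, ← AVIdx.pu_pu]
    exact h
  rwa [← Hom.mul_def, lift_fst, lift_snd] at h1

end Groth.Agent.S18369
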