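import Groth.Statements.S18373
import Groth.Agent.AVIdx.PrimeDiv
import Groth.Agent.Lib.AVDual

set_option backward.isDefEq.respectTransparency false
set_option backward.isDefEq.respectTransparency.types false
set_option linter.style.haveILetI false

set_option autoImplicit false
universe u
open CategoryTheory CategoryTheory.Limits MonoidalCategory CartesianMonoidalCategory MonObj GrpObj AlgebraicGeometry
open AbVar

namespace Groth.Agent.S18373

open Groth.Agent.H23 Groth.Agent.InvX Groth.Agent.H23.TrivBasic
open scoped Groth.Agent.H23.PicMul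

/-- Let k be an algebraically closed field and A an abelian variety over k (a proper smooth k-group
scheme with geometrically connected fibres). Let Δ ⊆ A be an irreducible closed subset of
codimension one, with generic point ξ whose local ring O_{A,ξ} has Krull dimension 1 (an irreducible
effective divisor), and let C ⊆ A be an irreducible closed subset of dimension one (a curve)
disjoint from Δ. Then for all k-rational points x, y of A lying on C, translation by x − y (the map
z ↦ z + x − y, written with the group Hom(A, A)) carries Δ onto itself: t_{x−y}⁻¹(Δ) = Δ. -/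
theorem result (k : Type u) [Field k] [IsAlgClosed k]
    (A : Over (Spec (CommRingCat.of k))) [GrpObj A] [IsProper A.hom] [Smooth A.hom] [GeometricallyConnected A.hom]
    (Δ : Set A.left) (hΔ : IsClosed Δ) (ξ : A.left) (hξ : closure {ξ} = Δ)
    (hcodim : ringKrullDim (A.left.presheaf.stalk ξ) = 1)
    (C : Set A.left) (hC : IsClosed C) (hCirr : IsIrreducible C) (hCdim : topologicalKrullDim C = 1)
    (hdisj : Disjoint C Δ)
    (x y : 𝟙_ (Over (Spec (CommRingCat.of k))) ⟶ A)
    (hx : Set.range x.left.base ⊆ C) (hy : Set.range y.left.base ⊆ C) :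
    (𝟙 A * (toUnit A ≫ (x * y⁻¹))).left.base ⁻¹' Δ = Δ := by
  haveI : GeometricallyIntegral A.hom := AVDual.geometricallyIntegral_of_smooth A
  haveI : IsIntegral A.left := GeometricallyIntegral.isIntegral_of_subsingleton A.hom
  haveI : IsCommMonObj A := isCommMonObj_of_isProper_of_geometricallyIntegral A
  obtain ⟨L, hL, s, -, hloc⟩ := AVIdx.exists_section_prime_divisor A.hom Δ hΔ ξ hξ hcodim
  obtain ⟨Z, j, hj, hred, hrange⟩ := RedSub.exists_reduced_subscheme A.left hC.isLocallyClosed
  haveI : IsClosedImmersion j := .of_isPreimmersion j (by rw [hrange]; exact hC)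
  haveI : IrreducibleSpace Z := by
    haveI := Subtype.irreducibleSpace (hrange ▸ hCirr : IsIrreducible (Set.range j))
    exact (j.isEmbedding.toHomeomorph).irreducibleSpace_iff.2 inferInstance
  haveI : IsIntegral Z := isIntegral_of_irreducibleSpace_of_isReduced Z
  have htop : ∀ z : Z, j z ∈ locus s := fun z => by
    rw [← SetLike.mem_coe, hloc]
    exact Set.disjoint_left.1 hdisj (hrange ▸ ⟨z, rfl⟩)
  have h1 : TrivBasic.Triv ((Scheme.Modules.pullback j).obj L) :=
    triv_of_frame (locus_eq_top_iff.1 ((locus_pullElt hL j s).trans (top_le_iff.1 fun z _ => htop z)))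
  have hT : TrivBasic.Triv ((Scheme.Modules.pullback j).obj (CohB1.tensorMod L L)) := by
    refine (PicGrp.cl_eq_cl_iff _ _).1 ?_
    show PicMul.pullHom j (PicF.cl (CohB1.tensorMod L L)) = 1
    have h2 : PicMul.pullHom j (PicF.cl L) = 1 := (PicGrp.cl_eq_cl_iff _ _).2 h1
    rw [PicMul.cl_tensor, map_mul, h2, _root_.mul_one]
  have key := AVAmple.preimage_locus_eq hL (s := s) j hT y x
    (hrange ▸ hy ⟨_, rfl⟩) (hrange ▸ hx ⟨_, rfl⟩)
  rw [mul_comm x y⁻¹]
  have key' := congrArg (fun U : A.left.Opens => ((U : Set A.left))ᶜ) key
  simp only [Scheme.Hom.coe_preimage, hloc, ← Set.preimage_compl, compl_compl] at key'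
  exact key'

end Groth.Agent.S18373
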