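import Groth.Statements.S18418
import Groth.Agent.FonLafLib.Glue

set_option autoImplicit false
universe u v
open FonLaf

namespace Groth.Agent.S18418

/-- Let k be a perfect field of characteristic p and W = W(k) its ring of Witt vectors with Frobenius σ.
Fix r and W-modules of finite length N_0 = M, N_1, N_2, … with W-linear maps α_i : N_{i+1} → N_i and
σ-semilinear maps φ_i : N_i → M such that φ_i ∘ α_i = p φ_{i+1} for all i < r. Let ι be the map
sending (x_1, …, x_r) ∈ N_1 ⊕ ⋯ ⊕ N_r to (α_0 x_1, α_1 x_2 − p x_1, …, α_{r−1} x_r − p x_{r−1}, −p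
x_r) ∈ N_0 ⊕ ⋯ ⊕ N_r, and Φ the map N_0 ⊕ ⋯ ⊕ N_r → M, (y_i) ↦ Σ_i φ_i(y_i). Suppose that Φ is
surjective and that its kernel is contained in the image of ι (with the displayed relation this says
that Φ induces a σ-semilinear bijection from the cokernel of ι onto M). Then for every i < r the map
α_i is injective and its image is a direct summand of N_i (so the N_i form a filtration of M by
direct summands, the data of a Fontaine–Laffaille module). Families are indexed by all natural
numbers; only the indices ≤ r enter. -/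
theorem result (p : ℕ) [Fact p.Prime]
    (k : Type u) [Field k] [CharP k p] [PerfectRing k p] (r : ℕ)
    (N : ℕ → Type v) [∀ i, AddCommGroup (N i)] [∀ i, Module (WittVector p k) (N i)]
    (hfl : ∀ i, IsFiniteLength (WittVector p k) (N i))
    (α : ∀ i, N (i + 1) →ₗ[WittVector p k] N i)
    (φ : ∀ i, N i →ₛₗ[(WittVector.frobenius : WittVector p k →+* WittVector p k)] N 0)
    (hφ : ∀ i, i < r → ∀ y : N (i + 1), φ i (α i y) = (p : WittVector p k) • φ (i + 1) y)
    (hsurj : ∀ m : N 0, ∃ y : (i : ℕ) → N i, (∀ i, r < i → y i = 0) ∧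
      (Finset.range (r + 1)).sum (fun i => φ i (y i)) = m)
    (hker : ∀ y : (i : ℕ) → N i, (∀ i, r < i → y i = 0) →
      (Finset.range (r + 1)).sum (fun i => φ i (y i)) = 0 →
        ∃ z : (i : ℕ) → N (i + 1), (∀ i, r ≤ i → z i = 0) ∧
          y 0 = α 0 (z 0) ∧ ∀ i, y (i + 1) = α (i + 1) (z (i + 1)) - (p : WittVector p k) • z i)
    (i : ℕ) (hi : i < r) :
    Function.Injective (α i) ∧
      ∃ Q : Submodule (WittVector p k) (N i), IsCompl (LinearMap.range (α i)) Q := by
  haveI : RingHomSurjective (WittVector.frobenius : WittVector p k →+* WittVector p k) :=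
    ⟨(WittVector.frobenius_bijective p k).surjective⟩
  have hg : Groth.Agent.FonLafLib.IsGlued (p : WittVector p k) r α φ := ⟨hsurj, hker⟩
  have hpure := hg.mem_of_apply_mem hfl hφ (map_natCast _ _)
  have hπu : ¬ IsUnit (p : WittVector p k) := (WittVector.irreducible p).not_isUnit
  have hdvr : ∀ a : WittVector p k, a ≠ 0 → ∃ (m : ℕ) (b : (WittVector p k)ˣ),
      a = (p : WittVector p k) ^ m * b := fun a ha => WittVector.exists_eq_pow_p_mul' a ha
  haveI : IsNoetherian (WittVector p k) (N i) := (isFiniteLength_iff_isNoetherian_isArtinian.1 (hfl i)).1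
  have hinj : Function.Injective (α i) := by
    haveI : IsNoetherian (WittVector p k) (N (i + 1)) :=
      (isFiniteLength_iff_isNoetherian_isArtinian.1 (hfl (i + 1))).1
    obtain ⟨n, hn⟩ : ∃ n : ℕ, ∀ x : N (i + 1), (p : WittVector p k) ^ n • x = 0 := by
      obtain ⟨s, hs⟩ := (Module.Finite.fg_top : (⊤ : Submodule (WittVector p k) (N (i + 1))).FG)
      choose f hf using fun x : N (i + 1) =>
        Groth.Agent.FonLafLib.exists_pow_smul_eq_zero hdvr hπu (hfl (i + 1)) x
      refine ⟨s.sup f, fun x => ?_⟩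
      have hx : x ∈ Submodule.span (WittVector p k) (s : Set (N (i + 1))) := by rw [hs]; trivial
      induction hx using Submodule.span_induction with
      | mem y hy =>
        rw [← Nat.sub_add_cancel (Finset.le_sup (f := f) hy), pow_add, mul_smul, hf, smul_zero]
      | zero => rw [smul_zero]
      | add a b _ _ ha hb => rw [smul_add, ha, hb, add_zero]
      | smul c a _ ha => rw [smul_comm, ha, smul_zero]
    rw [injective_iff_map_eq_zero]
    intro x hx
    obtain ⟨x', hx'⟩ := hpure n i hi x ⟨0, by rw [smul_zero, hx]⟩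
    rw [← hx', hn]
  refine ⟨hinj, Groth.Agent.FonLafLib.exists_isCompl_of_pure (WittVector.irreducible p)
    (fun x => Groth.Agent.FonLafLib.exists_pow_smul_eq_zero hdvr hπu (hfl i) x) _ ?_⟩
  rintro n y ⟨x, hx⟩
  obtain ⟨x', hx'⟩ := hpure n i hi x ⟨y, hx.symm⟩
  exact ⟨α i x', ⟨x', rfl⟩, by rw [← map_smul, hx', hx]⟩

end Groth.Agent.S18418
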