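import Groth.Statements.S18427
import Groth.Agent.MdlSurf.Connected
import Groth.Agent.MdlSurf.GeomConn
import Groth.Agent.CurveBC.Main

set_option autoImplicit false
universe u
open Models

namespace Groth.Agent.S18427

open CategoryTheory AlgebraicGeometry in
/-- Let R be a discrete valuation ring with fraction field K, C a smooth proper geometrically connected
curve over K, and X a regular proper model of C over R (flat and proper over R, regular, with
generic fibre C). Then the structure morphism X → Spec R has geometrically connected fibres; in
particular the special fibre of X is geometrically connected over the residue field of R. -/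
theorem result (R : Type u) [CommRing R] [IsDomain R]
    [IsDiscreteValuationRing R] (C X : Scheme.{u})
    (f : C ⟶ Spec (CommRingCat.of (FractionRing R))) (p : X ⟶ Spec (CommRingCat.of R))
    (hC : Curve.IsSmoothProperCurve (FractionRing R) C f) [GeometricallyConnected f]
    (hX : Models.IsRegularProperModel R X p C f) :
    GeometricallyConnected p := by
  haveI := hC.1
  haveI := hC.2.1
  haveI := hC.2.2.1
  haveI := hX.2.1
  haveI := hX.1.1
  haveI : IsIntegral X := MdlSurf.isIntegral hC hX.1 hX.2.2
  letI : C.Over (Spec (CommRingCat.of (FractionRing R))) := ⟨f⟩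
  haveI : IsProper (C ↘ Spec (CommRingCat.of (FractionRing R))) := hC.1
  haveI : Smooth (C ↘ Spec (CommRingCat.of (FractionRing R))) := hC.2.1
  haveI : GeometricallyConnected (C ↘ Spec (CommRingCat.of (FractionRing R))) := ‹GeometricallyConnected f›
  haveI hH0 : IsIso f.appTop := (ConcreteCategory.isIso_iff_bijective _).2
    (CurveBC.bijective_appTop (FractionRing R) C (CurveBC.finrank_h0_of_geometricallyConnected (FractionRing R) C))
  haveI : Surjective p := ⟨fun s => by
    by_cases hs : s.asIdeal = ⊥
    · exact ⟨genericPoint X, PrimeSpectrum.ext ((ArSurfBase.asIdeal_eq_bot_genericPoint p).trans hs.symm)⟩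
    · haveI : CompactSpace X := QuasiCompact.compactSpace_of_compactSpace p
      obtain ⟨z, -, hz⟩ := IsClosed.exists_closed_singleton (isClosed_univ (X := X)) Set.univ_nonempty
      refine ⟨z, PrimeSpectrum.ext ?_⟩
      rw [IsLocalRing.eq_maximalIdeal (s.isPrime.isMaximal hs)]
      exact IsLocalRing.eq_maximalIdeal ((p.base z).isPrime.isMaximal
        (ArSurfBase.asIdeal_ne_bot_of_isClosed p (IsDiscreteValuationRing.not_isField R) hz))⟩
  exact MdlSurf.geometricallyConnected_of_isIso_app p fun U _ => MdlSurf.isIso_app hC hH0 hX.1 U

end Groth.Agent.S18427
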