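import Groth.Statements.S18449
import Groth.Agent.NumSurf32.Rational

set_option autoImplicit false
universe u
open CategoryTheory CategoryTheory.Limits AlgebraicGeometry TopologicalSpace
open Surf

namespace Groth.Agent.S18449

/-- Let k be an algebraically closed field of characteristic zero and X a smooth projective surface over
k (an integral scheme, proper and smooth over k, of dimension 2). Let Z be a nonzero effective
Cartier divisor on X, given by its ideal sheaf I_Z ≠ O_X, and consider the nonzero effective Cartier
divisors Z' ≤ Z, i.e. those with I_Z = I_{Z'} · J for some effective Cartier ideal J. Then H¹(Z',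
O_{Z'}) = 0 for every such Z' if and only if χ(O_{Z'}) ≥ 1, i.e. the arithmetic genus 1 − χ(O_{Z'})
is at most 0, for every such Z'; here cohomology and Euler characteristics are computed on X through
the direct image of O_{Z'}. The published statement is about the cycles supported on the exceptional
curves of a resolution of a normal surface singularity over the complex numbers, where the first
condition is rationality of the singularity; this row states the equivalence, which the printed
induction proves using only adjunction and the sub-divisors of the given cycle, for the sub-divisors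
of one effective divisor. -/
theorem result (k : Type u) [Field k] [IsAlgClosed k] [CharZero k]
    (X : Scheme.{u}) [X.Over (Spec (CommRingCat.of k))] [IsProper (X ↘ (Spec (CommRingCat.of k)))]
    [Smooth (X ↘ (Spec (CommRingCat.of k)))] [IsIntegral X] (hdim : topologicalKrullDim X = 2)
    (Z : X.IdealSheafData) (hZ : FGA.IsEffCartier Z) (hZ0 : Z ≠ ⊤) :
    (∀ Z' J : X.IdealSheafData, FGA.IsEffCartier Z' → FGA.IsEffCartier J → Z' ≠ ⊤ → Z = Z' * J →
        Subsingleton (Coh.HH X (ClSub.quotMod Z') 1)) ↔
      (∀ Z' J : X.IdealSheafData, FGA.IsEffCartier Z' → FGA.IsEffCartier J → Z' ≠ ⊤ → Z = Z' * J →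
        1 ≤ Curv2.euler k X (ClSub.quotMod Z')) := by
  constructor
  · intro h Z' J hZ' hJ hne he
    exact Groth.Agent.NumSurf32.one_le_euler_of_subsingleton k hdim hZ' hne (h Z' J hZ' hJ hne he)
  · intro h Z' J hZ' hJ hne he
    obtain ⟨A, hA⟩ := Groth.Agent.NumSurf32.exists_ample k hdim
    obtain ⟨m, hm, rfl⟩ := Groth.Agent.NumSurf32.exists_multiset k hdim hA hZ'
    refine Groth.Agent.NumSurf32.subsingleton_h1_prod k hdim m hm (fun n hn hn0 => ?_)
      (Groth.Agent.NumSurf32.multiset_ne_zero k hdim hne)
    obtain ⟨q, rfl⟩ := Multiset.le_iff_exists_add.1 hn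
    have hmn : ∀ Γ ∈ n, Groth.Agent.NumSurf32.IsCurve Γ := fun Γ hΓ => hm Γ (Multiset.mem_add.2 (Or.inl hΓ))
    exact h n.prod (q.prod * J) (Groth.Agent.NumSurf32.isEffCartier_prod k hdim n hmn)
      (ModPairLib.isEffCartier_mul (Groth.Agent.NumSurf32.isEffCartier_prod k hdim q
        fun Γ hΓ => hm Γ (Multiset.mem_add.2 (Or.inr hΓ))) hJ)
      (Groth.Agent.NumSurf32.prod_ne_top k hdim hA n hmn hn0) (by rw [he, Multiset.prod_add, mul_assoc])

end Groth.Agent.S18449
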