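import Groth.Statements.S18456
import Groth.Agent.NumSurf32.Rational

set_option autoImplicit false
universe u
open CategoryTheory CategoryTheory.Limits AlgebraicGeometry TopologicalSpace
open Surf

namespace Groth.Agent.S18456

/-- Let k be an algebraically closed field of characteristic zero and X a smooth projective surface over
k (integral, proper and smooth over k, of dimension 2). Let C_1, …, C_r be pairwise distinct
integral curves on X with ideal sheaves I_i, each with H¹(C_i, O_{C_i}) = 0 (so C_i ≅ P¹) and
self-intersection (I_i·I_i) = −2, and with negative definite intersection matrix: Σ_{i,j} a_i a_j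
(I_i·I_j) < 0 for every nonzero integer vector a, where (A·B) = χ(O_X) − χ(A) − χ(B) + χ(A ⊗ B).
Then H¹(Z, O_Z) = 0 for every nonzero effective Cartier divisor Z on X supported on ⋃ C_i,
cohomology computed on X through the direct image of O_Z. The published statement concludes that the
singularity obtained by contracting the configuration over the complex numbers is rational; the
vanishing for all supported nonzero effective divisors is the form of rationality the printed
argument establishes, and this row states that form. -/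
theorem result (k : Type u) [Field k] [IsAlgClosed k] [CharZero k]
    (X : Scheme.{u}) [X.Over (Spec (CommRingCat.of k))] [IsProper (X ↘ (Spec (CommRingCat.of k)))]
    [Smooth (X ↘ (Spec (CommRingCat.of k)))] [IsIntegral X] (hdim : topologicalKrullDim X = 2)
    (r : ℕ) (C : Fin r → X.IdealSheafData) (hC : Function.Injective C)
    (hCi : ∀ i, IsIntegral (C i).subscheme) (hCd : ∀ i, topologicalKrullDim ((C i).support : Set X) = 1)
    (hCrat : ∀ i, Subsingleton (Coh.HH X (ClSub.quotMod (C i)) 1))
    (hC2 : ∀ i, FGA.intNum k X 2 ![(ClSub.idealMod (C i)), (ClSub.idealMod (C i))] (Coh.structureModule X) = -2)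
    (hneg : ∀ a : Fin r → ℤ, a ≠ 0 →
      ∑ i, ∑ j, a i * a j * FGA.intNum k X 2 ![(ClSub.idealMod (C i)), (ClSub.idealMod (C j))] (Coh.structureModule X) < 0)
    (Z : X.IdealSheafData) (hZ : FGA.IsEffCartier Z) (hZ0 : Z ≠ ⊤)
    (hZs : (Z.support : Set X) ⊆ ⋃ i, ((C i).support : Set X)) :
    Subsingleton (Coh.HH X (ClSub.quotMod Z) 1) := by
  classical
  obtain ⟨m, hm, hsub, rfl⟩ := Groth.Agent.NumSurf32.exists_multiset_of_support k hdim C hCi hCd hZ hZs
  refine Groth.Agent.NumSurf32.subsingleton_h1_prod k hdim m hm (fun n hn hn0 => ?_)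
    (Groth.Agent.NumSurf32.multiset_ne_zero k hdim hZ0)
  have hI := Groth.Agent.NumSurf32.isInvertible_curve k hdim C hCi hCd
  have hG : ∀ i j, FGA.intNum k X 2 ![(ClSub.idealMod (C i)), (ClSub.idealMod (C j))] (Coh.structureModule X) =
      Groth.Agent.SurfInt.pair k (ClSub.idealMod (C i)) (ClSub.idealMod (C j)) :=
    fun i j => Groth.Agent.NumSurf32.intNum_eq k hdim (hI i) (hI j)
  simp only [hG] at hneg hC2
  have hn1 : ∀ Γ ∈ n, Groth.Agent.NumSurf32.IsCurve Γ := fun Γ hΓ => hm Γ (Multiset.mem_of_le hn hΓ)
  have hn2 : ∀ Γ ∈ n, ∃ i, Γ = C i := fun Γ hΓ => hsub Γ (Multiset.mem_of_le hn hΓ)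
  have h1 := Groth.Agent.NumSurf32.two_mul_euler_prod k hdim n hn1
  have h2 := Groth.Agent.NumSurf32.pair_prod_self_neg k hdim C hC hneg n hn1 hn2 hn0 hCi hCd
  rw [Multiset.map_congr rfl (g := fun _ => (0 : ℤ)) fun Γ hΓ => ?_] at h1
  · simp only [Multiset.map_const', Multiset.sum_replicate, smul_zero] at h1
    omega
  obtain ⟨i, rfl⟩ := hn2 Γ hΓ
  rw [hC2 i, Groth.Agent.NumSurf32.euler_curve_eq_one k hdim (hn1 _ hΓ) (hCrat i)]
  norm_num

end Groth.Agent.S18456
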