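import Groth.Statements.S18463
import Groth.Agent.NumSurf32.Gram
import Groth.Agent.SurfInt.Degrees

set_option autoImplicit false
universe u
open CategoryTheory CategoryTheory.Limits AlgebraicGeometry TopologicalSpace
open Surf

namespace Groth.Agent.S18463

/-- Let k be an algebraically closed field of characteristic zero and X a smooth projective surface over
k (integral, proper and smooth over k, of dimension 2, carrying an ample invertible module). Let
C_1, …, C_r be pairwise distinct integral curves on X with ideal sheaves I_i and negative definite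
intersection matrix (Σ_{i,j} a_i a_j (I_i·I_j) < 0 for every nonzero integer vector a, where (A·B) =
χ(O_X) − χ(A) − χ(B) + χ(A ⊗ B)), let F be an effective Cartier divisor on X, with ideal I_F, none
of whose components is a C_i, and let s_1, …, s_r be integers such that F is numerically equivalent
to Σ_i s_i C_i: (I_F·M) = Σ_i s_i (I_i·M) for every invertible O_X-module M (equivalently (F·D) = Σ
s_i (C_i·D) for every divisor D). Then F = 0, i.e. I_F = O_X, and every s_i is 0. The published
statement writes the hypothesis as [F] + Σ s_i[C_i] = 0 with real s_i; this row writes F ≡ Σ s_i C_i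
with integer s_i, which is the same after changing the signs of the s_i. -/
theorem result (k : Type u) [Field k] [IsAlgClosed k] [CharZero k]
    (X : Scheme.{u}) [X.Over (Spec (CommRingCat.of k))] [IsProper (X ↘ (Spec (CommRingCat.of k)))]
    [Smooth (X ↘ (Spec (CommRingCat.of k)))] [IsIntegral X] (hdim : topologicalKrullDim X = 2)
    (hproj : ∃ H : X.Modules, CohB1.IsAmple H)
    (r : ℕ) (C : Fin r → X.IdealSheafData) (hC : Function.Injective C)
    (hCi : ∀ i, IsIntegral (C i).subscheme) (hCd : ∀ i, topologicalKrullDim ((C i).support : Set X) = 1)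
    (hneg : ∀ a : Fin r → ℤ, a ≠ 0 →
      ∑ i, ∑ j, a i * a j * FGA.intNum k X 2 ![(ClSub.idealMod (C i)), (ClSub.idealMod (C j))] (Coh.structureModule X) < 0)
    (F : X.IdealSheafData) (hF : FGA.IsEffCartier F) (hFC : ∀ i, ¬ ((C i).support : Set X) ⊆ (F.support : Set X))
    (s : Fin r → ℤ)
    (hnum : ∀ M : X.Modules, PicF.IsInvertible M →
      FGA.intNum k X 2 ![(ClSub.idealMod F), M] (Coh.structureModule X) =
        ∑ i, s i * FGA.intNum k X 2 ![(ClSub.idealMod (C i)), M] (Coh.structureModule X)) :
    F = ⊤ ∧ ∀ i, s i = 0 := by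
  classical
  obtain ⟨A, hA⟩ := hproj
  haveI := Groth.Agent.CurveCohLib.isNoetherian_of_proper (k := k) (X := X)
  have hI := Groth.Agent.NumSurf32.isInvertible_curve k hdim C hCi hCd
  have hFc := Groth.Agent.SurfInt.isEffCartierIdeal_of_fga hF
  have hFi := Groth.Agent.SurfInt.isInvertible_idealMod hFc
  have hG : ∀ i j, FGA.intNum k X 2 ![(ClSub.idealMod (C i)), (ClSub.idealMod (C j))] (Coh.structureModule X) =
      Groth.Agent.SurfInt.pair k (ClSub.idealMod (C i)) (ClSub.idealMod (C j)) :=
    fun i j => Groth.Agent.NumSurf32.intNum_eq k hdim (hI i) (hI j)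
  simp only [hG] at hneg
  have hnum' : ∀ M : X.Modules, PicF.IsInvertible M → Groth.Agent.SurfInt.pair k (ClSub.idealMod F) M =
      ∑ i, s i * Groth.Agent.SurfInt.pair k (ClSub.idealMod (C i)) M := fun M hM => by
    rw [← Groth.Agent.NumSurf32.intNum_eq k hdim hFi hM, hnum M hM]
    exact Finset.sum_congr rfl fun i _ => by rw [Groth.Agent.NumSurf32.intNum_eq k hdim (hI i) hM]
  have hs : ∀ i, 0 ≤ (-s) i := Groth.Agent.NumSurf32.coeff_nonneg k hdim C hCi hCd hC hneg fun j => by
    haveI := hCi j
    have h1 := Groth.Agent.SurfInt.curveDeg_idealMod_nonpos k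
      (Groth.Agent.NumSurf32.isEffCartier_of_curve k hdim (C j) (hCd j)) (hCd j) hFc (hFC j)
    have h2 := hnum' _ (hI j)
    rw [Groth.Agent.SurfInt.pair_comm, Groth.Agent.SurfInt.pair_ideal_left k _ hFi] at h2
    simp only [Pi.neg_apply, neg_mul, Finset.sum_neg_distrib]
    omega
  have hA1 := Groth.Agent.NumSurf32.pair_curve_ample_neg k hdim C hCd hA
  have hterm : ∀ i ∈ Finset.univ, 0 ≤ s i * Groth.Agent.SurfInt.pair k (ClSub.idealMod (C i)) A := fun i _ =>
    mul_nonneg_of_nonpos_of_nonpos (by simpa using hs i) (hA1 i).le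
  have h3 := hnum' A hA.1
  rw [Groth.Agent.SurfInt.pair_ideal_left k _ hA.1] at h3
  have h4 := Finset.sum_nonneg hterm
  have h5 := (Groth.Agent.NumSurf32.curveDeg_ample k hA F
    (Groth.Agent.NumSurf32.dim_support_le_one k hdim hFc)).1
  refine ⟨?_, fun i => ?_⟩
  · by_contra hne
    have := Groth.Agent.SurfInt.curveDeg_pos_of_ample k hA
      (Groth.Agent.SurfInt.dim_support_effCartier k hdim hFc hne)
    omega
  · have h6 := (Finset.sum_eq_zero_iff_of_nonneg hterm).1 (by omega) i (Finset.mem_univ i)
    exact (mul_eq_zero.1 h6).resolve_right (hA1 i).ne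

end Groth.Agent.S18463
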