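import Groth.Statements.S18487
import Groth.Agent.NonAbLib.DedekindExt
-- import your own Groth.Agent.* helpers here

set_option autoImplicit false
universe u
open CategoryTheory CategoryTheory.Limits AlgebraicGeometry MonObj
open NonAbH1

namespace Groth.Agent.S18487

/-- Let R be a Dedekind domain with fraction field K, G a proper flat group scheme over Spec R, and P a
Spec R-scheme with an action of G making it a G-torsor for the fppf topology (a pseudo-torsor
acquiring sections on the members of an fppf covering family). If P acquires a section over the
generic point Spec K → Spec R, then P has a section over Spec R: a generically trivial torsor is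
trivial. (The source allows any connected Dedekind scheme as base and torsors that are fppf sheaves,
shown there to be schemes; the affine base and scheme torsors are stated.) -/
theorem result (R : Type u) [CommRing R] [IsDedekindDomain R]
    (G : Over (Spec (CommRingCat.of R))) [GrpObj G] [IsProper G.hom] [Flat G.hom]
    (P : NonAbH1.TorsorSch G Scheme.fppfPrecoverage) (h : NonAbH1.HasSectionOver P.X (Neron.genPt R)) :
    NonAbH1.HasSectionOver P.X (𝟙 (Spec (CommRingCat.of R))) := by
  have : IsProper P.X.hom := by
    have := EtFound.fpqc_isProper.{u}
    have : IsZariskiLocalAtTarget (@IsProper : MorphismProperty Scheme.{u}) := inferInstance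
    exact SchTorsor.torsor_property @IsProper (NonAbLib.torsor_mono NonAbLib.fppf_le_fpqc P.isTorsor) ‹_›
  obtain ⟨s, hs⟩ := h
  obtain ⟨H, hH, -⟩ := NonAbLib.exists_extend (L := FractionRing R)
    (fun Q hQ => NonAbLib.valuationRing_localization (R := R) (L := FractionRing R) (IsFractionRing.injective R (FractionRing R))
      (fun x => (IsFractionRing.isAlgebraic_iff R (FractionRing R) (FractionRing R)).2 (isAlgebraic_algebraMap x)) Q)
    P.X.hom (RingHom.id R) s (hs.trans (by simp [Neron.genPt]))
  exact ⟨H, hH.trans (by simp)⟩

end Groth.Agent.S18487
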