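import Groth.Statements.S18488
import Groth.Agent.NonAbLib.DedekindTorsor
-- import your own Groth.Agent.* helpers here

set_option autoImplicit false
universe u
open CategoryTheory CategoryTheory.Limits AlgebraicGeometry MonObj
open NonAbH1

namespace Groth.Agent.S18488

/-- Let R be a Dedekind domain with fraction field K and G a proper flat group scheme over Spec R. Then
restriction to the generic fibre, from the set of classes of G-torsors for the fppf topology (Spec
R-schemes with a G-action, pseudo-torsors trivialised on an fppf covering family, up to equivariant
isomorphism) to the set of classes of G_K-torsors, is injective. (The source allows any connected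
Dedekind scheme as base and all fppf torsors, which it shows to be schemes; the affine base and
torsors representable by schemes are stated.) -/
theorem result (R : Type u) [CommRing R] [IsDedekindDomain R]
    (G : Over (Spec (CommRingCat.of R))) [GrpObj G] [IsProper G.hom] [Flat G.hom] :
    Function.Injective (NonAbH1.H1Sch.bcMap (Neron.genPt R) G Scheme.fppfPrecoverage) := by
  intro c₁ c₂
  induction c₁ using Quot.ind with | mk P => ?_
  induction c₂ using Quot.ind with | mk Q => ?_
  intro h
  refine Quot.sound ?_
  obtain ⟨e⟩ := NonAbLib.equivIso_of_bcMap_eq (Neron.genPt R) P Q h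
  obtain ⟨ψ, hψ⟩ := NonAbLib.exists_point_hom (Neron.genPt R) e
  have ha := NonAbLib.torsor_mono NonAbLib.fppf_le_fpqc P.isTorsor
  have hb := NonAbLib.torsor_mono NonAbLib.fppf_le_fpqc Q.isTorsor
  have := EtFound.fpqc_isProper.{u}
  have : IsZariskiLocalAtTarget (@Flat : MorphismProperty Scheme.{u}) :=
    HasRingHomProperty.instIsZariskiLocalAtTarget _
  have : IsZariskiLocalAtTarget (@IsProper : MorphismProperty Scheme.{u}) := inferInstance
  have : IsProper P.X.hom := SchTorsor.torsor_property @IsProper ha ‹_›
  have : IsProper Q.X.hom := SchTorsor.torsor_property @IsProper hb ‹_›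
  have : Flat P.X.hom := SchTorsor.torsor_property @Flat ha ‹_›
  have := SchTorsor.surjective_hom ha
  have := SchTorsor.surjective_hom hb
  exact NonAbLib.equivIso_of_generic ha hb ψ hψ

end Groth.Agent.S18488
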