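import Groth.Statements.S18497
import Groth.Agent.NeronA.GenericFinite
import Groth.Agent.UnramMisc.QFSmooth

set_option autoImplicit false
universe u
open CategoryTheory CategoryTheory.Limits AlgebraicGeometry MonObj
open Neron

namespace Groth.Agent.S18497

/-- Let R be a Dedekind domain with fraction field K and G a finite étale group scheme over K. Then G
has a Néron model over Spec R which is separated, quasi-finite and étale: there are a Spec R-scheme
N and an isomorphism e of its generic fibre N_K with G such that N is smooth, separated and of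
finite type over Spec R with the Néron mapping property (for every smooth Spec R-scheme Y, g ↦ e ∘
g_K is a bijection from R-morphisms Y → N onto K-morphisms Y_K → G), and N → Spec R is étale and
locally quasi-finite. -/
theorem result (R : Type u) [CommRing R] [IsDedekindDomain R]
    (G : Over (Spec (CommRingCat.of (FractionRing R)))) [GrpObj G] [IsFinite G.hom] [Etale G.hom] :
    ∃ (N : Over (Spec (CommRingCat.of R))) (e : (Neron.genericFibre R).obj N ≅ G),
      Neron.IsNeronModelOf R N G e ∧ Etale N.hom ∧ LocallyQuasiFinite N.hom := by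
  let K := FractionRing R
  let S := Spec (CommRingCat.of R)
  haveI : IsAffine G.left := isAffine_of_isAffineHom G.hom
  let B := Γ(G.left, ⊤)
  let φ : CommRingCat.of K ⟶ B := Spec.preimage (G.left.isoSpec.inv ≫ G.hom)
  have hφ : Spec.map φ = G.left.isoSpec.inv ≫ G.hom := Spec.map_preimage _
  letI : Algebra K B := φ.hom.toAlgebra
  letI : Algebra R B := (φ.hom.comp (algebraMap R K)).toAlgebra
  haveI : IsScalarTower R K B := IsScalarTower.of_algebraMap_eq fun _ => rfl
  haveI : Algebra.Etale K B := by
    have h' : Etale (Spec.map φ) := by rw [hφ]; infer_instance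
    rw [HasRingHomProperty.Spec_iff (P := @Etale)] at h'
    exact h'
  haveI : Module.Finite K B := Algebra.FormallyUnramified.finite_of_free K B
  let C := CommRingCat.of (integralClosure R B)
  obtain ⟨_, hCn⟩ := NeronA.GenericFinite.finite_and_normal R B
  let π : Spec C ⟶ S := Spec.map (CommRingCat.ofHom (algebraMap R (integralClosure R B)))
  haveI : IsFinite π := (IsFinite.SpecMap_iff _).2 (RingHom.finite_algebraMap.2 ‹_›)
  haveI : IsLocallyNoetherian (Spec C) := LocallyOfFiniteType.isLocallyNoetherian π
  haveI : LocallyOfFinitePresentation π := inferInstance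
  have hT : Pi1.IsNormalScheme (Spec C) := NeronA.GenericFinite.isNormalScheme_spec C hCn
  have hSn : Pi1.IsNormalScheme S :=
    WeilExt.isNormalScheme (WeilExt.isRegularLocalRing_stalk_spec (R := R)) (𝟙 S)
  haveI := NeronA.GenericFinite.isPushout R B
  let jG : G.left ⟶ Spec C :=
    G.left.isoSpec.hom ≫ Spec.map (CommRingCat.ofHom (algebraMap (integralClosure R B) B))
  have sq0 : IsPullback jG G.hom π (genPt R) := by
    have h := AlgebraicGeometry.isPullback_SpecMap_of_isPushout _ _ _ _
      (CommRingCat.isPushout_of_isPushout R (integralClosure R B) K B)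
    refine h.of_iso G.left.isoSpec.symm (Iso.refl _) (Iso.refl _) (Iso.refl _) ?_ ?_ (by simp [π]) (by simp)
    · simp [jG]
    · simp only [Iso.refl_hom, Category.comp_id, Iso.symm_hom]
      exact hφ
  have hO : ∀ x, jG x ∈ π.smoothLocus := fun x => by
    haveI : Flat (genPt R) := (HasRingHomProperty.Spec_iff (P := @Flat)).2
      (RingHom.flat_algebraMap_iff.2 (IsLocalization.flat (FractionRing R) (nonZeroDivisors R)))
    have h := Groth.Agent.S2155.result π (genPt R) G.hom jG sq0 (Or.inr inferInstance)
    have hx : x ∈ G.hom.smoothLocus := G.hom.smoothLocus_eq_top.ge trivial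
    rw [h] at hx
    exact hx
  let O := π.smoothLocus
  let N : Over S := Over.mk (O.ι ≫ π)
  haveI : Smooth N.hom := by
    show Smooth (O.ι ≫ π)
    rw [← Scheme.Hom.smoothLocus_eq_top_iff, ← Scheme.Hom.preimage_smoothLocus_eq]
    exact Scheme.Opens.ι_preimage_self _
  haveI : LocallyQuasiFinite N.hom := inferInstanceAs (LocallyQuasiFinite (O.ι ≫ π))
  haveI : Etale N.hom := UnramMisc.etale_of_smooth_of_locallyQuasiFinite N.hom
  haveI : IsSeparated N.hom := inferInstanceAs (IsSeparated (O.ι ≫ π))
  haveI : QuasiCompact N.hom := inferInstanceAs (QuasiCompact (O.ι ≫ π))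
  haveI : LocallyOfFiniteType N.hom := inferInstanceAs (LocallyOfFiniteType (O.ι ≫ π))
  let jO : G.left ⟶ O.toScheme := IsOpenImmersion.lift O.ι jG (by
    rw [Scheme.Opens.range_ι]; rintro _ ⟨x, rfl⟩; exact hO x)
  have hjO : jO ≫ O.ι = jG := IsOpenImmersion.lift_fac _ _ _
  let e₁ : G.left ⟶ Limits.pullback N.hom (genPt R) := Limits.pullback.lift jO G.hom (by
    show jO ≫ O.ι ≫ π = _
    rw [reassoc_of% hjO, sq0.w])
  let e₂ : Limits.pullback N.hom (genPt R) ⟶ G.left :=
    sq0.lift (Limits.pullback.fst _ _ ≫ O.ι) (Limits.pullback.snd _ _) (by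
      rw [Category.assoc]; exact Limits.pullback.condition)
  let e₀ : Limits.pullback N.hom (genPt R) ≅ G.left :=
    { hom := e₂
      inv := e₁
      hom_inv_id := by
        apply Limits.pullback.hom_ext
        · rw [Category.assoc, Limits.pullback.lift_fst, Category.id_comp, ← cancel_mono O.ι, Category.assoc,
            hjO, sq0.lift_fst]
        · rw [Category.assoc, Limits.pullback.lift_snd, sq0.lift_snd, Category.id_comp]
      inv_hom_id := by
        apply sq0.hom_ext
        · rw [Category.assoc, sq0.lift_fst, Limits.pullback.lift_fst_assoc, hjO, Category.id_comp]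
        · rw [Category.assoc, sq0.lift_snd, Limits.pullback.lift_snd, Category.id_comp] }
  let e : (genericFibre R).obj N ≅ G := Over.isoMk e₀ (sq0.lift_snd _ _ _)
  refine ⟨N, e, ⟨inferInstance, inferInstance, inferInstance, inferInstance, fun Y hY => ?_⟩,
    inferInstance, inferInstance⟩
  have hmap : ∀ g : Y ⟶ N, ((genericFibre R).map g ≫ e.hom).left ≫ jG =
      Limits.pullback.fst Y.hom (genPt R) ≫ g.left ≫ O.ι := fun g => by
    show (((genericFibre R).map g).left ≫ e₂) ≫ jG = _
    rw [Category.assoc, sq0.lift_fst, ← Category.assoc, ← Category.assoc]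
    exact congrArg (· ≫ O.ι) (Limits.pullback.lift_fst _ _ _)
  have hcond : ∀ g : Y ⟶ N, (g.left ≫ O.ι) ≫ π = Y.hom := fun g => by
    rw [Category.assoc]; exact Over.w g
  refine ⟨fun f g hfg => ?_, fun h => ?_⟩
  · have h1 := congrArg (fun q => CommaMorphism.left q ≫ jG) hfg
    simp only at h1
    erw [hmap, hmap] at h1
    obtain ⟨a, -, hu⟩ := NeronA.GenericFinite.existsUnique_extension π
      (Limits.pullback.fst Y.hom (genPt R) ≫ f.left ≫ O.ι) (by rw [Category.assoc, Category.assoc]; exact congrArg (_ ≫ ·) (Over.w f))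
    have := (hu (f.left ≫ O.ι) ⟨hcond f, rfl⟩).trans (hu (g.left ≫ O.ι) ⟨hcond g, h1.symm⟩).symm
    exact Over.OverMorphism.ext ((cancel_mono O.ι).1 this)
  · have hw : h.left ≫ G.hom = Limits.pullback.snd Y.hom (genPt R) := Over.w h
    obtain ⟨g, ⟨hg, hg0⟩, -⟩ := NeronA.GenericFinite.existsUnique_extension π (h.left ≫ jG) (by
      rw [Category.assoc, sq0.w, reassoc_of% hw, Limits.pullback.condition])
    have hr : Set.range g ⊆ Set.range O.ι := by
      rintro _ ⟨y, rfl⟩
      rw [Scheme.Opens.range_ι]
      exact NeronA.NormalSmooth.mem_smoothLocus hSn Y.hom π hT g hg y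
    let g' : Y ⟶ N := Over.homMk (IsOpenImmersion.lift O.ι g hr) (by
      show _ ≫ O.ι ≫ π = _
      rw [IsOpenImmersion.lift_fac_assoc, hg])
    refine ⟨g', Over.OverMorphism.ext (sq0.hom_ext ?_ ?_)⟩
    · refine (hmap g').trans ?_
      rw [show g'.left ≫ O.ι = g from IsOpenImmersion.lift_fac _ _ _, hg0]
    · exact (Over.w ((genericFibre R).map g' ≫ e.hom)).trans hw.symm

end Groth.Agent.S18497
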