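import Groth.Statements.S18515
import Mathlib.AlgebraicGeometry.ValuativeCriterion

set_option autoImplicit false
open CategoryTheory CategoryTheory.Limits MonoidalCategory CartesianMonoidalCategory MonObj GrpObj AlgebraicGeometry
universe u
open NonAbH1

namespace Groth.Agent.S18515

open AlgGrp in
theorem restrict_restrict {S : Scheme.{u}} {G H L X : Over S} [GrpObj G] [GrpObj H] [GrpObj L] (φ : H ⟶ G) [IsMonHom φ]
    (ψ : L ⟶ H) [IsMonHom ψ] (a : Action G X) : (a.restrict φ).restrict ψ = a.restrict (ψ ≫ φ) :=
  Action.ext' (by simp [Action.restrict_act])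

open AlgGrp in
theorem restrict_congr {S : Scheme.{u}} {G H X : Over S} [GrpObj G] [GrpObj H] {φ φ' : H ⟶ G} (h : φ = φ')
    [IsMonHom φ] [IsMonHom φ'] (a : Action G X) : a.restrict φ = a.restrict φ' := by
  subst h; rfl

def equivIsoRestrict {S : Scheme.{u}} {G H X X' : Over S} [GrpObj G] [GrpObj H] (φ : H ⟶ G) [IsMonHom φ]
    {a : AlgGrp.Action G X} {a' : AlgGrp.Action G X'} (e : NonAbH1.EquivIso a a') :
    NonAbH1.EquivIso (a.restrict φ) (a'.restrict φ) where
  iso := e.iso
  comm := by
    rw [AlgGrp.Action.restrict_act, AlgGrp.Action.restrict_act, Category.assoc, e.comm, whisker_exchange_assoc]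

def equivIsoTrans {S : Scheme.{u}} {G X X' X'' : Over S} [GrpObj G] {a : AlgGrp.Action G X}
    {a' : AlgGrp.Action G X'} {a'' : AlgGrp.Action G X''} (e : NonAbH1.EquivIso a a') (e' : NonAbH1.EquivIso a' a'') :
    NonAbH1.EquivIso a a'' where
  iso := e.iso ≪≫ e'.iso
  comm := by rw [Iso.trans_hom, reassoc_of% e.comm, e'.comm, MonoidalCategory.whiskerLeft_comp, Category.assoc]

theorem isTorsorFor_restrict {S : Scheme.{u}} {G H X : Over S} [GrpObj G] [GrpObj H] (φ : H ⟶ G) [IsMonHom φ]
    [IsIso φ] {K : Precoverage Scheme.{u}} {a : AlgGrp.Action G X} (h : NonAbH1.IsTorsorFor K a) :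
    NonAbH1.IsTorsorFor K (a.restrict φ) := by
  refine ⟨?_, h.2⟩
  have : IsIso (lift a.act (snd G X)) := h.1
  have key : lift (a.restrict φ).act (snd H X) = (φ ▷ X) ≫ lift a.act (snd G X) := by
    rw [comp_lift, whiskerRight_snd, AlgGrp.Action.restrict_act]
  show IsIso (lift (a.restrict φ).act (snd H X))
  rw [key]
  infer_instance

theorem bcCompIso_cocycle {S S' S'' T : Scheme.{u}} (f : T ⟶ S'') (g : S'' ⟶ S') (e : T ⟶ S') (x : S' ⟶ S)
    {d : S'' ⟶ S} {d' : T ⟶ S} (G : Over S) (h₁ : g ≫ x = d) (h₂ : f ≫ g = e) (h₃ : e ≫ x = d') (h₄ : f ≫ d = d') :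
    (Over.pullback f).map (ActBC.bcCompIso g x G h₁).hom ≫ (ActBC.bcCompIso f d G h₄).hom =
      (ActBC.bcCompIso f g (Red.bc x G) h₂).hom ≫ (ActBC.bcCompIso e x G h₃).hom := by
  ext
  apply pullback.hom_ext
  · rw [Over.comp_left, Over.comp_left, Category.assoc, Category.assoc, ActBC.bcCompIso_hom_left_fst,
      ActBC.bcCompIso_hom_left_fst, ActBC.pullback_map_left_fst_assoc, ActBC.bcCompIso_hom_left_fst]
    exact (ActBC.bcCompIso_hom_left_fst_assoc f g (Red.bc x G) h₂ _).symm
  · exact (Over.w _).trans (Over.w _).symm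

/-- A class represented by a torsor over a complete variety is unramified at every discrete valuation
ring of the function field. The published lemma assumes G finite, k algebraically closed of
characteristic zero and K finitely generated over k; this row allows any field k, any field K and
any affine k-group scheme of finite type: let k be a field, X a proper k-scheme, G an affine k-group
scheme of finite type and P a torsor over X, locally trivial for the etale topology, under the base
change of G. For every field K with a k-morphism e : Spec K ⟶ X (for instance the generic point of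
an integral X) and every discrete valuation ring R with fraction field K containing k compatibly,
there is a torsor Q over Spec R under the base change of G whose restriction to Spec K is
equivariantly isomorphic to the pullback of P along e, both regarded as actions of the base change
of G to Spec K through the canonical identifications of iterated base changes. -/
theorem result
    (k K R : Type u) [Field k] [Field K] [Algebra k K]
    [CommRing R] [IsDomain R] [IsDiscreteValuationRing R] [Algebra k R] [Algebra R K] [IsFractionRing R K]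
    (hc : Spec.map (CommRingCat.ofHom (algebraMap R K)) ≫ Spec.map (CommRingCat.ofHom (algebraMap k R)) =
      Spec.map (CommRingCat.ofHom (algebraMap k K)))
    (X : Scheme.{u}) (x : X ⟶ Spec (CommRingCat.of k)) [IsProper x]
    (G : Over (Spec (CommRingCat.of k))) [GrpObj G] [IsAffine G.left] [LocallyOfFiniteType G.hom]
    (P : NonAbH1.TorsorSch (Red.bc x G) Scheme.etalePrecoverage)
    (e : Spec (CommRingCat.of K) ⟶ X) (he : e ≫ x = Spec.map (CommRingCat.ofHom (algebraMap k K))) :
    ∃ Q : NonAbH1.TorsorSch (Red.bc (Spec.map (CommRingCat.ofHom (algebraMap k R))) G) Scheme.etalePrecoverage,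
      Nonempty (NonAbH1.EquivIso
        ((Q.act.bc (Spec.map (CommRingCat.ofHom (algebraMap R K)))).restrict
          (ActBC.bcCompIso (Spec.map (CommRingCat.ofHom (algebraMap R K)))
            (Spec.map (CommRingCat.ofHom (algebraMap k R))) G hc).inv)
        ((P.act.bc e).restrict (ActBC.bcCompIso e x G he).inv)) := by
  let dR := Spec.map (CommRingCat.ofHom (algebraMap k R))
  let j := Spec.map (CommRingCat.ofHom (algebraMap R K))
  have hv : ValuativeCriterion.Existence x := by
    have : UniversallyClosed x := inferInstance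
    rw [UniversallyClosed.eq_valuativeCriterion] at this
    exact this.1
  have hsq : CommSq e j x dR := ⟨he.trans hc.symm⟩
  obtain ⟨e₁, hj, he₁⟩ : ∃ e₁ : Spec (CommRingCat.of R) ⟶ X, j ≫ e₁ = e ∧ e₁ ≫ x = dR := by
    obtain ⟨⟨l, h₁, h₂⟩⟩ := hv { R := R, K := K, i₁ := e, i₂ := dR, commSq := hsq }
    exact ⟨l, h₁, h₂⟩
  let φ := (ActBC.bcCompIso e₁ x G he₁).inv
  refine ⟨⟨Red.bc e₁ P.X, (P.act.bc e₁).restrict φ,
    isTorsorFor_restrict φ (NonAbH1.isTorsorFor_bc e₁ _ P.isTorsor)⟩, ⟨?_⟩⟩
  dsimp only
  rw [AlgGrp.Action.bc_restrict, restrict_restrict]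
  refine equivIsoTrans (equivIsoRestrict _ (ActBC.equivIsoBcComp j e₁ hj P.act)) ?_
  rw [restrict_restrict]
  rw [restrict_congr (φ' := (ActBC.bcCompIso e x G he).inv) ?_]
  · exact ⟨Iso.refl _, by simp⟩
  rw [← cancel_mono (ActBC.bcCompIso e x G he).hom, Iso.inv_hom_id, Category.assoc, Category.assoc, Iso.inv_comp_eq,
    Category.comp_id, ← bcCompIso_cocycle j e₁ e x G he₁ hj he hc, ← Functor.map_comp_assoc, Iso.inv_hom_id,
    CategoryTheory.Functor.map_id, Category.id_comp]

end Groth.Agent.S18515
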