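import Groth.Statements.S18538
import Mathlib.RingTheory.Flat.FaithfullyFlat.Algebra
import Mathlib.RingTheory.IntegralClosure.IntegrallyClosed

set_option autoImplicit false
universe u
open EtAlg
open scoped TensorProduct

namespace Groth.Agent.S18538

/-- Let A ⊆ B be an injective finite extension of integrally closed domains, with fraction fields K ⊆ L
and L separable over K. Then A → B → B ⊗_A B is exact, the second map being b ↦ b ⊗ 1 - 1 ⊗ b: every
element of B whose two images in B ⊗_A B agree comes from A. -/
theorem result
    (A B K L : Type u) [CommRing A] [CommRing B] [IsDomain A] [IsDomain B]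
    [IsIntegrallyClosed A] [IsIntegrallyClosed B] [Algebra A B] [FaithfulSMul A B] [Module.Finite A B]
    [Field K] [Field L] [Algebra A K] [IsFractionRing A K] [Algebra B L] [IsFractionRing B L]
    [Algebra K L] [Algebra A L] [IsScalarTower A K L] [IsScalarTower A B L]
    [Algebra.IsSeparable K L] :
    Algebra.IsEffective A B := by
  intro b
  refine ⟨fun hb => ?_, Algebra.TensorProduct.includeLeftSubRight_zero_of_mem_range⟩
  rw [Algebra.TensorProduct.includeLeftSubRight_apply, sub_eq_zero] at hb
  let i : B →ₐ[A] L := IsScalarTower.toAlgHom A B L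
  let m : B ⊗[A] B →ₐ[A] L ⊗[K] L :=
    Algebra.TensorProduct.lift
      (((Algebra.TensorProduct.includeLeft : L →ₐ[K] L ⊗[K] L).restrictScalars A).comp i)
      (((Algebra.TensorProduct.includeRight : L →ₐ[K] L ⊗[K] L).restrictScalars A).comp i)
      (fun _ _ => Commute.all _ _)
  have h2 := congrArg m hb
  simp only [m, Algebra.TensorProduct.lift_tmul, map_one, mul_one, one_mul] at h2
  have hmem : algebraMap B L b ∈ Set.range (algebraMap K L) :=
    ((Algebra.IsEffective.of_faithfullyFlat K L) _).mp (by
      rw [Algebra.TensorProduct.includeLeftSubRight_apply, sub_eq_zero]; exact h2)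
  obtain ⟨k, hk⟩ := hmem
  have hint : IsIntegral A k := by
    rw [← isIntegral_algHom_iff (IsScalarTower.toAlgHom A K L) (algebraMap K L).injective]
    change IsIntegral A (algebraMap K L k)
    rw [hk]
    exact (Algebra.IsIntegral.isIntegral b).map i
  obtain ⟨a, ha⟩ := IsIntegrallyClosed.isIntegral_iff.mp hint
  refine ⟨a, IsFractionRing.injective B L ?_⟩
  rw [Algebra.linearMap_apply, ← IsScalarTower.algebraMap_apply, IsScalarTower.algebraMap_apply A K L, ha, hk]

end Groth.Agent.S18538
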