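import Groth.Statements.S18541
import Groth.Agent.AVIdx.FrobPull
import Groth.Agent.Lib.AbDualBase

set_option backward.isDefEq.respectTransparency false
set_option backward.isDefEq.respectTransparency.types false
set_option linter.style.haveILetI false

set_option autoImplicit false
universe u
open CategoryTheory MonoidalCategory CartesianMonoidalCategory MonObj GrpObj AlgebraicGeometry
open AbVar

namespace Groth.Agent.S18541

open Groth.Agent.H23 Groth.Agent.AVPair
open scoped Groth.Agent.H23.PicMul

/-- Let k be a finite field with q elements and A an abelian variety over k (a commutative group scheme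
over k which is smooth and proper with geometrically connected fibres), given with a dual (A^t, φ)
for the fppf topology. Let π : A → A be the q-power Frobenius endomorphism of A (the identity on the
underlying space and the q-th power map on sections; a homomorphism) and π^t : A^t → A^t a transpose
of π. Let L be an invertible module on A and λ_L : A → A^t the homomorphism Λ(L) attached to L
through φ. Then π followed by λ_L followed by π^t is q·λ_L, the q-th power of λ_L in the group of
morphisms A → A^t. (The published statement fixes L ample and reads π^‡ ∘ π = [q] for the Rosati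
involution ‡ of L; its proof rewrites this as the displayed identity, which uses only that L is
invertible.) -/
theorem result (k : Type u) [Field k] [Finite k]
    (A At : Over (Spec (CommRingCat.of k)))
    [GrpObj A] [IsCommMonObj A] [Smooth A.hom] [IsProper A.hom] [GeometricallyConnected A.hom]
    [GrpObj At] [IsCommMonObj At]
    (φ : AgPol.DualMap A At) (hdual : AbDual.IsDualAV Scheme.fppfPrecoverage A At φ)
    (π : A ⟶ A) [IsMonHom π] (hπb : π.left.base = 𝟙 _) (hπle : ∀ U : A.left.Opens, U ≤ π.left ⁻¹ᵁ U)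
    (hπapp : ∀ (U : A.left.Opens) (s : Γ(A.left, U)), (π.left.appLE U U (hπle U)).hom s = s ^ Nat.card k)
    (πt : At ⟶ At) [IsMonHom πt] (hπt : AbDual.IsTranspose π φ φ πt)
    (L : A.left.Modules) (hL : PicF.IsInvertible L) (lam : A ⟶ At) (hlam : AgPol.IsLambda A At φ L lam) :
    π ≫ lam ≫ πt = lam ^ Nat.card k := by
  haveI : GeometricallyIntegral A.hom := AVDual.geometricallyIntegral_of_smooth A
  obtain ⟨N, hN, hNL, rfl⟩ := hlam
  let l : PicF.Cl A.left := PicF.cl L
  let n : PicF.Cl (A ⊗ A).left := PicF.cl N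
  have hl : PicF.IsInvertibleCl l := ⟨L, rfl, hL⟩
  have hn : PicF.IsInvertibleCl n := ⟨N, rfl, hN⟩
  have hspec : n * pl (fst A A) l * pl (snd A A) l = pl μ[A] l := (PicGrp.cl_eq_cl_iff _ _).2 hNL
  have hμ : μ[A] = fst A A * snd A A := by rw [Hom.mul_def, lift_fst_snd, Category.id_comp]
  have hπ : PicF.pullCl π.left l = l ^ Nat.card k := AVIdx.FrobPull.cl_pullback hL π.left hπb _ hπle hπapp
  have hπ' : pl π l = l ^ Nat.card k := hπ
  have haxis : pl (lift (𝟙 A) (toUnit A ≫ η[A])) n = 1 := by
    have h := congrArg (pl (lift (𝟙 A) (toUnit A ≫ η[A]))) hspec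
    simp only [map_mul, pl_pl, lift_fst, lift_snd, hμ, MonObj.comp_mul, pl_const hl, pl_id, _root_.mul_one,
      show (toUnit A ≫ η[A] : A ⟶ A) = 1 from rfl] at h
    obtain ⟨d, -, hd⟩ := exists_inv hl
    have := congrArg (· * d) h
    simpa only [show (toUnit A ≫ η[A] : A ⟶ A) = 1 from rfl, _root_.mul_assoc, hd, _root_.mul_one, show pl (1 : A ⟶ A) l = 1 from pl_const hl η[A]] using this
  have hslice : ∀ {c : PicF.Cl (A ⊗ A).left}, PicF.IsInvertibleCl c →
      pl (lift (𝟙 A) (toUnit A ≫ η[A])) c = 1 → AbDual.IsPicZeroCl A.hom A c := fun {c} hc h =>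
    AbDualBase.pz_of_slice η[A] hc (n := (1 : PicF.Cl (Spec (CommRingCat.of k))))
      ⟨_, rfl, PicLoc.isInvertible_structureModule _⟩ (h.trans (PicMul.pullCl_one A.hom).symm)
  have hzn : AbDual.IsPicZeroCl A.hom A n := hslice hn haxis
  have hzb : AbDual.IsPicZeroCl A.hom A (pl (π ▷ A) n) := by
    refine hslice (isInv_pl _ hn) ?_
    rw [pl_pl, show lift (𝟙 A) (toUnit A ≫ η[A]) ≫ π ▷ A = π ≫ lift (𝟙 A) (toUnit A ≫ η[A]) by
      simp [comp_lift], ← pl_pl, haxis, map_one]
  have h1 : φ A n ≫ πt = φ A (pl (π ▷ A) n) := by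
    rw [← hπt A n hzn, AVDual.bcMap_eq]; rfl
  rw [h1, ← AVDual.phi_pl hdual π hzb, pl_pl]
  have key : pl (A ◁ π ≫ π ▷ A) n = n ^ Nat.card k := by
    have h := congrArg (pl (A ◁ π ≫ π ▷ A)) hspec
    have e1 : (A ◁ π ≫ π ▷ A) ≫ fst A A = fst A A ≫ π := by simp
    have e2 : (A ◁ π ≫ π ▷ A) ≫ snd A A = snd A A ≫ π := by simp
    have e3 : (A ◁ π ≫ π ▷ A) ≫ μ[A] = μ[A] ≫ π := by
      rw [hμ, MonObj.comp_mul, MonObj.mul_comp, e1, e2]
    simp only [map_mul, pl_pl, e1, e2, e3] at h
    rw [← pl_pl (fst A A) π, ← pl_pl (snd A A) π, ← pl_pl μ[A] π, hπ', map_pow, map_pow, map_pow, ← hspec,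
      _root_.mul_pow, _root_.mul_pow] at h
    obtain ⟨d, -, hd⟩ := exists_inv (isInv_pl (fst A A) hl)
    obtain ⟨d', -, hd'⟩ := exists_inv (isInv_pl (snd A A) hl)
    have := congrArg (fun t => t * d' ^ Nat.card k * d ^ Nat.card k) h
    simpa only [_root_.mul_assoc, ← _root_.mul_pow, hd, hd', _root_.mul_one, one_pow, mul_left_comm _ d,
      mul_left_comm _ d'] using this
  rw [key]
  have hpow : ∀ j : ℕ, PicF.IsInvertibleCl (n ^ j) ∧ φ A (n ^ j) = φ A n ^ j := by
    intro j
    induction j with
    | zero => exact ⟨by rw [pow_zero]; exact isInv_one, by rw [pow_zero, pow_zero]; exact AVDual.phi_one hdual A⟩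
    | succ j ih =>
      refine ⟨by rw [pow_succ]; exact PicMul.isInvertibleCl_mul ih.1 hn, ?_⟩
      rw [pow_succ, pow_succ, AVDual.phi_mul hdual (hslice ih.1 (by rw [map_pow, haxis, one_pow])) hzn, ih.2]
  exact (hpow _).2

end Groth.Agent.S18541
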