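import Groth.Statements.S18575
import Groth.Agent.ReqForms45.Rigid
import Groth.Agent.ReqForms45.Realize
import Groth.Agent.DRHyp.Local
import Mathlib.RingTheory.Smooth.StandardSmoothCotangent
import Mathlib.AlgebraicGeometry.FunctionField

set_option autoImplicit false
universe u
open CategoryTheory AlgebraicGeometry Opposite
open REq

namespace Groth.Agent.S18575

open Groth.Agent.ReqForms45 TopologicalSpace

/-- Let k be an infinite field and X an integral scheme, proper and smooth over k, which is almost
R-trivial over k. Then for all integers i > 0 and m > 0 the space of global sections of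
(Ω^i_{X/k})^{⊗m} is zero. Here Ω^i is expressed through an O_X-module L that is an i-th exterior
power of the sheaf of differentials Ω_{X/k}, and the conclusion is that Γ(X, L^{⊗m}) has at most one
element. (The source assumes X geometrically connected rather than integral; for X smooth over k
with a k-rational point, which almost R-triviality provides, the two agree.) -/
theorem result (k : Type u) [Field k]
    [Infinite k] (X : Scheme.{u}) (f : X ⟶ Spec (CommRingCat.of k)) [IsIntegral X] [IsProper f]
    [Smooth f] (hR : REq.IsAlmostRTrivial f) (i m : ℕ) (hi : 0 < i) (hm : 0 < m)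
    (L : X.Modules) (hL : ExtPow.IsExtPow i (Omega.sheaf f) L) :
    Subsingleton ((CohB1.tensorPow L m).val.obj (op ⊤)) := by
  refine ⟨fun a b => sub_eq_zero.1 ?_⟩
  generalize a - b = s
  let M := CohB1.tensorPow L m
  obtain ⟨φ, hφ, hφi⟩ := (isRealized_tensorPow hL m).2
  let D : FormData f (Idx i m) :=
    { t := fun V => φ V (sRes f M (le_top : V.1 ≤ ⊤) (s : SMod f M ⊤))
      compat := fun V W h => by
        rw [hφ V W h]
        congr 1
        exact congr(($(M.presheaf.map_comp (homOfLE (le_top : V.1 ≤ ⊤)).op (homOfLE h).op)).hom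
          (s : Γ(M, ⊤))).symm }
  have := nonempty_idx hi hm
  have hzero : ∀ V : X.affineOpens, (V.1 : Set X).Nonempty →
      Module.Free (Sec f V.1) (Ω[Sec f V.1⁄k]) →
      sRes f M (le_top : V.1 ≤ ⊤) (s : SMod f M ⊤) = 0 := by
    intro V hne hfree
    have hη : genericPoint X ∈ V.1 := H23.RatExtend.genericPoint_mem V.1 hne.choose_spec
    have : Nonempty V.1 := ⟨⟨genericPoint X, hη⟩⟩
    let g : Sec f V.1 →+* X.functionField := (X.germToFunctionField V.1).hom
    let : Algebra k X.functionField := (g.comp (algebraMap k (Sec f V.1))).toAlgebra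
    let ψ : Sec f V.1 →ₐ[k] X.functionField := { g with commutes' := fun _ => rfl }
    have hψ : pointOf V ψ = X.fromSpecStalk (genericPoint X) :=
      V.2.fromSpecStalk_eq_fromSpecStalk hη
    have hbase : pointOf V ψ ≫ f = specMap k X.functionField := by
      rw [pointOf, Category.assoc, fromSec_comp, specA_base]
    let A : Pts f X.functionField := ⟨pointOf V ψ, hbase⟩
    have hA : A.1 (IsLocalRing.closedPoint X.functionField) = genericPoint X := by
      show (pointOf V ψ) _ = _
      rw [hψ]
      exact Scheme.fromSpecStalk_closedPoint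
    have h0 : tmap ψ (D.t V) = 0 :=
      Val.unique (D := D) (x := A.1) ⟨V, ψ, rfl, rfl⟩ (val_eq_zero_of_generic D hR A hA)
    have hloc : letI := ψ.toRingHom.toAlgebra
        IsLocalization (nonZeroDivisors (Sec f V.1)) X.functionField := by
      have := functionField_isFractionRing_of_isAffineOpen X V.1 V.2
      exact this
    obtain ⟨b', hb'⟩ := exists_basis_of_isLocalization (nonZeroDivisors (Sec f V.1)) ψ hloc
      (Module.Free.chooseBasis (Sec f V.1) (Ω[Sec f V.1⁄k]))
    have hinj := tmap_injective (ι := Idx i m) ψ (X.germToFunctionField_injective V.1) _ b' hb'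
    exact (hφi V hfree).1 ((hinj (h0.trans (map_zero _).symm)).trans (map_zero (φ V)).symm)
  have hcover : ∀ x : X, ∃ V : X.affineOpens, x ∈ V.1 ∧ Module.Free (Sec f V.1) (Ω[Sec f V.1⁄k]) := by
    intro x
    obtain ⟨V, hxV, hV, d, hd⟩ := DRHyp.exists_isChart (f := f) x
    let _ := DRHyp.kAlg f V
    have : Algebra.IsStandardSmooth k (Sec f V) := hd.isStandardSmooth
    exact ⟨⟨V, hV⟩, hxV, (inferInstance : Module.Free (Sec f V) (Ω[Sec f V⁄k]))⟩
  choose V hxV hfree using hcover
  refine TopCat.Sheaf.eq_of_locally_eq' ⟨M.presheaf, M.isSheaf⟩ (fun x => (V x).1) ⊤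
    (fun x => homOfLE le_top) (fun x _ => Opens.mem_iSup.2 ⟨x, hxV x⟩) _ _ fun x => ?_
  exact (hzero (V x) ⟨x, hxV x⟩ (hfree x)).trans (map_zero (sRes f M le_top)).symm

end Groth.Agent.S18575
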