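import Groth.Statements.S18576
import Groth.Agent.ReqArc45.Link
import Groth.Agent.PnCoh.Chow.Proper
import Groth.Agent.S18572
import Mathlib.AlgebraicGeometry.Geometrically.Integral
import Mathlib.AlgebraicGeometry.Morphisms.Proper
import Mathlib.Algebra.CharP.Algebra

set_option autoImplicit false
universe u
open CategoryTheory AlgebraicGeometry
open REq

namespace Groth.Agent.S18576

/-- Let k be a field of characteristic zero and X a scheme that is smooth, projective and geometrically
integral over k. If X is retract rational over k, in particular if X is stably rational over k, then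
X is R-trivial over k: for every field K containing k (in the universe of k), X(K) is non-empty and
any two K-points are R-equivalent. -/
theorem result (k : Type u) [Field k] [CharZero k]
    (X : Scheme.{u}) (f : X ⟶ Spec (CommRingCat.of k)) [GeometricallyIntegral f] [Smooth f]
    (hproj : Neron.IsProjectiveOver k (Over.mk f)) (hX : REq.IsRetractRational f) :
    REq.IsRTrivial f := by
  have : Subsingleton (Spec (CommRingCat.of k)) := inferInstanceAs (Subsingleton (PrimeSpectrum k))
  have : IsIntegral X := GeometricallyIntegral.isIntegral_of_subsingleton f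
  have : IsProper f := by
    obtain ⟨n, i, hi, hif⟩ := hproj
    change i ≫ CohB1.ProjSpaceOver.toBase n _ = f at hif
    rw [← hif]
    have := hi
    have : IsProper (CohB1.ProjSpaceOver.toBase n (Spec (CommRingCat.of k))) :=
      MorphismProperty.of_isPullback (P := @IsProper) (IsPullback.of_hasPullback (CohB1.ProjSpace.toSpec n (ULift.{u} ℤ))
        (specULiftZIsTerminal.from (Spec (CommRingCat.of k)))) (Groth.Agent.PnCoh.Chow.isProper_toSpec n (ULift.{u} ℤ))
    infer_instance
  obtain ⟨U, hUd, hU⟩ := Groth.Agent.S18572.result k X f hX
  intro K _ _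
  have : CharZero K := charZero_of_injective_algebraMap (algebraMap k K).injective
  obtain ⟨⟨A₀, hA₀⟩, heq⟩ := hU K
  refine ⟨⟨A₀⟩, fun A B => ?_⟩
  obtain ⟨A', hA', hAA'⟩ := Groth.Agent.ReqArc45.exists_elemLink_mem hX U hUd.nonempty A
  obtain ⟨B', hB', hBB'⟩ := Groth.Agent.ReqArc45.exists_elemLink_mem hX U hUd.nonempty B
  exact (Relation.EqvGen.rel _ _ hAA').trans _ _ _
    ((heq A' B' hA' hB').trans _ _ _ (Relation.EqvGen.symm _ _ (Relation.EqvGen.rel _ _ hBB')))

end Groth.Agent.S18576
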