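import Groth.Statements.S1865
import Groth.Agent.GrpSchLib.FieldAllComp

set_option autoImplicit false
set_option backward.isDefEq.respectTransparency false
set_option backward.isDefEq.respectTransparency.types false
universe u v
open CategoryTheory MonoidalCategory CartesianMonoidalCategory MonObj GrpObj AlgebraicGeometry
open GrpSch
open Groth.Agent.GrpSchLib TopologicalSpace CategoryTheory.MonoidalCategory CategoryTheory.CartesianMonoidalCategory CategoryTheory.Limits CategoryTheory.MonObj

namespace Groth.Agent.S1865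

/-- A group scheme over a field contains an open and closed subset containing the identity point which
is a countable union of affine opens. (The source does not mention the identity point; its
construction contains it, and without it the empty set would do.) -/
theorem result (K : Type u) [Field K] (G : Over (Spec (CommRingCat.of K))) [GrpObj G] : ∃ U : G.left.Opens, IsClosed (U : Set G.left) ∧ η[G].left (IsLocalRing.closedPoint K) ∈ U ∧ ∃ V : ℕ → G.left.Opens, (∀ n, IsAffineOpen (V n)) ∧ (U : Set G.left) = ⋃ n, (V n : Set G.left) := by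
  obtain ⟨V, hV, heV, -⟩ := exists_isAffineOpen_mem_and_subset
    (show η[G].left (IsLocalRing.closedPoint K) ∈ (⊤ : G.left.Opens) from trivial)
  let j : Over.mk (V.ι ≫ G.hom) ⟶ G := Over.homMk V.ι rfl
  have : IsAffine V.toScheme := hV
  have : IsAffineHom (V.ι ≫ G.hom) := isAffineHom_of_isAffine (V.ι ≫ G.hom)
  have : CompactSpace (Over.mk (V.ι ≫ G.hom) ⊗ Over.mk (V.ι ≫ G.hom)).left :=
    inferInstanceAs (CompactSpace ↥(pullback (V.ι ≫ G.hom) (V.ι ≫ G.hom)))
  have hcl : IsClosed (hull (V : Set G.left)) := isClosed_hull V.2 hV.isCompact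
  have hopen : IsOpen (hull (V : Set G.left)) := isOpen_hull V.2
  have hcpt : IsCompact (hull (V : Set G.left)) := by
    refine ((isCompact_range (j ⊗ₘ j).left.continuous).image μ[G].left.continuous).of_isClosed_subset
      hcl fun x ⟨c, hc, hcx⟩ => ?_
    obtain ⟨p, hp, hpx⟩ := exists_mul_eq_of_specializes hcx V.2 heV hc
    refine ⟨p, ?_, hpx⟩
    rw [range_tensorHom]
    show p ∈ prodSet (Set.range V.ι) (Set.range V.ι)
    rw [Scheme.Opens.range_ι]
    exact hp
  refine ⟨⟨_, hopen⟩, hcl, ⟨_, heV, specializes_rfl⟩, ?_⟩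
  obtain ⟨s, hs, e⟩ := isCompact_and_isOpen_iff_finite_and_eq_biUnion_affineOpens.mp ⟨hcpt, hopen⟩
  obtain ⟨f, hf⟩ := (hs.insert ⟨⊥, isAffineOpen_bot _⟩).countable.exists_eq_range (Set.insert_nonempty _ _)
  refine ⟨fun n => (f n).1, fun n => (f n).2, Set.ext fun x => ?_⟩
  show x ∈ hull (V : Set G.left) ↔ _
  rw [e]
  simp only [Set.mem_iUnion, exists_prop]
  constructor
  · rintro ⟨W, hW, hxW⟩
    obtain ⟨n, rfl⟩ := hf.subset (Set.mem_insert_of_mem _ hW)
    exact ⟨n, hxW⟩
  · rintro ⟨n, hn⟩
    rcases hf.superset (Set.mem_range_self n) with h | h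
    · rw [h] at hn; exact absurd hn (by simp)
    · exact ⟨_, h, hn⟩

end Groth.Agent.S1865
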