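import Groth.Statements.S18666
import Groth.Agent.PStalk95.Gor
import Groth.Agent.FlatLoc6.FiberSelf

set_option autoImplicit false
universe u
open GrProj

namespace Groth.Agent.S18666

open AlgebraicGeometry Pointwise in
/-- Let A = ⊕_{n ≥ 0} A_n be a commutative Noetherian graded ring satisfying condition (#) — there is an
integer d_0 such that for every d ≥ d_0 the Veronese subring A^(d) is generated by A_d over A_0,
equivalently A_{(n+1)d} is additively generated by the products A_d A_{nd} for every n ≥ 1 — and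
assume A is a Gorenstein ring. Then X = Proj A is a Gorenstein scheme: all of its local rings are
Gorenstein local rings. (The Cohen–Macaulay case of the same lemma is stated separately.) -/
theorem result (A : Type u) [CommRing A] (𝒜 : ℕ → AddSubgroup A) [GradedRing 𝒜] [LocCoh.IsGorensteinRing A] (hsharp : ∃ d₀ : ℕ, ∀ d : ℕ, d₀ ≤ d → ∀ n : ℕ, 1 ≤ n → 𝒜 ((n + 1) * d) = AddSubgroup.closure ((𝒜 d : Set A) * (𝒜 (n * d) : Set A))) (x : Proj 𝒜) : LocCoh.IsGorensteinLocalRing ((Proj 𝒜).presheaf.stalk x) := by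
  obtain ⟨p, _, hp, ⟨e⟩, n, hn, u, hu, hup⟩ := PStalk95.exists_point A 𝒜 x
  obtain ⟨d₀, hd₀⟩ := hsharp
  have h : ∀ d, d₀ ≤ d → ∃ a ∈ 𝒜 d, a ∉ p := fun d hd =>
    PStalk95.exists_mem_of_sharp hn hu hup fun m hm z hz => (hd₀ d hd m hm) ▸ hz
  obtain ⟨b, hb, hbp⟩ := h d₀ le_rfl
  obtain ⟨a, ha, hap⟩ := h (d₀ + 1) (Nat.le_succ _)
  haveI := PStalk95.gorenstein_of hp ha hb hap hbp
    (LocCoh.IsGorensteinRing.isGorensteinLocalRing_localization p)
  haveI := e.symm.isLocalRing
  haveI := isNoetherianRing_of_ringEquiv _ e.symm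
  exact LC.gorenstein_of_ringEquiv e.symm

end Groth.Agent.S18666
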