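import Groth.Statements.S18693
import Groth.Agent.GalTori.GalModel
import Groth.Agent.GalTori.IntegralPoint
import Groth.Agent.MultTypeLib.TorusFibre

set_option autoImplicit false
open CategoryTheory MonoidalCategory CartesianMonoidalCategory MonObj GrpObj AlgebraicGeometry
universe u
open MultTori
open WithConv TensorProduct

namespace Groth.Agent.S18693

/-- Let A be a discrete valuation ring whose fraction field is K, let K̂ be the completion of K at the
valuation of A (the adic completion at the height-one prime v of A) and Â ⊂ K̂ its ring of integers,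
and let T be an isotrivial A-torus (isomorphic, after one finite étale surjective base change, to a
split torus of some rank). Then T(K̂) = T(Â)·T(K): every point of T over Spec K̂ (as an A-scheme) is
the product, for the group law on points, of the restriction of a point over Spec Â and the
restriction of a point over Spec K. The restrictions are taken along given A-morphisms Spec K̂ →
Spec Â and Spec K̂ → Spec K whose underlying maps are the canonical ones. (In the printed copy the
completion signs of this formula are lost; the reading T(Â)·T(K) = T(K̂) is the one its proof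
establishes.) -/
theorem result
    (A : Type u) [CommRing A] [IsDomain A] [IsDiscreteValuationRing A]
    (v : IsDedekindDomain.HeightOneSpectrum A)
    (T : Over (Spec (CommRingCat.of A))) [GrpObj T]
    (hT : ∃ r : ℕ, TwC.Locally (Spec (CommRingCat.of A)) .finiteEtale
        (fun S' g => Red.IsSplitTorusWith (Fin r → ℤ) (Red.bc g T)))
    (ιA : Over.mk (Spec.map (CommRingCat.ofHom (algebraMap A (v.adicCompletion (FractionRing A))))) ⟶
      Over.mk (Spec.map (CommRingCat.ofHom (algebraMap A (v.adicCompletionIntegers (FractionRing A))))))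
    (hιA : ιA.left = Spec.map (CommRingCat.ofHom (algebraMap (v.adicCompletionIntegers (FractionRing A)) (v.adicCompletion (FractionRing A)))))
    (ιK : Over.mk (Spec.map (CommRingCat.ofHom (algebraMap A (v.adicCompletion (FractionRing A))))) ⟶
      Over.mk (Spec.map (CommRingCat.ofHom (algebraMap A (FractionRing A)))))
    (hιK : ιK.left = Spec.map (CommRingCat.ofHom (algebraMap (FractionRing A) (v.adicCompletion (FractionRing A)))))
    (x : Over.mk (Spec.map (CommRingCat.ofHom (algebraMap A (v.adicCompletion (FractionRing A))))) ⟶ T) :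
    ∃ (a : Over.mk (Spec.map (CommRingCat.ofHom (algebraMap A (v.adicCompletionIntegers (FractionRing A))))) ⟶ T)
      (b : Over.mk (Spec.map (CommRingCat.ofHom (algebraMap A (FractionRing A)))) ⟶ T),
      x = (ιA ≫ a) * (ιK ≫ b) := by
  classical
  obtain ⟨r, C, _, _, _, _, _, hs⟩ := GalTori.exists_split_etale A T hT
  obtain ⟨H, _, _, ⟨j⟩, ⟨e⟩⟩ := GalTori.exists_hopf_split A T C hs
  obtain ⟨B, _, _, _, _, _, _, _, G, _, _, _, _, hinj, hinv⟩ := GalTori.exists_galois_domain A C
  let P : MultTypeLib.Split A H := MultTypeLib.splitOfEquiv C e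
  letI : Algebra P.S B := (inferInstance : Algebra C B)
  haveI : IsScalarTower A P.S B := (inferInstance : IsScalarTower A C B)
  let E : B ⊗[A] H ≃ₐc[B] MonoidAlgebra B (TorusPts.Lat.{u} r) :=
    (P.homOver B).toBialgEquiv (P.extend_homOver_bijective B)
  obtain ⟨xh, hx⟩ := GrpSchLib.AffineHopf.exists_eq_spMap (R := A) (A := v.adicCompletion (FractionRing A)) (B := H)
    (x ≫ j.inv.hom.hom)
  obtain ⟨a, b, hab⟩ := GalTori.exists_factor v (G := G) hinj E xh
  have hA : ιA = GrpSchLib.AffineHopf.spMap
      (IsScalarTower.toAlgHom A (v.adicCompletionIntegers (FractionRing A)) (v.adicCompletion (FractionRing A))) :=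
    Over.OverMorphism.ext hιA
  have hK : ιK = GrpSchLib.AffineHopf.spMap
      (IsScalarTower.toAlgHom A (FractionRing A) (v.adicCompletion (FractionRing A))) :=
    Over.OverMorphism.ext hιK
  refine ⟨GrpSchLib.AffineHopf.spMap a ≫ j.hom.hom.hom, GrpSchLib.AffineHopf.spMap b ≫ j.hom.hom.hom, ?_⟩
  have hx' : x = GrpSchLib.AffineHopf.spMap xh ≫ j.hom.hom.hom := by
    rw [← hx]
    erw [Category.assoc]
    have h : j.inv.hom.hom ≫ j.hom.hom.hom = 𝟙 T := congrArg (fun f => f.hom.hom) j.inv_hom_id
    erw [h, Category.comp_id]
  rw [hx', hab, hA, hK, ← GrpSchLib.AffineHopf.spMap_mul, ← GrpSchLib.AffineHopf.spMap_comp,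
    ← GrpSchLib.AffineHopf.spMap_comp]
  erw [MonObj.mul_comp]
  simp only [Category.assoc]
  rfl

end Groth.Agent.S18693
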