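import Groth.Statements.S18694
import Groth.Agent.DSPtsLib.Basic
import Mathlib.RingTheory.Ideal.GoingUp
import Mathlib.RingTheory.Ideal.Quotient.Operations

set_option autoImplicit false
open CategoryTheory MonoidalCategory CartesianMonoidalCategory MonObj GrpObj AlgebraicGeometry
universe u
open MultTori
open scoped TensorProduct

namespace Groth.Agent.S18694

/-- In the case of the quasitrivial torus R_{B/A}(G_m), let A be a semilocal ring (finitely many maximal
ideals m, residue fields κ_m = A/m), B a finite étale A-algebra, and (P, q) a Weil restriction along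
Spec B → Spec A of the multiplicative group over B (P an A-scheme with q : P ×_A B → G_{m,B}
universal). Then the reduction map P(A) → ∏_m P(κ_m) is surjective: every family (u_m) of κ_m-points
of P over the closed points of Spec A is the family of restrictions of one section of P over A. (The
source states this for every invertible A-torus and reduces it to this case; the
invertible/quasitrivial notions are not available here, so only this case is stated.) -/
theorem result
    (A : Type u) [CommRing A] [Finite (MaximalSpectrum A)]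
    (B : Type u) [CommRing B] [Algebra A B] [Module.Finite A B] [Algebra.Etale A B]
    (P : Over (Spec (CommRingCat.of A))) (q : Red.bc (Spec.map (CommRingCat.ofHom (algebraMap A B))) P ⟶ Red.Gm (Spec (CommRingCat.of B)))
    (hP : WeilRes.IsWeilRes (Spec.map (CommRingCat.ofHom (algebraMap A B))) (Red.Gm (Spec (CommRingCat.of B))) P q)
    (u : ∀ m : MaximalSpectrum A, Spec (CommRingCat.of (A ⧸ m.asIdeal)) ⟶ P.left)
    (hu : ∀ m : MaximalSpectrum A, u m ≫ P.hom = (Spec.map (CommRingCat.ofHom (Ideal.Quotient.mk m.asIdeal)))) :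
    ∃ s : Spec (CommRingCat.of A) ⟶ P.left, s ≫ P.hom = 𝟙 (Spec (CommRingCat.of A)) ∧
      ∀ m : MaximalSpectrum A, (Spec.map (CommRingCat.ofHom (Ideal.Quotient.mk m.asIdeal))) ≫ s = u m := by
  let f : Spec (CommRingCat.of B) ⟶ Spec (CommRingCat.of A) := Spec.map (CommRingCat.ofHom (algebraMap A B))
  let T : MaximalSpectrum A → Over (Spec (CommRingCat.of A)) := fun m =>
    Over.mk (Spec.map (CommRingCat.ofHom (algebraMap A (A ⧸ m.asIdeal))))
  let g : ∀ m, T m ⟶ P := fun m => Over.homMk (u m) (hu m)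
  let T₀ : Over (Spec (CommRingCat.of A)) := Over.mk (𝟙 _)
  let r : ∀ m : MaximalSpectrum A, B →+* (TensorProduct A (A ⧸ m.asIdeal) B) := fun m => (Algebra.TensorProduct.includeRight (R := A) (A := A ⧸ m.asIdeal) (B := B)).toRingHom
  let e : ∀ m, Groth.Agent.DSPtsLib.spU (Spec.map (CommRingCat.ofHom (r m))) ⟶ Red.bc f (T m) := fun m =>
    Over.homMk (pullbackSpecIso A (A ⧸ m.asIdeal) B).inv (pullbackSpecIso_inv_snd A (A ⧸ m.asIdeal) B)
  have he : ∀ m, IsIso (e m) := fun m => by
    have : IsIso ((Over.forget _).map (e m)) := inferInstanceAs (IsIso (pullbackSpecIso A (A ⧸ m.asIdeal) B).inv)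
    exact isIso_of_reflects_iso (e m) (Over.forget _)
  choose χ hχ using fun m => Groth.Agent.DSPtsLib.exists_eq_pt _ (e m ≫ WeilRes.restr f q (T m) (g m))
  let gen : Groth.Agent.DSPtsLib.CoordM.{u} ℤ := MonoidAlgebra.single (Multiplicative.ofAdd 1) 1
  have hgen : IsUnit gen := ⟨⟨gen, MonoidAlgebra.single (Multiplicative.ofAdd (-1)) 1,
    by simp [gen, MonoidAlgebra.single_mul_single, ← ofAdd_add, MonoidAlgebra.one_def],
    by simp [gen, MonoidAlgebra.single_mul_single, ← ofAdd_add, MonoidAlgebra.one_def]⟩, rfl⟩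
  -- lift the units along `B → ∏ B/mB`
  have hrs : ∀ m, Function.Surjective (r m) := fun m c => by
    induction c using TensorProduct.induction_on with
    | zero => exact ⟨0, map_zero _⟩
    | tmul x y =>
      obtain ⟨a, rfl⟩ := Ideal.Quotient.mk_surjective x
      refine ⟨a • y, ?_⟩
      show (1 : A ⧸ m.asIdeal) ⊗ₜ[A] (a • y) = _
      rw [TensorProduct.tmul_smul, TensorProduct.smul_tmul', Algebra.smul_def, _root_.mul_one]
      rfl
    | add x y hx hy =>
      obtain ⟨x', hx'⟩ := hx
      obtain ⟨y', hy'⟩ := hy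
      exact ⟨x' + y', by rw [map_add, hx', hy']⟩
  choose b hb using fun m => hrs m (χ m gen)
  classical
  have := Fintype.ofFinite (MaximalSpectrum A)
  have hcop : Pairwise (Function.onFun IsCoprime fun m : MaximalSpectrum A => m.asIdeal) := fun i j hij =>
    Ideal.isCoprime_iff_sup_eq.2 (i.isMaximal.coprime_of_ne j.isMaximal fun h => hij (MaximalSpectrum.ext h))
  choose a ha using fun m₀ : MaximalSpectrum A =>
    Ideal.pi_quotient_surjective hcop (fun m => if m = m₀ then 1 else 0)
  let b₀ : B := ∑ m, a m • b m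
  have hb₀ : ∀ m, r m b₀ = χ m gen := fun m => by
    show (1 : A ⧸ m.asIdeal) ⊗ₜ[A] b₀ = _
    rw [TensorProduct.tmul_sum, Finset.sum_eq_single m]
    · rw [TensorProduct.tmul_smul, TensorProduct.smul_tmul', Algebra.smul_def, _root_.mul_one]
      rw [show algebraMap A (A ⧸ m.asIdeal) (a m) = 1 by
        have := ha m m; simp only [↓reduceIte] at this; exact this]
      exact hb m
    · intro m' _ hne
      rw [TensorProduct.tmul_smul, TensorProduct.smul_tmul', Algebra.smul_def, _root_.mul_one,
        show algebraMap A (A ⧸ m.asIdeal) (a m') = 0 by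
          have := ha m' m; simp only [if_neg (Ne.symm hne)] at this; exact this,
        TensorProduct.zero_tmul]
    · simp
  have hub : IsUnit b₀ := by
    by_contra h
    obtain ⟨M, hM, hbM⟩ := exists_max_ideal_of_mem_nonunits h
    have hm : (M.comap (algebraMap A B)).IsMaximal := Ideal.isMaximal_comap_of_isIntegral_of_isMaximal M
    let m : MaximalSpectrum A := ⟨M.comap (algebraMap A B), hm⟩
    let _ := Ideal.Quotient.field M
    let φ : (TensorProduct A (A ⧸ m.asIdeal) B) →ₐ[A] B ⧸ M := Algebra.TensorProduct.lift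
      (Ideal.Quotient.liftₐ m.asIdeal (Algebra.ofId A (B ⧸ M)) fun x hx => Ideal.Quotient.eq_zero_iff_mem.2 hx)
      (Ideal.Quotient.mkₐ A M) (fun _ _ => Commute.all _ _)
    have h1 : φ (r m b₀) = Ideal.Quotient.mk M b₀ := by
      show φ ((1 : A ⧸ m.asIdeal) ⊗ₜ[A] b₀) = _
      rw [Algebra.TensorProduct.lift_tmul, map_one, _root_.one_mul]
      rfl
    have h2 : IsUnit (φ (r m b₀)) := by rw [hb₀]; exact (hgen.map (χ m)).map φ
    rw [h1, Ideal.Quotient.eq_zero_iff_mem.2 hbM] at h2
    exact not_isUnit_zero h2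
  let zpw : Multiplicative ℤ →* B := (Units.coeHom B).comp (zpowersHom Bˣ hub.unit)
  let χ₀ : Groth.Agent.DSPtsLib.CoordM.{u} ℤ →+* B :=
    MonoidAlgebra.liftNCRingHom ((algebraMap ℤ B).comp ULift.ringEquiv.toRingHom) zpw (fun _ _ => Commute.all _ _)
  have hχ₀ : ∀ m, (r m).comp χ₀ = χ m := fun m => by
    refine MonoidAlgebra.ringHom_ext (fun z => ?_) (fun k => ?_)
    · exact RingHom.congr_fun (Groth.Agent.DSPtsLib.ulift_ringHom_ext
        (((r m).comp χ₀).comp MonoidAlgebra.singleOneRingHom) ((χ m).comp MonoidAlgebra.singleOneRingHom)) z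
    · have heq : (((r m).comp χ₀ : _ →+* (TensorProduct A (A ⧸ m.asIdeal) B)) : _ →* (TensorProduct A (A ⧸ m.asIdeal) B)).comp (MonoidAlgebra.of (ULift.{u} ℤ) (Multiplicative ℤ)) =
          ((χ m : _ →* (TensorProduct A (A ⧸ m.asIdeal) B))).comp (MonoidAlgebra.of (ULift.{u} ℤ) (Multiplicative ℤ)) := by
        apply MonoidHom.ext_mint
        show r m (χ₀ gen) = χ m gen
        rw [← hb₀]
        refine congrArg (r m) ((MonoidAlgebra.liftNCRingHom_single _ zpw _ _ _).trans ?_)
        simp [zpw, zpowersHom]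
      exact DFunLike.congr_fun heq k
  -- the section
  let x : Red.bc f T₀ ⟶ Red.Gm (Spec (CommRingCat.of B)) :=
    (Over.homMk (Limits.pullback.snd T₀.hom f) (Category.comp_id _) : Red.bc f T₀ ⟶ Groth.Agent.DSPtsLib.spU (𝟙 _)) ≫
      Groth.Agent.DSPtsLib.pt (𝟙 _) χ₀
  obtain ⟨s, hs⟩ := (hP T₀).2 x
  refine ⟨s.left, Over.w s, fun m => ?_⟩
  let t : T m ⟶ T₀ := Over.homMk (Spec.map (CommRingCat.ofHom (Ideal.Quotient.mk m.asIdeal))) (Category.comp_id _)
  suffices h : t ≫ s = g m from congrArg CommaMorphism.left h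
  apply (hP (T m)).1
  rw [WeilRes.restr_comp, hs]
  have := he m
  rw [← cancel_epi (e m), hχ m, ← hχ₀ m]
  rw [← Groth.Agent.DSPtsLib.pt_comp (𝟙 _) χ₀ (r m) _ (Category.comp_id _)]
  simp only [x, ← Category.assoc]
  congr 1
  refine Over.OverMorphism.ext ?_
  show ((e m).left ≫ ((Over.pullback f).map t).left) ≫ Limits.pullback.snd T₀.hom f = Spec.map (CommRingCat.ofHom (r m))
  refine (Category.assoc _ _ _).trans ((congrArg ((e m).left ≫ ·) (Over.w ((Over.pullback f).map t))).trans ?_)
  exact pullbackSpecIso_inv_snd A (A ⧸ m.asIdeal) B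

end Groth.Agent.S18694
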