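import Groth.Statements.S18696
import Groth.Agent.GalTori.FromDVR
import Groth.Agent.GalTori.GalModel
import Groth.Agent.GalTori.Coords
import Groth.Agent.GalTori.Retract

set_option autoImplicit false
open CategoryTheory MonoidalCategory CartesianMonoidalCategory MonObj GrpObj AlgebraicGeometry
universe u
open MultTori
open TensorProduct

namespace Groth.Agent.S18696

/-- (v) ⇒ (viii): let k be a field and T an isotrivial k-torus (isomorphic to a split torus of some rank
after one finite étale surjective base change). If for every discrete valuation ring A containing k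
(a k-algebra), with residue field κ, the reduction map T(A) → T(κ) is surjective, then T is retract
rational over k: there are a nonempty open subscheme U of T, an open subscheme Y of an affine space
over k and k-morphisms U → Y → U whose composite is the identity of U. -/
theorem result
    (k : Type u) [Field k] (T : Over (Spec (CommRingCat.of k))) [GrpObj T]
    (hT : ∃ r : ℕ, TwC.Locally (Spec (CommRingCat.of k)) .finiteEtale
        (fun S' g => Red.IsSplitTorusWith (Fin r → ℤ) (Red.bc g T)))
    (h : ∀ (A : Type u) [CommRing A] [IsDomain A] [IsDiscreteValuationRing A] [Algebra k A]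
        (u : Spec (CommRingCat.of (IsLocalRing.ResidueField A)) ⟶ T.left),
        u ≫ T.hom = Spec.map (CommRingCat.ofHom ((IsLocalRing.residue A).comp (algebraMap k A))) →
        ∃ s : Spec (CommRingCat.of A) ⟶ T.left, s ≫ T.hom = Spec.map (CommRingCat.ofHom (algebraMap k A)) ∧
          Spec.map (CommRingCat.ofHom (IsLocalRing.residue A)) ≫ s = u) :
    ∃ (U : T.left.Opens) (n : ℕ) (Y : (Spec (CommRingCat.of (MvPolynomial (Fin n) k))).Opens)
        (a : (U : Scheme.{u}) ⟶ (Y : Scheme.{u})) (b : (Y : Scheme.{u}) ⟶ (U : Scheme.{u})),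
        (U : Set T.left).Nonempty ∧ a ≫ b = 𝟙 (U : Scheme.{u}) ∧
        a ≫ Y.ι ≫ Spec.map (CommRingCat.ofHom (algebraMap k (MvPolynomial (Fin n) k))) = U.ι ≫ T.hom ∧
        b ≫ U.ι ≫ T.hom = Y.ι ≫ Spec.map (CommRingCat.ofHom (algebraMap k (MvPolynomial (Fin n) k))) := by
  classical
  obtain ⟨H, _, _, _, ⟨t⟩, hdom⟩ := GalTori.exists_coords T (GalTori.isTorus_of_finiteEtale T hT)
  obtain ⟨r, C, _, _, _, _, _, hs⟩ := GalTori.exists_split_etale k T hT
  obtain ⟨H', _, _, ⟨t'⟩, ⟨e'⟩⟩ := GalTori.exists_hopf_split k T C hs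
  obtain ⟨q⟩ := TorusPts.exists_bialgEquiv (t'.trans t.symm)
  have : Algebra.FiniteType k H := by
    have : Group.FG (TorusPts.Lat.{u} r) := by
      haveI : AddGroup.FG (Fin r → ℤ) := Module.Finite.iff_addGroup_fg.mp inferInstance
      haveI : Group.FG (Multiplicative (Fin r → ℤ)) := inferInstance
      exact Group.fg_of_surjective (f := (MulEquiv.ulift.symm : Multiplicative (Fin r → ℤ) ≃* TorusPts.Lat.{u} r).toMonoidHom)
        (MulEquiv.surjective _)
    have : Algebra.FiniteType C (C ⊗[k] H') :=
      Algebra.FiniteType.equiv (inferInstance : Algebra.FiniteType C (MonoidAlgebra C (TorusPts.Lat.{u} r)))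
        (e'.symm : MonoidAlgebra C (TorusPts.Lat.{u} r) ≃ₐ[C] C ⊗[k] H')
    have h' : Algebra.FiniteType k H' := Algebra.FiniteType.of_finiteType_tensorProduct_of_faithfullyFlat C
    first
      | exact Algebra.FiniteType.equiv h' (q : H' ≃ₐ[k] H)
      | exact Algebra.FiniteType.equiv h' (q.symm : H' ≃ₐ[k] H)
  have := hdom (AlgebraicClosure k)
  have : IsDomain H := by
    have := hdom k
    exact (Algebra.TensorProduct.lid k H).symm.toMulEquiv.isDomain (k ⊗[k] H)
  let e : Spec (CommRingCat.of H) ≅ T.left := (Over.forget _).mapIso ((Grp.forget _).mapIso t)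
  have he : e.hom ≫ T.hom = Spec.map (CommRingCat.ofHom (algebraMap k H)) := Over.w t.hom.hom.hom
  have he' : e.inv ≫ Spec.map (CommRingCat.ofHom (algebraMap k H)) = T.hom := by
    rw [← he, Iso.inv_hom_id_assoc]
  obtain ⟨n, Q, c, α, β, hc, hαβ⟩ := GalTori.FromDVR.exists_retract_data (k := k) H fun A _ _ _ _ x => by
    obtain ⟨s, hs, hs'⟩ := h A (Spec.map (CommRingCat.ofHom x.toRingHom) ≫ e.hom) (by
      rw [Category.assoc, he, ← Spec.map_comp, ← CommRingCat.ofHom_comp]
      exact congrArg (fun f => Spec.map (CommRingCat.ofHom f)) x.comp_algebraMap)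
    obtain ⟨σ, hσ⟩ := GalTori.exists_algHom (k := k) (B := H) (C := A) (s ≫ e.inv) (by
      rw [Category.assoc, he', hs])
    refine ⟨σ, fun a => ?_⟩
    have h1 : Spec.map (CommRingCat.ofHom ((IsLocalRing.residue A).comp σ.toRingHom)) =
        Spec.map (CommRingCat.ofHom x.toRingHom) := by
      rw [CommRingCat.ofHom_comp, Spec.map_comp, hσ, ← Category.assoc, hs', Category.assoc, Iso.hom_inv_id,
        Category.comp_id]
    exact congrArg (fun f => f.hom a) (Spec.map_injective h1)
  let P := MvPolynomial (Fin n) k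
  let lq : Spec (CommRingCat.of (Localization.Away Q)) ⟶ Spec (CommRingCat.of P) :=
    Spec.map (CommRingCat.ofHom (algebraMap P (Localization.Away Q)))
  have : IsOpenImmersion lq := IsOpenImmersion.of_isLocalization Q
  let lf₀ : Spec (CommRingCat.of (Localization.Away c)) ⟶ Spec (CommRingCat.of H) :=
    Spec.map (CommRingCat.ofHom (algebraMap H (Localization.Away c)))
  have : IsOpenImmersion lf₀ := IsOpenImmersion.of_isLocalization c
  let lf := lf₀ ≫ e.hom
  have : Nontrivial (Localization.Away c) := by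
    have : IsDomain (Localization.Away c) :=
      IsLocalization.isDomain_localization (powers_le_nonZeroDivisors_of_noZeroDivisors hc)
    infer_instance
  let εY := lq.isoOpensRange
  let εU := lf.isoOpensRange
  have hY : εY.hom ≫ lq.opensRange.ι = lq := lq.isoOpensRange_hom_ι
  have hU : εU.hom ≫ lf.opensRange.ι = lf := lf.isoOpensRange_hom_ι
  refine ⟨lf.opensRange, n, lq.opensRange, εU.inv ≫ Spec.map (CommRingCat.ofHom α.toRingHom) ≫ εY.hom,
    εY.inv ≫ Spec.map (CommRingCat.ofHom β.toRingHom) ≫ εU.hom, ?_, ?_, ?_, ?_⟩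
  · obtain ⟨p⟩ := (inferInstance : Nonempty (PrimeSpectrum (Localization.Away c)))
    exact ⟨lf p, p, rfl⟩
  · simp only [Category.assoc, Iso.hom_inv_id_assoc]
    rw [← Category.assoc (Spec.map _) (Spec.map _), ← Spec.map_comp, ← CommRingCat.ofHom_comp,
      show α.toRingHom.comp β.toRingHom = RingHom.id _ from congrArg AlgHom.toRingHom hαβ, CommRingCat.ofHom_id,
      Spec.map_id, Category.id_comp, Iso.inv_hom_id]
  · simp only [Category.assoc]
    rw [reassoc_of% hY, ← Iso.inv_hom_id_assoc εU (lf.opensRange.ι ≫ T.hom), reassoc_of% hU]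
    congr 1
    show _ = (lf₀ ≫ e.hom) ≫ T.hom
    rw [Category.assoc, he]
    simp only [lq, lf₀, ← Spec.map_comp, ← CommRingCat.ofHom_comp]
    congr 2
    rw [← IsScalarTower.algebraMap_eq, ← IsScalarTower.algebraMap_eq]
    exact α.comp_algebraMap
  · simp only [Category.assoc]
    rw [reassoc_of% hU, ← Iso.inv_hom_id_assoc εY (lq.opensRange.ι ≫ _), reassoc_of% hY]
    congr 1
    show _ ≫ (lf₀ ≫ e.hom) ≫ T.hom = _
    rw [Category.assoc, he]
    simp only [lq, lf₀, ← Spec.map_comp, ← CommRingCat.ofHom_comp]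
    congr 2
    rw [← IsScalarTower.algebraMap_eq, ← IsScalarTower.algebraMap_eq]
    exact β.comp_algebraMap

end Groth.Agent.S18696
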