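import Groth.Statements.S18698
import Groth.Agent.GalTori.FromDVR
import Groth.Agent.GalTori.Coords
import Groth.Agent.GalTori.Retract
import Groth.Agent.GalTori.Stably
import Mathlib.AlgebraicGeometry.AffineSpace

set_option autoImplicit false
open CategoryTheory MonoidalCategory CartesianMonoidalCategory MonObj GrpObj AlgebraicGeometry
universe u
open MultTori
open CategoryTheory.Limits
open scoped TensorProduct

namespace Groth.Agent.S18698

/-- (v) ⇒ (vi): let k be a field and T an isotrivial k-torus (isomorphic to a split torus of some rank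
after one finite étale surjective base change). If for every discrete valuation ring A containing k
(a k-algebra), with residue field κ, the reduction map T(A) → T(κ) is surjective, then there is an
isotrivial k-torus T₁ such that the k-scheme T ×_k T₁ is k-rational, i.e. birational over k to an
affine space over k. -/
theorem result
    (k : Type u) [Field k] (T : Over (Spec (CommRingCat.of k))) [GrpObj T]
    (hT : ∃ r : ℕ, TwC.Locally (Spec (CommRingCat.of k)) .finiteEtale
        (fun S' g => Red.IsSplitTorusWith (Fin r → ℤ) (Red.bc g T)))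
    (h : ∀ (A : Type u) [CommRing A] [IsDomain A] [IsDiscreteValuationRing A] [Algebra k A]
        (u : Spec (CommRingCat.of (IsLocalRing.ResidueField A)) ⟶ T.left),
        u ≫ T.hom = Spec.map (CommRingCat.ofHom ((IsLocalRing.residue A).comp (algebraMap k A))) →
        ∃ s : Spec (CommRingCat.of A) ⟶ T.left, s ≫ T.hom = Spec.map (CommRingCat.ofHom (algebraMap k A)) ∧
          Spec.map (CommRingCat.ofHom (IsLocalRing.residue A)) ≫ s = u) :
    ∃ (T₁ : Over (Spec (CommRingCat.of k))) (_ : GrpObj T₁),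
      (∃ r : ℕ, TwC.Locally (Spec (CommRingCat.of k)) .finiteEtale (fun S' g => Red.IsSplitTorusWith (Fin r → ℤ) (Red.bc g T₁))) ∧
      Scheme.IsRationalOver (T ⊗ T₁).hom := by
  classical
  obtain ⟨H, _, _, _, ⟨t⟩, hdom⟩ := GalTori.exists_coords T (GalTori.isTorus_of_finiteEtale T hT)
  obtain ⟨r, L₀, _, _, ⟨s⟩⟩ := AGFRoot.exists_split_field (GalTori.isTorus_of_finiteEtale T hT)
  obtain ⟨d⟩ := GrpSchLib.AffineHopf.nonempty_DS_iso L₀ (Fin r → ℤ)
  obtain ⟨b⟩ := GrpSchLib.AffineHopf.nonempty_bc_sp (R := k) L₀ H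
  obtain ⟨e₁⟩ := TorusPts.exists_bialgEquiv
    (b.symm.trans (((Over.pullback (Spec.map (CommRingCat.ofHom (algebraMap k L₀)))).mapGrp.mapIso t).trans (s.trans d.symm)))
  obtain ⟨L, _, _, _, _, ⟨eL⟩⟩ := TorusPts.exists_galois_split L₀
    (e₁.trans (MonoidAlgebra.domCongrBialgEquiv L₀ L₀ MulEquiv.ulift.symm))
  have : Algebra.FiniteType k H := by
    have : Group.FG (TorusPts.Lat.{u} r) := by
      haveI : AddGroup.FG (Fin r → ℤ) := Module.Finite.iff_addGroup_fg.mp inferInstance
      haveI : Group.FG (Multiplicative (Fin r → ℤ)) := inferInstance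
      exact Group.fg_of_surjective (f := (MulEquiv.ulift.symm : Multiplicative (Fin r → ℤ) ≃* TorusPts.Lat.{u} r).toMonoidHom)
        (MulEquiv.surjective _)
    have : Algebra.FiniteType L (L ⊗[k] H) :=
      Algebra.FiniteType.equiv (inferInstance : Algebra.FiniteType L (MonoidAlgebra L (TorusPts.Lat.{u} r)))
        (eL.symm : MonoidAlgebra L (TorusPts.Lat.{u} r) ≃ₐ[L] L ⊗[k] H)
    exact Algebra.FiniteType.of_finiteType_tensorProduct_of_faithfullyFlat L
  have := hdom (AlgebraicClosure k)
  have : IsDomain H := by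
    have := hdom k
    exact (Algebra.TensorProduct.lid k H).symm.toMulEquiv.isDomain (k ⊗[k] H)
  let e : Spec (CommRingCat.of H) ≅ T.left := (Over.forget _).mapIso ((Grp.forget _).mapIso t)
  have he : e.hom ≫ T.hom = Spec.map (CommRingCat.ofHom (algebraMap k H)) := Over.w t.hom.hom.hom
  have he' : e.inv ≫ Spec.map (CommRingCat.ofHom (algebraMap k H)) = T.hom := by
    rw [← he, Iso.inv_hom_id_assoc]
  obtain ⟨n, Q, c, α, β, hc, hαβ⟩ := GalTori.FromDVR.exists_retract_data (k := k) H fun A _ _ _ _ x => by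
    obtain ⟨s, hs, hs'⟩ := h A (Spec.map (CommRingCat.ofHom x.toRingHom) ≫ e.hom) (by
      rw [Category.assoc, he, ← Spec.map_comp, ← CommRingCat.ofHom_comp]
      exact congrArg (fun f => Spec.map (CommRingCat.ofHom f)) x.comp_algebraMap)
    obtain ⟨σ, hσ⟩ := GalTori.exists_algHom (k := k) (B := H) (C := A) (s ≫ e.inv) (by
      rw [Category.assoc, he', hs])
    refine ⟨σ, fun a => ?_⟩
    have h1 : Spec.map (CommRingCat.ofHom ((IsLocalRing.residue A).comp σ.toRingHom)) =
        Spec.map (CommRingCat.ofHom x.toRingHom) := by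
      rw [CommRingCat.ofHom_comp, Spec.map_comp, hσ, ← Category.assoc, hs', Category.assoc, Iso.hom_inv_id,
        Category.comp_id]
    exact congrArg (fun f => f.hom a) (Spec.map_injective h1)
  obtain ⟨H₁, _, _, _, r₁, S, f, g, hsplit, hf, hg, ⟨efg⟩⟩ := GalTori.exists_complement H L eL α β hc hαβ
  refine ⟨GrpSchLib.AffineHopf.sp k H₁, inferInstance, ⟨r₁, hsplit⟩, ⟨S, ?_⟩⟩
  let p₁ : Spec (CommRingCat.of H₁) ⟶ Spec (CommRingCat.of k) := Spec.map (CommRingCat.ofHom (algebraMap k H₁))
  let m : pullback (Spec.map (CommRingCat.ofHom (algebraMap k H))) p₁ ⟶ pullback T.hom p₁ :=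
    pullback.map _ _ _ _ e.hom (𝟙 _) (𝟙 _) (by rw [Category.comp_id, he]) (by simp)
  have hm : IsIso m := pullback.map_isIso ..
  let eX : Spec (CommRingCat.of (H ⊗[k] H₁)) ≅ (T ⊗ GrpSchLib.AffineHopf.sp k H₁).left :=
    (pullbackSpecIso k H H₁).symm ≪≫ @asIso _ _ _ _ m hm
  refine GalTori.birationalOver_of_away eX (AffineSpace.SpecIso S (CommRingCat.of k)).symm ?_ ?_ hf hg efg
  · show ((pullbackSpecIso k H H₁).inv ≫ m) ≫ pullback.fst T.hom p₁ ≫ T.hom = _
    rw [Category.assoc, show m ≫ pullback.fst T.hom p₁ ≫ T.hom =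
      pullback.fst _ _ ≫ Spec.map (CommRingCat.ofHom (algebraMap k H)) by
        show pullback.map _ _ _ _ _ _ _ _ _ ≫ _ = _
        rw [pullback.map, pullback.lift_fst_assoc, Category.assoc]
        exact congrArg (_ ≫ ·) he]
    rw [pullbackSpecIso_inv_fst'_assoc, ← Spec.map_comp, ← CommRingCat.ofHom_comp, ← IsScalarTower.algebraMap_eq]
  · exact AffineSpace.SpecIso_inv_over (n := S) (CommRingCat.of k)
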