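import Groth.Statements.S18712
import Groth.Agent.QGorRing.InfCritQuot
import Groth.Agent.S18709

set_option autoImplicit false
universe u
open QGor

namespace Groth.Agent.S18712

open TensorProduct in
/-- Infinitesimal criterion, affine-local form. Let R be a Noetherian local ring with maximal ideal m, C
a finitely generated flat R-algebra, y = n a prime of C over m at which the fibre C_n/mC_n satisfies
S₂ (the structure morphism satisfies relative S₂ at y), and F a finite reflexive C-module which is
free at every prime not containing an ideal J such that every fibre local ring C_q/pC_q at primes q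
⊇ J has dimension ≥ 2 (F is locally free in codimension one on each fibre). Suppose that for every
surjective homomorphism R → A′ onto an Artinian local ring and the Noetherian pushout C′ = A′ ⊗_R C,
at every prime q′ of C′ lying over n the double dual (C′ ⊗_C F)^∨∨ is flat over A′ at q′ and its
fibre stalk satisfies S₂. Then F is flat over R at n and the fibre stalk F_n/mF_n satisfies S₂ (F
satisfies relative S₂ at y). Test rings A′ range over the universe of R. -/
theorem result (R C : Type u) [CommRing R] [CommRing C] [IsNoetherianRing R] [IsLocalRing R] [IsNoetherianRing C]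
    [Algebra R C] [Module.Flat R C] (hft : Algebra.FiniteType R C)
    (n : PrimeSpectrum C) (hn : (IsLocalRing.maximalIdeal R).map (algebraMap R C) ≤ n.asIdeal)
    (hS2 : LocCoh.HasSk 2 (EGA4.FibLocRing R C n.asIdeal) (EGA4.FibLocRing R C n.asIdeal))
    (F : Type u) [AddCommGroup F] [Module C F] [Module R F] [IsScalarTower R C F] [Module.Finite C F]
    [Module.IsReflexive C F] (J : Ideal C)
    (hFU : ∀ q : PrimeSpectrum C, ¬ J ≤ q.asIdeal → Module.Free (Localization.AtPrime q.asIdeal) (LocalizedModule q.asIdeal.primeCompl F))
    (hcodim : ∀ q : PrimeSpectrum C, J ≤ q.asIdeal → (2 : WithBot ℕ∞) ≤ ringKrullDim (EGA4.FibLocRing R C q.asIdeal))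
    (hI : ∀ (A' : Type u) [CommRing A'] [IsArtinianRing A'] [IsLocalRing A'] [Algebra R A'],
      Function.Surjective (algebraMap R A') →
      ∀ (C' : Type u) [CommRing C'] [IsNoetherianRing C'] [Algebra C C'] [Algebra A' C'] [Algebra R C']
        [IsScalarTower R C C'] [IsScalarTower R A' C'], Algebra.IsPushout R C A' C' →
        ∀ q' : PrimeSpectrum C', q'.asIdeal.comap (algebraMap C C') = n.asIdeal →
          FlatCA.FlatAt A' q'.asIdeal (Module.Dual C' (Module.Dual C' (C' ⊗[C] F))) ∧
          LocCoh.HasSk 2 (EGA4.FibLocRing A' C' q'.asIdeal)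
            (EGA4.FibLocMod A' C' q'.asIdeal (Module.Dual C' (Module.Dual C' (C' ⊗[C] F))))) :
    FlatCA.FlatAt R n.asIdeal F ∧ LocCoh.HasSk 2 (EGA4.FibLocRing R C n.asIdeal) (EGA4.FibLocMod R C n.asIdeal F) := by
  classical
  haveI := hft
  have hcomap : n.asIdeal.comap (algebraMap R C) = IsLocalRing.maximalIdeal R :=
    (IsLocalRing.eq_maximalIdeal ((IsLocalRing.maximalIdeal.isMaximal R).eq_of_le
      (Ideal.IsPrime.comap (hK := n.isPrime) (algebraMap R C)).ne_top (Ideal.map_le_iff_le_comap.1 hn) ▸
        IsLocalRing.maximalIdeal.isMaximal R))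
  have hd := QGorRing.two_le_idealDepth_fibMod_self n hcomap hft hS2 J hcodim
  obtain ⟨a, b, f, h, hf, hfh, hGU⟩ := S18709.result C J F hFU
  let v := (LinearMap.range h).mkQ
  have huv : Function.Exact h v := LinearMap.exact_map_mkQ_range h
  have hv : Function.Surjective v := Submodule.mkQ_surjective _
  have hq := QGorRing.flat_quotient_pow (R := R) n hcomap J hd hf hfh huv hv hGU hI
  let L := Localization.AtPrime n.asIdeal
  let S := n.asIdeal.primeCompl
  haveI : IsNoetherianRing L := IsLocalization.isNoetherianRing S _ inferInstance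
  haveI : IsLocalHom (algebraMap R L) := ⟨fun r hr => by
    by_contra hr'
    have h1 : r ∈ IsLocalRing.maximalIdeal R := hr'
    rw [← hcomap] at h1
    have h2 : algebraMap R L r ∈ IsLocalRing.maximalIdeal L := by
      rw [IsScalarTower.algebraMap_apply R C L]
      exact (IsLocalization.AtPrime.to_map_mem_maximal_iff L n.asIdeal _).2 h1
    exact h2 hr⟩
  haveI : Module.Finite L (LocalizedModule S ((Fin b → C) ⧸ LinearMap.range h)) :=
    Module.Finite.of_isLocalizedModule S (LocalizedModule.mkLinearMap _ _)
  haveI : Module.Finite L (LocalizedModule S F) :=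
    Module.Finite.of_isLocalizedModule S (LocalizedModule.mkLinearMap _ _)
  haveI : Module.Finite L (LocalizedModule S (Fin a → C)) :=
    Module.Finite.of_isLocalizedModule S (LocalizedModule.mkLinearMap _ _)
  haveI : Module.Finite L (LocalizedModule S (Fin b → C)) :=
    Module.Finite.of_isLocalizedModule S (LocalizedModule.mkLinearMap _ _)
  haveI : Module.Projective L (LocalizedModule S (Fin a → C)) :=
    Module.projective_of_isLocalizedModule S (LocalizedModule.mkLinearMap S _)
  haveI : Module.Projective L (LocalizedModule S (Fin b → C)) :=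
    Module.projective_of_isLocalizedModule S (LocalizedModule.mkLinearMap S _)
  haveI : Module.Flat C L := IsLocalization.flat _ S
  haveI : Module.Flat R L := Module.Flat.trans R C L
  haveI : Module.Flat R (LocalizedModule S (Fin a → C)) := Module.Flat.trans R L _
  haveI : Module.Flat R (LocalizedModule S (Fin b → C)) := Module.Flat.trans R L _
  haveI hG : Module.Flat R (LocalizedModule S ((Fin b → C) ⧸ LinearMap.range h)) := by
    refine LocalCrit.flat_of_forall_quotient_pow (B := L) (IsLocalRing.maximalIdeal R)
      ((IsLocalRing.map_maximalIdeal_le (algebraMap R L)).trans (IsLocalRing.maximalIdeal_le_jacobson _)) fun j => ?_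
    rcases j with _ | j
    · intro N N' _ _ _ _ g hN hN' hg
      haveI : Subsingleton N := subsingleton_of_forall_eq 0 fun x => by
        have h1 := @hN x ⟨(1 : R), by simp⟩
        simpa using h1
      intro x y _
      exact Subsingleton.elim x y
    · haveI := hq j
      exact LocalCrit.keepsInjective_of_flat _ _
  have hd0 : 2 ≤ LocCoh.idealDepth (J.map (algebraMap C L)) (L ⧸ EGA4.mB R L) :=
    hd.trans (le_of_eq (LC.idealDepth_congr _ (Submodule.quotEquivOfEq _ _ (by rw [Ideal.smul_eq_mul, Ideal.mul_top]))))
  have h0 := QGorRing.le_idealDepth_quot_projective (J.map (algebraMap C L)) (EGA4.mB R L) 2 hd0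
    (LocalizedModule S (Fin a → C))
  have h1 := QGorRing.le_idealDepth_quot_projective (J.map (algebraMap C L)) (EGA4.mB R L) 1
    (le_trans (by norm_num) hd0) (LocalizedModule S (Fin b → C))
  obtain ⟨hFflat, hF2⟩ := KFlatLib.flat_ker_of_flat (A := R) (J.map (algebraMap C L))
    (f := LocalizedModule.map S f) (u := LocalizedModule.map S h) (v := LocalizedModule.map S v)
    (LocalizedModule.map_injective S f hf) (LocalizedModule.map_exact S f h hfh)
    (LocalizedModule.map_exact S h v huv) (LocalizedModule.map_surjective S v hv) h0 (by simpa using h1)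
  exact ⟨hFflat, QGorRing.hasSk_two_fibLocMod n hcomap hS2 J F hFU hF2⟩

end Groth.Agent.S18712
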