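import Groth.Statements.S18713
import Groth.Agent.QGorRing.InfCritDvrStep
import Groth.Agent.S18709

set_option autoImplicit false
universe u
open QGor

namespace Groth.Agent.S18713

open TensorProduct in
/-- Valuative criterion, affine-local form. Let R be a Noetherian local ring with maximal ideal m, C a
finitely generated flat R-algebra, y = n a prime of C over m at which the fibre C_n/mC_n satisfies
S₂ (the structure morphism satisfies relative S₂ at y), and F a finite reflexive C-module which is
free at every prime not containing an ideal J such that every fibre local ring C_q/pC_q at primes q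
⊇ J has dimension ≥ 2 (F is locally free in codimension one on each fibre). Assume R is reduced, and
that for every local homomorphism R → D to a discrete valuation ring and the Noetherian pushout C′ =
D ⊗_R C, at every prime q′ of C′ lying over n and over the closed point of D the double dual (C′ ⊗_C
F)^∨∨ is flat over D at q′ and its fibre stalk satisfies S₂. Then F is flat over R at n and F_n/mF_n
satisfies S₂ (F satisfies relative S₂ at y). Test rings D range over the universe of R. -/
theorem result (R C : Type u) [CommRing R] [CommRing C] [IsNoetherianRing R] [IsLocalRing R] [IsNoetherianRing C]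
    [Algebra R C] [Module.Flat R C] (hft : Algebra.FiniteType R C)
    (n : PrimeSpectrum C) (hn : (IsLocalRing.maximalIdeal R).map (algebraMap R C) ≤ n.asIdeal)
    (hS2 : LocCoh.HasSk 2 (EGA4.FibLocRing R C n.asIdeal) (EGA4.FibLocRing R C n.asIdeal))
    (F : Type u) [AddCommGroup F] [Module C F] [Module R F] [IsScalarTower R C F] [Module.Finite C F]
    [Module.IsReflexive C F] (J : Ideal C)
    (hFU : ∀ q : PrimeSpectrum C, ¬ J ≤ q.asIdeal → Module.Free (Localization.AtPrime q.asIdeal) (LocalizedModule q.asIdeal.primeCompl F))
    (hcodim : ∀ q : PrimeSpectrum C, J ≤ q.asIdeal → (2 : WithBot ℕ∞) ≤ ringKrullDim (EGA4.FibLocRing R C q.asIdeal)) [IsReduced R]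
    (hII : ∀ (D : Type u) [CommRing D] [IsDomain D] [IsDiscreteValuationRing D] [Algebra R D],
      IsLocalHom (algebraMap R D) →
      ∀ (C' : Type u) [CommRing C'] [IsNoetherianRing C'] [Algebra C C'] [Algebra D C'] [Algebra R C']
        [IsScalarTower R C C'] [IsScalarTower R D C'], Algebra.IsPushout R C D C' →
        ∀ q' : PrimeSpectrum C', q'.asIdeal.comap (algebraMap C C') = n.asIdeal →
          (IsLocalRing.maximalIdeal D).map (algebraMap D C') ≤ q'.asIdeal →
          FlatCA.FlatAt D q'.asIdeal (Module.Dual C' (Module.Dual C' (C' ⊗[C] F))) ∧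
          LocCoh.HasSk 2 (EGA4.FibLocRing D C' q'.asIdeal)
            (EGA4.FibLocMod D C' q'.asIdeal (Module.Dual C' (Module.Dual C' (C' ⊗[C] F))))) :
    FlatCA.FlatAt R n.asIdeal F ∧ LocCoh.HasSk 2 (EGA4.FibLocRing R C n.asIdeal) (EGA4.FibLocMod R C n.asIdeal F) := by
  classical
  haveI := hft
  have hcomap : n.asIdeal.comap (algebraMap R C) = IsLocalRing.maximalIdeal R :=
    (IsLocalRing.eq_maximalIdeal ((IsLocalRing.maximalIdeal.isMaximal R).eq_of_le
      (Ideal.IsPrime.comap (hK := n.isPrime) (algebraMap R C)).ne_top (Ideal.map_le_iff_le_comap.1 hn) ▸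
        IsLocalRing.maximalIdeal.isMaximal R))
  have hd := QGorRing.two_le_idealDepth_fibMod_self n hcomap hft hS2 J hcodim
  obtain ⟨a, b, f, h, hf, hfh, hGU⟩ := S18709.result C J F hFU
  let v := (LinearMap.range h).mkQ
  have huv : Function.Exact h v := LinearMap.exact_map_mkQ_range h
  have hv : Function.Surjective v := Submodule.mkQ_surjective _
  let L := Localization.AtPrime n.asIdeal
  let S := n.asIdeal.primeCompl
  haveI : IsNoetherianRing L := IsLocalization.isNoetherianRing S _ inferInstance
  haveI : IsLocalHom (algebraMap R L) := ⟨fun r hr => by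
    by_contra hr'
    have h1 : r ∈ IsLocalRing.maximalIdeal R := hr'
    rw [← hcomap] at h1
    have h2 : algebraMap R L r ∈ IsLocalRing.maximalIdeal L := by
      rw [IsScalarTower.algebraMap_apply R C L]
      exact (IsLocalization.AtPrime.to_map_mem_maximal_iff L n.asIdeal _).2 h1
    exact h2 hr⟩
  haveI : Module.Finite L (LocalizedModule S ((Fin b → C) ⧸ LinearMap.range h)) :=
    Module.Finite.of_isLocalizedModule S (LocalizedModule.mkLinearMap _ _)
  haveI : Module.Finite L (LocalizedModule S F) :=
    Module.Finite.of_isLocalizedModule S (LocalizedModule.mkLinearMap _ _)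
  haveI : Module.Finite L (LocalizedModule S (Fin a → C)) :=
    Module.Finite.of_isLocalizedModule S (LocalizedModule.mkLinearMap _ _)
  haveI : Module.Finite L (LocalizedModule S (Fin b → C)) :=
    Module.Finite.of_isLocalizedModule S (LocalizedModule.mkLinearMap _ _)
  haveI : Module.Projective L (LocalizedModule S (Fin a → C)) :=
    Module.projective_of_isLocalizedModule S (LocalizedModule.mkLinearMap S _)
  haveI : Module.Projective L (LocalizedModule S (Fin b → C)) :=
    Module.projective_of_isLocalizedModule S (LocalizedModule.mkLinearMap S _)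
  haveI : Module.Flat C L := IsLocalization.flat _ S
  haveI : Module.Flat R L := Module.Flat.trans R C L
  haveI : Module.Flat R (LocalizedModule S (Fin a → C)) := Module.Flat.trans R L _
  haveI : Module.Flat R (LocalizedModule S (Fin b → C)) := Module.Flat.trans R L _
  haveI : Algebra.EssFiniteType R L := Algebra.EssFiniteType.comp R C L
  haveI hG : Module.Flat R (LocalizedModule S ((Fin b → C) ⧸ LinearMap.range h)) := by
    refine FlatDvrVC5.flat_of_dvr (S := L) _ ?_
    intro V _ _ _ _ hV P hP hPV hPS
    haveI := hV
    haveI := hP
    let T := V ⊗[R] C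
    let TL := V ⊗[R] L
    letI : Algebra C T := Algebra.TensorProduct.rightAlgebra
    letI : Algebra L TL := Algebra.TensorProduct.rightAlgebra
    letI : Algebra T TL := (Algebra.TensorProduct.map (AlgHom.id R V) (IsScalarTower.toAlgHom R C L)).toAlgebra
    letI : Algebra C TL := ((algebraMap L TL).comp (algebraMap C L)).toAlgebra
    haveI : IsScalarTower R C T := IsScalarTower.of_algebraMap_eq fun r =>
      ((Algebra.TensorProduct.includeRight : C →ₐ[R] T).commutes r).symm
    haveI : IsScalarTower R L TL := IsScalarTower.of_algebraMap_eq fun r =>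
      ((Algebra.TensorProduct.includeRight : L →ₐ[R] TL).commutes r).symm
    haveI : IsScalarTower C L TL := IsScalarTower.of_algebraMap_eq fun _ => rfl
    haveI : IsScalarTower C T TL := IsScalarTower.of_algebraMap_eq fun c => by
      show (1 : V) ⊗ₜ[R] (algebraMap C L c) =
        Algebra.TensorProduct.map (AlgHom.id R V) (IsScalarTower.toAlgHom R C L) ((1 : V) ⊗ₜ[R] c)
      rw [Algebra.TensorProduct.map_tmul]
      rfl
    haveI : IsScalarTower V T TL := IsScalarTower.of_algebraMap_eq fun v => by
      show v ⊗ₜ[R] (1 : L) =
        Algebra.TensorProduct.map (AlgHom.id R V) (IsScalarTower.toAlgHom R C L) (v ⊗ₜ[R] (1 : C))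
      rw [Algebra.TensorProduct.map_tmul, map_one]
      rfl
    haveI : IsNoetherianRing T := Algebra.EssFiniteType.isNoetherianRing V T
    haveI : IsNoetherianRing TL := Algebra.EssFiniteType.isNoetherianRing V TL
    haveI : Algebra.IsPushout R L V TL := Algebra.IsPushout.symm inferInstance
    haveI : IsLocalization (S.map (Algebra.TensorProduct.includeRight (R := R) (A := V) (B := C))) TL :=
      IsLocalization.tensorProduct_tensorProduct_right R V S L (by
        ext c
        show Algebra.TensorProduct.map (AlgHom.id R V) (IsScalarTower.toAlgHom R C L) ((1 : V) ⊗ₜ[R] c) = _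
        rw [Algebra.TensorProduct.map_tmul]
        rfl)
    let q' := P.comap (algebraMap T TL)
    have hq'n : q'.comap (algebraMap C T) = n.asIdeal := by
      rw [Ideal.comap_comap, ← IsScalarTower.algebraMap_eq, IsScalarTower.algebraMap_eq C L TL, ← Ideal.comap_comap,
        show P.comap (algebraMap L TL) = IsLocalRing.maximalIdeal L from hPS]
      exact IsLocalization.AtPrime.comap_maximalIdeal L n.asIdeal
    have hq'V : q'.comap (algebraMap V T) = IsLocalRing.maximalIdeal V := by
      rw [Ideal.comap_comap, ← IsScalarTower.algebraMap_eq]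
      exact hPV
    obtain ⟨hflatD, hSD⟩ := hII V hV T (Algebra.IsPushout.symm inferInstance) ⟨q', inferInstance⟩ hq'n
      (Ideal.map_le_iff_le_comap.2 hq'V.ge)
    haveI : Module.Flat V T := Module.Flat.baseChange R V C
    refine QGorRing.flatAway_of_localization S
      (S.map (Algebra.TensorProduct.includeRight (R := R) (A := V) (B := C))) P _ ?_
    refine QGorRing.flat_coker_of_ddual_dvr q' hq'V hf hfh huv hv J hGU ?_ hSD
    let LP := Localization.AtPrime P
    haveI : IsLocalization.AtPrime LP q' := IsLocalization.isLocalization_isLocalization_atPrime_isLocalization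
      (S.map (Algebra.TensorProduct.includeRight (R := R) (A := V) (B := C))) LP P
    let L' := Localization.AtPrime q'
    let ε : LP ≃ₐ[T] L' := IsLocalization.algEquiv q'.primeCompl LP L'
    letI : Algebra LP L' := ε.toRingEquiv.toRingHom.toAlgebra
    haveI : IsNoetherianRing LP := IsLocalization.isNoetherianRing P.primeCompl _ inferInstance
    haveI : IsNoetherianRing L' := IsLocalization.isNoetherianRing q'.primeCompl _ inferInstance
    have hP2 := QGorRing.le_idealDepth_fibMod_baseChange (R := R) (V := V) (TL := TL)
      (J.map (algebraMap C L)) hd P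
    have hmap : J.map (algebraMap C L') = (((J.map (algebraMap C L)).map (algebraMap L TL)).map
        (algebraMap TL LP)).map (algebraMap LP L') := by
      rw [Ideal.map_map, Ideal.map_map, Ideal.map_map]
      congr 1
      ext c
      show algebraMap C L' c = ε (algebraMap TL LP (algebraMap L TL (algebraMap C L c)))
      rw [← IsScalarTower.algebraMap_apply C L TL, IsScalarTower.algebraMap_apply C T TL,
        ← IsScalarTower.algebraMap_apply T TL LP, AlgEquiv.commutes, ← IsScalarTower.algebraMap_apply]
    rw [hmap]
    refine QGorRing.le_idealDepth_fibMod_of_surjective (R := V) ε.surjective _ ?_ ?_ hP2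
    · show ((IsLocalRing.maximalIdeal V).map (algebraMap V LP)).map (algebraMap LP L') = _
      rw [Ideal.map_map]
      congr 1
      ext x
      show ε (algebraMap V LP x) = algebraMap V L' x
      rw [IsScalarTower.algebraMap_apply V T LP, AlgEquiv.commutes, ← IsScalarTower.algebraMap_apply]
    · exact le_of_eq_of_le ((RingHom.injective_iff_ker_eq_bot _).1 ε.injective) bot_le
  have hd0 : 2 ≤ LocCoh.idealDepth (J.map (algebraMap C L)) (L ⧸ EGA4.mB R L) :=
    hd.trans (le_of_eq (LC.idealDepth_congr _ (Submodule.quotEquivOfEq _ _ (by rw [Ideal.smul_eq_mul, Ideal.mul_top]))))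
  have h0 := QGorRing.le_idealDepth_quot_projective (J.map (algebraMap C L)) (EGA4.mB R L) 2 hd0
    (LocalizedModule S (Fin a → C))
  have h1 := QGorRing.le_idealDepth_quot_projective (J.map (algebraMap C L)) (EGA4.mB R L) 1
    (le_trans (by norm_num) hd0) (LocalizedModule S (Fin b → C))
  obtain ⟨hFflat, hF2⟩ := KFlatLib.flat_ker_of_flat (A := R) (J.map (algebraMap C L))
    (f := LocalizedModule.map S f) (u := LocalizedModule.map S h) (v := LocalizedModule.map S v)
    (LocalizedModule.map_injective S f hf) (LocalizedModule.map_exact S f h hfh)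
    (LocalizedModule.map_exact S h v huv) (LocalizedModule.map_surjective S v hv) h0 (by simpa using h1)
  exact ⟨hFflat, QGorRing.hasSk_two_fibLocMod n hcomap hS2 J F hFU hF2⟩

end Groth.Agent.S18713
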