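import Groth.Statements.S18720
import Groth.Agent.QGorRing.OffV

set_option autoImplicit false
universe u
open CategoryTheory
attribute [local instance] HasDerivedCategory.standard
open QGor

namespace Groth.Agent.S18720

/-- Affine-local form. Let A be a Noetherian local ring of Krull dimension n with a dualizing complex ω,
L = H⁰(ω), and J an ideal with ht J ≥ 1 such that ω restricted off V(J) is L placed in degree 0,
i.e. H^i(ω)_p = 0 for every i ≠ 0 and every prime p not containing J. Then ω is ordinary (its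
codimension function is p ↦ ht p), which for the local ring means: A is equidimensional and ω[n] is
normalized; and L satisfies (S₂). If moreover ht J ≥ 2, then depth_J L ≥ 2 (L is the module of
sections of its restriction off V(J)). -/
theorem result (A : Type u) [CommRing A] [IsNoetherianRing A]
    [IsLocalRing A] (ω : Dual.D A) (hω : Dual.IsDualizing A ω) (n : ℕ) (hd : ringKrullDim A = n)
    (J : Ideal A) (hJ : 1 ≤ J.height)
    (hoff : ∀ p : PrimeSpectrum A, ¬ J ≤ p.asIdeal → ∀ i : ℤ, i ≠ 0 → p ∉ Module.support A (Dual.HD A ω i)) :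
    (EGA4.IsEquidim A ∧ Dual.IsNormalized A (ω⟦(n : ℤ)⟧) ∧ LocCoh.HasSk 2 A (Dual.HD A ω 0)) ∧
    (2 ≤ J.height → 2 ≤ LocCoh.idealDepth J (Dual.HD A ω 0)) := by
  obtain ⟨d, h⟩ := Groth.Agent.QGorRing.exists_isDegree hω
  have hmin : ∀ Q : PrimeSpectrum A, Q.asIdeal ∈ minimalPrimes A → d Q = 0 := by
    intro Q hQ
    by_contra hne
    refine hoff Q (fun hJQ => ?_) _ hne (Groth.Agent.QGorRing.mem_support_HD_minimal h Q hQ)
    have h1 := hJ.trans (Ideal.height_mono hJQ)
    rw [Ideal.height_eq_zero_iff.2 hQ] at h1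
    exact absurd h1 (by simp)
  obtain ⟨h1, h2⟩ := Groth.Agent.QGorRing.ordinary h n hd hmin
  exact ⟨⟨h1, h2, Groth.Agent.QGorRing.hasSk_two_bottom h hmin⟩,
    Groth.Agent.QGorRing.two_le_idealDepth_bottom h hmin J⟩

end Groth.Agent.S18720
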