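import Groth.Statements.S18721
import Groth.Agent.QGorRing.NormDim

set_option autoImplicit false
universe u
open CategoryTheory
attribute [local instance] HasDerivedCategory.standard
open QGor

namespace Groth.Agent.S18721

/-- Affine form. Let k be a field and A a finitely generated k-algebra, equidimensional of Krull
dimension n, and let ω be a dualizing complex of A normalized at every maximal ideal m (no nonzero
morphisms A/m → ω[i] in D(A) for i ≠ 0 — the canonical dualizing complex of Spec A over k). Put Z_i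
= Supp H^{-i}(ω). Then H^{-i}(ω) = 0 for every i > n, and for every k′ ≥ 1: A satisfies (S_{k′}) if
and only if dim Z_i ≤ i − k′ for all i ≠ n, where for i < k′ this means H^{-i}(ω) = 0. -/
theorem result (k A : Type u) [Field k] [CommRing A]
    [Algebra k A] (hft : Algebra.FiniteType k A) [IsNoetherianRing A]
    (hEq : EGA4.IsEquidim A) (n : ℕ) (hd : ringKrullDim A = n)
    (ω : Dual.D A) (hω : Dual.IsDualizing A ω)
    (hnorm : ∀ (m : Ideal A) (_ : m.IsMaximal) (i : ℤ), i ≠ 0 → Subsingleton (Dual.inD A (A ⧸ m) ⟶ ω⟦i⟧)) :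
    (∀ i : ℕ, n < i → Subsingleton (Dual.HD A ω (-(i : ℤ)))) ∧
    ∀ k' : ℕ, 1 ≤ k' →
      (LocCoh.HasSk k' A A ↔
        ∀ i : ℕ, i ≠ n →
          (i < k' → Subsingleton (Dual.HD A ω (-(i : ℤ)))) ∧
          (k' ≤ i → Module.supportDim A (Dual.HD A ω (-(i : ℤ))) ≤ ((i - k' : ℕ) : WithBot ℕ∞))) := by
  obtain ⟨d, h⟩ := Groth.Agent.QGorRing.exists_isDegree hω
  have hdim := Groth.Agent.QGorRing.ringKrullDim_quotient_of_maximal h fun m hm =>
    Groth.Agent.QGorRing.degree_eq_zero_of_normalized_at h m (hnorm m.asIdeal hm)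
  have hmin : ∀ Q ∈ Module.support A A, (∀ R ∈ Module.support A A, R ≤ Q → R = Q) → d Q = -(n : ℤ) := by
    intro Q _ hQ
    obtain ⟨e, he, he'⟩ := hdim Q
    have hQ' : Q.asIdeal ∈ minimalPrimes A := by
      refine ⟨⟨Q.isPrime, bot_le⟩, fun J hJ hJQ => ?_⟩
      have hmem : (⟨J, hJ.1⟩ : PrimeSpectrum A) ∈ Module.support A A := by
        rw [Module.support_eq_zeroLocus, Module.annihilator_eq_bot.2 inferInstance]
        exact fun x hx => by
          rw [(Submodule.mem_bot A).1 hx]
          exact J.zero_mem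
      exact (congrArg PrimeSpectrum.asIdeal (hQ ⟨J, hJ.1⟩ hmem hJQ)).ge
    have h1 := hEq _ hQ'
    rw [he, hd] at h1
    have : e = n := by exact_mod_cast h1
    omega
  have hd' : ∀ p : PrimeSpectrum A, -(n : ℤ) ≤ d p := fun p => by
    obtain ⟨e, he, he'⟩ := hdim p
    have h1 : ringKrullDim (A ⧸ p.asIdeal) ≤ ringKrullDim A :=
      ringKrullDim_le_of_surjective _ Ideal.Quotient.mk_surjective
    rw [he, hd] at h1
    have : e ≤ n := by exact_mod_cast h1
    omega
  have hHD : ∀ i : ℤ, (Subsingleton (Dual.inD A A ⟶ ω⟦i⟧) ↔ Subsingleton (Dual.HD A ω i)) ∧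
      Module.supportDim A (Dual.inD A A ⟶ ω⟦i⟧) = Module.supportDim A (Dual.HD A ω i) := fun i => by
    obtain ⟨e⟩ := Groth.Agent.KFlatLib.exists_homRingLEquiv ω i
    refine ⟨e.toEquiv.subsingleton_congr, ?_⟩
    rw [Module.supportDim, Module.supportDim, e.support_eq]
  refine ⟨fun i hi => ?_, fun k' hk' => ?_⟩
  · refine (hHD _).1.1 (Groth.Agent.KFlatLib.subsingleton_hom_module_of_lt h.ext A _ fun P _ => ?_)
    have := hd' P
    omega
  · rw [Groth.Agent.QGorRing.hasSk_iff_supportDim h hdim A n hmin k' hk']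
    refine ⟨fun H i hi => ?_, fun H j hj => ?_⟩
    · obtain ⟨H1, H2⟩ := H (-(i : ℤ)) (by omega)
      refine ⟨fun hlt => (hHD _).1.1 (H1 (by omega)), fun hle => ?_⟩
      have h2 := H2 (by omega)
      rw [(hHD _).2, show (-(-(i : ℤ)) - (k' : ℤ)).toNat = i - k' by omega] at h2
      exact h2
    · rcases le_or_gt j 0 with hj0 | hj0
      · obtain ⟨i, hi⟩ := Int.eq_ofNat_of_zero_le (show 0 ≤ -j by omega)
        obtain rfl : j = -(i : ℤ) := by omega
        obtain ⟨H1, H2⟩ := H i (by omega)
        refine ⟨fun hlt => (hHD _).1.2 (H1 (by omega)), fun hle => ?_⟩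
        rw [(hHD _).2, show (-(-(i : ℤ)) - (k' : ℤ)).toNat = i - k' by omega]
        exact H2 (by omega)
      · refine ⟨fun _ => (Groth.Agent.QGorRing.subsingleton_iff_support (A := A) _).2 fun p hp => ?_,
          fun hle => absurd hle (by omega)⟩
        obtain ⟨a, ha⟩ := Groth.Agent.QGorRing.exists_isGE hω
        have h1 := Groth.Agent.KFlatLib.le_extDegree_of_mem_support h.ext a hω.finite_cohomology A j hp
        obtain ⟨e, -, he'⟩ := hdim p
        omega

end Groth.Agent.S18721
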