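import Groth.Statements.S18723
import Groth.Agent.QGorRing.OffV
import Groth.Agent.QGorRing.DualS2
import Groth.Agent.KFlatLib.Ring.ReflexiveDepth
import Groth.Agent.S18699

set_option autoImplicit false
universe u
open CategoryTheory
attribute [local instance] HasDerivedCategory.standard
open QGor

namespace Groth.Agent.S18723

/-- Affine-local form, with (2) for tensor powers m ≥ 0. Let A be a Noetherian local ring of Krull
dimension n with a dualizing complex ω, L = H⁰(ω), and J an ideal with ht J ≥ 2 (the closed set V(J)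
has codimension ≥ 2) such that off V(J) the complex ω is the invertible module L in degree 0: for
every prime p not containing J, H^i(ω)_p = 0 for i ≠ 0 and L_p is free of rank 1. (1) If A satisfies
(S₁), then ω is ordinary (A is equidimensional and ω[n] is normalized) and L is reflexive and
satisfies (S₂). (2) If A satisfies (S₂), then for every m ≥ 0 the double dual L^[m] of the m-th
tensor power of L satisfies (S₂) and depth_J L^[m] ≥ 2 (it is the module of sections of L^⊗m off
V(J)). -/
theorem result (A : Type u) [CommRing A] [IsNoetherianRing A]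
    [IsLocalRing A] (ω : Dual.D A) (hω : Dual.IsDualizing A ω) (n : ℕ) (hd : ringKrullDim A = n)
    (J : Ideal A) (hJ : 2 ≤ J.height)
    (hoff : ∀ p : PrimeSpectrum A, ¬ J ≤ p.asIdeal →
      (∀ i : ℤ, i ≠ 0 → p ∉ Module.support A (Dual.HD A ω i)) ∧
      Module.Free (Localization.AtPrime p.asIdeal) (LocalizedModule p.asIdeal.primeCompl (Dual.HD A ω 0)) ∧
      Module.finrank (Localization.AtPrime p.asIdeal) (LocalizedModule p.asIdeal.primeCompl (Dual.HD A ω 0)) = 1) :
    (LocCoh.HasSk 1 A A →
      (EGA4.IsEquidim A ∧ Dual.IsNormalized A (ω⟦(n : ℤ)⟧)) ∧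
      Module.IsReflexive A (Dual.HD A ω 0) ∧ LocCoh.HasSk 2 A (Dual.HD A ω 0)) ∧
    (LocCoh.HasSk 2 A A → ∀ m : ℕ,
      LocCoh.HasSk 2 A (Module.Dual A (Module.Dual A (TensorPower A m (Dual.HD A ω 0)))) ∧
      2 ≤ LocCoh.idealDepth J (Module.Dual A (Module.Dual A (TensorPower A m (Dual.HD A ω 0))))) := by
  obtain ⟨d, h⟩ := Groth.Agent.QGorRing.exists_isDegree hω
  have hmin : ∀ Q : PrimeSpectrum A, Q.asIdeal ∈ minimalPrimes A → d Q = 0 := by
    intro Q hQ
    by_contra hne
    refine (hoff Q (fun hJQ => ?_)).1 _ hne (Groth.Agent.QGorRing.mem_support_HD_minimal h Q hQ)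
    have h1 := hJ.trans (Ideal.height_mono hJQ)
    rw [Ideal.height_eq_zero_iff.2 hQ] at h1
    exact absurd h1 (by simp)
  haveI : Module.Finite A (Dual.HD A ω 0) := hω.finite_cohomology 0
  have hdimJ : ∀ p : PrimeSpectrum A, J ≤ p.asIdeal → ∀ k : ℕ, k ≤ 2 → (k : WithBot ℕ∞) ≤
      Module.supportDim (Localization.AtPrime p.asIdeal) (LocalizedModule p.asIdeal.primeCompl A) := by
    intro p hp k hk
    rw [Groth.Agent.FlatLoc6.supportDim_self_atPrime]
    exact WithBot.coe_le_coe.2 ((Nat.cast_le.2 hk).trans ((le_of_eq Nat.cast_two).trans (hJ.trans (Ideal.height_mono hp))))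
  have hL2 := Groth.Agent.QGorRing.two_le_idealDepth_bottom h hmin J hJ
  refine ⟨fun hS1 => ⟨Groth.Agent.QGorRing.ordinary h n hd hmin, ?_, Groth.Agent.QGorRing.hasSk_two_bottom h hmin⟩,
    fun hS2 m => ?_⟩
  · have hA : 1 ≤ LocCoh.idealDepth J A := by
      have := Groth.Agent.S18699.result 1 A A J hS1 fun p hp _ => hdimJ p hp 1 one_le_two
      rwa [Nat.cast_one] at this
    refine Groth.Agent.KFlatLib.isReflexive_of_off J hA _ (fun p hp => ?_) hL2
    haveI := (hoff p hp).2.1
    haveI : Module.Finite (Localization.AtPrime p.asIdeal) (LocalizedModule p.asIdeal.primeCompl (Dual.HD A ω 0)) :=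
      Module.Finite.of_isLocalizedModule p.asIdeal.primeCompl (LocalizedModule.mkLinearMap _ _)
    exact Module.IsReflexive.of_finite_of_free _ _
  · have hA : 2 ≤ LocCoh.idealDepth J A := by
      have := Groth.Agent.S18699.result 2 A A J hS2 fun p hp _ => hdimJ p hp 2 le_rfl
      simpa using this
    exact ⟨Groth.Agent.QGorRing.hasSk_two_dual hS2 _, Groth.Agent.KFlatLib.two_le_idealDepth_dual J hA _⟩

end Groth.Agent.S18723
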