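import Groth.Statements.S18745
import Groth.Agent.MdlA1.LimAmbient
import Groth.Agent.LimDomLib.Basic

set_option autoImplicit false
universe u
open CategoryTheory CategoryTheory.Limits AlgebraicGeometry TopologicalSpace
open ModPair

set_option linter.style.haveILetI false

namespace Groth.Agent.S18745

/-- Let S be a quasi-compact quasi-separated scheme, (X_i, I_i) a cofiltered system of S-schemes, all
quasi-compact and quasi-separated, carrying quasi-coherent ideal sheaves of effective Cartier
divisors, with affine and minimal transition morphisms, and let X be its limit (as an S-scheme) with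
projections π_i and modulus I = I_i.comap π_i for every i. Let Y ⟶ S be locally of finite type with
Y quasi-compact and quasi-separated, carrying the ideal sheaf I_Y of an effective Cartier divisor.
Assume that either every transition morphism is scheme-theoretically dominant, or Y ⟶ S is locally
of finite presentation. Then every S-morphism φ : X ⟶ Y satisfying the modulus condition I ≤
I_Y.comap φ descends: for some i there is an S-morphism φ_i : X_i ⟶ Y satisfying the modulus
condition I_i ≤ I_Y.comap φ_i with π_i ≫ φ_i = φ. (The base is taken to be a scheme, that is the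
base modulus pair with empty modulus; morphisms over an arbitrary base modulus pair are among
these.) -/
theorem result {S : Scheme.{u}}
    [CompactSpace S] [QuasiSeparatedSpace S] {I : Type u} [SmallCategory I] [IsCofiltered I]
    (D : I ⥤ Over S) (c : Cone D) (hc : IsLimit c)
    [∀ (i j : I) (t : i ⟶ j), IsAffineHom (D.map t).left]
    [∀ i, CompactSpace (D.obj i).left] [∀ i, QuasiSeparatedSpace (D.obj i).left]
    (J : ∀ i, (D.obj i).left.IdealSheafData) (hJ : ∀ i, BlowUp.IsEffCartierIdeal (J i))
    (hmin : ∀ (i j : I) (t : i ⟶ j), ModPair.IsMinimal (J i) (J j) (D.map t).left)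
    (IX : c.pt.left.IdealSheafData) (hIX : ∀ i, IX = (J i).comap (c.π.app i).left)
    (Y : Over S) [CompactSpace Y.left] [QuasiSeparatedSpace Y.left] [LocallyOfFiniteType Y.hom]
    (IY : Y.left.IdealSheafData) (hY : BlowUp.IsEffCartierIdeal IY)
    (h : (∀ (i j : I) (t : i ⟶ j), IsSchemeTheoreticallyDominant (D.map t).left) ∨
      LocallyOfFinitePresentation Y.hom)
    (φ : c.pt ⟶ Y) (hφ : ModPair.IsAmbient IX IY φ.left) :
    ∃ (i : I) (φi : D.obj i ⟶ Y), ModPair.IsAmbient (J i) IY φi.left ∧ c.π.app i ≫ φi = φ := by
  classical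
  let F := D ⋙ Over.forget S
  let cF : Cone F := (Over.forget S).mapCone c
  haveI : IsConnected I := IsCofiltered.isConnected I
  have hcF : IsLimit cF := isLimitOfPreserves (Over.forget S) hc
  haveI hA : ∀ {i j : I} (t : i ⟶ j), IsAffineHom (F.map t) := fun t => inferInstanceAs (IsAffineHom (D.map t).left)
  haveI : ∀ i, CompactSpace (F.obj i) := fun i => inferInstanceAs (CompactSpace (D.obj i).left)
  haveI : ∀ i, QuasiSeparatedSpace (F.obj i) := fun i => inferInstanceAs (QuasiSeparatedSpace (D.obj i).left)
  let t : F ⟶ (Functor.const I).obj S :=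
    { app := fun i => (D.obj i).hom
      naturality := fun {i j} g => by
        show (D.map g).left ≫ (D.obj j).hom = (D.obj i).hom ≫ 𝟙 _
        rw [Over.w, Category.comp_id] }
  have ha : cF.π ≫ t = (Functor.const I).map (φ.left ≫ Y.hom) := by
    ext i
    show (c.π.app i).left ≫ (D.obj i).hom = φ.left ≫ Y.hom
    rw [Over.w, Over.w]
    rfl
  obtain ⟨i, g, hg, hg'⟩ : ∃ (i : I) (g : (D.obj i).left ⟶ Y.left),
      (c.π.app i).left ≫ g = φ.left ∧ g ≫ Y.hom = (D.obj i).hom := by
    rcases h with h | h
    · exact LimDomLib.exists_π_app_comp_eq_of_locallyOfFiniteType F t Y.hom cF hcF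
        (LimDomLib.isSchemeTheoreticallyDominant_π F cF hcF fun i j g => h i j g) φ.left ha
    · exact Scheme.exists_π_app_comp_eq_of_locallyOfFinitePresentation F t Y.hom cF hcF φ.left ha
  have hle : (J i).comap (c.π.app i).left ≤ (IY.comap g).comap (c.π.app i).left := by
    rw [← Scheme.IdealSheafData.comap_comp, hg]
    exact (hIX i).symm.trans_le hφ
  obtain ⟨j, f, hf⟩ := MdlA1.LimAmbient.exists_le F cF hcF (J i) (IY.comap g)
    (fun x => let ⟨U, hx, a, _, ha⟩ := hJ i x; ⟨U, hx, a, ha⟩) hle
  refine ⟨j, Over.homMk ((D.map f).left ≫ g)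
    (by rw [Category.assoc, hg']; exact Over.w (D.map f)), ?_, ?_⟩
  · show J j ≤ IY.comap ((D.map f).left ≫ g)
    rw [Scheme.IdealSheafData.comap_comp]
    exact (hmin j i f).trans_le hf
  · refine Over.OverMorphism.ext ?_
    show (c.π.app j).left ≫ (D.map f).left ≫ g = φ.left
    rw [← Category.assoc, ← Over.comp_left, c.w, ← hg]

end Groth.Agent.S18745
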