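import Groth.Statements.S18754
import Groth.Agent.MdlA1.LimClosed
import Groth.Agent.ModPairLib.Basic

set_option autoImplicit false
universe u
open CategoryTheory CategoryTheory.Limits AlgebraicGeometry TopologicalSpace
open ModPair

set_option linter.style.haveILetI false

namespace Groth.Agent.S18754

/-- Let (Y, I_Y) be a modulus pair with Y quasi-compact and quasi-separated, and let (X_i ⟶ Y) be a
cofiltered system of Y-schemes with affine transition morphisms such that every X_i is quasi-compact
and quasi-separated, the pulled-back ideal I_Y.comap (X_i ⟶ Y) is the ideal of an effective Cartier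
divisor, and X_i ⟶ Y is an abstract admissible blow-up of modulus pairs which is locally of finite
presentation. Let X be the limit of the system over Y and suppose that X ⟶ Y, with the pulled-back
modulus (assumed effective Cartier), is also an abstract admissible blow-up. Then X ⟶ Y is locally
of finite presentation: an abstract admissible blow-up of quasi-compact quasi-separated modulus
pairs which is not of finite presentation is never a limit of finitely presented ones. -/
theorem result {Y : Scheme.{u}}
    [CompactSpace Y] [QuasiSeparatedSpace Y] (IY : Y.IdealSheafData) (hY : BlowUp.IsEffCartierIdeal IY)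
    {I : Type u} [SmallCategory I] [IsCofiltered I] (D : I ⥤ Over Y) (c : Cone D) (hc : IsLimit c)
    [∀ (i j : I) (t : i ⟶ j), IsAffineHom (D.map t).left]
    [∀ i, CompactSpace (D.obj i).left] [∀ i, QuasiSeparatedSpace (D.obj i).left]
    (hI : ∀ i, BlowUp.IsEffCartierIdeal (IY.comap (D.obj i).hom))
    (hadm : ∀ i, ModPair.IsAdmBlowup (IY.comap (D.obj i).hom) IY (D.obj i).hom)
    [∀ i, LocallyOfFinitePresentation (D.obj i).hom]
    (hX : BlowUp.IsEffCartierIdeal (IY.comap c.pt.hom))
    (hXadm : ModPair.IsAdmBlowup (IY.comap c.pt.hom) IY c.pt.hom) :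
    LocallyOfFinitePresentation c.pt.hom := by
  classical
  let F := D ⋙ Over.forget Y
  let cF : Cone F := (Over.forget Y).mapCone c
  haveI : IsConnected I := IsCofiltered.isConnected I
  have hcF : IsLimit cF := isLimitOfPreserves (Over.forget Y) hc
  haveI hA : ∀ {i j : I} (t : i ⟶ j), IsAffineHom (F.map t) := fun t => inferInstanceAs (IsAffineHom (D.map t).left)
  haveI : IsProper c.pt.hom := hXadm.2.1
  haveI : ∀ i, IsProper (D.obj i).hom := fun i => (hadm i).2.1
  obtain ⟨i₀⟩ := (IsCofiltered.nonempty : Nonempty I)
  have hw : ∀ i, (c.π.app i).left ≫ (D.obj i).hom = c.pt.hom := fun i => Over.w (c.π.app i)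
  haveI hfin : IsFinite (cF.π.app i₀) := by
    haveI : IsProper (cF.π.app i₀) := by
      haveI : IsProper ((c.π.app i₀).left ≫ (D.obj i₀).hom) := by rw [hw]; infer_instance
      exact IsProper.of_comp (c.π.app i₀).left (D.obj i₀).hom
    exact IsFinite.iff_isProper_and_isAffineHom.2 ⟨inferInstance, isAffineHom_π_app F cF hcF i₀⟩
  haveI : CompactSpace (F.obj i₀) := inferInstanceAs (CompactSpace (D.obj i₀).left)
  obtain ⟨j, -, hj⟩ := MdlA1.LimClosed.exists_isClosedImmersion F cF hcF i₀
  haveI : IsClosedImmersion (c.π.app j).left := hj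
  -- the projection is an isomorphism over the interior, which is schematically dense
  have hsd : IsSchemeTheoreticallyDominant ((D.obj j).hom ⁻¹ᵁ ModPair.interior IY).ι := by
    rw [ModPairLib.preimage_interior]
    exact ModPairLib.isSchemeTheoreticallyDominant_interior (hI j)
  haveI hiso : IsIso ((c.π.app j).left ∣_ ((D.obj j).hom ⁻¹ᵁ ModPair.interior IY)) := by
    haveI h2 : IsIso ((D.obj j).hom ∣_ ModPair.interior IY) := (hadm j).2.2
    haveI h3 : IsIso (((c.π.app j).left ≫ (D.obj j).hom) ∣_ ModPair.interior IY) := by
      rw [hw]; exact hXadm.2.2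
    rw [morphismRestrict_comp] at h3
    exact @IsIso.of_isIso_comp_right _ _ _ _ _ ((c.π.app j).left ∣_ ((D.obj j).hom ⁻¹ᵁ ModPair.interior IY))
      ((D.obj j).hom ∣_ ModPair.interior IY) h2 h3
  haveI : IsIso (c.π.app j).left := by
    suffices h : (c.π.app j).left.ker = ⊥ by
      haveI : IsIso (c.π.app j).left.imageι := (Scheme.isIso_subschemeι_iff_eq_bot _).2 h
      rw [← (c.π.app j).left.toImage_imageι]
      infer_instance
    refine le_bot_iff.1 ?_
    rw [← hsd.ker_eq_bot]
    have : ((D.obj j).hom ⁻¹ᵁ ModPair.interior IY).ι =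
        (inv ((c.π.app j).left ∣_ ((D.obj j).hom ⁻¹ᵁ ModPair.interior IY)) ≫ Scheme.Opens.ι _) ≫
          (c.π.app j).left := by
      rw [Category.assoc, ← morphismRestrict_ι, IsIso.inv_hom_id_assoc]
    rw [this]
    exact Scheme.Hom.le_ker_comp _ _
  rw [← hw j]
  infer_instance

end Groth.Agent.S18754
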