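import Groth.Statements.S18759
import Groth.Agent.MdlA1.ModApprox
import Groth.Agent.LimMor.RelLimit
import Groth.Agent.LimMor.ProperApprox
import Groth.Agent.MorLib.IdealFG3
import Groth.Agent.ModPairLib.Quot

set_option autoImplicit false
universe u
open CategoryTheory CategoryTheory.Limits AlgebraicGeometry TopologicalSpace
open ModPair

set_option linter.style.haveILetI false

namespace Groth.Agent.S18759

/-- Let (X, I_X) and (Y, I_Y) be modulus pairs with X, Y quasi-compact and quasi-separated, and f : X ⟶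
Y an ambient morphism (modulus condition I_X ≤ I_Y.comap f) which is locally of finite type. Then X
⟶ Y is a cofiltered limit of Y-schemes X_i such that: (1) every X_i ⟶ Y is of finite presentation
and all transition maps X_i ⟶ X_j and projections X ⟶ X_i are closed immersions; (2) every X_i
carries a locally principal quasi-coherent ideal sheaf J_i whose pull-back to X is I_X and whose
pull-back along each transition map X_i ⟶ X_j of J_j is J_i; (3) every X_i ⟶ Y satisfies the modulus
condition for J_i, and if f is minimal all X_i ⟶ Y are minimal; (4) if f is proper all X_i ⟶ Y are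
proper; (5) if f is minimal and an isomorphism over the interior of Y, every X_i ⟶ Y is an
isomorphism over the interior of Y. (Part (5) is given here in the minimal case, where the interior
of (X_i, J_i) is the preimage of the interior of Y.) -/
theorem result {X Y : Scheme.{u}}
    [CompactSpace X] [QuasiSeparatedSpace X] [CompactSpace Y] [QuasiSeparatedSpace Y]
    (IX : X.IdealSheafData) (IY : Y.IdealSheafData) (hX : BlowUp.IsEffCartierIdeal IX)
    (hY : BlowUp.IsEffCartierIdeal IY) (f : X ⟶ Y) (hf : ModPair.IsAmbient IX IY f)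
    [LocallyOfFiniteType f] :
    ∃ (I : Type u) (_ : SmallCategory I) (_ : IsCofiltered I) (D : I ⥤ Over Y) (c : Cone D)
      (_ : IsLimit c) (e : c.pt ≅ Over.mk f) (J : ∀ i, (D.obj i).left.IdealSheafData),
      (∀ i, LocallyOfFinitePresentation (D.obj i).hom ∧ QuasiCompact (D.obj i).hom ∧
          QuasiSeparated (D.obj i).hom) ∧
        (∀ (i j : I) (t : i ⟶ j), IsClosedImmersion (D.map t).left) ∧
        (∀ i, IsClosedImmersion (c.π.app i).left) ∧
        (∀ i, Curv2.IsLocPrincipal (J i)) ∧
        (∀ i, IX = (J i).comap (e.inv.left ≫ (c.π.app i).left)) ∧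
        (∀ (i j : I) (t : i ⟶ j), J i = (J j).comap (D.map t).left) ∧
        (∀ i, ModPair.IsAmbient (J i) IY (D.obj i).hom) ∧
        (ModPair.IsMinimal IX IY f → ∀ i, ModPair.IsMinimal (J i) IY (D.obj i).hom) ∧
        (IsProper f → ∀ i, IsProper (D.obj i).hom) ∧
        (ModPair.IsMinimal IX IY f → IsIso (f ∣_ ModPair.interior IY) →
          ∀ i, IsIso ((D.obj i).hom ∣_ ModPair.interior IY)) := by
  classical
  obtain ⟨Z, g, h, hci, hw, hlfp, hqcg, hqsg, hcZ, hqZ, hprop⟩ : ∃ (Z : Scheme.{u}) (g : Z ⟶ Y) (h : X ⟶ Z),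
      IsClosedImmersion h ∧ h ≫ g = f ∧ LocallyOfFinitePresentation g ∧ QuasiCompact g ∧ QuasiSeparated g ∧
        CompactSpace Z ∧ QuasiSeparatedSpace Z ∧ (IsProper f → IsProper g) := by
    by_cases hp : IsProper f
    · obtain ⟨Z, g, h, hci, hw, hg, hlfp⟩ := LimMor.exists_closedImmersion_proper_fp f
      exact ⟨Z, g, h, hci, hw, hlfp, inferInstance, inferInstance,
        QuasiCompact.compactSpace_of_compactSpace g, quasiSeparatedSpace_of_quasiSeparated g, fun _ => hg⟩
    · obtain ⟨Z, g, h, hci, hw, hlfp, hqc, hqs, hcZ, hqZ, -⟩ := LimMor.exists_closedImmersion_fp f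
      exact ⟨Z, g, h, hci, hw, hlfp, hqc, hqs, hcZ, hqZ, fun hp' => absurd hp' hp⟩
  haveI := hci
  haveI : IsIso h.toImage := inferInstance
  have hwK : ∀ K : (MorLib.IdealFG.Sub h.ker)ᵒᵖ,
      (h.toImage ≫ Scheme.IdealSheafData.inclusion K.unop.2.1) ≫ K.unop.1.subschemeι ≫ g = f := fun K => by
    rw [Category.assoc, Scheme.IdealSheafData.inclusion_subschemeι_assoc]
    exact (Scheme.Hom.toImage_imageι_assoc h g).trans hw
  obtain ⟨π, hπ⟩ : ∃ π : (Functor.const (MorLib.IdealFG.Sub h.ker)ᵒᵖ).obj (Over.mk f) ⟶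
      MorLib.IdealFG.subDiagram g h.ker,
      ∀ K, (π.app K).left = h.toImage ≫ Scheme.IdealSheafData.inclusion K.unop.2.1 :=
    ⟨{ app := fun K => Over.homMk (h.toImage ≫ Scheme.IdealSheafData.inclusion K.unop.2.1) (hwK K)
       naturality := fun K L a => by
         refine Over.OverMorphism.ext ?_
         simp [MorLib.IdealFG.subDiagram, Scheme.IdealSheafData.inclusion_comp] }, fun K => rfl⟩
  let e : X ≅ h.image := asIso h.toImage
  have hpt : (Over.isoMk (f := Over.mk f) (g := (MorLib.IdealFG.subCone g h.ker).pt) e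
      ((Scheme.Hom.toImage_imageι_assoc h g).trans hw)).hom.left = h.toImage := rfl
  have hc : IsLimit (⟨Over.mk f, π⟩ : Cone (MorLib.IdealFG.subDiagram g h.ker)) :=
    (MorLib.IdealFG.isLimitSubCone g h.ker).ofIsoLimit
      (Cone.ext _ (fun K => Over.OverMorphism.ext (by
        rw [hπ K, Over.comp_left, hpt]; rfl))).symm
  haveI : ∀ K, CompactSpace ((MorLib.IdealFG.subDiagram g h.ker).obj K).left := fun K =>
    K.unop.1.subschemeι.isClosedEmbedding.compactSpace
  haveI : ∀ K, QuasiSeparatedSpace ((MorLib.IdealFG.subDiagram g h.ker).obj K).left := fun K =>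
    quasiSeparatedSpace_of_quasiSeparated (X := K.unop.1.subscheme) K.unop.1.subschemeι
  refine MdlA1.ModApprox.exists_system _ π hc (fun K L a => MorLib.IdealFG.isClosedImmersion_map g h.ker a)
    (fun K => ?_) (fun K => ?_) (fun hp K => ?_) IX IY (ModPairLib.isLocPrincipal_of_isEffCartier hX)
    (ModPairLib.isLocPrincipal_of_isEffCartier hY) hf
  · rw [hπ K]
    haveI : IsClosedImmersion (Scheme.IdealSheafData.inclusion K.unop.2.1 ≫ K.unop.1.subschemeι) := by
      rw [Scheme.IdealSheafData.inclusion_subschemeι]; infer_instance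
    have h1 := IsClosedImmersion.of_comp (Scheme.IdealSheafData.inclusion K.unop.2.1) K.unop.1.subschemeι
    exact MorphismProperty.comp_mem @IsClosedImmersion h.toImage _ inferInstance h1
  · haveI := MorLib.IdealFG.lfp_subschemeι K.unop.2.2
    exact ⟨inferInstanceAs (LocallyOfFinitePresentation (K.unop.1.subschemeι ≫ g)),
      inferInstanceAs (QuasiCompact (K.unop.1.subschemeι ≫ g)),
      inferInstanceAs (QuasiSeparated (K.unop.1.subschemeι ≫ g))⟩
  · haveI := hprop hp
    exact inferInstanceAs (IsProper (K.unop.1.subschemeι ≫ g))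

end Groth.Agent.S18759
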