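import Groth.Statements.S18764
import Groth.Agent.NonAbLib.PointedFibre
import Groth.Agent.NonAbLib.SelfFlat
import Groth.Agent.S12442

set_option autoImplicit false
universe u
open CategoryTheory CategoryTheory.Limits MonoidalCategory CartesianMonoidalCategory MonObj GrpObj AlgebraicGeometry
open NonAbH1

namespace Groth.Agent.S18764

set_option backward.isDefEq.respectTransparency.types false in
/-- Let k be a field and X a quasi-compact k-scheme, connected and reduced, having a k-point x; let G,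
G₁, G₂ be finite group schemes over k with homomorphisms φ₁ : G₁ → G and φ₂ : G₂ → G, and let T, T₁,
T₂ be torsors over X (fppf-locally trivial) under the base changes to X of G, G₁, G₂ respectively,
each pointed by a k-point lying over x. Let f₁ : T₁ → T and f₂ : T₂ → T be morphisms of pointed
torsors: X-morphisms which intertwine the actions along φ₁, φ₂ and send the marked points of T₁, T₂
to that of T. Let P be the fibre product group scheme G₁ ×_G G₂ with its projections π₁, π₂. Then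
the fibre product T₁ ×_T T₂ carries an action of the base change of P for which both projections to
T₁ and T₂ are equivariant (along π₁, π₂) and which makes it a torsor over X (fppf-locally trivial).
(The published statement says that such an X has a fundamental group scheme; this row states the
closure of finite pointed torsors under fibre products to which it is reduced.) -/
theorem result
    (k : Type u) [Field k] (X : Scheme.{u}) [X.Over (Spec (CommRingCat.of k))] [ConnectedSpace X]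
    [CompactSpace X] [AlgebraicGeometry.IsReduced X]
    (x : Spec (CommRingCat.of k) ⟶ X) (hx : x ≫ (X ↘ Spec (CommRingCat.of k)) = 𝟙 _)
    (G G₁ G₂ : Over (Spec (CommRingCat.of k))) [GrpObj G] [GrpObj G₁] [GrpObj G₂]
    [IsFinite G.hom] [IsFinite G₁.hom] [IsFinite G₂.hom]
    (φ₁ : G₁ ⟶ G) (φ₂ : G₂ ⟶ G) [IsMonHom φ₁] [IsMonHom φ₂]
    (T T₁ T₂ : Over X)
    (a : AlgGrp.Action (Red.bc (X ↘ Spec (CommRingCat.of k)) G) T)
    (a₁ : AlgGrp.Action (Red.bc (X ↘ Spec (CommRingCat.of k)) G₁) T₁)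
    (a₂ : AlgGrp.Action (Red.bc (X ↘ Spec (CommRingCat.of k)) G₂) T₂)
    (hT : NonAbH1.IsTorsorFor Scheme.fppfPrecoverage a)
    (hT₁ : NonAbH1.IsTorsorFor Scheme.fppfPrecoverage a₁)
    (hT₂ : NonAbH1.IsTorsorFor Scheme.fppfPrecoverage a₂)
    (t : Spec (CommRingCat.of k) ⟶ T.left) (t₁ : Spec (CommRingCat.of k) ⟶ T₁.left)
    (t₂ : Spec (CommRingCat.of k) ⟶ T₂.left)
    (ht : t ≫ T.hom = x) (ht₁ : t₁ ≫ T₁.hom = x) (ht₂ : t₂ ≫ T₂.hom = x)
    (f₁ : T₁ ⟶ T) (f₂ : T₂ ⟶ T)
    (hf₁ : AlgGrp.Action.IsEquivariant a₁ (a.restrict ((Over.pullback (X ↘ Spec (CommRingCat.of k))).map φ₁)) f₁)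
    (hf₂ : AlgGrp.Action.IsEquivariant a₂ (a.restrict ((Over.pullback (X ↘ Spec (CommRingCat.of k))).map φ₂)) f₂)
    (hft₁ : t₁ ≫ f₁.left = t) (hft₂ : t₂ ≫ f₂.left = t)
    (P : Over (Spec (CommRingCat.of k))) [GrpObj P] (π₁ : P ⟶ G₁) (π₂ : P ⟶ G₂) [IsMonHom π₁] [IsMonHom π₂]
    (hP : IsPullback π₁ π₂ φ₁ φ₂) :
    ∃ c : AlgGrp.Action (Red.bc (X ↘ Spec (CommRingCat.of k)) P) (pullback f₁ f₂),
      AlgGrp.Action.IsEquivariant c (a₁.restrict ((Over.pullback (X ↘ Spec (CommRingCat.of k))).map π₁)) (pullback.fst f₁ f₂) ∧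
      AlgGrp.Action.IsEquivariant c (a₂.restrict ((Over.pullback (X ↘ Spec (CommRingCat.of k))).map π₂)) (pullback.snd f₁ f₂) ∧
      NonAbH1.IsTorsorFor Scheme.fppfPrecoverage c := by
  classical
  set F := Over.pullback (X ↘ Spec (CommRingCat.of k))
  have hT₁' := NonAbLib.torsor_mono NonAbLib.fppf_le_fpqc hT₁
  have hT₂' := NonAbLib.torsor_mono NonAbLib.fppf_le_fpqc hT₂
  let ψ₁ := F.map π₁
  let ψ₂ := F.map π₂
  let χ₁ := F.map φ₁
  let χ₂ := F.map φ₂
  have hPb : IsPullback ψ₁ ψ₂ χ₁ χ₂ := hP.map F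
  have hψ : ψ₁ ≫ χ₁ = ψ₂ ≫ χ₂ := hPb.w
  have heq₁ : ∀ {Z : Over X} (g : Z ⟶ Red.bc (X ↘ Spec (CommRingCat.of k)) G₁) (y : Z ⟶ T₁),
      (lift g y ≫ a₁.act) ≫ f₁ = lift (g ≫ χ₁) (y ≫ f₁) ≫ a.act := fun g y => by
    rw [Category.assoc, hf₁, lift_whiskerLeft_assoc, AlgGrp.Action.lift_restrict_act]
  have heq₂ : ∀ {Z : Over X} (g : Z ⟶ Red.bc (X ↘ Spec (CommRingCat.of k)) G₂) (y : Z ⟶ T₂),
      (lift g y ≫ a₂.act) ≫ f₂ = lift (g ≫ χ₂) (y ≫ f₂) ≫ a.act := fun g y => by
    rw [Category.assoc, hf₂, lift_whiskerLeft_assoc, AlgGrp.Action.lift_restrict_act]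
  let act : Red.bc (X ↘ Spec (CommRingCat.of k)) P ⊗ pullback f₁ f₂ ⟶ pullback f₁ f₂ :=
    pullback.lift (lift (fst _ _ ≫ ψ₁) (snd _ _ ≫ pullback.fst f₁ f₂) ≫ a₁.act)
      (lift (fst _ _ ≫ ψ₂) (snd _ _ ≫ pullback.snd f₁ f₂) ≫ a₂.act)
      (by rw [heq₁, heq₂]; simp only [Category.assoc, hψ, pullback.condition])
  have hact₁ : ∀ {Z : Over X} (g : Z ⟶ Red.bc (X ↘ Spec (CommRingCat.of k)) P) (w : Z ⟶ pullback f₁ f₂),
      (lift g w ≫ act) ≫ pullback.fst f₁ f₂ = lift (g ≫ ψ₁) (w ≫ pullback.fst f₁ f₂) ≫ a₁.act := fun g w => by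
    simp only [act, Category.assoc, pullback.lift_fst, comp_lift_assoc, lift_fst_assoc, lift_snd_assoc]
  have hact₂ : ∀ {Z : Over X} (g : Z ⟶ Red.bc (X ↘ Spec (CommRingCat.of k)) P) (w : Z ⟶ pullback f₁ f₂),
      (lift g w ≫ act) ≫ pullback.snd f₁ f₂ = lift (g ≫ ψ₂) (w ≫ pullback.snd f₁ f₂) ≫ a₂.act := fun g w => by
    simp only [act, Category.assoc, pullback.lift_snd, comp_lift_assoc, lift_fst_assoc, lift_snd_assoc]
  let c : AlgGrp.Action (Red.bc (X ↘ Spec (CommRingCat.of k)) P) (pullback f₁ f₂) :=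
    { act := act
      one_act := by
        apply AlgGrp.Action.hom_ext_lift₂
        intro Z v w
        have hv : v ≫ η[Red.bc (X ↘ Spec (CommRingCat.of k)) P] = 1 := by
          rw [Hom.one_def, toUnit_unique (toUnit Z) v]
        rw [lift_whiskerRight_assoc, hv, lift_leftUnitor_hom]
        apply pullback.hom_ext
        · rw [hact₁, MonObj.one_comp, SchTorsor.one_act_pt]
        · rw [hact₂, MonObj.one_comp, SchTorsor.one_act_pt]
      mul_act := by
        apply AlgGrp.Action.hom_ext_lift₃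
        intro Z g g' w
        rw [lift_whiskerRight_assoc, ← Hom.mul_def, lift_lift_associator_hom_assoc, lift_whiskerLeft_assoc]
        apply pullback.hom_ext
        · rw [hact₁, hact₁, hact₁, MonObj.mul_comp, SchTorsor.act_assoc]
        · rw [hact₂, hact₂, hact₂, MonObj.mul_comp, SchTorsor.act_assoc] }
  refine ⟨c, ?_, ?_, ?_⟩
  · apply AlgGrp.Action.hom_ext_lift₂
    intro Z g w
    rw [lift_whiskerLeft_assoc, AlgGrp.Action.lift_restrict_act, ← Category.assoc]
    exact hact₁ g w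
  · apply AlgGrp.Action.hom_ext_lift₂
    intro Z g w
    rw [lift_whiskerLeft_assoc, AlgGrp.Action.lift_restrict_act, ← Category.assoc]
    exact hact₂ g w
  have hps : IsPseudoTorsorSch c := by
    refine NonAbLib.isPseudoTorsor_of_points c fun Z y w => ?_
    obtain ⟨g₁, hg₁⟩ := SchTorsor.exists_div hT₁.1 (y ≫ pullback.fst f₁ f₂) (w ≫ pullback.fst f₁ f₂)
    obtain ⟨g₂, hg₂⟩ := SchTorsor.exists_div hT₂.1 (y ≫ pullback.snd f₁ f₂) (w ≫ pullback.snd f₁ f₂)
    have hh : g₁ ≫ χ₁ = g₂ ≫ χ₂ := by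
      refine SchTorsor.act_free hT.1 (y := (w ≫ pullback.fst f₁ f₂) ≫ f₁) ?_
      rw [← heq₁, hg₁, Category.assoc, pullback.condition, ← Category.assoc, ← hg₂, heq₂, Category.assoc,
        ← pullback.condition, ← Category.assoc]
    refine ⟨hPb.lift g₁ g₂ hh, pullback.hom_ext ?_ ?_, fun g hg => hPb.hom_ext ?_ ?_⟩
    · rw [hact₁, hPb.lift_fst, hg₁]
    · rw [hact₂, hPb.lift_snd, hg₂]
    · rw [hPb.lift_fst]
      exact SchTorsor.act_free hT₁.1 (((hact₁ g w).symm.trans (congrArg (· ≫ pullback.fst f₁ f₂) hg)).trans hg₁.symm)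
    · rw [hPb.lift_snd]
      exact SchTorsor.act_free hT₂.1 (((hact₂ g w).symm.trans (congrArg (· ≫ pullback.snd f₁ f₂) hg)).trans hg₂.symm)
  refine ⟨hps, ?_⟩
  have hsurj := NonAbLib.surjective_pullback hx hT.1 hT₁' hT₂' ht ht₁ ht₂ f₁ f₂ hft₁ hft₂
  have hGb : ∀ (H : Over (Spec (CommRingCat.of k))) [IsFinite H.hom],
      IsFinite (F.obj H).hom ∧ Flat (F.obj H).hom ∧ LocallyOfFinitePresentation (F.obj H).hom :=
    fun H _ => ⟨inferInstanceAs (IsFinite (pullback.snd H.hom _)), inferInstanceAs (Flat (pullback.snd H.hom _)),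
      inferInstanceAs (LocallyOfFinitePresentation (pullback.snd H.hom _))⟩
  obtain ⟨hfG, hflG, hlG⟩ := hGb G
  obtain ⟨hfG₁, hflG₁, hlG₁⟩ := hGb G₁
  obtain ⟨hfG₂, hflG₂, hlG₂⟩ := hGb G₂
  obtain ⟨hF, -, -⟩ := NonAbLib.finite_flat_torsor (NonAbLib.torsor_mono NonAbLib.fppf_le_fpqc hT)
  obtain ⟨hF₁, -, -⟩ := NonAbLib.finite_flat_torsor hT₁'
  obtain ⟨hF₂, -, -⟩ := NonAbLib.finite_flat_torsor hT₂'
  have : IsZariskiLocalAtTarget (@LocallyOfFinitePresentation : MorphismProperty Scheme.{u}) :=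
    HasRingHomProperty.instIsZariskiLocalAtTarget _
  have := SchTorsor.torsor_property @LocallyOfFinitePresentation hT₁' hlG₁
  have := SchTorsor.torsor_property @LocallyOfFinitePresentation hT₂' hlG₂
  have hf₂fin : IsFinite f₂.left := by
    have : IsFinite (f₂.left ≫ T.hom) := by rw [Over.w]; infer_instance
    exact IsFinite.of_comp f₂.left T.hom
  have hf₂lfp : LocallyOfFinitePresentation f₂.left := by
    have : LocallyOfFinitePresentation (f₂.left ≫ T.hom) := by rw [Over.w]; infer_instance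
    exact S12442.locallyOfFinitePresentation_of_comp f₂.left T.hom
  have hsq := (IsPullback.of_hasPullback f₁ f₂).map (Over.forget X)
  have : IsFinite (pullback.fst f₁ f₂).left := MorphismProperty.of_isPullback hsq.flip hf₂fin
  have : LocallyOfFinitePresentation (pullback.fst f₁ f₂).left := MorphismProperty.of_isPullback hsq.flip hf₂lfp
  have : IsFinite (pullback f₁ f₂).hom := by rw [← Over.w (pullback.fst f₁ f₂)]; infer_instance
  have hWlfp : LocallyOfFinitePresentation (pullback f₁ f₂).hom := by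
    rw [← Over.w (pullback.fst f₁ f₂)]; infer_instance
  -- flatness of the first projection of `W ×_X W`
  have : Flat (pullback.snd (F.obj P).hom (pullback f₁ f₂).hom) := by
    have : Flat P.hom := inferInstance
    have : Flat (F.obj P).hom := inferInstanceAs (Flat (pullback.snd P.hom _))
    infer_instance
  have : IsIso (lift c.act (snd (F.obj P) (pullback f₁ f₂))).left := by
    have : IsIso (lift c.act (snd (F.obj P) (pullback f₁ f₂))) := hps
    exact inferInstanceAs (IsIso ((Over.forget X).map (lift c.act (snd (F.obj P) (pullback f₁ f₂)))))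
  have hflat : Flat (pullback.snd (pullback f₁ f₂).hom (pullback f₁ f₂).hom) := by
    rw [← MorphismProperty.cancel_left_of_respectsIso (P := @Flat)
      (lift c.act (snd (F.obj P) (pullback f₁ f₂))).left]
    rw [show (lift c.act (snd (F.obj P) (pullback f₁ f₂))).left ≫ pullback.snd _ _ =
      pullback.snd (F.obj P).hom (pullback f₁ f₂).hom from congrArg CommaMorphism.left (lift_snd c.act (snd _ _))]
    assumption
  have : Flat (pullback.fst (pullback f₁ f₂).hom (pullback f₁ f₂).hom) := by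
    rw [← pullbackSymmetry_hom_comp_snd]; infer_instance
  have hWflat : Flat (pullback f₁ f₂).hom := NonAbLib.flat_of_self_flat _
  refine ⟨Presieve.singleton (pullback f₁ f₂).hom, ?_, ?_⟩
  · exact (Scheme.singleton_mem_precoverage_iff _ _).2 ⟨hsurj.surj, ⟨hWflat, hWlfp⟩⟩
  · rintro S' g ⟨⟩
    exact ⟨𝟙 _, Category.id_comp _⟩

end Groth.Agent.S18764
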