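import Groth.Statements.S18776
import Groth.Agent.BunLib68.SubSum
import Groth.Agent.JacTheta.Curve
-- import your own Groth.Agent.* helpers here

set_option autoImplicit false
universe u
open CategoryTheory CategoryTheory.Limits AlgebraicGeometry
open VBCurve

namespace Groth.Agent.S18776

set_option linter.style.haveILetI false
set_option linter.unusedVariables false
open scoped H23.PicMul
open Groth.Agent Groth.Agent.CurveBundle Groth.Agent.CurveSlope Groth.Agent.CurveStable Groth.Agent.BunLib68

/-- Let k be a finite field and C a smooth proper geometrically integral curve over k (proper, smooth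
and geometrically integral over k, of dimension one) of genus one, i.e. dim_k H^1(C, O_C) = 1, with
a k-rational point O (an elliptic curve over k). Let F and F' be finite locally free O_C-modules of
ranks r ≥ 1 and s ≥ 1 such that F is semistable in the sense that deg G · rk F ≤ deg F · rk G for
every finite locally free submodule G of F of positive rank (the degree of a rank-n locally free
module being χ − n·χ(O_C)), and likewise for F'. Then for every finite locally free submodule G of F
⊗ F' of rank t ≥ 1 one has μ(G) − μ(F) − μ(F') ≤ 4, that is deg G · r · s ≤ t · (4 r s + deg F · s +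
deg F' · r). (The published statement takes F and F' arbitrary; that form fails for F the direct sum
of invertible modules of degrees 5 and −5 and F' = O_C, so both are taken semistable here, as the
published argument requires.) -/
theorem result (k : Type u) [Field k] [Finite k] (X : Scheme.{u}) [X.Over (Spec (CommRingCat.of k))]
    [IsProper (X ↘ Spec (CommRingCat.of k))] [Smooth (X ↘ Spec (CommRingCat.of k))]
    [GeometricallyIntegral (X ↘ Spec (CommRingCat.of k))] (hdim : topologicalKrullDim ↥X = 1)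
    (hg : Curv2.genus k X = 1) (O : Spec (CommRingCat.of k) ⟶ X) (hO : O ≫ (X ↘ Spec (CommRingCat.of k)) = 𝟙 _)
    (F F' : X.Modules) (r s : ℕ) (hr : 0 < r) (hs : 0 < s)
    (hF : FlatMod.IsFinLocFreeOfRank r F) (hF' : FlatMod.IsFinLocFreeOfRank s F')
    (hFss : (∀ (G : X.Modules) (r' : ℕ) (i : G ⟶ F), Mono i → 0 < r' → FlatMod.IsFinLocFreeOfRank r' G →
      Curv2.deg k X G r' * (r : ℤ) ≤ Curv2.deg k X F r * (r' : ℤ)))
    (hF'ss : (∀ (G : X.Modules) (r' : ℕ) (i : G ⟶ F'), Mono i → 0 < r' → FlatMod.IsFinLocFreeOfRank r' G →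
      Curv2.deg k X G r' * (s : ℤ) ≤ Curv2.deg k X F' s * (r' : ℤ)))
    (G : X.Modules) (t : ℕ) (ht : 0 < t) (hG : FlatMod.IsFinLocFreeOfRank t G)
    (i : G ⟶ CohB1.tensorMod F F') [Mono i] :
    Curv2.deg k X G t * (r : ℤ) * (s : ℤ) ≤
      (t : ℤ) * (4 * (r : ℤ) * (s : ℤ) + Curv2.deg k X F r * (s : ℤ) + Curv2.deg k X F' s * (r : ℤ)) := by
  haveI := geometricallyConnected_of_geometricallyIntegral k (X := X)
  haveI := isIntegral_of_geometricallyConnected k (X := X)
  haveI := isLocallyNoetherian' k (X := X)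
  have hO1 := finrank_h0_one k (X := X)
  let x : JacTheta.Pt k X := ⟨O, hO⟩
  have hPi := CurvePoint.isInvertible_ptMod x.pt x.isClosed k hdim
  have hP1 : Curv2.deg k X (CurvePoint.ptMod x.pt x.isClosed) 1 = -1 := by
    have h := CurveEmbed.deg_point k x.isClosed
    rw [x.finrank_residueField] at h
    exact h
  haveI : Mono (ClSub.idealModι (CurvePoint.ptIdeal x.pt x.isClosed)) :=
    (CurvePoint.shortExact_pt x.pt x.isClosed).mono_f
  have hFf := isFinLocFree_of_rank hF
  have hF'f := isFinLocFree_of_rank hF'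
  have hGf := isFinLocFree_of_rank hG
  have hr' : (0 : ℤ) < r := by exact_mod_cast hr
  have hdiv := Int.mul_ediv_add_emod (Curv2.deg k X F r) (r : ℤ)
  have hlo := Int.emod_nonneg (Curv2.deg k X F r) hr'.ne'
  have hhi := Int.emod_lt_of_pos (Curv2.deg k X F r) hr'
  obtain ⟨L, hL, hLc⟩ := ((JacTheta.O hdim x) ^ (Curv2.deg k X F r / (r : ℤ) + 2)).exists_rep
  have hdL : Curv2.deg k X L 1 = Curv2.deg k X F r / (r : ℤ) + 2 := by
    rw [← JacTheta.dgr_cl, ← hLc, JacTheta.dgr_zpow hdim, JacTheta.dgr_O hdim, mul_one]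
  obtain ⟨M, -, j, hj⟩ := SubSum.exists_mono k hdim hO1 hg hPi hP1 (ClSub.idealModι (CurvePoint.ptIdeal x.pt x.isClosed))
    hFf (ss_of k hdim.le hF hFss) (by rw [rk_eq hF]; exact hr) hL
    (by rw [rk_eq hF, ← deg_eq_dg k hF, hdL]; linear_combination hhi - hdiv)
  haveI := hj
  have hLf := isFinLocFree_of_rank (InvEnd.isFinLocFreeOfRank_one hL)
  have hm := CurveHiggs.mono_twist hF'f j
  obtain ⟨hr1, hd1⟩ := CurveDuality.dg_tensor_line k hdim hL hF'f
  have hsub : SubSum.Sub k (dg k F' + (rk F' : ℤ) * Curv2.deg k X L 1) (rk F') (CohB1.tensorMod L F') := by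
    intro K i hi hK
    have h := ss_twist k hdim hL hF'f (ss_of k hdim.le hF' hF'ss) K i hi hK
    rw [hd1, hr1] at h
    exact h
  have hb := SubSum.sub_sigma_tensor k hdim hLf hF'f hsub M G (i ≫ CurveHiggs.twist F' j) (@mono_comp _ _ _ _ _ i inferInstance _ hm) hGf
  rw [rk_eq hF', rk_eq hG, ← deg_eq_dg k hF', ← deg_eq_dg k hG, hdL] at hb
  have ht' : (0 : ℤ) ≤ t := Int.natCast_nonneg t
  have hs' : (0 : ℤ) ≤ s := Int.natCast_nonneg s
  have h1 := mul_le_mul_of_nonneg_left hb hr'.le
  have h2 := mul_nonneg (mul_nonneg ht' hs') hlo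
  have h3 := mul_nonneg (mul_nonneg ht' hs') hr'.le
  linear_combination h1 + h2 + 2 * h3 + (t : ℤ) * (s : ℤ) * hdiv

end Groth.Agent.S18776
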