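import Groth.Statements.S18787
import Groth.Agent.BunLib68.AutCount
-- import your own Groth.Agent.* helpers here

set_option autoImplicit false
universe u
open CategoryTheory CategoryTheory.Limits AlgebraicGeometry
open VBCurve

namespace Groth.Agent.S18787

set_option linter.style.haveILetI false
set_option linter.unusedVariables false
open Groth.Agent Groth.Agent.CurveBundle Groth.Agent.CurveSlope Groth.Agent.CurveStable Groth.Agent.BunLib68

/-- Let k be a finite field and C a smooth proper geometrically integral curve over k (proper, smooth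
and geometrically integral over k, of dimension one) of genus one, i.e. dim_k H^1(C, O_C) = 1, with
a k-rational point O (an elliptic curve over k); k is finite with q elements. Let L₁ and L₂ be
invertible O_C-modules of degree 0 (χ(L) − χ(O_C) = 0) and E = O_C ⊕ L₁ ⊕ L₂. Then the number of
automorphisms of E is: (q³ − 1)(q³ − q)(q³ − q²) if L₁ ≅ L₂ ≅ O_C; (q − 1)³ (q + 1) q if L₁ ≅ L₂ and
L₁ ≇ O_C; (q − 1)³ (q + 1) q if L₁ ≇ L₂ and L₂ ≅ O_C; and (q − 1)³ if O_C, L₁, L₂ are pairwise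
non-isomorphic. (In the third case the published value is (q − 1)² q³, and the published computation
gives (q − 1)³ q²; but there E ≅ O_C ⊕ O_C ⊕ L₁ with L₁ of degree 0 and non-trivial, whose
endomorphism ring is M₂(k) × k, so Aut(E) ≅ GL₂(k) × kˣ has (q − 1)³ (q + 1) q elements, the same
count as in the second case; the row states this corrected value.) (The published setting takes k of
characteristic at least 5; the argument does not use this and the row allows every finite field.) -/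
theorem result (k : Type u) [Field k] [Finite k] (X : Scheme.{u}) [X.Over (Spec (CommRingCat.of k))]
    [IsProper (X ↘ Spec (CommRingCat.of k))] [Smooth (X ↘ Spec (CommRingCat.of k))]
    [GeometricallyIntegral (X ↘ Spec (CommRingCat.of k))] (hdim : topologicalKrullDim ↥X = 1)
    (hg : Curv2.genus k X = 1) (O : Spec (CommRingCat.of k) ⟶ X) (hO : O ≫ (X ↘ Spec (CommRingCat.of k)) = 𝟙 _)
    (L₁ L₂ : X.Modules) (hL₁ : PicF.IsInvertible L₁) (hL₂ : PicF.IsInvertible L₂)
    (hd₁ : Curv2.deg k X L₁ 1 = 0) (hd₂ : Curv2.deg k X L₂ 1 = 0) :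
    (Nonempty (L₁ ≅ Coh.structureModule X) → Nonempty (L₂ ≅ Coh.structureModule X) →
      Nat.card (Aut (Coh.structureModule X ⊞ L₁ ⊞ L₂)) =
        (Nat.card k ^ 3 - 1) * (Nat.card k ^ 3 - Nat.card k) * (Nat.card k ^ 3 - Nat.card k ^ 2)) ∧
    (Nonempty (L₁ ≅ L₂) → ¬ Nonempty (L₁ ≅ Coh.structureModule X) →
      Nat.card (Aut (Coh.structureModule X ⊞ L₁ ⊞ L₂)) = (Nat.card k - 1) ^ 3 * (Nat.card k + 1) * Nat.card k) ∧
    (¬ Nonempty (L₁ ≅ L₂) → Nonempty (L₂ ≅ Coh.structureModule X) →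
      Nat.card (Aut (Coh.structureModule X ⊞ L₁ ⊞ L₂)) = (Nat.card k - 1) ^ 3 * (Nat.card k + 1) * Nat.card k) ∧
    (¬ Nonempty (L₁ ≅ Coh.structureModule X) → ¬ Nonempty (L₂ ≅ Coh.structureModule X) → ¬ Nonempty (L₁ ≅ L₂) →
      Nat.card (Aut (Coh.structureModule X ⊞ L₁ ⊞ L₂)) = (Nat.card k - 1) ^ 3) := by
  haveI := geometricallyConnected_of_geometricallyIntegral k (X := X)
  haveI := isIntegral_of_geometricallyConnected k (X := X)
  have hO1 := finrank_h0_one k (X := X)
  have hone := CurveDeg.isInvertible_structureModule (X := X)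
  have hd0 : Curv2.deg k X (Coh.structureModule X) 1 = 0 := CurveDeg.deg_structureModule k
  have hb := fun {L : X.Modules} (hL : PicF.IsInvertible L) => AutCount.bijective_scal k hdim hO1 hL
  have hz := fun {A B : X.Modules} (hA : PicF.IsInvertible A) (hB : PicF.IsInvertible B)
      (hda : Curv2.deg k X A 1 = 0) (hdb : Curv2.deg k X B 1 = 0) (hne : ¬ Nonempty (A ≅ B)) (f : A ⟶ B) =>
    AutCount.hom_eq_zero k hdim hA hB (hda.trans hdb.symm) hne f
  have hq : 1 < Nat.card k := Finite.one_lt_card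
  refine ⟨?_, ?_, ?_, ?_⟩
  · rintro ⟨e₁⟩ ⟨e₂⟩
    rw [AutCount.card_aut_iso (biprod.mapIso (Iso.refl (Coh.structureModule X))
      (biprod.mapIso e₁ (e₂ ≪≫ AutCount.oneIso (Coh.structureModule X)) ≪≫ AutCount.consIso (Coh.structureModule X) 1) ≪≫
      AutCount.consIso (Coh.structureModule X) 2), AutCount.card_aut_pow (hb hone) 3,
      Fin.prod_univ_three]
    simp
  · rintro ⟨e⟩ h1
    have hiso : Nat.card (Aut (Coh.structureModule X ⊞ L₁ ⊞ L₂)) =
        Nat.card (Aut (Coh.structureModule X ⊞ ⨁ fun _ : Fin 2 => L₁)) :=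
      AutCount.card_aut_iso (biprod.mapIso (Iso.refl _)
        (biprod.mapIso (Iso.refl L₁) (e.symm ≪≫ AutCount.oneIso L₁) ≪≫ AutCount.consIso L₁ 1))
    rw [hiso, AutCount.card_aut_biprod
      (fun f => biproduct.hom_ext _ _ fun i => by
        rw [zero_comp]; exact hz hone hL₁ hd0 hd₁ (fun ⟨g⟩ => h1 ⟨g.symm⟩) _)
      (fun f => biproduct.hom_ext' _ _ fun i => by
        rw [comp_zero]; exact hz hL₁ hone hd₁ hd0 h1 _),
      AutCount.card_aut_one (hb hone), AutCount.card_aut_pow (hb hL₁) 2, Fin.prod_univ_two]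
    obtain ⟨q, hq'⟩ : ∃ q, Nat.card k = q + 1 := ⟨Nat.card k - 1, by omega⟩
    have e1 : (q + 1) ^ 2 - 1 = q * (q + 2) := Nat.sub_eq_of_eq_add (by ring)
    have e2 : (q + 1) ^ 2 - (q + 1) = q * (q + 1) := Nat.sub_eq_of_eq_add (by ring)
    simp [hq', e1, e2]
    ring
  · rintro h12 ⟨e₂⟩
    have h1 : ¬ Nonempty (L₁ ≅ Coh.structureModule X) := fun ⟨g⟩ => h12 ⟨g ≪≫ e₂.symm⟩
    have hiso : Nat.card (Aut (Coh.structureModule X ⊞ L₁ ⊞ L₂)) =
        Nat.card (Aut (L₁ ⊞ ⨁ fun _ : Fin 2 => Coh.structureModule X)) :=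
      AutCount.card_aut_iso (biprod.braiding _ _ ≪≫ biprod.associator _ _ _ ≪≫
        biprod.mapIso (Iso.refl L₁) (biprod.mapIso e₂ (AutCount.oneIso _) ≪≫ AutCount.consIso _ 1))
    rw [hiso, AutCount.card_aut_biprod
      (fun f => biproduct.hom_ext _ _ fun i => by
        rw [zero_comp]; exact hz hL₁ hone hd₁ hd0 h1 _)
      (fun f => biproduct.hom_ext' _ _ fun i => by
        rw [comp_zero]; exact hz hone hL₁ hd0 hd₁ (fun ⟨g⟩ => h1 ⟨g.symm⟩) _),
      AutCount.card_aut_one (hb hL₁), AutCount.card_aut_pow (hb hone) 2, Fin.prod_univ_two]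
    obtain ⟨q, hq'⟩ : ∃ q, Nat.card k = q + 1 := ⟨Nat.card k - 1, by omega⟩
    have e1 : (q + 1) ^ 2 - 1 = q * (q + 2) := Nat.sub_eq_of_eq_add (by ring)
    have e2 : (q + 1) ^ 2 - (q + 1) = q * (q + 1) := Nat.sub_eq_of_eq_add (by ring)
    simp [hq', e1, e2]
    ring
  · intro h1 h2 h12
    rw [AutCount.card_aut_biprod
      (fun f => biprod.hom_ext _ _ (by rw [zero_comp]; exact hz hone hL₁ hd0 hd₁ (fun ⟨g⟩ => h1 ⟨g.symm⟩) _)
        (by rw [zero_comp]; exact hz hone hL₂ hd0 hd₂ (fun ⟨g⟩ => h2 ⟨g.symm⟩) _))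
      (fun f => biprod.hom_ext' _ _ (by rw [comp_zero]; exact hz hL₁ hone hd₁ hd0 h1 _)
        (by rw [comp_zero]; exact hz hL₂ hone hd₂ hd0 h2 _)),
      AutCount.card_aut_biprod (hz hL₁ hL₂ hd₁ hd₂ h12) (hz hL₂ hL₁ hd₂ hd₁ fun ⟨g⟩ => h12 ⟨g.symm⟩),
      AutCount.card_aut_one (hb hone), AutCount.card_aut_one (hb hL₁), AutCount.card_aut_one (hb hL₂)]
    ring

end Groth.Agent.S18787
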