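import Groth.Statements.S18788
import Groth.Agent.BunLib68.SelfExt
import Groth.Agent.BunLib68.GenusOne
import Groth.Agent.Lib.CurveHiggs
import Groth.Agent.FFun.Basic
-- import your own Groth.Agent.* helpers here

set_option autoImplicit false
universe u
open CategoryTheory CategoryTheory.Limits AlgebraicGeometry
open VBCurve

namespace Groth.Agent.S18788

set_option linter.style.haveILetI false
set_option linter.unusedVariables false
set_option backward.isDefEq.respectTransparency false
open Groth.Agent Groth.Agent.CurveBundle Groth.Agent.CurveSlope Groth.Agent.CurveStable Groth.Agent.BunLib68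

/-- Let k be a finite field and C a smooth proper geometrically integral curve over k (proper, smooth
and geometrically integral over k, of dimension one) of genus one, i.e. dim_k H^1(C, O_C) = 1, with
a k-rational point O (an elliptic curve over k); k is finite with q elements. Let F be an O_C-module
with a short exact sequence 0 → O_C → F → O_C → 0 that does not split, and L an invertible
O_C-module of degree 0 (χ(L) − χ(O_C) = 0). Then Aut(O_C ⊕ F) has (q − 1)² q³ elements, and if L ≇
O_C then Aut(O_C ⊕ (L ⊗ F)) has (q − 1)² q elements. (The source states this for E = O_C ⊕ G with G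
a geometrically indecomposable rank-2 bundle of degree 0, which it writes as L ⊗ F with F the
non-split self-extension of O_C by a classification it quotes; the row takes G in that form
directly. The accompanying count of isomorphism classes is not restated.) (The published setting
takes k of characteristic at least 5; the argument does not use this and the row allows every finite
field.) -/
theorem result (k : Type u) [Field k] [Finite k] (X : Scheme.{u}) [X.Over (Spec (CommRingCat.of k))]
    [IsProper (X ↘ Spec (CommRingCat.of k))] [Smooth (X ↘ Spec (CommRingCat.of k))]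
    [GeometricallyIntegral (X ↘ Spec (CommRingCat.of k))] (hdim : topologicalKrullDim ↥X = 1)
    (hg : Curv2.genus k X = 1) (O : Spec (CommRingCat.of k) ⟶ X) (hO : O ≫ (X ↘ Spec (CommRingCat.of k)) = 𝟙 _)
    (T : ShortComplex X.Modules) (hT : T.ShortExact)
    (e₁ : T.X₁ ≅ Coh.structureModule X) (e₃ : T.X₃ ≅ Coh.structureModule X) (hns : ¬ IsSplitEpi T.g)
    (L : X.Modules) (hL : PicF.IsInvertible L) (hdeg : Curv2.deg k X L 1 = 0) :
    Nat.card (Aut (Coh.structureModule X ⊞ T.X₂)) = (Nat.card k - 1) ^ 2 * Nat.card k ^ 3 ∧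
    (¬ Nonempty (L ≅ Coh.structureModule X) →
      Nat.card (Aut (Coh.structureModule X ⊞ CohB1.tensorMod L T.X₂)) = (Nat.card k - 1) ^ 2 * Nat.card k) := by
  haveI := geometricallyConnected_of_geometricallyIntegral k (X := X)
  haveI := isIntegral_of_geometricallyConnected k (X := X)
  haveI := isLocallyNoetherian' k (X := X)
  have hO1 := finrank_h0_one k (X := X)
  have hone := CurveDeg.isInvertible_structureModule (X := X)
  have hd0 : Curv2.deg k X (Coh.structureModule X) 1 = 0 := CurveDeg.deg_structureModule k
  let f : Coh.structureModule X ⟶ T.X₂ := e₁.inv ≫ T.f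
  let g : T.X₂ ⟶ Coh.structureModule X := T.g ≫ e₃.hom
  have w : f ≫ g = 0 := by simp [f, g]
  have hS : (ShortComplex.mk f g w).ShortExact :=
    ShortComplex.shortExact_of_iso (ShortComplex.isoMk e₁ (Iso.refl _) e₃ (by simp [f]) (by simp [g])) hT
  haveI : Mono f := hS.mono_f
  haveI : Epi g := hS.epi_g
  have ns : ∀ s : Coh.structureModule X ⟶ T.X₂, s ≫ g ≠ 𝟙 _ := fun s hs => hns ⟨⟨⟨e₃.hom ≫ s, by
    rw [← cancel_mono e₃.hom, Category.assoc, Category.assoc]
    show e₃.hom ≫ s ≫ g = _
    rw [hs, Category.comp_id, Category.id_comp]⟩⟩⟩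
  have ns' : ∀ r : T.X₂ ⟶ Coh.structureModule X, f ≫ r ≠ 𝟙 _ := fun r hr =>
    ns _ (ShortComplex.Splitting.ofExactOfRetraction _ hS.exact r hr inferInstance).s_g
  let D : SelfExt.Data k (Coh.structureModule X) T.X₂ :=
    { f := f, g := g, w := w, mono := inferInstance, epi := inferInstance
      lift := fun u hu => ⟨hS.exact.lift u hu, hS.exact.lift_f u hu⟩
      liftF := fun u hu => ⟨hS.exact.lift u hu, hS.exact.lift_f u hu⟩
      desc := fun u hu => ⟨hS.exact.desc u hu, hS.exact.g_desc u hu⟩
      descF := fun u hu => ⟨hS.exact.desc u hu, hS.exact.g_desc u hu⟩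
      nonsplit := ns, nonsplit' := ns'
      sP := AutCount.scal k _, sF := AutCount.scal k _
      surj := (AutCount.bijective_scal k hdim hO1 hone).2
      natF := fun u a => FFun.smulMod_naturality u a
      natG := fun u a => FFun.smulMod_naturality u a }
  refine ⟨D.card_aut_biprod, fun hne => ?_⟩
  have hne' : ¬ Nonempty (Coh.structureModule X ≅ L) := fun ⟨e⟩ => hne ⟨e.symm⟩
  have hLf := isFinLocFree_of_rank (InvEnd.isFinLocFreeOfRank_one hL)
  have hS' := CurveTensor.shortExact_tensor hLf f g w hS
  haveI := hS'.mono_f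
  haveI := hS'.epi_g
  let u := KFlatLib.tensorUnitIso L
  have z1 : ∀ φ : Coh.structureModule X ⟶ CohB1.tensorMod L T.X₂, φ = 0 := by
    intro φ
    have h0 : φ ≫ (DCoh.tensorBi.obj L).map g = 0 := by
      rw [← cancel_mono u.hom, zero_comp]
      exact AutCount.hom_eq_zero k hdim hone hL (hd0.trans hdeg.symm) hne' _
    rw [← hS'.exact.lift_f φ h0]
    have hv : hS'.exact.lift φ h0 = 0 := by
      rw [← cancel_mono u.hom, zero_comp]
      exact AutCount.hom_eq_zero k hdim hone hL (hd0.trans hdeg.symm) hne' _
    rw [hv, zero_comp]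
  have z2 : ∀ φ : CohB1.tensorMod L T.X₂ ⟶ Coh.structureModule X, φ = 0 := by
    intro φ
    have h0 : (DCoh.tensorBi.obj L).map f ≫ φ = 0 := by
      rw [← cancel_epi u.inv, comp_zero]
      exact AutCount.hom_eq_zero k hdim hL hone (hdeg.trans hd0.symm) hne _
    rw [← hS'.exact.g_desc φ h0]
    have hv : hS'.exact.desc φ h0 = 0 := by
      rw [← cancel_epi u.inv, comp_zero]
      exact AutCount.hom_eq_zero k hdim hL hone (hdeg.trans hd0.symm) hne _
    rw [hv, comp_zero]
  obtain ⟨L', hL', hdL', ⟨e⟩⟩ := CurveDuality.exists_inverse_deg k hdim hL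
  have hF : Nat.card (Aut (CohB1.tensorMod L T.X₂)) = Nat.card (Aut T.X₂) :=
    (Nat.card_congr ((CurveHiggs.twistEquiv e).fullyFaithfulFunctor.autMulEquivOfFullyFaithful T.X₂).toEquiv).symm
  rw [AutCount.card_aut_biprod z1 z2, hF, AutCount.card_aut_one (AutCount.bijective_scal k hdim hO1 hone),
    D.card_aut]
  ring

end Groth.Agent.S18788
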