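import Groth.Statements.S18789
import Groth.Agent.GradedPt41.Basic
import Mathlib.RingTheory.Nakayama
import Mathlib.LinearAlgebra.Matrix.NonsingularInverse
import Mathlib.LinearAlgebra.Matrix.ToLin
import Mathlib.Algebra.Module.Projective

set_option autoImplicit false
universe u v w x
open TorusGr

namespace Groth.Agent.S18789

open DirectSum in
/-- Let `A` be a commutative algebra over a field `k`, graded by an additive commutative group `M` (for
`M` the character group of a split torus `T` this is a `T`-action on `Spec A`, and an `M`-graded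
`A`-module is a `T`-equivariant quasi-coherent sheaf), let `P` be a finitely generated projective
`A`-module with a compatible `M`-grading (a locally free `T`-sheaf of finite rank), and let `m` be a
homogeneous maximal ideal with residue field `k` (a `T`-fixed rational point). If homogeneous
elements `f i` of `P` reduce to a basis of `P/mP`, then there is a homogeneous `s ∉ m` such that
after inverting `s` the `f i` generate `P` and every relation among them is killed by a power of
`s`: on the invariant open `D(s)` the module is free on the homogeneous sections `f i`, with the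
weights of the fibre `P/mP`. (The published statement has `M ≅ ℤ^r`, a split torus; here `M` is any
additive commutative group, i.e. any diagonalizable group.) -/
theorem result
    {k : Type u} [Field k] {M : Type v} [AddCommGroup M] [DecidableEq M]
    {A : Type w} [CommRing A] [Algebra k A] (𝒜 : M → Submodule k A) [GradedAlgebra 𝒜]
    {P : Type x} [AddCommGroup P] [Module A P] [Module k P] [IsScalarTower k A P]
    (ℳ : M → Submodule k P) [Decomposition ℳ] [SetLike.GradedSMul 𝒜 ℳ]
    [Module.Finite A P] [Module.Projective A P]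
    (m : Ideal A) [m.IsMaximal] (hm : m.IsHomogeneous 𝒜)
    (hrat : Function.Surjective (algebraMap k (A ⧸ m)))
    {n : ℕ} (wt : Fin n → M) (f : Fin n → P) (hf : ∀ i, f i ∈ ℳ (wt i))
    (hli : LinearIndependent (A ⧸ m)
      (fun i => (Submodule.Quotient.mk (f i) : P ⧸ (m • (⊤ : Submodule A P)))))
    (hsp : Submodule.span A (Set.range f) ⊔ m • (⊤ : Submodule A P) = ⊤) :
    ∃ s : A, SetLike.IsHomogeneousElem 𝒜 s ∧ s ∉ m ∧
      (∀ p : P, ∃ (N : ℕ) (c : Fin n → A), s ^ N • p = ∑ i, c i • f i) ∧
      (∀ c : Fin n → A, ∑ i, c i • f i = 0 → ∃ N : ℕ, ∀ i, s ^ N * c i = 0) := by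
  classical
  let N : Submodule A P := Submodule.span A (Set.range f)
  obtain ⟨r, hr1, hr⟩ : ∃ r : A, r - 1 ∈ m ∧ ∀ p : P, r • p ∈ N := by
    have htop : (⊤ : Submodule A (P ⧸ N)) ≤ m • ⊤ := by
      intro q _
      obtain ⟨p, rfl⟩ := N.mkQ_surjective q
      have hp : p ∈ N ⊔ m • (⊤ : Submodule A P) := by rw [hsp]; trivial
      obtain ⟨y, hy, z, hz, rfl⟩ := Submodule.mem_sup.1 hp
      rw [map_add, show N.mkQ y = 0 from (Submodule.Quotient.mk_eq_zero _).2 hy, zero_add]
      have := Submodule.mem_map_of_mem (f := N.mkQ) hz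
      rw [Submodule.map_smul''] at this
      exact (Submodule.smul_mono le_rfl le_top : m • _ ≤ m • (⊤ : Submodule A (P ⧸ N))) this
    obtain ⟨r, hr1, hr⟩ :=
      Submodule.exists_sub_one_mem_and_smul_eq_zero_of_fg_of_le_smul m ⊤ Module.Finite.fg_top htop
    refine ⟨r, hr1, fun p => ?_⟩
    have := hr (N.mkQ p) trivial
    rw [← map_smul] at this
    exact (Submodule.Quotient.mk_eq_zero _).1 this
  have h0 : ∀ a : A, a ∉ m → ((DirectSum.decompose 𝒜 a (0 : M) : 𝒜 (0 : M)) : A) ∉ m := by
    intro a ha h
    apply ha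
    obtain ⟨c, hc⟩ := hrat (Ideal.Quotient.mk m a)
    have hd : a - algebraMap k A c ∈ m := by
      rw [← Ideal.Quotient.eq]
      exact hc.symm
    have h2 := hm 0 hd
    rw [DirectSum.decompose_sub, DirectSum.sub_apply, Submodule.coe_sub,
      DirectSum.decompose_of_mem_same 𝒜 (SetLike.algebraMap_mem_graded (A := 𝒜) c)] at h2
    have h3 := m.sub_mem h h2
    rw [sub_sub_cancel] at h3
    simpa using m.add_mem hd h3
  set s0 : A := ((DirectSum.decompose 𝒜 r (0 : M) : 𝒜 (0 : M)) : A) with hs0def
  have hs0 : s0 ∉ m := h0 r fun h => (inferInstance : m.IsMaximal).ne_top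
    ((Ideal.eq_top_iff_one _).2 (by simpa using m.sub_mem h hr1))
  have hcompN : ∀ q ∈ N, ∀ (a : A) (j : M), ((DirectSum.decompose ℳ (a • q) j : ℳ j) : P) ∈ N := by
    intro q hq
    induction hq using Submodule.span_induction with
    | mem b hb =>
      obtain ⟨i, rfl⟩ := hb
      intro a j
      rw [Groth.Agent.GradedPt41.decompose_smul 𝒜 ℳ a (hf i) j]
      exact Submodule.smul_mem _ _ (Submodule.subset_span ⟨i, rfl⟩)
    | zero => simp
    | add x y _ _ hx hy =>
      intro a j
      rw [smul_add, DirectSum.decompose_add, DirectSum.add_apply, Submodule.coe_add]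
      exact add_mem (hx a j) (hy a j)
    | smul c x _ hx =>
      intro a j
      rw [smul_smul]
      exact hx (a * c) j
  have hgen : ∀ p : P, s0 • p ∈ N := by
    intro p
    induction p using DirectSum.Decomposition.inductionOn ℳ with
    | zero => simp
    | @homogeneous j q =>
      have h2 := hcompN _ (hr (q : P)) 1 j
      rw [one_smul, Groth.Agent.GradedPt41.decompose_smul 𝒜 ℳ r q.2 j, sub_self] at h2
      exact h2
    | add x y hx hy => rw [smul_add]; exact add_mem hx hy
  -- a splitting up to the factor `s0`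
  let g : (Fin n → A) →ₗ[A] P := Fintype.linearCombination A f
  have hg : ∀ c, g c = ∑ i, c i • f i := fun c => Fintype.linearCombination_apply A f c
  obtain ⟨σ, hσ⟩ : ∃ σ : P →ₗ[A] (Fin n → A), g ∘ₗ σ = s0 • LinearMap.id := by
    let q : (Fin n → A) →ₗ[A] N := g.codRestrict _ fun c => by
        rw [hg]
        exact Submodule.sum_mem _ fun i _ => Submodule.smul_mem _ _ (Submodule.subset_span ⟨i, rfl⟩)
    have hq : Function.Surjective q := by
      rintro ⟨x, hx⟩
      obtain ⟨c, hc⟩ := (Submodule.mem_span_range_iff_exists_fun A).1 hx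
      exact ⟨c, Subtype.ext ((hg c).trans hc)⟩
    obtain ⟨σ, hσ⟩ := Module.projective_lifting_property q
      ((s0 • LinearMap.id : P →ₗ[A] P).codRestrict _ fun p => hgen p) hq
    exact ⟨σ, LinearMap.ext fun p => congrArg Subtype.val (LinearMap.congr_fun hσ p)⟩
  let π : (Fin n → A) →ₗ[A] (Fin n → A) := s0 • LinearMap.id - σ ∘ₗ g
  have hπm : ∀ c i, π c i ∈ m := by
    intro c i
    have h2 : g (π c) = 0 := by
      have := LinearMap.congr_fun hσ (g c)
      simp only [LinearMap.comp_apply, LinearMap.smul_apply, LinearMap.id_apply] at this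
      simp [π, this]
    rw [hg] at h2
    have h3 := congrArg (m • (⊤ : Submodule A P)).mkQ h2
    rw [map_zero, map_sum] at h3
    have h4 := Fintype.linearIndependent_iff.1 hli (fun i => Ideal.Quotient.mk m (π c i))
      (by rw [← h3]; refine Finset.sum_congr rfl fun i _ => ?_; rfl) i
    exact Ideal.Quotient.eq_zero_iff_mem.1 h4
  let Mx : Matrix (Fin n) (Fin n) A := LinearMap.toMatrix' π
  let D : Matrix (Fin n) (Fin n) A := Matrix.scalar (Fin n) s0 - Mx
  have hD : D.det ∉ m := by
    have : Ideal.Quotient.mk m D.det = Ideal.Quotient.mk m s0 ^ n := by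
      rw [RingHom.map_det]
      have : (Ideal.Quotient.mk m).mapMatrix D = Matrix.scalar (Fin n) (Ideal.Quotient.mk m s0) := by
        ext i l
        have hM : Ideal.Quotient.mk m (Mx i l) = 0 :=
          Ideal.Quotient.eq_zero_iff_mem.2 (by simpa [Mx, LinearMap.toMatrix'_apply] using hπm _ i)
        simp [D, Matrix.diagonal_apply, hM, apply_ite (Ideal.Quotient.mk m)]
      rw [this]
      simp
    intro h
    rw [Ideal.Quotient.eq_zero_iff_mem.2 h] at this
    exact hs0 (Ideal.Quotient.eq_zero_iff_mem.1 (eq_zero_of_pow_eq_zero this.symm))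
  have hkill : ∀ c : Fin n → A, g c = 0 → ∀ i, D.det * c i = 0 := by
    intro c hc i
    have h2 : D.mulVec c = 0 := by
      have h5 : Mx.mulVec c = π c := by simp [Mx, LinearMap.toMatrix'_mulVec]
      rw [Matrix.sub_mulVec, h5]
      funext l
      simp [π, hc, Matrix.mulVec_diagonal]
    have h3 := congrArg (fun v => D.adjugate.mulVec v i) h2
    simpa [Matrix.mulVec_mulVec, Matrix.adjugate_mul, Matrix.smul_mulVec] using h3
  set d : A := ((DirectSum.decompose 𝒜 D.det (0 : M) : 𝒜 (0 : M)) : A)
  have hd : d ∉ m := h0 _ hD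
  have hkill' : ∀ c : Fin n → A, g c = 0 → ∀ i, d * c i = 0 := by
    intro c hc i
    have hrel : ∀ j : M, g (fun l => ((DirectSum.decompose 𝒜 (c l) (j - wt l) : 𝒜 (j - wt l)) : A)) = 0 := by
      intro j
      rw [hg] at hc ⊢
      let pr : P →+ P := AddMonoidHom.mk' (fun z => ((DirectSum.decompose ℳ z j : ℳ j) : P))
        (fun y z => by rw [DirectSum.decompose_add, DirectSum.add_apply, Submodule.coe_add])
      have h2 := congrArg pr hc
      rw [map_sum, map_zero] at h2
      rw [← h2]
      exact Finset.sum_congr rfl fun l _ =>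
        (Groth.Agent.GradedPt41.decompose_smul 𝒜 ℳ (c l) (hf l) j).symm
    rw [← DirectSum.sum_support_decompose 𝒜 (c i), Finset.mul_sum]
    refine Finset.sum_eq_zero fun l _ => ?_
    have h2 := hkill _ (hrel (l + wt i)) i
    have hcast : ∀ l', l' = l → ((DirectSum.decompose 𝒜 (c i) l' : 𝒜 l') : A) =
        ((DirectSum.decompose 𝒜 (c i) l : 𝒜 l) : A) := by rintro _ rfl; rfl
    rw [hcast _ (add_sub_cancel_right l (wt i))] at h2
    have h3 := DirectSum.coe_decompose_mul_add_of_right_mem 𝒜 (a := D.det) (i := (0 : M))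
      (SetLike.coe_mem (DirectSum.decompose 𝒜 (c i) l))
    rw [h2] at h3
    simpa using h3.symm
  refine ⟨s0 * d, ⟨0 + 0, SetLike.mul_mem_graded (SetLike.coe_mem _) (SetLike.coe_mem _)⟩,
    fun h => ((inferInstance : m.IsMaximal).isPrime.mem_or_mem h).elim hs0 hd, ?_, ?_⟩
  · intro p
    obtain ⟨c, hc⟩ := (Submodule.mem_span_range_iff_exists_fun A).1 (hgen p)
    refine ⟨1, fun i => d * c i, ?_⟩
    rw [pow_one, mul_comm s0 d, mul_smul, ← hc, Finset.smul_sum]
    simp only [mul_smul]
  · intro c hc
    refine ⟨1, fun i => ?_⟩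
    rw [pow_one, mul_assoc, hkill' c ((hg c).trans hc) i, mul_zero]

end Groth.Agent.S18789
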