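import Groth.Statements.S18791
import Groth.Agent.GradedPt41.Basic
import Mathlib.RingTheory.Nakayama
import Mathlib.RingTheory.Localization.AtPrime.Basic

set_option autoImplicit false
universe u v w x
open TorusGr

namespace Groth.Agent.S18791

/-- Let `φ : B → A` be a degree-preserving homomorphism of commutative algebras over a field `k` graded
by an additive commutative group `M` (for `M` the character group of a split torus, an equivariant
morphism `Spec A → Spec B`), and let `m` be a maximal ideal of `A` containing all homogeneous
elements of non-zero degree (a fixed point). Then the ideal of those `b` whose image is zero in the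
local ring `A_m` is homogeneous: the homogeneous (weight) components of such a `b` again die in
`A_m`. Since `A_m` embeds in its completion when `A` is Noetherian, these are the elements of `B`
that die in the completed local ring. (The published lemma asserts moreover that, for `B = k[Y_1, …,
Y_d]` mapping the `Y_i` to semi-invariant lifts of a basis of `m/m²`, the kernel of the induced
surjection of completions `k[[Y]] → Â_m` is generated by semi-invariant polynomials; generation of
that kernel by polynomials can fail, so only the statement about polynomial elements of the kernel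
is recorded here. The published statement has `M ≅ ℤ^r` (a split torus) and `B` the polynomial ring
on the lifts; here `M` is any additive commutative group and `B` any `M`-graded `k`-algebra.) -/
theorem result
    {k : Type u} [Field k] {M : Type v} [AddCommGroup M] [DecidableEq M]
    {A : Type w} [CommRing A] [Algebra k A] (𝒜 : M → Submodule k A) [GradedAlgebra 𝒜]
    {B : Type x} [CommRing B] [Algebra k B] (ℬ : M → Submodule k B) [GradedAlgebra ℬ]
    (φ : B →ₐ[k] A) (hφ : ∀ i : M, ∀ b ∈ ℬ i, φ b ∈ 𝒜 i)
    (m : Ideal A) [m.IsMaximal] (hfix : ∀ i : M, i ≠ 0 → ∀ a ∈ 𝒜 i, a ∈ m) :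
    (RingHom.ker ((algebraMap A (Localization.AtPrime m)).comp (φ : B →+* A))).IsHomogeneous ℬ := by
  classical
  intro j b hb
  set x : A := φ b with hxdef
  have hcomp : ∀ (b : B) (i : M),
      φ ((DirectSum.decompose ℬ b i : ℬ i) : B) = ((DirectSum.decompose 𝒜 (φ b) i : 𝒜 i) : A) := by
    intro b i
    induction b using DirectSum.Decomposition.inductionOn ℬ with
    | zero => simp
    | @homogeneous l c =>
      by_cases h : l = i
      · subst h
        rw [DirectSum.decompose_of_mem_same ℬ c.2, DirectSum.decompose_of_mem_same 𝒜 (hφ _ _ c.2)]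
      · rw [DirectSum.decompose_of_mem_ne ℬ c.2 h, DirectSum.decompose_of_mem_ne 𝒜 (hφ _ _ c.2) h, map_zero]
    | add c d hc hd =>
      rw [map_add φ, DirectSum.decompose_add, DirectSum.decompose_add, DirectSum.add_apply,
        DirectSum.add_apply]
      push_cast
      rw [map_add φ, hc, hd]
  have hb' : algebraMap A (Localization.AtPrime m) x = 0 := hb
  obtain ⟨⟨s, hs⟩, hsx⟩ := (IsLocalization.map_eq_zero_iff m.primeCompl _ x).1 hb'
  let S : Finset M := (DirectSum.decompose 𝒜 x).support
  let c : M → A := fun i => ((DirectSum.decompose 𝒜 x i : 𝒜 i) : A)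
  set s0 : A := ((DirectSum.decompose 𝒜 s (0 : M) : 𝒜 (0 : M)) : A) with hs0def
  have hs0 : s0 ∉ m := fun h => hs (by
    have h2 : s - s0 ∈ m := Groth.Agent.GradedPt41.sub_decompose_mem 𝒜 (I := m.restrictScalars k) 0 s
      (fun i hi => hfix i hi _ (SetLike.coe_mem _))
    simpa using m.add_mem h2 h)
  let L := Localization.AtPrime m
  let N : Submodule L L := Submodule.span L (Set.range fun i : S => algebraMap A L (c i))
  have hN : ∀ i, algebraMap A L (c i) ∈ (IsLocalRing.maximalIdeal L) • N := by
    intro i
    have hsum : ∑ l ∈ S, ((DirectSum.decompose 𝒜 s (i - l) : 𝒜 (i - l)) : A) * c l = 0 := by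
      have e : s * x = 0 := hsx
      rw [← DirectSum.sum_support_decompose 𝒜 x, Finset.mul_sum] at e
      let pr : A →+ A := AddMonoidHom.mk' (fun z => ((DirectSum.decompose 𝒜 z i : 𝒜 i) : A))
        (fun y z => by rw [DirectSum.decompose_add, DirectSum.add_apply, Submodule.coe_add])
      have h2 := congrArg pr e
      rw [map_sum, map_zero] at h2
      rw [← h2]
      refine Finset.sum_congr rfl fun l _ => ?_
      have h3 := DirectSum.coe_decompose_mul_add_of_right_mem 𝒜 (a := s) (i := i - l)
        (SetLike.coe_mem (DirectSum.decompose 𝒜 x l))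
      rw [sub_add_cancel] at h3
      exact h3.symm
    have hu : IsUnit (algebraMap A L s0) := IsLocalization.map_units L (⟨s0, hs0⟩ : m.primeCompl)
    have h3 : algebraMap A L (s0 * c i) ∈ (IsLocalRing.maximalIdeal L) • N := by
      by_cases hi : i ∈ S
      · rw [← Finset.add_sum_erase S _ hi, sub_self, ← hs0def, add_eq_zero_iff_eq_neg] at hsum
        rw [hsum, map_neg, map_sum]
        refine neg_mem (Submodule.sum_mem _ fun l hl => ?_)
        rw [map_mul, ← smul_eq_mul]
        exact Submodule.smul_mem_smul
          ((IsLocalization.AtPrime.to_map_mem_maximal_iff L m _).2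
            (hfix _ (sub_ne_zero.2 (Finset.ne_of_mem_erase hl).symm) _ (SetLike.coe_mem _)))
          (Submodule.subset_span ⟨⟨l, Finset.mem_of_mem_erase hl⟩, rfl⟩)
      · have : c i = 0 := by simp [c, DFinsupp.notMem_support_iff.mp hi]
        rw [this, mul_zero, map_zero]
        exact zero_mem _
    rw [map_mul] at h3
    obtain ⟨v, hv⟩ := hu.exists_left_inv
    have := Submodule.smul_mem _ v h3
    rwa [← smul_eq_mul, smul_smul, hv, one_smul] at this
  have hbot : N = ⊥ := by
    refine Submodule.eq_bot_of_le_smul_of_le_jacobson_bot (IsLocalRing.maximalIdeal L) N ?_ ?_ ?_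
    · exact Submodule.fg_span (Set.finite_range _)
    · exact Submodule.span_le.2 (by rintro _ ⟨i, rfl⟩; exact hN i)
    · exact IsLocalRing.maximalIdeal_le_jacobson _
  have := hN j
  rw [hbot, Submodule.smul_bot, Submodule.mem_bot] at this
  show algebraMap A L (φ _) = 0
  rw [hcomp b j]
  exact this

end Groth.Agent.S18791
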