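import Groth.Statements.S18805
import Groth.Agent.LS17.Ideal
import Groth.Agent.LS17.FFCliff
-- import your own Groth.Agent.* helpers here

set_option autoImplicit false
universe u
open CategoryTheory CategoryTheory.Limits AlgebraicGeometry
open Curves

namespace Groth.Agent.S18805

attribute [local instance] Groth.Agent.CurveFF.ffAlg

/-- Let k be an algebraically closed field of characteristic zero and X a smooth proper integral curve
over k (integral, proper and smooth over k, of dimension one), with sheaf of differentials ω =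
Ω_(X/k). Then ω is 3-very ample, meaning dim_k H^0(X, ω ⊗ I) + 4 = dim_k H^0(X, ω) for every
quasi-coherent ideal I of O_X with dim_k H^0(X, O_X/I) = 4, if and only if X carries no g^1_4,
meaning that for every such I (the ideal of an effective divisor D of degree 4) every module M with
I ⊗ M ≅ O_X (so M plays the role of O_X(D)) has dim_k H^0(X, M) = 1. -/
theorem result
    (k : Type u) [Field k] [IsAlgClosed k] [CharZero k]
    (X : Scheme.{u}) [X.Over (Spec (CommRingCat.of k))] [IsIntegral X]
    [IsProper (X ↘ Spec (CommRingCat.of k))] [Smooth (X ↘ Spec (CommRingCat.of k))]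
    (hdim : topologicalKrullDim X = 1) :
    (∀ (I : X.IdealSheafData), Module.finrank k (Coh.HH X (ClSub.quotMod I) 0) = 4 →
      Module.finrank k (Coh.HH X (CohB1.tensorMod (Omega.sheaf (X ↘ Spec (CommRingCat.of k))) (ClSub.idealMod I)) 0) + 4 =
        Module.finrank k (Coh.HH X (Omega.sheaf (X ↘ Spec (CommRingCat.of k))) 0)) ↔
    (∀ (I : X.IdealSheafData), Module.finrank k (Coh.HH X (ClSub.quotMod I) 0) = 4 →
      ∀ (M : X.Modules), ClSub.IsInverseOf (ClSub.idealMod I) M →
        Module.finrank k (Coh.HH X M 0) = 1) := by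
  obtain ⟨C, hC, hΩ⟩ := LS17.exists_canonical_hasDiv k (X := X) hdim
  have hK := CurveFF.isFunctionField k X hdim
  have key : ∀ (I : X.IdealSheafData), Module.finrank k (Coh.HH X (ClSub.quotMod I) 0) = 4 →
      ∃ D : FunFld.Divisor k X.functionField,
        Module.finrank k (Coh.HH X (CohB1.tensorMod (Omega.sheaf (X ↘ Spec (CommRingCat.of k))) (ClSub.idealMod I)) 0) =
          FunFld.ell (C - D) ∧
        (∀ M, ClSub.IsInverseOf (ClSub.idealMod I) M → Module.finrank k (Coh.HH X M 0) = FunFld.ell D) ∧
        (∃ M, ClSub.IsInverseOf (ClSub.idealMod I) M) ∧ D.deg = 4 := by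
    intro I hI
    obtain ⟨hi, hd⟩ := LS17.idealMod_invertible_deg k hdim (by norm_num) hI
    obtain ⟨E, hE⟩ := LS17.exists_hasDiv k hdim hi
    refine ⟨-E, ?_, fun M hM => ?_, ?_, ?_⟩
    · rw [sub_neg_eq_add]
      exact (hΩ.tensor k hdim hE).h0 k hdim
    · obtain ⟨e⟩ := hM
      obtain ⟨F, hF⟩ := LS17.exists_hasDiv k hdim (CurveFF.isInvertible_of_inverse k hdim hi ⟨e⟩)
      exact (hF.congr k hdim (hE.inverse k hdim hF e)).h0 k hdim
    · obtain ⟨J, -, -, he⟩ := CurveDuality.exists_inverse_deg k hdim hi
      exact ⟨J, he⟩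
    · rw [FFLib.Divisor.deg_neg, ← hE.deg k hdim, hd]; norm_num
  have hΩh := hΩ.h0 k hdim
  rw [FFLib.ell_canonical hK hC] at hΩh
  constructor
  · intro h I hI M hM
    obtain ⟨D, h1, h2, -, h4⟩ := key I hI
    have := h I hI
    rw [h1, hΩh] at this
    have := LS17.rr_C hK hC D
    rw [h2 M hM]
    omega
  · intro h I hI
    obtain ⟨D, h1, h2, ⟨M, hM⟩, h4⟩ := key I hI
    have := h I hI M hM
    rw [h2 M hM] at this
    have := LS17.rr_C hK hC D
    rw [h1, hΩh]
    omega
end Groth.Agent.S18805
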