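import Groth.Statements.S18840
import Groth.Agent.BunLib68.Ample
-- import your own Groth.Agent.* helpers here

set_option autoImplicit false
universe u
open CategoryTheory CategoryTheory.Limits AlgebraicGeometry Polynomial
open VBCurve

namespace Groth.Agent.S18840

set_option linter.style.haveILetI false
set_option linter.unusedVariables false
open Groth.Agent.CurveBundle Groth.Agent.CurveSlope Groth.Agent.CurveStable Groth.Agent.BunLib68

/-- Let k be an algebraically closed field of characteristic zero, X a smooth projective integral curve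
over k with an ample invertible sheaf L, N ≥ 0 and P a rational polynomial. There is an integer l,
depending only on X, L, N and P, such that for every vector bundle F of rank r ≥ 1 on X which is a
quotient of O_X^N with Hilbert polynomial P (with respect to L), F is slope-semistable if and only
if dim H^0(X, F'(l)) / r' ≤ dim H^0(X, F(l)) / r for every sub-bundle (finite locally free
submodule) F' ⊂ F of rank r' ≥ 1; here G(l) = G ⊗ L^(⊗l). The source polarises X by a very ample
O_X(1); only the positivity of its degree enters, so an ample L is taken. -/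
theorem result (k : Type u) [Field k] [IsAlgClosed k] [CharZero k]
    (X : Scheme.{u}) [X.Over (Spec (CommRingCat.of k))]
    [IsIntegral X] [IsProper (X ↘ Spec (CommRingCat.of k))] [Smooth (X ↘ Spec (CommRingCat.of k))]
    (hdim : topologicalKrullDim X = 1)
    (L : X.Modules) (hLi : PicF.IsInvertible L) (hL : CohB1.IsAmple L)
    (N : ℕ) (P : ℚ[X]) :
    ∃ l : ℕ, ∀ (r : ℕ) (F : X.Modules) (q : FlatMod.freeMod X N ⟶ F),
      0 < r → FlatMod.IsFinLocFreeOfRank r F → Epi q → ShStab.IsHilbPoly k X L F P →
        (ModFun.IsSlopeSemistable k X F r ↔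
          ∀ (F' : X.Modules) (r' : ℕ) (i : F' ⟶ F), Mono i → 0 < r' → FlatMod.IsFinLocFreeOfRank r' F' →
            (Module.finrank k (Coh.HH X (ShStab.twist X L F' l) 0) : ℚ) / (r' : ℚ) ≤
              (Module.finrank k (Coh.HH X (ShStab.twist X L F l) 0) : ℚ) / (r : ℚ)) := by
  have hO := CurveCohLib.finrank_h0_eq_one k X
  haveI := isLocallyNoetherian' k (X := X)
  have ha := deg_pos_of_ample k hdim hL
  set a := Curv2.deg k X L 1 with had
  set g := Curv2.genus k X with hgd
  have hc0 := CurveDuality.euler_structure k hO hdim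
  obtain ⟨D, hDdef⟩ : ∃ D : ℕ, D = ⌈|P.eval 0|⌉₊ + N * (g + 1) := ⟨_, rfl⟩
  refine ⟨N * (g + D) + 2 * g + 1, fun r F q hr hF hq hP => ?_⟩
  haveI := hq
  generalize hl : N * (g + D) + 2 * g + 1 = l
  have hFf := isFinLocFree_of_rank hF
  have hFc := coh_of_free k hFf
  have hrk := rk_eq hF
  have hd := deg_eq_dg k hF
  have hLl := InvX.isInvertible_tensorPow hLi l
  have hdl : Curv2.deg k X (CohB1.tensorPow L l) 1 = l * a := deg_tensorPow k hdim hLi l
  have hla : (l : ℤ) ≤ l * a := le_mul_of_one_le_right (Int.natCast_nonneg l) ha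
  -- quotients of `F` have nonnegative degree
  have hquot : ∀ (K : X.Modules) (i : K ⟶ F), Mono i → FlatMod.IsFinLocFree K → dg k K ≤ dg k F := by
    intro K i hi hK
    haveI := hi
    have hKc := coh_of_free k hK
    have hQc : Coh.IsCoh (cokernel i) := QCoh.isCoh_cokernel hKc.1 hFc i
    haveI : Epi (q ≫ cokernel.π i) := epi_comp _ _
    have h1 := dg_nonneg_of_epi_free k hdim (q ≫ cokernel.π i) hQc
    have h2 := dg_add k _ _ _ (shortExact_cokernel_of_mono i) hKc hFc hQc
    omega
  have hd0 : 0 ≤ dg k F := dg_nonneg_of_epi_free k hdim q hFc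
  have hrN : r ≤ N := by
    have := rk_add_coh k _ _ _ (shortExact_kernel_of_epi q) (coh_free k N)
    rw [rk_free] at this
    omega
  -- the Euler characteristic of a twist
  have htw : ∀ (G : X.Modules), FlatMod.IsFinLocFree G → rk (ShStab.twist X L G l) = rk G ∧
      dg k (ShStab.twist X L G l) = dg k G + (rk G : ℤ) * (l * a) := fun G hG => by
    obtain ⟨r1, d1⟩ := CurveDuality.dg_tensor_line k hdim hLl hG
    exact ⟨(rk_congr (CurveTensor.commIso G (CohB1.tensorPow L l))).trans r1,
      (dg_congr k (CurveTensor.commIso G (CohB1.tensorPow L l))).trans (by rw [d1, hdl])⟩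
  have htwf : ∀ (G : X.Modules), FlatMod.IsFinLocFree G → FlatMod.IsFinLocFree (ShStab.twist X L G l) :=
    fun G hG => CurveHiggs.isFinLocFree_twist hLl hG
  -- `d ≤ D`
  have hdD : dg k F ≤ (D : ℤ) := by
    have h0 := hP 0
    have e : ShStab.twist X L F 0 ≅ F := KFlatLib.tensorUnitIso F
    rw [Euler.euler_congr k e, Nat.cast_zero] at h0
    have h1 : Curv2.euler k X F ≤ (⌈|P.eval 0|⌉₊ : ℤ) := by
      have h2 : (Curv2.euler k X F : ℚ) ≤ ((⌈|P.eval 0|⌉₊ : ℤ) : ℚ) := by
        rw [h0, Int.cast_natCast]
        exact (le_abs_self _).trans (Nat.le_ceil _)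
      exact_mod_cast h2
    have h3 : (r : ℤ) * ((g : ℤ) + 1) ≤ (N : ℤ) * ((g : ℤ) + 1) :=
      mul_le_mul_of_nonneg_right (by exact_mod_cast hrN) (by positivity)
    have h4 : dg k F = Curv2.euler k X F - (r : ℤ) * (1 - (g : ℤ)) := by
      unfold dg
      rw [hrk, hc0]
    rw [hDdef]
    push_cast
    rw [h4]
    linarith
  have h1F : Subsingleton (Coh.HH X (ShStab.twist X L F l) 1) := by
    refine CurveDuality.subsingleton_HH_one_twist k hO hdim hFf hLl fun K i hi hK _ => ?_
    have := hquot K i hi hK
    rw [hdl]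
    have : (2 * g + 1 : ℤ) ≤ l := by
      have : 2 * g + 1 ≤ l := by rw [← hl]; omega
      exact_mod_cast this
    linarith
  have hχ : ∀ G : X.Modules, FlatMod.IsFinLocFree G → Curv2.euler k X (ShStab.twist X L G l) =
      dg k G + (rk G : ℤ) * (l * a + (1 - (g : ℤ))) := fun G hG => by
    obtain ⟨e1, e2⟩ := htw G hG
    unfold dg at e2 ⊢
    rw [e1, hc0] at e2
    rw [hc0]
    linarith
  have hh : ∀ G : X.Modules, FlatMod.IsFinLocFree G → Curv2.euler k X (ShStab.twist X L G l) =
      (Module.finrank k (Coh.HH X (ShStab.twist X L G l) 0) : ℤ) -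
        Module.finrank k (Coh.HH X (ShStab.twist X L G l) 1) := fun G hG =>
    CurveRR.euler_eq_h0_sub_h1 k hdim.le (coh_of_free k (htwf G hG)).1
  have hFh : (Module.finrank k (Coh.HH X (ShStab.twist X L F l) 0) : ℤ) =
      dg k F + (r : ℤ) * (l * a + (1 - (g : ℤ))) := by
    have h := hh F hFf
    rw [hχ F hFf, hrk, Module.finrank_zero_of_subsingleton (M := Coh.HH X (ShStab.twist X L F l) 1)] at h
    simpa using h.symm
  constructor
  · intro hss F' r' i hi hr' hF'
    haveI := hi
    have hF'f := isFinLocFree_of_rank hF'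
    have hr'k := rk_eq hF'
    have hsl := hss F' r' i hi hr' hF'
    rw [deg_eq_dg k hF', hd] at hsl
    rw [div_le_div_iff₀ (by exact_mod_cast hr') (by exact_mod_cast hr)]
    suffices h : (Module.finrank k (Coh.HH X (ShStab.twist X L F' l) 0) : ℤ) * (r : ℤ) ≤
        (Module.finrank k (Coh.HH X (ShStab.twist X L F l) 0) : ℤ) * (r' : ℤ) by exact_mod_cast h
    rw [hFh]
    by_cases hc : ∀ (K : X.Modules) (j : K ⟶ F'), Mono j → FlatMod.IsFinLocFree K → rk F' = rk K + 1 →
        dg k K + (2 * (g : ℤ) - 2) < dg k F' + Curv2.deg k X (CohB1.tensorPow L l) 1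
    · haveI : Subsingleton (Coh.HH X (ShStab.twist X L F' l) 1) :=
        CurveDuality.subsingleton_HH_one_twist k hO hdim hF'f hLl hc
      have h := hh F' hF'f
      rw [hχ F' hF'f, hr'k, Module.finrank_zero_of_subsingleton (M := Coh.HH X (ShStab.twist X L F' l) 1),
        Nat.cast_zero, sub_zero] at h
      rw [← h]
      linear_combination hsl
    · push Not at hc
      obtain ⟨K, j, hj, hK, hrK, hbig⟩ := hc
      haveI := hj
      obtain ⟨G, j', hj', hG, hC, hrG, hdG, hr2, hd2⟩ := exists_saturation k hdim.le hF'f j hK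
      haveI := hj'
      have hS := CurveTensor.shortExact_tensor (isFinLocFree_of_rank (InvEnd.isFinLocFreeOfRank_one hLl)) _ _ _
        (shortExact_cokernel_of_mono j')
      have hbound := CurveDuality.finrank_h0_mid_le k hS
        (CurveTensor.isCoh_tensor (isFinLocFree_of_rank (InvEnd.isFinLocFreeOfRank_one hLl)) (coh_of_free k hF'f))
        (CurveTensor.isCoh_tensor (isFinLocFree_of_rank (InvEnd.isFinLocFreeOfRank_one hLl)) (coh_of_free k hC))
      have hsw := (CurveCohLib.hhEquiv (k := k) (CurveTensor.commIso F' (CohB1.tensorPow L l)) 0).finrank_eq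
      have hLf := isFinLocFree_of_rank (InvEnd.isFinLocFreeOfRank_one hLl)
      obtain ⟨rG, dG⟩ := CurveDuality.dg_tensor_line k hdim hLl hG
      obtain ⟨rC, dC⟩ := CurveDuality.dg_tensor_line k hdim hLl hC
      -- the sub
      have b1 : Module.finrank k (Coh.HH X ((DCoh.tensorBi.obj (CohB1.tensorPow L l)).obj G) 0) ≤
          rk G * ((dg k F).toNat + (l * a).toNat + 1) := by
        rw [← rG]
        refine finrank_h0_le_of_subs k hdim (KFlatLib.isFinLocFree_tensor hLf hG) _ fun M m hm hM hrM => ?_
        haveI := hm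
        obtain ⟨M', m', hm', hM', hrM', hdM'⟩ := exists_sub_of_twist k hdim hLl hG m hM
        haveI := hm'
        have h5 := hquot M' (m' ≫ j' ≫ i) inferInstance hM'
        rw [hdM', hrM, hdl] at h5
        push_cast
        rw [Int.toNat_of_nonneg hd0, Int.toNat_of_nonneg (mul_nonneg (Int.natCast_nonneg l) ha.le)]
        simp only [Nat.cast_one, one_mul] at h5
        linarith
      -- the line quotient
      have b2 : Module.finrank k (Coh.HH X ((DCoh.tensorBi.obj (CohB1.tensorPow L l)).obj (cokernel j')) 0) ≤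
          1 * (2 * g + 1) := by
        have hC1 : rk (cokernel j') = 1 := by omega
        refine le_trans (finrank_h0_le_of_subs k hdim (KFlatLib.isFinLocFree_tensor hLf hC) (2 * g)
          fun M m hm hM hrM => ?_) (le_of_eq (by rw [rC, hC1]))
        haveI := hm
        have h6 : dg k M ≤ dg k ((DCoh.tensorBi.obj (CohB1.tensorPow L l)).obj (cokernel j')) := by
          by_cases hiso : IsIso m
          · rw [dg_congr k (asIso m)]
          · exact (dg_lt_of_rk_eq k hdim.le m (coh_of_free k hM) (coh_of_free k (KFlatLib.isFinLocFree_tensor hLf hC))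
              (by rw [hrM, rC, hC1]) hiso).le
        rw [dC, hC1, hdl, Nat.cast_one, one_mul] at h6
        rw [hdl] at hbig
        push_cast
        linarith
      have hrF' : rk F' ≤ rk F := rk_le_of_mono k i hFc
      have B : (Module.finrank k (Coh.HH X (ShStab.twist X L F' l) 0) : ℤ) ≤
          ((r' : ℤ) - 1) * (dg k F + l * a + 1) + (2 * (g : ℤ) + 1) := by
        have h7 : Module.finrank k (Coh.HH X (ShStab.twist X L F' l) 0) ≤
            rk G * ((dg k F).toNat + (l * a).toNat + 1) + 1 * (2 * g + 1) := by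
          refine le_trans (le_of_eq hsw) (le_trans hbound ?_)
          exact Nat.add_le_add b1 b2
        have h8 : (rk G : ℤ) = (r' : ℤ) - 1 := by omega
        have h9 : (Module.finrank k (Coh.HH X (ShStab.twist X L F' l) 0) : ℤ) ≤
            ((rk G * ((dg k F).toNat + (l * a).toNat + 1) + 1 * (2 * g + 1) : ℕ) : ℤ) := by exact_mod_cast h7
        push_cast at h9
        rw [Int.toNat_of_nonneg hd0, Int.toNat_of_nonneg (mul_nonneg (Int.natCast_nonneg l) ha.le), h8] at h9
        linarith
      have hr'N : (r' : ℤ) ≤ N := by exact_mod_cast (show r' ≤ N by omega)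
      have e1 : (r' : ℤ) * ((g : ℤ) + dg k F) ≤ (N : ℤ) * ((g : ℤ) + D) :=
        mul_le_mul hr'N (by linarith) (by positivity) (by positivity)
      have hl' : (N : ℤ) * ((g : ℤ) + D) + 2 * (g : ℤ) + 1 = (l : ℤ) := by rw [← hl]; push_cast; ring
      have e3 : (Module.finrank k (Coh.HH X (ShStab.twist X L F' l) 0) : ℤ) ≤
          (r' : ℤ) * (l * a + (1 - (g : ℤ))) := by linarith
      have e2 := mul_le_mul_of_nonneg_right e3 (Int.natCast_nonneg r)
      have : 0 ≤ dg k F * (r' : ℤ) := by positivity
      linarith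
  · intro h F' r' i hi hr' hF'
    haveI := hi
    have hF'f := isFinLocFree_of_rank hF'
    have hle := h F' r' i hi hr' hF'
    rw [div_le_div_iff₀ (by exact_mod_cast hr') (by exact_mod_cast hr)] at hle
    have hle' : (Module.finrank k (Coh.HH X (ShStab.twist X L F' l) 0) : ℤ) * (r : ℤ) ≤
        (Module.finrank k (Coh.HH X (ShStab.twist X L F l) 0) : ℤ) * (r' : ℤ) := by exact_mod_cast hle
    rw [hFh] at hle'
    have h1 := hh F' hF'f
    rw [hχ F' hF'f, rk_eq hF'] at h1
    have h2 : dg k F' + (r' : ℤ) * (l * a + (1 - (g : ℤ))) ≤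
        (Module.finrank k (Coh.HH X (ShStab.twist X L F' l) 0) : ℤ) := by
      have := Int.natCast_nonneg (Module.finrank k (Coh.HH X (ShStab.twist X L F' l) 1))
      linarith
    have h3 := mul_le_mul_of_nonneg_right h2 (Int.natCast_nonneg r)
    rw [deg_eq_dg k hF', hd]
    linarith

end Groth.Agent.S18840
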