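import Groth.Statements.S18841
import Groth.Agent.Growth22.QuotBound
-- import your own Groth.Agent.* helpers here

set_option autoImplicit false
universe u
open CategoryTheory CategoryTheory.Limits AlgebraicGeometry Polynomial
open Variety

namespace Groth.Agent.S18841

set_option linter.style.haveILetI false
set_option linter.unusedSectionVars false
set_option maxHeartbeats 1000000
set_option backward.isDefEq.respectTransparency false
set_option backward.isDefEq.respectTransparency.types false
open Groth.Agent.H23.PicMul (cl_tensor cl_tensorPow cl_eq_iff) in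
open scoped Groth.Agent.H23.PicMul in
/-- Let k be an algebraically closed field of characteristic zero, X a projective k-scheme embedded in
projective n-space by a closed immersion ι, with L ≅ ι^*O(1), and fix N ≥ 0 and a rational
polynomial P. There is an integer l_0 such that for every coherent O_X-module F which is a quotient
q : O_X^N → F with Hilbert polynomial P with respect to L, writing G for the kernel of q, one has
for all l ≥ l_0: H^i(X, F(l)) = 0 and H^i(X, G(l)) = 0 for every i > 0, and G(l) is generated by its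
global sections (twists M(l) = M ⊗ L^(⊗l)). -/
theorem result
    (k : Type u) [Field k] [IsAlgClosed k] [CharZero k]
    (X : Scheme.{u}) [X.Over (Spec (CommRingCat.of k))] [IsProper (X ↘ Spec (CommRingCat.of k))]
    (n : ℕ) (ι : X ⟶ CohB1.ProjSpace n k) [IsClosedImmersion ι]
    (hι : ι ≫ CohB1.ProjSpace.toSpec n k = X ↘ Spec (CommRingCat.of k))
    (L : X.Modules) (hL : Nonempty (L ≅ (Scheme.Modules.pullback ι).obj (Twist.twistProjSpace n k 1)))
    (N : ℕ) (P : ℚ[X]) :
    ∃ l₀ : ℕ, ∀ (F : X.Modules) (q : FlatMod.freeMod X N ⟶ F),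
      Coh.IsCoh F → Epi q → ShStab.IsHilbPoly k X L F P →
        ∀ l : ℕ, l₀ ≤ l →
          (∀ i : ℕ, 0 < i → Subsingleton (Coh.HH X (ShStab.twist X L F l) i)) ∧
          (∀ i : ℕ, 0 < i → Subsingleton (Coh.HH X (ShStab.twist X L (kernel q) l) i)) ∧
          Curv2.IsGloballyGenerated (ShStab.twist X L (kernel q) l) := by
  haveI : Infinite k := inferInstance
  obtain ⟨eL⟩ := hL
  have hcl : ∀ (M : X.Modules) (m : ℕ), Nonempty (ShStab.twist X L M m ≅ Pic13.twistOn k ι M (m : ℤ)) := fun M m => by
    refine cl_eq_iff.1 ?_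
    rw [ShStab.twist, cl_tensor, cl_tensorPow, Groth.Agent.Pic13Lib.cl_twistOn, ← Groth.Agent.Growth22.pow_hyp ι m,
      show PicF.cl L = PicF.cl (Groth.Agent.Pic13Lib.hyp ι 1) from cl_eq_iff.2 ⟨eL⟩]
  obtain ⟨l₀, h⟩ := Groth.Agent.Growth22.exists_uniform_quot ι hι N P
  refine ⟨l₀, fun F q hF hq hP l hl => ?_⟩
  obtain ⟨h1, h2, ι', p, hp⟩ := h F q hF hq (fun m => by
    rw [← hP m, (Groth.Agent.HilbPoly.additive_euler k).iso _ _ (hcl F m)]) l hl
  obtain ⟨e1⟩ := hcl F l
  obtain ⟨e2⟩ := hcl (kernel q) l
  haveI := hp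
  exact ⟨fun i hi => Groth.Agent.QCoh.subsingleton_HH_of_iso e1.symm i (h1 i hi),
    fun i hi => Groth.Agent.QCoh.subsingleton_HH_of_iso e2.symm i (h2 i hi), ι', p ≫ e2.inv, inferInstance⟩

end Groth.Agent.S18841
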