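import Groth.Statements.S18843
import Groth.Agent.BunLib68.TF.Scalar
-- import your own Groth.Agent.* helpers here

set_option autoImplicit false
universe u
open CategoryTheory AlgebraicGeometry
open TFOne

namespace Groth.Agent.S18843

set_option linter.style.haveILetI false
set_option linter.unusedVariables false
open Groth.Agent Groth.Agent.BunLib68.TF

/-- Let X be a proper, geometrically reduced scheme of pure dimension one over a field k whose
irreducible components (with their reduced structure) are geometrically integral over k, and let M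
be a torsion-free rank-1 sheaf on X. Let Y and Z be closed subcurves (non-empty unions of
irreducible components) with Y ∪ Z = X which have an irreducible component in common. If the
torsion-free quotients M_Y and M_Z of M on Y and on Z (pinned by their defining property) are both
simple over k, then M is simple over k. -/
theorem result (k : Type u) [Field k] (X : Scheme.{u}) [X.Over (Spec (CommRingCat.of k))] [IsProper (X ↘ Spec (CommRingCat.of k))] [IsReduced X] [GeometricallyReduced (X ↘ Spec (CommRingCat.of k))] (hpure : ∀ C ∈ irreducibleComponents (X : Type u), topologicalKrullDim C = 1) (hgi : ∀ (C : Set X) (hC : C ∈ irreducibleComponents (X : Type u)), GeometricallyIntegral (VecSt.subschι X C (isClosed_of_mem_irreducibleComponents C hC) ≫ (X ↘ Spec (CommRingCat.of k)))) (M : X.Modules) (hM : TFOne.IsTF1 X M) (Y Z : Set X) (hY : IsClosed Y) (hZ : IsClosed Z) (hYs : VecSt.IsSubcurve X Y) (hZs : VecSt.IsSubcurve X Z) (hcov : Y ∪ Z = Set.univ) (hmeet : ∃ C ∈ irreducibleComponents (X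 : Type u), C ⊆ Y ∩ Z) (GY GZ : X.Modules) (πY : M ⟶ GY) (πZ : M ⟶ GZ) (hGY : TFOne.IsQuotOn X M Y GY πY) (hGZ : TFOne.IsQuotOn X M Z GZ πZ) (hsY : TFOne.IsSimple X k (X ↘ Spec (CommRingCat.of k)) GY) (hsZ : TFOne.IsSimple X k (X ↘ Spec (CommRingCat.of k)) GZ) : TFOne.IsSimple X k (X ↘ Spec (CommRingCat.of k)) M := by
  haveI := CurveCohLib.isNoetherian_of_proper (k := k) (X := X)
  obtain ⟨C, hC, hCsub⟩ := hmeet
  obtain ⟨η₀, hη₀, rfl⟩ := exists_isGen_component hC
  haveI := nontrivial_stalk hM.2.2 hη₀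
  obtain ⟨v₀, hv₀⟩ := exists_ne (0 : M.presheaf.stalk η₀)
  refine ⟨fun hz => hv₀ ?_, fun f => ?_⟩
  · rw [← sm_id η₀ v₀, hz.eq_of_src (𝟙 M) 0, sm_zero]
  have key : ∀ (T : Set X) (G : X.Modules) (π : M ⟶ G), TFOne.IsQuotOn X M T G π →
      TFOne.IsSimple X k (X ↘ Spec (CommRingCat.of k)) G →
      ∃ c : k, ∀ η, IsGen η → η ∈ T → ∀ v, sm f η v = rho k η c • v := by
    intro T G π hG hs
    obtain ⟨d, hd⟩ := exists_factor hM.2.2 hG (f ≫ π) hG.2.1.1 hG.2.2.1 fun η _ hn v => by
      haveI := quot_subsingleton hG hn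
      exact Subsingleton.elim _ _
    obtain ⟨c, hc⟩ := hs.2 d
    refine ⟨c, fun η hη hT v => sub_eq_zero.1 (quot_injective hM.2.2 hG hη hT ?_)⟩
    rw [map_sub, map_smul, ← sm_comp, ← hd, hc, sm_comp]
    exact sub_eq_zero.2 (sm_smulMod k G c η (sm π η v))
  obtain ⟨a, ha⟩ := key Y GY πY hGY hsY
  obtain ⟨b, hb⟩ := key Z GZ πZ hGZ hsZ
  have hab : a = b := by
    by_contra hne
    refine hv₀ ((hη₀.isUnit (rho_ne_zero k hη₀ (sub_ne_zero.2 hne))).smul_eq_zero.1 ?_)
    rw [map_sub, sub_smul, ← ha η₀ hη₀ (hCsub (subset_closure rfl)).1, ← hb η₀ hη₀ (hCsub (subset_closure rfl)).2,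
      sub_self]
  refine ⟨a, hom_ext_gen hM.1.1 hM.2.1 fun η hη v => ?_⟩
  refine Eq.trans ?_ (sm_smulMod k M a η v).symm
  rcases (hcov.ge (Set.mem_univ η) : η ∈ Y ∪ Z) with hm | hm
  · exact ha η hη hm v
  · rw [hab]
    exact hb η hη hm v

end Groth.Agent.S18843
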