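import Groth.Statements.S18845
import Groth.Agent.BunLib68.TF.Scalar
import Groth.Agent.BunLib68.TF.Push
-- import your own Groth.Agent.* helpers here

set_option autoImplicit false
universe u
open CategoryTheory CategoryTheory.Limits AlgebraicGeometry
open TFOne

namespace Groth.Agent.S18845

set_option linter.style.haveILetI false
set_option linter.unusedVariables false
set_option backward.isDefEq.respectTransparency false
set_option backward.isDefEq.respectTransparency.types false
open Groth.Agent Groth.Agent.BunLib68.TF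

/-- Let X be a proper, geometrically reduced scheme of pure dimension one over a field k whose
irreducible components (with their reduced structure) are geometrically integral over k, let Y and Z
be closed subcurves (non-empty unions of irreducible components) with Y ∪ Z = X, and let M be a
torsion-free sheaf of rank one on X. Suppose M sits in a short exact sequence 0 ⟶ i_{Y*} I ⟶ M ⟶
i_{Z*} J ⟶ 0 of modules on X, where I is a simple torsion-free sheaf of rank one on the reduced
closed subscheme Y, J is a simple torsion-free sheaf of rank one on the reduced closed subscheme Z,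
and i_{Y*}, i_{Z*} are the direct images. Then M is simple over k exactly when the sequence does not
split (the epimorphism M ⟶ i_{Z*} J has no section). -/
theorem result (k : Type u) [Field k] (X : Scheme.{u}) [X.Over (Spec (CommRingCat.of k))] [IsProper (X ↘ Spec (CommRingCat.of k))] [IsReduced X] [GeometricallyReduced (X ↘ Spec (CommRingCat.of k))] (hpure : ∀ C ∈ irreducibleComponents (X : Type u), topologicalKrullDim C = 1) (hgi : ∀ (C : Set X) (hC : C ∈ irreducibleComponents (X : Type u)), GeometricallyIntegral (VecSt.subschι X C (isClosed_of_mem_irreducibleComponents C hC) ≫ (X ↘ Spec (CommRingCat.of k)))) (Y Z : Set X) (hY : IsClosed Y) (hZ : IsClosed Z) (hYs : VecSt.IsSubcurve X Y) (hZs : VecSt.IsSubcurve X Z) (hcov : Y ∪ Z = Set.univ) (M : X.Modules) (hM : TFOne.IsTF1 X M) (I : (VecSt.subsch X Y hY).Modules) (hI : TFOne.IsTF1 (VecSt.subsch X Y hY) I) (hIs : TFOne.IsSimple (VecSt.subsch X Y hY) k (VecSt.subschι X Y hY ≫ (X ↘ Spec (CommRingCat.of k))) I) (J : (VecSt.subsch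 X Z hZ).Modules) (hJ : TFOne.IsTF1 (VecSt.subsch X Z hZ) J) (hJs : TFOne.IsSimple (VecSt.subsch X Z hZ) k (VecSt.subschι X Z hZ ≫ (X ↘ Spec (CommRingCat.of k))) J) (a : (Coh.push (VecSt.subschι X Y hY)).obj I ⟶ M) (b : M ⟶ (Coh.push (VecSt.subschι X Z hZ)).obj J) (w : a ≫ b = 0) (hex : (ShortComplex.mk a b w).ShortExact) : TFOne.IsSimple X k (X ↘ Spec (CommRingCat.of k)) M ↔ ¬ IsSplitEpi b := by
  haveI := CurveCohLib.isNoetherian_of_proper (k := k) (X := X)
  haveI := isLocallyNoetherian_subsch X Y hY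
  haveI := isLocallyNoetherian_subsch X Z hZ
  let ιY := VecSt.subschι X Y hY
  let ιZ := VecSt.subschι X Z hZ
  haveI : IsClosedImmersion ιY := inferInstanceAs (IsClosedImmersion (Scheme.IdealSheafData.subschemeι _))
  haveI : IsClosedImmersion ιZ := inferInstanceAs (IsClosedImmersion (Scheme.IdealSheafData.subschemeι _))
  have hrY : Set.range ιY = Y := range_subschι X Y hY
  have hrZ : Set.range ιZ = Z := range_subschι X Z hZ
  have hPY := (range_subschι X Y hY).trans (isSubcurve_eq_compUnion hY hYs).1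
  have hPZ := (range_subschι X Z hZ).trans (isSubcurve_eq_compUnion hZ hZs).1
  haveI := hex.mono_f
  haveI := hex.epi_g
  haveI : Mono a := hex.mono_f
  haveI : Epi b := hex.epi_g
  have hqI : Coh.IsQCoh ((Coh.push ιY).obj I) := QCoh.isQCoh_pushforward ιY hI.1.1
  have hqJ : Coh.IsQCoh ((Coh.push ιZ).obj J) := QCoh.isQCoh_pushforward ιZ hJ.1.1
  have htI : TorSh.IsTorsionFree ((Coh.push ιY).obj I) := isTorsionFree_push ιY hI.1.1 hI.2.1 hPY
  have htJ : TorSh.IsTorsionFree ((Coh.push ιZ).obj J) := isTorsionFree_push ιZ hJ.1.1 hJ.2.1 hPZ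
  have hntI : ∀ η, IsGen η → η ∈ Y → Nontrivial (((Coh.push ιY).obj I).presheaf.stalk η) := fun η hη hm => by
    obtain ⟨z, rfl⟩ := hrY.ge hm
    exact nontrivial_push ιY hI.2.2 (isGen_of_isGen_apply ιY hη)
  have hntJ : ∀ η, IsGen η → η ∈ Z → Nontrivial (((Coh.push ιZ).obj J).presheaf.stalk η) := fun η hη hm => by
    obtain ⟨z, rfl⟩ := hrZ.ge hm
    exact nontrivial_push ιZ hJ.2.2 (isGen_of_isGen_apply ιZ hη)
  have hb0 : ∀ η, IsGen η → η ∈ Y → Subsingleton (((Coh.push ιZ).obj J).presheaf.stalk η) := fun η hη hm => by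
    haveI := hntI η hη hm
    obtain ⟨x, hx⟩ := exists_ne (0 : ((Coh.push ιY).obj I).presheaf.stalk η)
    have h0 : sm a η x ≠ 0 := fun h => hx (sm_injective a η (h.trans (map_zero _).symm))
    refine subsingleton_of_forall_eq 0 fun w => ?_
    obtain ⟨m, rfl⟩ := sm_surjective b η w
    obtain ⟨r, rfl⟩ := IsTF1.exists_smul_eq hM.2.2 hη h0 m
    rw [map_smul, ← sm_comp, w, sm_zero, smul_zero]
  obtain ⟨η₁, hη₁, hm₁⟩ := (isSubcurve_eq_compUnion hY hYs).2
  obtain ⟨η₂, hη₂, hm₂⟩ := (isSubcurve_eq_compUnion hZ hZs).2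
  constructor
  · intro hs hsplit
    haveI := hsplit
    obtain ⟨c, hc⟩ := hs.2 (b ≫ section_ b)
    haveI := hntI η₁ hη₁ hm₁
    haveI := hntJ η₂ hη₂ hm₂
    obtain ⟨x, hx⟩ := exists_ne (0 : ((Coh.push ιY).obj I).presheaf.stalk η₁)
    obtain ⟨y, hy⟩ := exists_ne (0 : ((Coh.push ιZ).obj J).presheaf.stalk η₂)
    by_cases hc0 : c = 0
    · refine hy ?_
      obtain ⟨m, rfl⟩ := sm_surjective b η₂ y
      have hbb : (b ≫ section_ b) ≫ b = b := by rw [Category.assoc, IsSplitEpi.id, Category.comp_id]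
      rw [← hbb, sm_comp, hc, sm_smulMod, hc0, map_zero, zero_smul, map_zero]
    · refine hx (sm_injective a η₁ ?_)
      rw [map_zero]
      refine (hη₁.isUnit (rho_ne_zero k hη₁ hc0)).smul_eq_zero.1 ?_
      rw [← sm_smulMod k M c η₁, ← hc, ← sm_comp, ← Category.assoc, w, zero_comp, sm_zero]
  · intro hns
    refine ⟨fun hz => ?_, fun f => ?_⟩
    · haveI := hntI η₁ hη₁ hm₁
      obtain ⟨x, hx⟩ := exists_ne (0 : ((Coh.push ιY).obj I).presheaf.stalk η₁)
      refine hx (sm_injective a η₁ ?_)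
      rw [hz.eq_of_tgt a 0, sm_zero, sm_zero]
    have hafb : a ≫ f ≫ b = 0 := hom_eq_zero_of_gen _ hqJ htJ fun η hη v => by
      by_cases hm : η ∈ Y
      · haveI := hb0 η hη hm
        exact Subsingleton.elim _ _
      · haveI := subsingleton_push ιY hI.1.1 (x := η) (by rwa [hrY])
        rw [Subsingleton.elim v 0, map_zero]
    let f₁ : (Coh.push ιY).obj I ⟶ (Coh.push ιY).obj I :=
      hex.exact.lift (a ≫ f) (by rw [Category.assoc]; exact hafb)
    have hf₁ : f₁ ≫ a = a ≫ f := hex.exact.lift_f _ _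
    let f₂ : (Coh.push ιZ).obj J ⟶ (Coh.push ιZ).obj J := hex.exact.desc (f ≫ b) hafb
    have hf₂ : b ≫ f₂ = f ≫ b := hex.exact.g_desc _ _
    obtain ⟨g₁, hg₁⟩ := AmpleVan.exists_push_map ιY hI.1.1 hI.1.1 f₁
    obtain ⟨g₂, hg₂⟩ := AmpleVan.exists_push_map ιZ hJ.1.1 hJ.1.1 f₂
    obtain ⟨c, hc⟩ := hIs.2 g₁
    obtain ⟨c', hc'⟩ := hJs.2 g₂
    have e₁ : f₁ = Formal.smulMod k ((Coh.push ιY).obj I) c := by
      letI : (VecSt.subsch X Y hY).Over (Spec (CommRingCat.of k)) := ⟨ιY ≫ (X ↘ Spec (CommRingCat.of k))⟩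
      rw [← hg₁, hc]
      exact AmpleVan.push_map_smulMod ιY rfl I c
    have e₂ : f₂ = Formal.smulMod k ((Coh.push ιZ).obj J) c' := by
      letI : (VecSt.subsch X Z hZ).Over (Spec (CommRingCat.of k)) := ⟨ιZ ≫ (X ↘ Spec (CommRingCat.of k))⟩
      rw [← hg₂, hc']
      exact AmpleVan.push_map_smulMod ιZ rfl J c'
    let h := f - Formal.smulMod k M c
    have hah : a ≫ h = 0 := by
      rw [Preadditive.comp_sub, ← FFun.smulMod_naturality a c, ← hf₁, e₁, sub_self]
    let t : (Coh.push ιZ).obj J ⟶ M := hex.exact.desc h hah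
    have ht : b ≫ t = h := hex.exact.g_desc _ _
    have htb : t ≫ b = Formal.smulMod k ((Coh.push ιZ).obj J) c' - Formal.smulMod k ((Coh.push ιZ).obj J) c := by
      rw [← cancel_epi b, ← Category.assoc, ht, Preadditive.sub_comp, Preadditive.comp_sub, ← hf₂, e₂,
        FFun.smulMod_naturality b c]
    by_cases hcc : c' = c
    · rw [hcc, sub_self] at htb
      let t' : (Coh.push ιZ).obj J ⟶ (Coh.push ιY).obj I := hex.exact.lift t htb
      have ht' : t' = 0 := hom_eq_zero_of_gen _ hqI htI fun η hη v => by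
        by_cases hm : η ∈ Y
        · haveI := hb0 η hη hm
          rw [Subsingleton.elim v 0, map_zero]
        · haveI := subsingleton_push ιY hI.1.1 (x := η) (by rwa [hrY])
          exact Subsingleton.elim _ _
      have ht0 : t = 0 := by
        rw [← hex.exact.lift_f t htb]
        show t' ≫ a = 0
        rw [ht', zero_comp]
      exact ⟨c, sub_eq_zero.1 (show h = 0 by rw [← ht, ht0, comp_zero])⟩
    · refine absurd (IsSplitEpi.mk' ⟨t ≫ Formal.smulMod k M (c' - c)⁻¹, ?_⟩) hns
      rw [Category.assoc, FFun.smulMod_naturality, ← Category.assoc, htb]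
      have hsub : Formal.smulMod k ((Coh.push ιZ).obj J) c' - Formal.smulMod k ((Coh.push ιZ).obj J) c =
          Formal.smulMod k ((Coh.push ιZ).obj J) (c' - c) := by
        rw [sub_eq_iff_eq_add, ← FFun.smulMod_add, sub_add_cancel]
      rw [hsub, ← FFun.smulMod_mul, inv_mul_cancel₀ (sub_ne_zero.2 hcc), FFun.smulMod_one]

end Groth.Agent.S18845
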