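import Groth.Statements.S18847
import Groth.Agent.BunLib68.TF.Beta
-- import your own Groth.Agent.* helpers here

set_option autoImplicit false
universe u
open CategoryTheory CategoryTheory.Limits AlgebraicGeometry
open TFOne

namespace Groth.Agent.S18847

set_option linter.style.haveILetI false
set_option linter.unusedVariables false
open Groth.Agent Groth.Agent.BunLib68.TF

/-- Let R be a discrete valuation ring with residue field κ, f : X ⟶ Spec R flat and proper, and X_s its
special fibre, assumed reduced of pure dimension one with geometrically integral irreducible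
components over κ. Let I be a coherent R-flat module on X whose restriction I(s) to X_s is
torsion-free rank-1, E a locally free module of rank r > 0 on X with restriction E(s), and d an
integer with χ(I(s)) = d and deg E(s) = -r·d. For a closed subset T of X_s write I(s)_T for the
torsion-free quotient of I(s) on T (pinned by its defining property) and β(T) := r·χ(I(s)_T) +
deg(E(s)|_T) (the source's β cleared of the denominator r). Let Y be a closed subcurve of X_s (a
non-empty union of irreducible components), and let I^Y be the kernel of the composite I ⟶ i_* I(s)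
⟶ i_* I(s)_Y, with restriction I^Y(s) to X_s and quotients I^Y(s)_T and numbers β^Y(T) :=
r·χ(I^Y(s)_T) + deg(E(s)|_T) defined likewise. Assume that Y is the largest closed subcurve of X_s
on which β is minimal: β(Y) ≤ β(T) for every closed subcurve T of X_s, and every closed subcurve T
with β(T) = β(Y) is contained in Y. Then for every closed subcurve Z of X_s one has β(Y) ≤ β^Y(Z),
and β^Y(Z) = β(Y) only if Z ⊆ Y. (The source takes f projective.) -/
theorem result (R : Type u) [CommRing R] [IsDomain R] [IsDiscreteValuationRing R] (X : Scheme.{u}) (f : X ⟶ Spec (CommRingCat.of R)) [Flat f] [IsProper f] (Xs : Scheme.{u}) [Xs.Over (Spec (CommRingCat.of (IsLocalRing.ResidueField R)))] (i : Xs ⟶ X) (hsq : IsPullback i (Xs ↘ Spec (CommRingCat.of (IsLocalRing.ResidueField R))) f (Spec.map (CommRingCat.ofHom (IsLocalRing.residue R)))) [IsReduced Xs] (hpure : ∀ C ∈ irreducibleComponents (Xs : Type u), topologicalKrullDim C = 1) (hgi : ∀ (C : Set Xs) (hC : C ∈ irreducibleComponents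 (Xs : Type u)), GeometricallyIntegral (VecSt.subschι Xs C (isClosed_of_mem_irreducibleComponents C hC) ≫ (Xs ↘ Spec (CommRingCat.of (IsLocalRing.ResidueField R))))) (I : X.Modules) (hIc : Coh.IsCoh I) (hIf : FlatMod.IsFlatOver f I) (hIs : TFOne.IsTF1 Xs ((Scheme.Modules.pullback i).obj I)) (E : X.Modules) (r : ℕ) (hr : 0 < r) (hE : FlatMod.IsFinLocFreeOfRank r E) (d : ℤ) (hχ : Curv2.euler (IsLocalRing.ResidueField R) Xs ((Scheme.Modules.pullback i).obj I) = d) (hEd : Curv2.deg (IsLocalRing.ResidueField R) Xs ((Scheme.Modules.pullback i).obj E) r = -(r : ℤ) * d) (Y : Set Xs) (hY : IsClosed Y) (hYs : VecSt.IsSubcurve Xs Y) (GY : Xs.Modules) (πY : ((Scheme.Modules.pullback i).obj I) ⟶ GY) (hGY : TFOne.IsQuotOn Xs ((Scheme.Modules.pullback i).obj I) Y GY πY) (IY : X.Modules) (hIY : IY = kernel ((Scheme.Modules.pullbackPushforwardAdjunction i).unit.app I ≫ (Scheme.Modules.pushforward i).map πY)) (hmin : ∀ (T : Set Xs) (hT : IsClosed T), VecSt.IsSubcurve Xs T → ∀ (G : Xs.Modules)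 (π : ((Scheme.Modules.pullback i).obj I) ⟶ G), TFOne.IsQuotOn Xs ((Scheme.Modules.pullback i).obj I) T G π → TFOne.rBeta Xs (IsLocalRing.ResidueField R) (Xs ↘ Spec (CommRingCat.of (IsLocalRing.ResidueField R))) Y hY ((Scheme.Modules.pullback i).obj E) r GY ≤ TFOne.rBeta Xs (IsLocalRing.ResidueField R) (Xs ↘ Spec (CommRingCat.of (IsLocalRing.ResidueField R))) T hT ((Scheme.Modules.pullback i).obj E) r G) (hmax : ∀ (T : Set Xs) (hT : IsClosed T), VecSt.IsSubcurve Xs T → ∀ (G : Xs.Modules) (π : ((Scheme.Modules.pullback i).obj I) ⟶ G), TFOne.IsQuotOn Xs ((Scheme.Modules.pullback i).obj I) T G π → TFOne.rBeta Xs (IsLocalRing.ResidueField R) (Xs ↘ Spec (CommRingCat.of (IsLocalRing.ResidueField R))) T hT ((Scheme.Modules.pullback i).obj E) r G = TFOne.rBeta Xs (IsLocalRing.ResidueField R) (Xs ↘ Spec (CommRingCat.of (IsLocalRing.ResidueField R))) Y hY ((Scheme.Modules.pullback i).obj E) r GY → T ⊆ Y) (Z : Set Xs) (hZ : IsClosed Z) (hZs : VecSt.IsSubcurve Xs Z) (GZ1 : Xs.Modules) (πZ1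 : ((Scheme.Modules.pullback i).obj IY) ⟶ GZ1) (hGZ1 : TFOne.IsQuotOn Xs ((Scheme.Modules.pullback i).obj IY) Z GZ1 πZ1) : TFOne.rBeta Xs (IsLocalRing.ResidueField R) (Xs ↘ Spec (CommRingCat.of (IsLocalRing.ResidueField R))) Y hY ((Scheme.Modules.pullback i).obj E) r GY ≤ TFOne.rBeta Xs (IsLocalRing.ResidueField R) (Xs ↘ Spec (CommRingCat.of (IsLocalRing.ResidueField R))) Z hZ ((Scheme.Modules.pullback i).obj E) r GZ1 ∧ (TFOne.rBeta Xs (IsLocalRing.ResidueField R) (Xs ↘ Spec (CommRingCat.of (IsLocalRing.ResidueField R))) Z hZ ((Scheme.Modules.pullback i).obj E) r GZ1 = TFOne.rBeta Xs (IsLocalRing.ResidueField R) (Xs ↘ Spec (CommRingCat.of (IsLocalRing.ResidueField R))) Y hY ((Scheme.Modules.pullback i).obj E) r GY → Z ⊆ Y) := by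
  haveI : IsProper (Xs ↘ Spec (CommRingCat.of (IsLocalRing.ResidueField R))) := isProper_fibre hsq
  haveI := CurveCohLib.isNoetherian_of_proper (k := IsLocalRing.ResidueField R) (X := Xs)
  haveI : IsLocallyNoetherian X := LocallyOfFiniteType.isLocallyNoetherian f
  have hm := isModif_pullback (IsLocalRing.ResidueField R) hpure f i _ hsq hIc hIf hIs hGY IY hIY
  have hE' := isFinLocFreeOfRank_pullback i hE
  have hbY := rBeta_eq_beta (IsLocalRing.ResidueField R) hpure hE' hIs hGY hY rfl (P := (· ∈ Y)) fun η _ => Iff.rfl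
  obtain ⟨hYe, η₀, hη₀, hη₀Y⟩ := isSubcurve_eq_compUnion hY hYs
  have hsub : ∀ P : Xs → Prop, ∀ η, IsGen η → P η →
      beta (IsLocalRing.ResidueField R) hE' ((Scheme.Modules.pullback i).obj I) (· ∈ Y) ≤ beta (IsLocalRing.ResidueField R) hE' ((Scheme.Modules.pullback i).obj I) P ∧
      (beta (IsLocalRing.ResidueField R) hE' ((Scheme.Modules.pullback i).obj I) P = beta (IsLocalRing.ResidueField R) hE' ((Scheme.Modules.pullback i).obj I) (· ∈ Y) → ∀ ξ, IsGen ξ → P ξ → ξ ∈ Y) := by
    intro P η hη hP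
    have hQ := isQuotOn_quotM hIs P
    have hb := rBeta_eq_beta (IsLocalRing.ResidueField R) hpure hE' hIs hQ (isClosed_compUnion P) rfl fun ξ hξ => mem_compUnion_gen hξ
    refine ⟨?_, fun he ξ hξ hPξ => hmax _ (isClosed_compUnion P) (isSubcurve_compUnion hη hP) _ _ hQ
      (by rw [hb, hbY, he]) ((mem_compUnion_gen hξ).2 hPξ)⟩
    rw [← hbY, ← hb]
    exact hmin _ (isClosed_compUnion P) (isSubcurve_compUnion hη hP) _ _ hQ
  have h0 : beta (IsLocalRing.ResidueField R) hE' ((Scheme.Modules.pullback i).obj I) (· ∈ Y) ≤ 0 := by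
    have := (hsub (fun _ => True) η₀ hη₀ trivial).1
    rwa [beta_true (IsLocalRing.ResidueField R) hpure hE' hIs hχ hEd] at this
  have hW : beta (IsLocalRing.ResidueField R) hE' ((Scheme.Modules.pullback i).obj I) (· ∈ Y) ≤
      beta (IsLocalRing.ResidueField R) hE' ((Scheme.Modules.pullback i).obj I) (fun η => η ∈ Z ∧ η ∈ Y) := by
    by_cases h : ∀ η, IsGen η → ¬ (η ∈ Z ∧ η ∈ Y)
    · rw [beta_empty (IsLocalRing.ResidueField R) hE' hIs h]
      exact h0
    · obtain ⟨η, hη, hP⟩ : ∃ η, IsGen η ∧ (η ∈ Z ∧ η ∈ Y) := by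
        by_contra hh
        exact h fun η hη hP => hh ⟨η, hη, hP⟩
      exact (hsub _ η hη hP).1
  obtain ⟨hU, hUeq⟩ := hsub (fun η => η ∈ Z ∨ η ∈ Y) η₀ hη₀ (Or.inr hη₀Y)
  have hle := hm.beta_le (IsLocalRing.ResidueField R) hE' (· ∈ Z)
  rw [hbY, rBeta_eq_beta (IsLocalRing.ResidueField R) hpure hE' hm.tf1 hGZ1 hZ rfl (P := (· ∈ Z)) fun η _ => Iff.rfl]
  refine ⟨by linarith, fun he => ?_⟩
  have h2 := hUeq (by linarith)
  rw [(isSubcurve_eq_compUnion hZ hZs).1]
  rintro x ⟨η, hη, hηZ, hx⟩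
  exact hx.mem_closed hY (h2 η hη (Or.inl hηZ))

end Groth.Agent.S18847
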