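import Groth.Statements.S18848
import Groth.Agent.BunLib68.TF.Decomp
-- import your own Groth.Agent.* helpers here

set_option autoImplicit false
universe u
open CategoryTheory CategoryTheory.Limits AlgebraicGeometry
open TFOne

namespace Groth.Agent.S18848

set_option linter.style.haveILetI false
set_option linter.unusedVariables false
open Groth.Agent Groth.Agent.BunLib68.TF

/-- Let R be a discrete valuation ring with residue field κ, f : X ⟶ Spec R flat and proper, and X_s its
special fibre, assumed reduced of pure dimension one with geometrically integral irreducible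
components over κ. Let I be a coherent R-flat module on X whose restriction I(s) to X_s is
torsion-free rank-1, E a locally free module of rank r > 0 on X with restriction E(s), and d an
integer with χ(I(s)) = d and deg E(s) = -r·d. For a closed subset T of X_s write I(s)_T for the
torsion-free quotient of I(s) on T (pinned by its defining property) and β(T) := r·χ(I(s)_T) +
deg(E(s)|_T) (the source's β cleared of the denominator r). Let Y be a closed subcurve of X_s (a
non-empty union of irreducible components), and let I^Y be the kernel of the composite I ⟶ i_* I(s)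
⟶ i_* I(s)_Y, with restriction I^Y(s) to X_s and quotients I^Y(s)_T and numbers β^Y(T) :=
r·χ(I^Y(s)_T) + deg(E(s)|_T) defined likewise. Assume I(s) is semistable with respect to E(s). Then
I^Y(s) is semistable with respect to E(s) if and only if β(Y) = 0 and I(s)_Y, viewed on the reduced
closed subscheme Y, is semistable with respect to E(s)|_Y. (Here β(Y) = 0 says that E(s)|_Y is a
polarisation for I(s)_Y, the source's implicit requirement for semistability with respect to
E(s)|_Y. The source states the conclusion for semistability of I^Y over Spec R, which it reduces at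
once to the special fibre since I^Y and I agree off Y; it also asserts that I^Y(s) and I(s) are then
Jordan–Hölder equivalent, which is not stated here; it takes f projective.) -/
theorem result (R : Type u) [CommRing R] [IsDomain R] [IsDiscreteValuationRing R] (X : Scheme.{u}) (f : X ⟶ Spec (CommRingCat.of R)) [Flat f] [IsProper f] (Xs : Scheme.{u}) [Xs.Over (Spec (CommRingCat.of (IsLocalRing.ResidueField R)))] (i : Xs ⟶ X) (hsq : IsPullback i (Xs ↘ Spec (CommRingCat.of (IsLocalRing.ResidueField R))) f (Spec.map (CommRingCat.ofHom (IsLocalRing.residue R)))) [IsReduced Xs] (hpure : ∀ C ∈ irreducibleComponents (Xs : Type u), topologicalKrullDim C = 1) (hgi : ∀ (C : Set Xs) (hC : C ∈ irreducibleComponents (Xs : Type u)), GeometricallyIntegral (VecSt.subschι Xs C (isClosed_of_mem_irreducibleComponents C hC) ≫ (Xs ↘ Spec (CommRingCat.of (IsLocalRing.ResidueField R))))) (I : X.Modules) (hIc : Coh.IsCoh I) (hIf : FlatMod.IsFlatOver f I) (hIs : TFOne.IsTF1 Xs ((Scheme.Modules.pullback i).obj I)) (E : X.Modules) (r : ℕ) (hr : 0 < r) (hE :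 FlatMod.IsFinLocFreeOfRank r E) (d : ℤ) (hχ : Curv2.euler (IsLocalRing.ResidueField R) Xs ((Scheme.Modules.pullback i).obj I) = d) (hEd : Curv2.deg (IsLocalRing.ResidueField R) Xs ((Scheme.Modules.pullback i).obj E) r = -(r : ℤ) * d) (hss : TFOne.IsSemistable Xs (IsLocalRing.ResidueField R) (Xs ↘ Spec (CommRingCat.of (IsLocalRing.ResidueField R))) ((Scheme.Modules.pullback i).obj I) ((Scheme.Modules.pullback i).obj E) r) (Y : Set Xs) (hY : IsClosed Y) (hYs : VecSt.IsSubcurve Xs Y) (GY : Xs.Modules) (πY : ((Scheme.Modules.pullback i).obj I) ⟶ GY) (hGY : TFOne.IsQuotOn Xs ((Scheme.Modules.pullback i).obj I) Y GY πY) (IY : X.Modules) (hIY : IY = kernel ((Scheme.Modules.pullbackPushforwardAdjunction i).unit.app I ≫ (Scheme.Modules.pushforward i).map πY)) : TFOne.IsSemistable Xs (IsLocalRing.ResidueField R) (Xs ↘ Spec (CommRingCat.of (IsLocalRing.ResidueField R))) ((Scheme.Modules.pullback i).obj IY) ((Scheme.Modules.pullback i).obj E) r ↔ (TFOne.rBeta Xs (IsLocalRing.ResidueField R) (Xs ↘ Spec (CommRingCat.of (IsLocalRing.ResidueField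 R))) Y hY ((Scheme.Modules.pullback i).obj E) r GY = 0 ∧ TFOne.IsSemistable (VecSt.subsch Xs Y hY) (IsLocalRing.ResidueField R) (VecSt.subschι Xs Y hY ≫ (Xs ↘ Spec (CommRingCat.of (IsLocalRing.ResidueField R)))) ((Scheme.Modules.pullback (VecSt.subschι Xs Y hY)).obj GY) ((Scheme.Modules.pullback (VecSt.subschι Xs Y hY)).obj ((Scheme.Modules.pullback i).obj E)) r) := by
  haveI : IsProper (Xs ↘ Spec (CommRingCat.of (IsLocalRing.ResidueField R))) := isProper_fibre hsq
  haveI := CurveCohLib.isNoetherian_of_proper (k := IsLocalRing.ResidueField R) (X := Xs)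
  haveI : IsLocallyNoetherian X := LocallyOfFiniteType.isLocallyNoetherian f
  have hm := isModif_pullback (IsLocalRing.ResidueField R) hpure f i _ hsq hIc hIf hIs hGY IY hIY
  have hE' := isFinLocFreeOfRank_pullback i hE
  have eY := rBeta_eq_beta (IsLocalRing.ResidueField R) hpure hE' hIs hGY hY rfl (P := (· ∈ Y)) fun η _ => Iff.rfl
  rw [eY]
  constructor
  · intro hss'
    refine ⟨le_antisymm ?_ (beta_nonneg_of_ss (IsLocalRing.ResidueField R) hE' hpure hχ hEd hss _), ?_⟩
    · have h1 := beta_nonneg_of_ss (IsLocalRing.ResidueField R) hE' hpure (hm.euler_eq.trans hχ) hEd hss' (fun η => η ∉ Y)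
      have h2 := (hm.beta_eq_iff (IsLocalRing.ResidueField R) hE' hr (fun η => η ∉ Y)).2 (hm.eq _ (Or.inr fun η _ h => h.1 h.2))
      rw [beta_empty (IsLocalRing.ResidueField R) hE' hIs (P := fun η => η ∉ Y ∧ η ∈ Y) (fun η _ h => h.1 h.2),
        beta_univ (IsLocalRing.ResidueField R) hpure hE' hIs hχ hEd (P := fun η => η ∉ Y ∨ η ∈ Y) (fun η _ => (em (η ∈ Y)).symm)] at h2
      linarith
    · haveI := isLocallyNoetherian_subsch Xs Y hY
      let j := VecSt.subschι Xs Y hY
      have hr' : Set.range j = Y := range_subschι Xs Y hY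
      have hYc := (isSubcurve_eq_compUnion hY hYs).1
      refine ⟨isTF1_pullback_quot j hIs hGY hr' hYc, fun T hT _ _ H ρ hH => ?_⟩
      have hq := isQuotOn_push j hGY hr' hYc hH
      rw [rBeta_subsch (IsLocalRing.ResidueField R) hpure hE' hY T hT hH.2.1.1, euler_eq_chiQ (IsLocalRing.ResidueField R) hIs hq (P := (· ∈ j '' T)) fun η _ => Iff.rfl]
      exact beta_nonneg_of_ss (IsLocalRing.ResidueField R) hE' hpure hχ hEd hss (· ∈ j '' T)
  · rintro ⟨h0, -⟩
    refine ⟨hm.tf1, fun Z hZ _ _ H ρ hH => ?_⟩
    rw [rBeta_eq_beta (IsLocalRing.ResidueField R) hpure hE' hm.tf1 hH hZ rfl (P := (· ∈ Z)) fun η _ => Iff.rfl]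
    have hle := hm.beta_le (IsLocalRing.ResidueField R) hE' (· ∈ Z)
    have h1 := beta_nonneg_of_ss (IsLocalRing.ResidueField R) hE' hpure hχ hEd hss (fun η => η ∈ Z ∧ η ∈ Y)
    have h2 := beta_nonneg_of_ss (IsLocalRing.ResidueField R) hE' hpure hχ hEd hss (fun η => η ∈ Z ∨ η ∈ Y)
    linarith

end Groth.Agent.S18848
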