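import Groth.Statements.S18851
import Groth.Agent.BunLib68.TF.Main
-- import your own Groth.Agent.* helpers here

set_option autoImplicit false
universe u
open CategoryTheory CategoryTheory.Limits AlgebraicGeometry
open TFOne

namespace Groth.Agent.S18851

set_option linter.style.haveILetI false
set_option linter.unusedVariables false
open Groth.Agent Groth.Agent.BunLib68.TF

/-- Let R be a discrete valuation ring with fraction field K and residue field κ, f : X ⟶ Spec R flat
and proper with generic fibre X_K (a cartesian square over Spec K ⟶ Spec R with top arrow j) and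
special fibre X_s (a cartesian square over Spec κ ⟶ Spec R), the latter reduced of pure dimension
one with geometrically integral irreducible components over κ. Let I be a relatively torsion-free
rank-1 module on X over Spec R (R-flat, finitely presented, torsion-free rank-1 on every geometric
fibre), E a locally free module of rank r > 0 on X, and d an integer with χ(I(s)) = d and deg E(s) =
-r·d for the restrictions to X_s. If j^* I is simple and semistable with respect to j^* E on every
geometric fibre of X_K over Spec K, then there is a relatively torsion-free rank-1 module I' on X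
over Spec R with j^* I' ≅ j^* I which is both simple and semistable with respect to E on every
geometric fibre of f. (The source's proof starts from an arbitrary extension, the form stated here;
the source takes f projective.) -/
theorem result (R : Type u) [CommRing R] [IsDomain R] [IsDiscreteValuationRing R] (X : Scheme.{u}) (f : X ⟶ Spec (CommRingCat.of R)) [Flat f] [IsProper f] (Xs : Scheme.{u}) [Xs.Over (Spec (CommRingCat.of (IsLocalRing.ResidueField R)))] (i : Xs ⟶ X) (hsq : IsPullback i (Xs ↘ Spec (CommRingCat.of (IsLocalRing.ResidueField R))) f (Spec.map (CommRingCat.ofHom (IsLocalRing.residue R)))) [IsReduced Xs] (hpure : ∀ C ∈ irreducibleComponents (Xs : Type u), topologicalKrullDim C = 1) (hgi : ∀ (C : Set Xs) (hC : C ∈ irreducibleComponents (Xs : Type u)), GeometricallyIntegral (VecSt.subschι Xs C (isClosed_of_mem_irreducibleComponents C hC) ≫ (Xs ↘ Spec (CommRingCat.of (IsLocalRing.ResidueField R))))) (Xg : Scheme.{u}) [Xg.Over (Spec (CommRingCat.of (FractionRing R)))] (j : Xg ⟶ X) (hgen : IsPullback j (Xg ↘ Spec (CommRingCat.of (FractionRing R))) f (Spec.map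 (CommRingCat.ofHom (algebraMap R (FractionRing R))))) (I : X.Modules) (hI : TFOne.IsRelTF1 f I) (E : X.Modules) (r : ℕ) (hr : 0 < r) (hE : FlatMod.IsFinLocFreeOfRank r E) (d : ℤ) (hχ : Curv2.euler (IsLocalRing.ResidueField R) Xs ((Scheme.Modules.pullback i).obj I) = d) (hEd : Curv2.deg (IsLocalRing.ResidueField R) Xs ((Scheme.Modules.pullback i).obj E) r = -(r : ℤ) * d) (hIg1 : TFOne.FibSimple (Xg ↘ Spec (CommRingCat.of (FractionRing R))) ((Scheme.Modules.pullback j).obj I)) (hIg2 : TFOne.FibSemistable (Xg ↘ Spec (CommRingCat.of (FractionRing R))) ((Scheme.Modules.pullback j).obj I) ((Scheme.Modules.pullback j).obj E) r) : ∃ I' : X.Modules, TFOne.IsRelTF1 f I' ∧ Nonempty ((Scheme.Modules.pullback j).obj I' ≅ ((Scheme.Modules.pullback j).obj I)) ∧ TFOne.FibSimple f I' ∧ TFOne.FibSemistable f I' E r := by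
  letI : X.Over (Spec (CommRingCat.of R)) := ⟨f⟩
  haveI : IsProper (X ↘ Spec (CommRingCat.of R)) := ‹IsProper f›
  haveI : Flat (X ↘ Spec (CommRingCat.of R)) := ‹Flat f›
  haveI : IsProper (Xs ↘ Spec (CommRingCat.of (IsLocalRing.ResidueField R))) := isProper_fibre hsq
  haveI := CurveCohLib.isNoetherian_of_proper (k := IsLocalRing.ResidueField R) (X := Xs)
  haveI := geometricallyReduced_of_components (k := IsLocalRing.ResidueField R) hgi
  obtain ⟨t, ht⟩ := IsDiscreteValuationRing.exists_irreducible R
  have hgood := good_of_relTF1 hsq ht hI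
  haveI := nonempty_special hgen hsq hIg1
  have h0 : betaS R i hE I (fun _ => True) = 0 := beta_true _ hpure _ hgood.tf1 hχ hEd
  have hss := genSS_of_generic hgen hIg2
  have hsim := genSimple_of_generic hgen hI hIg1
  obtain ⟨J, hJ, hJI, hJs⟩ := exists_semistable hsq hpure ht hE hr hgood hss h0
  obtain ⟨K, hK, hKJ, hKs, hd⟩ := exists_indecomposable hsq hpure ht (fun M => SSState R i hE M)
    (fun M P hM hMs hP => by
      obtain ⟨-, hmod, -⟩ := hM.step hsq hpure ht P
      have h1 := Dec.beta_add (IsLocalRing.ResidueField R) (isFinLocFreeOfRank_pullback i hE) hM.tf1 hP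
      have h2 := hMs.2 P
      have h3 := hMs.2 (fun η => ¬ P η)
      have h4 := hMs.1
      exact ⟨(betaS_true_step hsq hpure ht hE hM P).trans h4,
        fun Q => IsModif.nonneg _ (isFinLocFreeOfRank_pullback i hE) hmod hMs.2 (by linarith) Q⟩)
    hJ hJs (hsim.congr hJI)
  exact ⟨K, relTF1_of_good hsq ht hI hK (hJI.trans hKJ), iso_of_genIso hgen (hJI.trans hKJ),
    fibSimple hsq hpure hgi hK (hsim.congr (hJI.trans hKJ)) hd,
    fibSemistable hsq hpure hgi hE hK (hss.congr (hJI.trans hKJ)) hKs⟩

end Groth.Agent.S18851
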