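import Groth.Statements.S18856
import Groth.Agent.BunLib68.TF.Beta
-- import your own Groth.Agent.* helpers here

set_option autoImplicit false
universe u
open CategoryTheory CategoryTheory.Limits AlgebraicGeometry
open TFOne

namespace Groth.Agent.S18856

set_option linter.style.haveILetI false
set_option linter.unusedVariables false
open Groth.Agent Groth.Agent.BunLib68.TF

/-- Let R be a discrete valuation ring with residue field κ, f : X ⟶ Spec R flat and proper, and X_s its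
special fibre, assumed reduced of pure dimension one with geometrically integral irreducible
components over κ. Let I be a coherent R-flat module on X whose restriction I(s) to X_s is
torsion-free rank-1, E a locally free module of rank r > 0 on X with restriction E(s), and d an
integer with χ(I(s)) = d and deg E(s) = -r·d. For a closed subset T of X_s write I(s)_T for the
torsion-free quotient of I(s) on T (pinned by its defining property) and β(T) := r·χ(I(s)_T) +
deg(E(s)|_T) (the source's β cleared of the denominator r). Let Y be a closed subcurve of X_s (a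
non-empty union of irreducible components), and let I^Y be the kernel of the composite I ⟶ i_* I(s)
⟶ i_* I(s)_Y, with restriction I^Y(s) to X_s and quotients I^Y(s)_T and numbers β^Y(T) :=
r·χ(I^Y(s)_T) + deg(E(s)|_T) defined likewise. Let Z be a closed subcurve of X_s, W the union of the
irreducible components of X_s contained in Y ∩ Z, Y' the union of the components not contained in Y,
and V the union of the components contained in Z but not in Y (each possibly empty; the torsion-free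
quotient on the empty set is 0). Then the inequality β^Y(Z) + β(Y) ≥ β(W) + β(Y ∪ Z) is an equality
if and only if χ(I^Y(s)_W) + χ(I^Y(s)_{Y'}) − χ(I^Y(s)_{W ∪ Y'}) = χ(I^Y(s)_W) + χ(I^Y(s)_V) −
χ(I^Y(s)_Z), that is δ(W, Y') = δ(W, V) for δ(A, B) := χ(I^Y(s)_A) + χ(I^Y(s)_B) − χ(I^Y(s)_{A ∪ B})
(note W ∪ V = Z). (The source takes f projective.) -/
theorem result (R : Type u) [CommRing R] [IsDomain R] [IsDiscreteValuationRing R] (X : Scheme.{u}) (f : X ⟶ Spec (CommRingCat.of R)) [Flat f] [IsProper f] (Xs : Scheme.{u}) [Xs.Over (Spec (CommRingCat.of (IsLocalRing.ResidueField R)))] (i : Xs ⟶ X) (hsq : IsPullback i (Xs ↘ Spec (CommRingCat.of (IsLocalRing.ResidueField R))) f (Spec.map (CommRingCat.ofHom (IsLocalRing.residue R)))) [IsReduced Xs] (hpure : ∀ C ∈ irreducibleComponents (Xs : Type u), topologicalKrullDim C = 1) (hgi : ∀ (C : Set Xs) (hC : C ∈ irreducibleComponents (Xs : Type u)), GeometricallyIntegral (VecSt.subschι Xs C (isClosed_of_mem_irreducibleComponents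 C hC) ≫ (Xs ↘ Spec (CommRingCat.of (IsLocalRing.ResidueField R))))) (I : X.Modules) (hIc : Coh.IsCoh I) (hIf : FlatMod.IsFlatOver f I) (hIs : TFOne.IsTF1 Xs ((Scheme.Modules.pullback i).obj I)) (E : X.Modules) (r : ℕ) (hr : 0 < r) (hE : FlatMod.IsFinLocFreeOfRank r E) (d : ℤ) (hχ : Curv2.euler (IsLocalRing.ResidueField R) Xs ((Scheme.Modules.pullback i).obj I) = d) (hEd : Curv2.deg (IsLocalRing.ResidueField R) Xs ((Scheme.Modules.pullback i).obj E) r = -(r : ℤ) * d) (Y : Set Xs) (hY : IsClosed Y) (hYs : VecSt.IsSubcurve Xs Y) (GY : Xs.Modules) (πY : ((Scheme.Modules.pullback i).obj I) ⟶ GY) (hGY : TFOne.IsQuotOn Xs ((Scheme.Modules.pullback i).obj I) Y GY πY) (IY : X.Modules) (hIY : IY = kernel ((Scheme.Modules.pullbackPushforwardAdjunction i).unit.app I ≫ (Scheme.Modules.pushforward i).map πY)) (Z W Y' V : Set Xs) (hZ : IsClosed Z) (hZs : VecSt.IsSubcurve Xs Z) (hW : W = ⋃₀ {C | C ∈ irreducibleComponents (Xs : Type u) ∧ C ⊆ Y ∩ Z}) (hWc : IsClosed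 W) (hY' : Y' = ⋃₀ {C | C ∈ irreducibleComponents (Xs : Type u) ∧ ¬ C ⊆ Y}) (hY'c : IsClosed Y') (hV : V = ⋃₀ {C | C ∈ irreducibleComponents (Xs : Type u) ∧ C ⊆ Z ∧ ¬ C ⊆ Y}) (hVc : IsClosed V) (GZ1 G2 G3 G4 G5 : Xs.Modules) (πZ1 : ((Scheme.Modules.pullback i).obj IY) ⟶ GZ1) (π5 : ((Scheme.Modules.pullback i).obj IY) ⟶ G5) (hG5 : TFOne.IsQuotOn Xs ((Scheme.Modules.pullback i).obj IY) W G5 π5) (π2 : ((Scheme.Modules.pullback i).obj IY) ⟶ G2) (π3 : ((Scheme.Modules.pullback i).obj IY) ⟶ G3) (π4 : ((Scheme.Modules.pullback i).obj IY) ⟶ G4) (hGZ1 : TFOne.IsQuotOn Xs ((Scheme.Modules.pullback i).obj IY) Z GZ1 πZ1) (hG2 : TFOne.IsQuotOn Xs ((Scheme.Modules.pullback i).obj IY) Y' G2 π2) (hG3 : TFOne.IsQuotOn Xs ((Scheme.Modules.pullback i).obj IY) (W ∪ Y') G3 π3) (hG4 : TFOne.IsQuotOn Xs ((Scheme.Modules.pullback i).obj IY) V G4 π4) (GW GU : Xs.Modules) (πW : ((Scheme.Modules.pullback i).obj I) ⟶ GW) (πU : ((Scheme.Modules.pullback i).obj I) ⟶ GU) (hGW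 : TFOne.IsQuotOn Xs ((Scheme.Modules.pullback i).obj I) W GW πW) (hGU : TFOne.IsQuotOn Xs ((Scheme.Modules.pullback i).obj I) (Y ∪ Z) GU πU) : TFOne.rBeta Xs (IsLocalRing.ResidueField R) (Xs ↘ Spec (CommRingCat.of (IsLocalRing.ResidueField R))) W hWc ((Scheme.Modules.pullback i).obj E) r GW + TFOne.rBeta Xs (IsLocalRing.ResidueField R) (Xs ↘ Spec (CommRingCat.of (IsLocalRing.ResidueField R))) (Y ∪ Z) (hY.union hZ) ((Scheme.Modules.pullback i).obj E) r GU = TFOne.rBeta Xs (IsLocalRing.ResidueField R) (Xs ↘ Spec (CommRingCat.of (IsLocalRing.ResidueField R))) Z hZ ((Scheme.Modules.pullback i).obj E) r GZ1 + TFOne.rBeta Xs (IsLocalRing.ResidueField R) (Xs ↘ Spec (CommRingCat.of (IsLocalRing.ResidueField R))) Y hY ((Scheme.Modules.pullback i).obj E) r GY ↔ Curv2.euler (IsLocalRing.ResidueField R) Xs G5 + Curv2.euler (IsLocalRing.ResidueField R) Xs G2 - Curv2.euler (IsLocalRing.ResidueField R) Xs G3 = Curv2.euler (IsLocalRing.ResidueField R) Xs G5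 + Curv2.euler (IsLocalRing.ResidueField R) Xs G4 - Curv2.euler (IsLocalRing.ResidueField R) Xs GZ1 := by
  haveI : IsProper (Xs ↘ Spec (CommRingCat.of (IsLocalRing.ResidueField R))) := isProper_fibre hsq
  haveI := CurveCohLib.isNoetherian_of_proper (k := IsLocalRing.ResidueField R) (X := Xs)
  haveI : IsLocallyNoetherian X := LocallyOfFiniteType.isLocallyNoetherian f
  have hm := isModif_pullback (IsLocalRing.ResidueField R) hpure f i _ hsq hIc hIf hIs hGY IY hIY
  have hE' := isFinLocFreeOfRank_pullback i hE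
  have hW' : ∀ η, IsGen η → (η ∈ W ↔ η ∈ Z ∧ η ∈ Y) := fun η hη => mem_sUnion_sub hη hY hZ hW
  have hY'' : ∀ η, IsGen η → (η ∈ Y' ↔ η ∉ Y) := fun η hη => mem_sUnion_not hη hY hY'
  have hV' : ∀ η, IsGen η → (η ∈ V ↔ η ∈ Z ∧ η ∉ Y) := fun η hη => by
    rw [hV, sUnion_components_eq, mem_compUnion_gen hη, mem_iff_closure_subset hZ, mem_iff_closure_subset hY]
  rw [rBeta_eq_beta (IsLocalRing.ResidueField R) hpure hE' hIs hGW _ rfl hW',
    rBeta_eq_beta (IsLocalRing.ResidueField R) hpure hE' hIs hGU _ rfl (P := fun η => η ∈ Z ∨ η ∈ Y) fun η _ => or_comm,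
    rBeta_eq_beta (IsLocalRing.ResidueField R) hpure hE' hm.tf1 hGZ1 _ rfl (P := (· ∈ Z)) fun η _ => Iff.rfl,
    rBeta_eq_beta (IsLocalRing.ResidueField R) hpure hE' hIs hGY _ rfl (P := (· ∈ Y)) fun η _ => Iff.rfl,
    hm.beta_eq_iff (IsLocalRing.ResidueField R) hE' hr, euler_eq_chiQ (IsLocalRing.ResidueField R) hm.tf1 hG2 hY'', euler_eq_chiQ (IsLocalRing.ResidueField R) hm.tf1 hG4 hV',
    euler_eq_chiQ (IsLocalRing.ResidueField R) hm.tf1 hG3 (P := fun η => (η ∈ Z ∧ η ∈ Y) ∨ η ∉ Y)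
      (fun η hη => or_congr (hW' η hη) (hY'' η hη)),
    euler_eq_chiQ (IsLocalRing.ResidueField R) hm.tf1 hGZ1 (P := (· ∈ Z)) fun η _ => Iff.rfl]
  have e2 := hm.eq (fun η => η ∉ Y) (Or.inr fun η _ h => h.1 h.2)
  have e4 := hm.eq (fun η => η ∈ Z ∧ η ∉ Y) (Or.inr fun η _ h => h.1.2 h.2)
  have e3 := hm.eq (fun η => (η ∈ Z ∧ η ∈ Y) ∨ η ∉ Y) (Or.inl fun η _ => (em (η ∈ Y)).symm.imp_left Or.inr)
  have c2a : chiQ (IsLocalRing.ResidueField R) ((Scheme.Modules.pullback i).obj I) (fun η => η ∉ Y ∧ η ∈ Y) = chiQ (IsLocalRing.ResidueField R) _ (fun _ => False) :=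
    chiQ_congr _ hIs fun η _ => iff_of_false (fun h => h.1 h.2) not_false
  have c2b : chiQ (IsLocalRing.ResidueField R) ((Scheme.Modules.pullback i).obj I) (fun η => η ∉ Y ∨ η ∈ Y) = chiQ (IsLocalRing.ResidueField R) _ (fun _ => True) :=
    chiQ_congr _ hIs fun η _ => iff_of_true (em (η ∈ Y)).symm trivial
  have c4a : chiQ (IsLocalRing.ResidueField R) ((Scheme.Modules.pullback i).obj I) (fun η => (η ∈ Z ∧ η ∉ Y) ∧ η ∈ Y) =
      chiQ (IsLocalRing.ResidueField R) _ (fun _ => False) := chiQ_congr _ hIs fun η _ => iff_of_false (fun h => h.1.2 h.2) not_false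
  have c4b : chiQ (IsLocalRing.ResidueField R) ((Scheme.Modules.pullback i).obj I) (fun η => (η ∈ Z ∧ η ∉ Y) ∨ η ∈ Y) =
      chiQ (IsLocalRing.ResidueField R) _ (fun η => η ∈ Z ∨ η ∈ Y) := chiQ_congr _ hIs fun η _ => by tauto
  have c3a : chiQ (IsLocalRing.ResidueField R) ((Scheme.Modules.pullback i).obj I) (fun η => ((η ∈ Z ∧ η ∈ Y) ∨ η ∉ Y) ∧ η ∈ Y) =
      chiQ (IsLocalRing.ResidueField R) _ (fun η => η ∈ Z ∧ η ∈ Y) := chiQ_congr _ hIs fun η _ => by tauto
  have c3b : chiQ (IsLocalRing.ResidueField R) ((Scheme.Modules.pullback i).obj I) (fun η => ((η ∈ Z ∧ η ∈ Y) ∨ η ∉ Y) ∨ η ∈ Y) =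
      chiQ (IsLocalRing.ResidueField R) _ (fun _ => True) := chiQ_congr _ hIs fun η _ => by tauto
  have h0 := chiQ_false (IsLocalRing.ResidueField R) hIs
  constructor <;> intro h <;> linarith

end Groth.Agent.S18856
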