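import Groth.Statements.S18863
import Groth.Agent.NonAbLib.LimFlat
import Groth.Agent.NonAbLib.TorsorSch
import Groth.Agent.SchTorsor.Props
import Groth.Agent.EtFound.Descent
import Groth.Agent.NonAbLib.GrpLimit
import Groth.Agent.MorLib.LimExists

set_option autoImplicit false
universe u
open CategoryTheory CategoryTheory.Limits MonoidalCategory CartesianMonoidalCategory MonObj GrpObj AlgebraicGeometry
open NonAbH1

namespace Groth.Agent.S18863

set_option backward.isDefEq.respectTransparency.types false in
/-- Let k be a field and X a quasi-compact k-scheme. Let (G_i)_{i ∈ I} be a cofiltered inverse system of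
affine group schemes of finite type over k with limit G in the category of k-group schemes (a limit
cone of homomorphisms G → G_i), and (T_i)_{i ∈ I} an inverse system of X-schemes such that each T_i
is a torsor over X for the fpqc topology under the base change of G_i to X and each transition map
T_j → T_i is equivariant along G_j → G_i. Let T be a limit of the T_i over X, with an action of the
base change of G to X for which every projection T → T_i is equivariant along G → G_i. Then T is a
torsor over X under the base change of G for the fpqc topology. (The source indexes the system by a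
directed partially ordered set and also records that T is pointed over a rational point of X when
all the T_i are; the limit scheme, the limit group and the limit action, which exist and are unique,
are taken here as data.) -/
theorem result (k : Type u) [Field k]
    (X : Scheme.{u}) [X.Over (Spec (CommRingCat.of k))] [CompactSpace X]
    {I : Type u} [SmallCategory I] [IsCofiltered I]
    (DG : I ⥤ Grp (Over (Spec (CommRingCat.of k))))
    [∀ i, IsAffineHom (DG.obj i).X.hom] [∀ i, LocallyOfFiniteType (DG.obj i).X.hom]
    (cG : Cone DG) (hcG : IsLimit cG)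
    (DT : I ⥤ Over X)
    (aT : ∀ i, AlgGrp.Action (Red.bc (X ↘ Spec (CommRingCat.of k)) (DG.obj i).X) (DT.obj i))
    (hT : ∀ i, NonAbH1.IsTorsorFor Scheme.fpqcPrecoverage (aT i))
    (hDT : ∀ (i j : I) (φ : i ⟶ j), AlgGrp.Action.IsEquivariant (aT i)
      ((aT j).restrict ((Over.pullback (X ↘ Spec (CommRingCat.of k))).map (DG.map φ).hom.hom)) (DT.map φ))
    (cT : Cone DT) (hcT : IsLimit cT)
    (a : AlgGrp.Action (Red.bc (X ↘ Spec (CommRingCat.of k)) cG.pt.X) cT.pt)
    (ha : ∀ i, AlgGrp.Action.IsEquivariant a
      ((aT i).restrict ((Over.pullback (X ↘ Spec (CommRingCat.of k))).map (cG.π.app i).hom.hom)) (cT.π.app i)) :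
    NonAbH1.IsTorsorFor Scheme.fpqcPrecoverage a := by
  classical
  set F := Over.pullback (X ↘ Spec (CommRingCat.of k))
  have : _root_.CategoryTheory.IsConnected I := IsCofiltered.isConnected I
  have : ∀ i, IsAffine (((DG ⋙ Grp.forget _) ⋙ Over.forget (Spec (CommRingCat.of k))).obj i) := fun i =>
    @isAffine_of_isAffineHom _ _ _ (‹∀ i, IsAffineHom (DG.obj i).X.hom› i) inferInstance
  have := MorLib.LimExists.hasLimit_of_isAffine ((DG ⋙ Grp.forget _) ⋙ Over.forget (Spec (CommRingCat.of k)))
  have : HasLimit (DG ⋙ Grp.forget _) := hasLimit_of_created _ (Over.forget _)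
  obtain ⟨hG'⟩ := NonAbLib.isLimit_grpForget DG cG hcG
  have hGb : IsLimit (F.mapCone ((Grp.forget _).mapCone cG)) := isLimitOfPreserves F hG'
  have hact : ∀ (i : I) {Z : Over X} (g : Z ⟶ Red.bc (X ↘ Spec (CommRingCat.of k)) cG.pt.X) (y : Z ⟶ cT.pt),
      (lift g y ≫ a.act) ≫ cT.π.app i = lift (g ≫ F.map (cG.π.app i).hom.hom) (y ≫ cT.π.app i) ≫ (aT i).act :=
    fun i Z g y => by
      rw [Category.assoc, ha i, lift_whiskerLeft_assoc, AlgGrp.Action.lift_restrict_act]
  refine ⟨?_, ?_⟩
  · refine NonAbLib.isPseudoTorsor_of_points a fun Z y w => ?_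
    choose g hg using fun i => SchTorsor.exists_div (hT i).1 (y ≫ cT.π.app i) (w ≫ cT.π.app i)
    let s : Cone ((DG ⋙ Grp.forget _) ⋙ F) :=
      { pt := Z
        π :=
          { app := g
            naturality := fun i j φ => by
              refine (Category.id_comp _).trans (SchTorsor.act_free (hT j).1 (y := w ≫ cT.π.app j) ?_)
              rw [hg j, ← cT.w φ, ← Category.assoc y, ← hg i, ← Category.assoc w, Category.assoc (lift _ _),
                hDT i j φ, lift_whiskerLeft_assoc, AlgGrp.Action.lift_restrict_act]
              rfl } }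
    refine ⟨hGb.lift s, hcT.hom_ext fun i => ?_, fun g' hg' => hGb.hom_ext fun i => ?_⟩
    · have e := hact i (hGb.lift s) w
      erw [hGb.fac s i] at e
      exact e.trans (hg i)
    · rw [hGb.fac s i]
      exact SchTorsor.act_free (hT i).1 (((hact i g' w).symm.trans (congrArg (· ≫ cT.π.app i) hg')).trans (hg i).symm)
  · have := EtFound.fpqc_isAffineHom.{u}
    have : IsZariskiLocalAtTarget (@Flat : MorphismProperty Scheme.{u}) :=
      HasRingHomProperty.instIsZariskiLocalAtTarget _
    have hGa : ∀ i, IsAffineHom (F.obj (DG.obj i).X).hom := fun i =>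
      MorphismProperty.of_isPullback (P := @IsAffineHom) (IsPullback.of_hasPullback (DG.obj i).X.hom _)
        (‹∀ i, IsAffineHom (DG.obj i).X.hom› i)
    have hGf : ∀ i, Flat (F.obj (DG.obj i).X).hom := fun i =>
      inferInstanceAs (Flat (pullback.snd (DG.obj i).X.hom _))
    obtain ⟨haff, hflat, hsurj⟩ := NonAbLib.affine_flat_surjective_of_isLimit DT cT hcT
      (fun i => SchTorsor.torsor_property @IsAffineHom (hT i) (hGa i))
      (fun i => SchTorsor.torsor_property @Flat (hT i) (hGf i))
      (fun i => SchTorsor.surjective_hom (hT i))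
    refine ⟨Presieve.singleton cT.pt.hom, ?_, ?_⟩
    · exact cT.pt.hom.singleton_mem_fpqcPrecoverage
    · rintro S' g ⟨⟩
      exact ⟨𝟙 _, Category.id_comp _⟩

end Groth.Agent.S18863
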