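import Groth.Statements.S18879
import Groth.Agent.DimFormula.Scheme
import Groth.Agent.FibDim.Minimal
import Groth.Agent.ResSurf.Maximal
-- import your own Groth.Agent.* helpers here

set_option autoImplicit false
universe u
open CategoryTheory AlgebraicGeometry
open Resolve

namespace Groth.Agent.S18879

/-- Let f : Y ⟶ X be a morphism locally of finite type between Noetherian separated schemes which is
birational: it maps the maximal points of Y bijectively onto the maximal points of X, and over every
maximal point of X its fibre is one point with the same residue field. Then for every point y of Y,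
the Krull dimension of the local ring of Y at y is at most the Krull dimension of the local ring of
X at f y (the codimension of a point does not increase along f). -/
theorem result {X Y : Scheme.{u}} (f : Y ⟶ X)
    [IsNoetherian X] [X.IsSeparated] [IsNoetherian Y] [Y.IsSeparated] [LocallyOfFiniteType f]
    (hf : RadPt.IsBirational f) (y : Y) :
    ringKrullDim (Y.presheaf.stalk y) ≤ ringKrullDim (X.presheaf.stalk (f.base y)) := by
  obtain ⟨η, hη, hmax, hcd⟩ := DimFormula.exists_maximal_cd_eq_codim y
  have hηg : η ∈ genericPoints Y := ResSurf.mem_genericPoints_of_maximal hmax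
  obtain ⟨-, hres⟩ := hf.2 (f η) (hf.1.mapsTo hηg)
  have hrd : FibDim.rd f η = 0 := by
    have h := FibDim.rd_eq_rdeg f η
    have h0 : VarDim.rdeg f η = 0 := by
      unfold VarDim.rdeg
      letI := (f.residueFieldMap η).hom.toAlgebra
      have : Algebra.IsAlgebraic (X.residueField (f η)) (Y.residueField η) := ⟨fun a => by
        obtain ⟨b, rfl⟩ := (hres η rfl).2 a
        exact isAlgebraic_algebraMap b⟩
      exact trdeg_eq_zero
    rw [h0] at h
    exact_mod_cast h
  have h1 := (DimFormula.cd_formula f hη).1
  rw [hcd, hrd, add_zero] at h1
  have h2 : DimFormula.cd (f η) (f y) ≤ DimFormula.codim (f y) :=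
    DimFormula.cd_le_codim (hη.map f.continuous)
  rw [DimFormula.ringKrullDim_stalk, DimFormula.ringKrullDim_stalk]
  have h3 : DimFormula.codim y ≤ DimFormula.codim (f y) := (Nat.le_add_right _ _).trans (h1.trans h2)
  exact_mod_cast h3

end Groth.Agent.S18879
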