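import Groth.Statements.S18892
import Groth.Agent.LS17.Involution
import Groth.Agent.CurveCohLib.SmoothCurve
import Groth.Agent.S7810

set_option autoImplicit false
universe u
open CategoryTheory CategoryTheory.Limits AlgebraicGeometry
open Curves

namespace Groth.Agent.S18892

attribute [local instance] Groth.Agent.CurveFF.ffAlg

/-- Let k be an algebraically closed field of characteristic different from 2 and X a hyperelliptic
curve over k, i.e. p : X → Spec k is smooth and proper, X is connected of dimension one and of genus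
dim_k H¹(X, O_X) ≥ 2, and X admits a double cover of P¹_k (a k-morphism which is finite and flat of
rank 2 at every point). A hyperelliptic involution is a k-endomorphism σ ≠ id of X with σ ≫ h = h
for some such double cover h. Then any two hyperelliptic involutions of X coincide. -/
theorem result (k : Type u) [Field k] [IsAlgClosed k] (h2 : (2 : k) ≠ 0)
    {X : Scheme.{u}} (p : X ⟶ Spec (CommRingCat.of k)) [IsProper p] [Smooth p] [ConnectedSpace ↥X]
    (hX : topologicalKrullDim ↥X = 1) (hg : 2 ≤ @Curv2.genus k _ X ⟨p⟩)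
    (h₁ h₂ : X ⟶ CohB1.ProjSpace 1 k) (hh₁ : h₁ ≫ CohB1.ProjSpace.toSpec 1 k = p)
    (hh₂ : h₂ ≫ CohB1.ProjSpace.toSpec 1 k = p)
    [IsFinite h₁] [Flat h₁] (hr₁ : ∀ y : ↥(CohB1.ProjSpace 1 k), h₁.finrank y = 2)
    [IsFinite h₂] [Flat h₂] (hr₂ : ∀ y : ↥(CohB1.ProjSpace 1 k), h₂.finrank y = 2)
    (σ τ : X ⟶ X) (hσ : σ ≫ h₁ = h₁) (hσ₁ : σ ≠ 𝟙 X) (hτ : τ ≫ h₂ = h₂) (hτ₁ : τ ≠ 𝟙 X) :
    σ = τ := by
  let P := CohB1.ProjSpace 1 k
  letI : P.Over (Spec (CommRingCat.of k)) := ⟨CohB1.ProjSpace.toSpec 1 k⟩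
  letI : X.Over (Spec (CommRingCat.of k)) := ⟨p⟩
  haveI : IsIntegral P := H23.PnChart.isIntegral_projSpace 1 k
  haveI : IsProper (P ↘ Spec (CommRingCat.of k)) := PnCoh.Chow.isProper_toSpec 1 k
  haveI : Smooth (P ↘ Spec (CommRingCat.of k)) := CurveEmbed.smooth_toSpec 1 k
  haveI : IsProper (X ↘ Spec (CommRingCat.of k)) := ‹IsProper p›
  haveI : Smooth (X ↘ Spec (CommRingCat.of k)) := ‹Smooth p›
  haveI : CompactSpace X := QuasiCompact.compactSpace_of_compactSpace (X ↘ Spec (CommRingCat.of k))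
  haveI := CurveCohLib.isIntegral_of_smooth_connected (X ↘ Spec (CommRingCat.of k))
  have hdP : topologicalKrullDim ↥P = 1 := by simpa using S10829.result k 1
  obtain ⟨e, -, he⟩ : ∃ e : P ≅ P, e.hom ≫ (P ↘ Spec (CommRingCat.of k)) = (P ↘ Spec (CommRingCat.of k)) ∧
      h₁ ≫ e.hom = h₂ := by
    by_contra hne
    have := LS17.genus_le_of_two_covers k hX hdP hdP h₁ hh₁ h₂ hh₂ hr₁ hr₂ hne
    rw [(S7810.projLine_facts k).2] at this
    change @Curv2.genus k _ X ⟨p⟩ ≤ _ at this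
    omega
  exact LS17.endo_unique k hX hdP h₂ hh₂ hr₂ σ τ (by rw [← he, reassoc_of% hσ]) hσ₁ hτ hτ₁

end Groth.Agent.S18892
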