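import Groth.Statements.S18893
import Groth.Agent.S18892
import Groth.Agent.LS17.Involution

set_option autoImplicit false
universe u
open CategoryTheory CategoryTheory.Limits AlgebraicGeometry
open Curves

namespace Groth.Agent.S18893

attribute [local instance] Groth.Agent.CurveFF.ffAlg

/-- Let k be an algebraically closed field of characteristic different from 2 and X a hyperelliptic
curve over k (p : X → Spec k smooth and proper, X connected of dimension one, genus dim_k H¹(X, O_X)
≥ 2, with a double cover h : X → P¹_k, finite and flat of rank 2 everywhere) with hyperelliptic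
involution σ (σ ≫ h = h, σ ≠ id). Then σ lies in the centre of the automorphism group of X over k:
it commutes with every k-automorphism τ of X. -/
theorem result (k : Type u) [Field k] [IsAlgClosed k] (h2 : (2 : k) ≠ 0)
    {X : Scheme.{u}} (p : X ⟶ Spec (CommRingCat.of k)) [IsProper p] [Smooth p] [ConnectedSpace ↥X]
    (hX : topologicalKrullDim ↥X = 1) (hg : 2 ≤ @Curv2.genus k _ X ⟨p⟩)
    (h : X ⟶ CohB1.ProjSpace 1 k) (hh : h ≫ CohB1.ProjSpace.toSpec 1 k = p)
    [IsFinite h] [Flat h] (hr : ∀ y : ↥(CohB1.ProjSpace 1 k), h.finrank y = 2)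
    (σ : X ⟶ X) (hσ : σ ≫ h = h) (hσ₁ : σ ≠ 𝟙 X)
    (τ : X ≅ X) (hτ : τ.hom ≫ p = p) :
    τ.hom ≫ σ = σ ≫ τ.hom := by
  have hr' : ∀ y : ↥(CohB1.ProjSpace 1 k), (τ.hom ≫ h).finrank y = 2 := fun y => by
    rw [Scheme.Hom.finrank_comp_left_of_isIso]; exact hr y
  have key := S18892.result k h2 p hX hg h (τ.hom ≫ h) hh (by rw [Category.assoc, hh, hτ]) hr hr'
    σ (τ.hom ≫ σ ≫ τ.inv) hσ hσ₁ (by simp [reassoc_of% hσ, hσ]) fun hid => hσ₁ (by
      have := congrArg (fun q => τ.inv ≫ q ≫ τ.hom) hid
      simpa using this)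
  conv_rhs => rw [key]
  simp

end Groth.Agent.S18893
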