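import Groth.Statements.S18916
import Groth.Agent.Div57.Ref.Hull
import Groth.Agent.BunLib68.TF.Gen
import Groth.Agent.CurveCohLib.Proper
-- import your own Groth.Agent.* helpers here

set_option autoImplicit false
universe u
open CategoryTheory CategoryTheory.Limits AlgebraicGeometry
open TFNodal

namespace Groth.Agent.S18916

set_option linter.style.haveILetI false
set_option linter.unusedVariables false
open Groth.Agent Groth.Agent.BunLib68.TF

/-- Let k be an algebraically closed field of characteristic zero, X a reduced proper curve over k (a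
proper k-scheme of dimension one) without isolated points (no closed point is open, i.e. X is
one-dimensional at every point) and F a coherent O_X-module. Then the dual 𝓗om(F, O_X) is torsion
free: no closed point of X is an associated point of it. -/
theorem result
    (k : Type u) [Field k] [IsAlgClosed k] [CharZero k]
    (X : Scheme.{u}) [X.Over (Spec (CommRingCat.of k))] [IsProper (X ↘ Spec (CommRingCat.of k))]
    [AlgebraicGeometry.IsReduced X] (hdim : topologicalKrullDim X = 1)
    (hpure : ∀ x : X, IsClosed ({x} : Set X) → ¬ IsOpen ({x} : Set X))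
    (F : X.Modules) (hF : Coh.IsCoh F) (x : X) (hx : IsClosed ({x} : Set X)) :
    ¬ Curv2.IsAssPoint (RefHull.dual F) x := by
  haveI := CurveCohLib.isNoetherian_of_proper (k := k) (X := X)
  have hnf : ¬ IsField (X.presheaf.stalk x) := fun hf => by
    refine hpure x hx ?_
    let W : X.Opens := ⟨(compUnion fun η => η ≠ x)ᶜ, (isClosed_compUnion _).isOpen_compl⟩
    suffices (W : Set X) = {x} by rw [← this]; exact W.2
    ext y
    refine ⟨fun hy => ?_, fun hy => ?_⟩
    · obtain ⟨η, hη, hs⟩ := exists_isGen y
      have hηx : η = x := not_not.1 fun hn => hy ⟨η, hη, hn, hs⟩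
      subst hηx
      exact hs.mem_closed hx rfl
    · rintro ⟨η, hη, hn, hs⟩
      obtain rfl : y = x := hy
      exact hn (IsGen.eq_of_specializes (hf : IsGen y) hs)
  intro hass
  obtain ⟨hp, v, hv⟩ := hass
  let d := RefX.dualStalk (QCoh.isCoh_iff_isFP.1 hF) x
  haveI : Nontrivial (X.presheaf.stalk x) := inferInstance
  have hred : _root_.IsReduced (X.presheaf.stalk x) := inferInstance
  refine hp.ne_top ?_
  have hv0 : v = 0 := d.injective (by
    rw [map_zero]
    refine LinearMap.ext fun m => ?_
    have hm : ∀ a ∈ IsLocalRing.maximalIdeal (X.presheaf.stalk x), a * d v m = 0 := fun a ha => by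
      rw [hv] at ha
      obtain ⟨n, hn⟩ := Ideal.mem_radical_iff.1 ha
      have h1 : a ^ n • v = 0 := Submodule.mem_colon_singleton.1 hn
      have h2 : a ^ n * d v m = 0 := by
        rw [← smul_eq_mul, ← LinearMap.smul_apply, ← map_smul, h1, map_zero, LinearMap.zero_apply]
      refine IsReduced.eq_zero _ ⟨n + 1, ?_⟩
      rw [mul_pow, pow_succ a, pow_succ' (d v m)]
      calc a ^ n * a * (d v m * d v m ^ n) = (a ^ n * d v m) * (a * d v m ^ n) := by ring
        _ = 0 := by rw [h2, zero_mul]
    by_cases hu : IsUnit (d v m)
    · exfalso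
      refine hnf (IsLocalRing.isField_iff_maximalIdeal_eq.2 (eq_bot_iff.2 fun a ha => ?_))
      exact (hu.mul_left_eq_zero).1 (hm a ha)
    · exact IsReduced.eq_zero _ ⟨2, by rw [pow_two]; exact hm _ hu⟩)
  subst hv0
  rw [hv]
  simp

end Groth.Agent.S18916
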