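import Groth.Statements.S18927
-- import your own Groth.Agent.* helpers here

set_option autoImplicit false
universe u v
open W4c6secantcecovers

namespace Groth.Agent.S18927

theorem ιMulti_mul_eq_zero (R : Type u) [CommRing R] (r : ℕ) {a b : ℕ} (hab : r < a + b)
    (e : Fin a → (Fin r → R)) (f : Fin b → (Fin r → R)) :
    ExteriorAlgebra.ιMulti R a e * ExteriorAlgebra.ιMulti R b f = 0 := by
  have h : ExteriorAlgebra.ιMulti R a e * ExteriorAlgebra.ιMulti R b f =
      ExteriorAlgebra.ιMulti R (a + b) (Fin.append e f) := by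
    simp only [ExteriorAlgebra.ιMulti_apply]
    rw [← List.prod_append, ← List.ofFn_fin_append]
    congr 2
    funext i
    refine Fin.addCases (fun i => ?_) (fun i => ?_) i <;> simp
  rw [h]
  have h0 : ExteriorAlgebra.ιMulti R (a + b) (M := Fin r → R) = 0 := by
    refine Module.Basis.ext_alternating (Pi.basisFun R (Fin r)) fun v hv => absurd ?_ (not_le.2 hab)
    simpa using Fintype.card_le_of_injective v hv
  rw [h0]
  rfl

theorem ssContr_mul (R : Type u) [CommRing R] (r : ℕ) (j : Fin r) :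
    ∀ (a : ℕ) (e : Fin a → (Fin r → R)) (x : SSLam R r),
      ssContr R r j (ExteriorAlgebra.ιMulti R a e * x) =
        ssContr R r j (ExteriorAlgebra.ιMulti R a e) * x +
          ((-1 : R) ^ a) • (ExteriorAlgebra.ιMulti R a e * ssContr R r j x) := by
  intro a
  induction a with
  | zero =>
    intro e x
    simp [ssContr]
  | succ n ih =>
    intro e x
    rw [ExteriorAlgebra.ιMulti_succ_apply, mul_assoc]
    have hL : ∀ (v : Fin r → R) (y : SSLam R r), ssContr R r j (ExteriorAlgebra.ι R v * y) =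
        v j • y - ExteriorAlgebra.ι R v * ssContr R r j y := fun v y => by
      simp [ssContr, ExteriorAlgebra.ι, CliffordAlgebra.contractLeft_ι_mul]
    rw [hL, hL, ih, sub_mul, smul_mul_assoc, mul_add, mul_smul_comm, pow_succ, mul_neg_one, neg_smul,
      mul_assoc, mul_assoc]
    abel


open TensorProduct in
/-- Let R be a commutative ring, E = R^r the free module with its coordinate basis, S = R[X_1, …, X_r]
(the symmetric algebra of E), and N an R-module carrying R-linear operators φ_j (the action of the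
j-th basis vector of E) and an R-bilinear form β with β(φ_j n, m) = β(n, φ_j m) for every j. On (ΛE
⊗ S) ⊗ N — all terms Λ^k(S ⊗ E) ⊗ N of the Scheja–Storch complex at once — let δ be the differential
sending (e_1 ∧ ⋯ ∧ e_k) ⊗ s ⊗ n to Σ_i (-1)^(i-1) (e_1 ∧ ⋯ ê_i ⋯ ∧ e_k) ⊗ x(e_i) s ⊗ n + Σ_i (-1)^i
(e_1 ∧ ⋯ ê_i ⋯ ∧ e_k) ⊗ s ⊗ e_i · n, and pair a term u = ω ⊗ s ⊗ n of degree k with v = η ⊗ t ⊗ m by
⟨u, v⟩_k = (-1)^(k choose 2) β(n, m) · (ω ∧ η) ⊗ s t. Then the differential is adjoint to itself for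
this pairing in complementary degrees: for u = (e_0 ∧ ⋯ ∧ e_k) ⊗ s ⊗ n of degree k + 1 ≤ r and v =
(f_1 ∧ ⋯ ∧ f_(r-k)) ⊗ t ⊗ m of degree r - k, ⟨δ u, v⟩_k = ⟨u, δ v⟩_(k+1). (The source takes E
finitely generated projective and N a module over the ambient algebra with a pairing satisfying ⟨f,
g h⟩ = ⟨g f, h⟩; the proof runs on a basis, which is the form stated here, with the action of E
recorded by the operators φ_j.) -/
theorem result
    (R : Type u) [CommRing R] (r : ℕ) (N : Type v) [AddCommGroup N] [Module R N]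
    (φ : Fin r → (N →ₗ[R] N)) (β : N →ₗ[R] N →ₗ[R] R)
    (hβ : ∀ (j : Fin r) (n m : N), β (φ j n) m = β n (φ j m))
    (k : ℕ) (hk : k < r)
    (e : Fin (k + 1) → (Fin r → R)) (f : Fin (r - k) → (Fin r → R))
    (s t : MvPolynomial (Fin r) R) (n m : N) :
    W4c6secantcecovers.ssPair R r N β k
        (W4c6secantcecovers.ssDelta R r N φ ((ExteriorAlgebra.ιMulti R (k + 1) e ⊗ₜ[R] s) ⊗ₜ[R] n))
        ((ExteriorAlgebra.ιMulti R (r - k) f ⊗ₜ[R] t) ⊗ₜ[R] m) =
      W4c6secantcecovers.ssPair R r N β (k + 1)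
        ((ExteriorAlgebra.ιMulti R (k + 1) e ⊗ₜ[R] s) ⊗ₜ[R] n)
        (W4c6secantcecovers.ssDelta R r N φ ((ExteriorAlgebra.ιMulti R (r - k) f ⊗ₜ[R] t) ⊗ₜ[R] m)) := by
  classical
  set ω := ExteriorAlgebra.ιMulti R (k + 1) e with hω
  set η := ExteriorAlgebra.ιMulti R (r - k) f with hη
  have h0 : ω * η = 0 := ιMulti_mul_eq_zero R r (by omega) e f
  have hj : ∀ j, ssContr R r j ω * η = ((-1 : R) ^ k) • (ω * ssContr R r j η) := by
    intro j
    have h1 := ssContr_mul R r j (k + 1) e η
    rw [← hω, h0, map_zero, pow_succ, mul_neg_one, neg_smul, ← sub_eq_add_neg] at h1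
    exact sub_eq_zero.1 h1.symm
  have hc : ((-1 : R) ^ (k + 1).choose 2) = (-1 : R) ^ k.choose 2 * (-1 : R) ^ k := by
    rw [Nat.choose_succ_succ, Nat.choose_one_right, pow_add, mul_comm]
  simp only [ssDelta, LinearMap.sum_apply, map_sum]
  refine Finset.sum_congr rfl fun j _ => ?_
  simp only [ssDKoszul, ssDAct, ssPair, ssPairAux, LinearMap.add_apply, LinearMap.smul_apply, map_add,
    map_smul, TensorProduct.map_tmul, TensorProduct.curry_apply, LinearMap.comp_apply,
    LinearEquiv.coe_coe, TensorProduct.tensorTensorTensorComm_tmul, TensorProduct.lift.tmul,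
    LinearMap.mul'_apply, LinearMap.mulLeft_apply, LinearMap.id_apply, TensorProduct.rid_tmul,
    Algebra.TensorProduct.tmul_mul_tmul]
  rw [hj j, hc, hβ]
  rw [show MvPolynomial.X j * s * t = s * (MvPolynomial.X j * t) by ring]
  simp only [TensorProduct.smul_tmul', smul_smul, smul_add]
  ring_nf

end Groth.Agent.S18927
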