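import Groth.Statements.S3623
import Groth.Agent.Dual3Lib.GorScheme
import Groth.Agent.S1827

set_option autoImplicit false
universe u
open CategoryTheory CategoryTheory.Limits AlgebraicGeometry
attribute [local instance] HasDerivedCategory.standard
open Dual3

namespace Groth.Agent.S3623

/-- Let f : Y → X be a local complete intersection morphism (affine-locally given by local complete
intersection ring maps) with X a Gorenstein scheme. Then Y is a Gorenstein scheme. -/
theorem result (Y X : Scheme.{u}) (f : Y ⟶ X) (hf : Dual3.IsLCIMor f) (hX : Dual3.IsGorenstein X) : Dual3.IsGorenstein Y := by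
  haveI := hX.1
  have key : ∀ y : Y, ∃ U : Y.affineOpens, y ∈ U.1 ∧ LocCoh.IsGorensteinRing Γ(Y, U.1) := by
    intro y
    obtain ⟨U, V, e, hyU, hl⟩ := hf y
    letI := (f.appLE V.1 U.1 e).hom.toAlgebra
    haveI : IsNoetherianRing Γ(X, V.1) := IsLocallyNoetherian.component_noetherian V
    have hV : LocCoh.IsGorensteinRing Γ(X, V.1) :=
      Dual3Lib.isGorensteinRing_of_chart V.2.fromSpec fun x _ => hX.2 x
    exact ⟨U, hyU, Groth.Agent.S1827.result _ _ hV hl⟩
  choose U hU hG using key
  refine ⟨?_, fun y => ?_⟩
  · refine isLocallyNoetherian_of_affine_cover (S := U) ?_ fun y => (hG y).toIsNoetherian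
    exact top_le_iff.1 fun y _ => TopologicalSpace.Opens.mem_iSup.2 ⟨y, hU y⟩
  · haveI := hG y
    obtain ⟨p, hp⟩ : y ∈ Set.range (U y).2.fromSpec := by
      exact (U y).2.range_fromSpec.symm ▸ hU y
    rw [← hp]
    exact Dual3Lib.isGorensteinLocalRing_stalk_of_chart (U y).2.fromSpec p

end Groth.Agent.S3623
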