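import Groth.Statements.S18999
import Groth.Agent.SurfInt.RRDual
import Groth.Agent.SurfInt.InterCM
import Groth.Agent.SurfInt.Curve
import Groth.Agent.Pic13Lib.CurveSec
import Groth.Agent.LC.GorHull
import Groth.Agent.LC.Annihilator
import Groth.Agent.S3623
import Groth.Agent.GrpSchLib.SmoothRegular

set_option autoImplicit false
universe u
set_option backward.isDefEq.respectTransparency false
set_option linter.style.haveILetI false
set_option maxHeartbeats 1000000
open CategoryTheory CategoryTheory.Limits AlgebraicGeometry
open Surf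

namespace Groth.Agent.S18999

/-- Let k be a field and X an integral scheme of dimension two admitting a closed immersion into some
P^n_k over k, such that X → Spec k is a local complete intersection morphism. Let (ω, t) be a
dualizing sheaf for X — ω coherent, t a k-linear form on H^2(X, ω), such that for every coherent F
and every k-linear form ψ on H^2(X, F) there is exactly one φ : F → ω with ψ = t ∘ H^2(φ) — and
assume ω invertible (as it is, X being Gorenstein). Then for every invertible O_X-module L one has
2χ(L) = (L·L) − (L·ω) + 2χ(O_X), where (A·B) = χ(O_X) − χ(A) − χ(B) + χ(A ⊗ B) is the intersection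
number (packaged as FGA.intNum) and all dimensions are over k. (The published statement is for a
proper two-dimensional variety of local complete intersection over k, with Euler characteristics
over the field of global functions; this row assumes X projective over k and counts dimensions over
k, which multiplies both sides by the same degree.) -/
theorem result (k : Type u) [Field k] (X : Scheme.{u}) [X.Over (Spec (CommRingCat.of k))]
    [IsIntegral X] (hdim : topologicalKrullDim X = 2)
    (hproj : ∃ (n : ℕ) (ι : X ⟶ CohB1.ProjSpace n k), IsClosedImmersion ι ∧ ι ≫ CohB1.ProjSpace.toSpec n k = (X ↘ (Spec (CommRingCat.of k))))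
    (hlci : Dual3.IsLCIMor (X ↘ (Spec (CommRingCat.of k))))
    (ω : X.Modules) (hωcoh : Coh.IsCoh ω) (hωinv : PicF.IsInvertible ω) (t : Coh.HH X ω 2 →ₗ[k] k)
    (hdual : ∀ F : X.Modules, Coh.IsCoh F → ∀ ψ : Coh.HH X F 2 →ₗ[k] k,
        ∃! φ : F ⟶ ω, ∀ x : Coh.HH X F 2,
          ψ x = t (Sheaf.H.map ((SheafOfModules.toSheaf X.ringCatSheaf).map φ) 2 x))
    (L : X.Modules) (hL : PicF.IsInvertible L) :
    2 * Curv2.euler k X L = FGA.intNum k X 2 ![L, L] (Coh.structureModule X) - FGA.intNum k X 2 ![L, ω] (Coh.structureModule X) + 2 * Curv2.euler k X (Coh.structureModule X) := by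
  obtain ⟨n, ι, hι, hιs⟩ := hproj
  haveI := hι
  haveI := Groth.Agent.SurfInt.isProper_of_projective k hι hιs
  have hG : Dual3.IsGorenstein (Spec (CommRingCat.of k)) := by
    refine ⟨inferInstance, fun x => ?_⟩
    haveI : IsRegularLocalRing ((Spec (CommRingCat.of k)).presheaf.stalk x) :=
      Groth.Agent.GrpSchLib.isRegularLocalRing_stalk_of_smooth (𝟙 (Spec (CommRingCat.of k))) x
    exact Groth.Agent.LC.gorenstein_of_isRegularLocalRing
  have hX := Groth.Agent.S3623.result X (Spec (CommRingCat.of k)) (X ↘ Spec (CommRingCat.of k)) hlci hG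
  refine Groth.Agent.SurfInt.two_mul_euler_of_dualizing k (Groth.Agent.SurfInt.dim_le_of_eq hdim) hωinv t hdual
    (Groth.Agent.Pic13Lib.isAmple_hyp_one ι) (fun x hx => ?_) hL
  haveI := hX.2 x
  have h2 : ((2 : ℕ) : WithBot ℕ∞) ≤ ringKrullDim (X.presheaf.stalk x) :=
    Groth.Agent.SurfInt.le_ringKrullDim_stalk k hx isClosed_univ (IrreducibleSpace.isIrreducible_univ (X : Type u))
      (Set.mem_univ x) (((Homeomorph.Set.univ X).isHomeomorph.topologicalKrullDim_eq).trans hdim)
  obtain ⟨d, hd, hδ, -⟩ := Groth.Agent.LC.gorenstein_basic (R := X.presheaf.stalk x)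
  rw [hd] at h2
  rw [hδ]
  exact lt_of_lt_of_le (by norm_num) (WithBot.coe_le_coe.1 h2)

end Groth.Agent.S18999
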