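import Groth.Statements.S19035
import Mathlib

set_option autoImplicit false
universe u v w x
open CAlg

namespace Groth.Agent.S19035

section
variable {k : Type*} [Field k] {ι : Type*} [Preorder ι] [IsDirected ι (· ≤ ·)]
    (A : ι → Type*) [∀ i, CommRing (A i)] [∀ i, Algebra k (A i)]
    (f : ∀ i j, i ≤ j → (A i →ₐ[k] A j))
    (hf : ∀ i j l (hij : i ≤ j) (hjl : j ≤ l) (x : A i),
      f j l hjl (f i j hij x) = f i l (hij.trans hjl) x)
    (B : Type*) [CommRing B] [Algebra k B]
    (g : ∀ i, A i →ₐ[k] B)
    (hfg : ∀ i j (hij : i ≤ j) (x : A i), g j (f i j hij x) = g i x)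
    (hinj : ∀ i (x y : A i), g i x = g i y → ∃ j, ∃ hij : i ≤ j, f i j hij x = f i j hij y)

include hf hinj in
/-- A finitely generated ideal killed in the limit is killed at a stage. -/
theorem exists_ker_le {R : Type*} [CommRing R] (i : ι) (φ : R →+* A i) (I : Ideal R) (hI : I.FG)
    (h : ∀ x ∈ I, g i (φ x) = 0) : ∃ j, ∃ hij : i ≤ j, ∀ x ∈ I, f i j hij (φ x) = 0 := by
  classical
  obtain ⟨s, rfl⟩ := hI
  suffices ∃ j, ∃ hij : i ≤ j, ∀ x ∈ s, f i j hij (φ x) = 0 by
    obtain ⟨j, hij, hj⟩ := this
    exact ⟨j, hij, fun x hx => (Ideal.span_le (I := RingHom.ker ((f i j hij).toRingHom.comp φ))).mpr hj hx⟩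
  have h' : ∀ x ∈ s, g i (φ x) = 0 := fun x hx => h x (Ideal.subset_span hx)
  clear h
  induction s using Finset.induction_on with
  | empty => exact ⟨i, le_rfl, by simp⟩
  | @insert a s _ ih =>
    obtain ⟨j, hij, hj⟩ := ih fun x hx => h' x (Finset.mem_insert_of_mem hx)
    obtain ⟨l, hil, hl⟩ := hinj i (φ a) 0 (by rw [h' a (Finset.mem_insert_self _ _), map_zero])
    obtain ⟨m, hjm, hlm⟩ := directed_of (· ≤ ·) j l
    refine ⟨m, hij.trans hjm, fun x hx => ?_⟩
    rcases Finset.mem_insert.mp hx with rfl | hx
    · rw [← hf i l m hil hlm, hl, map_zero, map_zero]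
    · rw [← hf i j m hij hjm, hj x hx, map_zero]

variable [∀ i, Algebra.FiniteType k (A i)]

include hf hfg hinj in
theorem exists_killing (i : ι) :
    ∃ j, ∃ hij : i ≤ j, ∀ x y : A i, g i x = g i y → f i j hij x = f i j hij y := by
  haveI : IsNoetherianRing (A i) := Algebra.FiniteType.isNoetherianRing k (A i)
  obtain ⟨j, hij, hj⟩ := exists_ker_le A f hf B g hinj i (RingHom.id _) (RingHom.ker (g i))
    (IsNoetherian.noetherian _) fun x hx => hx
  exact ⟨j, hij, fun x y h => sub_eq_zero.mp
    ((map_sub (f i j hij) x y).symm.trans (hj (x - y) (by simp [RingHom.mem_ker, h])))⟩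

variable (k) in
include hf hfg hinj in
theorem exists_section [Nonempty ι] [Algebra.FiniteType k B] (hsurj : ∀ b : B, ∃ i, ∃ x : A i, g i x = b) :
    ∃ j, ∃ σ : B →ₐ[k] A j, (g j).comp σ = AlgHom.id k B := by
  classical
  obtain ⟨n, π, hπ⟩ := Algebra.FiniteType.iff_quotient_mvPolynomial''.mp
    (inferInstance : Algebra.FiniteType k B)
  choose i x hx using fun l : Fin n => hsurj (π (MvPolynomial.X l))
  obtain ⟨i₀, hi₀⟩ := Finite.exists_le i
  let φ : MvPolynomial (Fin n) k →ₐ[k] A i₀ := MvPolynomial.aeval fun l => f (i l) i₀ (hi₀ l) (x l)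
  have hφ : (g i₀).comp φ = π := MvPolynomial.algHom_ext fun l => by simp [φ, hfg, hx]
  obtain ⟨j, hij, hj⟩ := exists_ker_le A f hf B g hinj i₀ φ.toRingHom (RingHom.ker π)
    (IsNoetherian.noetherian _) fun y hy => (AlgHom.congr_fun hφ y).trans hy
  let e := (Ideal.quotientKerAlgEquivOfSurjective hπ).symm
  let L : (MvPolynomial (Fin n) k ⧸ RingHom.ker π) →ₐ[k] A j :=
    Ideal.Quotient.liftₐ _ ((f i₀ j hij).comp φ) hj
  refine ⟨j, L.comp e.toAlgHom, AlgHom.ext fun b => ?_⟩
  obtain ⟨y, rfl⟩ := hπ b
  have he : e (π y) = Ideal.Quotient.mk _ y :=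
    (AlgEquiv.symm_apply_eq _).mpr rfl
  show g j (L (e (π y))) = π y
  rw [he]
  show g j (f i₀ j hij (φ y)) = π y
  rw [hfg]
  exact AlgHom.congr_fun hφ y

end


/-- Let p be a prime and k a perfect field of characteristic p. Let (A_i) be a directed system of
finitely generated commutative k-algebras, indexed by a nonempty directed preorder, with compatible
k-algebra transition maps, and let B be a finitely generated k-algebra with compatible k-algebra
maps A_i → B which present B as the direct limit of the system (every element of B is the image of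
an element of some A_i, and two elements of some A_i with the same image in B have the same image in
some A_j). Then the p-typical Witt vectors commute with this direct limit: every Witt vector over B
is the image of a Witt vector over some A_i, and two Witt vectors over some A_i with the same image
over B already have the same image over some A_j. (Both finiteness hypotheses matter: for an
arbitrary filtered direct limit of commutative rings either assertion can fail.) -/
theorem result
    (p : ℕ) [Fact p.Prime] (k : Type u) [Field k] [CharP k p] [PerfectRing k p]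
    {ι : Type v} [Preorder ι] [IsDirected ι (· ≤ ·)] [Nonempty ι]
    (A : ι → Type w) [∀ i, CommRing (A i)] [∀ i, Algebra k (A i)]
    [∀ i, Algebra.FiniteType k (A i)]
    (f : ∀ i j, i ≤ j → (A i →ₐ[k] A j))
    (hf : ∀ i j l (hij : i ≤ j) (hjl : j ≤ l) (x : A i),
      f j l hjl (f i j hij x) = f i l (hij.trans hjl) x)
    (B : Type x) [CommRing B] [Algebra k B] [Algebra.FiniteType k B]
    (g : ∀ i, A i →ₐ[k] B)
    (hfg : ∀ i j (hij : i ≤ j) (x : A i), g j (f i j hij x) = g i x)
    (hsurj : ∀ b : B, ∃ i, ∃ x : A i, g i x = b)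
    (hinj : ∀ i (x y : A i), g i x = g i y → ∃ j, ∃ hij : i ≤ j, f i j hij x = f i j hij y) :
    (∀ w : WittVector p B, ∃ i, ∃ v : WittVector p (A i),
        WittVector.map (g i).toRingHom v = w) ∧
    (∀ i (v v' : WittVector p (A i)),
        WittVector.map (g i).toRingHom v = WittVector.map (g i).toRingHom v' →
        ∃ j, ∃ hij : i ≤ j,
          WittVector.map (f i j hij).toRingHom v = WittVector.map (f i j hij).toRingHom v') := by
  classical
  refine ⟨fun w => ?_, fun i v v' hvv => ?_⟩
  · obtain ⟨j, σ, hσ⟩ := exists_section k A f hf B g hfg hinj hsurj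
    refine ⟨j, WittVector.map σ.toRingHom w, WittVector.ext fun n => ?_⟩
    rw [WittVector.map_coeff, WittVector.map_coeff]
    exact AlgHom.congr_fun hσ (w.coeff n)
  · obtain ⟨j, hij, hj⟩ := exists_killing A f hf B g hfg hinj i
    refine ⟨j, hij, WittVector.ext fun n => ?_⟩
    rw [WittVector.map_coeff, WittVector.map_coeff]
    refine hj _ _ ?_
    have := congrArg (fun z => WittVector.coeff z n) hvv
    simpa [WittVector.map_coeff] using this

end Groth.Agent.S19035
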