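import Groth.Statements.S19039
import Groth.Agent.LineDense66.Basic

set_option autoImplicit false
universe u
open Instab

namespace Groth.Agent.S19039

section
open CategoryTheory MonoidalCategory CartesianMonoidalCategory MonObj GrpObj AlgebraicGeometry Groth.Agent.LineDense66

variable {R : Type u} [CommRing R]

noncomputable abbrev jj (R : Type u) [CommRing R] : ThetaS.Gm R ⟶ ThetaS.Line R := CoactBr.pt (ThetaS.linePt (ThetaS.zPow R 1))

theorem act_one_jj :
    lift (𝟙 (ThetaS.Gm R)) ((1 : ThetaS.Gm R ⟶ ThetaS.Gm R) ≫ jj R) ≫ (ThetaS.lineAction R).act = jj R := by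
  have h1 : ((1 : ThetaS.Gm R ⟶ ThetaS.Gm R) ≫ jj R) = CoactBr.pt (ThetaS.linePt (1 : ThetaS.Lau R)) := by
    refine (congrArg (· ≫ jj R) (CoactBr.one_eq_pt (R := R) (A := ThetaS.Lau R) (K := ThetaS.Lau R))).trans ?_
    rw [← CoactBr.pt_comp]
    congr 1
    apply Polynomial.algHom_ext
    simp [Algebra.ofId_apply]
    try rfl
  rw [h1]
  refine (congrArg (fun g => lift g _ ≫ (ThetaS.lineAction R).act)
    (CoactBr.pt_id (R := R) (B := ThetaS.Lau R)).symm).trans ?_
  exact (ThetaS.lineAction_pt (AlgHom.id R (ThetaS.Lau R)) 1).trans (by rw [AlgHom.id_apply, _root_.mul_one])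

theorem act_pt {W : Over (Spec (CommRingCat.of R))} (g : W ⟶ ThetaS.Gm R) :
    lift g ((1 : W ⟶ ThetaS.Gm R) ≫ jj R) ≫ (ThetaS.lineAction R).act = g ≫ jj R := by
  conv_rhs => rw [← act_one_jj, comp_lift_assoc, Category.comp_id, ← Category.assoc, MonObj.comp_one]

theorem lift_mul_act {G X W : Over (Spec (CommRingCat.of R))} [GrpObj G] (a : AlgGrp.Action G X)
    (g h : W ⟶ G) (x : W ⟶ X) : lift (g * h) x ≫ a.act = lift g (lift h x ≫ a.act) ≫ a.act := by
  rw [Hom.mul_def, ← lift_whiskerRight_assoc, a.mul_act, lift_lift_associator_hom_assoc, lift_whiskerLeft_assoc]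

theorem act_jj {W : Over (Spec (CommRingCat.of R))} (g h : W ⟶ ThetaS.Gm R) :
    lift g (h ≫ jj R) ≫ (ThetaS.lineAction R).act = (g * h) ≫ jj R := by
  rw [← act_pt (g * h)]
  refine Eq.trans ?_ (lift_mul_act (ThetaS.lineAction R) g h _).symm
  rw [act_pt]

end

open CategoryTheory MonoidalCategory CartesianMonoidalCategory MonObj GrpObj AlgebraicGeometry in
/-- The case n = 1 for a scheme X separated over an affine base Spec R, stated as the two facts that
identify equivariant families with maps whose orbit map extends. Let G_m act on X (a left action a :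
G_m × X → X over Spec R) and on A¹ × T through the scaling action on A¹, for an R-scheme T; write j
: G_m → A¹ for the inclusion t ↦ t. (a) If u, v : A¹ × T → X are G_m-equivariant R-morphisms with
the same restriction to the section {1} × T, then u = v. (b) If x : T → X is an R-morphism and u :
A¹ × T → X is an R-morphism whose restriction along j × T is the orbit family (g, t) ↦ g · x(t),
then u is G_m-equivariant. (The source works with an algebraic space X quasi-separated and locally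
of finite presentation over a base B with an action of G_mⁿ and deduces that X⁺ → X is a locally
finitely presented unramified monomorphism; only the elementary identification for n = 1 is stated
here, which uses separatedness alone.) -/
theorem result
    (R : Type u) [CommRing R] (X : Over (Spec (CommRingCat.of R))) [IsSeparated X.hom]
    (a : AlgGrp.Action (ThetaS.Gm R) X) (T : Over (Spec (CommRingCat.of R))) :
    (∀ u v : ThetaS.Line R ⊗ T ⟶ X,
        (α_ (ThetaS.Gm R) (ThetaS.Line R) T).inv ≫ ((ThetaS.lineAction R).act ▷ T) ≫ u = (ThetaS.Gm R ◁ u) ≫ a.act →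
        (α_ (ThetaS.Gm R) (ThetaS.Line R) T).inv ≫ ((ThetaS.lineAction R).act ▷ T) ≫ v = (ThetaS.Gm R ◁ v) ≫ a.act →
        lift ((1 : T ⟶ ThetaS.Gm R) ≫ (CoactBr.pt (ThetaS.linePt (ThetaS.zPow R 1)) : ThetaS.Gm R ⟶ ThetaS.Line R)) (𝟙 T) ≫ u =
          lift ((1 : T ⟶ ThetaS.Gm R) ≫ (CoactBr.pt (ThetaS.linePt (ThetaS.zPow R 1)) : ThetaS.Gm R ⟶ ThetaS.Line R)) (𝟙 T) ≫ v →
        u = v) ∧
    (∀ (x : T ⟶ X) (u : ThetaS.Line R ⊗ T ⟶ X),
        ((CoactBr.pt (ThetaS.linePt (ThetaS.zPow R 1)) : ThetaS.Gm R ⟶ ThetaS.Line R) ▷ T) ≫ u = (ThetaS.Gm R ◁ x) ≫ a.act →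
        (α_ (ThetaS.Gm R) (ThetaS.Line R) T).inv ≫ ((ThetaS.lineAction R).act ▷ T) ≫ u =
          (ThetaS.Gm R ◁ u) ≫ a.act) := by
  refine ⟨fun u v hu hv h1 => ?_, fun x u hux => ?_⟩
  · have key : ∀ (w : ThetaS.Line R ⊗ T ⟶ X),
        (α_ (ThetaS.Gm R) (ThetaS.Line R) T).inv ≫ ((ThetaS.lineAction R).act ▷ T) ≫ w =
          (ThetaS.Gm R ◁ w) ≫ a.act →
        ((jj R) ▷ T) ≫ w = lift (fst _ _) (snd _ _ ≫
          lift ((1 : T ⟶ ThetaS.Gm R) ≫ jj R) (𝟙 T) ≫ w) ≫ a.act := by
      intro w hw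
      have := congrArg (fun q => lift (fst (ThetaS.Gm R) T)
        (lift ((1 : ThetaS.Gm R ⊗ T ⟶ ThetaS.Gm R) ≫ jj R) (snd _ _)) ≫ q) hw
      simp only [lift_lift_associator_inv_assoc, lift_whiskerRight_assoc, lift_whiskerLeft_assoc] at this
      rw [act_pt] at this
      rw [← whiskerRight_fst (jj R) T, ← whiskerRight_snd (jj R) T, ← comp_lift, lift_fst_snd, Category.comp_id] at this
      rw [this]
      congr 2
      rw [comp_lift_assoc, ← Category.assoc (snd _ _) _ (jj R), MonObj.comp_one, Category.comp_id, whiskerRight_snd]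
    refine LineDense66.line_hom_ext T u v ?_
    show (jj R ▷ T) ≫ u = (jj R ▷ T) ≫ v
    rw [key u hu, key v hv, h1]
  · let e : ThetaS.Line R ⊗ (ThetaS.Gm R ⊗ T) ⟶ ThetaS.Gm R ⊗ (ThetaS.Line R ⊗ T) :=
      lift (snd _ _ ≫ fst _ _) (lift (fst _ _) (snd _ _ ≫ snd _ _))
    have : IsIso e := ⟨lift (snd _ _ ≫ fst _ _) (lift (fst _ _) (snd _ _ ≫ snd _ _)), by
      constructor <;> apply CartesianMonoidalCategory.hom_ext <;>
        simp [e] <;> apply CartesianMonoidalCategory.hom_ext <;> simp⟩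
    apply (cancel_epi e).1
    refine LineDense66.line_hom_ext _ _ _ ?_
    show (jj R ▷ _) ≫ _ = (jj R ▷ _) ≫ _
    let h : ThetaS.Gm R ⊗ (ThetaS.Gm R ⊗ T) ⟶ ThetaS.Gm R := fst _ _
    let g : ThetaS.Gm R ⊗ (ThetaS.Gm R ⊗ T) ⟶ ThetaS.Gm R := snd _ _ ≫ fst _ _
    let t : ThetaS.Gm R ⊗ (ThetaS.Gm R ⊗ T) ⟶ T := snd _ _ ≫ snd _ _
    have he : (jj R ▷ _) ≫ e = lift g (lift (h ≫ jj R) t) := by
      simp [e, g, h, t]
    rw [reassoc_of% he, reassoc_of% he, lift_lift_associator_inv_assoc, lift_whiskerRight_assoc,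
      lift_whiskerLeft_assoc, act_jj]
    have hu' : ∀ (p : ThetaS.Gm R ⊗ (ThetaS.Gm R ⊗ T) ⟶ ThetaS.Gm R),
        lift (p ≫ jj R) t ≫ u = lift p (t ≫ x) ≫ a.act := fun p => by
      have := congrArg (fun q => lift p t ≫ q) hux
      simpa only [lift_whiskerRight_assoc, lift_whiskerLeft_assoc] using this
    rw [hu', hu']
    exact lift_mul_act a g h _

end Groth.Agent.S19039
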