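import Groth.Statements.S19041
import Groth.Agent.H84Dieu.GcBasis

set_option autoImplicit false
universe u
open Dieu

namespace Groth.Agent.S19041

open W4c6eohyperellchar2 Groth.Agent.H84Dieu in
theorem iterF {c : ℕ} {k : Type u} [Field k] [CharP k 2] [PerfectRing k 2] (l : ℕ) :
    ∀ e : ℕ, 1 ≤ l → 2 ^ e * l ≤ c → (F c k)^[e] (X c k (2 ^ e * l)) = X c k l
  | 0, _, _ => by simp
  | e + 1, h, h' => by
    have he : 2 ^ (e + 1) * l = 2 * (2 ^ e * l) := by ring
    have h1 : 1 ≤ 2 ^ e * l := Nat.mul_pos (by positivity) h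
    rw [Function.iterate_succ_apply, he, F_X_even c k _ h1 (by omega)]
    exact iterF l e h (by omega)

open W4c6eohyperellchar2 Groth.Agent.H84Dieu in
theorem iterV {c : ℕ} {k : Type u} [Field k] [CharP k 2] [PerfectRing k 2] (t : ℕ) :
    ∀ n : ℕ, 1 ≤ t → 2 ^ n * t ≤ c → (V c k)^[n] (Y c k t) = Y c k (2 ^ n * t)
  | 0, _, _ => by simp
  | n + 1, h, h' => by
    have he : 2 ^ (n + 1) * t = 2 * (2 ^ n * t) := by ring
    have h1 : 1 ≤ 2 ^ n * t := Nat.mul_pos (by positivity) h
    rw [Function.iterate_succ_apply', iterV t n h (by omega), V_Y c k _ h1 (by omega), he]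

/-- Let `k` be a perfect field of characteristic `2` and `c` a natural number, and consider the explicit
`2c`-dimensional `k`-space on `X_1, …, X_c, Y_1, …, Y_c` with its operators `F` and `V` (`F Y_j =
0`; `F X_j = X_{j/2}` for `j` even and `Y_{c-(j-1)/2}` for `j` odd; `V Y_j = Y_{2j}` when `2j ≤ c`,
else `0`; `V X_j = Y_{2c-2j+1}` when `2j > c`, else `0`). For `j = 2^e l` with `l` odd and `c < 2j ≤
2c`, and for `j'` with `c < 2j' ≤ 2c` and `n` with `2^n (2c - 2j' + 1) = c - (l-1)/2`, one has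
`F^{e+1} X_j + V^{n+1} X_{j'} = 0`. (Stated over any perfect field of characteristic `2`; the source
works over an algebraically closed one.) -/
theorem result (c : ℕ) (k : Type u) [Field k] [CharP k 2] [PerfectRing k 2]
    (j e l : ℕ) (hj : j = 2 ^ e * l) (hl : Odd l) (hjc : j ≤ c) (hcj : c < 2 * j)
    (j' n : ℕ) (hj'c : j' ≤ c) (hcj' : c < 2 * j') (hn : 2 ^ n * (2 * c - 2 * j' + 1) = c - (l - 1) / 2) :
    (W4c6eohyperellchar2.F c k)^[e + 1] (W4c6eohyperellchar2.X c k j) + (W4c6eohyperellchar2.V c k)^[n + 1] (W4c6eohyperellchar2.X c k j') = 0 := by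
  obtain ⟨i, rfl⟩ := hl
  subst hj
  have h1 : 2 * i + 1 ≤ c := le_trans (Nat.le_mul_of_pos_left _ (by positivity)) hjc
  have h2 : (2 * i + 1 - 1) / 2 = i := by omega
  rw [h2] at hn
  rw [Function.iterate_succ_apply', iterF (2 * i + 1) e (by omega) hjc,
    H84Dieu.F_X_odd c k i h1, Function.iterate_succ_apply, H84Dieu.V_X c k j' hj'c hcj',
    iterV _ n (by omega) (by omega), hn]
  have h0 : ∀ a : k, a + a = 0 := CharTwo.add_self_eq_zero
  ext m <;> simp [h0]

end Groth.Agent.S19041
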