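import Groth.Statements.S19042
import Groth.Agent.H84Dieu.GcBasis

set_option autoImplicit false
universe u
open Dieu

namespace Groth.Agent.S19042

/-- Let `k` be a perfect field of characteristic `2` and `c` a natural number, and consider the explicit
`2c`-dimensional `k`-space on `X_1, …, X_c, Y_1, …, Y_c` with its operators `F` and `V` (`F Y_j =
0`; `F X_j = X_{j/2}` for `j` even and `Y_{c-(j-1)/2}` for `j` odd; `V Y_j = Y_{2j}` when `2j ≤ c`,
else `0`; `V X_j = Y_{2c-2j+1}` when `2j > c`, else `0`). The vectors `X_j` with `c < 2j ≤ 2c`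
generate it as a module over `k[F, V]`: a `k`-subspace stable under `F` and `V` containing them is
everything. (Stated over any perfect field of characteristic `2`; the source works over an
algebraically closed one.) -/
theorem result (c : ℕ) (k : Type u) [Field k] [CharP k 2] [PerfectRing k 2]
    (N : Submodule k (W4c6eohyperellchar2.GcMod c k))
    (hF : ∀ v ∈ N, W4c6eohyperellchar2.F c k v ∈ N) (hV : ∀ v ∈ N, W4c6eohyperellchar2.V c k v ∈ N)
    (hX : ∀ j : ℕ, c < 2 * j → j ≤ c → W4c6eohyperellchar2.X c k j ∈ N) : N = ⊤ := by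
  open W4c6eohyperellchar2 in
  have hX' : ∀ d i, 1 ≤ i → i ≤ c → c - i ≤ d → X c k i ∈ N := by
    intro d
    induction d with
    | zero => intro i h1 h2 h3; exact hX i (by omega) h2
    | succ d ih =>
      intro i h1 h2 h3
      by_cases h : c < 2 * i
      · exact hX i h h2
      · rw [← H84Dieu.F_X_even c k i h1 (by omega)]
        exact hF _ (ih (2 * i) (by omega) (by omega) (by omega))
  have hY' := H84Dieu.Y_mem_of_V c k N (fun t _ _ h => hV _ h) (fun j h h' => hV _ (hX j h h'))
  exact eq_top_iff.2 fun v _ => H84Dieu.span_X_Y c k v N (fun i h1 h2 => hX' c i h1 h2 (by omega)) hY' 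

end Groth.Agent.S19042
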