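import Groth.Statements.S19043
import Groth.Agent.H84Dieu.GcBasis

set_option autoImplicit false
universe u
open Dieu

namespace Groth.Agent.S19043

/-- Let `k` be a perfect field of characteristic `2` and `c` a natural number, and let `M` be the
explicit `2c`-dimensional `k`-space on `X_1, …, X_c, Y_1, …, Y_c` with its operators `F` and `V` (`F
Y_j = 0`; `F X_j = X_{j/2}` for `j` even and `Y_{c-(j-1)/2}` for `j` odd; `V Y_j = Y_{2j}` when `2j
≤ c`, else `0`; `V X_j = Y_{2c-2j+1}` when `2j > c`, else `0`). The classes of the `X_j` with `c <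
2j ≤ 2c` in the quotient of `M` by the `k`-span of `F(M) ∪ V(M)` are linearly independent and span
that quotient. (Stated over any perfect field of characteristic `2`; the source works over an
algebraically closed one.) -/
theorem result (c : ℕ) (k : Type u) [Field k] [CharP k 2] [PerfectRing k 2] :
    LinearIndependent k (fun j : {j : ℕ // c < 2 * j ∧ j ≤ c} =>
        Submodule.mkQ (Submodule.span k (Set.range (W4c6eohyperellchar2.F c k) ∪ Set.range (W4c6eohyperellchar2.V c k))) (W4c6eohyperellchar2.X c k j.1)) ∧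
      Submodule.span k (Set.range (fun j : {j : ℕ // c < 2 * j ∧ j ≤ c} =>
        Submodule.mkQ (Submodule.span k (Set.range (W4c6eohyperellchar2.F c k) ∪ Set.range (W4c6eohyperellchar2.V c k))) (W4c6eohyperellchar2.X c k j.1))) = ⊤ := by
  open W4c6eohyperellchar2 in
  set S := Submodule.span k (Set.range (F c k) ∪ Set.range (V c k)) with hS
  have hFS : ∀ v, W4c6eohyperellchar2.F c k v ∈ S := fun v => Submodule.subset_span (Or.inl ⟨v, rfl⟩)
  have hVS : ∀ v, W4c6eohyperellchar2.V c k v ∈ S := fun v => Submodule.subset_span (Or.inr ⟨v, rfl⟩)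
  have hY : ∀ m, 1 ≤ m → m ≤ c → W4c6eohyperellchar2.Y c k m ∈ S :=
    H84Dieu.Y_mem_of_V c k S (fun t _ _ _ => hVS _) (fun j _ _ => hVS _)
  have hsmall : ∀ i, 1 ≤ i → 2 * i ≤ c → W4c6eohyperellchar2.X c k i ∈ S := fun i h1 h2 => by
    rw [← H84Dieu.F_X_even c k i h1 h2]; exact hFS _
  have hzero : ∀ v ∈ S, ∀ m : Fin c, c < 2 * (m.val + 1) → v.1 m = 0 := by
    intro v hv
    induction hv using Submodule.span_induction with
    | mem x hx =>
      intro m hm
      rcases hx with ⟨w, rfl⟩ | ⟨w, rfl⟩
      · show W4c6eohyperellchar2.coefX w (2 * (m.val + 1)) ^ 2 = 0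
        rw [W4c6eohyperellchar2.coefX, dif_neg (by omega)]
        ring
      · rfl
    | zero => intro m _; rfl
    | add x y _ _ hx hy => intro m hm; simp [hx m hm, hy m hm]
    | smul a x _ hx => intro m hm; simp [hx m hm]
  constructor
  · rw [linearIndependent_iff']
    intro s g hg i hi
    have hmem : ∑ j ∈ s, g j • W4c6eohyperellchar2.X c k j.1 ∈ S := by
      rw [← Submodule.ker_mkQ S, LinearMap.mem_ker, map_sum]
      simpa only [map_smul] using hg
    have := hzero _ hmem ⟨i.1 - 1, by have := i.2; omega⟩ (by have := i.2; simp only; omega)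
    rw [Prod.fst_sum, Finset.sum_apply, Finset.sum_eq_single i] at this
    · have hi' := i.2
      simpa [W4c6eohyperellchar2.X, show i.1 - 1 + 1 = i.1 by omega] using this
    · intro b _ hb
      have hb' := b.2
      have hi' := i.2
      have hne : i.1 - 1 + 1 ≠ b.1 := fun h => hb (Subtype.ext (by omega))
      simp [W4c6eohyperellchar2.X, hne]
    · exact fun h => absurd hi h
  · refine eq_top_iff.2 fun q _ => ?_
    obtain ⟨v, rfl⟩ := Submodule.mkQ_surjective S q
    refine H84Dieu.span_X_Y c k v ((Submodule.span k _).comap S.mkQ) (fun i h1 h2 => ?_) (fun i h1 h2 => ?_)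
    · rw [Submodule.mem_comap]
      by_cases h : c < 2 * i
      · exact Submodule.subset_span ⟨⟨i, h, h2⟩, rfl⟩
      · rw [show S.mkQ (W4c6eohyperellchar2.X c k i) = 0 from (Submodule.Quotient.mk_eq_zero S).2 (hsmall i h1 (by omega))]
        exact zero_mem _
    · rw [Submodule.mem_comap, show S.mkQ (W4c6eohyperellchar2.Y c k i) = 0 from (Submodule.Quotient.mk_eq_zero S).2 (hY i h1 h2)]
      exact zero_mem _

end Groth.Agent.S19043
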