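import Groth.Statements.S19052
import Groth.Agent.NonPureLib.FinPart
import Groth.Agent.NonPureLib.RankOne
import Groth.Agent.ArSurfBase.PullIdeal


set_option autoImplicit false
set_option linter.style.haveILetI false
set_option backward.isDefEq.respectTransparency false
set_option backward.isDefEq.respectTransparency.types false
open CategoryTheory CategoryTheory.Limits AlgebraicGeometry
universe u
open NonPure

namespace Groth.Agent.S19052

/-- Let K be a field and X an integral K-scheme, smooth, proper and geometrically irreducible over K, of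
dimension at least 2, with an invertible ample O_X-module L (the polarisation for Hilbert
polynomials) and an integer ℓ ≥ 1. Let A_j (j ∈ J) be sets of closed subschemes of X (quasi-coherent
ideal sheaves), each member integral and different from X. Assume that each A_j contains every
closed subscheme whose ideal sheaf is isomorphic, as an O_X-module, to the ideal sheaf of a member
of A_j, and condition (†)(2) over K: for W ∈ A_j, Y ∈ A_{j'} and every coherent torsion-free
O_Y-module G of generic rank one whose Hilbert polynomial is P_{O_Y} − ℓ, every morphism I_W → i_*G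
vanishes (I_W the ideal sheaf of W as an O_X-module, i : Y → X the inclusion). Let Z ⊆ X be a closed
subscheme finite locally free of degree ℓ over K, so that F = I_Z is a sheaf of ideal type. Then for
every W ∈ A_j the K-vector space Hom(I_W, I_Z) is finite-dimensional of dimension at most one. (In
the published statement X is the base change to K of a fixed smooth projective geometrically
connected variety and the A_j are the K-points of the connected components α_j of a fixed open and
closed α ⊆ Hilb(X) whose points are geometrically integral and geometrically normal or divisors,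
with (†) asked over every field extension; the row keeps exactly what the printed argument uses over
K, and makes explicit that members of α are proper closed subschemes.) -/
theorem result
    (K : Type u) [Field K] (X : Scheme.{u}) [X.Over (Spec (CommRingCat.of K))]
    [IsIntegral X] [Smooth (X ↘ Spec (CommRingCat.of K))] [IsProper (X ↘ Spec (CommRingCat.of K))]
    [GeometricallyIrreducible (X ↘ Spec (CommRingCat.of K))]
    (hdim : 2 ≤ topologicalKrullDim X)
    (L : X.Modules) (hLi : PicF.IsInvertible L) (hLa : CohB1.IsAmple L)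
    (ℓ : ℕ) (hℓ : 0 < ℓ)
    (J : Type u) (A : J → Set X.IdealSheafData)
    (hA : ∀ j, ∀ W ∈ A j, IsIntegral W.subscheme ∧ W ≠ ⊥)
    (hAiso : ∀ j, ∀ W ∈ A j, ∀ W'' : X.IdealSheafData,
      Nonempty (ClSub.idealMod W'' ≅ ClSub.idealMod W) → W'' ∈ A j)
    (dag2 : ∀ j j', ∀ W ∈ A j, ∀ Y ∈ A j', ∀ (hY : IsIntegral Y.subscheme) (G : Y.subscheme.Modules),
      Coh.IsCoh G → TorSh.IsTorsionFree G →
      (haveI := hY
       Module.finrank (Y.subscheme.presheaf.stalk (genericPoint Y.subscheme))
        (G.presheaf.stalk (genericPoint Y.subscheme)) = 1) →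
      (letI : Y.subscheme.Over (Spec (CommRingCat.of K)) := ⟨Y.subschemeι ≫ (X ↘ Spec (CommRingCat.of K))⟩
       ∃ P : Polynomial ℚ,
        ShStab.IsHilbPoly K Y.subscheme ((Scheme.Modules.pullback Y.subschemeι).obj L)
          (Coh.structureModule Y.subscheme) P ∧
        ShStab.IsHilbPoly K Y.subscheme ((Scheme.Modules.pullback Y.subschemeι).obj L) G
          (P - Polynomial.C (ℓ : ℚ))) →
      ∀ φ : ClSub.idealMod W ⟶ (Coh.push Y.subschemeι).obj G, φ = 0)
    (Z : X.IdealSheafData) (hZ : Mor2.IsFinLocFreeOfDeg ℓ (Z.subschemeι ≫ (X ↘ Spec (CommRingCat.of K))))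
    (j : J) (W : X.IdealSheafData) (hW : W ∈ A j) :
    Module.Finite K (ClSub.idealMod W ⟶ ClSub.idealMod Z) ∧
      Module.finrank K (ClSub.idealMod W ⟶ ClSub.idealMod Z) ≤ 1 := by
  haveI : IsLocallyNoetherian X := LocallyOfFiniteType.isLocallyNoetherian (X ↘ Spec (CommRingCat.of K))
  by_cases h0 : ∀ f : ClSub.idealMod W ⟶ ClSub.idealMod Z, f = 0
  · haveI : Subsingleton (ClSub.idealMod W ⟶ ClSub.idealMod Z) := ⟨fun a b => (h0 a).trans (h0 b).symm⟩
    refine ⟨Module.Finite.of_finite, ?_⟩
    rw [Module.finrank_zero_of_subsingleton]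
    exact zero_le_one
  push Not at h0
  obtain ⟨φ, hφ⟩ := h0
  haveI hιm : Mono (ClSub.idealModι Z) := inferInstanceAs (Mono (kernel.ι _))
  have hφ' : φ ≫ ClSub.idealModι Z ≠ 0 := fun h => hφ ((cancel_mono (ClSub.idealModι Z)).1 (h.trans zero_comp.symm))
  haveI := NonPureLib.mono_of_ne_zero _ hφ'
  obtain ⟨Y, e, he⟩ := NonPureLib.exists_idealMod_iso (SurfInt.isCoh_idealMod W) (φ ≫ ClSub.idealModι Z)
  have hY : Y ∈ A j := hAiso j W hW Y ⟨e.symm⟩
  obtain ⟨hYint, hYne⟩ := hA j Y hY
  haveI := hYint
  have hle : Y ≤ Z := fun U a ha => by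
    obtain ⟨k, rfl⟩ := OmegaLib.exists_of_mem Y U a ha
    have h := congr($(he).app U.1 (e.inv.app U.1 k))
    have h1 : e.hom.app U.1 (e.inv.app U.1 k) = k := congr($(e.inv_hom_id).app U.1 k)
    change (ClSub.idealModι Y).app U.1 (e.hom.app U.1 (e.inv.app U.1 k)) = _ at h
    rw [h1] at h
    rw [show OmegaSh.idealSect Y U.1 k = _ from h]
    exact OmegaLib.idealSect_mem Z U _
  -- every morphism into the ideal of `Z` lands in the ideal of `Y`
  have hkey : ∀ ψ : ClSub.idealMod W ⟶ ClSub.idealMod Z,
      ψ ≫ ArSurfBase.toPushIdeal Y.subschemeι Z = 0 := by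
    intro ψ
    rcases eq_or_ne (Z.comap Y.subschemeι) ⊥ with hbot | hne
    · refine QCoh.hom_ext_app fun U m => OmegaLib.idealSect_injective (Z.comap Y.subschemeι) _ ?_
      refine Eq.trans ?_ (map_zero _).symm
      refine AModX.eq_of_locally (M := Coh.structureModule Y.subscheme) _ _ fun p hp => ?_
      obtain ⟨V, hV, hpV, hVU⟩ := exists_isAffineOpen_mem_and_subset hp
      refine ⟨V, hVU, hpV, ?_⟩
      rw [map_zero]
      refine (OmegaLib.idealSect_map _ hVU _).symm.trans ?_
      have h := OmegaLib.idealSect_mem (Z.comap Y.subschemeι) ⟨V, hV⟩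
        (AModX.res _ hVU ((ψ ≫ ArSurfBase.toPushIdeal Y.subschemeι Z).app U m))
      have hb : (Z.comap Y.subschemeι).ideal ⟨V, hV⟩ = ⊥ :=
        (congrArg (fun B : Y.subscheme.IdealSheafData => B.ideal ⟨V, hV⟩) hbot).trans
          (congrFun Scheme.IdealSheafData.ideal_bot _)
      rw [hb] at h
      exact Ideal.mem_bot.1 h
    letI : Y.subscheme.Over (Spec (CommRingCat.of K)) := ⟨Y.subschemeι ≫ (X ↘ Spec (CommRingCat.of K))⟩
    haveI : IsProper (Y.subscheme ↘ Spec (CommRingCat.of K)) :=
      inferInstanceAs (IsProper (Y.subschemeι ≫ (X ↘ Spec (CommRingCat.of K))))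
    haveI : IsLocallyNoetherian Y.subscheme :=
      LocallyOfFiniteType.isLocallyNoetherian (Y.subscheme ↘ Spec (CommRingCat.of K))
    -- the subscheme of `Z` inside `Y` is `Z` itself
    haveI : IsSplitEpi (pullback.snd Y.subschemeι Z.subschemeι) :=
      IsSplitEpi.mk' ⟨pullback.lift (Scheme.IdealSheafData.inclusion hle) (𝟙 _)
        (by rw [Scheme.IdealSheafData.inclusion_subschemeι, Category.id_comp]), pullback.lift_snd _ _ _⟩
    haveI : IsIso (pullback.snd Y.subschemeι Z.subschemeι) := isIso_of_mono_of_isSplitEpi _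
    let g := (Z.comapIso Y.subschemeι).hom ≫ pullback.snd Y.subschemeι Z.subschemeι
    have hfac : (Z.comap Y.subschemeι).subschemeι ≫ Y.subschemeι ≫ (X ↘ Spec (CommRingCat.of K)) =
        g ≫ Z.subschemeι ≫ (X ↘ Spec (CommRingCat.of K)) := by
      rw [← Scheme.IdealSheafData.comapIso_hom_fst, Category.assoc, pullback.condition_assoc]
      simp [g]
    have hJ : Mor2.IsFinLocFreeOfDeg ℓ
        ((Z.comap Y.subschemeι).subschemeι ≫ (Y.subscheme ↘ Spec (CommRingCat.of K))) := by
      show Mor2.IsFinLocFreeOfDeg ℓ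
        ((Z.comap Y.subschemeι).subschemeι ≫ Y.subschemeι ≫ (X ↘ Spec (CommRingCat.of K)))
      rw [hfac]
      obtain ⟨⟨h1, h2, h3⟩, h4⟩ := hZ
      haveI := h1; haveI := h2; haveI := h3
      refine ⟨⟨inferInstance, inferInstance, inferInstance⟩, fun y => ?_⟩
      rw [Scheme.Hom.finrank_comp_left_of_isIso]
      exact h4 y
    exact dag2 j j W hW Y hY inferInstance (ClSub.idealMod (Z.comap Y.subschemeι)) (SurfInt.isCoh_idealMod _)
      (NonPureLib.isTorsionFree_idealMod _) (NonPureLib.finrank_stalk_idealMod hne)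
      (NonPureLib.exists_hilbPoly_idealMod (PicClLib.isInvertible_pullback Y.subschemeι hLi) _ hJ)
      (ψ ≫ ArSurfBase.toPushIdeal Y.subschemeι Z)
  have hspan : ∀ ψ : ClSub.idealMod W ⟶ ClSub.idealMod Z, ∃ c : K, c • φ = ψ := by
    intro ψ
    have hz : (ψ ≫ ClSub.idealModι Z) ≫ ClSub.toSubscheme Y = 0 := QCoh.hom_ext_app fun U m => by
      show Y.subschemeι.app U (OmegaSh.idealSect Z U (ψ.app U m)) = 0
      refine (ArSurfBase.idealSect_pullSectIdeal Y.subschemeι Z U (ψ.app U m)).symm.trans ?_
      refine (congrArg (OmegaSh.idealSect (Z.comap Y.subschemeι) (Y.subschemeι ⁻¹ᵁ U))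
        (congr($(hkey ψ).app U m))).trans ?_
      exact map_zero _
    let t : ClSub.idealMod W ⟶ ClSub.idealMod Y := kernel.lift _ _ hz
    obtain ⟨c, hc⟩ := NonPureLib.exists_smul_id (K := K) (hA j W hW).2 (t ≫ e.inv)
    refine ⟨c, (cancel_mono (ClSub.idealModι Z)).1 ?_⟩
    calc (c • φ) ≫ ClSub.idealModι Z = c • (φ ≫ ClSub.idealModι Z) := Linear.smul_comp _ _ _ _ _ _
      _ = (c • 𝟙 _) ≫ e.hom ≫ ClSub.idealModι Y := by rw [he, Linear.smul_comp, Category.id_comp]
      _ = t ≫ ClSub.idealModι Y := by rw [← hc]; simp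
      _ = ψ ≫ ClSub.idealModι Z := kernel.lift_ι _ _ _
  have htop : Submodule.span K ({φ} : Set (ClSub.idealMod W ⟶ ClSub.idealMod Z)) = ⊤ :=
    eq_top_iff.2 fun f _ => Submodule.mem_span_singleton.2 (hspan f)
  exact ⟨Module.Finite.of_fg_top (htop ▸ Submodule.fg_span_singleton φ),
    ((finrank_eq_one_iff_of_nonzero' φ hφ).2 hspan).le⟩

end Groth.Agent.S19052
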