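import Groth.Statements.S19055
import Groth.Agent.NonPureLib.CurveHom
import Groth.Agent.GrpSchLib.SmoothRegular


set_option autoImplicit false
set_option linter.style.haveILetI false
set_option backward.isDefEq.respectTransparency false
set_option backward.isDefEq.respectTransparency.types false
open CategoryTheory CategoryTheory.Limits AlgebraicGeometry
universe u
open NonPure Groth.Agent

namespace Groth.Agent.S19055

/-- Let K be an algebraically closed field and X a smooth projective surface over K — an integral
K-scheme, smooth, proper and projective over K, of dimension 2 — polarised by an invertible ample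
O_X-module L. Let C₁, C₂ ⊆ X be closed subschemes which are integral of dimension one, with
intersection number I = C₁ · C₂ (computed as χ(O_X) − χ(I_{C₁}) − χ(I_{C₂}) + χ(I_{C₁} ⊗ I_{C₂})),
and let ℓ be a natural number with I < ℓ. If G is a coherent torsion-free O_{C₂}-module of generic
rank one whose Hilbert polynomial with respect to L|_{C₂} is P_{O_{C₂}} − ℓ, then every morphism of
O_X-modules I_{C₁} → i_*G is zero, i : C₂ → X being the inclusion. (This is the verification, at the
start of the printed proof, that a family of integral curves with constant intersection number I(α)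
< ℓ satisfies part (2) of condition (†); the contraction statement of the result itself rests on the
existence of the good moduli space and is not restated.) -/
theorem result
    (K : Type u) [Field K] [IsAlgClosed K] (X : Scheme.{u}) [X.Over (Spec (CommRingCat.of K))]
    [IsIntegral X] [Smooth (X ↘ Spec (CommRingCat.of K))] [IsProper (X ↘ Spec (CommRingCat.of K))]
    (hproj : ∃ (n : ℕ) (ι : X ⟶ CohB1.ProjSpace n K), IsClosedImmersion ι ∧
      ι ≫ CohB1.ProjSpace.toSpec n K = X ↘ Spec (CommRingCat.of K))
    (hdim : topologicalKrullDim X = 2)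
    (L : X.Modules) (hLi : PicF.IsInvertible L) (hLa : CohB1.IsAmple L)
    (C₁ C₂ : X.IdealSheafData) [IsIntegral C₁.subscheme] [IsIntegral C₂.subscheme]
    (hC₁ : topologicalKrullDim ↥C₁.subscheme = 1) (hC₂ : topologicalKrullDim ↥C₂.subscheme = 1)
    (ℓ : ℕ)
    (hℓ : FGA.intNum K X 2 (fun i : Fin 2 => if i = 0 then ClSub.idealMod C₁ else ClSub.idealMod C₂)
      (Coh.structureModule X) < (ℓ : ℤ))
    (G : C₂.subscheme.Modules) (hGc : Coh.IsCoh G) (hGt : TorSh.IsTorsionFree G)
    (hGr : Module.finrank (C₂.subscheme.presheaf.stalk (genericPoint C₂.subscheme))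
        (G.presheaf.stalk (genericPoint C₂.subscheme)) = 1)
    (hGP : letI : C₂.subscheme.Over (Spec (CommRingCat.of K)) := ⟨C₂.subschemeι ≫ (X ↘ Spec (CommRingCat.of K))⟩
       ∃ P : Polynomial ℚ,
        ShStab.IsHilbPoly K C₂.subscheme ((Scheme.Modules.pullback C₂.subschemeι).obj L)
          (Coh.structureModule C₂.subscheme) P ∧
        ShStab.IsHilbPoly K C₂.subscheme ((Scheme.Modules.pullback C₂.subschemeι).obj L) G
          (P - Polynomial.C (ℓ : ℚ)))
    (φ : ClSub.idealMod C₁ ⟶ (Coh.push C₂.subschemeι).obj G) : φ = 0 := by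
  by_contra hne
  haveI := CurveCohLib.isNoetherian_of_proper (k := K) (X := X)
  letI : C₂.subscheme.Over (Spec (CommRingCat.of K)) := ⟨C₂.subschemeι ≫ (X ↘ Spec (CommRingCat.of K))⟩
  haveI : IsProper (C₂.subscheme ↘ Spec (CommRingCat.of K)) :=
    inferInstanceAs (IsProper (C₂.subschemeι ≫ (X ↘ Spec (CommRingCat.of K))))
  haveI : LocallyOfFiniteType (X ↘ Spec (CommRingCat.of K)) := inferInstance
  have hcart : ∀ C : X.IdealSheafData, ∀ [IsIntegral C.subscheme],
      topologicalKrullDim ↥C.subscheme = 1 → BlowUp.IsEffCartierIdeal C := by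
    intro C _ hC
    refine SurfInt.isEffCartier_curve K hdim
      (GrpSchLib.isRegularLocalRing_stalk_of_smooth (X ↘ Spec (CommRingCat.of K))) C ?_
    rw [← Scheme.IdealSheafData.range_subschemeι, ← hC]
    exact (IsHomeomorph.topologicalKrullDim_eq _
      C.subschemeι.isClosedEmbedding.isEmbedding.toHomeomorph.isHomeomorph).symm
  have hI₁ := SurfInt.isInvertible_idealMod (hcart C₁ hC₁)
  have hI₂ := SurfInt.isInvertible_idealMod (hcart C₂ hC₂)
  let adj := Scheme.Modules.pullbackPushforwardAdjunction C₂.subschemeι
  let f := (adj.homEquiv _ _).symm φ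
  have hf : f ≠ 0 := fun h => hne (by
    have h2 := congrArg (adj.homEquiv _ _) h
    rw [Equiv.apply_symm_apply, Adjunction.homEquiv_unit, Functor.map_zero, comp_zero] at h2
    exact h2)
  have hle := NonPureLib.euler_le_of_hom (K := K) hC₂.le (PicClLib.isInvertible_pullback C₂.subschemeι hI₁)
    hGc hGt hGr f hf
  have hfun : (fun i : Fin 2 => if i = 0 then ClSub.idealMod C₁ else ClSub.idealMod C₂) =
      ![ClSub.idealMod C₁, ClSub.idealMod C₂] := by
    funext i; fin_cases i <;> rfl
  rw [hfun, SurfInt.intNum_eq_pair K (SurfInt.dim_le_of_eq hdim) hI₁ hI₂, SurfInt.pair_comm,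
    SurfInt.pair_ideal_left K C₂ hI₁] at hℓ
  unfold SurfInt.curveDeg at hℓ
  rw [SurfInt.euler_quot_tensor K C₂.subschemeι rfl (AmpleVan.isCoh_invertible hI₁).1,
    SurfInt.euler_push K C₂.subschemeι rfl QCoh.isQCoh_structureModule] at hℓ
  obtain ⟨P, hP, hPG⟩ := hGP
  have e0 := hP 0
  have eG := hPG 0
  rw [SurfInt.euler_congr K (show ShStab.twist C₂.subscheme ((Scheme.Modules.pullback C₂.subschemeι).obj L) (Coh.structureModule C₂.subscheme) 0 ≅ Coh.structureModule C₂.subscheme
    from AmpleVan.twUnit.app (Coh.structureModule C₂.subscheme))] at e0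
  rw [SurfInt.euler_congr K (show ShStab.twist C₂.subscheme ((Scheme.Modules.pullback C₂.subschemeι).obj L) G 0 ≅ G from AmpleVan.twUnit.app G),
    Polynomial.eval_sub, Polynomial.eval_C] at eG
  have eq : Curv2.euler K C₂.subscheme G = Curv2.euler K C₂.subscheme (Coh.structureModule C₂.subscheme) - ℓ := by
    rw [← e0] at eG
    exact_mod_cast eG
  omega

end Groth.Agent.S19055
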