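import Groth.Statements.S19073
import Groth.Agent.NumSurf32.EulerNum

set_option autoImplicit false
universe u
open CategoryTheory CategoryTheory.Limits AlgebraicGeometry
open Surf

namespace Groth.Agent.S19073

/-- Let X be a surface over an algebraically closed field k (an integral scheme of dimension two all of
whose local rings are regular, with a closed immersion into some P^n_k over k), and let L₁, L₂ be
invertible O_X-modules which are numerically equivalent: (L₁·M) = (L₂·M) for every invertible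
O_X-module M, where (L·M) = χ(O_X) − χ(L) − χ(M) + χ(L ⊗ M) is the intersection number. Then χ(X,
L₁) = χ(X, L₂). -/
theorem result (k : Type u) [Field k] [IsAlgClosed k] (X : Scheme.{u}) [X.Over (Spec (CommRingCat.of k))]
    [AlgebraicGeometry.IsIntegral X] (hdim : topologicalKrullDim X = 2) (hreg : ∀ x : X, IsRegularLocalRing (X.presheaf.stalk x))
    (hproj : ∃ (n : ℕ) (ι : X ⟶ CohB1.ProjSpace n k), IsClosedImmersion ι ∧ ι ≫ CohB1.ProjSpace.toSpec n k = (X ↘ (Spec (CommRingCat.of k))))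
    (L₁ L₂ : X.Modules) (hL₁ : PicF.IsInvertible L₁) (hL₂ : PicF.IsInvertible L₂)
    (hnum : ∀ M : X.Modules, PicF.IsInvertible M →
      FGA.intNum k X 2 ![L₁, M] (Coh.structureModule X) = FGA.intNum k X 2 ![L₂, M] (Coh.structureModule X)) :
    Curv2.euler k X L₁ = Curv2.euler k X L₂ := by
  obtain ⟨n, ι, hι, hιk⟩ := hproj
  haveI := hι
  haveI := Groth.Agent.SurfInt.isProper_of_projective k hι hιk
  haveI := Groth.Agent.CurveCohLib.isNoetherian_of_proper (k := k) (X := X)
  have h2 := Groth.Agent.NumSurf32.dim_le_two (X := X) hdim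
  have hA := Groth.Agent.NumSurf32.isAmple_hyperplane k ι
  obtain ⟨L', hL', ⟨e⟩⟩ := Groth.Agent.H23.PicInv.exists_inverse hL₂
  have hN := Groth.Agent.InvX.isInvertible_tensorMod hL₁ hL'
  have hnum' : ∀ M : X.Modules, PicF.IsInvertible M →
      Groth.Agent.SurfInt.pair k (CohB1.tensorMod L₁ L') M = 0 := fun M hM => by
    have h := hnum M hM
    rw [Groth.Agent.SurfInt.intNum_eq_pair k h2 hL₁ hM, Groth.Agent.SurfInt.intNum_eq_pair k h2 hL₂ hM] at h
    rw [Groth.Agent.SurfInt.pair_tensor_left k h2 hL₁ hL' hM,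
      Groth.Agent.SurfInt.pair_inverse_left k h2 hL₂ hL' hM e, h, add_neg_cancel]
  have hχ := Groth.Agent.NumSurf32.euler_eq_of_numTrivial k hdim hA hN hnum'
  have eL : CohB1.tensorMod (CohB1.tensorMod L₁ L') L₂ ≅ L₁ :=
    Groth.Agent.SurfInt.tAssoc L₁ L' L₂ ≪≫
      Groth.Agent.SurfInt.tMapR L₁ (Groth.Agent.SurfInt.tComm L' L₂ ≪≫ e) ≪≫ Groth.Agent.SurfInt.tUnit L₁
  rw [← Groth.Agent.SurfInt.euler_congr k eL, Groth.Agent.SurfInt.euler_tensor_eq, hχ, hnum' L₂ hL₂]
  ring

end Groth.Agent.S19073
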