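import Groth.Statements.S19116
import Groth.Agent.RPSM.UnivObj
import Groth.Agent.AlgSpInd.Basic
import Groth.Agent.AlgSpLib.LocalBaseTop

set_option autoImplicit false
universe u
open CategoryTheory AlgebraicGeometry
open StMod

namespace Groth.Agent.S19116

/-- In the case of a morphism to an algebraic space, let `S` be a quasi-separated scheme, `𝒳` an
algebraic stack over `(Sch/S)` for the fppf topology, `M` an algebraic space over `S` that is
quasi-separated over `S`, and `π : 𝒳 ⟶ M` a morphism that is representable by algebraic spaces and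
affine. Then `π` is cohomologically affine and quasi-compact: pushforward along `π` takes
surjections of quasi-coherent modules to maps surjective on sections over every affine scheme etale
over `M`. (The printed item is for affine morphisms between arbitrary algebraic stacks; the target
is an algebraic space here. Standing conventions of the source: all algebraic spaces and morphisms
are quasi-separated.) -/
theorem result
    (S : Scheme.{u}) [QuasiSeparatedSpace S]
    (𝒳 : AlgSt.Cat S) (h𝒳 : AlgSt.IsAlgStack Scheme.fppfPrecoverage 𝒳)
    (M : AlgSp.Space S) (hM : AlgSp.IsQuasiSeparatedSp M.obj) (π : 𝒳 ⥤ᵇ AlgSt.ofSp M.obj)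
    (hπ : AlgSt.RepByAlgSpWith AlgSp.IsAffineMor π) :
    StMod.IsCohAffine π ∧ AlgSt.IsQuasiCompactMor Scheme.fppfPrecoverage π := by
  have hX : FibCat.IsFibGrpd (AlgSt.ofSp M.obj).p := (AlgStLib.isAlgStack_ofSp M).isStack.1
  exact ⟨RPSM.isCohAffine_of_affine hX hπ,
    AlgStLib.isQuasiCompactMor_of_affine h𝒳 (AlgStLib.isAlgStack_ofSp M).isStack
      (AlgStLib.isAlgStack_ofSp M).diag fun U u hU => by
        obtain ⟨F, e, he, ha⟩ := hπ U u
        obtain ⟨W, i, fst, sq, hW⟩ := ha hU (𝟙 _)
        haveI : IsIso fst := sq.isIso_fst_of_isIso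
        haveI := hW
        exact AlgStLib.isQuasiCompact_of_equiv he (AlgStLib.isQuasiCompact_ofSp F
          (AlgSpInd.isQuasiCompactSp_of_iso F.property (asIso fst) (AlgSpLib.isQuasiCompactSp_yon W)))⟩

end Groth.Agent.S19116
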