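import Groth.Statements.S19131
import Groth.Agent.PervQuot.Trunc

set_option autoImplicit false
set_option backward.isDefEq.respectTransparency false
set_option backward.defeqAttrib.useBackward true
universe v u v' u'
open CategoryTheory CategoryTheory.Limits CategoryTheory.Pretriangulated CategoryTheory.Triangulated
open PervT

namespace Groth.Agent.S19131

/-- Let C be a triangulated category (octahedron axiom included) carrying a bounded t-structure t (every
object is ≥ a and ≤ b for some integers a, b), and let D be a strictly full triangulated subcategory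
of C (a property of objects containing zero, stable under shifts, extensions and isomorphisms) such
that (1) for X in D and every integer n the n-th cohomology object of X for t, realised as τ^{≥ n}
τ^{≤ n} X, lies in D, and (2) the objects of D in the heart of t are closed under subobjects and
quotients in the heart: for every distinguished triangle X → Y → Z → X[1] whose three vertices lie
in the heart, if Y is in D then so are X and Z. Let q : C ⥤ E be a triangulated functor to a
pretriangulated category E which exhibits E as the localization of C at the class of morphisms whose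
cone lies in D (the Verdier quotient of C by D). Then E carries exactly one t-structure for which q
is t-exact (q sends objects ≤ n to objects ≤ n and objects ≥ n to objects ≥ n), and for this
t-structure an object of E is ≤ n, respectively ≥ n, if and only if it is isomorphic to q X for some
X ≤ n, respectively X ≥ n, in C. (The source also identifies the heart of this t-structure with the
quotient of the heart of t by its intersection with D; that identification is not asserted here.) -/
theorem result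
    {C : Type u} [Category.{v} C] [Preadditive C] [HasZeroObject C] [HasShift C ℤ]
    [∀ n : ℤ, (shiftFunctor C n).Additive] [Pretriangulated C] [IsTriangulated C]
    (t : TStructure C) (hb : ∀ X : C, t.bounded X)
    (D : ObjectProperty C) [D.IsTriangulated] [D.IsClosedUnderIsomorphisms]
    (h1 : ∀ X : C, D X → ∀ n : ℤ, D ((t.truncGELE n n).obj X))
    (h2 : ∀ (X Y Z : C) (f : X ⟶ Y) (g : Y ⟶ Z) (h : Z ⟶ X⟦(1 : ℤ)⟧),
      Triangle.mk f g h ∈ distTriang C → t.heart X → t.heart Y → t.heart Z → D Y → D X ∧ D Z)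
    {E : Type u'} [Category.{v'} E] [Preadditive E] [HasZeroObject E] [HasShift E ℤ]
    [∀ n : ℤ, (shiftFunctor E n).Additive] [Pretriangulated E]
    (q : C ⥤ E) [q.CommShift ℤ] [q.IsTriangulated] [q.IsLocalization D.trW] :
    ∃ t' : TStructure E,
      (∀ (X : C) (n : ℤ), t.IsLE X n → t'.IsLE (q.obj X) n) ∧
      (∀ (X : C) (n : ℤ), t.IsGE X n → t'.IsGE (q.obj X) n) ∧
      (∀ (Y : E) (n : ℤ), t'.IsLE Y n ↔ ∃ X : C, t.IsLE X n ∧ Nonempty (q.obj X ≅ Y)) ∧
      (∀ (Y : E) (n : ℤ), t'.IsGE Y n ↔ ∃ X : C, t.IsGE X n ∧ Nonempty (q.obj X ≅ Y)) ∧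
      ∀ t'' : TStructure E,
        (∀ (X : C) (n : ℤ), t.IsLE X n → t''.IsLE (q.obj X) n) →
        (∀ (X : C) (n : ℤ), t.IsGE X n → t''.IsGE (q.obj X) n) → t'' = t' := by
  haveI : q.EssSurj := Localization.essSurj q D.trW
  have hz : ∀ {X Y : C}, t.IsLE X 0 → t.IsGE Y 1 → ∀ φ : q.obj X ⟶ q.obj Y, φ = 0 :=
    fun _ _ φ => Groth.Agent.PervQuot.map_eq_zero hb h1 h2 q φ
  let t' : TStructure E :=
    { le := fun n => (t.le n).map q
      ge := fun n => (t.ge n).map q
      le_shift := fun n a n' h Y hY => by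
        obtain ⟨X, hX, ⟨e⟩⟩ := hY
        exact ⟨X⟦a⟧, t.le_shift n a n' h X hX, ⟨(q.commShiftIso a).app X ≪≫ (shiftFunctor E a).mapIso e⟩⟩
      ge_shift := fun n a n' h Y hY => by
        obtain ⟨X, hX, ⟨e⟩⟩ := hY
        exact ⟨X⟦a⟧, t.ge_shift n a n' h X hX, ⟨(q.commShiftIso a).app X ≪≫ (shiftFunctor E a).mapIso e⟩⟩
      zero' := fun Y Y' f hY hY' => by
        obtain ⟨X, hX, ⟨e⟩⟩ := hY
        obtain ⟨X', hX', ⟨e'⟩⟩ := hY'
        rw [← cancel_epi e.hom, ← cancel_mono e'.inv, comp_zero, zero_comp]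
        exact hz ⟨hX⟩ ⟨hX'⟩ _
      le_zero_le := fun Y hY => by
        obtain ⟨X, hX, he⟩ := hY
        exact ⟨X, t.le_zero_le X hX, he⟩
      ge_one_le := fun Y hY => by
        obtain ⟨X, hX, he⟩ := hY
        exact ⟨X, t.ge_one_le X hX, he⟩
      exists_triangle_zero_one := fun A => by
        obtain ⟨L, R, hL, hR, f, g, h, hT⟩ := t.exists_triangle_zero_one (q.objPreimage A)
        refine ⟨q.obj L, q.obj R, ⟨L, hL, ⟨Iso.refl _⟩⟩, ⟨R, hR, ⟨Iso.refl _⟩⟩,
          q.map f ≫ (q.objObjPreimageIso A).hom, (q.objObjPreimageIso A).inv ≫ q.map g,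
          q.map h ≫ (q.commShiftIso (1 : ℤ)).hom.app L, ?_⟩
        exact isomorphic_distinguished _ (q.map_distinguished _ hT) _
          (Triangle.isoMk _ _ (Iso.refl _) (q.objObjPreimageIso A).symm (Iso.refl _)
            (by dsimp; simp) (by dsimp; simp) (by dsimp; simp)) }
  refine ⟨t', fun X n h => ⟨⟨X, h.le, ⟨Iso.refl _⟩⟩⟩, fun X n h => ⟨⟨X, h.ge, ⟨Iso.refl _⟩⟩⟩,
    fun Y n => ⟨fun h => ?_, fun h => ?_⟩, fun Y n => ⟨fun h => ?_, fun h => ?_⟩, fun t'' hle hge => ?_⟩
  · obtain ⟨X, hX, he⟩ := h.le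
    exact ⟨X, ⟨hX⟩, he⟩
  · obtain ⟨X, hX, he⟩ := h
    exact ⟨⟨X, hX.le, he⟩⟩
  · obtain ⟨X, hX, he⟩ := h.ge
    exact ⟨X, ⟨hX⟩, he⟩
  · obtain ⟨X, hX, he⟩ := h
    exact ⟨⟨X, hX.ge, he⟩⟩
  · have l₁ : ∀ (Y : E) (n : ℤ), t'.le n Y → t''.IsLE Y n := fun Y n ⟨X, hX, ⟨e⟩⟩ =>
      haveI := hle X n ⟨hX⟩
      t''.isLE_of_iso e n
    have g₁ : ∀ (Y : E) (n : ℤ), t'.ge n Y → t''.IsGE Y n := fun Y n ⟨X, hX, ⟨e⟩⟩ =>
      haveI := hge X n ⟨hX⟩
      t''.isGE_of_iso e n
    have el : t''.le = t'.le := funext fun n => funext fun Y => propext ⟨fun h => by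
      have := (t'.isLE_iff_orthogonal n (n + 1) rfl Y).2 fun Z f hZ =>
        (t''.isLE_iff_orthogonal n (n + 1) rfl Y).1 ⟨h⟩ Z f (g₁ Z _ hZ.ge)
      exact this.le, fun h => (l₁ Y n h).le⟩
    have eg : t''.ge = t'.ge := funext fun n => funext fun Y => propext ⟨fun h => by
      have := (t'.isGE_iff_orthogonal (n - 1) n (by omega) Y).2 fun Z f hZ =>
        (t''.isGE_iff_orthogonal (n - 1) n (by omega) Y).1 ⟨h⟩ Z f (l₁ Z _ hZ.le)
      exact this.ge, fun h => (g₁ Y n h).ge⟩
    cases t''
    cases el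
    cases eg
    rfl

end Groth.Agent.S19131
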