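import Groth.Statements.S1914
import Groth.Agent.IntMult63.KosTor

set_option autoImplicit false
universe u
open CategoryTheory AlgebraicGeometry
open IntMult

namespace Groth.Agent.S1914

open Groth.Agent

/-- Let A be a Noetherian local ring, I = (g₁, …, g_c) an ideal generated by a regular sequence and M a
finite A-module with Supp(M/IM) of dimension ≤ 0. Then c! · length_A(M/I^t M)/t^c tends, as t → ∞,
to Σ_i (−1)^i length_A Tor_i^A(A/I, M); that is, e_I(M, c) equals this alternating sum. -/
theorem result (A : Type u) [CommRing A] [IsNoetherianRing A] [IsLocalRing A] (c : ℕ) (g : Fin c → A) (hreg : RingTheory.Sequence.IsRegular A (List.ofFn g)) (M : Type u) [AddCommGroup M] [Module A M] [Module.Finite A M] (h0 : Module.supportDim A (M ⧸ (Ideal.span (Set.range g) • (⊤ : Submodule A M))) ≤ 0) : Filter.Tendsto (fun t : ℕ => (c.factorial : ℝ) * ((Module.length A (M ⧸ (Ideal.span (Set.range g) ^ t • (⊤ : Submodule A M)))).toNat : ℝ) / (t : ℝ) ^ c) Filter.atTop (nhds (IntMult.chi A (A ⧸ Ideal.span (Set.range g)) M : ℝ)) := by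
  have hfl : IsFiniteLength A (M ⧸ (Ideal.span (Set.range g) • (⊤ : Submodule A M))) :=
    Module.length_ne_top_iff.1 (CycLib.length_lt_top_of_supportDim h0).ne
  have h := KEuler95.chi_tendsto (List.ofFn g) (ModuleCat.of A M) (by
    rw [KEuler95.range_ofFn]
    exact KEuler95.maxSupp_of_isFiniteLength _ M hfl)
  rw [List.length_ofFn, KEuler95.range_ofFn] at h
  rw [show IntMult.chi A (A ⧸ Ideal.span (Set.range g)) M = KEuler95.chi (List.ofFn g) (ModuleCat.of A M) by
    rw [← IntMult63.chi_eq_kos (List.ofFn g) hreg.toIsWeaklyRegular M, KEuler95.range_ofFn]]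
  exact h

end Groth.Agent.S1914
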