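import Groth.Statements.S19143
-- import your own Groth.Agent.* helpers here
import Groth.Agent.MultDefLib.RepSmooth

set_option autoImplicit false
open CategoryTheory MonoidalCategory CartesianMonoidalCategory MonObj GrpObj AlgebraicGeometry
universe u
open SGA3x

namespace Groth.Agent.S19143

open CategoryTheory.Limits MultDefLib GrpSchLib

/-- Let H be an S-group of multiplicative type which is quasi-isotrivial (etale-locally on S
diagonalisable, of arbitrary type) and G an S-group smooth and affine over S. Then the functor T ↦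
Hom_{T-gr}(H_T, G_T) is representable by an S-scheme A which is smooth and separated over S: there
is a family of homomorphisms H ⟶ G parametrised by A through which every family parametrised by an
S-scheme T factors through exactly one S-morphism T ⟶ A. -/
theorem result {S : Scheme.{u}} (H G : Over S) [GrpObj H] [GrpObj G]
    (hH : TwC.Locally S TwC.Topology.etale (fun S' g => ∃ (M : Type) (_ : AddCommGroup M), Nonempty (Grp.mk (Red.bc g H) ≅ Grp.mk (Red.DS S' M))))
    (hG : Smooth G.hom) (hGa : IsAffineHom G.hom) :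
    ∃ (A : Over S) (υ : H ⊗ A ⟶ G), AutFam.RepresentsHom H G A υ ∧ Smooth A.hom ∧ IsSeparated A.hom := by
  choose S' g hg hs M iM e using hH
  let κ := Σ s : S, (S' s).affineOpens
  refine exists_representsHom_of_splitting H G hG hGa (fun w : κ => Γ(S' w.1, w.2.1))
    (fun w => w.2.2.fromSpec ≫ g w.1) (Scheme.fppfPrecoverage_le_fpqcPrecoverage S ?_) fun w => ?_
  · refine (Scheme.ofArrows_mem_precoverage_iff _).2 ⟨fun y => ?_, fun w => ?_⟩
    · obtain ⟨z, hz⟩ := hs y
      obtain ⟨W, hW, hzW, -⟩ := exists_isAffineOpen_mem_and_subset (show z ∈ (⊤ : (S' y).Opens) from trivial)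
      obtain ⟨p, hp⟩ := hW.range_fromSpec.superset hzW
      exact ⟨⟨y, ⟨W, hW⟩⟩, p, (congrArg (g y).base hp).trans hz⟩
    · have := hg w.1
      exact ⟨inferInstanceAs (Flat (w.2.2.fromSpec ≫ g w.1)),
        inferInstanceAs (LocallyOfFinitePresentation (w.2.2.fromSpec ≫ g w.1))⟩
  let := iM w.1
  obtain ⟨e₀⟩ := e w.1
  obtain ⟨e₂⟩ := MultTypeBC.bc_bc w.2.2.fromSpec (g w.1) H
  obtain ⟨e₃⟩ := MultTypeBC.bc_iso w.2.2.fromSpec e₀
  obtain ⟨e₄⟩ := MultTypeBC.bc_DS w.2.2.fromSpec (M w.1)
  obtain ⟨e₅⟩ := AffineHopf.nonempty_DS_iso Γ(S' w.1, w.2.1) (M w.1)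
  exact ⟨Multiplicative (M w.1), inferInstance, ⟨(e₂.symm ≪≫ e₃ ≪≫ e₄ ≪≫ e₅.symm).symm⟩⟩

end Groth.Agent.S19143
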