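import Groth.Statements.S19147
import Groth.Agent.SgaFix20.DSFact
import Mathlib.LinearAlgebra.FreeModule.PID

set_option autoImplicit false
open CategoryTheory MonoidalCategory CartesianMonoidalCategory MonObj GrpObj AlgebraicGeometry
universe u
open SGA3x

namespace Groth.Agent.S19147

set_option backward.isDefEq.respectTransparency false
set_option linter.style.haveILetI false

/-- Let Γ be a torsion-free commutative group, G an S-group separated and of finite presentation over S,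
and f : D_S(Γ) ⟶ G a homomorphism. Then the image of f (the closed subgroup of G through which f
factors by a faithfully flat homomorphism) is a locally trivial subtorus of G: f = f' ≫ j with f'
flat and surjective, j the inclusion of a closed subgroup scheme Q, and Q Zariski-locally on S
isomorphic as a group to D(ℤ^r) for some r (depending on the open). -/
theorem result {S : Scheme.{u}} (Γ : Type) [AddCommGroup Γ] [IsAddTorsionFree Γ]
    (G : Over S) [GrpObj G] [IsSeparated G.hom] [QuasiCompact G.hom] [LocallyOfFinitePresentation G.hom]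
    (f : Red.DS S Γ ⟶ G) [IsMonHom f] :
    ∃ (Q : Over S) (_ : GrpObj Q) (j : Q ⟶ G) (_ : IsMonHom j) (f' : Red.DS S Γ ⟶ Q) (_ : IsMonHom f'),
      IsClosedImmersion j.left ∧ Flat f'.left ∧ Surjective f'.left ∧ f' ≫ j = f ∧
      TwC.Locally S TwC.Topology.zariski (fun S' g => ∃ r : ℕ, Red.IsSplitTorusWith (Fin r → ℤ) (Red.bc g Q)) := by
  haveI : QuasiCompact (Red.DS S Γ).hom := by
    haveI := SgaFix20.DSImmersion.isAffineHom_DS S Γ
    infer_instance
  obtain ⟨e⟩ := GrpSchLib.MultTypeBC.bc_DS (𝟙 S) Γ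
  have hV := fun s : S => SgaFix20.exists_fact f (𝟙 S) e s
  choose V hsV F Λ hΛ hQ using hV
  obtain ⟨Q, iQ, j, hj, f', hf', hclosed, hflat, hsurj, hfac, huniv⟩ :=
    SgaFix20.Image.exists_image f (𝟙 S) (fun W hW => ⟨W, hW.isCompact, by simp⟩) (fun s => ⟨V s, hsV s, ⟨F s⟩⟩)
  refine ⟨Q, iQ, j, hj, f', hf', hclosed, hflat, hsurj, hfac, fun s => ⟨V s, hsV s, ?_⟩⟩
  haveI : Module.Finite ℤ (Λ s) := Module.Finite.iff_addGroup_fg.mpr ((AddGroup.fg_iff_addSubgroup_fg _).mpr (hΛ s))
  obtain ⟨b⟩ : ∃ _ : Module.Basis (Fin (Module.finrank ℤ (Λ s))) ℤ (Λ s), True := ⟨Module.finBasis ℤ (Λ s), trivial⟩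
  obtain ⟨e1⟩ := huniv _ ((V s).ι ≫ 𝟙 S) inferInstance (F s)
  obtain ⟨e2⟩ := hQ s
  obtain ⟨e3⟩ := SgaFix20.nonempty_DS_iso (V s : Scheme.{u}) b.equivFun.toAddEquiv
  obtain ⟨e4⟩ := GrpSchLib.MultTypeBC.bc_congr (Category.comp_id (V s).ι) Q
  exact ⟨_, ⟨e4.symm ≪≫ e1 ≪≫ e2 ≪≫ e3⟩⟩

end Groth.Agent.S19147
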