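import Groth.Statements.S19149
import Groth.Agent.FSLocLib.Crit

set_option autoImplicit false
set_option backward.isDefEq.respectTransparency false
set_option backward.isDefEq.respectTransparency.types false
universe u
open GrpSch

namespace Groth.Agent.S19149

open scoped TensorProduct
open Polynomial in
/-- An endomorphism of a finite module congruent to the identity modulo `I` has a left inverse up to
an element congruent to `±1` modulo `I`. -/
theorem exists_left_inverse_of_congr {C M : Type*} [CommRing C] [AddCommGroup M] [Module C M]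
    [Module.Finite C M] (I : Ideal C) (φ : Module.End C M) (h : ∀ m, φ m - m ∈ I • (⊤ : Submodule C M)) :
    ∃ (f : C) (χ : Module.End C M), (∀ P : Ideal C, P.IsPrime → I ≤ P → f ∉ P) ∧
      ∀ m, χ (φ m) = f • m := by
  obtain ⟨p, hmon, -, hcoef, hp⟩ :=
    LinearMap.exists_monic_and_natDegree_eq_and_coeff_mem_pow_and_aeval_eq_zero C (φ - 1) I
      (by rintro _ ⟨m, rfl⟩; exact h m)
  let q := p.comp (X - 1)
  have hq : aeval φ q = 0 := by simp only [q, aeval_comp, map_sub, aeval_X, map_one]; exact hp
  refine ⟨- q.coeff 0, aeval φ q.divX, fun P hP hIP hf => ?_, fun m => ?_⟩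
  · rw [neg_mem_iff, Polynomial.coeff_zero_eq_eval_zero] at hf
    simp only [q, eval_comp, eval_sub, eval_X, eval_one, zero_sub] at hf
    rw [eval_eq_sum_range, Finset.sum_range_succ, hmon.coeff_natDegree, one_mul] at hf
    have hs : ∑ i ∈ Finset.range p.natDegree, p.coeff i * (-1) ^ i ∈ P :=
      sum_mem fun i hi => P.mul_mem_right _ (hIP (Ideal.pow_le_self
        (Nat.sub_ne_zero_of_lt (Finset.mem_range.mp hi)) (hcoef i)))
    have h1 : (-1 : C) ^ p.natDegree ∈ P := (P.add_mem_iff_right hs).mp hf
    exact hP.ne_top (Ideal.eq_top_of_isUnit_mem _ h1 (isUnit_one.neg.pow _))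
  · have h1 : aeval φ (q.divX * X + Polynomial.C (q.coeff 0)) = 0 := by rw [divX_mul_X_add]; exact hq
    have h2 := LinearMap.congr_fun h1 m
    simp only [map_add, map_mul, aeval_X, aeval_C, LinearMap.add_apply, LinearMap.zero_apply,
      Module.End.mul_apply, Module.algebraMap_end_apply] at h2
    rw [neg_smul, eq_neg_iff_add_eq_zero]
    exact h2

variable {R A : Type u} [CommRing R] [CommRing A] [Algebra R A] (ε : A →ₐ[R] R) (J : Ideal A)

/-- The derivation to `J / I J` projecting an element to its `J`-part. -/
theorem exists_derivation (hJI : J ≤ RingHom.ker ε)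
    (h2 : J ⊓ RingHom.ker ε ^ 2 = RingHom.ker ε * J)
    (h3 : Module.Projective R
      (↥(RingHom.ker ε) ⧸ Submodule.comap (RingHom.ker ε).subtype (J ⊔ RingHom.ker ε ^ 2))) :
    ∃ D : Derivation R A (J ⧸ (RingHom.ker ε • (⊤ : Submodule A J))),
      ∀ j : J, D j = Submodule.Quotient.mk j := by
  set I := RingHom.ker ε with hI
  let N : Submodule A I := Submodule.comap I.subtype (J ⊔ I ^ 2)
  obtain ⟨σ, hσ⟩ := Module.projective_lifting_property (N.mkQ.restrictScalars R) LinearMap.id N.mkQ_surjective
  let π : A →ₗ[R] I := LinearMap.codRestrict (I.restrictScalars R)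
    (LinearMap.id - (Algebra.linearMap R A) ∘ₗ ε.toLinearMap) (fun a => by
      show a - algebraMap R A (ε a) ∈ I
      simp [hI, RingHom.mem_ker])
  let π' : A →ₗ[R] I := π - σ ∘ₗ (N.mkQ.restrictScalars R) ∘ₗ π
  have hπ' : ∀ a, ∃ j : J, (π' a : A) - j ∈ I ^ 2 := by
    intro a
    have : π' a ∈ N := by
      rw [← Submodule.Quotient.mk_eq_zero]
      show N.mkQ (π a - σ (N.mkQ (π a))) = 0
      rw [map_sub, sub_eq_zero]
      exact (LinearMap.congr_fun hσ _).symm
    obtain ⟨j, hj, z, hz, hjz⟩ := Submodule.mem_sup.mp (Submodule.mem_comap.mp this)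
    exact ⟨⟨j, hj⟩, by
      show ((π' a : I) : A) - j ∈ I ^ 2
      rw [show ((π' a : I) : A) = j + z from hjz.symm, add_sub_cancel_left]; exact hz⟩
  choose F hF using hπ'
  have key : ∀ (a : A) (j : J), (π' a : A) - j ∈ I ^ 2 →
      (Submodule.Quotient.mk (F a) : J ⧸ (I • (⊤ : Submodule A J))) = Submodule.Quotient.mk j := by
    intro a j hj
    rw [Submodule.Quotient.eq, Submodule.mem_smul_top_iff, smul_eq_mul, ← h2]
    refine ⟨(F a - j).2, ?_⟩
    have := sub_mem hj (hF a)
    rwa [sub_sub_sub_cancel_left] at this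
  have hsmul : ∀ (a : A) (m : J ⧸ (I • (⊤ : Submodule A J))), a • m = ε a • m := by
    intro a m
    obtain ⟨j, rfl⟩ := Submodule.Quotient.mk_surjective _ m
    rw [← algebraMap_smul A (ε a), ← Submodule.Quotient.mk_smul, ← Submodule.Quotient.mk_smul,
      Submodule.Quotient.eq, ← sub_smul]
    exact Submodule.smul_mem_smul (by simp [hI, RingHom.mem_ker]) Submodule.mem_top
  let L : A →ₗ[R] J ⧸ (I • (⊤ : Submodule A J)) :=
    { toFun := fun a => Submodule.Quotient.mk (F a)
      map_add' := fun a b => by
        rw [← Submodule.Quotient.mk_add]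
        refine key _ _ ?_
        rw [map_add, Submodule.coe_add, Submodule.coe_add, add_sub_add_comm]
        exact add_mem (hF a) (hF b)
      map_smul' := fun r a => by
        rw [RingHom.id_apply, ← algebraMap_smul A r (Submodule.Quotient.mk (F a) : J ⧸ _),
          ← Submodule.Quotient.mk_smul]
        refine key _ _ ?_
        rw [map_smul, Submodule.coe_smul_of_tower, Submodule.coe_smul, algebraMap_smul, ← smul_sub]
        rw [← algebraMap_smul A r ((π' a : A) - (F a : A))]
        exact Ideal.mul_mem_left _ _ (hF a) }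
  have hπsq : ∀ z ∈ I ^ 2, π' z = π z := by
    intro z hz
    have hzI : z ∈ I := Ideal.pow_le_self two_ne_zero hz
    have : N.mkQ (π z) = 0 := by
      rw [Submodule.mkQ_apply, Submodule.Quotient.mk_eq_zero]
      show z - algebraMap R A (ε z) ∈ J ⊔ I ^ 2
      rw [show ε z = 0 from hzI, map_zero, sub_zero]
      exact Ideal.mem_sup_right hz
    show π z - σ (N.mkQ (π z)) = π z
    rw [this, map_zero, sub_zero]
  have hLsq : ∀ z ∈ I ^ 2, L z = 0 := by
    intro z hz
    refine (key z 0 ?_).trans (Submodule.Quotient.mk_zero _)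
    rw [hπsq z hz, Submodule.coe_zero, sub_zero]
    show z - algebraMap R A (ε z) ∈ I ^ 2
    rw [show ε z = 0 from Ideal.pow_le_self two_ne_zero hz, map_zero, sub_zero]
    exact hz
  have hLc : ∀ r : R, L (algebraMap R A r) = 0 := by
    intro r
    have h0 : π (algebraMap R A r) = 0 := Subtype.ext (by
      show algebraMap R A r - algebraMap R A (ε (algebraMap R A r)) = 0
      rw [AlgHom.commutes, Algebra.algebraMap_self_apply, sub_self])
    refine (key _ 0 ?_).trans (Submodule.Quotient.mk_zero _)
    simp [π', h0]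
  refine ⟨Derivation.mk' L fun a b => ?_, fun j => key j j ?_⟩
  · rw [hsmul a, hsmul b]
    have e : a * b = (a - algebraMap R A (ε a)) * (b - algebraMap R A (ε b)) + ε a • b + ε b • a -
        algebraMap R A (ε a * ε b) := by
      rw [Algebra.smul_def, Algebra.smul_def, map_mul]; ring
    have hab : (a - algebraMap R A (ε a)) * (b - algebraMap R A (ε b)) ∈ I ^ 2 := by
      rw [pow_two]
      exact Ideal.mul_mem_mul (by simp [hI, RingHom.mem_ker]) (by simp [hI, RingHom.mem_ker])
    conv_lhs => rw [e]
    rw [map_sub, map_add, map_add, map_smul, map_smul, hLsq _ hab, hLc, zero_add, sub_zero]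
  · have hj : π (j : A) = ⟨j, hJI j.2⟩ := Subtype.ext (by
      show (j : A) - algebraMap R A (ε j) = j
      rw [show ε (j : A) = 0 from hJI j.2, map_zero, sub_zero])
    have : N.mkQ (π (j : A)) = 0 := by
      rw [hj, Submodule.mkQ_apply, Submodule.Quotient.mk_eq_zero]
      exact Ideal.mem_sup_left j.2
    show ((π (j : A) - σ (N.mkQ (π (j : A))) : I) : A) - j ∈ I ^ 2
    rw [this, map_zero, sub_zero, hj, sub_self]
    exact zero_mem _

/-- In affine form, let R be a commutative ring, A a smooth R-algebra with an augmentation ε : A → R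
(the unit section of G = Spec A over S = Spec R), I = ker ε its augmentation ideal, and J ⊆ I an
ideal (defining a closed subscheme H of G through the unit section) such that (1) J is finitely
generated, (2) J ∩ I² = I·J in A, and (3) I/(J + I²) is a finitely generated projective R-module
(finite locally free on S). Then H = Spec (A/J) is smooth over S at every point of the unit section:
for every prime P of A/J containing the image of I, the localization (A/J)_P is formally smooth over
R. (The source states this for G an affine smooth group scheme over a scheme S and H a closed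
subgroup, concluding that the neutral component H° is a smooth open subgroup scheme; that conclusion
is smoothness of H along the unit section, which is the statement here in affine form; the group
structure is not used.) -/
theorem result (R A : Type u) [CommRing R] [CommRing A] [Algebra R A]
    [Algebra.Smooth R A] (ε : A →ₐ[R] R) (J : Ideal A) (hJI : J ≤ RingHom.ker ε)
    (h1 : J.FG)
    (h2 : J ⊓ RingHom.ker ε ^ 2 = RingHom.ker ε * J)
    (h3 : Module.Finite R (↥(RingHom.ker ε) ⧸ Submodule.comap (RingHom.ker ε).subtype (J ⊔ RingHom.ker ε ^ 2)) ∧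
      Module.Projective R (↥(RingHom.ker ε) ⧸ Submodule.comap (RingHom.ker ε).subtype (J ⊔ RingHom.ker ε ^ 2)))
    (P : Ideal (A ⧸ J)) [P.IsPrime] (hP : (RingHom.ker ε).map (Ideal.Quotient.mk J) ≤ P) :
    Algebra.IsSmoothAt R P := by
  obtain ⟨D, hD⟩ := exists_derivation ε J hJI h2 h3.2
  let I : Ideal A := RingHom.ker ε
  let E : Algebra.Extension.{u} R (A ⧸ J) := Algebra.Extension.ofSurjective
    (IsScalarTower.toAlgHom R A (A ⧸ J)) Ideal.Quotient.mk_surjective
  have hker : E.ker = J := Ideal.mk_ker
  have : Algebra.FormallySmooth R E.Ring := inferInstanceAs (Algebra.FormallySmooth R A)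
  have hE : E.ker.FG := hker.symm ▸ h1
  have : Module.Finite E.Ring E.ker := .of_fg hE
  have : Module.Finite E.Ring E.Cotangent := .of_surjective _ Algebra.Extension.Cotangent.mk_surjective
  have : Module.Finite (A ⧸ J) E.Cotangent := Module.Finite.of_restrictScalars_finite E.Ring _ _
  have hproj : Module.Projective A Ω[A⁄R] := Algebra.FormallySmooth.projective_kaehlerDifferential
  obtain ⟨g, hg⟩ := Module.projective_lifting_property (Submodule.mkQ (I • (⊤ : Submodule A J)))
    D.liftKaehlerDifferential (Submodule.mkQ_surjective _)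
  let ι : J →ₗ[A] E.ker := Submodule.inclusion hker.ge
  let r : E.CotangentSpace →ₗ[A ⧸ J] E.Cotangent :=
    LinearMap.liftBaseChange (A ⧸ J) (Algebra.Extension.Cotangent.mk ∘ₗ ι ∘ₗ g)
  have hr : ∀ m, (r ∘ₗ E.cotangentComplex) m - m ∈
      I.map (Ideal.Quotient.mk J) • (⊤ : Submodule (A ⧸ J) E.Cotangent) := by
    intro m
    obtain ⟨⟨x, hx⟩, rfl⟩ := Algebra.Extension.Cotangent.mk_surjective m
    let j : J := ⟨x, hker.le hx⟩
    have h4 : g (KaehlerDifferential.D R A x) - j ∈ I • (⊤ : Submodule A J) := by
      rw [← Submodule.Quotient.eq]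
      exact ((LinearMap.congr_fun hg _).trans (Derivation.liftKaehlerDifferential_comp_D D (j : A))).trans (hD j)
    have h5 : (r ∘ₗ E.cotangentComplex) (Algebra.Extension.Cotangent.mk ⟨x, hx⟩) -
        Algebra.Extension.Cotangent.mk ⟨x, hx⟩ =
        Algebra.Extension.Cotangent.mk (ι (g (KaehlerDifferential.D R A x) - j)) := by
      rw [LinearMap.comp_apply, Algebra.Extension.cotangentComplex_mk, map_sub, map_sub]
      simp only [r, LinearMap.liftBaseChange_tmul, one_smul, LinearMap.comp_apply]
      rfl
    rw [h5]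
    refine Submodule.smul_induction_on h4 (fun a ha y _ => ?_) (fun y z hy hz => ?_)
    · rw [map_smul, map_smul, ← algebraMap_smul (A ⧸ J) a]
      exact Submodule.smul_mem_smul (Ideal.mem_map_of_mem _ ha) Submodule.mem_top
    · rw [map_add, map_add]; exact add_mem hy hz
  obtain ⟨f, χ, hfP, hχ⟩ := exists_left_inverse_of_congr _ (r ∘ₗ E.cotangentComplex) hr
  have hfs : Algebra.FormallySmooth R (Localization.Away f) :=
    Groth.Agent.FSLocLib.formallySmooth_away E (χ ∘ₗ r) hχ
  have : Algebra.FinitePresentation R (A ⧸ J) := Algebra.FinitePresentation.quotient h1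
  exact Algebra.basicOpen_subset_smoothLocus_iff.mpr hfs (show (⟨P, inferInstance⟩ : PrimeSpectrum (A ⧸ J)) ∈
    PrimeSpectrum.basicOpen f from hfP P inferInstance hP)

end Groth.Agent.S19149
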