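import Groth.Statements.S19163
import Groth.Agent.TransLib.Universal
import Groth.Agent.SgaFix20.DSBasic
import Groth.Agent.S12442
-- import your own Groth.Agent.* helpers here

set_option autoImplicit false
open CategoryTheory MonoidalCategory CartesianMonoidalCategory MonObj GrpObj AlgebraicGeometry
universe u
open SGA3x

namespace Groth.Agent.S19163

/-- Let Γ be a non-trivial totally ordered commutative group and H ⟶ G a closed immersion of reductive
S-groups (a homomorphism which is a closed immersion). Let A_H with υ_H, resp. A_G with υ_G,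
represent the functor of group homomorphisms D_S(Γ) ⟶ H, resp. D_S(Γ) ⟶ G, and let φ : A_H ⟶ A_G be
the S-morphism induced by composing with H ⟶ G (the universal family over A_H followed by H ⟶ G is
the pull-back of υ_G along φ). Then φ is a closed immersion, locally of finite presentation. -/
theorem result {S : Scheme.{u}}
    (Γ : Type) [AddCommGroup Γ] [LinearOrder Γ] [IsOrderedAddMonoid Γ] [Nontrivial Γ]
    (H G : Over S) [GrpObj H] [GrpObj G] (hH : Red.IsReductive H) (hG : Red.IsReductive G)
    (k : H ⟶ G) [IsMonHom k] (hk : IsClosedImmersion k.left)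
    (AH : Over S) (υH : Red.DS S Γ ⊗ AH ⟶ H) (hAH : AutFam.RepresentsHom (Red.DS S Γ) H AH υH)
    (AG : Over S) (υG : Red.DS S Γ ⊗ AG ⟶ G) (hAG : AutFam.RepresentsHom (Red.DS S Γ) G AG υG)
    (φ : AH ⟶ AG) (hφ : (Red.DS S Γ ◁ φ) ≫ υG = υH ≫ k) :
    IsClosedImmersion φ.left ∧ LocallyOfFinitePresentation φ.left := by
  haveI := hk
  haveI : Smooth H.hom := hH.2.1
  haveI : Smooth G.hom := hG.2.1
  haveI : LocallyOfFinitePresentation k.left := by
    haveI : LocallyOfFinitePresentation (k.left ≫ G.hom) := by rw [Over.w k]; infer_instance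
    exact Groth.Agent.S12442.locallyOfFinitePresentation_of_comp k.left G.hom
  haveI : Mono k.left := inferInstance
  haveI : Mono k := (Over.forget S).mono_of_mono_map (show Mono k.left from inferInstance)
  obtain ⟨hWa, hWe⟩ := SgaFix20.multType_essFree (SgaFix20.locally_DS S Γ)
  haveI := hWa
  obtain ⟨Z, c, hc, hcf, hZ⟩ := TransLib.exists_closed_universal_essFree (X := AG) hWe υG k
  haveI := hc
  haveI : LocallyOfFinitePresentation c.left := hcf inferInstance inferInstance
  haveI : Mono c := (Over.forget S).mono_of_mono_map (show Mono c.left from inferInstance)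
  obtain ⟨z, hz⟩ := (hZ φ).mpr ⟨υH, hφ.symm⟩
  obtain ⟨l, hl⟩ := (hZ c).mp ⟨𝟙 Z, Category.id_comp c⟩
  have hl' : AutFam.IsHomFamily (Red.DS S Γ) H l := by
    intro X g₁ g₂ t
    rw [← cancel_mono k, MonObj.mul_comp]
    simp only [Category.assoc, hl, lift_whiskerLeft_assoc]
    exact hAG.1 X g₁ g₂ (t ≫ c)
  obtain ⟨a, ha, -⟩ := hAH.2 Z l hl'
  have hac : a ≫ φ = c := by
    have hfam : AutFam.IsHomFamily (Red.DS S Γ) G ((Red.DS S Γ ◁ c) ≫ υG) := by
      intro X g₁ g₂ t
      simp only [lift_whiskerLeft_assoc]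
      exact hAG.1 X g₁ g₂ (t ≫ c)
    refine (hAG.2 Z _ hfam).unique ?_ rfl
    simp only [MonoidalCategory.whiskerLeft_comp, Category.assoc, hφ]
    rw [← Category.assoc, ha, hl]
  have hza : z ≫ a = 𝟙 AH := by
    refine (hAH.2 AH υH hAH.1).unique ?_ (by simp)
    rw [MonoidalCategory.whiskerLeft_comp, Category.assoc, ha, ← cancel_mono k, Category.assoc, hl, ← hφ, ← hz,
      MonoidalCategory.whiskerLeft_comp, Category.assoc]
  have haz : a ≫ z = 𝟙 Z := by rw [← cancel_mono c, Category.assoc, hz, hac, Category.id_comp]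
  haveI : IsIso z := ⟨a, hza, haz⟩
  haveI : IsIso z.left := inferInstanceAs (IsIso ((Over.forget S).map z))
  rw [← hz, Over.comp_left]
  exact ⟨inferInstance, inferInstance⟩

end Groth.Agent.S19163
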