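import Groth.Statements.S19208
import Groth.Agent.GrAlg95.Mult

set_option autoImplicit false
universe u
open Filter
open LocAlg

namespace Groth.Agent.S19208

/-- Let O be a Noetherian local ring of Krull dimension r containing a field, with maximal ideal m. The
zeroth flat multiplicity e_0(O), the supremum over m-primary ideals I of e(I)/(r!·length(O/I)) with
e(I) the Samuel multiplicity, is at least 1: for every ε > 0 there is an m-primary ideal I (I ⊆ m,
m^N ⊆ I for some N) whose multiplicity e(I), the limit of r!·length(O/I^n)/n^r, satisfies e(I) ≥ (1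
− ε)·r!·length(O/I). (The same statement for the power-series rings O[[t_1, …, t_k]] is the bound
e_k(O) ≥ 1 for the k-th flat multiplicity.) -/
theorem result (O : Type u) [CommRing O] [IsNoetherianRing O]
    [IsLocalRing O] (K : Type u) [Field K] [Algebra K O] (r : ℕ) (hr : ringKrullDim O = r)
    (ε : ℝ) (hε : 0 < ε) :
    ∃ (I : Ideal O) (e : ℝ), I ≤ IsLocalRing.maximalIdeal O ∧
      (∃ N : ℕ, IsLocalRing.maximalIdeal O ^ N ≤ I) ∧
      Tendsto (fun n : ℕ => (r.factorial : ℝ) * ((Module.length O (O ⧸ I ^ n)).toNat : ℝ) / (n : ℝ) ^ r)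
        atTop (nhds e) ∧
      (1 - ε) * ((r.factorial : ℝ) * ((Module.length O (O ⧸ I)).toNat : ℝ)) ≤ e := by
  have hdim : Module.supportDim O O = (r : WithBot ℕ∞) := by
    rw [Module.supportDim_self_eq_ringKrullDim, hr]
  obtain ⟨L, hL, -, hLpos⟩ := GrAlg95.exists_samuel_limit (IsLocalRing.maximalIdeal O) le_rfl
    (N := 1) (pow_one _).le O r hdim.le
  have hL0 : 0 < L := hLpos hdim
  simp only [GrAlg95.hs_self] at hL
  obtain ⟨k, hk, hk0⟩ : ∃ k : ℕ, (1 - ε) * ((Module.length O (O ⧸ IsLocalRing.maximalIdeal O ^ k)).toNat : ℝ) ≤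
      (k : ℝ) ^ r * L ∧ 0 < k := by
    rcases le_or_gt 1 ε with h1 | h1
    · refine ⟨1, le_trans (mul_nonpos_of_nonpos_of_nonneg (by linarith) (Nat.cast_nonneg _)) ?_, one_pos⟩
      positivity
    · have hlt : L < L / (1 - ε) := by rw [lt_div_iff₀ (by linarith)]; nlinarith
      obtain ⟨k, hk, hk0⟩ := ((hL.eventually (eventually_le_nhds hlt)).and (eventually_gt_atTop 0)).exists
      refine ⟨k, ?_, hk0⟩
      have hk' : (0 : ℝ) < (k : ℝ) ^ r := by positivity
      rw [div_le_div_iff₀ hk' (by linarith)] at hk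
      linarith
  refine ⟨IsLocalRing.maximalIdeal O ^ k, (r.factorial : ℝ) * ((k : ℝ) ^ r * L),
    Ideal.pow_le_self hk0.ne', ⟨k, le_rfl⟩, ?_, ?_⟩
  · have h2 := ((hL.comp (tendsto_id.const_mul_atTop' hk0)).const_mul ((k : ℝ) ^ r)).const_mul (r.factorial : ℝ)
    refine h2.congr' ((eventually_gt_atTop 0).mono fun n hn => ?_)
    have hkr : (k : ℝ) ≠ 0 := by positivity
    simp only [Function.comp_apply, id]
    rw [← pow_mul]
    push_cast
    rw [mul_pow]
    field_simp
  · calc _ = (r.factorial : ℝ) * ((1 - ε) * ((Module.length O (O ⧸ IsLocalRing.maximalIdeal O ^ k)).toNat : ℝ)) := by ring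
      _ ≤ _ := by gcongr

end Groth.Agent.S19208
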