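import Groth.Statements.S19223
import Groth.Agent.GalHens.UnitsRed

set_option autoImplicit false
attribute [local instance] Units.mulDistribMulActionRight
open GalCoh CategoryTheory CategoryTheory.Limits

namespace Groth.Agent.S19223

/-- For a strictly henselian local ring R whose residue field k has characteristic p ≥ 0, and a finite
group G of order prime to p acting on R by ring automorphisms (hence on the unit groups R^× and
k^×), consider the homomorphism H^n(G, R^×) → H^n(G, k^×) induced by the reduction map. It is
bijective for every n ≥ 2; it is also bijective for n = 1 provided that p = 0 or the only p-power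
root of unity in R is 1. (The reduction map on cohomology is pinned by its values on units; groups,
rings and modules are taken in the lowest universe, as integral coefficients in the group-cohomology
library require.) -/
theorem result (R : Type) [CommRing R]
    [HenselianLocalRing R] [IsSepClosed (IsLocalRing.ResidueField R)] (p : ℕ) [CharP (IsLocalRing.ResidueField R) p]
    (G : Type) [Group G] [Finite G] [MulSemiringAction G R] (hp : ¬ p ∣ Nat.card G)
    (φ : Rep.ofMulDistribMulAction G Rˣ ⟶ Rep.ofMulDistribMulAction G (IsLocalRing.ResidueField R)ˣ)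
    (hφ : ∀ x : Rˣ, Additive.toMul (φ.hom (Additive.ofMul x)) = Units.map (IsLocalRing.residue R).toMonoidHom x)
    (n : ℕ) (hn : 1 ≤ n) (h1 : n = 1 → p ≠ 0 → ∀ (ζ : Rˣ) (m : ℕ), ζ ^ p ^ m = 1 → ζ = 1) :
    Function.Bijective ((groupCohomology.functor ℤ G n).map φ).hom := by
  have hsurj : Function.Surjective φ.hom := fun y => by
    obtain ⟨r, hr⟩ := IsLocalRing.residue_surjective (Additive.toMul y : (IsLocalRing.ResidueField R)ˣ).val
    have hu : IsUnit r := by
      rw [← IsLocalRing.residue_ne_zero_iff_isUnit, hr]
      exact Units.ne_zero _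
    exact ⟨Additive.ofMul hu.unit, Additive.toMul.injective (Units.ext ((congrArg Units.val (hφ hu.unit)).trans hr))⟩
  have : Epi φ := (Rep.epi_iff_surjective φ).2 hsurj
  let X : ShortComplex (Rep ℤ G) := ShortComplex.mk (kernel.ι φ) φ (kernel.condition φ)
  have hX : X.ShortExact := { exact := ShortComplex.exact_kernel φ, mono_f := inferInstance, epi_g := inferInstance }
  have hinj : Function.Injective X.f.hom := (Rep.mono_iff_injective X.f).1 inferInstance
  obtain ⟨hex, hzero⟩ := Groth.Agent.GalHens.exact_elements hX
  have hker : ∀ b, X.f.hom b = X.f.hom b ∧ IsLocalRing.residue R ((Additive.toMul (X.f.hom b) : Rˣ) : R) = 1 := by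
    intro b
    refine ⟨rfl, ?_⟩
    have h := congrArg Additive.toMul (hzero b)
    exact congrArg Units.val ((hφ _).symm.trans h)
  have hN : (Nat.card G : IsLocalRing.ResidueField R) ≠ 0 := by
    rwa [Ne, CharP.cast_eq_zero_iff (IsLocalRing.ResidueField R) p]
  have hbij : Function.Bijective fun a : X.X₁ => Nat.card G • a := by
    refine ⟨fun a b hab => hinj (Additive.toMul.injective ?_), fun a => ?_⟩
    · have h1 : Nat.card G • X.f.hom a = Nat.card G • X.f.hom b := by rw [← map_nsmul, ← map_nsmul]; exact congrArg _ hab
      have h2 : (Additive.toMul (X.f.hom a) : Rˣ) ^ Nat.card G = (Additive.toMul (X.f.hom b) : Rˣ) ^ Nat.card G :=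
        congrArg Additive.toMul h1
      exact (Groth.Agent.GalHens.existsUnique_root hN _ (by
        rw [Units.val_pow_eq_pow_val, map_pow, (hker b).2, one_pow])).unique ⟨(hker a).2, h2⟩ ⟨(hker b).2, rfl⟩
    · obtain ⟨y, ⟨hy1, hy2⟩, -⟩ := Groth.Agent.GalHens.existsUnique_root hN _ (hker a).2
      obtain ⟨b, hb⟩ := hex (Additive.ofMul y) (Additive.toMul.injective ((hφ y).trans ((Units.ext (show IsLocalRing.residue R (y : R) = ((1 : (IsLocalRing.ResidueField R)ˣ) : IsLocalRing.ResidueField R) from hy1)))))
      refine ⟨b, hinj ?_⟩
      show X.f.hom (Nat.card G • b) = X.f.hom a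
      rw [map_nsmul, show X.f.hom b = Additive.ofMul y from hb]
      exact Additive.toMul.injective hy2
  exact Groth.Agent.GalHens.bijective_map_of_subsingleton hX
    (Groth.Agent.GalHens.subsingleton_of_nsmul_bijective _ hbij hn)
    (Groth.Agent.GalHens.subsingleton_of_nsmul_bijective _ hbij n.succ_pos)

end Groth.Agent.S19223
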