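import Groth.Statements.S19240
import Groth.Agent.H84FrobPow.Basic
import Groth.Agent.ResSurf.Normal

set_option autoImplicit false
universe u
open FrobSch

set_option backward.isDefEq.respectTransparency.types false

namespace Groth.Agent.S19240

open Groth.Agent

section

open CategoryTheory CategoryTheory.Limits AlgebraicGeometry

variable (p : ℕ) [hp : Fact p.Prime] {X Y : Scheme.{u}} [IsIntegral X] [IsIntegral Y]
  (u : X ⟶ Y) (e : u (genericPoint X) = genericPoint Y)

/-- The map of function fields. -/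
noncomputable def ι : Y.functionField ⟶ X.functionField :=
  Y.presheaf.stalkSpecializes (specializes_of_eq e) ≫ u.stalkMap (genericPoint X)

include e in
theorem mem_preimage_generic (U : Y.Opens) [h : Nonempty U] : u (genericPoint X) ∈ U :=
  e ▸ ((genericPoint_spec Y).mem_open_set_iff U.isOpen).mpr (by simpa using h)

theorem ι_germ (U : Y.Opens) [Nonempty U] [Nonempty (u ⁻¹ᵁ U)] (b : Γ(Y, U)) :
    ι u e (Y.germToFunctionField U b) = X.germToFunctionField (u ⁻¹ᵁ U) (u.app U b) := by
  have h := mem_preimage_generic u e U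
  show u.stalkMap (genericPoint X) (Y.presheaf.stalkSpecializes (specializes_of_eq e) (Y.presheaf.germ U _ _ b)) = _
  rw [TopCat.Presheaf.germ_stalkSpecializes_apply]
  exact Scheme.Hom.germ_stalkMap_apply u U (genericPoint X) h b

/-- The exponent of the function field extension. -/
theorem exists_degree [FrobSch.IsCharP X p] [FrobSch.IsCharP Y p] (huniv : FlatMor.IsUnivHomeo u) [LocallyOfFiniteType u] :
    ∃ n : ℕ, @Module.finrank Y.functionField X.functionField _ _ (ι u e).hom.toAlgebra.toModule = p ^ n ∧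
      ∀ a : X.functionField, ∃ c : Y.functionField, ι u e c = a ^ (p ^ n) := by
  letI := (ι u e).hom.toAlgebra
  haveI := MorLib.isAffineHom_of_isUnivHomeo huniv
  haveI := MorLib.isIntegralHom_of_isUnivHomeo huniv
  haveI : CharP Y.functionField p := (CharP.charP_iff_prime_eq_zero hp.out).2 (by
    rw [← map_natCast (Y.presheaf.germ ⊤ (genericPoint Y) trivial).hom, FrobSch.natCast_eq_zero_app Y p ⊤, map_zero])
  haveI : ExpChar Y.functionField p := .prime hp.out
  haveI : IsPurelyInseparable Y.functionField X.functionField := by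
    rw [isPurelyInseparable_iff_pow_mem Y.functionField p]
    intro a
    obtain ⟨-, hpi⟩ := ((tfae_universallyInjective u).out 0 2 rfl rfl).1 (MorLib.universallyInjective_of_isUnivHomeo huniv)
    have hx := hpi (genericPoint X)
    letI := (u.residueFieldMap (genericPoint X)).hom.toAlgebra
    haveI : CharP (Y.residueField (u (genericPoint X))) p := (CharP.charP_iff_prime_eq_zero hp.out).2 (by
      rw [← map_natCast ((Y.presheaf.germ ⊤ _ trivial) ≫ Y.residue (u (genericPoint X))).hom,
        FrobSch.natCast_eq_zero_app Y p ⊤, map_zero])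
    haveI : ExpChar (Y.residueField (u (genericPoint X))) p := .prime hp.out
    haveI : IsPurelyInseparable (Y.residueField (u (genericPoint X))) (X.residueField (genericPoint X)) := hx
    obtain ⟨m, c, hc⟩ := IsPurelyInseparable.pow_mem (Y.residueField (u (genericPoint X))) p
      (X.residue (genericPoint X) a)
    obtain ⟨c, rfl⟩ := Y.residue_surjective _ c
    refine ⟨m, Y.presheaf.stalkSpecializes (specializes_of_eq e.symm) c, ?_⟩
    show ι u e _ = _
    have h1 : X.residue (genericPoint X) (u.stalkMap (genericPoint X) c) = X.residue (genericPoint X) (a ^ p ^ m) := by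
      rw [map_pow, ← hc]
      exact (congr($(Scheme.residue_residueFieldMap u (genericPoint X)) c)).symm
    have h2 : Function.Injective (X.residue (genericPoint X)).hom := by
      letI : Field (X.presheaf.stalk (genericPoint X)) := inferInstanceAs (Field X.functionField)
      exact (X.residue (genericPoint X)).hom.injective
    rw [← h2 h1]
    show u.stalkMap _ ((Y.presheaf.stalkSpecializes (specializes_of_eq e.symm) ≫
      Y.presheaf.stalkSpecializes (specializes_of_eq e)) c) = _
    rw [Y.presheaf.stalkSpecializes_comp]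
    simp
  haveI : FiniteDimensional Y.functionField X.functionField := by
    obtain ⟨_, ⟨U, hU, rfl⟩, hηU, -⟩ := Y.isBasis_affineOpens.exists_subset_of_mem_open
      (Set.mem_univ (u (genericPoint X))) isOpen_univ
    haveI : Nonempty U := ⟨⟨_, hηU⟩⟩
    haveI : Nonempty (u ⁻¹ᵁ U) := ⟨⟨genericPoint X, hηU⟩⟩
    have hV : IsAffineOpen (u ⁻¹ᵁ U) := hU.preimage u
    haveI := functionField_isFractionRing_of_isAffineOpen X (u ⁻¹ᵁ U) hV
    have hft : (u.appLE U (u ⁻¹ᵁ U) le_rfl).hom.FiniteType := u.finiteType_appLE hU hV le_rfl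
    rw [← Scheme.Hom.app_eq_appLE] at hft
    algebraize [(u.app U).hom]
    obtain ⟨s, hs⟩ := (inferInstance : Algebra.FiniteType Γ(Y, U) Γ(X, u ⁻¹ᵁ U)).out
    classical
    let t : Finset X.functionField := s.image (X.germToFunctionField (u ⁻¹ᵁ U))
    let L := IntermediateField.adjoin Y.functionField (t : Set X.functionField)
    haveI : FiniteDimensional Y.functionField L :=
      IntermediateField.finiteDimensional_adjoin fun x _ => (IsPurelyInseparable.isIntegral' Y.functionField x)
    have hmem : ∀ a : Γ(X, u ⁻¹ᵁ U), X.germToFunctionField (u ⁻¹ᵁ U) a ∈ L := by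
      intro a
      have ha : a ∈ Algebra.adjoin Γ(Y, U) (s : Set Γ(X, u ⁻¹ᵁ U)) := hs ▸ Algebra.mem_top
      induction ha using Algebra.adjoin_induction with
      | mem x hx => exact IntermediateField.subset_adjoin _ _ (Finset.mem_image_of_mem _ hx)
      | algebraMap b =>
        rw [RingHom.algebraMap_toAlgebra, ← ι_germ u e U b]
        exact L.algebraMap_mem _
      | add x y _ _ hx hy => rw [map_add]; exact L.add_mem hx hy
      | mul x y _ _ hx hy => rw [map_mul]; exact L.mul_mem hx hy
    have htop : L = ⊤ := eq_top_iff.2 fun x _ => by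
      obtain ⟨a, b, -, rfl⟩ := IsFractionRing.div_surjective Γ(X, u ⁻¹ᵁ U) x
      exact L.div_mem (hmem a) (hmem b)
    exact LinearEquiv.finiteDimensional ((IntermediateField.equivOfEq htop).trans IntermediateField.topEquiv).toLinearEquiv
  obtain ⟨n, hn⟩ := IsPurelyInseparable.finrank_eq_pow Y.functionField X.functionField p
  refine ⟨n, hn, fun a => ?_⟩
  obtain ⟨m, y, hm⟩ := IsPurelyInseparable.minpoly_eq_X_pow_sub_C Y.functionField p a
  have hdeg : p ^ m ≤ p ^ n := by
    rw [← hn]
    have := minpoly.natDegree_le (A := Y.functionField) a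
    rwa [hm, Polynomial.natDegree_X_pow_sub_C] at this
  have hmn : m ≤ n := (Nat.pow_le_pow_iff_right hp.out.one_lt).1 hdeg
  have hy : a ^ p ^ m = ι u e y := by
    have := minpoly.aeval Y.functionField a
    rw [hm, map_sub, map_pow, Polynomial.aeval_X, Polynomial.aeval_C, sub_eq_zero] at this
    exact this
  refine ⟨y ^ p ^ (n - m), ?_⟩
  rw [map_pow, ← hy, ← pow_mul, ← pow_add, Nat.add_sub_cancel' hmn]

/-- The inverse of `u` up to a power of the Frobenius. -/
theorem exists_factor [FrobSch.IsCharP X p] [FrobSch.IsCharP Y p] (huniv : FlatMor.IsUnivHomeo u)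
    (hY : Pi1.IsNormalScheme Y) (n : ℕ) (hn : ∀ a : X.functionField, ∃ c : Y.functionField, ι u e c = a ^ (p ^ n)) :
    ∃ w : Y ⟶ X, w ≫ u = H84FrobPow.pw (p := p) Y n ∧ u ≫ w = H84FrobPow.pw (p := p) X n := by
  haveI := MorLib.isAffineHom_of_isUnivHomeo huniv
  haveI := MorLib.isIntegralHom_of_isUnivHomeo huniv
  have key : ∀ y : Y, ∃ (U : Y.Opens), y ∈ U ∧ ∃ w : (Scheme.Opens.toScheme U) ⟶ X, w ≫ u = U.ι ≫ H84FrobPow.pw (p := p) Y n := by
    intro y
    obtain ⟨_, ⟨U, hU, rfl⟩, hyU, -⟩ := Y.isBasis_affineOpens.exists_subset_of_mem_open (Set.mem_univ y) isOpen_univ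
    refine ⟨U, hyU, ?_⟩
    haveI : Nonempty U := ⟨⟨y, hyU⟩⟩
    haveI : Nonempty (Scheme.Opens.toScheme U) := ⟨⟨y, hyU⟩⟩
    haveI : Nonempty (u ⁻¹ᵁ U) := ⟨⟨genericPoint X, mem_preimage_generic u e U⟩⟩
    have hV : IsAffineOpen (u ⁻¹ᵁ U) := hU.preimage u
    haveI := functionField_isFractionRing_of_isAffineOpen Y U hU
    haveI := ResSurf.isIntegrallyClosed_affine hY hU
    have hinj : Function.Injective (u.app U).hom := by
      intro b b' hb
      refine Y.germToFunctionField_injective U ((ι u e).hom.injective ?_)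
      show ι u e (Y.germToFunctionField U b) = ι u e (Y.germToFunctionField U b')
      rw [ι_germ, ι_germ]
      exact congrArg _ hb
    have hex : ∀ a : Γ(X, u ⁻¹ᵁ U), ∃ b, u.app U b = a ^ (p ^ n) := by
      intro a
      obtain ⟨c, hc⟩ := hn (X.germToFunctionField (u ⁻¹ᵁ U) a)
      obtain ⟨P, hP, hPa⟩ : (u.app U).hom.IsIntegralElem (a ^ (p ^ n)) := u.isIntegral_app U hU _
      have hint : IsIntegral Γ(Y, U) c := by
        refine ⟨P, hP, (ι u e).hom.injective ?_⟩
        show (ι u e).hom _ = (ι u e).hom 0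
        have hcomp : (ι u e).hom.comp (algebraMap Γ(Y, U) Y.functionField) =
            (X.germToFunctionField (u ⁻¹ᵁ U)).hom.comp (u.app U).hom := RingHom.ext fun b => ι_germ u e U b
        rw [Polynomial.hom_eval₂, map_zero, hcomp]
        show Polynomial.eval₂ _ (ι u e c) P = 0
        rw [hc, ← map_pow, ← Polynomial.hom_eval₂, hPa, map_zero]
      obtain ⟨b, hb⟩ := IsIntegrallyClosed.algebraMap_eq_of_integral hint
      refine ⟨b, X.germToFunctionField_injective (u ⁻¹ᵁ U) ?_⟩
      show X.germToFunctionField (u ⁻¹ᵁ U) (u.app U b) = X.germToFunctionField (u ⁻¹ᵁ U) (a ^ p ^ n)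
      rw [map_pow, ← ι_germ u e U b, ← hc]
      exact congrArg _ hb
    choose g hg using hex
    have hp0 : p ^ n ≠ 0 := pow_ne_zero _ hp.out.ne_zero
    haveI : CharP Γ(X, u ⁻¹ᵁ U) p :=
      (CharP.charP_iff_prime_eq_zero hp.out).2 (FrobSch.natCast_eq_zero_app X p _)
    let ψ : Γ(X, u ⁻¹ᵁ U) →+* Γ(Y, U) :=
      { toFun := g
        map_one' := hinj (by rw [hg, one_pow, map_one])
        map_mul' := fun a b => hinj (by rw [hg, map_mul, hg, hg, mul_pow])
        map_zero' := hinj (by rw [hg, zero_pow hp0, map_zero])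
        map_add' := fun a b => hinj (by rw [hg, map_add, hg, hg, add_pow_char_pow]) }
    have hψ : ∀ b, ψ (u.app U b) = b ^ (p ^ n) := fun b => hinj (by
      show u.app U (g _) = u.app U _
      rw [hg, map_pow])
    haveI : FrobSch.IsCharP (Spec Γ(Y, U)) p := FrobSch.IsCharP.of_hom hU.fromSpec p
    refine ⟨hU.isoSpec.hom ≫ Spec.map (CommRingCat.ofHom ψ) ≫ hV.fromSpec, ?_⟩
    have h1 : hV.fromSpec ≫ u = Spec.map (u.app U) ≫ hU.fromSpec := by
      rw [Scheme.Hom.app_eq_appLE]
      exact (IsAffineOpen.SpecMap_appLE_fromSpec u hU hV le_rfl).symm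
    have h2 : Spec.map (CommRingCat.ofHom ψ) ≫ Spec.map (u.app U) = H84FrobPow.pw (p := p) (Spec Γ(Y, U)) n := by
      rw [← Spec.map_comp]
      exact (H84FrobPow.pw_Spec Γ(Y, U) (u.app U ≫ CommRingCat.ofHom ψ) n hψ).symm
    rw [Category.assoc, Category.assoc, h1, reassoc_of% h2, H84FrobPow.pw_comp (p := p) hU.fromSpec, ← Category.assoc,
      IsAffineOpen.isoSpec_hom_fromSpec]
  choose U hyU w hw using key
  let 𝒰 := Y.openCoverOfIsOpenCover U (TopologicalSpace.IsOpenCover.mk (eq_top_iff.2 fun y _ =>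
    TopologicalSpace.Opens.mem_iSup.2 ⟨y, hyU y⟩))
  have hcompat : ∀ y z, pullback.fst (𝒰.f y) (𝒰.f z) ≫ w y = pullback.snd (𝒰.f y) (𝒰.f z) ≫ w z := by
    intro y z
    haveI : IsReduced (pullback (𝒰.f y) (𝒰.f z)) :=
      isReduced_of_isOpenImmersion (pullback.fst (𝒰.f y) (𝒰.f z) ≫ 𝒰.f y)
    refine HTopAwn.hom_ext_of_univHomeo huniv ?_
    rw [Category.assoc, Category.assoc]
    exact ((congrArg (pullback.fst (𝒰.f y) (𝒰.f z) ≫ ·) (hw y)).trans
      (pullback.condition_assoc (H84FrobPow.pw (p := p) Y n))).trans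
        (congrArg (pullback.snd (𝒰.f y) (𝒰.f z) ≫ ·) (hw z)).symm
  let W := 𝒰.glueMorphisms w hcompat
  have hW : W ≫ u = H84FrobPow.pw (p := p) Y n :=
    𝒰.hom_ext _ _ fun y => by rw [← Category.assoc, Scheme.Cover.ι_glueMorphisms]; exact hw y
  refine ⟨W, hW, HTopAwn.hom_ext_of_univHomeo huniv ?_⟩
  rw [Category.assoc, hW, H84FrobPow.pw_comp]

end

open CategoryTheory CategoryTheory.Limits AlgebraicGeometry in
/-- Let k be a perfect field of characteristic p > 0 and let u : X ⟶ Y be a k-morphism between integral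
k-schemes (separated, of finite type and quasi-projective over k) which is a universal
homeomorphism, and assume Y is normal. Then the degree of the function field of X over that of Y is
p ^ n for some natural number n, and for this n there is a universal homeomorphism v : Y ⟶ X^{(n)},
where X^{(n)} is the base change of X along the n-th power of the Frobenius of Spec k, such that v
is a k-morphism, u followed by v is the n-th relative Frobenius of X over k (its composite with the
projection X^{(n)} ⟶ X is the n-th power of the absolute Frobenius of X) and v followed by the base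
change of u is the n-th relative Frobenius of Y over k (the composite of v with the projection to X
and with u is the n-th power of the absolute Frobenius of Y). -/
theorem result
    (p : ℕ) [Fact p.Prime] (k : Type u) [Field k] [CharP k p] [PerfectField k]
    {X Y : Scheme.{u}} (fX : X ⟶ Spec (CommRingCat.of k)) (fY : Y ⟶ Spec (CommRingCat.of k))
    [IsIntegral X] [IsIntegral Y] [FrobSch.IsCharP X p] [FrobSch.IsCharP Y p]
    [IsSeparated fX] [IsSeparated fY] [LocallyOfFiniteType fX] [LocallyOfFiniteType fY]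
    (hqX : ∃ (N : ℕ) (i : X ⟶ CohB1.ProjSpace N k), IsImmersion i ∧ i ≫ CohB1.ProjSpace.toSpec N k = fX)
    (hqY : ∃ (N : ℕ) (i : Y ⟶ CohB1.ProjSpace N k), IsImmersion i ∧ i ≫ CohB1.ProjSpace.toSpec N k = fY)
    (hY : Pi1.IsNormalScheme Y)
    (u : X ⟶ Y) (hu : u ≫ fY = fX) (huniv : FlatMor.IsUnivHomeo u)
    (e : u (genericPoint X) = genericPoint Y) :
    ∃ n : ℕ,
      @Module.finrank Y.functionField X.functionField _ _
          (Y.presheaf.stalkSpecializes (specializes_of_eq e) ≫ u.stalkMap (genericPoint X)).hom.toAlgebra.toModule = p ^ n ∧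
      ∃ v : Y ⟶ pullback fX ((fun g : Spec (CommRingCat.of k) ⟶ Spec (CommRingCat.of k) => g ≫ FrobSch.frob (Spec (CommRingCat.of k)) p)^[n] (𝟙 (Spec (CommRingCat.of k)))),
        FlatMor.IsUnivHomeo v ∧
        v ≫ pullback.snd fX ((fun g : Spec (CommRingCat.of k) ⟶ Spec (CommRingCat.of k) => g ≫ FrobSch.frob (Spec (CommRingCat.of k)) p)^[n] (𝟙 (Spec (CommRingCat.of k)))) = fY ∧
        u ≫ v ≫ pullback.fst fX ((fun g : Spec (CommRingCat.of k) ⟶ Spec (CommRingCat.of k) => g ≫ FrobSch.frob (Spec (CommRingCat.of k)) p)^[n] (𝟙 (Spec (CommRingCat.of k)))) =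
          (fun g : X ⟶ X => g ≫ FrobSch.frob X p)^[n] (𝟙 X) ∧
        v ≫ pullback.fst fX ((fun g : Spec (CommRingCat.of k) ⟶ Spec (CommRingCat.of k) => g ≫ FrobSch.frob (Spec (CommRingCat.of k)) p)^[n] (𝟙 (Spec (CommRingCat.of k)))) ≫ u =
          (fun g : Y ⟶ Y => g ≫ FrobSch.frob Y p)^[n] (𝟙 Y) := by
  haveI : LocallyOfFiniteType (u ≫ fY) := hu ▸ inferInstance
  haveI : LocallyOfFiniteType u := locallyOfFiniteType_of_comp u fY
  obtain ⟨n, hdeg, hpow⟩ := exists_degree p u e huniv
  obtain ⟨w, hwu, huw⟩ := exists_factor p u e huniv hY n hpow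
  let Fk := H84FrobPow.pw (p := p) (Spec (CommRingCat.of k)) n
  haveI : IsIso Fk := H84FrobPow.isIso_pw_perfect k n
  have hcond : w ≫ fX = fY ≫ Fk := by
    rw [← hu, reassoc_of% hwu, H84FrobPow.pw_comp]
  refine ⟨n, hdeg, pullback.lift w fY hcond, ?_, pullback.lift_snd _ _ _, ?_, ?_⟩
  · refine MorLib.isUnivHomeo_two_out_of_three_left _ (pullback.fst fX Fk) ?_ ?_
    · rw [pullback.lift_fst]
      exact MorLib.isUnivHomeo_two_out_of_three_left w u (hwu ▸ H84FrobPow.isUnivHomeo_pw Y n) huniv
    · exact MorLib.isUnivHomeo_of_universallyClosed _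
  · rw [pullback.lift_fst]; exact huw
  · rw [pullback.lift_fst_assoc]; exact hwu

end Groth.Agent.S19240
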