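import Groth.Statements.S19244
import Mathlib.CategoryTheory.Abelian.Basic
-- import your own Groth.Agent.* helpers here

set_option autoImplicit false
universe v v' u u'
open HomAlg3

namespace Groth.Agent.S19244

open CategoryTheory in
/-- Let A be an abelian category and let P be the class of bounded-torsion objects of A, those X with n
• 𝟙_X = 0 for some nonzero integer n; assume P is a Serre class. Let L : A ⥤ D be an additive
functor to a preadditive category exhibiting D as the localization of A at the morphisms whose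
kernel and cokernel are in P (so D is the quotient category A_ℚ = A ⧸ A_{b-tor}; the source assumes
A well-powered, which guarantees that this quotient exists). Then for all objects X, Y of A: (1) for
every nonzero integer n, multiplication by n is bijective on Hom_D(L X, L Y), so that this group is
naturally a ℚ-vector space; (2) a morphism f : X ⟶ Y satisfies L f = 0 if and only if n • f = 0 for
some nonzero integer n; (3) for every g : L X ⟶ L Y there are a nonzero integer n and f : X ⟶ Y with
n • g = L f. Equivalently, the natural map Hom_A(X, Y) ⊗_ℤ ℚ → Hom_D(L X, L Y) is an isomorphism. -/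
theorem result
    {A : Type u} [Category.{v} A] [Abelian A] {D : Type u'} [Category.{v'} D] [Preadditive D]
    (P : ObjectProperty A) (hP : ∀ X : A, P X ↔ ∃ n : ℤ, n ≠ 0 ∧ n • (𝟙 X) = 0) [P.IsSerreClass]
    (L : A ⥤ D) [L.Additive] [L.IsLocalization P.isoModSerre] (X Y : A) :
    (∀ n : ℤ, n ≠ 0 → Function.Bijective (fun g : L.obj X ⟶ L.obj Y => n • g)) ∧
    (∀ f : X ⟶ Y, L.map f = 0 ↔ ∃ n : ℤ, n ≠ 0 ∧ n • f = 0) ∧
    (∀ g : L.obj X ⟶ L.obj Y, ∃ (n : ℤ) (f : X ⟶ Y), n ≠ 0 ∧ n • g = L.map f) := by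
  have hW : ∀ {M N : A} (s : M ⟶ N), P.isoModSerre s →
      ∃ (k : ℤ) (t : N ⟶ M), k ≠ 0 ∧ t ≫ s = k • 𝟙 N := by
    intro M N s hs
    obtain ⟨n, hn, hn'⟩ := (hP _).1 hs.1
    obtain ⟨m, hm, hm'⟩ := (hP _).1 hs.2
    let e := Limits.factorThruImage s
    have h₁ : (m • 𝟙 N) ≫ Limits.cokernel.π s = 0 := by
      rw [Preadditive.zsmul_comp, Category.id_comp, ← Category.comp_id (Limits.cokernel.π s),
        ← Preadditive.comp_zsmul, hm', Limits.comp_zero]
    have h₂ : Limits.kernel.ι s ≫ (n • 𝟙 M) = 0 := by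
      rw [Preadditive.comp_zsmul, Category.comp_id, ← Category.id_comp (Limits.kernel.ι s),
        ← Preadditive.zsmul_comp, hn', Limits.zero_comp]
    have h₁' : (m • 𝟙 N) ≫ Limits.cokernel.π (Limits.image.ι s) = 0 := by
      rw [← Limits.cokernel.π_desc s (Limits.cokernel.π (Limits.image.ι s)) (Eq.trans
        (congrArg (· ≫ Limits.cokernel.π (Limits.image.ι s)) (Limits.image.fac s).symm)
        ((Category.assoc _ _ _).trans
          ((congrArg (e ≫ ·) (Limits.cokernel.condition _)).trans Limits.comp_zero))),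
        ← Category.assoc, h₁, Limits.zero_comp]
    have h₂' : Limits.kernel.ι e ≫ (n • 𝟙 M) = 0 := by
      rw [← Limits.kernel.lift_ι s (Limits.kernel.ι e) (Eq.trans
        (congrArg (Limits.kernel.ι e ≫ ·) (Limits.image.fac s).symm)
        ((Category.assoc _ _ _).symm.trans
          ((congrArg (· ≫ Limits.image.ι s) (Limits.kernel.condition e)).trans Limits.zero_comp))),
        Category.assoc, h₂, Limits.comp_zero]
    obtain ⟨a, ha⟩ : ∃ a, a ≫ Limits.image.ι s = m • 𝟙 N :=
      ⟨Abelian.monoLift _ _ h₁', Abelian.monoLift_comp _ _ h₁'⟩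
    obtain ⟨b, hb⟩ : ∃ b, e ≫ b = n • 𝟙 M :=
      ⟨Abelian.epiDesc _ _ h₂', Abelian.comp_epiDesc _ _ h₂'⟩
    have hbs : b ≫ s = n • Limits.image.ι s := by
      rw [← cancel_epi e, ← Category.assoc, hb, Preadditive.comp_zsmul, Limits.image.fac,
        Preadditive.zsmul_comp, Category.id_comp]
    refine ⟨n * m, a ≫ b, mul_ne_zero hn hm, ?_⟩
    rw [Category.assoc, hbs, Preadditive.comp_zsmul, ha, smul_smul]
  have hinv : ∀ n : ℤ, n ≠ 0 → IsIso (n • 𝟙 (L.obj X)) := fun n hn => by
    rw [← CategoryTheory.Functor.map_id, ← L.map_zsmul]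
    refine Localization.inverts L P.isoModSerre _ ⟨(hP _).2 ⟨n, hn, ?_⟩, (hP _).2 ⟨n, hn, ?_⟩⟩
    · rw [← cancel_mono (Limits.kernel.ι _), Preadditive.zsmul_comp, Category.id_comp,
        Limits.zero_comp]
      have := Limits.kernel.condition (n • 𝟙 X)
      rwa [Preadditive.comp_zsmul, Category.comp_id] at this
    · rw [← cancel_epi (Limits.cokernel.π _), Preadditive.comp_zsmul, Category.comp_id,
        Limits.comp_zero]
      have := Limits.cokernel.condition (n • 𝟙 X)
      rwa [Preadditive.zsmul_comp, Category.id_comp] at this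
  have hbij : ∀ n : ℤ, n ≠ 0 → Function.Bijective (fun g : L.obj X ⟶ L.obj Y => n • g) :=
    fun n hn => by
      haveI := hinv n hn
      have e : (fun g : L.obj X ⟶ L.obj Y => n • g) = fun g => (n • 𝟙 (L.obj X)) ≫ g :=
        funext fun g => by rw [Preadditive.zsmul_comp, Category.id_comp]
      rw [e]
      exact ⟨fun g g' h => (cancel_epi _).1 h,
        fun g => ⟨inv (n • 𝟙 (L.obj X)) ≫ g, IsIso.hom_inv_id_assoc _ g⟩⟩
  refine ⟨hbij, fun f => ⟨fun hf => ?_, fun ⟨n, hn, hnf⟩ => ?_⟩, fun g => ?_⟩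
  · obtain ⟨W, s, hs, he⟩ := (MorphismProperty.map_eq_iff_precomp L P.isoModSerre f 0).1
      (hf.trans (L.map_zero X Y).symm)
    obtain ⟨k, t, hk, ht⟩ := hW s hs
    refine ⟨k, hk, ?_⟩
    rw [← Category.id_comp f, ← Preadditive.zsmul_comp, ← ht, Category.assoc, he, Limits.comp_zero,
      Limits.comp_zero]
  · apply (hbij n hn).1
    show n • L.map f = n • 0
    rw [← L.map_zsmul, hnf, L.map_zero, smul_zero]
  · obtain ⟨φ, rfl⟩ := Localization.exists_rightFraction L P.isoModSerre g
    obtain ⟨k, t, hk, ht⟩ := hW φ.s φ.hs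
    refine ⟨k, t ≫ φ.f, hk, ?_⟩
    rw [L.map_comp, ← φ.map_s_comp_map L (Localization.inverts _ _), ← Category.assoc,
      ← L.map_comp, ht, L.map_zsmul, CategoryTheory.Functor.map_id, Preadditive.zsmul_comp,
      Category.id_comp]

end Groth.Agent.S19244
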