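import Groth.Statements.S19255
import Groth.Agent.CdLib.Devissage
import Groth.Agent.CdLib.PointTorsion
import Groth.Agent.CdLib.PointDim

set_option autoImplicit false
set_option backward.isDefEq.respectTransparency.types false
universe u
open CategoryTheory CategoryTheory.Limits CategoryTheory.Abelian AlgebraicGeometry Opposite
open EtCd

namespace Groth.Agent.S19255

/-- multiplication by `m` -/
noncomputable def mul {X : Scheme.{u}} (m : ℕ) (F : EtCoh.Ab X) : F ⟶ F := m • 𝟙 F

theorem comp_mul {X : Scheme.{u}} {Z G : EtCoh.Ab X} {q : ℕ} (z : Ext Z G q) (m : ℕ) :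
    z.comp (Ext.mk₀ (mul m G)) (add_zero q) = m • z := by
  induction m with
  | zero => simp [mul]
  | succ m ih =>
    simp only [mul] at ih
    simp [mul, succ_nsmul, Ext.mk₀_add, Ext.comp_add, ih]

theorem stalk_mul {X : Scheme.{u}} {Ω : Type u} [Field Ω] [IsSepClosed Ω] (ξ : Spec (CommRingCat.of Ω) ⟶ X)
    (m : ℕ) (G : EtCoh.Ab X) (t : (EtCoh.stalk ξ).obj G) :
    (EtCoh.stalk ξ).map (mul m G) t = m • t := by
  haveI : (EtCoh.stalk ξ).Additive := Functor.additive_of_preserves_binary_products _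
  simp [mul, Functor.map_nsmul]

/-- sheaves of `ℚ`-vector spaces -/
def UDiv {X : Scheme.{u}} (F : EtCoh.Ab X) : Prop := ∀ m : ℕ, 0 < m → IsIso (mul m F)

theorem mul_naturality {X : Scheme.{u}} (m : ℕ) {F G : EtCoh.Ab X} (f : F ⟶ G) :
    mul m F ≫ f = f ≫ mul m G := by
  simp [mul, Preadditive.nsmul_comp, Preadditive.comp_nsmul]

theorem map_mul {X Y : Scheme.{u}} (L : EtCoh.Ab X ⥤ EtCoh.Ab Y) [L.Additive] (m : ℕ) (F : EtCoh.Ab X) :
    L.map (mul m F) = mul m (L.obj F) := by
  simp [mul, Functor.map_nsmul]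

theorem UDiv.map {X Y : Scheme.{u}} (L : EtCoh.Ab X ⥤ EtCoh.Ab Y) [L.Additive] {F : EtCoh.Ab X} (h : UDiv F) :
    UDiv (L.obj F) := fun m hm => by
  haveI := h m hm
  rw [← map_mul]
  infer_instance

theorem UDiv.ker {X : Scheme.{u}} {F G : EtCoh.Ab X} (f : F ⟶ G) (hF : UDiv F) (hG : UDiv G) :
    UDiv (kernel f) := fun m hm => by
  haveI := hF m hm
  haveI := hG m hm
  let e := kernel.mapIso f f (asIso (mul m F)) (asIso (mul m G)) (mul_naturality m f).symm
  have : mul m (kernel f) = e.hom := by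
    rw [← cancel_mono (kernel.ι f), mul_naturality]
    simp [e]
  rw [this]
  infer_instance

theorem UDiv.coker {X : Scheme.{u}} {F G : EtCoh.Ab X} (f : F ⟶ G) (hF : UDiv F) (hG : UDiv G) :
    UDiv (cokernel f) := fun m hm => by
  haveI := hF m hm
  haveI := hG m hm
  let e := cokernel.mapIso f f (asIso (mul m F)) (asIso (mul m G)) (mul_naturality m f).symm
  have : mul m (cokernel f) = e.hom := by
    rw [← cancel_epi (cokernel.π f), ← mul_naturality]
    simp [e]
  rw [this]
  infer_instance

theorem UDiv.sigma {X : Scheme.{u}} {J : Type (u + 1)} (M : J → EtCoh.Ab X) (h : ∀ j, UDiv (M j)) :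
    UDiv (∐ M) := fun m hm => by
  haveI := fun j => h j m hm
  have : mul m (∐ M) = (Sigma.mapIso fun j => asIso (mul m (M j))).hom := by
    refine Sigma.hom_ext _ _ fun j => ?_
    rw [← mul_naturality]
    simp
  rw [this]
  infer_instance

/-- The dévissage hypotheses for sheaves of `ℚ`-vector spaces. -/
theorem hyp (X : Scheme.{u}) [IsNoetherian X] (d : ℕ) (hd : topologicalKrullDim ↥X ≤ d) :
    CdLib.Devissage.Hyp (X := X) CdLib.PointDim.phi UDiv where
  decr _ _ h hne := CdLib.PointDim.phi_lt hd h hne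
  ker f := UDiv.ker f
  coker f := UDiv.coker f
  sigma n F hF := by
    refine UDiv.sigma _ fun k => ?_
    haveI : (EtCoh.pull (CdLib.PointPush.ι k.down.1)).Additive :=
      (EtCoh.pullPushAdj (CdLib.PointPush.ι k.down.1)).left_adjoint_additive
    exact (hF.map (EtCoh.pull (CdLib.PointPush.ι k.down.1))).map (EtCoh.push (CdLib.PointPush.ι k.down.1))
  point x F hF q hq := by
    obtain ⟨q, rfl⟩ : ∃ q', q = q' + 1 := ⟨q - 1, by omega⟩
    haveI : (EtCoh.pull (CdLib.PointPush.ι x)).Additive :=
      (EtCoh.pullPushAdj (CdLib.PointPush.ι x)).left_adjoint_additive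
    let G : EtCoh.Ab (Spec (X.residueField x)) := (EtCoh.pull (CdLib.PointPush.ι x)).obj F
    have hG : UDiv G := hF.map _
    refine subsingleton_of_forall_eq 0 fun z => ?_
    obtain ⟨n, hn, h0⟩ := CdLib.PointTorsion.exists_nsmul_H_eq_zero (K := X.residueField x) q G z
    haveI := hG n hn
    have h1 : z.comp (Ext.mk₀ (mul n G)) (add_zero _) = 0 := by
      exact (comp_mul z n).trans h0
    have h2 := congrArg (fun y => Ext.comp y (Ext.mk₀ (inv (mul n G))) (add_zero _)) h1
    simpa using h2
  higher x F hF b := by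
    haveI : (EtCoh.pull (CdLib.PointPush.ι x)).Additive :=
      (EtCoh.pullPushAdj (CdLib.PointPush.ι x)).left_adjoint_additive
    haveI : QuasiCompact (CdLib.PointPush.ι x) := by
      haveI : QuasiSeparatedSpace X := inferInstance
      exact quasiCompact_of_compactSpace _
    have hR : UDiv ((EtCoh.Rpush (CdLib.PointPush.ι x) (b + 1)).obj
        ((EtCoh.pull (CdLib.PointPush.ι x)).obj F)) := (hF.map _).map _
    refine ⟨hR, fun y hy => ?_⟩
    obtain ⟨Ω, _, _, ξ, rfl, hne⟩ := CdLib.Supp.exists_of_mem_supp hy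
    refine absurd (@AddCommGrpCat.isZero_of_subsingleton _ (subsingleton_of_forall_eq 0 fun t => ?_)) hne
    obtain ⟨n, hn, h0⟩ := CdLib.PointTorsion.exists_nsmul_stalk_Rpush_eq_zero (K := X.residueField x)
      (CdLib.PointPush.ι x) ξ b ((EtCoh.pull (CdLib.PointPush.ι x)).obj F) t
    haveI := hR n hn
    refine (AddCommGrpCat.mono_iff_injective ((EtCoh.stalk ξ).map
      (mul n ((EtCoh.Rpush (CdLib.PointPush.ι x) (b + 1)).obj
        ((EtCoh.pull (CdLib.PointPush.ι x)).obj F))))).1 inferInstance ?_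
    rw [map_zero, stalk_mul]
    exact h0

/-- Let X be a Noetherian scheme of Krull dimension at most d and F an abelian sheaf on the small etale
site of X which is a sheaf of ℚ-vector spaces, i.e. multiplication by every positive integer is
bijective on the sections of F over every etale X-scheme. Then Hⁱ(X_et, F) = 0 for every i > d. -/
theorem result (X : Scheme.{u}) [IsNoetherian X] (d : ℕ)
    (hd : topologicalKrullDim ↥X ≤ d) (F : EtCoh.Ab X)
    (hF : ∀ (U : X.Etale) (m : ℕ), 0 < m → Function.Bijective (fun s : EtCoh.sect F U => m • s))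
    (i : ℕ) (hi : d < i) : Subsingleton (EtCoh.H X F i) := by
  refine CdLib.Devissage.subsingleton_H (hyp X d hd) F (fun m hm => ?_) i fun x _ =>
    (CdLib.PointDim.phi_le hd x).trans_lt hi
  haveI : ∀ U : X.Etaleᵒᵖ, IsIso ((mul m F).hom.app U) := fun U => by
    refine (ConcreteCategory.isIso_iff_bijective _).2 ?_
    convert hF U.unop m hm using 1
    funext s
    have h : (mul m F).hom = m • 𝟙 F.obj :=
      (Functor.map_nsmul (sheafToPresheaf X.smallEtaleTopology AddCommGrpCat.{u + 1}) (f := 𝟙 F) (n := m) :)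
    rw [h, NatTrans.app_nsmul]
    rfl
  haveI : IsIso (mul m F).hom := NatIso.isIso_of_isIso_app _
  haveI : IsIso ((sheafToPresheaf X.smallEtaleTopology AddCommGrpCat.{u + 1}).map (mul m F)) :=
    ‹IsIso (mul m F).hom›
  exact isIso_of_reflects_iso (mul m F) (sheafToPresheaf _ _)

end Groth.Agent.S19255
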