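import Groth.Statements.S19272
import Groth.Agent.WittFilLib.Fil
import Mathlib.RingTheory.WittVector.InitTail

set_option autoImplicit false
universe u
open WittFil

namespace Groth.Agent.S19272

theorem prod_dvd {A : Type u} [CommRing A] [IsDomain A] [UniqueFactorizationMonoid A] {r : ℕ} (x : Fin r → A)
    (hx : ∀ i, Prime (x i)) (hxa : ∀ i j, Associated (x i) (x j) → i = j) (b : A) :
    ∀ s : Finset (Fin r), (∀ i ∈ s, x i ∣ b) → ∏ i ∈ s, x i ∣ b := by
  classical
  intro s
  refine Finset.prod_dvd_of_isRelPrime (fun i _ j _ hij => ?_)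
  exact ((hx i).irreducible.isRelPrime_iff_not_dvd).2 fun h => hij (hxa i j ((hx i).associated_of_dvd (hx j) h))

/-- Let A be a unique factorisation domain of characteristic p, x_1, …, x_r pairwise non-associate prime
elements of A, B = A[1/(x_1⋯x_r)] with u_i the unit of B defined by x_i, m ≥ 0, and n ∈ ℤ^r with n_i
< 0 for every i. Then every truncated p-typical Witt vector of length m over B lying in the filtered
piece cut out by ∏ u_i ^ n_i (every coordinate y_j has y_j ^ (p ^ (m−1−j)) · ∏ u_i ^ n_i in the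
image of A) has all its coordinates in the image of the ideal (x_1⋯x_r)·A. (The published item,
stated for the filtered de Rham–Witt pieces in all degrees over a regular local ring, says only that
such vectors have all coordinates in A; this row states the divisibility of every coordinate by
x_1⋯x_r that its proof establishes, in degree zero, for a unique factorisation domain in place of a
regular local ring.) -/
theorem result (p : ℕ) [Fact p.Prime] {A B : Type u} [CommRing A] [IsDomain A]
    [UniqueFactorizationMonoid A] [CharP A p] [CommRing B] [Algebra A B] {r : ℕ} (x : Fin r → A)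
    (hx : ∀ i, Prime (x i)) (hxa : ∀ i j, Associated (x i) (x j) → i = j)
    [IsLocalization.Away (∏ i, x i) B] (u : Fin r → Bˣ)
    (hu : ∀ i, (u i : B) = algebraMap A B (x i)) (m : ℕ) (n : Fin r → ℤ) (hn : ∀ i, n i < 0)
    (a : TruncatedWittVector p m B) (ha : a ∈ WittFil.fil p m (A := A) (WittFil.zmon u n))
    (j : Fin m) :
    ∃ b : A, TruncatedWittVector.coeff j a = algebraMap A B ((∏ i, x i) * b) := by
  classical
  have hx0 : ∏ i, x i ≠ 0 := Finset.prod_ne_zero_iff.2 fun i _ => (hx i).ne_zero
  have hPI : WittFilLib.PowIn A B := WittFilLib.powIn_of_away (∏ i, x i) hx0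
  obtain ⟨z, hz⟩ := ha j
  set N := p ^ (m - 1 - (j : ℕ)) with hN
  set y := TruncatedWittVector.coeff j a with hy
  obtain ⟨k, hk⟩ : ∃ k : Fin r → ℕ, ∀ i, n i = -((k i : ℤ) + 1) :=
    ⟨fun i => (-n i - 1).toNat, fun i => by have := hn i; simp only; omega⟩
  have hw : WittFil.zmon u n * algebraMap A B (∏ i, x i ^ (k i + 1)) = 1 := by
    rw [WittFil.zmon, map_prod, Units.coe_prod, ← Finset.prod_mul_distrib]
    refine Finset.prod_eq_one fun i _ => ?_
    rw [map_pow, ← hu, ← Units.val_pow_eq_pow_val, ← Units.val_mul, hk i]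
    simp [← zpow_natCast, ← zpow_add]
  have hyN : y ^ N = algebraMap A B (z * ∏ i, x i ^ (k i + 1)) := by
    rw [map_mul, hz, mul_assoc, hw, mul_one]
  obtain ⟨b, hb⟩ := hPI.2 y N (pow_pos (Nat.Prime.pos Fact.out) _) ⟨_, hyN.symm⟩
  have hbN : b ^ N = z * ∏ i, x i ^ (k i + 1) := hPI.1 (by rw [map_pow, hb, hyN])
  obtain ⟨b', rfl⟩ := prod_dvd x hx hxa b Finset.univ fun i _ => (hx i).dvd_of_dvd_pow (n := N) (by
    rw [hbN]
    exact dvd_mul_of_dvd_right (dvd_trans (dvd_pow_self _ (Nat.succ_ne_zero _)) (Finset.dvd_prod_of_mem _ (Finset.mem_univ i))) _)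
  exact ⟨b', hb.symm⟩

end Groth.Agent.S19272
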