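import Groth.Statements.S19274
import Groth.Agent.WittFilLib.Fil
import Mathlib.RingTheory.WittVector.InitTail

set_option autoImplicit false
universe u
open WittFil

namespace Groth.Agent.S19274

/-- Let A be a unique factorisation domain of characteristic p, x a prime element of A, B = A[1/x] with
u the unit of B defined by x, m ≥ 1, and n an integer NOT divisible by p^m. For e in B and k ≥ 0
write fil_k(e) for the set of truncated p-typical Witt vectors of length k over B whose j-th
coordinate y_j satisfies y_j ^ (p ^ (k−1−j)) · e ∈ A for all j < k (the filtered piece; fil_k(u^n)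
is the piece of index n). Then fil_{m+1}(u^n) is contained in fil_{m+1}(u^(n−1)) + V(fil_m(u^n))
(the reverse inclusion is immediate): every a in fil_{m+1}(u^n) can be written a = b + V(y) with b
in fil_{m+1}(u^(n−1)) and y a Witt vector over B whose length-m truncation lies in fil_m(u^n), V(y)
being truncated to length m+1. (In the source A is a henselian discrete valuation ring, n = p^r·l >
1 with p not dividing l, and the condition reads m ≥ r + 1.) -/
theorem result (p : ℕ) [Fact p.Prime]
    {A B : Type u} [CommRing A] [IsDomain A] [UniqueFactorizationMonoid A] [CharP A p]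
    [CommRing B] [Algebra A B] (x : A) (hx : Prime x) [IsLocalization.Away x B] (u : Bˣ)
    (hu : (u : B) = algebraMap A B x) (m : ℕ) (hm : 0 < m) (n : ℤ) (hn : ¬ ((p : ℤ) ^ m ∣ n)) :
    ∀ a ∈ WittFil.fil p (m + 1) (A := A) ((u ^ n : Bˣ) : B),
      ∃ b ∈ WittFil.fil p (m + 1) (A := A) ((u ^ (n - 1) : Bˣ) : B),
        ∃ y : WittVector p B,
          WittVector.truncate m y ∈ WittFil.fil p m (A := A) ((u ^ n : Bˣ) : B) ∧
            a = b + WittVector.truncate (m + 1) (WittVector.verschiebung y) := by
  classical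
  intro a ha
  obtain ⟨w, rfl⟩ := WittVector.truncate_surjective p (m + 1) B a
  rw [WittFilLib.mem_fil_truncate_iff] at ha
  let y : WittVector p B := WittVector.mk p fun j => w.coeff (j + 1)
  have hsplit : WittVector.teichmuller p (w.coeff 0) + WittVector.verschiebung y = w := by
    ext j
    rw [WittVector.coeff_add_of_disjoint j _ _ fun l => by
      cases l with
      | zero => exact Or.inr (WittVector.verschiebung_coeff_zero y)
      | succ l => exact Or.inl (WittVector.teichmuller_coeff_pos p _ _ (Nat.succ_pos l))]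
    cases j with
    | zero => rw [WittVector.verschiebung_coeff_zero, WittVector.teichmuller_coeff_zero, add_zero]
    | succ j => rw [WittVector.verschiebung_coeff_succ, WittVector.teichmuller_coeff_pos p _ _ (Nat.succ_pos j), zero_add]; rfl
  refine ⟨WittVector.truncate (m + 1) (WittVector.teichmuller p (w.coeff 0)), ?_, y, ?_, by rw [← map_add, hsplit]⟩
  swap
  · rw [WittFilLib.mem_fil_truncate_iff]
    intro j hj
    have := ha (j + 1) (by omega)
    rwa [show m + 1 - 1 - (j + 1) = m - 1 - j by omega] at this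
  rw [WittFilLib.mem_fil_truncate_iff]
  intro j hj
  cases j with
  | succ j => rw [WittVector.teichmuller_coeff_pos p _ _ (Nat.succ_pos j), zero_pow (pow_ne_zero _ (Nat.Prime.ne_zero Fact.out)), zero_mul]; exact zero_mem _
  | zero =>
    rw [WittVector.teichmuller_coeff_zero, show m + 1 - 1 - 0 = m by omega]
    obtain ⟨z, hz⟩ := ha 0 (by omega)
    rw [show m + 1 - 1 - 0 = m by omega] at hz
    suffices hxz : x ∣ z by
      obtain ⟨z', rfl⟩ := hxz
      refine ⟨z', (Units.mul_left_inj u).1 ?_⟩
      rw [mul_assoc, ← Units.val_mul, ← zpow_add_one, sub_add_cancel, ← hz, map_mul, hu, mul_comm]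
    have hPI : WittFilLib.PowIn A B := WittFilLib.powIn_of_away x hx.ne_zero
    obtain ⟨s, a', ha'⟩ := IsLocalization.Away.surj x (w.coeff 0)
    rcases eq_or_ne a' 0 with rfl | hne
    · have h0 : w.coeff 0 = 0 := (IsUnit.mul_left_eq_zero ((u ^ s).isUnit)).1 (by rw [Units.val_pow_eq_pow_val, hu]; simpa using ha')
      have : z = 0 := hPI.1 (by rw [hz, h0, zero_pow (pow_ne_zero _ (Nat.Prime.ne_zero Fact.out)), zero_mul, map_zero])
      simp [this]
    obtain ⟨v, c, hc, rfl⟩ := WfDvdMonoid.max_power_factor hne hx.irreducible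
    set P := p ^ m with hP
    have hcoeff : w.coeff 0 = algebraMap A B c * ((u ^ ((v : ℤ) - s) : Bˣ) : B) := by
      refine (Units.mul_left_inj (u ^ (s : ℤ))).1 ?_
      rw [mul_assoc, ← Units.val_mul, ← zpow_add, sub_add_cancel, zpow_natCast, zpow_natCast,
        Units.val_pow_eq_pow_val, Units.val_pow_eq_pow_val, hu, ha', map_mul, map_pow, mul_comm]
    have hz' : algebraMap A B z = algebraMap A B (c ^ P) * ((u ^ (((v : ℤ) - s) * P + n) : Bˣ) : B) := by
      rw [hz, hcoeff, mul_pow, map_pow, zpow_add, Units.val_mul, zpow_mul, zpow_natCast, Units.val_pow_eq_pow_val, mul_assoc]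
    set E : ℤ := ((v : ℤ) - s) * P + n with hE
    have hE0 : E ≠ 0 := fun h => hn ⟨(s : ℤ) - v, by rw [hP, Nat.cast_pow] at hE; linear_combination h - hE⟩
    obtain ⟨q, hq⟩ : ∃ q : ℕ, E = (q : ℤ) + 1 ∨ E = -((q : ℤ) + 1) := ⟨E.natAbs - 1, by omega⟩
    rcases hq with hq | hq
    · have hzq : z = c ^ P * x ^ (q + 1) := hPI.1 (by
        rw [hz', hq, map_mul, map_pow (algebraMap A B) x, ← hu, ← Units.val_pow_eq_pow_val, ← zpow_natCast]
        push_cast
        rfl)
      rw [hzq]
      exact dvd_mul_of_dvd_right (dvd_pow_self _ (Nat.succ_ne_zero _)) _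
    · have hzq : z * x ^ (q + 1) = c ^ P := hPI.1 (by
        rw [map_mul, hz', hq, map_pow (algebraMap A B) x, ← hu, ← Units.val_pow_eq_pow_val, mul_assoc, ← Units.val_mul,
          ← zpow_natCast, ← zpow_add]
        simp)
      exact absurd (hx.dvd_of_dvd_pow (n := P) (by rw [← hzq]; exact dvd_mul_of_dvd_right (dvd_pow_self _ (Nat.succ_ne_zero _)) _)) hc

end Groth.Agent.S19274
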