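import Groth.Statements.S19307
import Groth.Agent.SmoothSecLib.Basic
import Groth.Agent.SchTorsor.Props
import Groth.Agent.EtFound.Descent
import Mathlib.RingTheory.AdicCompletion.Completeness
import Mathlib.RingTheory.PowerSeries.Inverse
import Mathlib.RingTheory.Flat.FaithfullyFlat.Algebra

set_option autoImplicit false
universe u
open CategoryTheory MonoidalCategory CartesianMonoidalCategory MonObj GrpObj AlgebraicGeometry PowerSeries
open NonAbH1

namespace Groth.Agent.S19307

open CategoryTheory.Limits TopologicalSpace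

/-- A smooth surjection onto an affine scheme has a section over a faithfully flat etale algebra. -/
theorem exists_etale_ff_point {R : Type u} [CommRing R] {X : Scheme.{u}} (f : X ⟶ Spec (CommRingCat.of R))
    [Smooth f] [Surjective f] :
    ∃ (R' : Type u) (_ : CommRing R') (_ : Algebra R R'), Algebra.Etale R R' ∧ Module.FaithfullyFlat R R' ∧
      ∃ h : Spec (CommRingCat.of R') ⟶ X, h ≫ f = Spec.map (CommRingCat.ofHom (algebraMap R R')) := by
  choose x hx using f.surjective
  choose S' g s' hS' hg hgs h hh using fun r => SmoothSecLib.exists_etale_section_scheme f (x r)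
  have hopen : ∀ r, IsOpen (Set.range (g r)) := fun r => by
    have := hg r
    exact (g r).isOpenMap.isOpen_range
  obtain ⟨F, hF⟩ := isCompact_univ.elim_finite_subcover (fun r => Set.range (g r)) hopen
    fun r _ => Set.mem_iUnion.2 ⟨r, s' r, (hgs r).trans (hx r)⟩
  let Idx := ↥F
  have : ∀ i : Idx, IsAffine (S' i.1) := fun i => hS' i.1
  let T := ∐ fun i : Idx => S' i.1
  let gT : T ⟶ Spec (CommRingCat.of R) := Sigma.desc fun i => g i.1
  have : IsZariskiLocalAtSource (@Etale : MorphismProperty Scheme.{u}) :=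
    HasRingHomProperty.instIsZariskiLocalAtSource
  have : Etale gT := IsZariskiLocalAtSource.sigmaDesc fun i => hg i.1
  have : IsAffine T := inferInstance
  let hT : T ⟶ X := Sigma.desc fun i => h i.1
  have hhT : hT ≫ f = gT := Sigma.hom_ext _ _ fun i => by
    rw [Sigma.ι_desc_assoc, Sigma.ι_desc, hh]
  obtain ⟨φ, hφ⟩ := Spec.map_surjective (T.isoSpec.inv ≫ gT)
  let : Algebra R Γ(T, ⊤) := φ.hom.toAlgebra
  have : Etale (Spec.map φ) := by rw [hφ]; infer_instance
  have : Algebra.Etale R Γ(T, ⊤) := RingHom.etale_algebraMap.1 ((HasRingHomProperty.Spec_iff (P := @Etale)).1 this)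
  refine ⟨Γ(T, ⊤), inferInstance, inferInstance, inferInstance, ?_, T.isoSpec.inv ≫ hT, ?_⟩
  · refine Module.FaithfullyFlat.of_comap_surjective fun r => ?_
    obtain ⟨i, hi, y, hy⟩ := Set.mem_iUnion₂.1 (hF (Set.mem_univ r))
    have e : gT (Sigma.ι (fun i : Idx => S' i.1) ⟨i, hi⟩ y) = r := by
      rw [← Scheme.Hom.comp_apply, Sigma.ι_desc]
      exact hy
    refine ⟨T.isoSpec.hom (Sigma.ι (fun i : Idx => S' i.1) ⟨i, hi⟩ y), ?_⟩
    show Spec.map φ (T.isoSpec.hom _) = r
    rw [hφ, Scheme.Hom.comp_apply, Scheme.hom_inv_apply]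
    exact e
  · rw [Category.assoc, hhT, ← hφ]
    rfl

/-- Points of formally smooth algebras lift to power series. -/
theorem exists_lift_powerSeries {A B R' : Type u} [CommRing A] [CommRing B] [Algebra A B]
    [Algebra.FormallySmooth A B] [CommRing R'] (c : A →+* R'⟦X⟧) (f₁ : B →+* R')
    (h₁ : f₁.comp (algebraMap A B) = PowerSeries.constantCoeff.comp c) :
    ∃ F : B →+* R'⟦X⟧, F.comp (algebraMap A B) = c := by
  let : Algebra A R'⟦X⟧ := c.toAlgebra
  let J : Ideal R'⟦X⟧ := Ideal.span {PowerSeries.X}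
  have hmk : ∀ z : R'⟦X⟧, Ideal.Quotient.mk (J ^ 1) (PowerSeries.C (PowerSeries.constantCoeff z)) =
      Ideal.Quotient.mk (J ^ 1) z := fun z => by
    rw [Ideal.Quotient.eq, pow_one, Ideal.mem_span_singleton, PowerSeries.X_dvd_iff, map_sub,
      PowerSeries.constantCoeff_C, sub_self]
  let F₁ : B →ₐ[A] R'⟦X⟧ ⧸ J ^ 1 :=
    { ((Ideal.Quotient.mk (J ^ 1)).comp PowerSeries.C).comp f₁ with
      commutes' := fun a => by
        show Ideal.Quotient.mk (J ^ 1) (PowerSeries.C (f₁ (algebraMap A B a))) = _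
        rw [show f₁ (algebraMap A B a) = PowerSeries.constantCoeff (c a) from congr($h₁ a), hmk]
        rfl }
  let q : ∀ n, (R'⟦X⟧ ⧸ J ^ (n + 2)) →ₐ[A] R'⟦X⟧ ⧸ J ^ (n + 1) := fun n =>
    Ideal.Quotient.factorₐ A (Ideal.pow_le_pow_right (Nat.le_succ _))
  have hq : ∀ n, Function.Surjective (q n) := fun n => Ideal.Quotient.factor_surjective (Ideal.pow_le_pow_right (Nat.le_succ _))
  have hqn : ∀ n, IsNilpotent (RingHom.ker (q n : (R'⟦X⟧ ⧸ J ^ (n + 2)) →+* R'⟦X⟧ ⧸ J ^ (n + 1))) := fun n => by
    refine ⟨2, ?_⟩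
    have hk : RingHom.ker (q n : (R'⟦X⟧ ⧸ J ^ (n + 2)) →+* R'⟦X⟧ ⧸ J ^ (n + 1)) ≤
        (J ^ (n + 1)).map (Ideal.Quotient.mk (J ^ (n + 2))) := fun z hz => by
      obtain ⟨z, rfl⟩ := Ideal.Quotient.mk_surjective z
      refine Ideal.mem_map_of_mem _ (Ideal.Quotient.eq_zero_iff_mem.1 ?_)
      have : q n (Ideal.Quotient.mk _ z) = 0 := hz
      exact this
    refine le_bot_iff.1 ((Ideal.pow_right_mono hk 2).trans ?_)
    rw [← Ideal.map_pow, ← Ideal.map_quotient_self (J ^ (n + 2)), ← pow_mul]
    exact Ideal.map_mono (Ideal.pow_le_pow_right (by omega))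
  let F : ∀ n, B →ₐ[A] R'⟦X⟧ ⧸ J ^ (n + 1) := fun n =>
    Nat.rec F₁ (fun m g => Algebra.FormallySmooth.liftOfSurjective g (q m) (hq m) (hqn m)) n
  have hF : ∀ n x, q n (F (n + 1) x) = F n x := fun n x =>
    Algebra.FormallySmooth.liftOfSurjective_apply (F n) (q n) (hq n) (hqn n) x
  let fn : ∀ n, B →ₐ[A] R'⟦X⟧ ⧸ J ^ n := fun n =>
    (Ideal.Quotient.factorₐ A (Ideal.pow_le_pow_right (Nat.le_succ n))).comp (F n)
  have hfn : ∀ {m n : ℕ} (hle : m ≤ n),
      (Ideal.Quotient.factorₐ A (Ideal.pow_le_pow_right hle)).comp (fn n) = fn m := by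
    intro m n hle
    induction n, hle using Nat.le_induction with
    | base =>
      refine AlgHom.ext fun x => ?_
      obtain ⟨z, hz⟩ := Ideal.Quotient.mk_surjective (fn m x)
      show Ideal.Quotient.factor (le_refl (J ^ m)) (fn m x) = fn m x
      rw [← hz]
      rfl
    | succ n hmn ih =>
      refine AlgHom.ext fun x => ?_
      rw [← ih]
      show Ideal.Quotient.factor (Ideal.pow_le_pow_right (hmn.trans (Nat.le_succ n)))
          (Ideal.Quotient.factor (Ideal.pow_le_pow_right (Nat.le_succ (n + 1))) (F (n + 1) x)) =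
        Ideal.Quotient.factor (Ideal.pow_le_pow_right hmn)
          (Ideal.Quotient.factor (Ideal.pow_le_pow_right (Nat.le_succ n)) (F n x))
      rw [← hF n x]
      obtain ⟨z, hz⟩ := Ideal.Quotient.mk_surjective (F (n + 1) x)
      rw [← hz]
      rfl
  exact ⟨(IsAdicComplete.liftAlgHom J fn hfn).toRingHom, RingHom.ext fun a => (IsAdicComplete.liftAlgHom J fn hfn).commutes a⟩

/-- Let R be a commutative ring, G an affine smooth group scheme over the power series ring R⟦X⟧ and P a
G-torsor over Spec R⟦X⟧ for the fpqc topology. Then there is an étale and faithfully flat R-algebra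
R' such that P has a section over Spec R'⟦X⟧. (The published statement takes R an algebra over a
field and G the base change to R⟦X⟧ of a smooth affine group scheme over the power series ring of
that field; the statement here allows any affine smooth group scheme over R⟦X⟧, to which the
published proof applies unchanged.) -/
theorem result
    (R : Type u) [CommRing R]
    (G : Over (Spec (CommRingCat.of R⟦X⟧))) [GrpObj G] [IsAffine G.left] [Smooth G.hom]
    (P : Over (Spec (CommRingCat.of R⟦X⟧))) (a : AlgGrp.Action G P)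
    (hP : NonAbH1.IsTorsorFor Scheme.fpqcPrecoverage a) :
    ∃ (R' : Type u) (_ : CommRing R') (_ : Algebra R R'),
      Algebra.Etale R R' ∧ Module.FaithfullyFlat R R' ∧
      NonAbH1.HasSectionOver P (Spec.map (CommRingCat.ofHom (PowerSeries.map (algebraMap R R')))) := by
  have := EtFound.fpqc_isAffineHom.{u}
  have : IsZariskiLocalAtTarget (@Smooth : MorphismProperty Scheme.{u}) :=
    HasRingHomProperty.instIsZariskiLocalAtTarget _
  have : IsZariskiLocalAtTarget (@IsAffineHom : MorphismProperty Scheme.{u}) := by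
    set_option backward.isDefEq.respectTransparency.types false in infer_instance
  have : IsAffineHom P.hom := SchTorsor.torsor_property @IsAffineHom hP (isAffineHom_of_isAffine G.hom)
  have : Smooth P.hom := SchTorsor.torsor_property @Smooth hP inferInstance
  have : Surjective P.hom := SchTorsor.surjective_hom hP
  have : IsAffine P.left := isAffine_of_isAffineHom P.hom
  let s₀ : Spec (CommRingCat.of R) ⟶ Spec (CommRingCat.of R⟦X⟧) :=
    Spec.map (CommRingCat.ofHom PowerSeries.constantCoeff)
  obtain ⟨R', _, _, het, hff, h₀, hh₀⟩ := exists_etale_ff_point (Limits.pullback.snd P.hom s₀)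
  obtain ⟨φ, hφ⟩ := Spec.map_surjective (P.left.isoSpec.inv ≫ P.hom)
  let : Algebra R⟦X⟧ Γ(P.left, ⊤) := φ.hom.toAlgebra
  have : Smooth (Spec.map φ) := by rw [hφ]; infer_instance
  have hsm : Algebra.Smooth R⟦X⟧ Γ(P.left, ⊤) :=
    RingHom.smooth_algebraMap.1 ((HasRingHomProperty.Spec_iff (P := @Smooth)).1 this)
  have : Algebra.FormallySmooth R⟦X⟧ Γ(P.left, ⊤) := hsm.formallySmooth
  obtain ⟨f₁, hf₁⟩ := Spec.map_surjective (h₀ ≫ Limits.pullback.fst P.hom s₀ ≫ P.left.isoSpec.hom)
  have h₁ : f₁.hom.comp φ.hom = PowerSeries.constantCoeff.comp (PowerSeries.map (algebraMap R R')) := by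
    have e : φ ≫ f₁ = CommRingCat.ofHom ((algebraMap R R').comp PowerSeries.constantCoeff) := by
      apply Spec.map_injective
      rw [Spec.map_comp, hf₁, hφ, Category.assoc, Category.assoc, Iso.hom_inv_id_assoc, Limits.pullback.condition,
        reassoc_of% hh₀, ← Spec.map_comp]
      rfl
    rw [← CommRingCat.hom_comp, e]
    refine RingHom.ext fun z => ?_
    show algebraMap R R' (PowerSeries.constantCoeff z) = PowerSeries.constantCoeff (PowerSeries.map (algebraMap R R') z)
    rw [← PowerSeries.coeff_zero_eq_constantCoeff_apply, ← PowerSeries.coeff_zero_eq_constantCoeff_apply,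
      PowerSeries.coeff_map]
  obtain ⟨F, hF⟩ := exists_lift_powerSeries (PowerSeries.map (algebraMap R R')) f₁.hom h₁
  refine ⟨R', inferInstance, inferInstance, het, hff, Spec.map (CommRingCat.ofHom F) ≫ P.left.isoSpec.inv, ?_⟩
  rw [Category.assoc, ← hφ, ← Spec.map_comp]
  congr 1
  exact CommRingCat.hom_ext hF

end Groth.Agent.S19307
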