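import Groth.Statements.S19314
import Groth.Agent.ShStabX.CurveSS
-- import your own Groth.Agent.* helpers here

set_option autoImplicit false
universe u
open CategoryTheory CategoryTheory.Limits AlgebraicGeometry
open DecSh

namespace Groth.Agent.S19314

/-- Let k be an algebraically closed field of characteristic zero, X a reduced proper k-scheme of
dimension one without isolated points, L an ample invertible O_X-module, χ the Euler characteristic
over k and α(M) = χ(M ⊗ L) − χ(M) the multiplicity. Fix δ > 0, integers α and e, natural numbers a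
and b and an O_X-module D. Then the family of coherent O_X-modules F with torsion free stalks, α(F)
= α and χ(F) = e (fixed Hilbert polynomial) for which there is a δ-semistable tensor field of type
(a, b) on F with values in D is bounded: there are a k-scheme T of finite type and a coherent module
on X ×_k T among whose fibres at k-points every member occurs up to isomorphism. (The published
corollary is for a reduced projective curve with D locally free, in a section whose polarisation is
very ample. The bound on the maximal slope that drives the proof uses none of these, and boundedness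
for an ample L follows from the very ample case by passing to a power of L, which rescales all
multiplicities.) -/
theorem result
    (k : Type u) [Field k] [IsAlgClosed k] [CharZero k]
    (X : Scheme.{u}) [X.Over (Spec (CommRingCat.of k))] [IsProper (X ↘ Spec (CommRingCat.of k))]
    [AlgebraicGeometry.IsReduced X] (hdim : topologicalKrullDim X = 1)
    (hpure : ∀ x : X, ¬ IsOpen ({x} : Set X))
    (L : X.Modules) (hL : CohB1.IsAmple L)
    (δ : ℚ) (hδ : 0 < δ) (α e : ℤ) (a b : ℕ) (D : X.Modules) :
    Pic13.IsBounded k X (fun F => Coh.IsCoh F ∧ TorSh.IsTorsionFree F ∧ DecSh.mult k X L F = α ∧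
      Curv2.euler k X F = e ∧ ∃ T : DecSh.TF F a b D, T.IsSemistable k L δ) := by
  have hdim' : topologicalKrullDim X ≤ ((1 : ℕ) : WithBot ℕ∞) := hdim.le.trans (by simp)
  refine Pic13Lib.isBounded_mono k X ?_ (ShStabX.isBounded_fam k hdim' hL
    (ShStabX.isPure_structure k hdim hpure) α e (|(e : ℚ)| + δ * a * |(α : ℚ)|))
  rintro F ⟨hF, htf, hα, he, T, hT⟩
  have hp : ShStab.IsPure X F 1 := ShStabX.isPure_one_of_torsionFree (k := k) hdim hpure htf
  refine ⟨hF, hp, hα, he, fun G ι hι hG hG0 => ?_⟩
  haveI := hι
  obtain ⟨h1, h2⟩ := ShStabX.decMult_mono (k := k) hdim hL hF hp ι hG hG0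
  have h1' : (1 : ℚ) ≤ (DecSh.mult k X L G : ℚ) := by exact_mod_cast h1
  have h2' : (DecSh.mult k X L G : ℚ) ≤ (α : ℚ) := by rw [← hα]; exact_mod_cast h2
  have hδa : (0 : ℚ) ≤ δ * a := by positivity
  have hα1 : (1 : ℚ) ≤ α := h1'.trans h2'
  rw [abs_of_nonneg (show (0 : ℚ) ≤ α by linarith)]
  set mG := (DecSh.mult k X L G : ℚ)
  have q1 : (e : ℚ) ≤ |(e : ℚ)| * mG := (le_abs_self _).trans (le_mul_of_one_le_right (abs_nonneg _) h1')
  have q2 : 0 ≤ δ * a * (α : ℚ) * mG := mul_nonneg (mul_nonneg hδa (by linarith)) (by linarith)
  by_cases hi : IsIso ι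
  · rw [ShStabX.euler_iso (k := k) (asIso ι), he]
    linarith
  · have h := ShStabX.slope_bound hdim hL hF hp T hδ hT ι hG hG0 hi
    rw [hα, he] at h
    have h5 : mG * (e : ℚ) ≤ (α : ℚ) * (|(e : ℚ)| * mG) := by
      calc mG * (e : ℚ) ≤ mG * |(e : ℚ)| := mul_le_mul_of_nonneg_left (le_abs_self _) (by linarith)
        _ = 1 * (|(e : ℚ)| * mG) := by ring
        _ ≤ _ := mul_le_mul_of_nonneg_right hα1 (mul_nonneg (abs_nonneg _) (by linarith))
    have h6 : δ * a * ((α : ℚ) - mG) ≤ (α : ℚ) * ((δ * a * α) * mG) := by
      calc δ * a * ((α : ℚ) - mG) ≤ δ * a * α := mul_le_mul_of_nonneg_left (by linarith) hδa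
        _ = (δ * a) * (1 * α * 1) := by ring
        _ ≤ (δ * a) * (α * α * mG) := by
          refine mul_le_mul_of_nonneg_left ?_ hδa
          exact mul_le_mul (mul_le_mul_of_nonneg_right hα1 (by linarith)) h1' zero_le_one (by positivity)
        _ = _ := by ring
    refine le_of_mul_le_mul_left (a := (α : ℚ)) ?_ (by linarith)
    linarith

end Groth.Agent.S19314
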