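import Groth.Statements.S19316
import Groth.Agent.ShStabX.CurveSS
import Groth.Agent.S19315
import Groth.Agent.Lib.CurvePsi
import Groth.Agent.Lib.InvEnd
-- import your own Groth.Agent.* helpers here

set_option autoImplicit false
universe u
open CategoryTheory CategoryTheory.Limits AlgebraicGeometry
open DecSh

namespace Groth.Agent.S19316

/-- Let k be an algebraically closed field of characteristic zero, Y a smooth proper k-scheme of
dimension one without isolated points (possibly disconnected) and L an ample invertible O_Y-module.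
Fix finitely many effective Cartier ideal sheaves I_1, …, I_ν on Y (the divisors D_i), rational
weights κ_i with 0 < κ_i < 1, δ > 0, natural numbers r, a, b and an integer d. Consider the locally
free O_Y-modules E of rank r and degree d (χ(E) − r·χ(O_Y) = d) for which there exist k-subspaces
K_i ⊂ H⁰(E ⊗ O_{D_i}) with quotients of dimension r and a tensor field of type (a, b) on E with
values in some O_Y-module, (κ, δ)-semistable with respect to L. This family is bounded: there is n₀
such that for every such E and every n ≥ n₀, H¹(Y, E ⊗ L^{⊗n}) = 0 and E ⊗ L^{⊗n} is globally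
generated. (The published statement fixes the target det(E)^{⊗c} ⊗ L' of the tensor field and takes
the D_i to be the pairs of points over the nodes; allowing any target and any effective divisors
gives a larger family, bounded by the same argument.) -/
theorem result
    (k : Type u) [Field k] [IsAlgClosed k] [CharZero k]
    (Y : Scheme.{u}) [Y.Over (Spec (CommRingCat.of k))] [IsProper (Y ↘ Spec (CommRingCat.of k))]
    [Smooth (Y ↘ Spec (CommRingCat.of k))] (hdim : topologicalKrullDim Y = 1)
    (hpure : ∀ y : Y, ¬ IsOpen ({y} : Set Y))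
    (L : Y.Modules) (hL : CohB1.IsAmple L)
    {ν : ℕ} (I : Fin ν → Y.IdealSheafData) (hI : ∀ i, FGA.IsEffCartier (I i))
    (κ : Fin ν → ℚ) (hκ : ∀ i, 0 < κ i ∧ κ i < 1) (δ : ℚ) (hδ : 0 < δ)
    (r a b : ℕ) (d : ℤ) :
    ∃ n₀ : ℕ, ∀ n : ℕ, n₀ ≤ n → ∀ E : Y.Modules,
      (FlatMod.IsFinLocFreeOfRank r E ∧ Curv2.deg k Y E r = d ∧
        ∃ (K : ∀ i, Submodule k (ParSh.fibD Y (I i) E)),
          (∀ i, Module.finrank k (ParSh.fibD Y (I i) E ⧸ K i) = r) ∧
          ∃ (D : Y.Modules) (T : DecSh.TF E a b D), T.IsParSemistable k I K κ L δ) →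
      Subsingleton (Coh.HH Y (CohB1.tensorMod E (CohB1.tensorPow L n)) 1) ∧
        Curv2.IsGloballyGenerated (CohB1.tensorMod E (CohB1.tensorPow L n)) := by
  haveI : AlgebraicGeometry.IsNoetherian Y := CurveCohLib.isNoetherian_of_proper (k := k)
  haveI : AlgebraicGeometry.IsReduced Y := ShStabX.isReduced_smooth (Y ↘ Spec (CommRingCat.of k))
  have hdim' : topologicalKrullDim Y ≤ ((1 : ℕ) : WithBot ℕ∞) := hdim.le.trans (by simp)
  obtain ⟨A, hA⟩ := ShStabX.exists_testFam hL.1
  set e : ℤ := d + (r : ℤ) * Curv2.euler k Y (Coh.structureModule Y) with he_def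
  set α : ℤ := (r : ℤ) * Curv2.deg k Y L 1 with hα_def
  set μ : ℚ := |(e : ℚ)| + ((a : ℚ) * δ + (r : ℚ) * (ν : ℚ)) with hμ_def
  obtain ⟨n₁, hv⟩ := ShStabX.exists_vanish k hdim' hL hA α e μ
  obtain ⟨n₂, hg⟩ := ShStabX.exists_gen k hdim' hL hA α e μ
  refine ⟨max n₁ n₂, fun n hn E hE => ?_⟩
  obtain ⟨hE, hdeg, K, hK, D, T, hT⟩ := hE
  have hEc : Coh.IsCoh E := CurveDeg.isCoh_of_isFinLocFree fun x => let ⟨U, hx, e⟩ := hE x; ⟨U, r, hx, e⟩
  have hp : ShStab.IsPure Y E 1 := ShStabX.isPure_one_of_torsionFree (k := k) hdim hpure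
    (ShStabX.isTorsionFree_of_locFree hE)
  have heq : Curv2.euler k Y E = e := by
    rw [he_def, ← hdeg, Curv2.deg]
    ring
  have hα : DecSh.mult k Y L E = α := by
    have h := CurvePsi.deg_tensor_locFree k (by exact_mod_cast hdim') hE (InvEnd.isFinLocFreeOfRank_one hL.1)
    rw [Nat.mul_one] at h
    rw [hα_def]
    simp only [DecSh.mult]
    simp only [Curv2.deg] at h ⊢
    push_cast at h ⊢
    have h' : Curv2.euler k Y (CohB1.tensorMod E L) = Curv2.euler k Y ((DCoh.tensorBi.obj E).obj L) := rfl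
    linarith
  have hF : ShStabX.Fam k L α e μ E := by
    refine ⟨hEc, hp, hα, heq, fun G ι hι hG hG0 => ?_⟩
    haveI := hι
    have h1 : (1 : ℚ) ≤ DecSh.mult k Y L G := by
      exact_mod_cast ShStabX.mult_pos_sub k hdim' hL hp ι hG hG0
    have hC : 0 ≤ (a : ℚ) * δ + (r : ℚ) * (ν : ℚ) := by positivity
    by_cases hi : IsIso ι
    · rw [ShStabX.euler_iso (k := k) (asIso ι), heq]
      nlinarith [le_abs_self (e : ℚ), abs_nonneg (e : ℚ)]
    · have h := S19315.result k Y hdim hpure L hL E r hE I hI K hK κ hκ T δ hδ hT G ι hG hG0 hi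
      rw [heq, hα] at h
      have h2 : (e : ℚ) / (α : ℚ) ≤ |(e : ℚ)| := by
        have hα1 : (1 : ℚ) ≤ α := by
          exact_mod_cast hα ▸ ShStabX.mult_pos_sub k hdim' hL hp (𝟙 E) hEc
            fun hz => hG0 ((IsZero.iff_id_eq_zero G).2 ((cancel_mono ι).1 (hz.eq_of_tgt _ _)))
        refine (le_abs_self _).trans ?_
        rw [abs_div, abs_of_pos (show (0 : ℚ) < α by linarith)]
        exact div_le_self (abs_nonneg _) hα1
      rw [div_le_iff₀ (by linarith)] at h
      exact h.trans (mul_le_mul_of_nonneg_right (by linarith) (by linarith))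
  refine ⟨hv n (le_of_max_le_left hn) E hF 1 le_rfl, Euler.GG.isGloballyGenerated fun Z g hgz => ?_⟩
  exact hg n (le_of_max_le_right hn) E hF Z g 0 fun φ => (hgz φ).trans Limits.comp_zero.symm

end Groth.Agent.S19316
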