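import Groth.Statements.S19317
import Groth.Agent.ShStabX.CurveSect
-- import your own Groth.Agent.* helpers here

set_option autoImplicit false
universe u
open CategoryTheory CategoryTheory.Limits AlgebraicGeometry
open DecSh

namespace Groth.Agent.S19317

/-- Let k be an algebraically closed field of characteristic zero, X a reduced proper k-scheme of
dimension one without isolated points, and L an ample invertible O_X-module which is moreover very
ample relative to some projective space over k (the pull-back of O(1) along an immersion). Write χ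
for the Euler characteristic over k, M(m) = M ⊗ L^{⊗m}, h⁰(M) = dim_k H⁰(X, M) and α(M) = χ(M ⊗ L) −
χ(M). Fix δ > 0, integers α and e, natural numbers a, b and a finite locally free O_X-module D. Then
there is N₀ such that for every m ≥ N₀, every coherent O_X-module E with torsion free stalks, α(E) =
α and χ(E) = e, and every tensor field T of type (a, b) on E with values in D, the following hold,
all weighted filtrations (F•, m•) being by coherent subsheaves F_i with weights m_i and μ denoting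
μ(F•, m•, φ): (1) T is δ-semistable with respect to L if and only if Σ_i m_i (α · h⁰(F_i(m)) −
α(F_i) · χ(E(m))) + δ μ ≤ 0 for every weighted filtration; (2) T is δ-semistable if and only if Σ_i
m_i (α(E/F_i) · χ(E(m)) − α · h⁰((E/F_i)(m))) + δ μ ≤ 0 for every weighted filtration; (3) if T is
δ-semistable then H¹(X, E(m)) = 0. (Only the semistable version of the published equivalence is
stated; the published setting is a reduced projective curve with a very ample polarisation and a
locally free D, as here.) -/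
theorem result
    (k : Type u) [Field k] [IsAlgClosed k] [CharZero k]
    (X : Scheme.{u}) [X.Over (Spec (CommRingCat.of k))] [IsProper (X ↘ Spec (CommRingCat.of k))]
    [AlgebraicGeometry.IsReduced X] (hdim : topologicalKrullDim X = 1)
    (hpure : ∀ x : X, ¬ IsOpen ({x} : Set X))
    (L : X.Modules) (hL : CohB1.IsAmple L) (hva : RelAmple.IsRelVeryAmplePn (X ↘ Spec (CommRingCat.of k)) L)
    (δ : ℚ) (hδ : 0 < δ) (α e : ℤ) (a b : ℕ) (D : X.Modules) (hD : FlatMod.IsFinLocFree D) :
    ∃ N₀ : ℕ, ∀ m : ℕ, N₀ ≤ m → ∀ (E : X.Modules), Coh.IsCoh E → TorSh.IsTorsionFree E →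
      DecSh.mult k X L E = α → Curv2.euler k X E = e → ∀ T : DecSh.TF E a b D,
        (T.IsSemistable k L δ ↔
          ∀ 𝓕 : DecSh.WFilt E, (∀ i, Coh.IsCoh ((𝓕.piece i : Subobject E) : X.Modules)) →
            (∑ i, 𝓕.wt i * ((α : ℚ) *
                (Module.finrank k (Coh.HH X (ShStab.twist X L ((𝓕.piece i : Subobject E) : X.Modules) m) 0) : ℚ) -
              (DecSh.mult k X L ((𝓕.piece i : Subobject E) : X.Modules) : ℚ) *
                (Curv2.euler k X (ShStab.twist X L E m) : ℚ))) + δ * T.mu k L 𝓕 ≤ 0) ∧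
        (T.IsSemistable k L δ ↔
          ∀ 𝓕 : DecSh.WFilt E, (∀ i, Coh.IsCoh ((𝓕.piece i : Subobject E) : X.Modules)) →
            (∑ i, 𝓕.wt i * ((DecSh.mult k X L (cokernel (𝓕.piece i).arrow) : ℚ) *
                (Curv2.euler k X (ShStab.twist X L E m) : ℚ) -
              (α : ℚ) * (Module.finrank k (Coh.HH X (ShStab.twist X L (cokernel (𝓕.piece i).arrow) m) 0) : ℚ))) +
              δ * T.mu k L 𝓕 ≤ 0) ∧
        (T.IsSemistable k L δ → Subsingleton (Coh.HH X (ShStab.twist X L E m) 1)) := by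
  have hdim' : topologicalKrullDim X ≤ ((1 : ℕ) : WithBot ℕ∞) := hdim.le.trans (by simp)
  haveI : AlgebraicGeometry.IsNoetherian X := CurveCohLib.isNoetherian_of_proper (k := k)
  obtain ⟨μ, N₁, hN⟩ := ShStabX.exists_family_bound k hdim' hL hdim hδ α e a
  obtain ⟨N, hS⟩ := ShStabX.exists_sectional k hdim' hL μ α e a δ |(e : ℚ)| hδ.le
  obtain ⟨A, hA⟩ := ShStabX.exists_testFam hL.1
  obtain ⟨N₂, hV⟩ := ShStabX.exists_vanish k hdim' hL hA α e μ
  refine ⟨max N₁ (max N N₂), fun m hm E hE htf hα he T => ?_⟩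
  have hp := ShStabX.isPure_one_of_torsionFree (k := k) hdim hpure htf
  have hP := InvX.isInvertible_tensorPow hL.1 m
  haveI := AmpleVan.isEquivalence_tw hP
  have hEm : (Curv2.euler k X (ShStab.twist X L E m) : ℚ) = (e : ℚ) + (m : ℚ) * α := by
    rw [ShStabX.euler_twist k hdim' hL.1 hE m, hα, he]
    push_cast
    ring
  have hvan : ∀ hF : ShStabX.Fam k L α e μ E, Subsingleton (Coh.HH X (ShStab.twist X L E m) 1) := fun hF =>
    hV m (le_of_max_le_right (le_of_max_le_right hm)) E hF 1 le_rfl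
  have hss : ∀ 𝓕 : DecSh.WFilt E, T.IsSemistable k L δ →
      (∀ i, Coh.IsCoh ((𝓕.piece i : Subobject E) : X.Modules)) →
      (∑ i, 𝓕.wt i * ((α : ℚ) * (Curv2.euler k X ((𝓕.piece i : Subobject E) : X.Modules) : ℚ) -
        (DecSh.mult k X L ((𝓕.piece i : Subobject E) : X.Modules) : ℚ) * (e : ℚ))) + δ * T.mu k L 𝓕 ≤ 0 := by
    intro 𝓕 hT hcoh
    have h := hT 𝓕 hcoh
    simpa only [DecSh.WFilt.msum, DecSh.TF.mu, hα, he] using h
  have hcoker : ∀ (𝓕 : DecSh.WFilt E), (∀ i, Coh.IsCoh ((𝓕.piece i : Subobject E) : X.Modules)) → ∀ i,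
      (DecSh.mult k X L (cokernel (𝓕.piece i).arrow) : ℚ) =
          (α : ℚ) - DecSh.mult k X L ((𝓕.piece i : Subobject E) : X.Modules) ∧
        (Curv2.euler k X (ShStab.twist X L (cokernel (𝓕.piece i).arrow) m) : ℚ) =
          (e : ℚ) - Curv2.euler k X ((𝓕.piece i : Subobject E) : X.Modules) +
            (m : ℚ) * ((α : ℚ) - DecSh.mult k X L ((𝓕.piece i : Subobject E) : X.Modules)) := by
    intro 𝓕 hcoh i
    have hC := QCoh.isCoh_cokernel (hcoh i).1 hE (𝓕.piece i).arrow
    obtain ⟨h1, h2⟩ := ShStabX.invariants_add k hdim' hL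
      (S := ShortComplex.mk _ _ (cokernel.condition (𝓕.piece i).arrow))
      (.mk' (ShortComplex.exact_of_g_is_cokernel _ (cokernelIsCokernel _)) inferInstance inferInstance) (hcoh i) hE hC
    dsimp only at h1 h2
    rw [ShStabX.euler_twist k hdim' hL.1 hC m, ← hα, ← he, h1, h2]
    push_cast
    constructor <;> ring
  have hchi : ∀ M : X.Modules, (Curv2.euler k X M : ℚ) ≤ (Module.finrank k (Coh.HH X M 0) : ℚ) := fun M => by
    rw [← ShStabX.h0_eq]
    exact_mod_cast ShStabX.euler_le_h0 k hdim' M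
  refine ⟨⟨fun hT 𝓕 hcoh => ?_, fun hsec 𝓕 hcoh => ?_⟩, ⟨fun hT 𝓕 hcoh => ?_, fun hsec 𝓕 hcoh => ?_⟩, fun hT => ?_⟩
  · -- semistability gives sectional semistability
    have hT' := hT
    simp only [DecSh.TF.IsSemistable, hα, he] at hT'
    have h := (hS m (le_of_max_le_left (le_of_max_le_right hm)) E (hN E D b hE hp hα he T (Or.inl hT)) (e : ℚ)
      (fun P => (Curv2.euler k X (P : X.Modules) : ℚ)) le_rfl (fun _ => le_rfl) T.nv hT' 𝓕 hcoh).1
    refine le_trans (le_of_eq ?_) h
    simp only [DecSh.TF.mu, hα, hEm, ← ShStabX.h0_eq, sub_self, sub_zero]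
    refine congrArg (· + _) (Finset.sum_congr rfl fun j _ => ?_)
    ring
  · -- the converse
    refine le_trans ?_ (hsec 𝓕 hcoh)
    simp only [DecSh.WFilt.msum, DecSh.TF.mu, hα, he, hEm]
    refine add_le_add_left (Finset.sum_le_sum fun i _ => mul_le_mul_of_nonneg_left ?_ (𝓕.wt_pos i).le) _
    have h1 := hchi (ShStab.twist X L ((𝓕.piece i : Subobject E) : X.Modules) m)
    rw [ShStabX.euler_twist k hdim' hL.1 (hcoh i) m] at h1
    push_cast at h1
    have hα0 : (0 : ℚ) ≤ α := by exact_mod_cast hα ▸ ShStabX.mult_nonneg k hdim' hL (L := L) hE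
    have := mul_le_mul_of_nonneg_left h1 hα0
    linarith
  · -- semistability gives sectional semistability on quotients
    refine le_trans ?_ (hss 𝓕 hT hcoh)
    refine add_le_add_left (Finset.sum_le_sum fun i _ => mul_le_mul_of_nonneg_left ?_ (𝓕.wt_pos i).le) _
    obtain ⟨h1, h2⟩ := hcoker 𝓕 hcoh i
    have h3 := hchi (ShStab.twist X L (cokernel (𝓕.piece i).arrow) m)
    rw [h2] at h3
    have hα0 : (0 : ℚ) ≤ α := by exact_mod_cast hα ▸ ShStabX.mult_nonneg k hdim' hL (L := L) hE
    have := mul_le_mul_of_nonneg_left h3 hα0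
    rw [h1, hEm]
    linarith
  · -- the converse for quotients
    have hF := hN E D b hE hp hα he T (Or.inr ⟨m, le_of_max_le_left hm, hsec⟩)
    refine le_trans ?_ (hsec 𝓕 hcoh)
    simp only [DecSh.WFilt.msum, DecSh.TF.mu, hα, he]
    refine add_le_add_left (Finset.sum_le_sum fun i _ => mul_le_mul_of_nonneg_left ?_ (𝓕.wt_pos i).le) _
    obtain ⟨h1, h2⟩ := hcoker 𝓕 hcoh i
    haveI : Epi ((AmpleVan.tw (CohB1.tensorPow L m)).map (cokernel.π (𝓕.piece i).arrow)) := Functor.map_epi _ _
    have hS' : (ShortComplex.mk _ _ (kernel.condition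
        ((AmpleVan.tw (CohB1.tensorPow L m)).map (cokernel.π (𝓕.piece i).arrow)))).ShortExact :=
      .mk' (ShortComplex.exact_of_f_is_kernel _ (kernelIsKernel _)) inferInstance inferInstance
    have hQ : Subsingleton (Coh.HH X (ShStab.twist X L (cokernel (𝓕.piece i).arrow) m) 1) :=
      PnCoh.Finite.subsingleton_HH_X₃ hS' 1 (hvan hF) (ShStabX.subsingleton_HH_ge_two k hdim' _ 2 le_rfl)
    have h3 := ShStabX.h0_eq_euler k hdim' hL hQ
    rw [← ShStabX.h0_eq, hEm, h1, show (ShStabX.h0 k (ShStab.twist X L (cokernel (𝓕.piece i).arrow) m) : ℚ) =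
      (Curv2.euler k X (ShStab.twist X L (cokernel (𝓕.piece i).arrow) m) : ℚ) from by exact_mod_cast h3, h2]
    linarith
  · exact hvan (hN E D b hE hp hα he T (Or.inl hT))

end Groth.Agent.S19317
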