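import Groth.Statements.S19318
import Groth.Agent.ShStabX.CurveSect
import Groth.Agent.S19315
import Groth.Agent.Lib.CurvePsi
import Groth.Agent.Lib.InvEnd
-- import your own Groth.Agent.* helpers here

set_option autoImplicit false
universe u
open CategoryTheory CategoryTheory.Limits AlgebraicGeometry
open DecSh

namespace Groth.Agent.S19318

/-- Let k be an algebraically closed field of characteristic zero, Y a smooth proper k-scheme of
dimension one without isolated points (possibly disconnected) and L an ample invertible O_Y-module;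
write χ for the Euler characteristic over k, M(n) = M ⊗ L^{⊗n}, h⁰(M) = dim_k H⁰(Y, M), α(M) = χ(M ⊗
L) − χ(M). Fix effective Cartier ideal sheaves I_1, …, I_ν (divisors D_j), rational weights 0 < κ_j
< 1, δ > 0, natural numbers r, a, b and an integer d. Then there is n₁ such that for every n > n₁
the following holds. Let E be locally free of rank r and degree d (χ(E) − r χ(O_Y) = d) with
k-subspaces K_j ⊂ H⁰(E ⊗ O_{D_j}) whose quotients q_j have dimension r, let T be a tensor field of
type (a, b) on E with values in an O_Y-module D such that (E, K, T) is (κ, δ)-semistable with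
respect to L, and let (E•, m•) be a weighted filtration of E by coherent subsheaves E_i with weights
m_i. For a subsheaf P ⊆ E put c(P) = Σ_j κ_j · dim q_j(image of H⁰(P ⊗ O_{D_j})), so that the
κ-parabolic Euler characteristic is parχ(P) = χ(P) − c(P); put parh⁰(E_i(n)) = h⁰(E_i(n)) − c(E_i)
and parχ(E(n)) = χ(E(n)) − c(E). Then Σ_i m_i (α(E) · parh⁰(E_i(n)) − α(E_i) · parχ(E(n))) + δ ·
μ(E•, m•, φ) ≤ 0, with μ taken in the sign convention where δ-semistability reads 'linear part + δ μ
≤ 0' (the source writes this chapter with the opposite signs). (Only the semistable version is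
stated; the published target of the tensor field is det(E)^{⊗c} ⊗ L' and the D_j are the pairs of
points over the nodes of the curve being normalised — the argument uses neither.) -/
theorem result
    (k : Type u) [Field k] [IsAlgClosed k] [CharZero k]
    (Y : Scheme.{u}) [Y.Over (Spec (CommRingCat.of k))] [IsProper (Y ↘ Spec (CommRingCat.of k))]
    [Smooth (Y ↘ Spec (CommRingCat.of k))] (hdim : topologicalKrullDim Y = 1)
    (hpure : ∀ y : Y, ¬ IsOpen ({y} : Set Y))
    (L : Y.Modules) (hL : CohB1.IsAmple L)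
    {ν : ℕ} (I : Fin ν → Y.IdealSheafData) (hI : ∀ i, FGA.IsEffCartier (I i))
    (κ : Fin ν → ℚ) (hκ : ∀ i, 0 < κ i ∧ κ i < 1) (δ : ℚ) (hδ : 0 < δ)
    (r a b : ℕ) (d : ℤ) :
    ∃ n₁ : ℕ, ∀ n : ℕ, n₁ < n → ∀ (E : Y.Modules), FlatMod.IsFinLocFreeOfRank r E → Curv2.deg k Y E r = d →
      ∀ (K : ∀ i, Submodule k (ParSh.fibD Y (I i) E)),
        (∀ i, Module.finrank k (ParSh.fibD Y (I i) E ⧸ K i) = r) →
        ∀ (D : Y.Modules) (T : DecSh.TF E a b D), T.IsParSemistable k I K κ L δ →
          ∀ 𝓕 : DecSh.WFilt E, (∀ i, Coh.IsCoh ((𝓕.piece i : Subobject E) : Y.Modules)) →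
            (∑ i, 𝓕.wt i *
              ((DecSh.mult k Y L E : ℚ) *
                  ((Module.finrank k (Coh.HH Y (ShStab.twist Y L ((𝓕.piece i : Subobject E) : Y.Modules) n) 0) : ℚ) -
                    ((Curv2.euler k Y ((𝓕.piece i : Subobject E) : Y.Modules) : ℚ) -
                      DecSh.parChi k I K κ (𝓕.piece i).arrow)) -
                (DecSh.mult k Y L ((𝓕.piece i : Subobject E) : Y.Modules) : ℚ) *
                  ((Curv2.euler k Y (ShStab.twist Y L E n) : ℚ) -
                    ((Curv2.euler k Y E : ℚ) - DecSh.parChi k I K κ (𝟙 E))))) +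
              δ * T.mu k L 𝓕 ≤ 0 := by
  haveI : AlgebraicGeometry.IsNoetherian Y := CurveCohLib.isNoetherian_of_proper (k := k)
  haveI : AlgebraicGeometry.IsReduced Y := ShStabX.isReduced_smooth (Y ↘ Spec (CommRingCat.of k))
  have hdim' : topologicalKrullDim Y ≤ ((1 : ℕ) : WithBot ℕ∞) := hdim.le.trans (by simp)
  set e : ℤ := d + (r : ℤ) * Curv2.euler k Y (Coh.structureModule Y) with he_def
  set α : ℤ := (r : ℤ) * Curv2.deg k Y L 1 with hα_def
  set μ : ℚ := |(e : ℚ)| + ((a : ℚ) * δ + (r : ℚ) * (ν : ℚ)) with hμ_def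
  set Cd : ℚ := |(e : ℚ)| + (r : ℚ) * (ν : ℚ) with hCd
  obtain ⟨n₁, hS⟩ := ShStabX.exists_sectional k hdim' hL μ α e a δ Cd hδ.le
  refine ⟨n₁, fun n hn E hE hdeg K hK D T hT 𝓕 hcoh => ?_⟩
  have hEc : Coh.IsCoh E := CurveDeg.isCoh_of_isFinLocFree fun x => let ⟨U, hx, e⟩ := hE x; ⟨U, r, hx, e⟩
  have hp : ShStab.IsPure Y E 1 := ShStabX.isPure_one_of_torsionFree (k := k) hdim hpure
    (ShStabX.isTorsionFree_of_locFree hE)
  have heq : Curv2.euler k Y E = e := by
    rw [he_def, ← hdeg, Curv2.deg]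
    ring
  have hα : DecSh.mult k Y L E = α := by
    have h := CurvePsi.deg_tensor_locFree k (by exact_mod_cast hdim') hE (InvEnd.isFinLocFreeOfRank_one hL.1)
    rw [Nat.mul_one] at h
    rw [hα_def]
    simp only [DecSh.mult]
    simp only [Curv2.deg] at h ⊢
    push_cast at h ⊢
    have h' : Curv2.euler k Y (CohB1.tensorMod E L) = Curv2.euler k Y ((DCoh.tensorBi.obj E).obj L) := rfl
    linarith
  have hr : 0 < r := by
    by_contra h0
    obtain rfl : r = 0 := by omega
    have hEz : IsZero E := CurveCohLib.isZero_of_subsingleton_stalks fun x => by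
      obtain ⟨b⟩ := CurveTensor.exists_basis_stalk hE x
      exact b.equivFun.toEquiv.subsingleton
    refine 𝓕.piece_nonzero ⟨0, 𝓕.t_pos⟩ ((IsZero.iff_id_eq_zero _).2 ?_)
    rw [← cancel_mono (𝓕.piece ⟨0, 𝓕.t_pos⟩).arrow]
    exact hEz.eq_of_tgt _ _
  have hF : ShStabX.Fam k L α e μ E := by
    refine ⟨hEc, hp, hα, heq, fun G ι hι hG hG0 => ?_⟩
    haveI := hι
    have h1 : (1 : ℚ) ≤ DecSh.mult k Y L G := by
      exact_mod_cast ShStabX.mult_pos_sub k hdim' hL hp ι hG hG0
    have hC : 0 ≤ (a : ℚ) * δ + (r : ℚ) * (ν : ℚ) := by positivity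
    by_cases hi : IsIso ι
    · rw [ShStabX.euler_iso (k := k) (asIso ι), heq]
      nlinarith [le_abs_self (e : ℚ), abs_nonneg (e : ℚ)]
    · have h := S19315.result k Y hdim hpure L hL E r hE I hI K hK κ hκ T δ hδ hT G ι hG hG0 hi
      rw [heq, hα] at h
      have h2 : (e : ℚ) / (α : ℚ) ≤ |(e : ℚ)| := by
        have hα1 : (1 : ℚ) ≤ α := by
          exact_mod_cast hα ▸ ShStabX.mult_pos_sub k hdim' hL hp (𝟙 E) hEc
            fun hz => hG0 ((IsZero.iff_id_eq_zero G).2 ((cancel_mono ι).1 (hz.eq_of_tgt _ _)))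
        refine (le_abs_self _).trans ?_
        rw [abs_div, abs_of_pos (show (0 : ℚ) < α by linarith)]
        exact div_le_self (abs_nonneg _) hα1
      rw [div_le_iff₀ (by linarith)] at h
      exact h.trans (mul_le_mul_of_nonneg_right (by linarith) (by linarith))
  have hsub : ∀ {F : Y.Modules} (ι : F ⟶ E), DecSh.parChi k I K κ ι ≤ (Curv2.euler k Y F : ℚ) := fun ι => by
    rw [DecSh.parChi, sub_le_self_iff]
    exact Finset.sum_nonneg fun i _ => mul_nonneg (hκ i).1.le (Nat.cast_nonneg _)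
  have hdE : |DecSh.parChi k I K κ (𝟙 E)| ≤ Cd := by
    have hup := hsub (𝟙 E)
    have hlow : (e : ℚ) - (r : ℚ) * (ν : ℚ) ≤ DecSh.parChi k I K κ (𝟙 E) := by
      rw [DecSh.parChi, heq]
      refine sub_le_sub_left ?_ _
      rw [show ((r : ℚ) * (ν : ℚ)) = ∑ _i : Fin ν, (r : ℚ) from by simp [Finset.sum_const, mul_comm]]
      refine Finset.sum_le_sum fun i _ => ?_
      haveI : FiniteDimensional k (ParSh.fibD Y (I i) E ⧸ K i) := Module.finite_of_finrank_pos (by rw [hK i]; exact hr)
      calc κ i * _ ≤ 1 * _ := mul_le_mul_of_nonneg_right (hκ i).2.le (Nat.cast_nonneg _)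
        _ ≤ (r : ℚ) := by
          rw [one_mul]
          exact_mod_cast (Submodule.finrank_le _).trans_eq (hK i)
    rw [heq] at hup
    have hν : (0 : ℚ) ≤ (r : ℚ) * (ν : ℚ) := by positivity
    rw [hCd, abs_le]
    constructor <;> linarith [le_abs_self (e : ℚ), neg_abs_le (e : ℚ)]
  have hT' := hT
  simp only [DecSh.TF.IsParSemistable, hα] at hT'
  have h := (hS n hn.le E hF (DecSh.parChi k I K κ (𝟙 E)) (fun P => DecSh.parChi k I K κ P.arrow) hdE
    (fun P => hsub P.arrow) T.nv hT' 𝓕 hcoh).1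
  refine le_trans (le_of_eq ?_) h
  simp only [DecSh.TF.mu, hα, heq, ← ShStabX.h0_eq, ShStabX.euler_twist k hdim' hL.1 hEc n,
    Int.cast_add, Int.cast_mul, Int.cast_natCast]
  refine congrArg (· + _) (Finset.sum_congr rfl fun j _ => ?_)
  ring

end Groth.Agent.S19318
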