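import Groth.Statements.S19321
import Groth.Agent.ShStabX.CurveSect
-- import your own Groth.Agent.* helpers here

set_option autoImplicit false
universe u
open CategoryTheory CategoryTheory.Limits AlgebraicGeometry
open DecSh

namespace Groth.Agent.S19321

/-- Let k be an algebraically closed field of characteristic zero, X a reduced proper k-scheme of
dimension one without isolated points, and L an ample invertible O_X-module which is very ample
relative to some projective space over k; write χ for the Euler characteristic over k, M(m) = M ⊗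
L^{⊗m}, h⁰(M) = dim_k H⁰(X, M), α(M) = χ(M ⊗ L) − χ(M). Fix δ > 0, integers α and e, natural numbers
a, b and a finite locally free O_X-module D. Then there is N₁ such that for every rational number C
the following family of coherent O_X-modules F′ is bounded: F′ admits a monomorphism with torsion
free cokernel (a saturated subsheaf) into some coherent F with torsion free stalks, α(F) = α, χ(F) =
e, which carries a tensor field T of type (a, b) with values in D that is δ-semistable with respect
to L or satisfies for some m ≥ N₁ the quotient sectional condition Σ_i m_i (α(F/F_i) · χ(F(m)) − α ·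
h⁰((F/F_i)(m))) + δ μ ≤ 0 for all weighted filtrations of F by coherent subsheaves; and |χ(F′) −
α(F′) · (e − aδ)/α| ≤ C. (The last condition is the source's |deg F′ − α(F′) μ_s| ≤ C with μ_s =
(deg F − aδ)/α, rewritten through χ: the correction terms by the rational rank cancel. The published
setting is a reduced projective curve with a very ample polarisation and a locally free D, as here.) -/
theorem result
    (k : Type u) [Field k] [IsAlgClosed k] [CharZero k]
    (X : Scheme.{u}) [X.Over (Spec (CommRingCat.of k))] [IsProper (X ↘ Spec (CommRingCat.of k))]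
    [AlgebraicGeometry.IsReduced X] (hdim : topologicalKrullDim X = 1)
    (hpure : ∀ x : X, ¬ IsOpen ({x} : Set X))
    (L : X.Modules) (hL : CohB1.IsAmple L) (hva : RelAmple.IsRelVeryAmplePn (X ↘ Spec (CommRingCat.of k)) L)
    (δ : ℚ) (hδ : 0 < δ) (α e : ℤ) (a b : ℕ) (D : X.Modules) (hD : FlatMod.IsFinLocFree D) :
    ∃ N₁ : ℕ, ∀ C : ℚ, Pic13.IsBounded k X (fun F' => Coh.IsCoh F' ∧
      (∃ (F : X.Modules) (ι : F' ⟶ F), Mono ι ∧ TorSh.IsTorsionFree (cokernel ι) ∧
        Coh.IsCoh F ∧ TorSh.IsTorsionFree F ∧ DecSh.mult k X L F = α ∧ Curv2.euler k X F = e ∧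
          ∃ T : DecSh.TF F a b D, (T.IsSemistable k L δ ∨ ∃ m : ℕ, N₁ ≤ m ∧
            ∀ 𝓕 : DecSh.WFilt F, (∀ i, Coh.IsCoh ((𝓕.piece i : Subobject F) : X.Modules)) →
              (∑ i, 𝓕.wt i * ((DecSh.mult k X L (cokernel (𝓕.piece i).arrow) : ℚ) *
                  (Curv2.euler k X (ShStab.twist X L F m) : ℚ) -
                (α : ℚ) * (Module.finrank k (Coh.HH X (ShStab.twist X L (cokernel (𝓕.piece i).arrow) m) 0) : ℚ))) +
                δ * T.mu k L 𝓕 ≤ 0)) ∧
      |(Curv2.euler k X F' : ℚ) - (DecSh.mult k X L F' : ℚ) * (((e : ℚ) - (a : ℚ) * δ) / (α : ℚ))| ≤ C) := by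
  have hdim' : topologicalKrullDim X ≤ ((1 : ℕ) : WithBot ℕ∞) := hdim.le.trans (by simp)
  obtain ⟨μ, N₁, hN⟩ := ShStabX.exists_family_bound k hdim' hL hdim hδ α e a
  refine ⟨N₁, fun C => ?_⟩
  set c : ℚ := ((e : ℚ) - (a : ℚ) * δ) / (α : ℚ)
  set M : ℕ := ⌈|C| + |(α : ℚ)| * |c|⌉₊ with hM
  refine Pic13Lib.isBounded_mono k X ?_ (ShStabX.isBounded_fam_finset k hdim' hL
    (ShStabX.isPure_structure k hdim hpure)
    (Finset.Icc (0 : ℤ) α ×ˢ Finset.Icc (-(M : ℤ)) (M : ℤ)) μ)
  rintro F' ⟨hF', ⟨F, ι, hι, -, hF, htf, hα, he, T, hT⟩, hC⟩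
  haveI := hι
  haveI : AlgebraicGeometry.IsNoetherian X := CurveCohLib.isNoetherian_of_proper (k := k)
  obtain ⟨-, hp, -, -, hs⟩ := hN F D b hF (ShStabX.isPure_one_of_torsionFree (k := k) hdim hpure htf) hα he T hT
  have h0 := ShStabX.mult_nonneg k hdim' hL (L := L) hF'
  have hle : DecSh.mult k X L F' ≤ α := by
    by_cases hz : IsZero F'
    · have : DecSh.mult k X L F' = 0 :=
        (HilbPoly.additive_lead (HilbPoly.additive_euler k) hL.1 1).zero_of_isZero hz
      have := ShStabX.mult_nonneg k hdim' hL (L := L) hF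
      omega
    · exact hα ▸ (ShStabX.mult_sub_bounds k hdim' hL hF hp ι hF' hz).2
  have h0' : (0 : ℚ) ≤ DecSh.mult k X L F' := by exact_mod_cast h0
  have hle' : (DecSh.mult k X L F' : ℚ) ≤ |(α : ℚ)| := le_trans (by exact_mod_cast hle) (le_abs_self _)
  have hχ : |(Curv2.euler k X F' : ℚ)| ≤ (M : ℚ) := by
    refine le_trans ?_ (Nat.le_ceil _)
    have h1 : |(DecSh.mult k X L F' : ℚ) * c| ≤ |(α : ℚ)| * |c| := by
      rw [abs_mul, abs_of_nonneg h0']
      exact mul_le_mul_of_nonneg_right hle' (abs_nonneg _)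
    calc |(Curv2.euler k X F' : ℚ)| = |((Curv2.euler k X F' : ℚ) - (DecSh.mult k X L F' : ℚ) * c) +
          (DecSh.mult k X L F' : ℚ) * c| := by rw [sub_add_cancel]
      _ ≤ _ := abs_add_le _ _
      _ ≤ |C| + |(α : ℚ)| * |c| := add_le_add (hC.trans (le_abs_self C)) h1
  have hχ' : |Curv2.euler k X F'| ≤ (M : ℤ) := by exact_mod_cast hχ
  refine ⟨(DecSh.mult k X L F', Curv2.euler k X F'), Finset.mem_product.2
    ⟨Finset.mem_Icc.2 ⟨h0, hle⟩, Finset.mem_Icc.2 (abs_le.1 hχ')⟩, hF', ?_, rfl, rfl, ?_⟩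
  · intro G j hj hG hG0
    haveI := hj
    exact hp G (j ≫ ι) inferInstance hG hG0
  · intro G j hj hG hG0
    haveI := hj
    exact hs G (j ≫ ι) inferInstance hG hG0

end Groth.Agent.S19321
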