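import Groth.Statements.S19323
-- import your own Groth.Agent.* helpers here

set_option autoImplicit false
universe v u
open CategoryTheory CategoryTheory.Limits
open SpSeq

namespace Groth.Agent.S19323

/-- In an abelian category let E and E' be first-quadrant E₂ cohomological spectral sequences and φ : E
⟶ E' a morphism of spectral sequences such that (i) every differential of E' leaving a position
whose first coordinate is nonzero vanishes, (ii) on every page the map φ at each position followed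
by the outgoing differential of E' is zero, and (iii) φ is a monomorphism at every position of page
2. Then E degenerates at page 2. -/
theorem result
    {C : Type u} [Category.{v} C] [Abelian C]
    (E E' : E₂CohomologicalSpectralSequence C) (φ : E ⟶ E')
    (hE : ∀ pq : ℤ × ℤ, pq.1 < 0 ∨ pq.2 < 0 → IsZero ((E.page 2 le_rfl).X pq))
    (hE' : ∀ pq : ℤ × ℤ, pq.1 < 0 ∨ pq.2 < 0 → IsZero ((E'.page 2 le_rfl).X pq))
    (hd' : ∀ (r : ℤ) (hr : 2 ≤ r) (pq : ℤ × ℤ), pq.1 ≠ 0 →
      (E'.page r hr).d pq (pq + (r, 1 - r)) = 0)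
    (hφd : ∀ (r : ℤ) (hr : 2 ≤ r) (pq : ℤ × ℤ),
      (φ.hom r hr).f pq ≫ (E'.page r hr).d pq (pq + (r, 1 - r)) = 0)
    (hmono : ∀ pq : ℤ × ℤ, Mono ((φ.hom 2 le_rfl).f pq)) :
    SpSeq.Degenerates E 2 := by
  have hcl : ∀ (r : ℤ) (pq i : ℤ × ℤ), (ComplexShape.up' ((r, 1 - r) : ℤ × ℤ)).Rel i pq →
      i = pq - (r, 1 - r) := fun r pq i hi => eq_sub_of_add_eq hi
  have hd0 : ∀ (r : ℤ) (hr : 2 ≤ r), (∀ x : ℤ × ℤ, r ≤ x.1 → Mono ((φ.hom r hr).f x)) →
      (∀ pq : ℤ × ℤ, pq.1 < 0 → IsZero ((E.page r hr).X pq)) → ∀ x y : ℤ × ℤ, (E.page r hr).d x y = 0 := by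
    intro r hr hm hz x y
    by_cases h : x + (r, 1 - r) = y
    · subst h
      by_cases hx : x.1 < 0
      · exact (hz x hx).eq_of_src _ _
      · have := hm (x + (r, 1 - r)) (by simp only [Prod.fst_add]; omega)
        rw [← cancel_mono ((φ.hom r hr).f (x + (r, 1 - r))), zero_comp, ← HomologicalComplex.Hom.comm]
        exact hφd r hr x
    · exact (E.page r hr).shape _ _ h
  have key : ∀ k : ℕ, (∀ x : ℤ × ℤ, (2 + k : ℤ) ≤ x.1 → Mono ((φ.hom (2 + k) (by omega)).f x)) ∧
      ∀ x : ℤ × ℤ, x.1 < 0 → IsZero ((E.page (2 + k) (by omega)).X x) := by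
    intro k
    induction k with
    | zero => exact ⟨fun x _ => hmono x, fun x hx => hE x (Or.inl hx)⟩
    | succ k ih =>
      let r : ℤ := 2 + k
      have hr : 2 ≤ r := by omega
      have hd := hd0 r hr ih.1 ih.2
      obtain ⟨s, hs⟩ : ∃ s, s = (2 + (k + 1 : ℕ) : ℤ) := ⟨_, rfl⟩
      have hrs : r + 1 = s := by omega
      suffices (∀ x : ℤ × ℤ, s ≤ x.1 → Mono ((φ.hom s (by omega)).f x)) ∧
          ∀ x : ℤ × ℤ, x.1 < 0 → IsZero ((E.page s (by omega)).X x) by subst hs; exact this
      refine ⟨fun x hx => ?_, fun x hx => ?_⟩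
      · have hd'' : (E'.page r hr).d (x - (r, 1 - r)) x = 0 := by
          have := hd' r hr (x - (r, 1 - r)) (by simp only [Prod.fst_sub]; omega)
          rwa [sub_add_cancel] at this
        have := (E.page r hr).isIso_homologyπ (x - (r, 1 - r)) x
          ((ComplexShape.up' ((r, 1 - r) : ℤ × ℤ)).prev_eq' (by simp)) (hd _ _)
        have := (E'.page r hr).isIso_homologyπ (x - (r, 1 - r)) x
          ((ComplexShape.up' ((r, 1 - r) : ℤ × ℤ)).prev_eq' (by simp)) hd''
        have : Mono ((φ.hom r hr).f x) := ih.1 x (by omega)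
        have hc : Mono (HomologicalComplex.cyclesMap (φ.hom r hr) x) := ⟨fun {Z} g h e => by
          rw [← cancel_mono ((E.page r hr).iCycles x), ← cancel_mono ((φ.hom r hr).f x), Category.assoc,
            Category.assoc, ← HomologicalComplex.cyclesMap_i, reassoc_of% e]⟩
        have hh : Mono (HomologicalComplex.homologyMap (φ.hom r hr) x) := by
          rw [show HomologicalComplex.homologyMap (φ.hom r hr) x = inv ((E.page r hr).homologyπ x) ≫
            HomologicalComplex.cyclesMap (φ.hom r hr) x ≫ (E'.page r hr).homologyπ x by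
              rw [IsIso.eq_inv_comp]; exact HomologicalComplex.homologyπ_naturality (φ.hom r hr) x]
          infer_instance
        have : Mono ((E.iso r s x hrs hr).hom ≫ (φ.hom s (by omega)).f x) := by
          rw [← SpectralSequence.Hom.comm φ r s x hrs hr]; infer_instance
        have e : (φ.hom s (by omega)).f x = (E.iso r s x hrs hr).inv ≫
            ((E.iso r s x hrs hr).hom ≫ (φ.hom s (by omega)).f x) := by simp
        rw [e]
        infer_instance
      · exact (HomologicalComplex.ExactAt.of_isZero (ih.2 x hx)).isZero_homology.of_iso (E.iso r s x hrs hr).symm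
  refine ⟨le_rfl, fun r hr _ x y => ?_⟩
  obtain ⟨k, rfl⟩ : ∃ k : ℕ, r = 2 + k := ⟨(r - 2).toNat, by omega⟩
  exact hd0 _ hr (key k).1 (key k).2 x y

end Groth.Agent.S19323
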