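import Groth.Statements.S19331
import Groth.Agent.MdlA1.FinExtend

set_option autoImplicit false
universe u
open CategoryTheory CategoryTheory.Limits AlgebraicGeometry TopologicalSpace
open ModPair

namespace Groth.Agent.S19331

/-- Let (S, I) be a modulus pair, i.e. a scheme with the quasi-coherent ideal sheaf of an effective
Cartier divisor, with S quasi-compact and quasi-separated and with interior U, and let t₀ : T₀ ⟶ U
be a finite surjective morphism. Then there are a finite surjective morphism t : T ⟶ S such that the
pulled-back modulus I.comap t is again the ideal sheaf of an effective Cartier divisor, making T ⟶ S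
a minimal morphism of modulus pairs, and an open immersion j : T₀ ⟶ T with image t⁻¹(U) and j ≫ t =
t₀ ≫ (U ⟶ S), so that t₀ is the interior of t. -/
theorem result {S : Scheme.{u}}
    [CompactSpace S] [QuasiSeparatedSpace S] (I : S.IdealSheafData)
    (hI : BlowUp.IsEffCartierIdeal I) {T₀ : Scheme.{u}}
    (t₀ : T₀ ⟶ (ModPair.interior I : Scheme.{u})) [IsFinite t₀] [Surjective t₀] :
    ∃ (T : Scheme.{u}) (t : T ⟶ S) (j : T₀ ⟶ T), IsFinite t ∧ Surjective t ∧
      BlowUp.IsEffCartierIdeal (I.comap t) ∧ IsOpenImmersion j ∧
      Set.range j.base = t.base ⁻¹' (ModPair.interior I : Set S) ∧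
      j ≫ t = t₀ ≫ (ModPair.interior I).ι := by
  have := ModPairLib.isAffineHom_interior (ModPairLib.isLocPrincipal_of_isEffCartier hI)
  have := ModPairLib.isSchemeTheoreticallyDominant_interior hI
  obtain ⟨T, t, j, ht, hj, hjd, hrange, hcomm⟩ := MdlA1.FinExtend.exists_finite_extend (ModPair.interior I) t₀
  refine ⟨T, t, j, ht, ?_, ?_, hj, hrange, hcomm⟩
  · refine ⟨Set.range_eq_univ.mp ?_⟩
    have hsub : (ModPair.interior I : Set S) ⊆ Set.range t := by
      intro y hy
      obtain ⟨x, hx⟩ := t₀.surjective ⟨y, hy⟩
      refine ⟨j x, ?_⟩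
      show (j ≫ t) x = y
      rw [hcomm]
      exact congrArg Subtype.val hx
    refine Set.eq_univ_of_univ_subset ?_
    rw [← t.isClosedMap.isClosed_range.closure_eq]
    refine subset_trans ?_ (closure_mono hsub)
    have := (ModPair.interior I).ι.denseRange.closure_range
    rw [Scheme.Opens.range_ι] at this
    rw [this]
  · let V : T.Opens := t ⁻¹ᵁ ModPair.interior I
    haveI : IsAffineHom V.ι :=
      MorphismProperty.of_isPullback (P := @IsAffineHom) (isPullback_morphismRestrict t (ModPair.interior I)) inferInstance
    haveI : IsSchemeTheoreticallyDominant V.ι := by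
      refine ⟨le_bot_iff.mp ?_⟩
      have hr : Set.range j ⊆ Set.range V.ι := by
        rw [Scheme.Opens.range_ι]
        exact hrange.le
      calc V.ι.ker ≤ (IsOpenImmersion.lift V.ι j hr ≫ V.ι).ker := Scheme.Hom.le_ker_comp _ _
        _ = ⊥ := by rw [IsOpenImmersion.lift_fac, hjd.ker_eq_bot]
    refine ModPairLib.isEffCartier_of_dense
      (ModPairLib.IsLocPrincipal.comap (ModPairLib.isLocPrincipal_of_isEffCartier hI) t) V ?_
    exact (ModPairLib.preimage_interior I t).le

end Groth.Agent.S19331
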