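import Groth.Statements.S19336
import Groth.Agent.MdlA1.ZarExtend

set_option autoImplicit false
universe u
open CategoryTheory CategoryTheory.Limits AlgebraicGeometry TopologicalSpace
open ModPair

set_option linter.style.haveILetI false

namespace Groth.Agent.S19336

/-- Let (S, I) be a modulus pair, i.e. a scheme S with the quasi-coherent ideal sheaf I of an effective
Cartier divisor, with S quasi-compact and quasi-separated and with interior U, and let (V_i) be a
covering of U by quasi-compact open subsets. Then there are a quasi-coherent ideal sheaf F of finite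
type on S whose support is disjoint from U, a blow-up b : Y ⟶ S of S in F (an admissible blow-up)
such that I.comap b is again the ideal sheaf of an effective Cartier divisor, and a covering of Y by
quasi-compact open subsets W_j such that each W_j ∩ b⁻¹(U) is contained in b⁻¹(V_i) for some i: the
Zariski covering of the interior extends, after an admissible blow-up, to a Zariski covering of the
total space. -/
theorem result {S : Scheme.{u}}
    [CompactSpace S] [QuasiSeparatedSpace S] (I : S.IdealSheafData)
    (hI : BlowUp.IsEffCartierIdeal I) {ι : Type u} (V : ι → S.Opens)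
    (hVU : ∀ i, V i ≤ ModPair.interior I) (hVqc : ∀ i, IsCompact (V i : Set S))
    (hcov : ModPair.interior I ≤ ⨆ i, V i) :
    ∃ (F : S.IdealSheafData) (Y : Scheme.{u}) (b : Y ⟶ S) (κ : Type u) (W : κ → Y.Opens),
      BlowUp.IsAdmissibleFor (ModPair.interior I) F ∧ BlowUp.IsBlowUp b F ∧
        BlowUp.IsEffCartierIdeal (I.comap b) ∧ (∀ k, IsCompact (W k : Set Y)) ∧
        (⨆ k, W k) = ⊤ ∧ ∀ k, ∃ i, W k ⊓ b ⁻¹ᵁ ModPair.interior I ≤ b ⁻¹ᵁ V i := by
  classical
  haveI := ModPairLib.isAffineHom_interior (ModPairLib.isLocPrincipal_of_isEffCartier hI)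
  haveI : CompactSpace (ModPair.interior I : Scheme.{u}) :=
    QuasiCompact.compactSpace_of_compactSpace (ModPair.interior I).ι
  have hc : IsCompact (ModPair.interior I : Set S) :=
    isCompact_iff_compactSpace.mpr (inferInstanceAs (CompactSpace (ModPair.interior I : Scheme.{u})))
  obtain ⟨t, ht⟩ := hc.elim_finite_subcover (fun i => (V i : Set S)) (fun i => (V i).isOpen)
    (fun x hx => by
      obtain ⟨i, hi⟩ := Opens.mem_iSup.mp (hcov hx)
      exact Set.mem_iUnion.mpr ⟨i, hi⟩)
  have hVU' : (⨆ i : t, V i.1) = ModPair.interior I := by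
    refine le_antisymm (iSup_le fun i => hVU i.1) fun x hx => ?_
    obtain ⟨i, hi, hxi⟩ := Set.mem_iUnion₂.mp (ht hx)
    exact Opens.mem_iSup.mpr ⟨⟨i, hi⟩, hxi⟩
  obtain ⟨F, hF, hF'⟩ := MdlA1.ZarExtend.exists_cover (ModPair.interior I) (fun i : t => V i.1)
    (fun i => hVqc i.1) hVU'
  obtain ⟨Y, b, hb⟩ := BlowUpLib.exists_blowUp F
  choose W hyW j hj using hF' Y b hb
  refine ⟨F, Y, b, Y, fun y => (W y).1, hF, hb, ModPairLib.isEffCartier_comap_blowUp hb hI,
    fun y => (W y).2.isCompact, eq_top_iff.mpr fun y _ => Opens.mem_iSup.mpr ⟨y, hyW y⟩,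
    fun y => ⟨(j y).1, hj y⟩⟩

end Groth.Agent.S19336
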