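import Groth.Statements.S19353
import Groth.Agent.NumSurf32.Quick
import Groth.Agent.SurfInt.Nef

set_option autoImplicit false
universe u
open CategoryTheory CategoryTheory.Limits AlgebraicGeometry
open Surf

namespace Groth.Agent.S19353

/-- Let k be an algebraically closed field and X a nonsingular projective surface over k, namely an
integral scheme, smooth over k, of dimension two, given with a closed immersion ι into a projective
space P^n_k over k, and let H = ι^* O(1) be the invertible module of a hyperplane section. For every
invertible O_X-module L (the module of a divisor D), if (L·H) = 0 then (L·L) ≤ 0. Here (A·B) denotes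
the intersection number of two invertible modules, the alternating sum χ(O_X) − χ(A) − χ(B) + χ(A ⊗
B) of Euler characteristics (cohomology in degrees at most two); for two invertible modules this
agrees with the same sum formed from their inverses. -/
theorem result (k : Type u) [Field k] [IsAlgClosed k]
    (X : Scheme.{u}) [X.Over (Spec (CommRingCat.of k))] [AlgebraicGeometry.IsIntegral X]
    [Smooth (X ↘ Spec (CommRingCat.of k))] (hdim : topologicalKrullDim X = 2)
    (n : ℕ) (ι : X ⟶ CohB1.ProjSpace n k) [IsClosedImmersion ι]
    (hι : ι ≫ CohB1.ProjSpace.toSpec n k = X ↘ Spec (CommRingCat.of k))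
    (L : X.Modules) (hL : PicF.IsInvertible L)
    (horth : FGA.intNum k X 2 ![L, (Scheme.Modules.pullback ι).obj (Twist.twistProjSpace n k 1)] (Coh.structureModule X) = 0) :
    FGA.intNum k X 2 ![L, L] (Coh.structureModule X) ≤ 0 := by
  haveI := Groth.Agent.SurfInt.isProper_of_projective k inferInstance hι
  have hH := Groth.Agent.NumSurf32.isAmple_hyperplane k ι
  have hd := Groth.Agent.NumSurf32.dim_le_two (X := X) hdim
  rw [Groth.Agent.SurfInt.intNum_eq_pair k hd hL hH.1, Groth.Agent.SurfInt.pair_comm] at horth
  rw [Groth.Agent.SurfInt.intNum_eq_pair k hd hL hL]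
  exact Groth.Agent.SurfInt.hodge_index k hd hH hH.1 hL
    (Groth.Agent.SurfInt.pair_self_pos_of_ample k hdim hH) horth

end Groth.Agent.S19353
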