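import Groth.Statements.S1936
import Groth.Agent.GrpdFld.Shear
import Groth.Agent.CMOpen5.Open
import Groth.Agent.GrpSchLib.FieldTop
import Groth.Agent.S1342
import Groth.Agent.GrpdLib.DegDecomp

set_option autoImplicit false
set_option backward.isDefEq.respectTransparency false
set_option backward.isDefEq.respectTransparency.types false
universe u
open CategoryTheory CategoryTheory.Limits AlgebraicGeometry
open Grpd

namespace Groth.Agent.S1936

theorem isCMAt_iff {X Y : Scheme.{u}} (f : X ⟶ Y) (x : X) :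
    Grpd.IsCMAt f x ↔ MoreMor.IsCMAt f x :=
  (Triage.CMMor.isCMAt_iff f x).symm

/-- A maximal point of a fibre of a flat morphism is a Cohen-Macaulay point. -/
theorem exists_isCMAt {X Y : Scheme.{u}} (f : X ⟶ Y) [LocallyOfFiniteType f] [Flat f] (y : Y)
    (hy : y ∈ Set.range f) : ∃ x, f x = y ∧ MoreMor.IsCMAt f x := by
  obtain ⟨a, ha⟩ := hy
  subst ha
  obtain ⟨c, hc, -⟩ := GrpSchLib.exists_isMaxPt (f.asFiber a)
  let x : X := f.fiberι (f a) c
  have hfx : f x = f a := by
    have : x ∈ Set.range (f.fiberι (f a)) := ⟨c, rfl⟩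
    rwa [Scheme.Hom.range_fiberι] at this
  refine ⟨x, hfx, (Triage.CMMor.isCMAt_iff_sm f x (f a) hfx).mpr ⟨?_, ?_⟩⟩
  · have := Flat.stalkMap f x
    revert this
    generalize f a = s at hfx ⊢
    subst hfx
    rw [FibFlat.sm_self]
    exact id
  · refine (Triage.CMMor.isCM_congr
      (Triage.CMMor.exists_equiv_fibre_stalk_aux f x (f a) hfx c rfl).some).mpr ?_
    haveI : IsLocallyNoetherian (f.fiber (f a)) :=
      LocallyOfFiniteType.isLocallyNoetherian (f.fiberToSpecResidueField (f a))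
    let j := (f.fiber (f a)).fromSpecStalk c
    have key : ∀ z, j z = c := fun z => hc _ (by
      have := Set.mem_range_self (f := j) z
      rwa [Scheme.range_fromSpecStalk] at this)
    have hsub : Subsingleton (PrimeSpectrum ((f.fiber (f a)).presheaf.stalk c)) :=
      ⟨fun p q => j.isEmbedding.injective ((key p).trans (key q).symm)⟩
    refine LC.Canon.isCMLocal_of_dim_zero ?_
    exact le_antisymm Order.krullDim_nonpos_of_subsingleton ringKrullDim_nonneg_of_nontrivial

/-- Let (U, R, s, t, c) be a groupoid scheme over S with s, t flat and locally of finite presentation.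
There is an open U' ⊆ U such that t⁻¹(U') is exactly the set of points of R at which s is
Cohen–Macaulay, s⁻¹(U') is exactly the set of points at which t is Cohen–Macaulay, and both t
restricted to s⁻¹(U') and s restricted to t⁻¹(U') are surjective onto U. (Part (5), that the
restriction of R to U' is a groupoid with Cohen–Macaulay s', t', then follows and is not restated.)
Cohen–Macaulay at a point: flat there with Cohen–Macaulay fibre local ring (Grpd.IsCMAt). (A
groupoid scheme carries U, R, s, t, c, e, i over S with the groupoid axioms on T-points; 'finite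
locally free' is finite, flat and locally of finite presentation; C ⊂ Γ(U) is the ring of functions
a with s♯(a) = t♯(a) and M = Spec C.) -/
theorem result (S : Scheme.{u}) (G : Grpd.GroupoidScheme S) [Flat G.s] [LocallyOfFinitePresentation G.s] [Flat G.t] [LocallyOfFinitePresentation G.t] : ∃ U' : G.U.Opens, (G.t ⁻¹ᵁ U' : Set G.R) = {r | Grpd.IsCMAt G.s r} ∧ (G.s ⁻¹ᵁ U' : Set G.R) = {r | Grpd.IsCMAt G.t r} ∧ ⇑G.t '' (G.s ⁻¹ᵁ U' : Set G.R) = Set.univ ∧ ⇑G.s '' (G.t ⁻¹ᵁ U' : Set G.R) = Set.univ := by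
  let W : G.R.Opens := ⟨{r | MoreMor.IsCMAt G.s r}, CMOpen5.isOpen_isCMAt G.s⟩
  have key : ∀ r, MoreMor.IsCMAt G.s r ↔ MoreMor.IsCMAt G.s (G.e (G.t r)) := by
    intro r
    let σ : G.R ⟶ pullback G.s G.t := pullback.lift (G.t ≫ G.e) (𝟙 _) (by
      rw [Category.assoc, G.e_s, Category.comp_id, Category.id_comp])
    have h1 := Set.ext_iff.mp (S1342.result G.s (pullback.snd G.s G.t) (pullback.fst G.s G.t) G.t
      (IsPullback.of_hasPullback G.s G.t)) (σ r)
    have h2 := Set.ext_iff.mp (S1342.result G.s (pullback.snd G.s G.t) G.c G.s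
      (GrpdFld.isPullback_c G)) (σ r)
    simp only [Set.mem_preimage, Set.mem_setOf_eq] at h1 h2
    rw [← Scheme.Hom.comp_apply, pullback.lift_fst] at h1
    have hc : σ ≫ G.c = 𝟙 _ :=
      (GrpdLib.c_congr G _ (Category.id_comp _).symm rfl).trans (G.e_comp (𝟙 G.R))
    rw [← Scheme.Hom.comp_apply, hc] at h2
    exact h2.symm.trans h1
  let U' : G.U.Opens := G.e ⁻¹ᵁ W
  have hts : ∀ r, G.t r ∈ U' ↔ MoreMor.IsCMAt G.s r := fun r => (key r).symm
  have : IsIso G.i := ⟨G.i, GrpdLib.i_i G, GrpdLib.i_i G⟩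
  have hst : ∀ r, G.s r ∈ U' ↔ MoreMor.IsCMAt G.t r := by
    intro r
    rw [← G.i_t, Scheme.Hom.comp_apply, hts, ← CMOpen5.isCMAt_openImmersion_comp G.i G.s r, G.i_s]
  refine ⟨U', ?_, ?_, ?_, ?_⟩
  · ext r; exact (hts r).trans (isCMAt_iff _ _).symm
  · ext r; exact (hst r).trans (isCMAt_iff _ _).symm
  · refine Set.eq_univ_of_forall fun v => ?_
    obtain ⟨r, hr, hcm⟩ := exists_isCMAt G.t v ⟨G.e v, by rw [← Scheme.Hom.comp_apply, G.e_t]; rfl⟩
    exact ⟨r, (hst r).mpr hcm, hr⟩
  · refine Set.eq_univ_of_forall fun v => ?_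
    obtain ⟨r, hr, hcm⟩ := exists_isCMAt G.s v ⟨G.e v, by rw [← Scheme.Hom.comp_apply, G.e_s]; rfl⟩
    exact ⟨r, (hts r).mpr hcm, hr⟩

end Groth.Agent.S1936
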