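import Groth.Statements.S1938
import Groth.Agent.GrpdFld.Shear
import Groth.Agent.GrpOmega.Section
import Groth.Agent.GrpOmega.Shear

set_option autoImplicit false
set_option backward.isDefEq.respectTransparency false
set_option backward.isDefEq.respectTransparency.types false
universe u
open CategoryTheory CategoryTheory.Limits AlgebraicGeometry
open Grpd

namespace Groth.Agent.S1938

/-- Let (U, R, s, t, c) be a groupoid scheme over S, e : U → R its identity and C_{U/R} the conormal
sheaf of the immersion e. View R as a scheme over U via t. Then there is an epimorphism of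
O_R-modules s^*C_{U/R} → Ω_{R/U}, and if s is flat there is an isomorphism s^*C_{U/R} ≅ Ω_{R/U}.
(The published statement has t^*C_{U/R} here; with R over U via t that version is false — for the
pair groupoid of the disjoint union of a point and the affine line over ℚ the two sheaves have
different supports — and the statement given here has s^*C_{U/R} instead.) Stated for t
quasi-separated, where the shared prelude's Ω_{R/U} (conormal sheaf of the diagonal of t through
Mathlib's kernel ideal sheaf) and conormal sheaf of the section e are the usual ones. (A groupoid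
scheme carries U, R, s, t, c, e, i over S with the groupoid axioms on T-points.) -/
theorem result (S : Scheme.{u}) (G : Grpd.GroupoidScheme S) [QuasiSeparated G.t] : (∃ φ : (Scheme.Modules.pullback G.s).obj (Omega.conormal G.e) ⟶ Omega.sheaf G.t, Epi φ) ∧ (Flat G.s → Nonempty ((Scheme.Modules.pullback G.s).obj (Omega.conormal G.e) ≅ Omega.sheaf G.t)) := by
  haveI : IsImmersion (G.e ≫ G.t) := by rw [G.e_t]; infer_instance
  haveI : IsImmersion G.e := IsImmersion.of_comp G.e G.t
  haveI : QuasiCompact (G.e ≫ G.t) := by rw [G.e_t]; infer_instance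
  haveI : QuasiCompact G.e := QuasiCompact.of_comp G.e G.t
  obtain ⟨κ⟩ := GrpOmega.nonempty_conormalIso G.t G.e (𝟙 G.U)
    (by rw [G.e_t, Category.comp_id]) (by rw [G.e_t, Category.comp_id])
  obtain ⟨a⟩ := GrpOmega.nonempty_omega_baseChange (GrpdFld.isPullback_c_t G)
  obtain ⟨b⟩ := GrpOmega.nonempty_omega_baseChange
    (show IsPullback (pullback.snd G.s G.t) (pullback.fst G.s G.t) G.t G.s from
      (IsPullback.of_hasPullback G.s G.t).flip)
  let σ : G.R ⟶ pullback G.s G.t := pullback.lift (𝟙 _) (G.s ≫ G.e) (by
    rw [Category.assoc, G.e_t, Category.comp_id, Category.id_comp])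
  have h₁ : σ ≫ G.c = 𝟙 _ :=
    (GrpdLib.c_congr G _ rfl (Category.id_comp _).symm).trans (G.comp_e (𝟙 G.R))
  have h₂ : σ ≫ pullback.snd G.s G.t = G.s ≫ G.e := pullback.lift_snd _ _ _
  let θ : (Scheme.Modules.pullback G.s).obj (Omega.conormal G.e) ≅ Omega.sheaf G.t :=
    (Scheme.Modules.pullback G.s).mapIso κ ≪≫
    (Scheme.Modules.pullbackComp G.s G.e).app _ ≪≫
    (Scheme.Modules.pullbackCongr h₂.symm).app _ ≪≫
    ((Scheme.Modules.pullbackComp σ (pullback.snd G.s G.t)).app _).symm ≪≫
    (Scheme.Modules.pullback σ).mapIso (b ≪≫ a.symm) ≪≫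
    (Scheme.Modules.pullbackComp σ G.c).app _ ≪≫
    (Scheme.Modules.pullbackCongr h₁).app _ ≪≫
    (Scheme.Modules.pullbackId G.R).app _
  exact ⟨⟨θ.hom, inferInstance⟩, fun _ => ⟨θ⟩⟩

end Groth.Agent.S1938
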