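import Groth.Statements.S19382
import Groth.Agent.FlatDvrHx.Basic

set_option autoImplicit false
universe u
open CategoryTheory CategoryTheory.Limits AlgebraicGeometry
open FlatMor

namespace Groth.Agent.S19382

/-- Over a discrete valuation ring, let V be a henselian discrete valuation ring with maximal ideal 𝔪, A
a smooth V-algebra, Â the 𝔪A-adic completion of A, and h : X → Spec A a proper morphism with
reduction h₀ over Spec(A/𝔪A). Then X is flat over V and h₀ is smooth if and only if the base change
of h to Spec Â is smooth. (As for the flat case, the published statement concerns an excellent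
normal base ring with a henselian pair and the projective lift built from lifted equations, together
with the weak completion and the henselization; it is given here over a discrete valuation ring and
for an arbitrary proper h.) -/
theorem result
    (V : Type u) [CommRing V] [IsDomain V] [IsDiscreteValuationRing V] [HenselianLocalRing V]
    (A : Type u) [CommRing A] [Algebra V A] [Algebra.Smooth V A]
    (X : Scheme.{u}) (h : X ⟶ Spec (.of A)) [IsProper h] :
    (Flat (h ≫ Spec.map (CommRingCat.ofHom (algebraMap V A))) ∧
        Smooth (pullback.snd h (Spec.map (CommRingCat.ofHom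
          (Ideal.Quotient.mk ((IsLocalRing.maximalIdeal V).map (algebraMap V A))))))) ↔
      Smooth (pullback.snd h (Spec.map (CommRingCat.ofHom
          (algebraMap A (AdicCompletion ((IsLocalRing.maximalIdeal V).map (algebraMap V A)) A))))) := by
  haveI := Groth.Agent.FlatDvrHx.lfp_comp V A h
  haveI : IsNoetherianRing A := Algebra.FiniteType.isNoetherianRing V A
  haveI : LocallyOfFinitePresentation h := LocallyOfFinitePresentation.iff_locallyOfFiniteType.2 inferInstance
  haveI hfc := Groth.Agent.FlatDvrHx.flat_toCompl V A
  haveI : Flat (Groth.Agent.FlatDvrHx.gA V A) :=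
    (HasRingHomProperty.Spec_iff (P := @Flat)).2 (RingHom.flat_algebraMap_iff.2 inferInstance)
  constructor
  · rintro ⟨hV, h₀⟩
    rw [← Scheme.Hom.smoothLocus_eq_top_iff, eq_top_iff]
    intro w _
    obtain ⟨w₀, hw, hle⟩ := Groth.Agent.FlatDvrHx.exists_special_specialization V A h w
    exact hw.mem_open (Scheme.Hom.smoothLocus _).isOpen
      (Groth.Agent.MorLib.SmoothLoc.preimage_le h _ _ _ (IsPullback.of_hasPullback h _)
        (Groth.Agent.FlatDvrHx.smooth_at_special V A h hV h₀ _ hle))
  · intro hc
    refine ⟨Flat.of_stalkMap _ fun x => ?_, Groth.Agent.FlatDvrHx.reduction_of V A h hc⟩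
    by_cases hx : Groth.Agent.FlatDvrHx.mA V A ≤ (h x).asIdeal
    · obtain ⟨x', rfl⟩ := Groth.Agent.FlatDvrHx.exists_lift_special V A h x hx
      rw [Scheme.Hom.stalkMap_comp]
      exact (Flat.stalkMap _ _).comp
        (Groth.Agent.FlatPtDesc.flatAt_fst h _ x' (Flat.stalkMap _ _) (Flat.stalkMap _ _))
    · exact Groth.Agent.FlatDvrHx.flat_over_V_of_not_special V A h x hx

end Groth.Agent.S19382
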