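import Groth.Statements.S19383
import Mathlib

set_option autoImplicit false
universe u
open CAlg

namespace Groth.Agent.S19383

open IsLocalRing in
theorem flat_iff (V : Type u) [CommRing V] [IsDomain V] [IsDiscreteValuationRing V]
    (B : Type u) [CommRing B] [Algebra V B] [IsNoetherianRing B] :
    Module.Flat V B ↔
      Module.Flat V (AdicCompletion ((maximalIdeal V).map (algebraMap V B)) B) := by
  set J := (maximalIdeal V).map (algebraMap V B) with hJ
  refine ⟨fun _ => Module.Flat.trans V B (AdicCompletion J B), fun hF => ?_⟩
  obtain ⟨π, hπ⟩ := IsDiscreteValuationRing.exists_irreducible V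
  have hker : ∀ x : B, π • x = 0 → x = 0 := by
    intro x hx
    have hinj := hπ.ne_zero
    have h0 : algebraMap B (AdicCompletion J B) x = 0 := by
      have hreg : IsSMulRegular (AdicCompletion J B) (algebraMap V (AdicCompletion J B) π) :=
        IsSMulRegular.of_flat (IsRegular.of_ne_zero hπ.ne_zero).left
      apply hreg
      show algebraMap V (AdicCompletion J B) π • algebraMap B (AdicCompletion J B) x =
        algebraMap V (AdicCompletion J B) π • (0 : AdicCompletion J B)
      rw [smul_zero, smul_eq_mul]
      have := congrArg (algebraMap B (AdicCompletion J B)) hx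
      rw [Algebra.smul_def, map_mul, map_zero, ← IsScalarTower.algebraMap_apply] at this
      exact this
    have hmem : x ∈ (⨅ i : ℕ, J ^ i • (⊤ : Submodule B B)) := by
      refine Submodule.mem_iInf _ |>.mpr fun i => ?_
      have := congrArg (AdicCompletion.evalₐ J i) h0
      rw [AlgHom.commutes, map_zero, Ideal.Quotient.algebraMap_eq,
        Ideal.Quotient.eq_zero_iff_mem] at this
      simpa using this
    obtain ⟨⟨r, hr⟩, hrx⟩ := (Ideal.mem_iInf_smul_pow_eq_bot_iff J x).mp hmem
    rw [hJ, hπ.maximalIdeal_eq, Ideal.map_span, Set.image_singleton,
      Ideal.mem_span_singleton] at hr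
    obtain ⟨c, rfl⟩ := hr
    have h1 : algebraMap V B π * x = 0 := by rw [← Algebra.smul_def]; exact hx
    have h2 : algebraMap V B π * c * x = x := by simpa [smul_eq_mul] using hrx
    linear_combination -h2 + c * h1
  haveI : Module.IsTorsionFree V B := by
    refine Module.isTorsionFree_iff_smul_eq_zero.mpr fun v x h => ?_
    by_cases hv : v = 0
    · exact Or.inl hv
    obtain ⟨n, u, rfl⟩ := IsDiscreteValuationRing.eq_unit_mul_pow_irreducible hv hπ
    right
    rw [mul_smul, IsUnit.smul_eq_zero u.isUnit] at h
    clear hv
    induction n with
    | zero => simpa using h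
    | succ n ih => exact ih (hker _ (by rwa [pow_succ', mul_smul] at h))
  infer_instance


/-- Over a discrete valuation ring, let V be a henselian discrete valuation ring with maximal ideal 𝔪
and B a Noetherian V-algebra, B̂ its 𝔪B-adic completion. Then B is flat over V if and only if B̂ is
flat over V. (The published lemma takes V an excellent normal ring with an ideal I such that (V,
V/I) is a henselian pair and B of finite type; in that generality it fails: for V = ℤ_p[[x]], I =
(p) and B = V[y]/(x, py − 1) ≅ ℚ_p one has IB = B, so B̂ = 0 is flat while B is not flat over V.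
Over a discrete valuation ring flatness is torsion-freeness and the statement holds for every
Noetherian B.) -/
theorem result
    (V : Type u) [CommRing V] [IsDomain V] [IsDiscreteValuationRing V] [HenselianLocalRing V]
    (B : Type u) [CommRing B] [Algebra V B] [IsNoetherianRing B] :
    Module.Flat V B ↔
      Module.Flat V (AdicCompletion ((IsLocalRing.maximalIdeal V).map (algebraMap V B)) B) := by
  exact flat_iff V B

end Groth.Agent.S19383
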