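import Groth.Statements.S19385
import Groth.Agent.DRHyp.HypVanish
import Groth.Agent.S0051
import Groth.Agent.H23.PicMul
import Groth.Agent.QCoh.OpenSub

set_option autoImplicit false
universe u
open CategoryTheory CategoryTheory.Limits AlgebraicGeometry
open HdgLef

namespace Groth.Agent.S19385

open Groth.Agent in
/-- The sheaves of forms are coherent. -/
theorem isCoh_OmX {k : Type u} [Field k] {X : Scheme.{u}} (f : X ⟶ Spec (CommRingCat.of k)) [QuasiSeparated f]
    [LocallyOfFiniteType f] (j : ℕ) : Coh.IsCoh (DRHyp.Hyp.OmX f j) := by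
  refine ⟨DRHyp.Hyp.isQCoh_OmX f j, ?_⟩
  refine QCoh.isFT_of_finite (DRHyp.Hyp.isQCoh_OmX f j) (fun U : X.affineOpens => U.1)
    (iSup_affineOpens_eq_top X) (fun U => U.2) fun U => ?_
  let _ := DRHyp.kAlg f U.1
  have h1 : RingHom.FiniteType (DRHyp.constHom f U.1) :=
    (f.finiteType_appLE (isAffineOpen_top _) U.2 le_top).comp
      (RingHom.FiniteType.of_surjective _
        (Scheme.ΓSpecIso (CommRingCat.of k)).symm.commRingCatIsoToRingEquiv.surjective)
  haveI : Algebra.FiniteType k Γ(X, U.1) := h1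
  haveI : Module.Finite Γ(X, U.1) Γ(Omega.sheaf f, U.1) := Module.Finite.equiv (DRHyp.omegaEquiv f U.2)
  exact Module.Finite.equiv (DRHyp.Hyp.ev (DRHyp.Hyp.isQCoh_omega f) j U.2).symm

open Groth.Agent in
open scoped Groth.Agent.H23.PicMul in
/-- The powers of a power. -/
theorem cl_PT {X : Scheme.{u}} (L : X.Modules) (m : ℕ) : ∀ t,
    PicF.cl (DRHyp.Hyp.PT (CohB1.tensorPow L m) t) = PicF.cl (CohB1.tensorPow L (m * (t + 1)))
  | 0 => by rw [zero_add, mul_one]; rfl
  | t + 1 => by
    show PicF.cl (CohB1.tensorMod (DRHyp.Hyp.PT (CohB1.tensorPow L m) t) (CohB1.tensorPow L m)) = _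
    rw [H23.PicMul.cl_tensor, cl_PT L m t, H23.PicMul.cl_tensorPow, H23.PicMul.cl_tensorPow,
      H23.PicMul.cl_tensorPow, ← pow_add]
    rfl

/-- Let X be a smooth proper scheme of dimension n over a field k and L an ample invertible O_X-module.
There is m₀ such that for every m ≥ m₀ and every global section s of L^{⊗m} with O_X → L^{⊗m}
injective (a regular section) whose zero scheme Y, with inclusion i : Y → X, is smooth over k, one
has H^a(X, i_*Ω^b ⊗ L^{⊗m}) = 0 for every b-th exterior power Ω^b of the sheaf of differentials of Y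
over k (in the affine-local sense) and all a, b with a + b > n − 1. (The published statement takes Y
among the degree-m hypersurface sections of a projective embedding and twists with O_X(Y); the
published argument uses only Serre vanishing for the powers of an ample invertible module, so zero
schemes of regular sections of L^{⊗m} are allowed here, with O_X(Y) = L^{⊗m}.) -/
theorem result
    (k : Type u) [Field k] (X : Scheme.{u}) [X.Over (Spec (CommRingCat.of k))]
    [IsProper (X ↘ Spec (CommRingCat.of k))] [Smooth (X ↘ Spec (CommRingCat.of k))] (n : ℕ) (hn : topologicalKrullDim X = n)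
    (L : X.Modules) (hL : CohB1.IsAmple L) :
    ∃ m₀ : ℕ, ∀ (m : ℕ), m₀ ≤ m →
      ∀ (s : Coh.structureModule X ⟶ CohB1.tensorPow L m) [Mono s]
        [Smooth ((PicF2.zeroScheme (CohB1.tensorPow L m) s).subschemeι ≫ (X ↘ Spec (CommRingCat.of k)))]
        (a b : ℕ) (OmY : (PicF2.zeroScheme (CohB1.tensorPow L m) s).subscheme.Modules),
        ExtPow.IsExtPow b (Omega.sheaf ((PicF2.zeroScheme (CohB1.tensorPow L m) s).subschemeι ≫ (X ↘ Spec (CommRingCat.of k)))) OmY →
        n ≤ a + b →
        Subsingleton (Coh.HH X (CohB1.tensorMod ((Coh.push (PicF2.zeroScheme (CohB1.tensorPow L m) s).subschemeι).obj OmY)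
          (CohB1.tensorPow L m)) a) := by
  classical
  let f := X ↘ Spec (CommRingCat.of k)
  haveI : IsLocallyNoetherian X := LocallyOfFiniteType.isLocallyNoetherian f
  have hvan := fun j => (S0051.result k X f L hL.1).1 hL (DRHyp.Hyp.OmX f j) (isCoh_OmX f j)
  choose m₁ hm₁ using hvan
  refine ⟨(Finset.range (n + 1)).sup m₁, fun m hm s _ _ a b OmY hOm hab => ?_⟩
  have hM : PicF.IsInvertible (CohB1.tensorPow L m) := H23.PicMul.isInvertible_tensorPow hL.1 m
  refine DRHyp.Hyp.subsingleton_HH_K0 (f := f) hM s OmY n (le_of_eq hn) (fun j hj t p => ?_) hOm a hab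
  obtain ⟨e⟩ := H23.PicMul.cl_eq_iff.1 (cl_PT L m t)
  have h := hm₁ j (m * (t + 1))
    (le_trans (le_trans (Finset.le_sup (Finset.mem_range.2 (by omega))) hm) (Nat.le_mul_of_pos_right m t.succ_pos))
    (p + 1) (Nat.succ_pos p)
  let E : DRHyp.Hyp.N f (M := CohB1.tensorPow L m) j t ≅
      CohB1.tensorMod (DRHyp.Hyp.OmX f j) (CohB1.tensorPow L (m * (t + 1))) :=
    PicGrp.tensorModIso (Iso.refl _) e
  exact Groth.Agent.QCoh.subsingleton_HH_of_iso E.symm (p + 1) h

end Groth.Agent.S19385
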