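import Groth.Statements.S19386
import Groth.Agent.HodgeLef45.Lef
import Groth.Agent.HodgeLef45.Smooth
import Groth.Agent.HodgeLef45.ExtIso
import Groth.Agent.SerreVan45.Main
import Groth.Agent.S0051
import Groth.Agent.DescLib.Reduced

set_option autoImplicit false
universe u
open CategoryTheory CategoryTheory.Limits AlgebraicGeometry
open HdgLef

namespace Groth.Agent.S19386

open scoped Groth.Agent.H23.PicMul
open Groth.Agent

/-- Let X be an irreducible smooth proper scheme of dimension n over a field k and L an ample invertible
O_X-module. There is m₀ such that for every m ≥ m₀, every global section s of L^{⊗m} with O_X →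
L^{⊗m} injective whose zero scheme Y, with inclusion i : Y → X, is smooth over k, and all p-th
exterior powers Ω^p_X of the differentials of X over k and Ω^p_Y of the differentials of Y over k
(affine-local sense), the k-dimensions of H^q(X, Ω^p_X) and of H^q(X, i_*Ω^p_Y) = H^q(Y, Ω^p_Y)
agree when p + q < n − 1, and the first is at most the second when p + q = n − 1. (The published
statement asserts that the restriction map is bijective, resp. injective, in these ranges; only the
resulting comparison of dimensions is stated, the pull-back map on exterior powers not being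
available as a named map here. X is taken irreducible: for a disjoint union of projective 3-space
with a curve of positive genus the comparison fails for p = 0, q = 1. The published statement takes
Y among the degree-m hypersurface sections of a projective embedding; the published argument uses
only Serre vanishing and duality for the powers of an ample invertible module.) -/
theorem result
    (k : Type u) [Field k] (X : Scheme.{u}) [X.Over (Spec (CommRingCat.of k))]
    [IsProper (X ↘ Spec (CommRingCat.of k))] [Smooth (X ↘ Spec (CommRingCat.of k))] [IrreducibleSpace X]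
    (n : ℕ) (hn : topologicalKrullDim X = n)
    (L : X.Modules) (hL : CohB1.IsAmple L) :
    ∃ m₀ : ℕ, ∀ (m : ℕ), m₀ ≤ m →
      ∀ (s : Coh.structureModule X ⟶ CohB1.tensorPow L m) [Mono s]
        [Smooth ((PicF2.zeroScheme (CohB1.tensorPow L m) s).subschemeι ≫ (X ↘ Spec (CommRingCat.of k)))]
        (p q : ℕ) (OmX : X.Modules) (OmY : (PicF2.zeroScheme (CohB1.tensorPow L m) s).subscheme.Modules),
        ExtPow.IsExtPow p (Omega.sheaf (X ↘ Spec (CommRingCat.of k))) OmX →
        ExtPow.IsExtPow p (Omega.sheaf ((PicF2.zeroScheme (CohB1.tensorPow L m) s).subschemeι ≫ (X ↘ Spec (CommRingCat.of k)))) OmY →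
        (p + q + 1 < n → Module.finrank k (Coh.HH X OmX q) = Module.finrank k (Coh.HH X ((Coh.push (PicF2.zeroScheme (CohB1.tensorPow L m) s).subschemeι).obj OmY) q)) ∧
        (p + q + 1 = n → Module.finrank k (Coh.HH X OmX q) ≤ Module.finrank k (Coh.HH X ((Coh.push (PicF2.zeroScheme (CohB1.tensorPow L m) s).subschemeι).obj OmY) q)) := by
  classical
  rcases Nat.eq_zero_or_pos n with hn0 | hnpos
  · exact ⟨0, fun m _ s _ _ p q OmX OmY _ _ => ⟨fun h => absurd h (by omega), fun h => absurd h (by omega)⟩⟩
  haveI : Smooth (X ↘ Spec (CommRingCat.of k)) := ‹_›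
  haveI : IsReduced X := DescLib.isReduced_of_smooth_of_isReduced (X ↘ Spec (CommRingCat.of k))
  haveI : IsIntegral X := isIntegral_of_irreducibleSpace_of_isReduced X
  haveI : IsLocallyNoetherian X := LocallyOfFiniteType.isLocallyNoetherian (X ↘ Spec (CommRingCat.of k))
  obtain ⟨N, ι, hι, hιf⟩ := AmpleEmbed.exists_closedImmersion (X ↘ Spec (CommRingCat.of k)) hL
  haveI := hι
  choose G hG hGv using fun j => SerreVan45.exists_dual_vanishing (X ↘ Spec (CommRingCat.of k)) ι hιf n hn
    (DRHyp.Hyp.OmX (X ↘ Spec (CommRingCat.of k)) j) (HodgeLef45.isFinLocFree_OmX _ j)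
  choose m₁ hm₁ using fun j => (S0051.result k X (X ↘ Spec (CommRingCat.of k)) L hL.1).1 hL (G j) (hG j)
  refine ⟨(Finset.range (n + 1)).sup m₁, fun m hm s _ _ p q OmX OmY hOmX hOmY => ?_⟩
  have hA : PicF.IsInvertible (CohB1.tensorPow L m) := H23.PicMul.isInvertible_tensorPow hL.1 m
  obtain ⟨D, hD, hD'⟩ := H23.PicInv.exists_inverse hA
  have hDM : PicF.cl D * PicF.cl (CohB1.tensorPow L m) = 1 := by
    rw [mul_comm, ← H23.PicMul.cl_tensor, H23.PicMul.one_def]
    exact H23.PicMul.cl_eq_iff.2 hD'
  have h := HodgeLef45.comparison k hA hD hDM s (PicF2.zeroScheme (CohB1.tensorPow L m) s)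
    (fun {V} hV {e} he => DRHyp.Hyp.ideal_eq s hA hV he) (n - 1) (fun j a hja t ht => by
      have hinv : ClSub.IsInverseOf (CohB1.tensorPow L (m * t)) (CohB1.tensorPow D t) :=
        H23.PicMul.cl_eq_iff.1 (by
          rw [H23.PicMul.cl_tensor, H23.PicMul.cl_tensorPow, H23.PicMul.cl_tensorPow, pow_mul, ← mul_pow,
            ← H23.PicMul.cl_tensorPow L m, mul_comm, hDM, one_pow]
          rfl)
      exact hGv j (CohB1.tensorPow D t) (H23.PicMul.isInvertible_tensorPow hD t) (CohB1.tensorPow L (m * t)) hinv a
        (by omega) (hm₁ j (m * t) (le_trans (le_trans (Finset.le_sup (Finset.mem_range.2 (by omega))) hm)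
          (Nat.le_mul_of_pos_right m ht)) (n - a) (by omega)))
    p q OmX hOmX OmY hOmY
  exact ⟨fun hpq => h.1 (by omega), fun hpq => h.2 (by omega)⟩


end Groth.Agent.S19386
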