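import Groth.Statements.S19408
import Groth.Agent.StrEt66.Basic

open TensorProduct Groth.Agent

set_option autoImplicit false
universe u
open TensorProduct
open GLin

namespace Groth.Agent.S19408

/-- Let k be an algebraically closed field of characteristic zero, A a finitely generated commutative
Hopf algebra over k all of whose finite-dimensional comodules are semisimple (a reductive group G),
S and R finitely generated commutative k-algebras with multiplicative A-coactions (G acting on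
affine Y = Spec S and X = Spec R), S → R an algebra map compatible with the coactions (a G-morphism
θ : X → Y), S₀ → S and R₀ → R injective k-algebra maps whose images are the subrings of invariants,
and S₀ → R₀ an algebra map with S₀ → R₀ → R equal to S₀ → S → R (θ/G). Suppose R is étale over S, R₀
is étale over S₀, and the canonical map S ⊗_{S₀} R₀ → R is bijective (θ and θ/G étale and X ≅ Y
×_{Y//G} X//G). Let J be an ideal of S which is a subcomodule (Y' = V(J) a closed G-invariant
subscheme), let S/J and R/JR carry A-coactions for which the quotient maps are compatible with the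
coactions (the induced actions on Y' and X' = Y' ×_Y X), and let S₁ → S/J and R₁ → R/JR be injective
k-algebra maps whose images are the subrings of invariants, with S₁ → R₁ an algebra map such that S₁
→ R₁ → R/JR equals S₁ → S/J → R/JR. Then R/JR is étale over S/J, R₁ is étale over S₁, and the
canonical map (S/J) ⊗_{S₁} R₁ → R/JR is bijective (θ' : X' → Y' and θ'/G are étale and X' ≅ Y'
×_{Y'//G} X'//G). -/
theorem result (k : Type u) [Field k] [IsAlgClosed k] [CharZero k]
    (A : Type u) [CommRing A] [HopfAlgebra k A] [Algebra.FiniteType k A] (hG : HopfRep.IsLinearlyReductive k A)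
    (S : Type u) [CommRing S] [Algebra k S] [Algebra.FiniteType k S] [HopfRep.Comod k A S] [GLin.IsCoactAlg k A S]
    (R : Type u) [CommRing R] [Algebra k R] [Algebra.FiniteType k R] [HopfRep.Comod k A R] [GLin.IsCoactAlg k A R]
    [Algebra S R] [IsScalarTower k S R]
    (hequiv : (∀ s : S, HopfRep.Comod.coact (k := k) (A := A) (algebraMap S R s) =
      Algebra.TensorProduct.map (IsScalarTower.toAlgHom k S R) (AlgHom.id k A) (HopfRep.Comod.coact (k := k) (A := A) s)))
    (S₀ : Type u) [CommRing S₀] [Algebra k S₀] [Algebra S₀ S] [IsScalarTower k S₀ S]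
    (hS₀i : Function.Injective (algebraMap S₀ S)) (hS₀ : (IsScalarTower.toAlgHom k S₀ S).range = GLin.invariants k A S)
    (R₀ : Type u) [CommRing R₀] [Algebra k R₀] [Algebra R₀ R] [IsScalarTower k R₀ R]
    (hR₀i : Function.Injective (algebraMap R₀ R)) (hR₀ : (IsScalarTower.toAlgHom k R₀ R).range = GLin.invariants k A R)
    [Algebra S₀ R₀] [Algebra S₀ R] [IsScalarTower S₀ S R] [IsScalarTower S₀ R₀ R]
    (het : Algebra.Etale S R) (het₀ : Algebra.Etale S₀ R₀)
    (hcart : Function.Bijective (Algebra.TensorProduct.productMap (IsScalarTower.toAlgHom S₀ S R) (IsScalarTower.toAlgHom S₀ R₀ R)))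
    (J : Ideal S) (hJ : HopfRep.IsSubcomod (k := k) (A := A) (J.restrictScalars k))
    [HopfRep.Comod k A (S ⧸ J)] [GLin.IsCoactAlg k A (S ⧸ J)]
    (hqS : (∀ s : S, HopfRep.Comod.coact (k := k) (A := A) ((Ideal.Quotient.mkₐ k J) s) =
        Algebra.TensorProduct.map (Ideal.Quotient.mkₐ k J) (AlgHom.id k A) (HopfRep.Comod.coact (k := k) (A := A) s)))
    [HopfRep.Comod k A (R ⧸ J.map (algebraMap S R))] [GLin.IsCoactAlg k A (R ⧸ J.map (algebraMap S R))]
    (hqR : (∀ s : R, HopfRep.Comod.coact (k := k) (A := A) ((Ideal.Quotient.mkₐ k (J.map (algebraMap S R))) s) =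
        Algebra.TensorProduct.map (Ideal.Quotient.mkₐ k (J.map (algebraMap S R))) (AlgHom.id k A) (HopfRep.Comod.coact (k := k) (A := A) s)))
    (S₁ : Type u) [CommRing S₁] [Algebra k S₁] [Algebra S₁ (S ⧸ J)] [IsScalarTower k S₁ (S ⧸ J)]
    (hS₁i : Function.Injective (algebraMap S₁ (S ⧸ J)))
    (hS₁ : (IsScalarTower.toAlgHom k S₁ (S ⧸ J)).range = GLin.invariants k A (S ⧸ J))
    (R₁ : Type u) [CommRing R₁] [Algebra k R₁] [Algebra R₁ (R ⧸ J.map (algebraMap S R))] [IsScalarTower k R₁ (R ⧸ J.map (algebraMap S R))]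
    (hR₁i : Function.Injective (algebraMap R₁ (R ⧸ J.map (algebraMap S R))))
    (hR₁ : (IsScalarTower.toAlgHom k R₁ (R ⧸ J.map (algebraMap S R))).range = GLin.invariants k A (R ⧸ J.map (algebraMap S R)))
    [Algebra S₁ R₁] [Algebra S₁ (R ⧸ J.map (algebraMap S R))]
    [IsScalarTower S₁ (S ⧸ J) (R ⧸ J.map (algebraMap S R))] [IsScalarTower S₁ R₁ (R ⧸ J.map (algebraMap S R))] :
    Algebra.Etale (S ⧸ J) (R ⧸ J.map (algebraMap S R)) ∧ Algebra.Etale S₁ R₁ ∧
      Function.Bijective (Algebra.TensorProduct.productMap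
        (IsScalarTower.toAlgHom S₁ (S ⧸ J) (R ⧸ J.map (algebraMap S R)))
        (IsScalarTower.toAlgHom S₁ R₁ (R ⧸ J.map (algebraMap S R)))) := by
  haveI := het
  haveI := het₀
  obtain ⟨α, hα, h1⟩ := ComodLib.exists_integral_of_isLinearlyReductive hG
  have etR : Algebra.Etale (S ⧸ J) (R ⧸ J.map (algebraMap S R)) := by
    refine Algebra.Etale.of_equiv (A := (S ⧸ J) ⊗[S] R) ?_
    exact (Algebra.TensorProduct.quotIdealMapEquivQuotTensor R J).symm
  let φ := IsScalarTower.toAlgHom k S R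
  let qS := Ideal.Quotient.mkₐ k J
  let qR := Ideal.Quotient.mkₐ k (J.map (algebraMap S R))
  have invR : ∀ i : R₀, algebraMap R₀ R i ∈ GLin.invariants k A R := fun i => hR₀ ▸ ⟨i, rfl⟩
  have invS : ∀ i : S₀, algebraMap S₀ S i ∈ GLin.invariants k A S := fun i => hS₀ ▸ ⟨i, rfl⟩
  have map_inv : ∀ {U V : Type u} [CommRing U] [Algebra k U] [HopfRep.Comod k A U] [GLin.IsCoactAlg k A U]
      [CommRing V] [Algebra k V] [HopfRep.Comod k A V] [GLin.IsCoactAlg k A V] (f : U →ₐ[k] V)
      (_ : ∀ u, HopfRep.Comod.coact (k := k) (A := A) (f u) =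
        Algebra.TensorProduct.map f (AlgHom.id k A) (HopfRep.Comod.coact (k := k) (A := A) u)) {u : U},
      u ∈ GLin.invariants k A U → f u ∈ GLin.invariants k A V := by
    intro U V _ _ _ _ _ _ _ _ f hf u hu
    change HopfRep.Comod.coact (k := k) (A := A) u = u ⊗ₜ[k] (1 : A) at hu
    show HopfRep.Comod.coact (k := k) (A := A) (f u) = f u ⊗ₜ[k] (1 : A)
    rw [hf, hu, Algebra.TensorProduct.map_tmul, AlgHom.id_apply]
  let eS := AlgEquiv.ofInjective (IsScalarTower.toAlgHom k S₁ (S ⧸ J)) hS₁i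
  let eR := AlgEquiv.ofInjective (IsScalarTower.toAlgHom k R₁ (R ⧸ J.map (algebraMap S R))) hR₁i
  let aS : S₀ →ₐ[k] S₁ := eS.symm.toAlgHom.comp ((qS.comp (IsScalarTower.toAlgHom k S₀ S)).codRestrict _
    fun i => hS₁ ▸ map_inv qS hqS (invS i))
  let aR : R₀ →ₐ[k] R₁ := eR.symm.toAlgHom.comp ((qR.comp (IsScalarTower.toAlgHom k R₀ R)).codRestrict _
    fun i => hR₁ ▸ map_inv qR hqR (invR i))
  have haS : ∀ i, algebraMap S₁ (S ⧸ J) (aS i) = qS (algebraMap S₀ S i) := fun i =>
    congrArg Subtype.val (eS.apply_symm_apply ⟨qS (algebraMap S₀ S i), hS₁ ▸ map_inv qS hqS (invS i)⟩)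
  have haR : ∀ i, algebraMap R₁ (R ⧸ J.map (algebraMap S R)) (aR i) = qR (algebraMap R₀ R i) := fun i =>
    congrArg Subtype.val (eR.apply_symm_apply ⟨qR (algebraMap R₀ R i), hR₁ ▸ map_inv qR hqR (invR i)⟩)
  have haSs : Function.Surjective aS := fun z => by
    obtain ⟨s, hs, hsz⟩ := StrEt66.exists_invariant_lift hG qS hqS Ideal.Quotient.mk_surjective
      (hS₁ ▸ ⟨z, rfl⟩ : algebraMap S₁ (S ⧸ J) z ∈ GLin.invariants k A (S ⧸ J))
    obtain ⟨i, rfl⟩ := (hS₀.ge hs : s ∈ (IsScalarTower.toAlgHom k S₀ S).range)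
    exact ⟨i, hS₁i ((haS i).trans hsz)⟩
  have haRs : Function.Surjective aR := fun z => by
    obtain ⟨s, hs, hsz⟩ := StrEt66.exists_invariant_lift hG qR hqR Ideal.Quotient.mk_surjective
      (hR₁ ▸ ⟨z, rfl⟩ : algebraMap R₁ (R ⧸ J.map (algebraMap S R)) z ∈ GLin.invariants k A _)
    obtain ⟨i, rfl⟩ := (hR₀.ge hs : s ∈ (IsScalarTower.toAlgHom k R₀ R).range)
    exact ⟨i, hR₁i ((haR i).trans hsz)⟩
  letI : Algebra S₀ S₁ := aS.toRingHom.toAlgebra
  haveI : IsScalarTower S₀ S₁ (S ⧸ J) := IsScalarTower.of_algebraMap_eq fun i => by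
    show _ = algebraMap S₁ (S ⧸ J) (aS i)
    rw [haS]
    rfl
  letI : Algebra S₀ R₁ := ((algebraMap S₁ R₁).comp (algebraMap S₀ S₁)).toAlgebra
  haveI : IsScalarTower S₀ S₁ R₁ := IsScalarTower.of_algebraMap_eq fun _ => rfl
  have hcomm : ∀ i : S₀, aR (algebraMap S₀ R₀ i) = algebraMap S₀ R₁ i := fun i => hR₁i (by
    rw [haR, ← IsScalarTower.algebraMap_apply S₀ R₀ R]
    show _ = algebraMap R₁ _ (algebraMap S₁ R₁ (aS i))
    rw [← IsScalarTower.algebraMap_apply S₁ R₁, IsScalarTower.algebraMap_apply S₁ (S ⧸ J), haS,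
      IsScalarTower.algebraMap_apply S₀ S R]
    rfl)
  let aR' : R₀ →ₐ[S₀] R₁ := { aR.toRingHom with commutes' := hcomm }
  let β : S₁ ⊗[S₀] R₀ →ₐ[S₁] R₁ :=
    Algebra.TensorProduct.lift (Algebra.ofId S₁ R₁) aR' (fun _ _ => Commute.all _ _)
  have hβs : Function.Surjective β := fun z => by
    obtain ⟨i, rfl⟩ := haRs z
    exact ⟨1 ⊗ₜ i, by simp [β, aR']⟩
  have hone : ∀ t : S₁ ⊗[S₀] R₀, ∃ i, t = 1 ⊗ₜ[S₀] i := fun t => by
    induction t using TensorProduct.induction_on with
    | zero => exact ⟨0, (tmul_zero _ _).symm⟩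
    | add p q hp hq =>
      obtain ⟨a, rfl⟩ := hp
      obtain ⟨b, rfl⟩ := hq
      exact ⟨a + b, (tmul_add _ _ _).symm⟩
    | tmul s i =>
      obtain ⟨c, rfl⟩ := haSs s
      refine ⟨c • i, ?_⟩
      rw [← smul_tmul, Algebra.smul_def, _root_.mul_one]
      rfl
  have hker : ∀ r : R, r ∈ J.map (algebraMap S R) → ∀ i : R₀, ComodLib.rey α r = algebraMap R₀ R i →
      (1 : S₁) ⊗ₜ[S₀] i = 0 := by
    intro r hr
    let μ := Algebra.TensorProduct.productMap (IsScalarTower.toAlgHom S₀ S R) (IsScalarTower.toAlgHom S₀ R₀ R)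
    have gen : ∀ c : R, ∀ j ∈ J, ∃ l : List (S × R₀), (∀ p ∈ l, p.1 ∈ J) ∧
        c * algebraMap S R j = (l.map fun p => algebraMap S R p.1 * algebraMap R₀ R p.2).sum := by
      intro c j hj
      obtain ⟨t, rfl⟩ := hcart.2 c
      induction t using TensorProduct.induction_on with
      | zero => exact ⟨[], by simp, by simp⟩
      | tmul s i =>
        refine ⟨[(j * s, i)], by simpa using J.mul_mem_right s hj, ?_⟩
        simp [mul_comm, mul_assoc, mul_left_comm]
      | add p q hp hq =>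
        obtain ⟨l, hl, hl'⟩ := hp
        obtain ⟨l', hm, hm'⟩ := hq
        exact ⟨l ++ l', fun p hp => (List.mem_append.1 hp).elim (hl p) (hm p),
          by rw [map_add, add_mul, hl', hm', List.map_append, List.sum_append]⟩
    have gen' : ∃ l : List (S × R₀), (∀ p ∈ l, p.1 ∈ J) ∧
        r = (l.map fun p => algebraMap S R p.1 * algebraMap R₀ R p.2).sum := by
      induction hr using Submodule.span_induction with
      | mem x hx =>
        obtain ⟨j, hj, rfl⟩ := hx
        obtain ⟨l, hl, hl'⟩ := gen 1 j hj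
        exact ⟨l, hl, by rw [← hl', _root_.one_mul]⟩
      | zero => exact ⟨[], by simp, by simp⟩
      | add p q _ _ hp hq =>
        obtain ⟨l, hl, rfl⟩ := hp
        obtain ⟨l', hm, rfl⟩ := hq
        exact ⟨l ++ l', fun p hp => (List.mem_append.1 hp).elim (hl p) (hm p),
          by rw [List.map_append, List.sum_append]⟩
      | smul c p hp0 hp =>
        clear hp0
        obtain ⟨l, hl, rfl⟩ := hp
        induction l with
        | nil => exact ⟨[], by simp, by simp⟩
        | cons a t ih =>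
          obtain ⟨l₁, h₁, h₁'⟩ := gen (c * algebraMap R₀ R a.2) a.1 (hl a List.mem_cons_self)
          obtain ⟨l₂, h₂, h₂'⟩ := ih fun p hp => hl p (List.mem_cons_of_mem _ hp)
          refine ⟨l₁ ++ l₂, fun p hp => (List.mem_append.1 hp).elim (h₁ p) (h₂ p), ?_⟩
          rw [List.map_cons, List.sum_cons, List.map_append, List.sum_append, ← h₁', ← h₂', smul_eq_mul,
            smul_eq_mul, mul_add]
          congr 1
          ring
    clear hr
    obtain ⟨l, hl, rfl⟩ := gen'
    induction l with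
    | nil =>
      intro i hi
      rw [List.map_nil, List.sum_nil, map_zero, ← map_zero (algebraMap R₀ R)] at hi
      rw [← hR₀i hi, tmul_zero]
    | cons a t ih =>
      intro i hi
      obtain ⟨c, hc⟩ := (hS₀.ge (ComodLib.rey_mem_fixedPts hα a.1) :
        ComodLib.rey α a.1 ∈ (IsScalarTower.toAlgHom k S₀ S).range)
      have hc' : algebraMap S₀ S c = ComodLib.rey α a.1 := hc
      have hcJ : aS c = 0 := hS₁i (by
        rw [haS, hc', map_zero]
        have h := ComodLib.map_rey (α := α) (StrEt66.isComodHom_of_map qS hqS) a.1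
        simp only [AlgHom.toLinearMap_apply] at h
        rw [h, show qS a.1 = 0 from Ideal.Quotient.eq_zero_iff_mem.2 (hl a List.mem_cons_self), map_zero])
      have h0 : ComodLib.rey α (algebraMap S R a.1 * algebraMap R₀ R a.2) = algebraMap R₀ R (c • a.2) := by
        rw [_root_.mul_comm, StrEt66.rey_mul_invariant α (invR a.2), Algebra.smul_def, map_mul,
          ← IsScalarTower.algebraMap_apply S₀ R₀ R, IsScalarTower.algebraMap_apply S₀ S R, hc',
          _root_.mul_comm]
        congr 1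
        exact (ComodLib.map_rey (α := α) (StrEt66.isComodHom_of_map φ hequiv) a.1).symm
      rw [List.map_cons, List.sum_cons, map_add, h0] at hi
      have hsplit : i = c • a.2 + (i - c • a.2) := (add_sub_cancel _ _).symm
      rw [hsplit, tmul_add, ih (fun p hp => hl p (List.mem_cons_of_mem _ hp)) (i - c • a.2) (by
        rw [map_sub, ← hi, add_sub_cancel_left]), add_zero, ← smul_tmul, Algebra.smul_def, _root_.mul_one]
      show aS c ⊗ₜ[S₀] a.2 = 0
      rw [hcJ, zero_tmul]
  have hβi : Function.Injective β := by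
    refine (injective_iff_map_eq_zero β).2 fun t ht => ?_
    obtain ⟨i, rfl⟩ := hone t
    refine hker (algebraMap R₀ R i) ?_ i (ComodLib.rey_of_fixed h1 (invR i))
    have h0 : aR i = 0 := by simpa [β, aR'] using ht
    refine Ideal.Quotient.eq_zero_iff_mem.1 ?_
    show qR (algebraMap R₀ R i) = 0
    rw [← haR, h0, map_zero]
  have et₁ : Algebra.Etale S₁ R₁ := Algebra.Etale.of_equiv (AlgEquiv.ofBijective β ⟨hβi, hβs⟩)
  refine ⟨etR, et₁, ?_⟩
  set P := Algebra.TensorProduct.productMap (IsScalarTower.toAlgHom S₁ (S ⧸ J) (R ⧸ J.map (algebraMap S R)))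
    (IsScalarTower.toAlgHom S₁ R₁ (R ⧸ J.map (algebraMap S R))) with hP
  let f₁ : S →ₐ[S₀] (S ⧸ J) ⊗[S₁] R₁ :=
    { ((Algebra.TensorProduct.includeLeft : (S ⧸ J) →ₐ[S₁] (S ⧸ J) ⊗[S₁] R₁).toRingHom.comp qS.toRingHom) with
      commutes' := fun i => rfl }
  let f₂ : R₀ →ₐ[S₀] (S ⧸ J) ⊗[S₁] R₁ :=
    ((Algebra.TensorProduct.includeRight : R₁ →ₐ[S₁] (S ⧸ J) ⊗[S₁] R₁).restrictScalars S₀).comp aR'
  let e := AlgEquiv.ofBijective _ hcart
  let ψ : R →ₐ[S₀] (S ⧸ J) ⊗[S₁] R₁ := (Algebra.TensorProduct.productMap f₁ f₂).comp e.symm.toAlgHom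
  have hψ : ∀ (s : S) (i : R₀), ψ (algebraMap S R s * algebraMap R₀ R i) = qS s ⊗ₜ[S₁] aR i := fun s i => by
    have : e.symm (algebraMap S R s * algebraMap R₀ R i) = s ⊗ₜ[S₀] i := (AlgEquiv.symm_apply_eq e).2 (by
      simp [e])
    show Algebra.TensorProduct.productMap f₁ f₂ (e.symm _) = _
    rw [this]
    simp [f₁, f₂, aR']
  have hψJ : ∀ r ∈ J.map (algebraMap S R), ψ r = 0 := by
    intro r hr
    induction hr using Submodule.span_induction with
    | mem x hx =>
      obtain ⟨j, hj, rfl⟩ := hx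
      have h := hψ j 1
      rw [map_one, _root_.mul_one] at h
      rw [h, show qS j = 0 from Ideal.Quotient.eq_zero_iff_mem.2 hj, zero_tmul]
    | zero => exact map_zero ψ
    | add p q _ _ hp hq => rw [map_add, hp, hq, add_zero]
    | smul c p _ hp => rw [smul_eq_mul, map_mul, hp, mul_zero]
  let ψ' : R ⧸ J.map (algebraMap S R) →+* (S ⧸ J) ⊗[S₁] R₁ := Ideal.Quotient.lift _ ψ.toRingHom hψJ
  have hP' : ∀ (s : S) (i : R₀), P (qS s ⊗ₜ[S₁] aR i) = qR (algebraMap S R s * algebraMap R₀ R i) := fun s i => by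
    rw [hP, Algebra.TensorProduct.productMap_apply_tmul, map_mul]
    exact congrArg₂ (· * ·) rfl (haR i)
  refine ⟨?_, fun z => ?_⟩
  · refine Function.LeftInverse.injective (g := ψ') fun t => ?_
    induction t using TensorProduct.induction_on with
    | zero => simp
    | add p q hp hq => rw [map_add, map_add, hp, hq]
    | tmul s' i' =>
      obtain ⟨s, rfl⟩ := Ideal.Quotient.mk_surjective s'
      obtain ⟨i, rfl⟩ := haRs i'
      exact (congrArg ψ' (hP' s i)).trans (hψ s i)
  · obtain ⟨r, rfl⟩ := Ideal.Quotient.mk_surjective z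
    obtain ⟨t, rfl⟩ := hcart.2 r
    induction t using TensorProduct.induction_on with
    | zero => exact ⟨0, by simp⟩
    | add p q hp hq =>
      obtain ⟨a, ha⟩ := hp
      obtain ⟨b, hb⟩ := hq
      exact ⟨a + b, by rw [map_add, ha, hb, map_add, map_add]⟩
    | tmul s i => exact ⟨qS s ⊗ₜ aR i, (hP' s i).trans (by rw [Algebra.TensorProduct.productMap_apply_tmul]; rfl)⟩

end Groth.Agent.S19408
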