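import Groth.Statements.S19412
import Groth.Agent.StrEt66.Basic

open TensorProduct Groth.Agent

set_option autoImplicit false
universe u
open TensorProduct
open GLin

namespace Groth.Agent.S19412

/-- Let k be an algebraically closed field of characteristic zero, A a finitely generated commutative
Hopf algebra over k (an algebraic group G), S and R finitely generated commutative k-algebras with
multiplicative A-coactions (G acting on affine Y = Spec S, X = Spec R), S → R an algebra map
compatible with the coactions (a G-morphism φ : X → Y), S₀ → S and R₀ → R injective k-algebra maps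
whose images are the subrings of invariants, and S₀ → R₀ an algebra map with S₀ → R₀ → R equal to S₀
→ S → R (φ/G). Suppose R₀ is étale over S₀ and the canonical map S ⊗_{S₀} R₀ → R is bijective (φ is
strongly étale: φ/G étale and X ≅ Y ×_{Y//G} X//G). Then R is étale over S (φ étale), and for every
k-point x of X: every k-point of G fixing the image point φ(x) fixes x (φ restricted to the orbit of
x is injective), and the orbit of x is closed if and only if the orbit of φ(x) is closed. (The
published item also asserts that φ is surjective; that fails when φ is the inclusion of a proper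
saturated open subset, which is strongly étale, so surjectivity is not asserted here.) -/
theorem result (k : Type u) [Field k] [IsAlgClosed k] [CharZero k]
    (A : Type u) [CommRing A] [HopfAlgebra k A] [Algebra.FiniteType k A]
    (S : Type u) [CommRing S] [Algebra k S] [Algebra.FiniteType k S] [HopfRep.Comod k A S] [GLin.IsCoactAlg k A S]
    (R : Type u) [CommRing R] [Algebra k R] [Algebra.FiniteType k R] [HopfRep.Comod k A R] [GLin.IsCoactAlg k A R]
    [Algebra S R] [IsScalarTower k S R]
    (hequiv : (∀ s : S, HopfRep.Comod.coact (k := k) (A := A) (algebraMap S R s) =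
      Algebra.TensorProduct.map (IsScalarTower.toAlgHom k S R) (AlgHom.id k A) (HopfRep.Comod.coact (k := k) (A := A) s)))
    (S₀ : Type u) [CommRing S₀] [Algebra k S₀] [Algebra S₀ S] [IsScalarTower k S₀ S]
    (hS₀i : Function.Injective (algebraMap S₀ S)) (hS₀ : (IsScalarTower.toAlgHom k S₀ S).range = GLin.invariants k A S)
    (R₀ : Type u) [CommRing R₀] [Algebra k R₀] [Algebra R₀ R] [IsScalarTower k R₀ R]
    (hR₀i : Function.Injective (algebraMap R₀ R)) (hR₀ : (IsScalarTower.toAlgHom k R₀ R).range = GLin.invariants k A R)
    [Algebra S₀ R₀] [Algebra S₀ R] [IsScalarTower S₀ S R] [IsScalarTower S₀ R₀ R]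
    (het₀ : Algebra.Etale S₀ R₀)
    (hcart : Function.Bijective (Algebra.TensorProduct.productMap (IsScalarTower.toAlgHom S₀ S R) (IsScalarTower.toAlgHom S₀ R₀ R))) :
    Algebra.Etale S R ∧
      ∀ x : R →ₐ[k] k,
        (∀ g : A →ₐ[k] k, GLin.actPt k g (x.comp (IsScalarTower.toAlgHom k S R)) = x.comp (IsScalarTower.toAlgHom k S R) →
          GLin.actPt k g x = x) ∧
        (GLin.IsClosedOrbit k A x ↔ GLin.IsClosedOrbit k A (x.comp (IsScalarTower.toAlgHom k S R))) := by
  let φ := IsScalarTower.toAlgHom k S R
  let μ := Algebra.TensorProduct.productMap (IsScalarTower.toAlgHom S₀ S R) (IsScalarTower.toAlgHom S₀ R₀ R)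
  let μS : TensorProduct S₀ S R₀ →ₐ[S] R :=
    { μ with
      commutes' := fun s => by
        show μ (s ⊗ₜ[S₀] (1 : R₀)) = _
        simp [μ] }
  haveI := het₀
  refine ⟨Algebra.Etale.of_equiv (AlgEquiv.ofBijective μS hcart), fun x => ?_⟩
  have hinv : ∀ i : R₀, algebraMap R₀ R i ∈ GLin.invariants k A R := fun i => hR₀ ▸ ⟨i, rfl⟩
  have gen : ∀ P : Submodule S₀ R, (∀ (s : S) (i : R₀), algebraMap S R s * algebraMap R₀ R i ∈ P) → ∀ r, r ∈ P := by
    intro P hP r
    obtain ⟨t, rfl⟩ := hcart.2 r
    induction t using TensorProduct.induction_on with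
    | zero => rw [map_zero]; exact P.zero_mem
    | tmul s i => simpa using hP s i
    | add p q hp hq => rw [map_add]; exact P.add_mem hp hq
  refine ⟨fun g hg => ?_, ?_⟩
  · refine AlgHom.ext fun r => ?_
    obtain ⟨t, rfl⟩ := hcart.2 r
    induction t using TensorProduct.induction_on with
    | zero => simp
    | add p q hp hq => simp only [map_add, hp, hq]
    | tmul s i =>
      have h1 := AlgHom.congr_fun hg s
      simp only [GLin.actPt, AlgHom.comp_apply] at h1
      simp only [Algebra.TensorProduct.productMap_apply_tmul, map_mul, GLin.actPt, AlgHom.comp_apply,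
        IsScalarTower.toAlgHom_apply]
      rw [StrEt66.orbitHom_invariant x (hinv i), AlgHom.commutes]
      refine congrArg (· * x (algebraMap R₀ R i)) ?_
      exact (congrArg g (StrEt66.orbitHom_comp φ hequiv x s)).trans h1
  · let I : Ideal R := Ideal.span (Set.range fun i : R₀ => algebraMap R₀ R i - algebraMap k R (x (algebraMap R₀ R i)))
    let θ := (GLin.orbitHom k A x).toRingHom
    have hI : I ≤ RingHom.ker θ := Ideal.span_le.2 (by
      rintro _ ⟨i, rfl⟩
      rw [SetLike.mem_coe, RingHom.mem_ker]
      simp [θ, StrEt66.orbitHom_invariant x (hinv i)])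
    let θ' : R ⧸ I →+* A := Ideal.Quotient.lift I θ fun r hr => hI hr
    have h1 : θ = θ'.comp (Ideal.Quotient.mk I) := RingHom.ext fun r => rfl
    have h2 : (GLin.orbitHom k A (x.comp φ)).toRingHom = θ'.comp ((Ideal.Quotient.mk I).comp φ.toRingHom) :=
      RingHom.ext fun s => (StrEt66.orbitHom_comp φ hequiv x s).symm
    have hs : Function.Surjective ((Ideal.Quotient.mk I).comp φ.toRingHom) := by
      intro z
      obtain ⟨r, rfl⟩ := Ideal.Quotient.mk_surjective z
      obtain ⟨t, rfl⟩ := hcart.2 r
      induction t using TensorProduct.induction_on with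
      | zero => exact ⟨0, by simp⟩
      | add p q hp hq =>
        obtain ⟨a, ha⟩ := hp
        obtain ⟨b, hb⟩ := hq
        exact ⟨a + b, by rw [map_add, ha, hb, map_add, map_add]⟩
      | tmul s i =>
        refine ⟨s * algebraMap k S (x (algebraMap R₀ R i)), ?_⟩
        simp only [Algebra.TensorProduct.productMap_apply_tmul, IsScalarTower.toAlgHom_apply, map_mul,
          RingHom.comp_apply, AlgHom.toRingHom_eq_coe, RingHom.coe_coe, φ, AlgHom.commutes]
        refine congrArg (Ideal.Quotient.mk I (algebraMap S R s) * ·) (Ideal.Quotient.eq.2 ?_)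
        rw [← Ideal.neg_mem_iff, neg_sub]
        exact Ideal.subset_span ⟨i, rfl⟩
    show IsClosed (Set.range (PrimeSpectrum.comap θ)) ↔ _
    rw [GLin.IsClosedOrbit, h1, h2, PrimeSpectrum.comap_comp, PrimeSpectrum.comap_comp, Set.range_comp,
      Set.range_comp, ← (PrimeSpectrum.isClosedEmbedding_comap_of_surjective _ _ Ideal.Quotient.mk_surjective).isClosed_iff_image_isClosed,
      ← (PrimeSpectrum.isClosedEmbedding_comap_of_surjective _ _ hs).isClosed_iff_image_isClosed]

end Groth.Agent.S19412
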