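import Groth.Statements.S19416
import Groth.Agent.IntMult63.DimInter
import Groth.Agent.FibDim.BaseField

set_option autoImplicit false
universe u
open CategoryTheory AlgebraicGeometry
open IntMult

namespace Groth.Agent.S19416

/-- Let k be a field and X a smooth variety over k (the structure morphism X → Spec k smooth, separated
and quasi-compact, X integral) of dimension n, and let V, W ⊆ X be closed irreducible subsets of
dimensions r and s. Then every irreducible component Z of V ∩ W has dimension at least r + s − n,
stated as r + s ≤ dim Z + n with Krull dimensions of the subspaces; equivalently the codimension of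
Z is at most the sum of the codimensions of V and W. The base field is arbitrary here; the same
statement over an algebraically closed field is the classical dimension count for intersections on a
nonsingular variety. -/
theorem result (k : Type u) [Field k] (X : Scheme.{u})
    (f : X ⟶ Spec (CommRingCat.of k)) [Smooth f] [IsSeparated f] [QuasiCompact f] [IsIntegral X]
    (n r s : ℕ) (hn : topologicalKrullDim X = n) (V W : Set X) (hVc : IsClosed V)
    (hVi : IsIrreducible V) (hWc : IsClosed W) (hWi : IsIrreducible W)
    (hr : topologicalKrullDim ↥V = r) (hs : topologicalKrullDim ↥W = s) (Z : Set ↥(V ∩ W))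
    (hZ : Z ∈ irreducibleComponents ↥(V ∩ W)) :
    ((r + s : ℕ) : WithBot ℕ∞) ≤ topologicalKrullDim ↥Z + n := by
  haveI := LocallyOfFiniteType.isLocallyNoetherian f
  haveI := Groth.Agent.FibDim.subsingleton_spec_field k
  set δ : X → ℤ := fun x => (Groth.Agent.FibDim.rd f x : ℤ)
  have hd := (Groth.Agent.H23.SetupLFT.isSetup f (Groth.Agent.CycLib.isSetup_spec_field k)
    (Groth.Agent.CycLib.deltaCompat_rd f)).2.2
  have hdim : ∀ (x : X) (m : ℕ), topologicalKrullDim ↥(closure ({x} : Set X)) = m → δ x = m := fun x m h => by
    rw [Groth.Agent.FibDim.topologicalKrullDim_closure f x] at h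
    have h' : Groth.Agent.FibDim.rd f x = m := by exact_mod_cast h
    simp only [δ, h']
  have hgen : δ (genericPoint X) = n := hdim _ n (by
    rw [(genericPoint_spec X).def, (Homeomorph.Set.univ X).isHomeomorph.topologicalKrullDim_eq, hn])
  obtain ⟨v, hv⟩ := QuasiSober.sober hVi hVc
  obtain ⟨w, hw⟩ := QuasiSober.sober hWi hWc
  have hδv : δ v = r := hdim v r (by rw [hv.def]; exact hr)
  have hδw : δ w = s := hdim w s (by rw [hw.def]; exact hs)
  have hZc : IsClosed Z := isClosed_of_mem_irreducibleComponents Z hZ
  have hemb : Topology.IsClosedEmbedding (Subtype.val : ↥(V ∩ W) → X) :=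
    (hVc.inter hWc).isClosedEmbedding_subtypeVal
  obtain ⟨ξ, hξ⟩ := QuasiSober.sober (hZ.1.image _ continuous_subtype_val.continuousOn) (hemb.isClosedMap _ hZc)
  obtain ⟨a, haZ, ha⟩ : ξ ∈ Subtype.val '' Z := hξ.mem
  subst ha
  have hZdim : topologicalKrullDim ↥Z = topologicalKrullDim ↥(closure ({a.1} : Set X)) := by
    rw [hξ.def]
    exact (Homeomorph.isHomeomorph (hemb.isEmbedding.homeomorphImage Z)).topologicalKrullDim_eq
  obtain ⟨z, hz⟩ : ∃ z : ℕ, δ a.1 = z := ⟨_, rfl⟩
  have hZz : topologicalKrullDim ↥Z = z := by
    rw [hZdim, Groth.Agent.FibDim.topologicalKrullDim_closure f a.1]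
    have hz' : Groth.Agent.FibDim.rd f a.1 = z := by simp only [δ] at hz; exact_mod_cast hz
    rw [hz']
    rfl
  rw [hZz]
  have h := Groth.Agent.IntMult63.delta_add_le_of_component f hd (hv.specializes a.2.1) (hw.specializes a.2.2)
    fun y hy1 hy2 hya => by
      have hyV : y ∈ V := by rw [← hv.def]; exact specializes_iff_mem_closure.1 hy1
      have hyW : y ∈ W := by rw [← hw.def]; exact specializes_iff_mem_closure.1 hy2
      let b : ↥(V ∩ W) := ⟨y, hyV, hyW⟩
      have hsub : Z ⊆ closure {b} := fun c hc => by
        have hca : a.1 ⤳ c.1 := hξ.specializes ⟨c, hc, rfl⟩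
        exact specializes_iff_mem_closure.1 (hemb.isEmbedding.isInducing.specializes_iff.1 (hya.trans hca))
      have hmem : b ∈ Z := hZ.2 isIrreducible_singleton.closure hsub (subset_closure rfl)
      exact (hya.antisymm (hξ.specializes ⟨b, hmem, rfl⟩)).eq
  simp only [δ] at hgen hδv hδw hz
  rw [hgen, hδv, hδw, hz] at h
  exact_mod_cast (by omega : r + s ≤ z + n)

end Groth.Agent.S19416
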