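import Groth.Statements.S19438
import Mathlib

set_option autoImplicit false
universe u
open CAlg

namespace Groth.Agent.S19438

open IsLocalRing in
theorem exists_notMem (k : Type*) [Field k] (A : Type*) [CommRing A] [Algebra k A] [IsNoetherianRing A]
    [IsLocalRing A] (hres : Function.Surjective (algebraMap k (ResidueField A)))
    (hemb : 2 ≤ Module.finrank (ResidueField A) (CotangentSpace A))
    (I : Ideal A) (hI : I ≠ ⊤) (f : A ⧸ I) (hf : Algebra.adjoin k {f} = ⊤) :
    ∃ g ∈ I, g ∉ maximalIdeal A ^ 2 := by
  by_contra! hall
  set M := maximalIdeal A with hM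
  obtain ⟨F, rfl⟩ := Ideal.Quotient.mk_surjective f
  obtain ⟨c, hc⟩ := hres (residue A F)
  set m := F - algebraMap k A c with hm
  have hmM : m ∈ M := by
    rw [hM, ← residue_eq_zero_iff, hm, map_sub, ← hc, sub_eq_zero]
    rfl
  let f₂ : A ⧸ M ^ 2 := Ideal.Quotient.mk _ m
  have hsq : f₂ * f₂ = 0 := by
    rw [← map_mul, Ideal.Quotient.eq_zero_iff_mem, pow_two]
    exact Ideal.mul_mem_mul hmM hmM
  -- every element is congruent to a linear polynomial in `m` modulo `M ^ 2`
  have hlin : ∀ a : A, ∃ u v : k, Ideal.Quotient.mk (M ^ 2) a =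
      algebraMap k _ u + algebraMap k _ v * f₂ := by
    intro a
    have : Ideal.Quotient.mk I a ∈ Algebra.adjoin k {Ideal.Quotient.mk I F} := hf ▸ Algebra.mem_top
    rw [Algebra.adjoin_singleton_eq_range_aeval] at this
    obtain ⟨P, hP⟩ := this
    have hP' : Ideal.Quotient.mk I (Polynomial.aeval F P) = Ideal.Quotient.mk I a := by
      rw [← hP, AlgHom.toRingHom_eq_coe, RingHom.coe_coe, Polynomial.aeval_def,
        Polynomial.hom_eval₂]
      rfl
    have hPa : Ideal.Quotient.mk (M ^ 2) (Polynomial.aeval F P) = Ideal.Quotient.mk (M ^ 2) a :=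
      Ideal.Quotient.eq.mpr (hall _ (Ideal.Quotient.eq.mp hP'))
    rw [← hPa]
    clear hP hP' hPa
    induction P using Polynomial.induction_on' with
    | add p q hp hq =>
      obtain ⟨u, v, h⟩ := hp
      obtain ⟨u', v', h'⟩ := hq
      exact ⟨u + u', v + v', by rw [map_add, map_add, h, h', map_add, map_add]; ring⟩
    | monomial n r =>
      have hF : Ideal.Quotient.mk (M ^ 2) F = algebraMap k _ c + f₂ := by
        show _ = _ + Ideal.Quotient.mk (M ^ 2) (F - algebraMap k A c)
        rw [map_sub, Ideal.Quotient.mk_algebraMap]
        ring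
      have hpow : ∀ n : ℕ, ∃ u v : k, Ideal.Quotient.mk (M ^ 2) (F ^ n) =
          algebraMap k _ u + algebraMap k _ v * f₂ := by
        intro n
        induction n with
        | zero => exact ⟨1, 0, by simp⟩
        | succ n ih =>
          obtain ⟨u, v, h⟩ := ih
          refine ⟨u * c, u + v * c, ?_⟩
          rw [pow_succ F n, map_mul, h, hF, map_mul, map_add, map_mul]
          linear_combination (algebraMap k (A ⧸ M ^ 2) v) * hsq
      obtain ⟨u, v, h⟩ := hpow n
      refine ⟨r * u, r * v, ?_⟩
      rw [Polynomial.aeval_monomial, map_mul, h, Ideal.Quotient.mk_algebraMap, map_mul, map_mul]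
      ring
  have hspan : ∀ x ∈ M, ∃ v : k, x - algebraMap k A v * m ∈ M ^ 2 := by
    intro x hx
    obtain ⟨u, v, huv⟩ := hlin x
    refine ⟨v, ?_⟩
    have hmem : x - (algebraMap k A u + algebraMap k A v * m) ∈ M ^ 2 := by
      rw [← Ideal.Quotient.eq, huv, map_add, map_mul, Ideal.Quotient.mk_algebraMap,
        Ideal.Quotient.mk_algebraMap]
    have hu : algebraMap k A u ∈ M := by
      have h1 := sub_mem (sub_mem hx (Ideal.mul_mem_left _ (algebraMap k A v) hmM))
        (Ideal.pow_le_self two_ne_zero hmem)
      convert h1 using 1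
      ring
    have hu0 : u = 0 := by
      by_contra hne
      exact (maximalIdeal.isMaximal A).ne_top
        (Ideal.eq_top_of_isUnit_mem _ hu ((IsUnit.mk0 _ hne).map _))
    rw [hu0, map_zero, zero_add] at hmem
    exact hmem
  have hle : Module.finrank (ResidueField A) (CotangentSpace A) ≤ 1 := by
    refine finrank_le_one (M.toCotangent ⟨m, hmM⟩) fun w => ?_
    obtain ⟨⟨x, hx⟩, rfl⟩ := M.toCotangent_surjective w
    obtain ⟨v, hv⟩ := hspan x hx
    refine ⟨residue A (algebraMap k A v), ?_⟩
    show algebraMap k A v • M.toCotangent ⟨m, hmM⟩ = _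
    rw [← map_smul, eq_comm, Ideal.toCotangent_eq]
    exact hv
  omega


/-- First assertion: let A be a Noetherian local commutative algebra over a field k with maximal ideal
M, residue field k (the map from k to A/M is onto) and embedding dimension dim M/M^2 at least 2, and
let I be a proper ideal with A/I finite-dimensional over k. If A/I is generated as a k-algebra by
one element, then some element of I does not lie in M^2; that is, the finite closed subscheme
defined by I lies on a smooth hypersurface germ (it is curvilinear). (The published statement is for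
the local ring of a smooth surface at a closed point; only a Noetherian local algebra with residue
field k and embedding dimension at least 2 is assumed here, which is what the published argument
uses.) -/
theorem result (k : Type u) [Field k]
    (A : Type u) [CommRing A] [Algebra k A] [IsNoetherianRing A] [IsLocalRing A]
    (hres : Function.Surjective (algebraMap k (IsLocalRing.ResidueField A)))
    (hemb : 2 ≤ Module.finrank (IsLocalRing.ResidueField A) (IsLocalRing.CotangentSpace A))
    (I : Ideal A) (hI : I ≠ ⊤) [Module.Finite k (A ⧸ I)]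
    (f : A ⧸ I) (hf : Algebra.adjoin k {f} = ⊤) :
    ∃ g ∈ I, g ∉ IsLocalRing.maximalIdeal A ^ 2 := by
  classical
  exact exists_notMem k A hres hemb I hI f hf

end Groth.Agent.S19438
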