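import Mathlib
import Groth.Statements.S19448


set_option autoImplicit false
universe u
open CAlg

namespace Groth.Agent.S19448

theorem smul_eq_self (k : Type*) [Field k] (A : Type*) [CommRing A]
    [Algebra k A] [IsLocalRing A] [IsNoetherianRing A]
    (hres : Function.Surjective (algebraMap k (IsLocalRing.ResidueField A)))
    (G : Type*) [Group G] [Finite G] [MulSemiringAction G A] [SMulCommClass G k A]
    (hG : (Nat.card G : k) ≠ 0) (g : G)
    (hg : ∀ a ∈ IsLocalRing.maximalIdeal A, g • a - a ∈ IsLocalRing.maximalIdeal A ^ 2) (a : A) :
    g • a = a := by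
  set M := IsLocalRing.maximalIdeal A with hM
  have hgM : ∀ x ∈ M, g • x ∈ M := fun x hx => by
    rw [hM, IsLocalRing.mem_maximalIdeal, mem_nonunits_iff] at hx ⊢
    exact fun hu => hx (by simpa using hu.map (MulSemiringAction.toRingHom G A g⁻¹))
  have hgpow : ∀ i : ℕ, ∀ x ∈ M ^ i, g • x ∈ M ^ i := fun i x hx => by
    have : (M ^ i).map (MulSemiringAction.toRingHom G A g) ≤ M ^ i := by
      rw [Ideal.map_pow]
      exact Ideal.pow_right_mono (Ideal.map_le_iff_le_comap.mpr hgM) i
    exact this (Ideal.mem_map_of_mem _ hx)
  have key : ∀ j : ℕ, ∀ x ∈ M, g • x - x ∈ M ^ (j + 2) := by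
    intro j
    induction j with
    | zero => exact hg
    | succ j ih =>
      intro x hx
      have hshift : ∀ i : ℕ, ∀ y ∈ M ^ (i + 1), g • y - y ∈ M ^ (i + 1 + j + 1) := by
        intro i
        induction i with
        | zero =>
          intro y hy
          rw [pow_one] at hy
          convert ih y hy using 2
          ring
        | succ i ihi =>
          intro y hy
          rw [pow_succ] at hy
          refine Submodule.mul_induction_on hy (fun p hp q hq => ?_) (fun p q hp hq => ?_)
          · rw [smul_mul', show g • p * g • q - p * q =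
              (g • p - p) * q + g • p * (g • q - q) by ring]
            refine add_mem ?_ ?_
            · rw [show i + 1 + 1 + j + 1 = (i + 1 + j + 1) + 1 by ring, pow_succ]
              exact Ideal.mul_mem_mul (ihi p hp) hq
            · rw [show i + 1 + 1 + j + 1 = (i + 1) + (j + 2) by ring, pow_add]
              exact Ideal.mul_mem_mul (hgpow _ p hp) (ih q hq)
          · rw [smul_add, show g • p + g • q - (p + q) = (g • p - p) + (g • q - q) by ring]
            exact add_mem hp hq
      have hn : ∀ n : ℕ, (g ^ n) • x - x - (n : A) * (g • x - x) ∈ M ^ (j + 3) := by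
        intro n
        induction n with
        | zero => simp
        | succ n ihn =>
          have h1 := hgpow _ _ ihn
          have h2 := Ideal.mul_mem_left _ (n : A) (hshift (j + 1) (g • x - x) (ih x hx))
          rw [smul_sub, smul_sub, smul_mul', ← mul_smul, ← pow_succ'] at h1
          have hcast : g • (n : A) = (n : A) := map_natCast (MulSemiringAction.toRingHom G A g) n
          rw [hcast] at h1
          have h3 : (n : A) * (g • (g • x - x) - (g • x - x)) ∈ M ^ (j + 3) :=
            Ideal.pow_le_pow_right (by omega) h2
          convert add_mem h1 h3 using 1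
          push_cast
          ring
      have h0 := hn (orderOf g)
      rw [pow_orderOf_eq_one, one_smul, sub_self, zero_sub, neg_mem_iff] at h0
      have hu : IsUnit (orderOf g : A) := by
        obtain ⟨t, ht⟩ := orderOf_dvd_natCard g
        have : (orderOf g : k) ≠ 0 := fun h => hG (by rw [ht, Nat.cast_mul, h, zero_mul])
        simpa using (IsUnit.mk0 _ this).map (algebraMap k A)
      exact (Ideal.unit_mul_mem_iff_mem _ hu).mp h0
  obtain ⟨c, hc⟩ := hres (IsLocalRing.residue A a)
  have ha : a - algebraMap k A c ∈ M := by
    rw [hM, ← IsLocalRing.residue_eq_zero_iff, map_sub, ← hc, sub_eq_zero]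
    rfl
  have h1 : ∀ j : ℕ, g • a - a ∈ M ^ j := fun j => by
    have := key j _ ha
    rw [smul_sub, smul_algebraMap, sub_sub_sub_cancel_right] at this
    exact Ideal.pow_le_pow_right (by omega) this
  have h2 : g • a - a ∈ ⨅ j : ℕ, M ^ j := Ideal.mem_iInf.mpr h1
  rw [Ideal.iInf_pow_eq_bot_of_isLocalRing _ (IsLocalRing.maximalIdeal.isMaximal A).ne_top,
    Ideal.mem_bot, sub_eq_zero] at h2
  exact h2


/-- Let k be a field, A a Noetherian local k-algebra with maximal ideal M and residue field k, and G a
finite group with |G| ≠ 0 in k acting on A by k-algebra automorphisms. An element of G which acts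
trivially on M/M^2 acts trivially on A; in other words the stabilizer acts faithfully on the
cotangent space whenever it acts faithfully on the local ring. -/
theorem result (k : Type u) [Field k] (A : Type u) [CommRing A]
    [Algebra k A] [IsLocalRing A] [IsNoetherianRing A]
    (hres : Function.Surjective (algebraMap k (IsLocalRing.ResidueField A)))
    (G : Type u) [Group G] [Finite G] [MulSemiringAction G A] [SMulCommClass G k A]
    (hG : (Nat.card G : k) ≠ 0) (g : G)
    (hg : ∀ a ∈ IsLocalRing.maximalIdeal A, g • a - a ∈ IsLocalRing.maximalIdeal A ^ 2) (a : A) :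
    g • a = a := by
  classical
  exact smul_eq_self k A hres G hG g hg a

end Groth.Agent.S19448
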