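import Mathlib
import Groth.Statements.S19461
import Groth.Agent.DescLib.Flat


set_option autoImplicit false
universe u
open CAlg

namespace Groth.Agent.S19461

theorem flat_and_map_eq (A B : Type u) [CommRing A]
    [CommRing B] [IsLocalRing A] [IsLocalRing B] [IsNoetherianRing A] [IsNoetherianRing B]
    [Algebra A B] [IsLocalHom (algebraMap A B)]
    (ψ : AdicCompletion (IsLocalRing.maximalIdeal A) A →+*
      AdicCompletion (IsLocalRing.maximalIdeal B) B)
    (hψ : ψ.comp (algebraMap A (AdicCompletion (IsLocalRing.maximalIdeal A) A)) =
      (algebraMap B (AdicCompletion (IsLocalRing.maximalIdeal B) B)).comp (algebraMap A B))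
    (hbij : Function.Bijective ψ) :
    Module.Flat A B ∧
      Ideal.map (algebraMap A B) (IsLocalRing.maximalIdeal A) = IsLocalRing.maximalIdeal B := by
  let A' := AdicCompletion (IsLocalRing.maximalIdeal A) A
  let B' := AdicCompletion (IsLocalRing.maximalIdeal B) B
  haveI : IsScalarTower A B B' := IsScalarTower.of_algebraMap_eq' rfl
  haveI : IsLocalHom (algebraMap B B') := by
    refine ((IsLocalRing.local_hom_TFAE _).out 0 2).mpr ?_
    rw [AdicCompletion.maximalIdeal_eq_map]
  haveI : Module.FaithfullyFlat B B' := Module.FaithfullyFlat.of_flat_of_isLocalHom
  let e : A' ≃ₐ[A] B' := AlgEquiv.ofBijective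
    ({ ψ with commutes' := fun a => (RingHom.congr_fun hψ a).trans (IsScalarTower.algebraMap_apply A B B' a).symm } : A' →ₐ[A] B') hbij
  haveI : Module.Flat A B' := Module.Flat.of_linearEquiv e.symm.toLinearEquiv
  refine ⟨?_, ?_⟩
  · exact DescLib.flat_of_universallyInjective (IsScalarTower.toAlgHom A B B').toLinearMap
      (fun N _ _ => DescLib.lTensor_injective_of_faithfullyFlat A B B' N)
  · apply Ideal.map_injective_of_faithfullyFlat (B := B')
    rw [Ideal.map_map, ← hψ, ← Ideal.map_map, ← AdicCompletion.maximalIdeal_eq_map,
      ← AdicCompletion.maximalIdeal_eq_map]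
    exact IsLocalRing.map_ringEquiv_maximalIdeal (RingEquiv.ofBijective ψ hbij)


/-- The implication from isomorphic completions to flat and unramified. Let A → B be a local
homomorphism of Noetherian local rings and ψ a ring map from the completion of A at its maximal
ideal to that of B whose composite with A → A^ is A → B → B^. If ψ is bijective, then A → B is flat
and the maximal ideal of A generates the maximal ideal of B. (The published statement is the
implication, for a morphism of algebraic varieties over an algebraically closed field, from
isomorphic induced maps of completed local rings at every point to flat and unramified; its proof is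
this local-ring argument, valid for any Noetherian local rings. The converse implication is a
separate result.) -/
theorem result (A B : Type u) [CommRing A]
    [CommRing B] [IsLocalRing A] [IsLocalRing B] [IsNoetherianRing A] [IsNoetherianRing B]
    [Algebra A B] [IsLocalHom (algebraMap A B)]
    (ψ : AdicCompletion (IsLocalRing.maximalIdeal A) A →+* AdicCompletion (IsLocalRing.maximalIdeal B) B)
    (hψ : ψ.comp (algebraMap A (AdicCompletion (IsLocalRing.maximalIdeal A) A)) =
      (algebraMap B (AdicCompletion (IsLocalRing.maximalIdeal B) B)).comp (algebraMap A B))
    (hbij : Function.Bijective ψ) :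
    Module.Flat A B ∧
      Ideal.map (algebraMap A B) (IsLocalRing.maximalIdeal A) = IsLocalRing.maximalIdeal B := by
  exact flat_and_map_eq A B ψ hψ hbij

end Groth.Agent.S19461
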