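import Groth.Statements.S19462
import Groth.Agent.GrLib8.MinCover

namespace Groth.Agent.S19462

open DirectSum

/-- A family of additive submonoids closed under negation, as additive subgroups. -/
def toAddSubgroup {M : Type*} [AddCommGroup M] {τ : Type*} [SetLike τ M] [AddSubmonoidClass τ M] (ℳ : ℤ → τ)
    (h : ∀ i, ∀ x ∈ ℳ i, -x ∈ ℳ i) (i : ℤ) : AddSubgroup M where
  carrier := ℳ i
  zero_mem' := zero_mem _
  add_mem' := add_mem
  neg_mem' := h i _

/-- Projective finite graded modules have homogeneous bases. -/
theorem exists_basis {R : Type*} [CommRing R] {M : Type*} [AddCommGroup M] [Module R M] {K : ℕ}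
    (t : Fin K → M) (h : Submodule.span R (Set.range t) = ⊤) (I : Ideal R) [Module.Projective R M]
    (hI : ∀ x : R, (∀ n : ℕ, x ∈ I ^ n) → x = 0)
    (hrel : ∀ c : Fin K → R, ∑ j, c j • t j = 0 → ∀ j, c j ∈ I) : LinearIndependent R t := by
  classical
  rw [Fintype.linearIndependent_iff]
  intro c hc j
  let φ : (Fin K → R) →ₗ[R] M := Fintype.linearCombination R t
  have hφ : Function.Surjective φ := by
    rw [← LinearMap.range_eq_top, Fintype.range_linearCombination, h]
  obtain ⟨s, hs⟩ := Module.projective_lifting_property φ LinearMap.id hφ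
  let π : (Fin K → R) →ₗ[R] (Fin K → R) := LinearMap.id - s.comp φ
  have hπ : ∀ x, φ (π x) = 0 := by
    intro x
    have := LinearMap.congr_fun hs (φ x)
    simp only [LinearMap.comp_apply, LinearMap.id_apply] at this
    simp [π, map_sub, this]
  have hfix : ∀ x, φ x = 0 → π x = x := fun x hx => by simp [π, hx]
  have key : ∀ n : ℕ, ∀ x, φ x = 0 → ∀ j, x j ∈ I ^ (n + 1) := by
    intro n
    induction n with
    | zero =>
      intro x hx j
      simpa using hrel x (by simpa [φ, Fintype.linearCombination_apply] using hx) j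
    | succ n ih =>
      intro x hx j
      rw [← hfix x hx]
      have hx' : x = ∑ l, x l • (Pi.single l (1 : R) : Fin K → R) := by
        ext m; simp [Finset.sum_apply, Pi.single_apply]
      rw [hx', map_sum, Finset.sum_apply]
      refine Ideal.sum_mem _ fun l _ => ?_
      rw [map_smul, Pi.smul_apply, smul_eq_mul, pow_succ']
      exact Ideal.mul_mem_mul (by simpa using hrel x (by simpa [φ, Fintype.linearCombination_apply] using hx) l)
        (ih _ (hπ _) j)
  refine hI _ fun n => ?_
  exact Ideal.pow_le_pow_right (Nat.le_succ n) (key n c (by simpa [φ, Fintype.linearCombination_apply] using hc) j)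

end Groth.Agent.S19462

set_option autoImplicit false
universe u
open GrNak

namespace Groth.Agent.S19462

/-- Let k be a field and R a commutative ℤ-graded k-algebra whose pieces of negative degree vanish and
whose degree-zero piece is the image of k, and let M be a finitely generated ℤ-graded R-module,
graded compatibly with R. Then M is a projective R-module if and only if M has an R-basis consisting
of homogeneous elements, i.e. M is a free graded module. (The published statement takes R a graded
quotient of a polynomial ring k[x_0, …, x_n] with its standard grading; stated here for any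
commutative graded k-algebra concentrated in non-negative degrees with degree-zero part k, to which
the same graded-Nakayama argument applies.) -/
theorem result {k : Type u} [Field k] {R : Type u} [CommRing R] [Algebra k R]
    {σ : Type u} [SetLike σ R] [AddSubmonoidClass σ R] (𝒜 : ℤ → σ) [GradedRing 𝒜]
    (hneg : ∀ i : ℤ, i < 0 → ∀ x ∈ 𝒜 i, x = 0)
    (hk : ∀ c : k, algebraMap k R c ∈ 𝒜 0) (h0 : ∀ x ∈ 𝒜 0, ∃ c : k, algebraMap k R c = x)
    {M : Type u} [AddCommGroup M] [Module R M] [Module.Finite R M]
    {τ : Type u} [SetLike τ M] [AddSubmonoidClass τ M] (ℳ : ℤ → τ) [DirectSum.Decomposition ℳ]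
    [SetLike.GradedSMul 𝒜 ℳ] :
    Module.Projective R M ↔
      ∃ (ι : Type u) (b : Module.Basis ι R M), ∀ i : ι, SetLike.IsHomogeneousElem ℳ (b i) := by
  classical
  have negA : ∀ i, ∀ x ∈ 𝒜 i, -x ∈ 𝒜 i := fun i x hx => by
    have := SetLike.mul_mem_graded (hk (-1)) hx
    simpa using this
  have negM : ∀ i, ∀ x ∈ ℳ i, -x ∈ ℳ i := fun i x hx => by
    have := SetLike.GradedSMul.smul_mem (A := 𝒜) (B := ℳ) (hk (-1)) hx
    simpa [algebraMap_smul] using this
  let A' := toAddSubgroup 𝒜 negA
  let M' := toAddSubgroup ℳ negM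
  letI gA : GradedRing A' :=
    { one_mem := (SetLike.one_mem_graded 𝒜 : _)
      mul_mem := fun i j a b ha hb => (SetLike.mul_mem_graded (A := 𝒜) ha hb : _)
      decompose' := fun x => (DirectSum.decompose 𝒜 x : DirectSum ℤ fun i => 𝒜 i)
      left_inv := DirectSum.Decomposition.left_inv (ℳ := 𝒜)
      right_inv := DirectSum.Decomposition.right_inv (ℳ := 𝒜) }
  letI gM : DirectSum.Decomposition M' :=
    { decompose' := fun x => (DirectSum.decompose ℳ x : DirectSum ℤ fun i => ℳ i)
      left_inv := DirectSum.Decomposition.left_inv (ℳ := ℳ)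
      right_inv := DirectSum.Decomposition.right_inv (ℳ := ℳ) }
  haveI : SetLike.GradedSMul A' M' :=
    ⟨fun {i j a b} ha hb => (SetLike.GradedSMul.smul_mem (A := 𝒜) (B := ℳ) ha hb : _)⟩
  have hpos : ∀ n < 0, ∀ r ∈ A' n, r = 0 := fun n hn r hr => hneg n hn r hr
  have hunit : ∀ r ∈ A' (0 : ℤ), r ≠ 0 → IsUnit r := fun r hr hr0 => by
    obtain ⟨c, rfl⟩ := h0 r hr
    exact (Ne.isUnit (fun hc => hr0 (by rw [hc, map_zero]))).map _
  constructor
  · intro hproj
    obtain ⟨K, t, e, ht, htop, hrel⟩ := GrLib8.exists_minimal_gens A' hpos M' hunit (M := M)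
    have hall : ∀ y : R, y ∈ GrLib8.aboveSub A' A' hpos 0 := fun y g hg => hpos g hg _ (SetLike.coe_mem _)
    have hpow : ∀ n : ℕ, ∀ x ∈ (GrSyz.irrel A').toIdeal ^ n, x ∈ GrLib8.aboveSub A' A' hpos (n : ℤ) := by
      intro n
      induction n with
      | zero => intro x _; exact hall x
      | succ n ih =>
        intro x hx
        rw [pow_succ'] at hx
        push_cast
        refine GrLib8.irrel_smul_le A' A' hpos (n : ℤ) ?_
        exact Submodule.smul_mono le_rfl (fun y hy => ih y hy) hx
    have hI : ∀ x : R, (∀ n : ℕ, x ∈ (GrSyz.irrel A').toIdeal ^ n) → x = 0 := by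
      intro x hx
      rw [← DirectSum.sum_support_decompose A' x]
      refine Finset.sum_eq_zero fun g _ => ?_
      exact hpow (g.toNat + 1) x (hx _) g (by omega)
    have hli := exists_basis t htop _ hI hrel
    refine ⟨ULift.{u} (Fin K), (Module.Basis.mk hli htop.ge).reindex Equiv.ulift.symm, fun i => ⟨e i.down, ?_⟩⟩
    simp
    exact ht i.down
  · rintro ⟨ι, b, -⟩
    haveI := Module.Free.of_basis b
    infer_instance

end Groth.Agent.S19462
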