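import Groth.Statements.S1947
import Groth.Agent.DevK.Filtr
import Groth.Agent.KZ.ClosedDev
import Groth.Agent.KFlatLib.Scheme.ClosedPush

set_option autoImplicit false
set_option linter.style.haveILetI false
universe u
open CategoryTheory CategoryTheory.Limits AlgebraicGeometry ZeroObject
open Cyc

namespace Groth.Agent.S1947

open Groth.Agent

/-- Let X be locally Noetherian and i : Z → X a closed immersion. Pushforward of coherent modules along
i induces an isomorphism K_0(Coh(Z)) → K_0(Coh_Z(X)), where Coh_Z(X) consists of those coherent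
O_X-modules supported inside (the image of) Z. Here K_0 of a full subcategory of the abelian
category of O-modules is the shared prelude's KZero.K0sub (free abelian group on the objects modulo
the relations of short exact sequences with all terms in the subcategory), and the isomorphism is
asserted to exist compatibly with classes of objects. -/
theorem result (X Z : Scheme.{u}) [IsLocallyNoetherian X] (i : Z ⟶ X) [IsClosedImmersion i] : ∃ φ : KZero.K0sub (fun F : Z.Modules => Coh.IsCoh F) ≃+ KZero.K0sub (fun G : X.Modules => Coh.IsCoh G ∧ ∀ x : X, Nontrivial (G.presheaf.stalk x) → x ∈ Set.range ⇑i), ∀ F : Z.Modules, Coh.IsCoh F → φ (KZero.clSub (fun F : Z.Modules => Coh.IsCoh F) F) = KZero.clSub (fun G : X.Modules => Coh.IsCoh G ∧ ∀ x : X, Nontrivial (G.presheaf.stalk x) → x ∈ Set.range ⇑i) ((Coh.push i).obj F) := by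
  haveI : IsLocallyNoetherian Z := LocallyOfFiniteType.isLocallyNoetherian i
  haveI : PreservesFiniteColimits (Scheme.Modules.pushforward i) :=
    ⟨fun J _ _ => KFlatLib.preservesColimitsOfShape_push i J⟩
  haveI : PreservesFiniteLimits (Scheme.Modules.pushforward i) := by
    haveI := (Scheme.Modules.pullbackPushforwardAdjunction i).rightAdjoint_preservesLimits
    infer_instance
  haveI : (Scheme.Modules.pushforward i).Additive := Functor.additive_of_preserves_binary_products _
  haveI : (Scheme.Modules.pushforward i).Faithful :=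
    ⟨fun {A B} {f g} h => KZ.ClosedDev.push_map_injective i f g h⟩
  let T : Set X := Set.range ⇑i
  have hT : T ⊆ (i.ker.support : Set X) := fun x hx => by
    rw [Scheme.Hom.support_ker]
    exact subset_closure hx
  obtain ⟨φ, hφ, -⟩ := DevK.devissage_supp i.ker T hT
  have hpush : ∀ F : Z.Modules, Coh.IsCoh F →
      DevK.suppKilled T i.ker ((Scheme.Modules.pushforward i).obj F) := fun F hF =>
    ⟨⟨QCoh.isCoh_pushforward_finite i hF, fun x hx =>
      let ⟨z, hz, _⟩ := CycLib.cohLe_push_finite i hF hx; ⟨z, hz⟩⟩,
      DevK.KilledBy.of_sections (KZ.ClosedDev.killed_push i F)⟩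
  obtain ⟨ψ, hψ⟩ := KZ.exists_equiv_sub (Scheme.Modules.pushforward i) (fun F : Z.Modules => Coh.IsCoh F)
    (DevK.suppKilled T i.ker) hpush
    (fun M N hM _ => KZ.ClosedDev.push_map_bijective i (hpush M hM).1.1.1)
    (fun S _ _ _ hS => by
      exact .mk' ((ShortComplex.exact_map_iff_of_faithful S _).1 hS.exact)
        ((Scheme.Modules.pushforward i).mono_of_mono_map hS.mono_f)
        ((Scheme.Modules.pushforward i).epi_of_epi_map hS.epi_g))
    (fun G hG => by
      have := (QCoh.isIso_unit_closed_iff i hG.1.1.1).2 fun U a ha s =>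
        DevK.KilledBy.sections hG.2 U ha s
      exact ⟨_, KZ.ClosedDev.isCoh_pull i hG.1.1,
        ⟨(asIso ((Scheme.Modules.pullbackPushforwardAdjunction i).unit.app G)).symm⟩⟩)
    ⟨0, isZero_zero _, KZ.isCoh_zero⟩
  refine ⟨ψ.trans φ, fun F hF => ?_⟩
  exact (congrArg φ (hψ F hF)).trans (hφ _ (hpush F hF))

end Groth.Agent.S1947
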