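import Groth.Statements.S19482
import Groth.Agent.BunLib68.WeilSS
-- import your own Groth.Agent.* helpers here

set_option autoImplicit false
universe u
open CategoryTheory CategoryTheory.Limits AlgebraicGeometry
open VBCurve

namespace Groth.Agent.S19482

set_option linter.style.haveILetI false
set_option linter.unusedVariables false
set_option backward.isDefEq.respectTransparency false
set_option backward.isDefEq.respectTransparency.types false
open Groth.Agent.CurveBundle Groth.Agent.CurveSlope Groth.Agent.CurveStable Groth.Agent.BunLib68 Groth.Agent.BunLib68.KS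

/-- Let X be a smooth proper integral curve over an algebraically closed field k. Say that a finite
locally free O_X-module E of rank r is essentially finite if it is slope-semistable of degree 0
(degree = χ(E) − r·χ(O_X); semistable: every finite locally free submodule of positive rank has
degree ≤ 0) and there exist a finite locally free module G which is finite in the sense of Weil —
P(G) ≅ Q(G) for two distinct polynomials P ≠ Q with natural-number coefficients, where P(G) is the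
direct sum over i of P_i copies of G^{⊗ i} — and sub-bundles F₂ ⊆ F₁ ⊆ G (monomorphisms F₂ → F₁ → G
whose cokernels are finite locally free), with F₁ and F₂ slope-semistable of degree 0, such that E ≅
F₁/F₂. If E₁ of rank r₁ and E₂ of rank r₂ are essentially finite, then E₁ ⊗ E₂ is finite locally
free of rank r₁ r₂ and essentially finite. (The predicate is written out in full three times; the
curve is smooth, proper and integral of dimension one over an algebraically closed field, so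
slope-semistability has its usual meaning.) -/
theorem result (k : Type u) [Field k] [IsAlgClosed k] (X : Scheme.{u}) [X.Over (Spec (CommRingCat.of k))]
    [IsIntegral X] [IsProper (X ↘ Spec (CommRingCat.of k))] [Smooth (X ↘ Spec (CommRingCat.of k))]
    (hdim : topologicalKrullDim X = 1)
    (r₁ r₂ : ℕ) (E₁ E₂ : X.Modules) (hE₁ : FlatMod.IsFinLocFreeOfRank r₁ E₁) (hE₂ : FlatMod.IsFinLocFreeOfRank r₂ E₂)
    (h₁ : (Curv2.deg k X E₁ r₁ = 0 ∧ ModFun.IsSlopeSemistable k X E₁ r₁ ∧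
      ∃ (s : ℕ) (G : X.Modules) (s₁ : ℕ) (F₁ : X.Modules) (s₂ : ℕ) (F₂ : X.Modules) (i₁ : F₁ ⟶ G) (i₂ : F₂ ⟶ F₁),
        FlatMod.IsFinLocFreeOfRank s G ∧
        (∃ P Q : Polynomial ℕ, P ≠ Q ∧ Nonempty ((∐ fun i : Fin (P.natDegree + 1) => ∐ fun _ : Fin (P.coeff ↑i) => CohB1.tensorPow G ↑i) ≅
          (∐ fun i : Fin (Q.natDegree + 1) => ∐ fun _ : Fin (Q.coeff ↑i) => CohB1.tensorPow G ↑i))) ∧
        FlatMod.IsFinLocFreeOfRank s₁ F₁ ∧ FlatMod.IsFinLocFreeOfRank s₂ F₂ ∧ Mono i₁ ∧ Mono i₂ ∧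
        FlatMod.IsFinLocFree (cokernel i₁) ∧ FlatMod.IsFinLocFree (cokernel i₂) ∧
        Curv2.deg k X F₁ s₁ = 0 ∧ ModFun.IsSlopeSemistable k X F₁ s₁ ∧
        Curv2.deg k X F₂ s₂ = 0 ∧ ModFun.IsSlopeSemistable k X F₂ s₂ ∧
        Nonempty (E₁ ≅ cokernel i₂)))
    (h₂ : (Curv2.deg k X E₂ r₂ = 0 ∧ ModFun.IsSlopeSemistable k X E₂ r₂ ∧
      ∃ (s : ℕ) (G : X.Modules) (s₁ : ℕ) (F₁ : X.Modules) (s₂ : ℕ) (F₂ : X.Modules) (i₁ : F₁ ⟶ G) (i₂ : F₂ ⟶ F₁),
        FlatMod.IsFinLocFreeOfRank s G ∧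
        (∃ P Q : Polynomial ℕ, P ≠ Q ∧ Nonempty ((∐ fun i : Fin (P.natDegree + 1) => ∐ fun _ : Fin (P.coeff ↑i) => CohB1.tensorPow G ↑i) ≅
          (∐ fun i : Fin (Q.natDegree + 1) => ∐ fun _ : Fin (Q.coeff ↑i) => CohB1.tensorPow G ↑i))) ∧
        FlatMod.IsFinLocFreeOfRank s₁ F₁ ∧ FlatMod.IsFinLocFreeOfRank s₂ F₂ ∧ Mono i₁ ∧ Mono i₂ ∧
        FlatMod.IsFinLocFree (cokernel i₁) ∧ FlatMod.IsFinLocFree (cokernel i₂) ∧
        Curv2.deg k X F₁ s₁ = 0 ∧ ModFun.IsSlopeSemistable k X F₁ s₁ ∧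
        Curv2.deg k X F₂ s₂ = 0 ∧ ModFun.IsSlopeSemistable k X F₂ s₂ ∧
        Nonempty (E₂ ≅ cokernel i₂))) :
    FlatMod.IsFinLocFreeOfRank (r₁ * r₂) (CohB1.tensorMod E₁ E₂) ∧
    (Curv2.deg k X (CohB1.tensorMod E₁ E₂) (r₁ * r₂) = 0 ∧ ModFun.IsSlopeSemistable k X (CohB1.tensorMod E₁ E₂) (r₁ * r₂) ∧
      ∃ (s : ℕ) (G : X.Modules) (s₁ : ℕ) (F₁ : X.Modules) (s₂ : ℕ) (F₂ : X.Modules) (i₁ : F₁ ⟶ G) (i₂ : F₂ ⟶ F₁),
        FlatMod.IsFinLocFreeOfRank s G ∧
        (∃ P Q : Polynomial ℕ, P ≠ Q ∧ Nonempty ((∐ fun i : Fin (P.natDegree + 1) => ∐ fun _ : Fin (P.coeff ↑i) => CohB1.tensorPow G ↑i) ≅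
          (∐ fun i : Fin (Q.natDegree + 1) => ∐ fun _ : Fin (Q.coeff ↑i) => CohB1.tensorPow G ↑i))) ∧
        FlatMod.IsFinLocFreeOfRank s₁ F₁ ∧ FlatMod.IsFinLocFreeOfRank s₂ F₂ ∧ Mono i₁ ∧ Mono i₂ ∧
        FlatMod.IsFinLocFree (cokernel i₁) ∧ FlatMod.IsFinLocFree (cokernel i₂) ∧
        Curv2.deg k X F₁ s₁ = 0 ∧ ModFun.IsSlopeSemistable k X F₁ s₁ ∧
        Curv2.deg k X F₂ s₂ = 0 ∧ ModFun.IsSlopeSemistable k X F₂ s₂ ∧
        Nonempty ((CohB1.tensorMod E₁ E₂) ≅ cokernel i₂)) := by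
  haveI := isLocallyNoetherian' k (X := X)
  have e₁ := isFinLocFree_of_rank hE₁
  have e₂ := isFinLocFree_of_rank hE₂
  obtain ⟨hd₁, -, s, G, a, F, b, F', i, i', hG, hW, hF, hF', hi, hi', hC, hC', hdF, -, -, -, ⟨e⟩⟩ := h₁
  obtain ⟨hd₂, -, t, H, a2, K, b2, K', j, j', hH, hW2, hK, hK', hj, hj', hD, hD', hdK, -, -, -, ⟨e'⟩⟩ := h₂
  haveI := hi
  haveI := hj
  have gG := isFinLocFree_of_rank hG
  have gH := isFinLocFree_of_rank hH
  have gF := isFinLocFree_of_rank hF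
  have gK := isFinLocFree_of_rank hK
  have gGH := isFinLocFree_tM gG gH
  have gFK := isFinLocFree_tM gF gK
  have gT := isFinLocFree_tM e₁ e₂
  have hfin := tpFin_tensor k hdim gG gH (tpFin_of_isWeil k hdim gG hW) (tpFin_of_isWeil k hdim gH hW2)
  obtain ⟨hdGH, -⟩ := dg_eq_zero_and_ss k hdim gGH hfin
  have hle := fun (M : X.Modules) (m : M ⟶ CohB1.tensorMod G H) (hm : Mono m) (hM : FlatMod.IsFinLocFree M) =>
    @dg_le_zero_of_tpFin X k _ _ _ _ _ hdim _ _ gGH hfin M m hm hM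
  -- the embedding
  let u : CohB1.tensorMod F K ⟶ CohB1.tensorMod G H :=
    Groth.Agent.CurveHiggs.twist K i ≫ (DCoh.tensorBi.obj G).map j
  haveI hu1 := Groth.Agent.CurveHiggs.mono_twist gK i
  haveI hu2 : Mono ((DCoh.tensorBi.obj G).map j) :=
    (Groth.Agent.CurveTensor.shortExact_tensor gG _ _ _ (shortExact_cokernel_of_mono j)).mono_f
  haveI : Mono u := mono_comp _ _
  -- the quotient
  haveI : Epi (cokernel.π i' ≫ e.inv) := epi_comp _ _
  haveI : Epi (cokernel.π j' ≫ e'.inv) := epi_comp _ _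
  let q1 := cokernel.π i' ≫ e.inv
  let q2 := cokernel.π j' ≫ e'.inv
  haveI : Epi q1 := inferInstanceAs (Epi (cokernel.π i' ≫ e.inv))
  haveI : Epi q2 := inferInstanceAs (Epi (cokernel.π j' ≫ e'.inv))
  haveI hv2 : Epi ((DCoh.tensorBi.obj E₁).map q2) :=
    (Groth.Agent.CurveTensor.shortExact_tensor e₁ _ _ _ (shortExact_kernel_of_epi q2)).epi_g
  haveI hv1 : Epi (Groth.Agent.CurveHiggs.twist K q1) := by
    haveI : Epi ((DCoh.tensorBi.obj K).map q1) :=
      (Groth.Agent.CurveTensor.shortExact_tensor gK _ _ _ (shortExact_kernel_of_epi q1)).epi_g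
    have h : Groth.Agent.CurveHiggs.twist K q1 = (Groth.Agent.CurveTensor.commIso F K).hom ≫
        (DCoh.tensorBi.obj K).map q1 ≫ (Groth.Agent.CurveTensor.commIso E₁ K).inv := by
      rw [← Category.assoc, Groth.Agent.CurveHiggs.comm_naturality, Category.assoc, Iso.hom_inv_id, Category.comp_id]
    rw [h]
    infer_instance
  let v : CohB1.tensorMod F K ⟶ CohB1.tensorMod E₁ E₂ :=
    Groth.Agent.CurveHiggs.twist K q1 ≫ (DCoh.tensorBi.obj E₁).map q2
  haveI : Epi v := epi_comp _ _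
  -- degrees
  rw [deg_eq_dg k hE₁] at hd₁
  rw [deg_eq_dg k hE₂] at hd₂
  rw [deg_eq_dg k hF] at hdF
  rw [deg_eq_dg k hK] at hdK
  have hdFK : dg k (CohB1.tensorMod F K) = 0 := by rw [dg_tensor k hdim gF gK, hdF, hdK]; ring
  have hdT : dg k (CohB1.tensorMod E₁ E₂) = 0 := by rw [dg_tensor k hdim e₁ e₂, hd₁, hd₂]; ring
  have cT := coh_of_free k gT
  have cFK := coh_of_free k gFK
  have hker := Groth.Agent.QCoh.isCoh_kernel cFK cT v
  have gker := isFinLocFree_of_mono k hdim.le hker (kernel.ι v) gFK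
  have hdker : dg k (kernel v) = 0 := by
    have := dg_add k _ _ _ (shortExact_kernel_of_epi v) hker cFK cT
    omega
  have ssFK : SS k (CohB1.tensorMod F K) := fun M m hm hM => by
    haveI := hm
    rw [hdFK, zero_mul]
    exact mul_nonpos_of_nonpos_of_nonneg (hle M (m ≫ u) (mono_comp _ _) hM) (Int.natCast_nonneg _)
  have ssker : SS k (kernel v) := fun M m hm hM => by
    haveI := hm
    rw [hdker, zero_mul]
    exact mul_nonpos_of_nonpos_of_nonneg (hle M (m ≫ kernel.ι v ≫ u) (mono_comp _ _) hM) (Int.natCast_nonneg _)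
  have ssT : SS k (CohB1.tensorMod E₁ E₂) := fun M m hm hM => by
    haveI := hm
    obtain ⟨P, p, hp, hP, -, hdP⟩ := exists_preimage k hdim.le (kernel.ι v) v _ (shortExact_kernel_of_epi v)
      hker gFK cT m (coh_of_free k hM)
    haveI := hp
    have := hle P (p ≫ u) (mono_comp _ _) hP
    rw [hdT, zero_mul]
    exact mul_nonpos_of_nonpos_of_nonneg (by omega) (Int.natCast_nonneg _)
  have hr : rk (CohB1.tensorMod E₁ E₂) = r₁ * r₂ := by
    rw [← rk_eq hE₁, ← rk_eq hE₂]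
    exact Groth.Agent.CurveDuality.rk_tensor e₁ e₂
  have hTr : FlatMod.IsFinLocFreeOfRank (r₁ * r₂) (CohB1.tensorMod E₁ E₂) := hr ▸ isFinLocFreeOfRank_rk gT
  have slope : ∀ {M : X.Modules} {n : ℕ}, FlatMod.IsFinLocFreeOfRank n M → SS k M →
      ModFun.IsSlopeSemistable k X M n := fun hM hs N n' l hl _ hN => deg_le_of_ss k hM hs N n' l hl hN
  refine ⟨hTr, (deg_eq_dg k hTr).trans hdT, slope hTr ssT,
    rk (CohB1.tensorMod G H), CohB1.tensorMod G H, rk (CohB1.tensorMod F K), CohB1.tensorMod F K,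
    rk (kernel v), kernel v, u, kernel.ι v, isFinLocFreeOfRank_rk gGH, isWeil_of_tpFin k hdim gGH hfin,
    isFinLocFreeOfRank_rk gFK, isFinLocFreeOfRank_rk gker, inferInstance, inferInstance, ?_, ?_,
    (deg_eq_dg k (isFinLocFreeOfRank_rk gFK)).trans hdFK, slope (isFinLocFreeOfRank_rk gFK) ssFK,
    (deg_eq_dg k (isFinLocFreeOfRank_rk gker)).trans hdker, slope (isFinLocFreeOfRank_rk gker) ssker, ?_⟩
  · exact isFinLocFree_of_max k hdim.le u (cokernel.π u) _ (shortExact_cokernel_of_mono u) cFK gGH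
      (Groth.Agent.QCoh.isCoh_cokernel cFK.1 (coh_of_free k gGH) u)
      (fun M m hm hM _ => hdFK.symm ▸ hle M m hm hM)
  all_goals
    have hcl := (shortExact_kernel_of_epi v).gIsCokernel
    let ec : cokernel (kernel.ι v) ≅ CohB1.tensorMod E₁ E₂ :=
      IsColimit.coconePointUniqueUpToIso (cokernelIsCokernel (kernel.ι v)) hcl
  · exact Groth.Agent.H23.PullPush.isFinLocFree_of_iso ec.symm gT
  · exact ⟨ec.symm⟩

end Groth.Agent.S19482
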