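import Groth.Statements.S19498
import Groth.Agent.CanonDual.TopDiff
import Groth.Agent.S16759
import Groth.Agent.H23.RigidGamma
import Groth.Agent.AmpleVan.SpreadFibre
import Groth.Agent.H23.SeesawGlobal

set_option autoImplicit false
universe u
open CategoryTheory CategoryTheory.Limits AlgebraicGeometry
open Canon

namespace Groth.Agent.S19498

/-- Let S be a locally Noetherian scheme and f : X ⟶ S a locally projective morphism, smooth of relative
dimension n, whose fibres are non-empty and geometrically connected; let ω be an n-th exterior power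
of the sheaf of relative differentials of f (the relative canonical sheaf K_{X/S}) and m ≥ 1 an
integer such that K^{⊗m} is trivial on fibres: for every point s of S the restriction of K^{⊗m} to
the fibre X_s is isomorphic to O_{X_s}. Assume H^1(X_s, O_{X_s}) = 0 for every point s of S. Then
the evaluation map f^* f_* K^{⊗m} ⟶ K^{⊗m}, the counit of the adjunction between pullback and
pushforward of modules, is an isomorphism. (The published statement has f projective and smooth of
possibly varying relative dimension; here f is taken locally projective of constant relative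
dimension n.) -/
theorem result
    {X S : Scheme.{u}} [IsLocallyNoetherian S] (f : X ⟶ S)
    (hproj : RedSub.IsLocallyProjective (Over.mk f))
    (n : ℕ) [SmoothOfRelativeDimension n f] [GeometricallyConnected f]
    (ω : X.Modules) (hω : Canon.IsTopDiff f n ω) (m : ℕ) (hm : 1 ≤ m)
    (htriv : ∀ s : ↥S, Nonempty ((Scheme.Modules.pullback (f.fiberι s)).obj (CohB1.tensorPow ω m) ≅
      Coh.structureModule (f.fiber s)))
    (hH1 : ∀ s : ↥S, Subsingleton (Coh.HH (f.fiber s) (Coh.structureModule (f.fiber s)) 1)) :
    IsIso ((Scheme.Modules.pullbackPushforwardAdjunction f).counit.app (CohB1.tensorPow ω m)) := by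
  haveI : IsProper f := CanonDual.isProper_of_isLocallyProjective f hproj
  haveI : Smooth f := SmoothOfRelativeDimension.smooth n f
  haveI := Groth.Agent.GrpSchLib.IsogenyFibre.geometricallyReduced_of_smooth' f
  haveI : IsLocallyNoetherian X := LocallyOfFiniteType.isLocallyNoetherian f
  let L := CohB1.tensorPow ω m
  have hL : PicF.IsInvertible L := InvX.isInvertible_tensorPow (CanonDual.isInvertible_of_isTopDiff f n hω) m
  have hc : H23.RigidApply.ConstFibres f := H23.RigidGamma.constFibres f
  have hrank : ∀ y : S, Module.finrank (S.residueField y) Γ(f.fiber y, ⊤) = 1 := fun y => by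
    have h0 : Function.Bijective (f.fiberToSpecResidueField y).appTop := hc y
    have hb : Function.Bijective (algebraMap (S.residueField y) Γ(f.fiber y, ⊤)) := by
      have h2 := h0.comp (ConcreteCategory.bijective_of_isIso (Scheme.ΓSpecIso (S.residueField y)).inv)
      convert h2 using 1
      rfl
    exact (LinearEquiv.ofBijective (Algebra.linearMap (S.residueField y) Γ(f.fiber y, ⊤)) hb).finrank_eq.symm.trans
      (Module.finrank_self _)
  refine (S16759.of_local f (S16759.bijective_app f hrank) L fun y => ?_).2
  obtain ⟨c⟩ := PicClLib.nonempty_pullback_structureModule (f.fiberι y)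
  obtain ⟨U, hyU, ⟨e⟩⟩ := AmpleVan.exists_iso_near_fibre f y (Coh.structureModule X) L
    (H23.PullPush.isFinLocFree_of_isInvertible InvX.isInvertible_structureModule)
    (H23.PullPush.isFinLocFree_of_isInvertible hL) (c ≪≫ (htriv y).some.symm)
    (AmpleVan.subsingleton_of_iso
      ((htriv y).some.symm ≪≫ ((SheafHomX.unitIso (f.fiber y)).app _).symm ≪≫
        { hom := (SheafHomX.homMap c.hom).app _
          inv := (SheafHomX.homMap c.inv).app _
          hom_inv_id := by rw [← SheafHomX.homMap_comp, Iso.inv_hom_id, SheafHomX.homMap_id]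
          inv_hom_id := by rw [← SheafHomX.homMap_comp, Iso.hom_inv_id, SheafHomX.homMap_id] }) 1 (hH1 y))
  refine ⟨U, hyU, ?_⟩
  have hT : H23.TrivBasic.Triv ((Scheme.Modules.pullback (f ⁻¹ᵁ U).ι).obj L) :=
    ⟨((Scheme.Modules.restrictFunctorIsoPullback (f ⁻¹ᵁ U).ι).app L).symm ≪≫ e.symm ≪≫
      (Scheme.Modules.restrictFunctorIsoPullback (f ⁻¹ᵁ U).ι).app (Coh.structureModule X) ≪≫
      (PicClLib.nonempty_pullback_structureModule (f ⁻¹ᵁ U).ι).some⟩
  obtain ⟨s, hs⟩ := H23.SeesawGlobal.exists_frame_of_triv (f ⁻¹ᵁ U).ι hT
  exact ⟨_, hs.res (Scheme.Opens.opensRange_ι _).ge⟩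

end Groth.Agent.S19498
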