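import Groth.Statements.S19502
import Mathlib.Topology.Algebra.InfiniteSum.Real
import Mathlib.Analysis.Normed.Module.FiniteDimension
-- import your own Groth.Agent.* helpers here

set_option autoImplicit false
universe u
open W4c3ghconstell

namespace Groth.Agent.S19502

theorem tsum_ite {ι : Type u} [DecidableEq ι] {f : ι → ℝ} (hf : Summable f) (D : Finset ι) :
    (∑' i, if i ∈ D then (0 : ℝ) else f i) = (∑' i, f i) - ∑ i ∈ D, f i := by
  have h : HasSum (fun i => if i ∈ D then f i else 0) (∑ i ∈ D, f i) := by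
    have : HasSum (fun i => if i ∈ D then f i else 0) (∑ i ∈ D, if i ∈ D then f i else 0) :=
      hasSum_sum_of_ne_finset_zero (fun b hb => by simp [hb])
    rwa [Finset.sum_congr rfl (fun i hi => if_pos hi)] at this
  have h2 := hf.hasSum.sub h
  rw [← h2.tsum_eq]
  exact tsum_congr fun i => by split_ifs <;> simp

theorem ratio_mul {a : ℕ} {b : ℕ} (hle : a ≤ b) : ((b : ℝ) * ((a : ℝ) / (b : ℝ))) = a := by
  rcases Nat.eq_zero_or_pos b with hb | hb
  · subst hb; simp [Nat.le_zero.mp hle]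
  · field_simp


/-- Let ι index the irreducible representations, θ : ι → ℚ a weight which is negative exactly on the
finite set D₋, h h' : ι → ℕ with h' ≤ h pointwise (the isotypic dimensions of an object and of a
sub-object) and Σ_i θ_i h_i summable. For a finite set D of indices put S_D = Σ_{i ∉ D} θ_i h_i, d =
#(D ∖ D₋) and θ̃_D = Σ_{i ∈ D} θ_i h'_i + (S_D / d) · Σ_{i ∈ D ∖ D₋} h'_i / h_i, the modified weight
attached to the parameters chosen for D (a quotient by zero is read as zero). Then for finite sets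
D₋ ⊆ D ⊆ D̃ contained in the locus θ ≠ 0: (first error term) θ̃_{D̃} − θ̃_D = Σ_{τ ∈ D̃ ∖ D} (θ_τ
h_τ + S_{D̃}/d̃) · (h'_τ/h_τ − (1/d) Σ_{σ ∈ D ∖ D₋} h'_σ/h_σ); (second error term) Σ_i θ_i h'_i −
θ̃_D = Σ_{τ ∉ D} θ_τ h_τ · (h'_τ/h_τ − (1/d) Σ_{σ ∈ D ∖ D₋} h'_σ/h_σ). -/
theorem result {ι : Type u} [DecidableEq ι]
    (θ : ι → ℚ) (h h' : ι → ℕ) (hle : ∀ i, h' i ≤ h i) (hfin : {i | θ i < 0}.Finite)
    (hsum : Summable (fun i => (θ i : ℝ) * (h i : ℝ))) (D D' : Finset ι)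
    (hDm : hfin.toFinset ⊆ D) (hDD' : D ⊆ D') (hsupp : ∀ i ∈ D', θ i ≠ 0) :
    (((∑ i ∈ D', (θ i : ℝ) * (h' i : ℝ)) + ((∑' i, if i ∈ D' then (0 : ℝ) else (θ i : ℝ) * (h i : ℝ)) / ((D' \ hfin.toFinset).card : ℝ)) * (∑ σ ∈ D' \ hfin.toFinset, ((h' σ : ℝ) / (h σ : ℝ)))) - ((∑ i ∈ D, (θ i : ℝ) * (h' i : ℝ)) + ((∑' i, if i ∈ D then (0 : ℝ) else (θ i : ℝ) * (h i : ℝ)) / ((D \ hfin.toFinset).card : ℝ)) * (∑ σ ∈ D \ hfin.toFinset, ((h' σ : ℝ) / (h σ : ℝ)))) =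
      ∑ τ ∈ D' \ D, ((θ τ : ℝ) * (h τ : ℝ) + (∑' i, if i ∈ D' then (0 : ℝ) else (θ i : ℝ) * (h i : ℝ)) / ((D' \ hfin.toFinset).card : ℝ)) *
        (((h' τ : ℝ) / (h τ : ℝ)) - (1 / ((D \ hfin.toFinset).card : ℝ)) * (∑ σ ∈ D \ hfin.toFinset, ((h' σ : ℝ) / (h σ : ℝ))))) ∧
    ((∑' i, (θ i : ℝ) * (h' i : ℝ)) - ((∑ i ∈ D, (θ i : ℝ) * (h' i : ℝ)) + ((∑' i, if i ∈ D then (0 : ℝ) else (θ i : ℝ) * (h i : ℝ)) / ((D \ hfin.toFinset).card : ℝ)) * (∑ σ ∈ D \ hfin.toFinset, ((h' σ : ℝ) / (h σ : ℝ)))) =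
      ∑' τ, if τ ∈ D then (0 : ℝ) else (θ τ : ℝ) * (h τ : ℝ) *
        (((h' τ : ℝ) / (h τ : ℝ)) - (1 / ((D \ hfin.toFinset).card : ℝ)) * (∑ σ ∈ D \ hfin.toFinset, ((h' σ : ℝ) / (h σ : ℝ))))) := by
  set A : ℝ := ∑ σ ∈ D \ hfin.toFinset, ((h' σ : ℝ) / (h σ : ℝ)) with hA
  have hs' : Summable (fun i => (θ i : ℝ) * (h' i : ℝ)) := by
    refine Summable.of_norm_bounded (summable_norm_iff.mpr hsum) fun i => ?_
    rw [norm_mul, norm_mul, Real.norm_natCast, Real.norm_natCast]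
    exact mul_le_mul_of_nonneg_left (Nat.cast_le.mpr (hle i)) (norm_nonneg _)
  have hmul : ∀ i, (θ i : ℝ) * (h i : ℝ) * ((h' i : ℝ) / (h i : ℝ)) = (θ i : ℝ) * (h' i : ℝ) := fun i => by
    rw [mul_assoc, ratio_mul (hle i)]
  refine ⟨?_, ?_⟩
  · have hsd : D' \ hfin.toFinset = (D \ hfin.toFinset) ∪ (D' \ D) := by
      ext i
      simp only [Finset.mem_sdiff, Finset.mem_union]
      have := @hDm i
      have := @hDD' i
      tauto
    have hdis : Disjoint (D \ hfin.toFinset) (D' \ D) :=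
      Finset.disjoint_left.mpr fun i h1 h2 => (Finset.mem_sdiff.mp h2).2 (Finset.mem_sdiff.mp h1).1
    rw [tsum_ite hsum, tsum_ite hsum, hsd, Finset.sum_union hdis, Finset.card_union_of_disjoint hdis, ← hA,
      ← Finset.sum_sdiff hDD' (f := fun i => (θ i : ℝ) * (h' i : ℝ)),
      ← Finset.sum_sdiff hDD' (f := fun i => (θ i : ℝ) * (h i : ℝ))]
    simp only [mul_sub, add_mul, Finset.sum_sub_distrib, Finset.sum_add_distrib, hmul, ← Finset.sum_mul,
      ← Finset.mul_sum, Finset.sum_const, nsmul_eq_mul, Nat.cast_add]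
    rcases Nat.eq_zero_or_pos (D \ hfin.toFinset).card with h0 | h0
    · have : A = 0 := by rw [hA, Finset.card_eq_zero.mp h0, Finset.sum_empty]
      simp only [h0, this, Nat.cast_zero, div_zero, zero_add, mul_zero, add_zero]
      ring
    have hd : (0 : ℝ) < ((D \ hfin.toFinset).card : ℝ) := Nat.cast_pos.mpr h0
    have hd' : (0 : ℝ) < ((D \ hfin.toFinset).card : ℝ) + ((D' \ D).card : ℝ) :=
      add_pos_of_pos_of_nonneg hd (Nat.cast_nonneg _)
    field_simp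
    ring
  · have e : (fun τ => if τ ∈ D then (0 : ℝ) else (θ τ : ℝ) * (h τ : ℝ) *
        ((h' τ : ℝ) / (h τ : ℝ) - 1 / ((D \ hfin.toFinset).card : ℝ) * A)) = fun τ =>
        (if τ ∈ D then (0 : ℝ) else (θ τ : ℝ) * (h' τ : ℝ)) -
        (if τ ∈ D then (0 : ℝ) else (θ τ : ℝ) * (h τ : ℝ) * (1 / ((D \ hfin.toFinset).card : ℝ) * A)) := by
      funext τ
      split_ifs
      · simp
      · rw [mul_sub, hmul]
    have hi : ∀ f : ι → ℝ, Summable f → Summable fun i => if i ∈ D then (0 : ℝ) else f i := fun f hf =>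
      (hf.indicator {i | i ∉ D}).congr fun i => by by_cases hi : i ∈ D <;> simp [hi]
    rw [e, (hi _ hs').tsum_sub (hi _ (hsum.mul_right _)), tsum_ite hs', tsum_ite (hsum.mul_right _),
      tsum_ite hsum, tsum_mul_right, ← Finset.sum_mul]
    ring

end Groth.Agent.S19502
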