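import Groth.Statements.S19535
import Groth.Agent.S5019
import Groth.Agent.AlgSpDec.FieldFibre
import Groth.Agent.VarDim.Top
import Groth.Agent.Lib.InvEnd
import Groth.Agent.Lib.CurveDualPrep
import Groth.Agent.FComplLib.KrullSupp
import Groth.Agent.InvX.GenLocusPull
import Groth.Agent.PicClLib.Basic
import Groth.Agent.QCoh.CokerQC

set_option autoImplicit false
universe u
open CategoryTheory CategoryTheory.Limits AlgebraicGeometry TopologicalSpace
open Curves

namespace Groth.Agent.S19535

theorem isInvertible_Ω {k : Type u} [Field k] {X : Scheme.{u}} (p : X ⟶ Spec (CommRingCat.of k))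
    [IsIntegral X] [Smooth p] (hd : topologicalKrullDim X = 1)
    (Ω : X.Modules) (d : OmegaSh.Der p Ω) (hu : OmegaSh.IsUniversal d) : PicF.IsInvertible Ω := by
  refine CurveDuality.isInvertible_of_rank_one fun x => ?_
  obtain ⟨U, n, hxU, he, hn⟩ := S5019.result p Ω d hu x
  haveI : Subsingleton (Spec (CommRingCat.of k)) := inferInstanceAs (Subsingleton (PrimeSpectrum k))
  rw [AlgSpDec.FieldFibre.fibreDimAt_of_subsingleton] at hn
  have h1 : FlatMor.localDim X x = 1 := by
    refine le_antisymm ?_ (le_iInf fun V => ?_)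
    · refine (iInf_le _ (⟨⊤, trivial⟩ : {V : TopologicalSpace.Opens X // x ∈ V})).trans ?_
      exact (topologicalKrullDim_subspace_le _ _).trans hd.le
    · rw [VarDim.topologicalKrullDim_opens_eq_iSup_deg p]
      refine le_iSup_of_le (⟨genericPoint X, ((genericPoint_spec X).mem_open_set_iff V.1.2).2 ⟨x, trivial, V.2⟩⟩ : V.1) ?_
      rw [← VarDim.topologicalKrullDim_eq_deg_genericPoint p, hd]
  rw [h1] at hn
  obtain rfl : n = 1 := by exact_mod_cast hn.symm
  exact ⟨U, hxU, he⟩

theorem isZero_cokernel_nhd {X : Scheme.{u}} [IsIntegral X] {L M : X.Modules} (hL : PicF.IsInvertible L)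
    (hM : PicF.IsInvertible M) (c : L ⟶ M) (hc : c ≠ 0) :
    ∃ U : X.Opens, (U : Set X).Nonempty ∧ IsZero ((Scheme.Modules.pullback U.ι).obj (cokernel c)) := by
  obtain ⟨U, hη, e, e', he, he'⟩ := InvX.exists_frame₂ hL hM (genericPoint X)
  obtain ⟨a, ha⟩ := he'.exists_coord le_rfl (c.app U e)
  rw [AModX.res_self] at ha
  have ha0 : a ≠ 0 := fun h => by
    rw [h, zero_smul, ← map_zero (c.app U).hom] at ha
    have he0 : e = 0 := InvEnd.app_injective_of_ne_zero hL hM c hc U ha
    exact one_ne_zero (α := X.functionField) (((map_one (X.presheaf.germ U _ hη).hom).symm.trans (congrArg (X.presheaf.germ U _ hη) (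
      he.coord_unique le_rfl (show (1 : Γ(X, U)) • AModX.res L le_rfl e = (0 : Γ(X, U)) • AModX.res L le_rfl e by rw [he0, map_zero, smul_zero, smul_zero])))).trans (map_zero _))
  refine ⟨X.basicOpen a, Set.nonempty_iff_ne_empty.2 fun h => ha0 ?_, ?_⟩
  · exact (basicOpen_eq_bot_iff a).1 (SetLike.coe_injective (h.trans rfl))
  refine IsZero.of_iso ?_ ((Scheme.Modules.restrictFunctorIsoPullback (X.basicOpen a).ι).symm.app _)
  refine FComplLib.isZero_restrict_of_subsingleton_stalk _ _ fun x hx => ?_
  have hxU : x ∈ U := X.basicOpen_le a hx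
  have hu : IsUnit (X.presheaf.germ U x hxU a) := (X.mem_basicOpen a x hxU).1 hx
  refine subsingleton_of_forall_eq 0 fun t => ?_
  obtain ⟨V, hxV, t, rfl⟩ := (cokernel c).presheaf.exists_germ_eq (x := x) t
  obtain ⟨W, hW, hxW, s, hs⟩ := QCoh.exists_local_preimage (cokernel.π c) t hxV
  have hxW' : x ∈ W ⊓ X.basicOpen a := ⟨hxW, hx⟩
  obtain ⟨b, hb⟩ := he'.exists_coord ((inf_le_right : W ⊓ X.basicOpen a ≤ _).trans (X.basicOpen_le a))
    (AModX.res M (inf_le_left : W ⊓ X.basicOpen a ≤ W) s)
  obtain ⟨v, hv⟩ := (X.toRingedSpace.isUnit_res_basicOpen a).map (AModX.resR (inf_le_right : W ⊓ X.basicOpen a ≤ _))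
  have key : AModX.res M (inf_le_left : W ⊓ X.basicOpen a ≤ W) s =
      c.app _ ((b * ↑v⁻¹) • AModX.res L ((inf_le_right : W ⊓ X.basicOpen a ≤ _).trans (X.basicOpen_le a)) e) := by
    rw [Scheme.Modules.Hom.app_smul, AModX.app_res, ha, AModX.res_smul, smul_smul, hb]
    congr 1
    rw [mul_assoc]
    have : AModX.resR ((inf_le_right : W ⊓ X.basicOpen a ≤ _).trans (X.basicOpen_le a)) a = (v : Γ(X, W ⊓ X.basicOpen a)) := by
      rw [hv]
      exact (congr($(X.presheaf.map_comp _ _) a) : _)
    rw [this, v.inv_mul, mul_one]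
  rw [← InvX.germ_res' (hW : W ≤ V) hxW t, show AModX.res (cokernel c) (hW : W ≤ V) t = (cokernel.π c).app W s from hs.symm, ← InvX.germ_res' (inf_le_left : W ⊓ X.basicOpen a ≤ W) hxW', ← AModX.app_res,
    key, show (cokernel.π c).app _ (c.app _ _) = (c ≫ cokernel.π c).app _ _ from rfl, cokernel.condition]
  exact map_zero _

/-- Dichotomy for the differential of a map of smooth curves: let k be a field, X and Y integral schemes
each smooth, separated and quasi-compact over Spec k and of dimension one, and φ : X → Y a morphism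
over k. Let Ω_Y and Ω_X be sheaves of differentials of Y and of X over k, given as universal
derivations, and c : φ^*Ω_Y → Ω_X the compatible map dφ (sending the pullback of d_Y s to d_X(φ^♯
s)). Then exactly one of two things happens, stated here as a disjunction: either c is the zero map,
or c is a monomorphism of O_X-modules and its cokernel (the sheaf of relative differentials Ω_{X/Y})
restricts to zero on some nonempty open subset of X, so that it is supported at finitely many closed
points. (The published statement is for smooth curves, which are in addition geometrically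
connected; integrality of X and Y is what the argument uses.) -/
theorem result (k : Type u) [Field k] {X Y : Scheme.{u}}
    (pX : X ⟶ Spec (CommRingCat.of k)) (pY : Y ⟶ Spec (CommRingCat.of k)) (φ : X ⟶ Y) (w : φ ≫ pY = pX)
    [IsIntegral X] [Smooth pX] [IsSeparated pX] [QuasiCompact pX] (hdX : topologicalKrullDim X = 1)
    [IsIntegral Y] [Smooth pY] [IsSeparated pY] [QuasiCompact pY] (hdY : topologicalKrullDim Y = 1)
    (ΩY : Y.Modules) (dY : OmegaSh.Der pY ΩY) (hY : OmegaSh.IsUniversal dY)
    (ΩX : X.Modules) (dX : OmegaSh.Der pX ΩX) (hX : OmegaSh.IsUniversal dX)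
    (c : (Scheme.Modules.pullback φ).obj ΩY ⟶ ΩX) (hc : OmegaSh.IsDiffCompat φ dY dX c) :
    c = 0 ∨ (Mono c ∧ ∃ U : X.Opens, (U : Set X).Nonempty ∧ IsZero ((Scheme.Modules.pullback U.ι).obj (cokernel c))) := by
  by_cases h0 : c = 0
  · exact Or.inl h0
  · have hY' := PicClLib.isInvertible_pullback φ (isInvertible_Ω pY hdY ΩY dY hY)
    have hX' := isInvertible_Ω pX hdX ΩX dX hX
    exact Or.inr ⟨InvEnd.mono_of_ne_zero hY' hX' c h0, isZero_cokernel_nhd hY' hX' c h0⟩

end Groth.Agent.S19535
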