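import Groth.Statements.S1955
import Groth.Agent.DevK.Cycle

set_option autoImplicit false
universe u
open CategoryTheory AlgebraicGeometry
open Cyc

namespace Groth.Agent.S1955

open Groth.Agent

/-- The assignment F ↦ [F]_k induces an isomorphism from K_0(Coh_{≤k}(X)/Coh_{≤k−1}(X)) onto the group
Z_k(X) of k-cycles: there is an additive map ψ to coefficient functions with ψ[F] = [F]_k for every
coherent F with support of δ-dimension ≤ k, which is injective with image exactly the coefficient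
functions of k-cycles. K_0 of the Serre quotient is modelled as K_0(Coh_{≤k}) modulo the classes of
Coh_{≤k−1} (Cyc.K0CohQuot). Here a pair (X, δ) with Cyc.IsSetup plays the role of a scheme locally
of finite type over a fixed base with a dimension function (X locally Noetherian with universally
catenary local rings, δ a dimension function). -/
theorem result (X : Scheme.{u}) (δ : X → ℤ) (hX : Cyc.IsSetup X δ) (k : ℤ) : ∃ ψ : Cyc.K0CohQuot δ k (k - 1) →+ (X → ℤ), (∀ F : X.Modules, Cyc.CohLe δ k F → ψ (Cyc.toK0CohQuot δ k (k - 1) F) = Cyc.sheafFun δ k F) ∧ Function.Injective ψ ∧ Set.range ψ = {a | ∃ α : AlgebraicCycle X ℤ, α ∈ Cyc.Zk X δ k ∧ ⇑α = a} := by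
  haveI := hX.1
  have hd := hX.2.2
  obtain ⟨ψ, hψ, hinj⟩ := DevK.exists_psi hd k
  refine ⟨ψ, hψ, hinj, Set.ext fun a => ⟨?_, ?_⟩⟩
  · rintro ⟨z, rfl⟩
    obtain ⟨c, rfl⟩ := QuotientAddGroup.mk_surjective z
    obtain ⟨d, rfl⟩ := QuotientAddGroup.mk_surjective c
    induction d using FreeAbelianGroup.induction_on with
    | zero => exact ⟨0, fun _ _ => rfl, (map_zero ψ).symm⟩
    | of F =>
      refine ⟨(DevK.isCoef_sheafFun hd F.2).cycle, DevK.IsCoef.cycle_mem _, ?_⟩
      rw [← KZ.clSub_of_prop (Cyc.CohLe δ k) F.2]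
      exact (hψ F.1 F.2).symm
    | neg F h =>
      obtain ⟨α, hα, e⟩ := h
      refine ⟨-α, fun x hx => ?_, ?_⟩
      · rw [Function.locallyFinsuppWithin.coe_neg, Pi.neg_apply, hα x hx, neg_zero]
      · rw [Function.locallyFinsuppWithin.coe_neg, e, ← map_neg]
        rfl
    | add p q hp hq =>
      obtain ⟨α, hα, e⟩ := hp
      obtain ⟨β, hβ, e'⟩ := hq
      refine ⟨α + β, fun x hx => ?_, ?_⟩
      · rw [Function.locallyFinsuppWithin.coe_add, Pi.add_apply, hα x hx, hβ x hx, add_zero]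
      · rw [Function.locallyFinsuppWithin.coe_add, e, e', ← map_add]
        rfl
  · rintro ⟨α, hα, rfl⟩
    have ha := DevK.isCoef_of_mem_Zk hα
    refine ⟨Cyc.toK0CohQuot δ k (k - 1) (Cyc.cycleSheafPos ⇑α) -
      Cyc.toK0CohQuot δ k (k - 1) (Cyc.cycleSheafNeg ⇑α), ?_⟩
    rw [map_sub, hψ _ (DevK.cohLe_pos hd ha),
      hψ (Cyc.cycleSheafNeg ⇑α) (DevK.cohLe_pos hd ha.neg)]
    exact DevK.sheafFun_pos_sub_neg hd ha

end Groth.Agent.S1955
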