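import Groth.Statements.S19559
import Groth.Agent.NodalLib.Family

set_option autoImplicit false
set_option linter.style.haveILetI false
set_option backward.isDefEq.respectTransparency false
set_option backward.isDefEq.respectTransparency.types false
universe u
open CategoryTheory CategoryTheory.Limits AlgebraicGeometry
open Curves

namespace Groth.Agent.S19559

/-- Let π : C → S be a flat morphism locally of finite presentation all of whose fibres have every
irreducible component of dimension one (every geometric fibre is a curve). Then the set of points p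
of C such that either π is smooth on an open neighbourhood of p, or p is a node of its fibre
C_{π(p)} viewed as a scheme over κ(π(p)) (a closed point of the fibre at which, after base change to
an algebraic closure, the complete local ring is that of an ordinary double point), is open in C. -/
theorem result {C S : Scheme.{u}} (π : C ⟶ S)
    [Flat π] [LocallyOfFinitePresentation π]
    (hfib : ∀ s : S, ∀ Z ∈ irreducibleComponents (↥(π.fiber s) : Type u), topologicalKrullDim Z = 1) :
    IsOpen {p : C | (∃ U : C.Opens, p ∈ U ∧ Smooth (U.ι ≫ π)) ∨
      @Curv2.IsNode (S.residueField (π.base p)) _ (π.fiber (π.base p)) ⟨π.fiberToSpecResidueField (π.base p)⟩ (π.asFiber p)} := by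
  have key : ∀ p : C, ((∃ U : C.Opens, p ∈ U ∧ Smooth (U.ι ≫ π)) ∨
      @Curv2.IsNode (S.residueField (π.base p)) _ (π.fiber (π.base p)) ⟨π.fiberToSpecResidueField (π.base p)⟩ (π.asFiber p)) ↔
      Groth.Agent.NodalLib.QPt π p := by
    intro p
    let s := π p
    letI : (π.fiber s).Over (Spec (CommRingCat.of (S.residueField s))) := ⟨π.fiberToSpecResidueField s⟩
    haveI : LocallyOfFiniteType ((π.fiber s) ↘ Spec (CommRingCat.of (S.residueField s))) :=
      inferInstanceAs (LocallyOfFiniteType (π.fiberToSpecResidueField s))
    haveI : Flat (π.fiberToSpecResidueField s) := MorphismProperty.pullback_snd _ _ inferInstance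
    haveI : LocallyOfFinitePresentation (π.fiberToSpecResidueField s) :=
      MorphismProperty.pullback_snd _ _ inferInstance
    haveI : JacobsonSpace ↥(π.fiber s) := LocallyOfFiniteType.jacobsonSpace (π.fiberToSpecResidueField s)
    let z := π.asFiber p
    have hz : π.fiberι s z = p := Scheme.Hom.fiberι_asFiber π p
    have sq : IsPullback (π.fiberι s) (π.fiberToSpecResidueField s) π (S.fromSpecResidueField s) :=
      IsPullback.of_hasPullback _ _
    have hq : Groth.Agent.NodalLib.QPt π p ↔ Groth.Agent.NodalLib.QPt (π.fiberToSpecResidueField s) z := by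
      rw [Groth.Agent.NodalLib.qPt_fiber_iff, hz]
    have hsm : (∃ U : C.Opens, p ∈ U ∧ Smooth (U.ι ≫ π)) ↔ z ∈ (π.fiberToSpecResidueField s).smoothLocus := by
      rw [← Groth.Agent.CurvOpenLib.Inst.loc_smooth_iff]
      exact ((Groth.Agent.CurvOpenLib.Inst.ptProp_smooth.baseChange sq z).trans (by rw [hz]; rfl)).symm
    rw [hq, hsm]
    constructor
    · rintro (hs | hn)
      · have ho := Groth.Agent.NodalLib.ptProp_qPt.isOpen (π.fiberToSpecResidueField s)
        obtain ⟨z₀, ⟨hz₀, hs₀⟩, hc₀⟩ := nonempty_inter_closedPoints
          (Z := closure {z} ∩ ((π.fiberToSpecResidueField s).smoothLocus : Set ↥(π.fiber s)))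
          ⟨z, subset_closure rfl, hs⟩
          (isClosed_closure.isLocallyClosed.inter (π.fiberToSpecResidueField s).smoothLocus.2.isLocallyClosed)
        refine (specializes_iff_mem_closure.2 hz₀).mem_open ho ?_
        refine (Groth.Agent.NodalLib.qPt_of_smooth_closed (k := S.residueField s) (X := π.fiber s) hc₀ hs₀ ?_).1
        rw [Groth.Agent.CIntLib.fibreDimAt_eq_localDim]
        exact Groth.Agent.NodalLib.localDim_eq_one_of_components (k := S.residueField s) (hfib s) z₀
      · exact ((Groth.Agent.NodalLib.isNode_iff (k := S.residueField s) (X := π.fiber s)).1 hn).1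
    · intro h
      by_cases hj : Groth.Agent.NodalLib.JTop (π.fiberToSpecResidueField s) z
      · exact Or.inl (Groth.Agent.NodalLib.smooth_of_qPt_jTop (k := S.residueField s) (X := π.fiber s) h hj)
      · exact Or.inr ((Groth.Agent.NodalLib.isNode_iff (k := S.residueField s) (X := π.fiber s)).2 ⟨h, hj⟩)
  have heq := Set.ext key
  rw [show {p : C | _} = {p : C | Groth.Agent.NodalLib.QPt π p} from heq]
  exact Groth.Agent.NodalLib.ptProp_qPt.isOpen π

end Groth.Agent.S19559
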