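import Groth.Statements.S19569
import Mathlib

set_option autoImplicit false
universe u
open CAlg

namespace Groth.Agent.S19569

open TensorProduct in
theorem exists_etale_model {ι : Type u} [Preorder ι] [IsDirected ι (· ≤ ·)] [Nonempty ι]
    (G : ι → Type u) [∀ i, CommRing (G i)] (f : ∀ i j, i ≤ j → (G i →+* G j))
    (A : Type u) [CommRing A] (g : ∀ i, G i →+* A) (hg : ∀ i j (h : i ≤ j), (g j).comp (f i j h) = g i)
    (hsurj : ∀ a : A, ∃ i, ∃ x : G i, g i x = a)
    (hker : ∀ i (x : G i), g i x = 0 → ∃ j, ∃ h : i ≤ j, f i j h x = 0)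
    (B : Type u) [CommRing B] [Algebra A B] [Algebra.Etale A B] :
    ∃ (i : ι) (Bi : Type u) (_ : CommRing Bi) (_ : Algebra (G i) Bi), Algebra.Etale (G i) Bi ∧
      letI : Algebra (G i) A := (g i).toAlgebra
      Nonempty (B ≃ₐ[A] A ⊗[G i] Bi) := by
  classical
  obtain ⟨A₀, B₀, _, _, hfg, hB₀, ⟨e⟩⟩ := Algebra.Etale.exists_subalgebra_fg ℤ A B
  haveI : Algebra.FiniteType ℤ A₀ := (Subalgebra.fg_iff_finiteType A₀).mp hfg
  obtain ⟨n, π, hπ⟩ := Algebra.FiniteType.iff_quotient_mvPolynomial''.mp
    (inferInstance : Algebra.FiniteType ℤ A₀)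
  choose i x hx using fun l : Fin n => hsurj (π (MvPolynomial.X l) : A)
  obtain ⟨i₀, hi₀⟩ := Finite.exists_le i
  let φ : MvPolynomial (Fin n) ℤ →+* G i₀ :=
    (MvPolynomial.aeval fun l => f (i l) i₀ (hi₀ l) (x l)).toRingHom
  have hφ : (g i₀).comp φ = (A₀.val.toRingHom).comp π.toRingHom := by
    refine MvPolynomial.ringHom_ext (fun r => ?_) (fun l => ?_)
    · simp [φ]
    · have := RingHom.congr_fun (hg (i l) i₀ (hi₀ l)) (x l)
      simp only [RingHom.coe_comp, Function.comp_apply, φ, AlgHom.toRingHom_eq_coe, RingHom.coe_coe,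
        MvPolynomial.aeval_X] at this ⊢
      rw [this, hx]
      rfl
  obtain ⟨s, hs⟩ := (IsNoetherian.noetherian (RingHom.ker π) : (RingHom.ker π).FG)
  have hkill : ∀ T : Finset (MvPolynomial (Fin n) ℤ), (∀ y ∈ T, g i₀ (φ y) = 0) →
      ∃ (j : ι) (θ : G i₀ →+* G j), (g j).comp θ = g i₀ ∧ ∀ y ∈ T, θ (φ y) = 0 := by
    intro T hT
    induction T using Finset.induction_on with
    | empty => exact ⟨i₀, RingHom.id _, RingHom.comp_id _, by simp⟩
    | @insert a T _ ih =>
      obtain ⟨j, θ, hθ, h⟩ := ih fun y hy => hT y (Finset.mem_insert_of_mem hy)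
      obtain ⟨l, hjl, hla⟩ := hker j (θ (φ a)) (by
        rw [← RingHom.comp_apply, hθ]; exact hT a (Finset.mem_insert_self _ _))
      refine ⟨l, (f j l hjl).comp θ, by rw [← RingHom.comp_assoc, hg, hθ], fun y hy => ?_⟩
      rcases Finset.mem_insert.mp hy with rfl | hy
      · exact hla
      · rw [RingHom.comp_apply, h y hy, map_zero]
  obtain ⟨j, θ, hθ, hθs⟩ := hkill s fun y hy => by
    rw [← RingHom.comp_apply, hφ, RingHom.comp_apply]
    have : π y = 0 := hs.le (Ideal.subset_span hy)
    simp [this]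
  have hker' : RingHom.ker π.toRingHom ≤ RingHom.ker (θ.comp φ) :=
    (show RingHom.ker π.toRingHom = Ideal.span (s : Set _) from hs.symm).le.trans
      (Ideal.span_le.mpr fun z hz => hθs z hz)
  let ψ : A₀ →+* G j := RingHom.liftOfSurjective π.toRingHom hπ ⟨θ.comp φ, hker'⟩
  have hψ : (g j).comp ψ = A₀.val.toRingHom := by
    refine RingHom.ext fun a => ?_
    obtain ⟨y, rfl⟩ := hπ a
    show g j (ψ (π.toRingHom y)) = _
    rw [RingHom.liftOfRightInverse_comp_apply]
    show g j (θ (φ y)) = _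
    rw [← RingHom.comp_apply, hθ, ← RingHom.comp_apply, hφ]
    rfl
  letI : Algebra A₀ (G j) := ψ.toAlgebra
  letI : Algebra (G j) A := (g j).toAlgebra
  haveI : IsScalarTower A₀ (G j) A := IsScalarTower.of_algebraMap_eq' hψ.symm
  refine ⟨j, G j ⊗[A₀] B₀, inferInstance, inferInstance, inferInstance, ⟨e.trans ?_⟩⟩
  exact (Algebra.TensorProduct.cancelBaseChange A₀ (G j) A A B₀).symm


open TensorProduct in
/-- Let A be the colimit of a directed system of rings (A_i), given by compatible ring maps A_i → A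
which are jointly surjective and such that an element of some A_i mapping to zero in A already maps
to zero in some later A_j, and let B be an étale A-algebra. Then for some index i there is an étale
A_i-algebra B_i such that B is isomorphic, as an A-algebra, to the base change A ⊗_{A_i} B_i
(existence of an isomorphism). (Stated for a system indexed by a directed preordered set.) -/
theorem result {ι : Type u} [Preorder ι] [IsDirected ι (· ≤ ·)] [Nonempty ι]
    (G : ι → Type u) [∀ i, CommRing (G i)] (f : ∀ i j, i ≤ j → (G i →+* G j))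
    (A : Type u) [CommRing A] (g : ∀ i, G i →+* A) (hg : ∀ i j (h : i ≤ j), (g j).comp (f i j h) = g i)
    (hsurj : ∀ a : A, ∃ i, ∃ x : G i, g i x = a)
    (hker : ∀ i (x : G i), g i x = 0 → ∃ j, ∃ h : i ≤ j, f i j h x = 0)
    (B : Type u) [CommRing B] [Algebra A B] [Algebra.Etale A B] :
    ∃ (i : ι) (Bi : Type u) (_ : CommRing Bi) (_ : Algebra (G i) Bi), Algebra.Etale (G i) Bi ∧
      letI : Algebra (G i) A := (g i).toAlgebra
      Nonempty (B ≃ₐ[A] A ⊗[G i] Bi) := by
  exact exists_etale_model G f A g hg hsurj hker B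

end Groth.Agent.S19569
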