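import Groth.Statements.S19579
import Groth.Agent.AVIdx.CubeRel
import Groth.Agent.H23.PicMul

set_option linter.style.haveILetI false

set_option autoImplicit false
universe u
open CategoryTheory CategoryTheory.Limits MonoidalCategory CartesianMonoidalCategory MonObj AlgebraicGeometry
open AbVar

namespace Groth.Agent.S19579

open Groth.Agent Groth.Agent.H23
open scoped Groth.Agent.H23.PicMul

/-- The implication from triviality of the Mumford bundle on one fibre to its triviality relative to the
base, with the identification of the descended bundle. Let X be an abelian variety over a field k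
(proper, geometrically integral k-group scheme with multiplication m and unit e), T a connected
locally Noetherian k-scheme and L an invertible module on X ×_k T. On X ×_k X ×_k T let m_T, p_13,
p_23 be the maps to X ×_k T induced by m and by the two projections X × X → X, π the projection to
T, and e_T : T → X ×_k T the unit section. If there is a point t of T over whose fibre X × X × Spec
k(t) the modules m_T^*L and p_13^*L ⊗ p_23^*L become isomorphic (equivalently the Mumford bundle
Λ(L) = m_T^*L ⊗ p_13^*L⁻¹ ⊗ p_23^*L⁻¹ is trivial on one fibre), then m_T^*L ⊗ π^*(e_T^*L) and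
p_13^*L ⊗ p_23^*L are isomorphic on all of X × X × T, i.e. Λ(L) ≅ π^*N with N = e_T^*L⁻¹ (existence
of an isomorphism). -/
theorem result (k : Type u) [Field k]
    (X T : Over (Spec (CommRingCat.of k)))
    [GrpObj X] [IsProper X.hom] [GeometricallyIntegral X.hom]
    [IsLocallyNoetherian T.left] [ConnectedSpace ↥T.left]
    (L : (X ⊗ T).left.Modules) (hL : PicF.IsInvertible L)
    (t : ↥T.left)
    (ht : Nonempty
      ((Scheme.Modules.pullback (pullback.fst (snd (X ⊗ X) T).left
          (T.left.fromSpecResidueField t))).obj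
          ((Scheme.Modules.pullback (μ[X] ▷ T).left).obj L) ≅
       (Scheme.Modules.pullback (pullback.fst (snd (X ⊗ X) T).left
          (T.left.fromSpecResidueField t))).obj
          (CohB1.tensorMod ((Scheme.Modules.pullback (fst X X ▷ T).left).obj L)
            ((Scheme.Modules.pullback (snd X X ▷ T).left).obj L)))) :
    Nonempty
      (CohB1.tensorMod ((Scheme.Modules.pullback (μ[X] ▷ T).left).obj L)
          ((Scheme.Modules.pullback (snd (X ⊗ X) T).left).obj
            ((Scheme.Modules.pullback (CartesianMonoidalCategory.lift (toUnit T ≫ η[X]) (𝟙 T)).left).obj L)) ≅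
        CohB1.tensorMod ((Scheme.Modules.pullback (fst X X ▷ T).left).obj L)
          ((Scheme.Modules.pullback (snd X X ▷ T).left).obj L)) := by
  let f := (snd (X ⊗ X) T).left
  let e : T ⟶ X ⊗ T := CartesianMonoidalCategory.lift (toUnit T ≫ η[X]) (𝟙 T)
  let A := CohB1.tensorMod ((Scheme.Modules.pullback (μ[X] ▷ T).left).obj L)
    ((Scheme.Modules.pullback f).obj ((Scheme.Modules.pullback e.left).obj L))
  let N := CohB1.tensorMod ((Scheme.Modules.pullback (fst X X ▷ T).left).obj L)
    ((Scheme.Modules.pullback (snd X X ▷ T).left).obj L)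
  have hA : PicF.IsInvertible A := PicMul.isInvertible_tensor (PicClLib.isInvertible_pullback _ hL)
    (PicClLib.isInvertible_pullback _ (PicClLib.isInvertible_pullback _ hL))
  have hN : PicF.IsInvertible N := PicMul.isInvertible_tensor (PicClLib.isInvertible_pullback _ hL)
    (PicClLib.isInvertible_pullback _ hL)
  obtain ⟨D, hD, hND⟩ := PicInv.exists_inverse hN
  have hND' : PicF.cl N * PicF.cl D = 1 := (PicGrp.cl_eq_cl_iff _ _).2 hND
  let M := CohB1.tensorMod A D
  -- the pullback of the quotient is trivial where the two sides agree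
  have hpull : ∀ {W : Scheme.{u}} (j : W ⟶ ((X ⊗ X) ⊗ T).left),
      PicMul.pullHom j (PicF.cl A) = PicMul.pullHom j (PicF.cl N) →
        TrivBasic.Triv ((Scheme.Modules.pullback j).obj M) := by
    intro W j hj
    refine (PicGrp.cl_eq_cl_iff _ _).1 ?_
    show PicMul.pullHom j (PicF.cl A * PicF.cl D) = 1
    rw [map_mul, hj, ← map_mul, hND', map_one]
  have hcomp : ∀ {W W' Z' : Scheme.{u}} (j : W ⟶ W') (g : W' ⟶ Z') (c : PicF.Cl Z'),
      PicMul.pullHom j (PicMul.pullHom g c) = PicMul.pullHom (j ≫ g) c :=
    fun j g c => PicClLib.pullCl_comp _ _ _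
  let c := PicF.cl L
  have hclA : PicF.cl A = PicMul.pullHom (μ[X] ▷ T).left c * PicMul.pullHom (snd (X ⊗ X) T ≫ e).left c := by
    rw [Over.comp_left, ← hcomp]
    rfl
  have hclN : PicF.cl N = PicMul.pullHom (fst X X ▷ T).left c * PicMul.pullHom (snd X X ▷ T).left c := rfl
  have hone : ∀ Y : Over (Spec (CommRingCat.of k)), toUnit Y ≫ η[X] = (1 : Y ⟶ X) := fun Y => Hom.one_def.symm
  have hslice : ∀ (σ : X ⟶ X ⊗ X), σ ≫ μ[X] = 𝟙 X →
      (σ ≫ fst X X = toUnit X ≫ η[X] ∧ σ ≫ snd X X = 𝟙 X ∨ σ ≫ fst X X = 𝟙 X ∧ σ ≫ snd X X = toUnit X ≫ η[X]) →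
      TrivBasic.Triv ((Scheme.Modules.pullback (σ ▷ T).left).obj M) := by
    intro σ hm hσ
    refine hpull _ ?_
    have he : (toUnit X ≫ η[X]) ▷ T = snd X T ≫ e := by
      refine CartesianMonoidalCategory.hom_ext _ _ ?_ ?_
      · simp [e, comp_toUnit_assoc]
      · simp [e]
    have hs : (σ ▷ T) ≫ snd (X ⊗ X) T ≫ e = snd X T ≫ e := by rw [whiskerRight_snd_assoc]
    rw [hclA, hclN, map_mul, map_mul, hcomp, hcomp, hcomp, hcomp, ← Over.comp_left, ← Over.comp_left,
      ← Over.comp_left, ← Over.comp_left, ← comp_whiskerRight, ← comp_whiskerRight, ← comp_whiskerRight, hm, hs]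
    rcases hσ with ⟨h1, h2⟩ | ⟨h1, h2⟩
    · rw [h1, h2, he, MonoidalCategory.id_whiskerRight, mul_comm]
    · rw [h1, h2, he, MonoidalCategory.id_whiskerRight]
  obtain ⟨φ⟩ := ht
  let j := pullback.fst f (T.left.fromSpecResidueField t)
  have hfield : ∀ (Q : (Spec (T.left.residueField t)).Modules), PicF.IsInvertible Q → PicF.cl Q = 1 := by
    intro Q hQ
    obtain ⟨U, hU, s, hs⟩ := InvX.exists_frame hQ (IsLocalRing.closedPoint (T.left.residueField t))
    have hU' : U = ⊤ := top_le_iff.1 fun w _ => by
      haveI : Subsingleton ↥(Spec (T.left.residueField t)) :=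
        inferInstanceAs (Subsingleton (PrimeSpectrum (T.left.residueField t)))
      rwa [Subsingleton.elim w (IsLocalRing.closedPoint (T.left.residueField t))]
    subst hU'
    exact (PicGrp.cl_eq_cl_iff _ _).2 (TrivBasic.triv_of_frame hs)
  have hM : TrivBasic.Triv M := by
    refine AVIdx.cube_rel X X T η[X] η[X] M (PicMul.isInvertible_tensor hA hD)
      (hslice _ ?_ (.inl ⟨lift_fst _ _, lift_snd _ _⟩)) (hslice _ ?_ (.inr ⟨lift_fst _ _, lift_snd _ _⟩)) t
      (hpull j ?_)
    · rw [← Hom.mul_def, hone, _root_.one_mul]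
    · rw [← Hom.mul_def, hone, _root_.mul_one]
    · show PicMul.pullHom j (PicMul.pullHom (μ[X] ▷ T).left c *
        PicMul.pullHom f (PicF.cl ((Scheme.Modules.pullback e.left).obj L))) = _
      rw [map_mul, hcomp j f, show j ≫ f = pullback.snd f (T.left.fromSpecResidueField t) ≫
        T.left.fromSpecResidueField t from pullback.condition, ← hcomp,
        show PicMul.pullHom (T.left.fromSpecResidueField t) (PicF.cl ((Scheme.Modules.pullback e.left).obj L)) = 1 from
          hfield _ (PicClLib.isInvertible_pullback _ (PicClLib.isInvertible_pullback _ hL)), map_one, _root_.mul_one]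
      exact (PicGrp.cl_eq_cl_iff _ _).2 ⟨φ⟩
  refine (PicGrp.cl_eq_cl_iff A N).1 ?_
  have h : PicF.cl A * PicF.cl D = 1 := (PicGrp.cl_eq_cl_iff _ _).2 hM
  calc PicF.cl A = PicF.cl A * (PicF.cl N * PicF.cl D) := by rw [hND', _root_.mul_one]
    _ = PicF.cl A * PicF.cl D * PicF.cl N := by ac_rfl
    _ = PicF.cl N := by rw [h, _root_.one_mul]

end Groth.Agent.S19579
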