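import Groth.Statements.S19616
import Mathlib.RingTheory.AdicCompletion.RingHom
import Mathlib.RingTheory.AdicCompletion.Completeness
import Mathlib.RingTheory.MvPolynomial.Basic
import Mathlib.Tactic.LinearCombination

set_option autoImplicit false
universe u
open CartMod

namespace Groth.Agent.S19616

open MvPolynomial in
theorem of_quotient (p : ℕ) {A : Type u} [CommRing A] {n : ℕ} (a : Fin n → A)
    (D0 : Type u) [CommRing D0] [Algebra A D0] (hreg : ∀ x : D0, (p : D0) * x = 0 → x = 0)
    (q : MvPolynomial (Fin n) A →ₐ[A] D0) (hqs : Function.Surjective q)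
    (hq : ∀ i, (p : D0) * q (X i) = algebraMap A D0 (a i))
    (hlift : ∀ (B : Type u) [CommRing B] [Algebra A B], IsSMulRegular B (p : B) → ∀ b : Fin n → B,
      (∀ i, algebraMap A B (a i) = (p : B) * b i) → Nonempty (D0 →ₐ[A] B)) :
    ∃ (D : Type u) (_ : CommRing D) (_ : Algebra A D),
      IsAdicComplete (Ideal.span {(p : D)}) D ∧ IsSMulRegular D (p : D) ∧
      (∀ i, algebraMap A D (a i) ∈ Ideal.span {(p : D)}) ∧
      ∀ (B : Type u) [CommRing B] [Algebra A B] [IsAdicComplete (Ideal.span {(p : B)}) B],
        IsSMulRegular B (p : B) → (∀ i, algebraMap A B (a i) ∈ Ideal.span {(p : B)}) →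
          Nonempty (D →ₐ[A] B) ∧ Subsingleton (D →ₐ[A] B) ∧
            (Function.Surjective (algebraMap A B) → ∀ f : D →ₐ[A] B, Function.Surjective f) := by
  let I : Ideal D0 := Ideal.span {(p : D0)}
  have hI : I.FG := ⟨{(p : D0)}, by simp [I]⟩
  set D := AdicCompletion I D0
  have hmap : I.map (algebraMap D0 D) = Ideal.span {(p : D)} := by
    rw [Ideal.map_span, Set.image_singleton, map_natCast]
  have hcompl : IsAdicComplete (Ideal.span {(p : D)}) D := by
    rw [← hmap]
    exact (IsAdicComplete.map_algebraMap_iff I D).2 (AdicCompletion.isAdicComplete hI)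
  have hsurj : ∀ (x : D) (k : ℕ), ∃ d : D0, x - algebraMap D0 D d ∈ Ideal.span {(p : D)} ^ k := by
    intro x k
    obtain ⟨d, hd⟩ := Submodule.Quotient.mk_surjective _ (x.val k)
    refine ⟨d, ?_⟩
    have h1 : x - algebraMap D0 D d ∈ (I ^ k • ⊤ : Submodule D0 D) := by
      rw [AdicCompletion.pow_smul_top_eq_ker_eval hI, LinearMap.mem_ker, map_sub, sub_eq_zero]
      exact hd.symm
    rw [← hmap, ← Ideal.map_pow]
    exact (Ideal.smul_top_eq_map (R := D0) (S := D) (I ^ k)).le h1
  have hregD : IsSMulRegular D (p : D) := by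
    refine isSMulRegular_iff_right_eq_zero_of_smul.2 fun x hx => AdicCompletion.ext fun k => ?_
    obtain ⟨d, hd⟩ := Submodule.Quotient.mk_surjective _ (x.val (k + 1))
    have hx' : ((p : D0) • x).val (k + 1) = 0 := by
      have hpx : (p : D0) • x = (p : D) • x := by rw [Algebra.smul_def, map_natCast, smul_eq_mul]
      rw [hpx, hx, AdicCompletion.val_zero, Pi.zero_apply]
    rw [AdicCompletion.val_smul, Pi.smul_apply, ← hd, ← Submodule.Quotient.mk_smul, Submodule.Quotient.mk_eq_zero,
      smul_eq_mul, Ideal.mul_top, Ideal.span_singleton_pow, Ideal.mem_span_singleton'] at hx'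
    obtain ⟨c, hc⟩ := hx'
    have hd' : d = c * (p : D0) ^ k := by
      rw [← sub_eq_zero]
      refine hreg _ ?_
      rw [smul_eq_mul] at hc
      rw [mul_sub, ← hc, pow_succ]; ring
    rw [AdicCompletion.val_zero, Pi.zero_apply, ← x.property (Nat.le_succ k), ← hd]
    change Submodule.Quotient.mk d = 0
    rw [Submodule.Quotient.mk_eq_zero, smul_eq_mul, Ideal.mul_top, Ideal.span_singleton_pow]
    exact Ideal.mem_span_singleton'.2 ⟨c, hd'.symm⟩
  refine ⟨D, inferInstance, inferInstance, hcompl, hregD, fun i => ?_, fun B _ _ _ hB ha => ?_⟩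
  · rw [IsScalarTower.algebraMap_apply A D0 D, ← hq i, map_mul, map_natCast]
    exact Ideal.mem_span_singleton.2 ⟨_, rfl⟩
  choose b hb using fun i => Ideal.mem_span_singleton.1 (ha i)
  obtain ⟨g⟩ := hlift B hB b hb
  have hgI : ∀ k, ∀ x ∈ (I ^ k • ⊤ : Submodule D0 D0), g x ∈ Ideal.span {(p : B)} ^ k := by
    intro k x hx
    rw [smul_eq_mul, Ideal.mul_top] at hx
    have := Ideal.mem_map_of_mem g.toRingHom hx
    rwa [Ideal.map_pow, Ideal.map_span, Set.image_singleton, map_natCast] at this
  let F : ∀ k : ℕ, D →ₐ[A] B ⧸ Ideal.span {(p : B)} ^ k := fun k =>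
    (Ideal.Quotient.liftₐ (I ^ k • ⊤ : Submodule D0 D0) ((Ideal.Quotient.mkₐ A _).comp g)
      (fun x hx => Ideal.Quotient.eq_zero_iff_mem.2 (hgI k x hx))).comp
      ({ toFun := fun x => x.val k, map_one' := rfl, map_mul' := fun _ _ => rfl, map_zero' := rfl,
         map_add' := fun _ _ => rfl, commutes' := fun _ => rfl } : D →ₐ[A] D0 ⧸ (I ^ k • ⊤ : Submodule D0 D0))
  have hF : ∀ {k l : ℕ} (hle : k ≤ l), (Ideal.Quotient.factorₐ A (Ideal.pow_le_pow_right hle)).comp (F l) = F k := by
    intro k l hle
    ext x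
    obtain ⟨d, hd⟩ := Submodule.Quotient.mk_surjective _ (x.val l)
    have hk : x.val k = Submodule.Quotient.mk d := by rw [← x.property hle, ← hd]; rfl
    simp only [F, AlgHom.comp_apply]
    change Ideal.Quotient.factor (Ideal.pow_le_pow_right hle) (Ideal.Quotient.lift _ _ _ (x.val l)) = Ideal.Quotient.lift _ _ _ (x.val k)
    rw [← hd, hk]
    rfl
  refine ⟨⟨IsAdicComplete.liftAlgHom (Ideal.span {(p : B)}) F hF⟩, ⟨fun f f' => ?_⟩, fun hs f y => ?_⟩
  · have hD0 : ∀ d : D0, f (algebraMap D0 D d) = f' (algebraMap D0 D d) := by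
      intro d
      obtain ⟨x, rfl⟩ := hqs d
      refine AlgHom.congr_fun (φ₁ := (f.comp (IsScalarTower.toAlgHom A D0 D)).comp q)
        (φ₂ := (f'.comp (IsScalarTower.toAlgHom A D0 D)).comp q) (MvPolynomial.algHom_ext fun i => hB ?_) x
      have h1 := congrArg (fun z => (IsScalarTower.toAlgHom A D0 D) z) (hq i)
      simp only [AlgHom.comp_apply, smul_eq_mul]
      have h2 := congrArg f h1
      have h3 := congrArg f' h1
      simp only [map_mul, map_natCast, AlgHom.commutes] at h2 h3
      rw [h2, h3]
    refine AlgHom.ext fun x => sub_eq_zero.1 ((IsAdicComplete.toIsHausdorff (I := Ideal.span {(p : B)})).haus' _ fun k => ?_)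
    obtain ⟨d, hd⟩ := hsurj x k
    rw [SModEq.sub_mem, sub_zero, smul_eq_mul, Ideal.mul_top]
    have key : ∀ φ : D →ₐ[A] B, φ (x - algebraMap D0 D d) ∈ Ideal.span {(p : B)} ^ k := fun φ => by
      have := Ideal.mem_map_of_mem φ.toRingHom hd
      rwa [Ideal.map_pow, Ideal.map_span, Set.image_singleton, map_natCast] at this
    have := sub_mem (key f) (key f')
    simpa [map_sub, hD0 d] using this
  · obtain ⟨z, rfl⟩ := hs y
    exact ⟨algebraMap A D z, f.commutes z⟩

/-- Let p be a prime, A a commutative ring which is complete and separated for the p-adic topology and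
has no p-torsion, and a_1, …, a_n elements of A (so that (p, a_1, …, a_n) is an open ideal
containing p). Then there is a commutative A-algebra D, complete and separated for the p-adic
topology and without p-torsion, in which each a_i is divisible by p, with the following universal
property: for every A-algebra B which is p-adically complete and separated, has no p-torsion, and in
which each a_i is divisible by p, there is exactly one A-algebra homomorphism D → B; moreover this
homomorphism is surjective whenever A → B is. (D is the coordinate ring of the dilatation of Spf A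
with respect to p along the closed subscheme defined by (p, a_1, …, a_n). The published statement is
for flat p-adic formal schemes locally of finite type over the Witt vectors of a perfect field; this
row is its affine, ring-level case without a finiteness hypothesis.) -/
theorem result (p : ℕ) [Fact p.Prime]
    (A : Type u) [CommRing A] [IsAdicComplete (Ideal.span {(p : A)}) A]
    (hA : IsSMulRegular A (p : A)) {n : ℕ} (a : Fin n → A) :
    ∃ (D : Type u) (_ : CommRing D) (_ : Algebra A D),
      IsAdicComplete (Ideal.span {(p : D)}) D ∧ IsSMulRegular D (p : D) ∧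
      (∀ i, algebraMap A D (a i) ∈ Ideal.span {(p : D)}) ∧
      ∀ (B : Type u) [CommRing B] [Algebra A B] [IsAdicComplete (Ideal.span {(p : B)}) B],
        IsSMulRegular B (p : B) → (∀ i, algebraMap A B (a i) ∈ Ideal.span {(p : B)}) →
          Nonempty (D →ₐ[A] B) ∧ Subsingleton (D →ₐ[A] B) ∧
            (Function.Surjective (algebraMap A B) → ∀ f : D →ₐ[A] B, Function.Surjective f) := by
  classical
  set P := MvPolynomial (Fin n) A
  set J : Ideal P := Ideal.span (Set.range fun i => MvPolynomial.C (p : A) * MvPolynomial.X i - MvPolynomial.C (a i))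
  set E := P ⧸ J
  let Tor : Ideal E :=
    { carrier := {x | ∃ k : ℕ, (p : E) ^ k * x = 0}
      zero_mem' := ⟨0, mul_zero _⟩
      add_mem' := by
        rintro x y ⟨k, hk⟩ ⟨l, hl⟩
        exact ⟨k + l, by linear_combination (p : E) ^ l * hk + (p : E) ^ k * hl⟩
      smul_mem' := by
        rintro c x ⟨k, hk⟩
        exact ⟨k, by rw [smul_eq_mul]; linear_combination c * hk⟩ }
  set D0 := E ⧸ Tor
  have hreg : ∀ x : D0, (p : D0) * x = 0 → x = 0 := by
    intro x hx
    obtain ⟨x, rfl⟩ := Ideal.Quotient.mk_surjective x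
    rw [← map_natCast (Ideal.Quotient.mk Tor), ← map_mul, Ideal.Quotient.eq_zero_iff_mem] at hx
    obtain ⟨k, hk⟩ := hx
    exact Ideal.Quotient.eq_zero_iff_mem.2 ⟨k + 1, by rw [pow_succ, mul_assoc]; exact hk⟩
  let q : P →ₐ[A] D0 := (Ideal.Quotient.mkₐ A Tor).comp (Ideal.Quotient.mkₐ A J)
  refine of_quotient p a D0 hreg q (Ideal.Quotient.mk_surjective.comp Ideal.Quotient.mk_surjective) (fun i => ?_) ?_
  · rw [← map_natCast q p, ← map_mul, ← AlgHom.commutes q]
    refine congrArg (Ideal.Quotient.mk Tor) (Ideal.Quotient.eq.2 ?_)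
    refine Ideal.subset_span ⟨i, ?_⟩
    simp only [map_natCast]
    rfl
  intro B _ _ hB b hb
  let g0 : E →ₐ[A] B := Ideal.Quotient.liftₐ J (MvPolynomial.aeval b) (by
    refine fun x hx => RingHom.mem_ker.1 (Ideal.span_le.2 ?_ hx : x ∈ RingHom.ker (MvPolynomial.aeval b))
    rintro _ ⟨i, rfl⟩
    change MvPolynomial.aeval (R := A) b (MvPolynomial.C (p : A) * MvPolynomial.X i - MvPolynomial.C (a i)) = 0
    rw [map_sub, map_mul, MvPolynomial.aeval_C, MvPolynomial.aeval_C, MvPolynomial.aeval_X, map_natCast, hb i, sub_self])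
  refine ⟨Ideal.Quotient.liftₐ Tor g0 ?_⟩
  rintro x ⟨k, hk⟩
  have := congrArg g0 hk
  rw [map_mul, map_pow, map_natCast, map_zero] at this
  exact (hB.pow k).right_eq_zero_of_smul this

end Groth.Agent.S19616
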