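import Groth.Statements.S19620

import Groth.Agent.PerfD40.Support

set_option autoImplicit false
universe u
open CategoryTheory CategoryTheory.Limits AlgebraicGeometry
attribute [local instance] HasDerivedCategory.standard
open DCoh

namespace Groth.Agent.S19620

/-- Let f : X → Y be a proper morphism of schemes, with Rf_* the total right derived functor of f_* on
the unbounded derived categories of modules (assumed to exist), let Z ⊆ X be a closed subset and E
an object of D(O_X) whose cohomology sheaves are all supported in Z (every stalk at a point outside
Z is trivial). Then the cohomology sheaves of Rf_*E are supported in the closed subset f(Z) of Y.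
(The published statement, made in a setting where all schemes are separated and of finite type over
a regular base, takes f proper and perfect and concludes that Rf_* carries perfect complexes acyclic
outside Z to perfect complexes acyclic outside f(Z); the perfectness of Rf_*E is a separate result,
and the support inclusion, which is what the published proof establishes, holds for every proper f
and every E and is stated in that generality.) -/
theorem result {X Y : Scheme.{u}} (f : X ⟶ Y) [IsProper f]
    [DCoh.HasRpush f] (Z : Set ↥X) (hZ : IsClosed Z) (E : DCoh.D X)
    (hE : ∀ i : ℤ, CohB1.support (DCoh.HD E i) ⊆ Z) (i : ℤ) :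
    CohB1.support (DCoh.HD ((DCoh.Rpush f).obj E) i) ⊆ f.base '' Z := by
  have hfZ : IsClosed (f.base '' Z) := f.isClosedMap _ hZ
  let V : Y.Opens := ⟨(f.base '' Z)ᶜ, hfZ.isOpen_compl⟩
  haveI := KFlatLib.hasRpush_scheme (f ∣_ V)
  obtain ⟨e⟩ := KFlatLib.nonempty_rpush_restrictD_iso f V
  haveI : (DCoh.Rpush (f ∣_ V)).Additive :=
    (KFlatLib.exists_rightDerived_triangle (Scheme.Modules.pushforward (f ∣_ V)) _
      (Pretriangulated.contractible_distinguished ((DCoh.restrictD (f ⁻¹ᵁ V).ι).obj E))).1
  have hz : IsZero ((DCoh.restrictD V.ι).obj ((DCoh.Rpush f).obj E)) :=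
    (Functor.map_isZero (DCoh.Rpush (f ∣_ V))
      (KFlatLib.isZero_restrictD_of_support (f ⁻¹ᵁ V) E Z hE fun x hx hxZ => hx ⟨x, hxZ, rfl⟩)).of_iso
      (e.app E)
  exact (PerfD40.support_subset_of_isZero_restrictD V _ hz i).trans (compl_compl _).le


end Groth.Agent.S19620
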