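import Groth.Statements.S19625
import Groth.Agent.SurfInt.Curve
import Groth.Agent.GrpSchLib.SmoothRegular
import Groth.Agent.Lib.CurveRR
import Groth.Agent.VarBase.Restrict
import Groth.Agent.ArSurfBase.Deg

set_option autoImplicit false
universe u
open CategoryTheory CategoryTheory.Limits AlgebraicGeometry
open Surf

namespace Groth.Agent.S19625

/-- Let k be a field and S an integral surface (dimension two) which is smooth over k and projective (a
closed immersion into some P^n_k over k). Let i : C → S be the closed immersion of an integral curve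
(dimension one) all of whose local rings are regular, with ideal sheaf I ⊆ O_S, and let N =
Hom(i^*I, O_C) be the normal sheaf of C in S, the dual of the conormal sheaf i^*I (the sheaf Hom,
assumed to exist as the right adjoint of tensoring with i^*I). Then the self-intersection number
C·C, namely the intersection number of O_S(C) with itself computed as the alternating sum χ(O_S) −
2χ(I) + χ(I ⊗ I) with the inverse I = O_S(−C) of O_S(C) (packaged as FGA.intNum), equals the degree
of N on C, the degree of a module M on C being χ(M) − χ(O_C). -/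
theorem result (k : Type u) [Field k] (S : Scheme.{u}) [S.Over (Spec (CommRingCat.of k))]
    [IsIntegral S] (hdim : topologicalKrullDim S = 2) [Smooth (S ↘ (Spec (CommRingCat.of k)))]
    (hproj : ∃ (n : ℕ) (ι : S ⟶ CohB1.ProjSpace n k), IsClosedImmersion ι ∧ ι ≫ CohB1.ProjSpace.toSpec n k = (S ↘ (Spec (CommRingCat.of k))))
    (C : Scheme.{u}) (i : C ⟶ S) [IsClosedImmersion i] [IsIntegral C] (hC : topologicalKrullDim C = 1)
    (hCreg : ∀ c : C, IsRegularLocalRing (C.presheaf.stalk c))
    [DCoh.HasSheafHom (Omega.conormal i)] :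
    letI : C.Over (Spec (CommRingCat.of k)) := ⟨i ≫ (S ↘ (Spec (CommRingCat.of k)))⟩
    FGA.intNum k S 2 ![ClSub.idealMod i.ker, ClSub.idealMod i.ker] (Coh.structureModule S) =
      Curv2.deg k C ((DCoh.sheafHom (Omega.conormal i)).obj (Coh.structureModule C)) 1 := by
  open Groth.Agent in
  open Groth.Agent.H23.PicMul in
  haveI : IsProper (S ↘ Spec (CommRingCat.of k)) :=
    SurfInt.isProper_of_projective k hproj.choose_spec.choose_spec.1 hproj.choose_spec.choose_spec.2
  letI : C.Over (Spec (CommRingCat.of k)) := ⟨i ≫ (S ↘ (Spec (CommRingCat.of k)))⟩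
  haveI := CurveCohLib.isNoetherian_of_proper (k := k) (X := S)
  haveI := SurfInt.isIntegral_ker i
  have hI : BlowUp.IsEffCartierIdeal i.ker :=
    SurfInt.isEffCartier_curve k hdim (fun x => GrpSchLib.isRegularLocalRing_stalk_of_smooth (S ↘ Spec (CommRingCat.of k)) x)
      i.ker (by rw [SurfInt.dim_support_ker]; exact hC)
  have hIi := SurfInt.isInvertible_idealMod hI
  obtain ⟨I', hI', ⟨e⟩⟩ := H23.PicInv.exists_inverse hIi
  obtain ⟨eC⟩ : Nonempty (CohB1.tensorMod (Omega.conormal i) ((Scheme.Modules.pullback i).obj I') ≅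
      Coh.structureModule C) := cl_eq_iff.1 (by
    show PicF.cl (CohB1.tensorMod ((Scheme.Modules.pullback i).obj (ClSub.idealMod i.ker)) _) = _
    rw [cl_tensor, ← H23.PicMul.one_def]
    show PicF.pullCl i (PicF.cl _) * PicF.pullCl i (PicF.cl _) = 1
    rw [← pullCl_mul, ← cl_tensor, cl_eq_iff.2 ⟨e⟩, ← H23.PicMul.one_def, pullCl_one])
  let eC' : (DCoh.tensorBi.obj ((Scheme.Modules.pullback i).obj I')).obj (Omega.conormal i) ≅ Coh.structureModule C :=
    SurfInt.tComm _ _ ≪≫ eC
  haveI : (DCoh.tensorBi.obj (Omega.conormal i)).IsEquivalence :=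
    (CategoryTheory.Equivalence.mk (DCoh.tensorBi.obj (Omega.conormal i))
      (DCoh.tensorBi.obj ((Scheme.Modules.pullback i).obj I'))
      (CurveRR.cancelIso eC').symm (CurveRR.cancelIso eC)).isEquivalence_functor
  let hom := (DCoh.sheafHom (Omega.conormal i)).obj (Coh.structureModule C)
  haveI : IsIso ((DCoh.sheafHomAdj (Omega.conormal i)).counit.app (Coh.structureModule C)) := inferInstance
  let eH : hom ≅ (Scheme.Modules.pullback i).obj I' :=
    ((CurveRR.cancelIso eC').app hom).symm ≪≫
      (DCoh.tensorBi.obj ((Scheme.Modules.pullback i).obj I')).mapIso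
        (asIso ((DCoh.sheafHomAdj (Omega.conormal i)).counit.app (Coh.structureModule C))) ≪≫ SurfInt.tUnit _
  obtain ⟨q⟩ := SurfInt.nonempty_quotMod_ker i
  have e' : CohB1.tensorMod I' (ClSub.idealMod i.ker) ≅ Coh.structureModule S := SurfInt.tComm _ _ ≪≫ e
  rw [SurfInt.intNum_eq_pair k hdim.le hIi hIi, SurfInt.pair_ideal_inverse k hdim.le hI hI' hIi e']
  unfold SurfInt.curveDeg
  rw [SurfInt.euler_congr k (SurfInt.tMapL q I'), SurfInt.euler_congr k q,
    SurfInt.euler_quot_tensor k i rfl (AmpleVan.isCoh_invertible hI').1,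
    SurfInt.euler_push k i rfl QCoh.isQCoh_structureModule]
  show _ = Curv2.deg k C hom 1
  unfold Curv2.deg
  rw [SurfInt.euler_congr k eH]
  simp

end Groth.Agent.S19625
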