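import Groth.Statements.S19653
import Groth.Agent.ProperNhd.ConnFibre

set_option autoImplicit false
set_option backward.isDefEq.respectTransparency false
set_option backward.isDefEq.respectTransparency.types false
universe u
open AlgebraicGeometry CategoryTheory CategoryTheory.Limits
open EGA43

namespace Groth.Agent.S19653

/-- Let R be a discrete valuation ring and f : X → Spec R a flat, separated morphism of finite type
whose closed fibre is nonempty and proper over the residue field and whose generic fibre is
geometrically connected. Then f is proper, and its closed fibre is geometrically connected too. (The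
published statement does not require the closed fibre to be nonempty; the affine line over the
fraction field, viewed over R, has empty closed fibre and satisfies the other hypotheses without
being proper, and the published proof uses a point of the closed fibre, so nonemptiness is assumed
here.) -/
theorem result
    (R : Type u) [CommRing R] [IsDomain R] [IsDiscreteValuationRing R]
    (X : Scheme.{u}) (f : X ⟶ Spec (CommRingCat.of R))
    [Flat f] [IsSeparated f] [LocallyOfFiniteType f] [QuasiCompact f]
    [IsProper (f.fiberToSpecResidueField (IsLocalRing.closedPoint R))]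
    [Nonempty ↥(f.fiber (IsLocalRing.closedPoint R))]
    [GeometricallyConnected (f.fiberToSpecResidueField (genericPoint ↥(Spec (CommRingCat.of R))))] :
    IsProper f ∧ GeometricallyConnected (f.fiberToSpecResidueField (IsLocalRing.closedPoint R)) := by
  have hgen : ∀ η : Spec (CommRingCat.of R), (∀ η' : Spec (CommRingCat.of R), η' ⤳ η → η' = η) →
      (∃ x, f x = η) → GeometricallyConnected (f.fiberToSpecResidueField η) := fun η hη _ => by
    obtain rfl : genericPoint ↥(Spec (CommRingCat.of R)) = η := hη _ (genericPoint_specializes η)
    assumption
  have hne : ∃ x, f x = IsLocalRing.closedPoint R := by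
    obtain ⟨z⟩ := ‹Nonempty ↥(f.fiber (IsLocalRing.closedPoint R))›
    exact ⟨f.fiberι _ z, (f.range_fiberι _).subset ⟨z, rfl⟩⟩
  obtain ⟨U, hU, hUp⟩ := Groth.Agent.ProperNhd.exists_isProper_nhd_of_flat f (IsLocalRing.closedPoint R) hne ‹_› hgen
  obtain rfl : U = ⊤ := (IsLocalRing.closed_point_mem_iff.1 hU)
  have hp : IsProper f := by
    have hi : ∀ {Z : Scheme.{u}}, IsIso (⊤ : Z.Opens).ι := fun {Z} => by rw [← Scheme.topIso_hom]; infer_instance
    have := @hi X
    have := @hi (Spec (CommRingCat.of R))
    have he : f = inv (⊤ : X.Opens).ι ≫ (f ∣_ (⊤ : (Spec (CommRingCat.of R)).Opens)) ≫ (⊤ : (Spec (CommRingCat.of R)).Opens).ι := by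
      rw [morphismRestrict_ι, IsIso.eq_inv_comp]; rfl
    rw [he]
    infer_instance
  exact ⟨hp, Groth.Agent.ProperNhd.geometricallyConnected_fibre_of_flat_proper f _ hne hgen⟩

end Groth.Agent.S19653
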