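import Groth.Statements.S19657
import Groth.Agent.ProperNhd.ConnFibre
import Groth.Agent.FlatMisc.Fibrewise

set_option autoImplicit false
set_option backward.isDefEq.respectTransparency false
set_option backward.isDefEq.respectTransparency.types false
universe u
open AlgebraicGeometry CategoryTheory CategoryTheory.Limits Topology
open EGA43

namespace Groth.Agent.S19657

/-- The implication from the weakest fibrewise condition to the global one. Let S be a locally
Noetherian scheme and f : X → S a surjective, flat, separated morphism, locally of finite
presentation and quasi-compact, whose fibres are all smooth and proper over the residue fields and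
whose fibres over the maximal points of S (points without proper generization) are geometrically
connected. Then f is proper and smooth with geometrically connected fibres. (The text states the
criterion over an arbitrary base, appealing to a limit argument it does not carry out, and without
the words separated and surjective, which its proof uses through the properness criterion it invokes
and which are both needed: an abelian variety over the fraction field of a discrete valuation ring,
viewed over the ring, is flat of finite presentation with smooth proper fibres, the closed one
empty, and is not proper; and two copies of the projective line over a discrete valuation ring glued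
along their generic fibres form a flat, surjective, finitely presented scheme over the ring with
smooth proper fibres and geometrically connected generic fibre which is neither separated nor
proper.) -/
theorem result
    {X S : Scheme.{u}} [IsLocallyNoetherian S] (f : X ⟶ S)
    [Surjective f] [Flat f] [IsSeparated f] [LocallyOfFinitePresentation f] [QuasiCompact f]
    (hsm : ∀ s : S, Smooth (f.fiberToSpecResidueField s))
    (hpr : ∀ s : S, IsProper (f.fiberToSpecResidueField s))
    (hgen : ∀ η : S, (∀ η' : S, η' ⤳ η → η' = η) → GeometricallyConnected (f.fiberToSpecResidueField η)) :
    IsProper f ∧ Smooth f ∧ GeometricallyConnected f := by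
  have hne : ∀ s : S, ∃ x, f x = s := f.surjective
  have hgen' : ∀ η : S, (∀ η' : S, η' ⤳ η → η' = η) → (∃ x, f x = η) →
      GeometricallyConnected (f.fiberToSpecResidueField η) := fun η hη _ => hgen η hη
  have hp : IsProper f := by
    choose U hU hUp using fun s => Groth.Agent.ProperNhd.exists_isProper_nhd_of_flat f s (hne s) (hpr s) hgen'
    exact (IsZariskiLocalAtTarget.iff_of_iSup_eq_top (P := @IsProper) U
      (eq_top_iff.2 fun s _ => TopologicalSpace.Opens.mem_iSup.2 ⟨s, hU s⟩)).2 hUp
  refine ⟨hp, ?_, GeometricallyConnected.iff_geometricallyConnected_fiber f |>.2 fun s =>
    Groth.Agent.ProperNhd.geometricallyConnected_fibre_of_flat_proper f s (hne s) hgen'⟩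
  have : LocallyOfFinitePresentation (f ≫ 𝟙 S) := by simpa using ‹LocallyOfFinitePresentation f›
  have : Flat (f ≫ 𝟙 S) := by simpa using ‹Flat f›
  refine FlatMisc.smooth_of_smooth_fibres (𝟙 S) f fun s => ?_
  have : IsIso ((𝟙 S : S ⟶ S).fiberToSpecResidueField s) := pullback_snd_iso_of_left_iso _ _
  have h : IsPullback (f.fiberι s) (f.fiberToSpecResidueField s ≫ inv ((𝟙 S : S ⟶ S).fiberToSpecResidueField s)) f
      ((𝟙 S : S ⟶ S).fiberι s) := by
    refine IsPullback.of_iso (IsPullback.of_hasPullback f (S.fromSpecResidueField s)) (Iso.refl _) (Iso.refl _)
      (asIso ((𝟙 S : S ⟶ S).fiberToSpecResidueField s)).symm (Iso.refl _) (by simp [Scheme.Hom.fiberι]) (by simp [Scheme.Hom.fiberToSpecResidueField])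
      (by simp) ?_
    have hc : (𝟙 S : S ⟶ S).fiberι s ≫ 𝟙 S = (𝟙 S : S ⟶ S).fiberToSpecResidueField s ≫ S.fromSpecResidueField s :=
      pullback.condition
    simp only [Category.comp_id] at hc
    simp [hc]
  rw [← h.isoPullback_inv_snd]
  have := hsm s
  infer_instance

end Groth.Agent.S19657
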