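import Groth.Statements.S19673
import Groth.Agent.S17351
import Groth.Agent.H75.ExtLift
import Groth.Agent.Synt29.ExtReal
import Groth.Agent.Pic13Lib.AssCut
import Groth.Agent.AlgSpLib.CartierRegular
import Groth.Agent.SurfInt.Inter
-- import your own Groth.Agent.* helpers here

set_option autoImplicit false
set_option linter.style.haveILetI false
set_option backward.isDefEq.respectTransparency false
set_option backward.isDefEq.respectTransparency.types false
attribute [-instance] CategoryTheory.catToReflQuiver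
universe u
open CategoryTheory CategoryTheory.Limits AlgebraicGeometry
open AdjLin

namespace Groth.Agent.S19673

open Groth.Agent

universe v

/-- An ideal containing a finite intersection of maximal ideals is radical. -/
theorem mem_of_pow_mem_of_iInf_le {B ι : Type*} [CommRing B] [Finite ι] (M : ι → Ideal B) [hM : ∀ i, (M i).IsMaximal]
    (hinj : Function.Injective M) {I : Ideal B} (hI : ⨅ i, M i ≤ I) {x : B} {n : ℕ} (hx : x ^ n ∈ I) : x ∈ I := by
  classical
  have hco : Pairwise (Function.onFun IsCoprime M) := fun i j hij =>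
    Ideal.isCoprime_iff_sup_eq.2 ((hM i).coprime_of_ne (hM j) fun h => hij (hinj h))
  let e := Ideal.quotientInfRingEquivPiQuotient M hco
  have hy : ∀ i, ∃ y : B ⧸ M i, Ideal.Quotient.mk (M i) x = Ideal.Quotient.mk (M i) x ^ (n + 1) * y := fun i => by
    by_cases h : Ideal.Quotient.mk (M i) x = 0
    · exact ⟨0, by simp [h]⟩
    · letI := Ideal.Quotient.field (M i)
      exact ⟨((Ideal.Quotient.mk (M i) x) ^ n)⁻¹, by rw [pow_succ']; field_simp⟩
  choose y hy using hy
  obtain ⟨z, hz⟩ := Ideal.Quotient.mk_surjective (e.symm y)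
  have hmem : x - x ^ (n + 1) * z ∈ ⨅ i, M i := by
    rw [← Ideal.Quotient.eq_zero_iff_mem]
    apply e.injective
    rw [map_zero, map_sub, map_mul, hz, map_sub, map_mul, map_pow, map_pow, e.apply_symm_apply]
    funext i
    simp only [Pi.sub_apply, Pi.mul_apply, Pi.pow_apply, Pi.zero_apply]
    exact sub_eq_zero.2 (hy i)
  have h2 : x ^ (n + 1) * z ∈ I := Ideal.mul_mem_right _ _ (by rw [pow_succ]; exact Ideal.mul_mem_right _ _ hx)
  simpa using add_mem (hI hmem) h2

/-- An ideal sheaf containing the vanishing ideal of a finite set of closed points is a vanishing ideal. -/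
theorem eq_vanishingIdeal_support_of_le {X : Scheme.{u}} {S : TopologicalSpace.Closeds X} (hfin : (S : Set X).Finite)
    (hpt : ∀ z ∈ (S : Set X), IsClosed ({z} : Set X)) {I : X.IdealSheafData}
    (hI : Scheme.IdealSheafData.vanishingIdeal S ≤ I) :
    I = Scheme.IdealSheafData.vanishingIdeal I.support := by
  classical
  rw [Scheme.IdealSheafData.vanishingIdeal_support]
  refine le_antisymm I.le_radical fun W s hs => ?_
  rw [Scheme.IdealSheafData.radical_ideal] at hs
  obtain ⟨n, hn⟩ := hs
  let T := W.2.fromSpec ⁻¹' (S : Set X)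
  haveI : Finite T := (hfin.preimage W.2.fromSpec.isOpenEmbedding.injective.injOn).to_subtype
  haveI : ∀ q : T, q.1.asIdeal.IsMaximal := fun q => by
    rw [← PrimeSpectrum.isClosed_singleton_iff_isMaximal]
    have : ({q.1} : Set (PrimeSpectrum Γ(X, W.1))) = W.2.fromSpec ⁻¹' {W.2.fromSpec q.1} :=
      Set.ext fun p => ⟨fun h => congrArg W.2.fromSpec h, fun h => W.2.fromSpec.isOpenEmbedding.injective h⟩
    rw [this]
    exact (hpt _ q.2).preimage W.2.fromSpec.continuous
  refine mem_of_pow_mem_of_iInf_le (fun q : T => q.1.asIdeal)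
    (fun p q h => Subtype.ext (PrimeSpectrum.ext h)) (le_trans (fun y hy => ?_) (hI W)) hn
  rw [Scheme.IdealSheafData.vanishingIdeal_ideal, PrimeSpectrum.mem_vanishingIdeal]
  exact fun q hq => (Submodule.mem_iInf _).1 hy ⟨q, hq⟩

/-- Constants as endomorphisms of a module. -/
noncomputable def constHom (k : Type u) [Field k] {X : Scheme.{u}} [X.Over (Spec (CommRingCat.of k))] (M : X.Modules) :
    k →+* End M :=
  let ι : k →+* Γ(X, ⊤) :=
    (X ↘ Spec (CommRingCat.of k)).appTop.hom.comp (Scheme.ΓSpecIso (CommRingCat.of k)).inv.hom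
  { toFun := fun c => Pic13Lib.scalarEnd M (ι c)
    map_one' := QCoh.hom_ext_app fun U m => by
      show AModX.resR (le_top : U ≤ ⊤) (ι 1) • m = m
      rw [map_one, map_one, one_smul]
    map_mul' := fun c d => QCoh.hom_ext_app fun U m => by
      show AModX.resR (le_top : U ≤ ⊤) (ι (c * d)) • m =
        AModX.resR (le_top : U ≤ ⊤) (ι c) • (AModX.resR (le_top : U ≤ ⊤) (ι d) • m)
      rw [map_mul, map_mul, mul_smul]
    map_zero' := QCoh.hom_ext_app fun U m => by
      show AModX.resR (le_top : U ≤ ⊤) (ι 0) • m = 0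
      rw [map_zero, map_zero, zero_smul]
    map_add' := fun c d => QCoh.hom_ext_app fun U m => by
      show AModX.resR (le_top : U ≤ ⊤) (ι (c + d)) • m =
        AModX.resR (le_top : U ≤ ⊤) (ι c) • m + AModX.resR (le_top : U ≤ ⊤) (ι d) • m
      rw [map_add, map_add, add_smul] }

/-- Endomorphisms act on extension groups. -/
noncomputable def extHom {C : Type v} [Category C] [Abelian C] [HasExt.{u} C] {R : Type u} [CommRing R]
    {M : C} (ρ : R →+* End M) (I : C) : R →+* AddMonoid.End (Abelian.Ext I M 1) where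
  toFun c := (Abelian.Ext.mk₀ (ρ c)).postcomp I (add_zero 1)
  map_one' := AddMonoidHom.ext fun e => by
    show e.comp (Abelian.Ext.mk₀ (ρ 1)) (add_zero 1) = e
    rw [map_one]
    exact Abelian.Ext.comp_mk₀_id e
  map_mul' c d := AddMonoidHom.ext fun e => by
    show e.comp (Abelian.Ext.mk₀ (ρ (c * d))) (add_zero 1) =
      (e.comp (Abelian.Ext.mk₀ (ρ d)) (add_zero 1)).comp (Abelian.Ext.mk₀ (ρ c)) (add_zero 1)
    rw [Abelian.Ext.comp_assoc_of_third_deg_zero, Abelian.Ext.mk₀_comp_mk₀, map_mul]
    rfl
  map_zero' := AddMonoidHom.ext fun e => by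
    show e.comp (Abelian.Ext.mk₀ (ρ 0)) (add_zero 1) = 0
    rw [map_zero, Abelian.Ext.mk₀_zero, Abelian.Ext.comp_zero]
  map_add' c d := AddMonoidHom.ext fun e => by
    show e.comp (Abelian.Ext.mk₀ (ρ (c + d))) (add_zero 1) =
      e.comp (Abelian.Ext.mk₀ (ρ c)) (add_zero 1) + e.comp (Abelian.Ext.mk₀ (ρ d)) (add_zero 1)
    rw [map_add, Abelian.Ext.mk₀_add, Abelian.Ext.comp_add]

/-- Let k be an algebraically closed field of characteristic zero and X a smooth projective surface over
k (irreducible, proper, smooth of dimension 2, with an ample invertible module); let M be an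
invertible O_X-module and Z ⊆ X a finite set of closed points, viewed as a reduced finite subscheme
with ideal sheaf I_Z (the vanishing ideal of the closed set Z), regarded as an O_X-module. Then the
following are equivalent: (a) there is a short exact sequence 0 → M → F → I_Z → 0 of O_X-modules
with F finite locally free (an extension class of I_Z by M whose middle term is a vector bundle; in
the source the extensions are of L ⊗ I_Z by O_X, here tensored with M = L⁻¹); (b) for every proper
subset Z' of Z, the empty one included, with vanishing ideal I_{Z'} ⊇ I_Z and φ : I_Z → I_{Z'} the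
inclusion (the map commuting with the two inclusions into O_X), the map Ext¹(I_{Z'}, M) → Ext¹(I_Z,
M) given by precomposition with φ is not surjective. Ext groups are taken in the category of all
O_X-modules (the Ext instance is the stated hypothesis; it holds). -/
theorem result (k : Type u) [Field k]
    [IsAlgClosed k] [CharZero k]
    (X : Scheme.{u}) [X.Over (Spec (CommRingCat.of k))] [IsProper (X ↘ (Spec (CommRingCat.of k)))]
    [Smooth (X ↘ (Spec (CommRingCat.of k)))] [IrreducibleSpace X] (hdim : topologicalKrullDim X = 2)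
    (H : X.Modules) (hH : CohB1.IsAmple H)
    (M : X.Modules) (hM : PicF.IsInvertible M)
    (Z : Finset X) (hZc : IsClosed ((Z : Set X))) (hZ : ∀ z ∈ Z, IsClosed ({z} : Set X))
    [HasExt.{u} X.Modules] :
    (∃ (F : X.Modules) (a : M ⟶ F)
        (b : F ⟶ ClSub.idealMod (Scheme.IdealSheafData.vanishingIdeal ⟨(Z : Set X), hZc⟩)) (w : a ≫ b = 0),
        (ShortComplex.mk a b w).ShortExact ∧ FlatMod.IsFinLocFree F) ↔
      ∀ (Z' : Finset X) (hZ'c : IsClosed ((Z' : Set X))), Z' ⊂ Z →
        ∀ φ : ClSub.idealMod (Scheme.IdealSheafData.vanishingIdeal ⟨(Z : Set X), hZc⟩) ⟶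
            ClSub.idealMod (Scheme.IdealSheafData.vanishingIdeal ⟨(Z' : Set X), hZ'c⟩),
          φ ≫ ClSub.idealModι (Scheme.IdealSheafData.vanishingIdeal ⟨(Z' : Set X), hZ'c⟩) =
              ClSub.idealModι (Scheme.IdealSheafData.vanishingIdeal ⟨(Z : Set X), hZc⟩) →
            ¬ Function.Surjective ((Abelian.Ext.mk₀ φ).precomp M (zero_add 1)) := by
  classical
  haveI : EnoughInjectives X.Modules := inferInstanceAs (EnoughInjectives (SheafOfModules _))
  haveI : JacobsonSpace X := LocallyOfFiniteType.jacobsonSpace (X ↘ (Spec (CommRingCat.of k)))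
  set IZ := Scheme.IdealSheafData.vanishingIdeal ⟨(Z : Set X), hZc⟩
  haveI : ∀ I : X.IdealSheafData, Mono (ClSub.idealModι I) := fun I => inferInstanceAs (Mono (kernel.ι _))
  have hsuppV : ∀ (S : TopologicalSpace.Closeds X),
      ((Scheme.IdealSheafData.vanishingIdeal S).support : Set X) = S := fun S => by
    simp
  have hfinZ : (IZ.support : Set X).Finite := by rw [hsuppV]; exact Z.finite_toSet
  have key := fun (F : X.Modules) (a : M ⟶ F) (b : F ⟶ ClSub.idealMod IZ) (w : a ≫ b = 0) hex =>
    Groth.Agent.S17351.result k X hdim H hH M hM IZ hfinZ F a b w hex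
  constructor
  · rintro ⟨F, a, b, w, hex, hF⟩ Z' hZ'c hlt φ hφ hsurj
    obtain ⟨e', he'⟩ := hsurj hex.extClass
    obtain ⟨F', a', b', w', hex', rfl⟩ := Synt29.ExtReal.exists_shortExact_extClass_eq e'
    obtain ⟨g, hag, hgb⟩ := Groth.Agent.H75.exists_lift_of_extClass_eq hex hex' φ he'
    refine (key F a b w hex).2 ⟨_, F', a', b', w', φ, g, lt_of_le_of_ne ?_ ?_, hex', hφ, hag, hgb⟩ hF
    · exact Scheme.IdealSheafData.vanishingIdeal_antimono (by exact_mod_cast hlt.subset)
    · intro h
      have h' := congrArg (fun I : X.IdealSheafData => (I.support : Set X)) h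
      simp only [IZ, hsuppV] at h'
      exact hlt.ne (Finset.coe_injective h'.symm)
  · intro hb
    let Ie := ClSub.idealMod IZ
    letI : Module k (Abelian.Ext Ie M 1) := Module.compHom _ (extHom (constHom k M) Ie)
    have hc : ∀ z : ↥Z, IsClosed ((Z.erase (z : X) : Finset X) : Set X) := fun z =>
      (Z.erase (z : X)).finite_toSet.isClosed_biUnion (f := fun y => ({y} : Set X))
        (fun y hy => hZ y (Finset.mem_of_mem_erase hy)) |> fun h => by rwa [Set.biUnion_of_singleton] at h
    have hle : ∀ z : ↥Z, IZ ≤ Scheme.IdealSheafData.vanishingIdeal ⟨_, hc z⟩ := fun z =>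
      Scheme.IdealSheafData.vanishingIdeal_antimono (by
        exact_mod_cast Finset.erase_subset (z : X) Z)
    let P : ↥Z → Submodule k (Abelian.Ext Ie M 1) := fun z =>
      { carrier := Set.range ((Abelian.Ext.mk₀ (SurfInt.inclMap (hle z))).precomp M (zero_add 1))
        add_mem' := by rintro _ _ ⟨x, rfl⟩ ⟨y, rfl⟩; exact ⟨x + y, map_add _ _ _⟩
        zero_mem' := ⟨0, map_zero _⟩
        smul_mem' := by
          rintro c _ ⟨x, rfl⟩
          refine ⟨x.comp (Abelian.Ext.mk₀ (constHom k M c)) (add_zero 1), ?_⟩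
          show (Abelian.Ext.mk₀ (SurfInt.inclMap (hle z))).comp
              (x.comp (Abelian.Ext.mk₀ (constHom k M c)) (add_zero 1)) (zero_add 1) =
            ((Abelian.Ext.mk₀ (SurfInt.inclMap (hle z))).comp x (zero_add 1)).comp
              (Abelian.Ext.mk₀ (constHom k M c)) (add_zero 1)
          exact (Abelian.Ext.comp_assoc_of_third_deg_zero _ _ _ _).symm }
    have hP : ∀ z, P z ≠ ⊤ := fun z h => hb (Z.erase (z : X)) (hc z) (Finset.erase_ssubset z.2)
      (SurfInt.inclMap (hle z)) (SurfInt.inclMap_ι _) fun e => (h ▸ Submodule.mem_top : e ∈ P z)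
    haveI : Infinite k := inferInstance
    obtain ⟨e, he⟩ := Submodule.exists_forall_notMem_of_forall_ne_top P hP
    obtain ⟨F, a, b, w, hex, rfl⟩ := Synt29.ExtReal.exists_shortExact_extClass_eq e
    refine ⟨F, a, b, w, hex, by_contra fun hF => ?_⟩
    obtain ⟨I', F', a', b', w', φ, g, hlt, hex', hφ, hag, hgb⟩ := (key F a b w hex).1 hF
    have hI' := eq_vanishingIdeal_support_of_le (S := ⟨(Z : Set X), hZc⟩) Z.finite_toSet hZ hlt.le
    obtain ⟨z, hz, hzI⟩ : ∃ z ∈ Z, z ∉ (I'.support : Set X) := by
      by_contra! h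
      refine hlt.not_ge ?_
      rw [hI']
      exact Scheme.IdealSheafData.vanishingIdeal_antimono h
    have hle' : Scheme.IdealSheafData.vanishingIdeal ⟨_, hc ⟨z, hz⟩⟩ ≤ I' := by
      rw [hI']
      refine Scheme.IdealSheafData.vanishingIdeal_antimono fun y hy => ?_
      have hyZ : y ∈ (Z : Set X) := hsuppV ⟨(Z : Set X), hZc⟩ ▸ Scheme.IdealSheafData.support_antitone hlt.le hy
      exact Finset.mem_coe.2 (Finset.mem_erase.2 ⟨fun h => hzI (by rw [show y = z from h] at hy; exact hy), hyZ⟩)
    have hfac : SurfInt.inclMap (hle ⟨z, hz⟩) ≫ SurfInt.inclMap hle' = φ := by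
      rw [← cancel_mono (ClSub.idealModι I'), Category.assoc, SurfInt.inclMap_ι, SurfInt.inclMap_ι, hφ]
    refine he ⟨z, hz⟩ ⟨(Abelian.Ext.mk₀ (SurfInt.inclMap hle')).comp hex'.extClass (zero_add 1), ?_⟩
    have hnat := ShortComplex.ShortExact.extClass_naturality hex hex'
      (ShortComplex.homMk (S₁ := ShortComplex.mk a b w) (S₂ := ShortComplex.mk a' b' w') (𝟙 M) g φ
        (by simp [hag]) hgb)
    simp only [ShortComplex.homMk_τ₁, ShortComplex.homMk_τ₃, Abelian.Ext.comp_mk₀_id] at hnat
    rw [hnat, ← hfac]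
    show (Abelian.Ext.mk₀ (SurfInt.inclMap (hle ⟨z, hz⟩))).comp _ (zero_add 1) = _
    rw [← Abelian.Ext.comp_assoc_of_second_deg_zero, Abelian.Ext.mk₀_comp_mk₀]

end Groth.Agent.S19673
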