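import Groth.Statements.S1969
import Mathlib.RingTheory.Flat.TorsionFree
import Mathlib.RingTheory.Flat.EquationalCriterion

set_option autoImplicit false
set_option linter.style.haveILetI false
universe u
open EtAlg

namespace Groth.Agent.S1969

/-- For a commutative ring A these are equivalent — all ideals are flat A-modules; all finitely
generated ideals are flat; flatness passes to submodules of flat modules; each localization at a
prime is a valuation ring (in particular a domain). Condition (1), weak dimension at most one, is
not stated. -/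
theorem result (A : Type u) [CommRing A] :
    List.TFAE [∀ I : Ideal A, Module.Flat A I,
      ∀ I : Ideal A, I.FG → Module.Flat A I,
      ∀ (M : Type u) [AddCommGroup M] [Module A M], Module.Flat A M → ∀ N : Submodule A M, Module.Flat A N,
      ∀ (p : Ideal A) [p.IsPrime], ∃ _ : IsDomain (Localization.AtPrime p), ValuationRing (Localization.AtPrime p)] := by
  classical
  tfae_have 1 → 2 := fun h I _ => h I
  tfae_have 3 → 1 := fun h I => h A inferInstance I
  tfae_have 2 → 4 := by
    intro h p hp
    let Ap := Localization.AtPrime p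
    let l : A →+* Ap := algebraMap A Ap
    have hunit : ∀ a : A, IsUnit (l a) ∨ IsUnit (1 - l a) := fun a =>
      IsLocalRing.isUnit_or_isUnit_one_sub_self (l a)
    have dom : ∀ x y : A, x * y = 0 → l x = 0 ∨ l y = 0 := by
      intro x y hxy
      haveI := h _ (Submodule.fg_span_singleton x)
      let X : Fin 1 → (Submodule.span A {x} : Ideal A) := fun _ => ⟨x, Submodule.mem_span_singleton_self x⟩
      obtain ⟨k, a, z, hz, ha⟩ := Module.Flat.isTrivialRelation_of_sum_smul_eq_zero (f := fun _ => y) (x := X)
        (by rw [Fin.sum_univ_one]; exact Subtype.ext (by simpa [X, mul_comm] using hxy))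
      choose u hu using fun j => Ideal.mem_span_singleton'.mp (z j).2
      have hx : x = (∑ j, a 0 j * u j) * x := by
        conv_lhs => rw [show x = ((∑ j, a 0 j • z j : (Submodule.span A {x} : Ideal A)) : A) from congrArg Subtype.val (hz 0)]
        rw [AddSubmonoidClass.coe_finsetSum, Finset.sum_mul]
        exact Finset.sum_congr rfl fun j _ => by
          rw [SetLike.val_smul, smul_eq_mul, ← hu j]; ring
      have hy : y * (∑ j, a 0 j * u j) = 0 := by
        rw [Finset.mul_sum]
        refine Finset.sum_eq_zero fun j _ => ?_
        have := ha j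
        rw [Fin.sum_univ_one] at this
        rw [← mul_assoc, this, zero_mul]
      rcases hunit (∑ j, a 0 j * u j) with hU | hU
      · refine Or.inr (hU.mul_left_eq_zero.mp ?_)
        rw [← map_mul, hy, map_zero]
      · refine Or.inl (hU.mul_left_eq_zero.mp ?_)
        rw [mul_sub, mul_one, ← map_mul, mul_comm x, ← hx, sub_self]
    have dvd : ∀ x y : A, l x ∣ l y ∨ l y ∣ l x := by
      intro x y
      haveI := h (Submodule.span A {x, y}) (Submodule.fg_span (Set.toFinite _))
      let X : Fin 2 → (Submodule.span A {x, y} : Ideal A) :=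
        ![⟨x, Submodule.subset_span (Set.mem_insert _ _)⟩,
          ⟨y, Submodule.subset_span (Set.mem_insert_of_mem _ rfl)⟩]
      obtain ⟨k, a, z, hz, ha⟩ := Module.Flat.isTrivialRelation_of_sum_smul_eq_zero (f := ![y, -x]) (x := X)
        (by rw [Fin.sum_univ_two]; exact Subtype.ext (by simp [X, mul_comm]))
      choose u v huv using fun j => Submodule.mem_span_pair.mp (z j).2
      have ha' : ∀ j, y * a 0 j = x * a 1 j := fun j => by
        have := ha j
        simp only [Fin.sum_univ_two, Matrix.cons_val_zero, Matrix.cons_val_one] at this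
        linear_combination this
      have hx : x = ∑ j, a 0 j * (u j * x + v j * y) := by
        conv_lhs => rw [show x = ((∑ j, a 0 j • z j : (Submodule.span A {x, y} : Ideal A)) : A) from congrArg Subtype.val (hz 0)]
        rw [AddSubmonoidClass.coe_finsetSum]
        refine Finset.sum_congr rfl fun j _ => ?_
        simp only [SetLike.val_smul, smul_eq_mul]
        rw [← huv j, smul_eq_mul, smul_eq_mul]
      have hy : y * (∑ j, a 0 j * u j) = x * ∑ j, a 1 j * u j := by
        rw [Finset.mul_sum, Finset.mul_sum]
        exact Finset.sum_congr rfl fun j _ => by rw [← mul_assoc, ha' j, mul_assoc]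
      have hx' : x * (1 - ∑ j, a 0 j * u j) = y * ∑ j, a 0 j * v j := by
        rw [mul_sub, mul_one, sub_eq_iff_eq_add, Finset.mul_sum, Finset.mul_sum, ← Finset.sum_add_distrib]
        conv_lhs => rw [hx]
        exact Finset.sum_congr rfl fun j _ => by ring
      rcases hunit (∑ j, a 0 j * u j) with hU | hU
      · exact Or.inl (hU.dvd_mul_right.mp ⟨l (∑ j, a 1 j * u j), by rw [← map_mul, ← map_mul, hy]⟩)
      · refine Or.inr (hU.dvd_mul_right.mp ⟨l (∑ j, a 0 j * v j), ?_⟩)
        rw [← map_mul l y, ← hx', map_mul, map_sub, map_one]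
    haveI : NoZeroDivisors Ap := ⟨fun {x y} hxy => by
      obtain ⟨x, s, rfl⟩ := IsLocalization.exists_mk'_eq p.primeCompl x
      obtain ⟨y, t, rfl⟩ := IsLocalization.exists_mk'_eq p.primeCompl y
      rw [← IsLocalization.mk'_mul, IsLocalization.mk'_eq_zero_iff] at hxy
      obtain ⟨m, hm⟩ := hxy
      simp only [IsLocalization.mk'_eq_zero_iff, ← IsLocalization.map_eq_zero_iff p.primeCompl Ap]
      refine (dom (m * x) y (by rw [mul_assoc, hm])).imp_left fun h0 => ?_
      rw [map_mul] at h0
      exact (IsLocalization.map_units Ap m).mul_right_eq_zero.mp h0⟩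
    haveI hd : IsDomain Ap := NoZeroDivisors.to_isDomain Ap
    refine ⟨hd, ValuationRing.iff_dvd_total.mpr ⟨fun x y => ?_⟩⟩
    obtain ⟨x, s, rfl⟩ := IsLocalization.exists_mk'_eq p.primeCompl x
    obtain ⟨y, t, rfl⟩ := IsLocalization.exists_mk'_eq p.primeCompl y
    have hassoc : ∀ (a : A) (r : p.primeCompl), Associated (IsLocalization.mk' Ap a r) (l a) := fun a r =>
      ⟨(IsLocalization.map_units Ap r).unit, IsLocalization.mk'_spec Ap a r⟩
    rw [(hassoc x s).dvd_iff_dvd_left, (hassoc y t).dvd_iff_dvd_right, (hassoc x s).dvd_iff_dvd_right,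
      (hassoc y t).dvd_iff_dvd_left]
    exact dvd x y
  tfae_have 4 → 3 := by
    intro h M _ _ hM N
    refine Module.flat_of_localized_maximal _ fun P hP => ?_
    obtain ⟨hd, hv⟩ := h P
    haveI := hd
    haveI := hv
    haveI : IsDomain (Localization P.primeCompl) := hd
    haveI : ValuationRing (Localization P.primeCompl) := hv
    haveI : Module.Flat (Localization P.primeCompl) (LocalizedModule P.primeCompl M) :=
      Module.Flat.of_isLocalizedModule (Localization P.primeCompl) P.primeCompl (LocalizedModule.mkLinearMap _ _)
    rw [← Module.flat_iff_of_isLocalization (Localization P.primeCompl) P.primeCompl,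
      Module.Flat.flat_iff_torsion_eq_bot_of_isBezout, ← Submodule.isTorsionFree_iff_torsion_eq_bot]
    haveI : Module.IsTorsionFree (Localization P.primeCompl) (LocalizedModule P.primeCompl M) :=
      Submodule.isTorsionFree_iff_torsion_eq_bot.mpr Module.Flat.torsion_eq_bot
    exact Function.Injective.moduleIsTorsionFree (LocalizedModule.map P.primeCompl N.subtype)
      (LocalizedModule.map_injective P.primeCompl N.subtype Subtype.val_injective) (fun c x => map_smul _ c x)
  tfae_finish

end Groth.Agent.S1969
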