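import Groth.Statements.S19701
import Groth.Agent.LS17.Trace
import Groth.Agent.CurveCohLib.SmoothCurve
import Groth.Agent.S7810

set_option autoImplicit false
universe u
open CategoryTheory CategoryTheory.Limits AlgebraicGeometry Opposite
open Curves

namespace Groth.Agent.S19701

attribute [local instance] Groth.Agent.CurveFF.ffAlg

/-- Let k be an algebraically closed field of characteristic different from 2 and X a hyperelliptic
curve of genus g over k: X → Spec k is smooth and proper, X is connected of dimension one with g =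
dim_k H¹(X, O_X) ≥ 2, and h : X → P¹_k is a k-morphism which is a double cover (finite, flat,
locally of finite presentation, of rank 2 at every point). Let τ : h_*O_X → O_{P¹} be the trace of h
(the O-linear map which over every affine open of P¹_k where h_*O_X is finite free is the trace of
the regular representation). Then the kernel of τ — an invertible sheaf on P¹_k — has degree −g − 1,
the degree of a rank-one sheaf E on P¹_k being χ(E) − χ(O). (On P¹_k this says that ker τ is
isomorphic to O(−g − 1); only the degree is asserted here.) -/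
theorem result (k : Type u) [Field k] [IsAlgClosed k]
    (h2 : (2 : k) ≠ 0) {X : Scheme.{u}} (p : X ⟶ Spec (CommRingCat.of k)) [IsProper p] [Smooth p]
    [ConnectedSpace ↥X] (hX : topologicalKrullDim ↥X = 1) (hg : 2 ≤ @Curv2.genus k _ X ⟨p⟩)
    (h : X ⟶ CohB1.ProjSpace 1 k) (hh : h ≫ CohB1.ProjSpace.toSpec 1 k = p)
    [IsFinite h] [Flat h] [LocallyOfFinitePresentation h]
    (hr : ∀ y : ↥(CohB1.ProjSpace 1 k), h.finrank y = 2)
    (τ : (Scheme.Modules.pushforward h).obj (Coh.structureModule X) ⟶ Coh.structureModule (CohB1.ProjSpace 1 k))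
    (hτ : FinCov.IsTraceHom h τ) :
    @Curv2.deg k _ (CohB1.ProjSpace 1 k) ⟨CohB1.ProjSpace.toSpec 1 k⟩ (kernel τ) 1 =
      -((@Curv2.genus k _ X ⟨p⟩ : ℤ) + 1) := by
  let P := CohB1.ProjSpace 1 k
  letI : P.Over (Spec (CommRingCat.of k)) := ⟨CohB1.ProjSpace.toSpec 1 k⟩
  letI : X.Over (Spec (CommRingCat.of k)) := ⟨p⟩
  haveI : IsIntegral P := H23.PnChart.isIntegral_projSpace 1 k
  haveI : IsProper (P ↘ Spec (CommRingCat.of k)) := PnCoh.Chow.isProper_toSpec 1 k
  haveI : IsProper (X ↘ Spec (CommRingCat.of k)) := ‹IsProper p›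
  haveI : Smooth (X ↘ Spec (CommRingCat.of k)) := ‹Smooth p›
  haveI : CompactSpace X := QuasiCompact.compactSpace_of_compactSpace (X ↘ Spec (CommRingCat.of k))
  haveI := CurveCohLib.isIntegral_of_smooth_connected (X ↘ Spec (CommRingCat.of k))
  haveI := CurveCohLib.isNoetherian_of_proper (k := k) (X := X)
  haveI := CurveCohLib.isNoetherian_of_proper (k := k) (X := P)
  have hdP : topologicalKrullDim ↥P = 1 := by simpa using S10829.result k 1
  have hd : CurveBC.coverDeg h = 2 :=
    ((H23.CoverPush.isCover_of_crit h (H23.CoverPush.crit_of_isFinLocFreeOfRank_push h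
      (CurveBC.isFinLocFreeOfRank_push h))).2 (genericPoint P)).symm.trans (hr _)
  have hE := hd ▸ CurveBC.isFinLocFreeOfRank_push h
  haveI : Epi τ := LS17.epi_trace h hE hτ (by
    have := h2.isUnit.map (Coh.toGlobal (P ↘ Spec (CommRingCat.of k)))
    rw [map_ofNat] at this
    exact_mod_cast this)
  have hS : (ShortComplex.mk (kernel.ι τ) τ (kernel.condition τ)).ShortExact :=
    { exact := ShortComplex.exact_of_f_is_kernel _ (kernelIsKernel τ) }
  have hP := QCoh.isCoh_structureModule' (X := P)
  have hpush := QCoh.isCoh_pushforward_finite h (QCoh.isCoh_structureModule' (X := X))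
  have hadd := CurveCohLib.euler_additive (k := k) hS (QCoh.isCoh_kernel hpush hP τ) hpush hP
  have hpE : Curv2.euler k X (Coh.structureModule X) =
      Curv2.euler k P ((Scheme.Modules.pushforward h).obj (Coh.structureModule X)) :=
    finsum_congr fun i => by
      obtain ⟨e⟩ := PnCoh.exists_linearEquiv_push k h hh QCoh.isQCoh_structureModule i
      rw [e.finrank_eq]
  have hX0 := CurveCohLib.finrank_h0_eq_one k X
  obtain ⟨hP0, hPg⟩ := S7810.projLine_facts k
  have hχX := CurveCohLib.Nonspecial.euler_structure k hX hX0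
  have hχP := CurveCohLib.Nonspecial.euler_structure k hdP hP0
  rw [hPg] at hχP
  dsimp only [] at hadd
  show Curv2.euler k P (kernel τ) - ((1 : ℕ) : ℤ) * Curv2.euler k P (Coh.structureModule P) =
    -((Curv2.genus k X : ℤ) + 1)
  push_cast
  linear_combination hχX - hadd - hpE - 2 * hχP

end Groth.Agent.S19701
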