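import Groth.Statements.S19772
import Groth.Agent.AVIdx.DegenMult
import Groth.Agent.AVIdx.TateRank
import Groth.Agent.AVIdx.GeomPts
import Groth.Agent.S4642
import Groth.Agent.S4381
import Groth.Agent.AmpleX.BaseChange
import Groth.Agent.H23.KLBasic
import Groth.Agent.CurveBC.Coh
import Groth.Agent.ZeroSchX.Basic

set_option linter.style.haveILetI false
set_option backward.isDefEq.respectTransparency false
set_option backward.isDefEq.respectTransparency.types false

set_option autoImplicit false
universe u
open CategoryTheory MonoidalCategory CartesianMonoidalCategory MonObj GrpObj AlgebraicGeometry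
open AbVar

namespace Groth.Agent.S19772

open Groth.Agent Groth.Agent.H23
open scoped Groth.Agent.H23.PicMul

/-- Let X be an abelian variety over a field k (a proper, geometrically integral k-group scheme), L an
invertible O_X-module, H an ample invertible O_X-module, and Φ the Hilbert polynomial of L with
respect to H: the rational polynomial with Φ(n) = χ(X, L ⊗ H^{⊗ n}) for every natural number n. Let
i : K → X be a closed immersion exhibiting K as K(L) (the maximal closed subscheme over which the
Mumford bundle m^*L ⊗ p_1^*L⁻¹ ⊗ p_2^*L⁻¹, restricted to X ×_k K, is the inverse image of an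
invertible module on K, with its universal property). Then the dimension of K (the Krull dimension
of its underlying space) equals the root multiplicity of Φ at 0. -/
theorem result (k : Type u) [Field k] (X : Over (Spec (CommRingCat.of k)))
    [GrpObj X] [IsProper X.hom] [GeometricallyIntegral X.hom] (L : X.left.Modules) (hL : PicF.IsInvertible L)
    (K : Over (Spec (CommRingCat.of k))) (i : K ⟶ X) (hK : ThetaGrp.IsKL X L i)
    (H : X.left.Modules) (hH : CohB1.IsAmple H) (Φ : Polynomial ℚ)
    (hΦ : ∀ n : ℕ, Φ.eval (n : ℚ) =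
      (@Curv2.euler k _ X.left ⟨X.hom⟩ (CohB1.tensorMod L (CohB1.tensorPow H n)) : ℚ)) :
    topologicalKrullDim ↥K.left = ((Φ.rootMultiplicity 0 : ℕ) : WithBot ℕ∞) := by
  classical
  let Ω := AlgebraicClosure k
  let σ := AVIdx.fieldMap (k := k) Ω
  let A' := Red.bc σ X
  haveI : IsProper A'.hom := inferInstanceAs (IsProper (Limits.pullback.snd X.hom σ))
  haveI : GeometricallyIntegral A'.hom := inferInstanceAs (GeometricallyIntegral (Limits.pullback.snd X.hom σ))
  haveI : IsCommMonObj A' := isCommMonObj_of_isProper_of_geometricallyIntegral A'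
  haveI := hK.closed
  let π : A'.left ⟶ X.left := Limits.pullback.fst X.hom σ
  let i' := (Over.pullback σ).map i
  have hsq := AVIdx.isPullback_map_left' σ i
  haveI : IsClosedImmersion i'.left := MorphismProperty.of_isPullback hsq inferInstance
  haveI : LocallyOfFiniteType K.hom := by
    rw [← Over.w i]
    infer_instance
  -- dimensions
  have hdimK : topologicalKrullDim ↥(Set.range i'.left) = topologicalKrullDim ↥K.left :=
    (i'.left.isClosedEmbedding.toIsEmbedding.toHomeomorph.isHomeomorph.topologicalKrullDim_eq).symm.trans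
      (S4642.result (K := Ω) K.hom)
  rw [← hdimK]
  let L' := (Scheme.Modules.pullback π).obj L
  let H' := (Scheme.Modules.pullback π).obj H
  have hL' : PicF.IsInvertible L' := PicClLib.isInvertible_pullback π hL
  have hH' : CohB1.IsAmple H' :=
    (S4381.result (Limits.pullback.snd X.hom σ) H').1 (AmpleX.isRelAmple_baseChange X.hom σ ((S4381.result X.hom H).2 hH))
  -- rational points of the base change lying on `K`
  have hmem : ∀ a : 𝟙_ (Over (Spec (CommRingCat.of Ω))) ⟶ A',
      AVFac.ptOf a ∈ Set.range i'.left ↔ AVPair.pl (𝟙 A' * (toUnit A' ≫ a)) (PicF.cl L') = PicF.cl L' := by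
    intro a
    obtain ⟨z, rfl⟩ := (AVIdx.GeomPts.equiv σ X).surjective a
    let a' := AVIdx.GeomPts.equiv σ X z
    have h1 : AVFac.ptOf a' ∈ Set.range i'.left ↔ ∃ w : Over.mk σ ⟶ K, w ≫ i = z := by
      constructor
      · intro h
        obtain ⟨y, hy⟩ := AVFac.exists_pt_lift i' a' h
        refine ⟨Over.homMk (y.left ≫ Limits.pullback.fst K.hom σ) ?_, Over.OverMorphism.ext ?_⟩
        · show (y.left ≫ Limits.pullback.fst K.hom σ) ≫ K.hom = σ
          rw [Category.assoc, Limits.pullback.condition, ← Category.assoc]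
          exact (congrArg (· ≫ σ) (Over.w y)).trans (Category.id_comp σ)
        · show (y.left ≫ Limits.pullback.fst K.hom σ) ≫ i.left = z.left
          rw [Category.assoc, hsq.w, ← Category.assoc, ← Over.comp_left, hy]
          exact AVIdx.GeomPts.toBc_left σ X z
      · rintro ⟨w, rfl⟩
        refine ⟨AVFac.ptOf (AVIdx.GeomPts.diag σ ≫ (Over.pullback σ).map w), ?_⟩
        rw [← AVFac.ptOf_comp, Category.assoc, ← Functor.map_comp]
        rfl
    rw [h1, ← hK.univ _ z, KLBasic.iff_eq_pull hL z]
    -- translation by the point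
    let W : X ⊗ Over.mk σ ⟶ X := fst X (Over.mk σ) * (snd X (Over.mk σ) ≫ z)
    let u : A' ⟶ (Over.pullback σ).obj (X ⊗ Over.mk σ) :=
      Over.homMk (Limits.pullback.lift (𝟙 A'.left) (Limits.pullback.snd X.hom σ) (by
        rw [Category.id_comp]
        exact Limits.pullback.condition)) (Limits.pullback.lift_snd _ _ _)
    have hu : ∀ {Y : Over (Spec (CommRingCat.of k))} (f : X ⊗ Over.mk σ ⟶ Y),
        (u ≫ (Over.pullback σ).map f).left ≫ Limits.pullback.fst Y.hom σ = f.left := by
      intro Y f
      rw [Over.comp_left, Category.assoc, show ((Over.pullback σ).map f).left ≫ Limits.pullback.fst Y.hom σ =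
        Limits.pullback.fst _ σ ≫ f.left from Limits.pullback.lift_fst _ _ _, ← Category.assoc]
      exact (congrArg (· ≫ f.left) (Limits.pullback.lift_fst _ _ _)).trans (Category.id_comp _)
    have hu1 : u ≫ (Over.pullback σ).map (fst X (Over.mk σ)) = 𝟙 A' := by
      refine Over.OverMorphism.ext ?_
      apply Limits.pullback.hom_ext
      · exact (hu _).trans (Category.id_comp _).symm
      · exact (Over.w _).trans (Category.id_comp _).symm
    have hu2 : u ≫ (Over.pullback σ).map (snd X (Over.mk σ)) = toUnit A' ≫ AVIdx.GeomPts.diag σ := by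
      refine Over.OverMorphism.ext ?_
      apply Limits.pullback.hom_ext
      · refine (hu _).trans ?_
        show Limits.pullback.snd X.hom σ = (Limits.pullback.snd X.hom σ ≫ Limits.pullback.lift (𝟙 _) (𝟙 _) rfl) ≫ _
        rw [Category.assoc]
        exact ((congrArg (Limits.pullback.snd X.hom σ ≫ ·) (Limits.pullback.lift_fst _ _ _)).trans (Category.comp_id _)).symm
      · exact (Over.w _).trans (Over.w _).symm
    have hW : u ≫ (Over.pullback σ).map W = 𝟙 A' * (toUnit A' ≫ a') := by
      rw [Functor.map_mul, MonObj.comp_mul, hu1, Functor.map_comp, ← Category.assoc, hu2, Category.assoc]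
      rfl
    have hpt : PicF.pullCl z.left (PicF.cl L) = 1 := by
      haveI : Subsingleton (Over.mk σ).left := inferInstanceAs (Subsingleton (Spec (CommRingCat.of Ω)))
      haveI : Nonempty (Over.mk σ).left := inferInstanceAs (Nonempty (Spec (CommRingCat.of Ω)))
      exact KLBasic.trivial_of_subsingleton (PicClLib.isInvertible_pullback z.left hL)
    have hpl : AVPair.pl (𝟙 A' * (toUnit A' ≫ a')) (PicF.cl L') = PicF.pullCl W.left (PicF.cl L) := by
      rw [← hu W, hW]
      exact PicClLib.pullCl_comp _ π (PicF.cl L)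
    unfold KLBasic.Eq
    rw [hpt, PicMul.pullCl_one, _root_.mul_one, hpl, ThetaGrp.transl_fst]
    rfl
  -- the Hilbert polynomial
  refine AVIdx.dim_eq_rootMultiplicity hL' hH' i'.left.isClosedEmbedding.isClosed_range hmem Φ fun n => ?_
  rw [hΦ n]
  letI : X.left.Over (Spec (CommRingCat.of k)) := ⟨X.hom⟩
  letI : A'.left.Over (Spec (CommRingCat.of Ω)) := ⟨A'.hom⟩
  haveI : CompactSpace X.left := QuasiCompact.compactSpace_of_compactSpace X.hom
  haveI : QuasiSeparatedSpace X.left := quasiSeparatedSpace_of_quasiSeparated X.hom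
  obtain ⟨M, hMc, hM⟩ : PicF.IsInvertibleCl (PicF.cl L * PicF.cl H ^ n) :=
    PicMul.isInvertibleCl_mul ⟨L, rfl, hL⟩ (AVIdx.isInvertibleCl_pow ⟨H, rfl, hH.1⟩ n)
  rw [← AVIdx.chiCl_cl, ← AVIdx.chiCl_cl, PicMul.cl_tensor, PicMul.cl_tensor, PicMul.cl_tensorPow, PicMul.cl_tensorPow,
    show PicF.cl L' * PicF.cl H' ^ n = PicF.cl ((Scheme.Modules.pullback π).obj M) from by
      show PicMul.pullHom π (PicF.cl L) * PicMul.pullHom π (PicF.cl H) ^ n = PicMul.pullHom π (PicF.cl M)
      rw [hMc, map_mul, map_pow],
    ← hMc, AVIdx.chiCl_cl, AVIdx.chiCl_cl]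
  exact_mod_cast (CurveBC.euler_eq k Ω π (IsPullback.of_hasPullback X.hom σ) M (ZeroSchX.isQCoh_inv hM)).symm

end Groth.Agent.S19772
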