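import Mathlib
import Groth.Agent.ZariskiApprox.Henselian
import Groth.Agent.Hensel.HenselizationProps
import Groth.Statements.S19779
-- import your own Groth.Agent.* helpers here

set_option autoImplicit false
set_option linter.style.haveILetI false
universe u
open Polynomial TensorProduct
open CAlg

namespace Groth.Agent.S19779

/-- For general linear groups, in the case R{t}[1/t] → R((t)), let R be a commutative ring, B = R{t} a
henselization of R[t] along (t), ψ : B → R[[t]] the R[t]-algebra map, L = B[1/t], and L' an
L-algebra identified with R((t)) compatibly with ψ. Then base change along L → L' is a bijection on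
isomorphism classes of finitely generated projective modules: two finitely generated projective
L-modules isomorphic over L' are isomorphic, and every finitely generated projective L'-module is
extended from one over L. (The published statement is the bijection H¹(R{t}[1/t], G) ≅ H¹(R((t)), G)
for every quasi-affine smooth group G; this row is the case of the general linear groups, stated for
finitely generated projective modules of arbitrary rank.) -/
theorem result (R : Type u) [CommRing R]
    (B : Type u) [CommRing B] [Algebra R[X] B] (hB : Hens2.IsPairHenselization R[X] (Ideal.span {(X : R[X])}) B)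
    (ψ : B →ₐ[R[X]] PowerSeries R)
    (L' : Type u) [CommRing L'] [Algebra (Localization.Away (algebraMap R[X] B X)) L'] (e : L' ≃+* LaurentSeries R)
    (he : ∀ b : B, e (algebraMap (Localization.Away (algebraMap R[X] B X)) L' (algebraMap B (Localization.Away (algebraMap R[X] B X)) b)) =
      HahnSeries.ofPowerSeries ℤ R (ψ b)) :
    (∀ (M N : Type u) [AddCommGroup M] [Module (Localization.Away (algebraMap R[X] B X)) M] [Module.Finite (Localization.Away (algebraMap R[X] B X)) M] [Module.Projective (Localization.Away (algebraMap R[X] B X)) M]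
        [AddCommGroup N] [Module (Localization.Away (algebraMap R[X] B X)) N] [Module.Finite (Localization.Away (algebraMap R[X] B X)) N] [Module.Projective (Localization.Away (algebraMap R[X] B X)) N],
        Nonempty (L' ⊗[Localization.Away (algebraMap R[X] B X)] M ≃ₗ[L'] L' ⊗[Localization.Away (algebraMap R[X] B X)] N) → Nonempty (M ≃ₗ[Localization.Away (algebraMap R[X] B X)] N)) ∧
    (∀ (M' : Type u) [AddCommGroup M'] [Module L' M'] [Module.Finite L' M'] [Module.Projective L' M'],
        ∃ (M : Type u) (_ : AddCommGroup M) (_ : Module (Localization.Away (algebraMap R[X] B X)) M),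
          Module.Finite (Localization.Away (algebraMap R[X] B X)) M ∧ Module.Projective (Localization.Away (algebraMap R[X] B X)) M ∧
          Nonempty (L' ⊗[Localization.Away (algebraMap R[X] B X)] M ≃ₗ[L'] M')) := by
  classical
  let Ah := PowerSeries R
  let E := Localization.Away (algebraMap R[X] B X)
  let t : B := algebraMap R[X] B X
  letI : Algebra B Ah := ψ.toRingHom.toAlgebra
  letI : Algebra Ah L' := (e.symm.toRingHom.comp (HahnSeries.ofPowerSeries ℤ R)).toAlgebra
  letI : Algebra B L' := ((algebraMap Ah L').comp (algebraMap B Ah)).toAlgebra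
  haveI : IsScalarTower B Ah L' := IsScalarTower.of_algebraMap_eq fun _ => rfl
  haveI : IsScalarTower B E L' := IsScalarTower.of_algebraMap_eq fun b => by
    show e.symm (HahnSeries.ofPowerSeries ℤ R (ψ b)) = _
    rw [RingEquiv.symm_apply_eq]
    exact (he b).symm
  have hcc : ∀ (f : R[X]) (i : ℕ), PowerSeries.coeff i (algebraMap B Ah (algebraMap R[X] B f)) = f.coeff i :=
    fun f i => by
      show PowerSeries.coeff i (ψ (algebraMap R[X] B f)) = _
      rw [AlgHom.commutes]
      simp [RingHom.algebraMap_toAlgebra]
  have htX : algebraMap B Ah t = PowerSeries.X := by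
    ext i
    rw [hcc, Polynomial.coeff_X, PowerSeries.coeff_X]
    simp [eq_comm]
  haveI : IsLocalization.Away (algebraMap B Ah t) L' := by
    rw [htX]
    let e' : LaurentSeries R ≃ₐ[Ah] L' := AlgEquiv.ofRingEquiv (f := e.symm) fun _ => rfl
    exact IsLocalization.isLocalization_of_algEquiv (Submonoid.powers (PowerSeries.X : Ah)) e'
  haveI hH : HenselianRing B (Ideal.span {t}) := by
    have h := hB.1
    rwa [Ideal.map_span, Set.image_singleton] at h
  have hjac : t ∈ (⊥ : Ideal B).jacobson :=
    HenselianRing.jac (I := Ideal.span {t}) (Ideal.mem_span_singleton_self t)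
  have hjach : algebraMap B Ah t ∈ (⊥ : Ideal Ah).jacobson := by
    rw [htX, Ideal.mem_jacobson_bot]
    intro y
    exact PowerSeries.isUnit_iff_constantCoeff.mpr (by simp)
  have hdense : ∀ (y : Ah) (k : ℕ), ∃ (a : B) (z : Ah),
      y - algebraMap B Ah a = algebraMap B Ah t ^ k * z := fun y k => by
    refine ⟨algebraMap R[X] B (PowerSeries.trunc k y), ?_⟩
    rw [htX]
    refine (PowerSeries.X_pow_dvd_iff.mpr fun i hi => ?_ :
      PowerSeries.X ^ k ∣ y - algebraMap B Ah (algebraMap R[X] B (PowerSeries.trunc k y)))
    rw [map_sub, hcc, PowerSeries.coeff_trunc, if_pos hi, sub_self]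
  have hinter : ∀ (b : B) (k : ℕ) (z : Ah), algebraMap B Ah b = algebraMap B Ah t ^ k * z → t ^ k ∣ b := by
    intro b k z h
    obtain ⟨x, hx⟩ := (Hensel.bijective_quotientMap_pow_of_isPairHenselization _ hB k).2 (Ideal.Quotient.mk _ b)
    obtain ⟨f, rfl⟩ := Ideal.Quotient.mk_surjective x
    rw [Ideal.quotientMap_mk, Ideal.Quotient.eq, Ideal.span_singleton_pow, Ideal.map_span, Set.image_singleton,
      map_pow, Ideal.mem_span_singleton] at hx
    obtain ⟨b', hb'⟩ := hx
    have h2 : (PowerSeries.X : Ah) ^ k ∣ algebraMap B Ah (algebraMap R[X] B f) := by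
      refine ⟨algebraMap B Ah b' + z, ?_⟩
      have h3 := congrArg (algebraMap B Ah) hb'
      rw [map_sub, map_mul, map_pow, htX] at h3
      rw [htX] at h
      linear_combination h3 + h
    obtain ⟨g, hg⟩ : X ^ k ∣ f := Polynomial.X_pow_dvd_iff.mpr fun i hi => by
      have h3 := PowerSeries.X_pow_dvd_iff.mp h2 i hi
      rwa [hcc] at h3
    refine ⟨algebraMap R[X] B g - b', ?_⟩
    rw [hg, map_mul, map_pow] at hb'
    linear_combination -hb'
  refine ⟨fun M N _ _ _ _ _ _ _ _ ⟨φ⟩ => ?_, fun M' _ _ _ _ => ?_⟩
  · exact Groth.Agent.ZariskiApprox.nonempty_linearEquiv_of_baseChange (A := B) (Ah := Ah) (t := t)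
      hdense hinter hjac M N φ
  · exact Groth.Agent.ZariskiApprox.exists_projective (A := B) (Ah := Ah) (t := t)
      hdense hinter hjach M' 

end Groth.Agent.S19779
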