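import Groth.Statements.S19797
import Groth.Agent.LS17.BirSeries
import Groth.Agent.CurveCohLib.RegularCurve

set_option autoImplicit false
universe u
open CategoryTheory CategoryTheory.Limits AlgebraicGeometry Opposite
open Curves

namespace Groth.Agent.S19797

attribute [local instance] Groth.Agent.CurveFF.ffAlg

/-- Let X be a smooth projective curve of genus g over an algebraically closed field k of characteristic
0 (integral, proper over k, of dimension one, all local rings regular) and ψ : X ⟶ P^r_k a
k-morphism which is non-degenerate (every nonzero global section of O(1) pulls back to a nonzero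
section of ψ^*O(1)), with deg ψ^*O(1) = 2r + c for some 0 ≤ c ≤ r - 2; equivalently ψ is the map of
a base-point-free linear system of dimension r and degree 2r + c. Suppose ψ is birational onto its
image: ψ = φ ≫ j with j : Y ⟶ P^r_k an integral closed subscheme and φ : X ⟶ Y restricting to an
isomorphism over a nonempty open subset of Y. Then g ≤ r + 2c + 1. (The published statement adds
that in the case g = r + 2c + 1 the curve is trigonal when c is positive and the system is canonical
when c = 0; that refinement is not stated here.) -/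
theorem result (k : Type u) [Field k] [IsAlgClosed k] [CharZero k] (X : Scheme.{u}) [X.Over (Spec (CommRingCat.of k))]
    [IsIntegral X] [IsProper (X ↘ (Spec (CommRingCat.of k)))] (hdim : topologicalKrullDim X = 1)
    (hreg : ∀ x : X, IsRegularLocalRing (X.presheaf.stalk x))
    (r c : ℕ) (hc : c + 2 ≤ r)
    (Y : Scheme.{u}) [IsIntegral Y] (j : Y ⟶ CohB1.ProjSpace r k) [IsClosedImmersion j] (φ : X ⟶ Y)
    (hφ : φ ≫ j ≫ CohB1.ProjSpace.toSpec r k = X ↘ Spec (CommRingCat.of k))
    (hbir : ∃ U : Y.Opens, (U : Set Y).Nonempty ∧ IsIso (φ ∣_ U))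
    (hnd : ∀ s : LinSer.Sect (CohB1.ProjSpace r k) (Twist.twistProjSpace r k 1), s ≠ 0 → OmegaSh.pullSect (φ ≫ j) (Twist.twistProjSpace r k 1) ⊤ s ≠ 0)
    (hdeg : Curv2.deg k X ((Scheme.Modules.pullback (φ ≫ j)).obj (Twist.twistProjSpace r k 1)) 1 = 2 * r + c) :
    Curv2.genus k X ≤ (r : ℤ) + 2 * c + 1 := by
  haveI : Smooth (X ↘ Spec (CommRingCat.of k)) :=
    CurveCohLib.RegularCurve.smooth_of_regular k fun x _ => hreg x
  have hr' : (φ ≫ j) ≫ CohB1.ProjSpace.toSpec r k = X ↘ Spec (CommRingCat.of k) := by
    rw [Category.assoc, hφ]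
  obtain ⟨D, f, hD, hli, hbpf, hrat⟩ := LS17.exists_series_of_map k (φ ≫ j) hr' hdim hnd
  have hG := LS17.seriesGen_of_birational k j φ hφ hbir f hrat
  have hK := CurveFF.isFunctionField k X hdim
  haveI : CharZero k := inferInstance
  obtain ⟨C, hC⟩ := FFLib.exists_canonical hK
  have hdimV := (finrank_span_eq_card hli).trans (Fintype.card_fin _)
  rw [hD.deg k hdim] at hdeg
  rw [← CurveFF.genus_eq k hdim]
  by_contra hg
  have h3 := LS17.three_mul_le_ell hK hbpf hdimV hG (by omega)
  have hRR := (LS17.rr_C hK hC (D + D)).1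
  rw [FFLib.Divisor.deg_add] at hRR
  rcases Nat.eq_zero_or_pos (FunFld.ell (C - (D + D))) with h0 | h0
  · omega
  · have h4 := LS17.hopf hK (D := D + D) (E := C - (D + D)) (by omega) h0
    rw [add_sub_cancel, FFLib.ell_canonical hK hC] at h4
    omega

end Groth.Agent.S19797
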