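import Mathlib
import Groth.Statements.S19799
import Groth.Agent.CAlgSmall.FiniteReduced

set_option autoImplicit false
universe u v w
open scoped TensorProduct
open CAlg

namespace Groth.Agent.S19799

/-- Let k be an algebraically closed field and A, B commutative k-algebras, each finite-dimensional as a
k-vector space. Then reduction commutes with tensor products: the kernel of the canonical surjection
A ⊗_k B ⟶ (A/nilradical A) ⊗_k (B/nilradical B) equals the nilradical of A ⊗_k B, so that this
surjection induces an isomorphism (A ⊗_k B)_red ≅ A_red ⊗_k B_red and in particular A_red ⊗_k B_red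
is reduced. -/
theorem result (k : Type u) [Field k]
    [IsAlgClosed k] (A : Type v) [CommRing A] [Algebra k A] [Module.Finite k A]
    (B : Type w) [CommRing B] [Algebra k B] [Module.Finite k B] :
    RingHom.ker (Algebra.TensorProduct.map (Ideal.Quotient.mkₐ k (nilradical A))
      (Ideal.Quotient.mkₐ k (nilradical B))).toRingHom = nilradical (A ⊗[k] B) := by
  classical
  apply le_antisymm
  · have h := Algebra.TensorProduct.map_ker (R := k) (S := k)
      (Ideal.Quotient.mkₐ k (nilradical A)) (Ideal.Quotient.mkₐ k (nilradical B))
      Ideal.Quotient.mk_surjective Ideal.Quotient.mk_surjective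
    change RingHom.ker (Algebra.TensorProduct.map (Ideal.Quotient.mkₐ k (nilradical A))
      (Ideal.Quotient.mkₐ k (nilradical B))) ≤ _
    rw [h, sup_le_iff, Ideal.map_le_iff_le_comap, Ideal.map_le_iff_le_comap]
    constructor <;> intro x hx <;>
    · have hn : IsNilpotent x := by
        simpa [RingHom.mem_ker, Ideal.Quotient.eq_zero_iff_mem, mem_nilradical] using hx
      exact hn.map _
  · intro x hx
    have : IsReduced (A ⧸ nilradical A) :=
      (Ideal.isRadical_iff_quotient_reduced _).mp (Ideal.radical_isRadical _)
    have : IsReduced (B ⧸ nilradical B) :=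
      (Ideal.isRadical_iff_quotient_reduced _).mp (Ideal.radical_isRadical _)
    have := CAlgSmall.isReduced_tensorProduct k (A ⧸ nilradical A) (B ⧸ nilradical B)
    rw [RingHom.mem_ker]
    exact IsReduced.eq_zero _ ((mem_nilradical.mp hx).map _)

end Groth.Agent.S19799
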