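import Groth.Statements.S19806
import Groth.Agent.Growth22.Sect
-- import your own Groth.Agent.* helpers here

set_option autoImplicit false
universe u
open CategoryTheory CategoryTheory.Limits AlgebraicGeometry
open scoped ENNReal
open Variety

namespace Groth.Agent.S19806

set_option linter.style.haveILetI false
set_option linter.unusedSectionVars false
set_option maxHeartbeats 1000000
set_option backward.isDefEq.respectTransparency false
set_option backward.isDefEq.respectTransparency.types false
open scoped Groth.Agent.H23.PicMul in
/-- Let X be a projective variety of dimension d over a field k (a geometrically integral scheme, proper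
over k, admitting an ample invertible module, with dim X = d) and L an invertible O_X-module; write
vol(L) for the upper limit of dim_k H^0(X, L^m) / m^d as m → ∞, taken in the extended non-negative
reals (the volume of L up to the factor d!). Call L big when the lower limit of dim_k H^0(X, L^m) /
m^d is positive. Then L is big if and only if vol(L) is positive. -/
theorem result (k : Type u) [Field k] (X : Scheme.{u})
    [X.Over (Spec (CommRingCat.of k))] [IsIntegral X] [GeometricallyIntegral (X ↘ Spec (CommRingCat.of k))]
    [IsProper (X ↘ Spec (CommRingCat.of k))]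
    (hproj : ∃ A : X.Modules, CohB1.IsAmple A) (d : ℕ) (hd : topologicalKrullDim X = d)
    (L : X.Modules) (hL : PicF.IsInvertible L) :
    0 < Filter.liminf (fun m : ℕ => (Module.finrank k (Coh.HH X (CohB1.tensorPow L m) 0) : ℝ≥0∞) /
        (m : ℝ≥0∞) ^ d) Filter.atTop ↔
      0 < Filter.limsup (fun m : ℕ => (Module.finrank k (Coh.HH X (CohB1.tensorPow L m) 0) : ℝ≥0∞) /
        (m : ℝ≥0∞) ^ d) Filter.atTop := by
  have hO := Growth22.isCoh_structure k (X := X)
  have hu := Growth22.seq_growth k hL hO (Growth22.small_top hd.le (Coh.structureModule X)) 0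
  obtain ⟨C, hC⟩ := Growth22.nrm_abs_le (K := (1 : ℝ)) hu
  obtain ⟨h1, h2⟩ := Growth22.ennreal_limsup_eq hu
  simp only [Growth22.seq_structure] at h1 h2
  refine Iff.trans (Iff.of_eq (congrArg (0 < ·) h2)) (Iff.trans ?_ (Iff.of_eq (congrArg (0 < ·) h1)).symm)
  rw [ENNReal.ofReal_pos, ENNReal.ofReal_pos]
  exact ⟨fun h => h.trans_le (Filter.liminf_le_limsup (Growth22.bdd_of_abs hC).1 (Growth22.bdd_of_abs hC).2),
    fun h => Growth22.liminf_pos_of_limsup_pos k hL hproj hd h⟩

end Groth.Agent.S19806
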