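import Groth.Statements.S19807
import Groth.Agent.Growth22.Sect
-- import your own Groth.Agent.* helpers here

set_option autoImplicit false
universe u
open CategoryTheory CategoryTheory.Limits AlgebraicGeometry
open scoped ENNReal
open Variety

namespace Groth.Agent.S19807

set_option linter.style.haveILetI false
set_option linter.unusedSectionVars false
set_option maxHeartbeats 1000000
set_option backward.isDefEq.respectTransparency false
set_option backward.isDefEq.respectTransparency.types false
open scoped Groth.Agent.H23.PicMul in
/-- Let X be a projective variety of dimension d over a field k (a geometrically integral scheme, proper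
over k, admitting an ample invertible module, with dim X = d) and L an invertible O_X-module; write
vol(L) for the upper limit of dim_k H^0(X, L^m) / m^d as m → ∞, taken in the extended non-negative
reals (the volume of L up to the factor d!). If E is an invertible O_X-module admitting a nonzero
global section (an effective Cartier divisor), then vol(L) ≤ vol(L ⊗ E): the volume increases in
effective directions. -/
theorem result (k : Type u) [Field k] (X : Scheme.{u})
    [X.Over (Spec (CommRingCat.of k))] [IsIntegral X] [GeometricallyIntegral (X ↘ Spec (CommRingCat.of k))]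
    [IsProper (X ↘ Spec (CommRingCat.of k))]
    (hproj : ∃ A : X.Modules, CohB1.IsAmple A) (d : ℕ) (hd : topologicalKrullDim X = d)
    (L : X.Modules) (hL : PicF.IsInvertible L)
    (E : X.Modules) (hE : PicF.IsInvertible E) (s : Coh.structureModule X ⟶ E) (hs : s ≠ 0) :
    Filter.limsup (fun m : ℕ => (Module.finrank k (Coh.HH X (CohB1.tensorPow L m) 0) : ℝ≥0∞) /
        (m : ℝ≥0∞) ^ d) Filter.atTop ≤
      Filter.limsup (fun m : ℕ => (Module.finrank k (Coh.HH X (CohB1.tensorPow (CohB1.tensorMod L E) m) 0) : ℝ≥0∞) /
        (m : ℝ≥0∞) ^ d) Filter.atTop := by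
  refine Filter.limsup_le_limsup (Filter.Eventually.of_forall fun m => ?_)
  refine ENNReal.div_le_div_right ?_ _
  obtain ⟨t, ht⟩ := Growth22.tensorPow_section_ne_zero hE hs m
  have ht0 : t ≠ 0 := fun h0 => by
    subst h0
    haveI := ht
    have h1 : 𝟙 (Coh.structureModule X) = (0 : _ ⟶ _) :=
      (cancel_mono (0 : Coh.structureModule X ⟶ CohB1.tensorPow E m)).1 (by simp)
    exact one_ne_zero (α := Γ(X, ⊤))
      (congrArg (fun φ : Coh.structureModule X ⟶ Coh.structureModule X => φ.app ⊤ (1 : Γ(X, ⊤))) h1)
  exact_mod_cast Growth22.h_zero_le_tensor k (InvX.isInvertible_tensorPow hE m) ht0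
    (InvX.isInvertible_tensorPow hL m) (B := CohB1.tensorPow (CohB1.tensorMod L E) m)
    (by simp only [H23.PicMul.cl_tensor, H23.PicMul.cl_tensorPow, mul_pow]; exact mul_comm _ _)

end Groth.Agent.S19807
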