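import Groth.Statements.S19832
import Groth.Agent.QGorRing.FibreEquidim
import Groth.Agent.QGorRing.InfCritFibre

set_option autoImplicit false
universe u
open QGor

namespace Groth.Agent.S19832

open CategoryTheory AlgebraicGeometry in
/-- Take f : Y → T flat and locally of finite type with Y and T locally Noetherian, an integer k ≥ 2, a
point y of Y at which the fibre through y satisfies Serre's condition S_k, and an open subset Y° of
Y not containing y. Suppose the local codimension at y of Y_{f(y)} ∖ Y° in the fibre is at least c: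
at every point z ∉ Y° of the fibre through y which specializes to y, the local ring of the fibre has
dimension ≥ c. Then y has an open neighbourhood U such that U → T is an S_k-morphism (flat, locally
of finite type, all fibres S_k at all points) of pure relative dimension (every irreducible
component of every fibre of U → T has the same dimension e), and at every point z ∈ U with z ∉ Y°
the local ring at z of the fibre of f through z has dimension ≥ c; that is, codim(U_t ∖ Y°, U_t) ≥ c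
for every t. -/
theorem result
    {Y T : Scheme.{u}} (f : Y ⟶ T) [IsLocallyNoetherian Y] [IsLocallyNoetherian T]
    [Flat f] [LocallyOfFiniteType f] (k : ℕ) (hk : 2 ≤ k) (y : Y)
    (hy : RelCanon.SkAt k (Coh.structureModule (f.fiber (f y))) (f.asFiber y))
    (Yo : Y.Opens) (hyo : y ∉ Yo) (c : WithBot ℕ∞)
    (hc : ∀ z : Y, f z = f y → z ∉ Yo → z ⤳ y →
      c ≤ ringKrullDim ((f.fiber (f z)).presheaf.stalk (f.asFiber z))) :
    ∃ U : Y.Opens, y ∈ U ∧ RelCanon.IsSkMor (U.ι ≫ f) k ∧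
      (∃ e : ℕ, Cyc.HasRelDim (U.ι ≫ f) e) ∧
      ∀ z : Y, z ∈ U → z ∉ Yo → c ≤ ringKrullDim ((f.fiber (f z)).presheaf.stalk (f.asFiber z)) := by
  haveI : LocallyOfFinitePresentation f := LocallyOfFinitePresentation.iff_locallyOfFiniteType.2 ‹_›
  have hS : LocCoh.HasSk k ((f.fiber (f y)).presheaf.stalk (f.asFiber y))
      ((f.fiber (f y)).presheaf.stalk (f.asFiber y)) :=
    QGorRing.hasSk_congr (KFlatLib.stalkUnitEquiv (f.asFiber y)).symm k hy
  obtain ⟨e, he⟩ : ∃ e, e = FibDim.rd f y + DimFormula.fb f y := ⟨_, rfl⟩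
  obtain ⟨U₁, hy₁, hU₁⟩ := QGorRing.exists_open_rd_eq f (k := k) (by omega) hS (e := e) fun z hz hfz hm =>
    he ▸ QGorRing.rd_fibMax_eq f y (QGorRing.hasSk_mono hk hS) hz hfz hm
  have hdim : ∀ z ∈ U₁, FibDim.rd f z + DimFormula.fb f z = e := fun z hz => by
    obtain ⟨w, hw, -, hm, -, hrd⟩ := DimFormula.exists_fibMax_top f z
    rw [← hrd]
    exact (hU₁ w (hw.mem_open U₁.isOpen hz)).2 hm
  -- the codimension of the complement
  obtain ⟨U₂, hy₂, hU₂⟩ : ∃ U₂ : Y.Opens, y ∈ U₂ ∧ ∀ z ∈ U₂, z ∈ U₁ → z ∉ Yo →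
      c ≤ ((DimFormula.fb f z : ℕ) : WithBot ℕ∞) := by
    by_cases hc0 : c ≤ (0 : ℕ)
    · exact ⟨⊤, trivial, fun z _ _ _ => hc0.trans (by exact_mod_cast Nat.zero_le _)⟩
    · obtain ⟨c', rfl⟩ : ∃ c' : ℕ, c = (c' : WithBot ℕ∞) := by
        have h1 := hc y rfl hyo specializes_rfl
        rw [DimFormula.ringKrullDim_stalk_fibre] at h1
        induction c using WithBot.recBotCoe with
        | bot => exact absurd bot_le hc0
        | coe a =>
          induction a using ENat.recTopCoe with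
          | top => exact absurd h1 (not_le.2 (WithBot.coe_lt_coe.2 (ENat.natCast_lt_top _)))
          | coe a => exact ⟨a, rfl⟩
      have hcy : ∀ z, f z = f y → z ∉ Yo → z ⤳ y → c' ≤ DimFormula.fb f z := fun z h1 h2 h3 => by
        have := hc z h1 h2 h3
        rw [DimFormula.ringKrullDim_stalk_fibre] at this
        exact_mod_cast this
      obtain ⟨W, hyW, hW⟩ : ∃ W : Y.Opens, y ∈ W ∧ ∀ z ∈ W, z ∉ Yo → f z = f y → FibDim.rd f z ≤ e - c' := by
        obtain ⟨W, hyW, hW⟩ := QGorRing.exists_open_generization f Yo.isOpen.isClosed_compl y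
        refine ⟨W, hyW, fun z hzW hzo hz => ?_⟩
        obtain ⟨w, hwo, hw, hwz, hwy⟩ := hW z hzW hzo hz
        have h1 := FibDim.rd_le_of_specializes f hwz (hw.trans hz.symm)
        have h2 := hdim w (hwy.mem_open U₁.isOpen hy₁)
        have h3 := hcy w hw hwo hwy
        omega
      have hn : c' ≤ e := by
        have := hcy y rfl hyo specializes_rfl
        omega
      obtain ⟨U, hUo, hyU, -, hU⟩ := FibDim.exists_open_dim_le f W.isOpen Yo.isOpen.isClosed_compl hyW hyo
        (e - c') (by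
          rw [FibDim.dim_inter_eq_iSup f _ W.isOpen Yo.isOpen.isClosed_compl]
          refine iSup_le fun z => ?_
          exact WithBot.coe_le_coe.2 (Nat.cast_le.2 (hW z.1 z.2.1.1 z.2.1.2 z.2.2)))
      refine ⟨⟨U, hUo⟩, hyU, fun z hzU hz₁ hzo => ?_⟩
      have h1 := hU (f z)
      rw [FibDim.dim_inter_eq_iSup f _ hUo Yo.isOpen.isClosed_compl] at h1
      have h2 : FibDim.rd f z ≤ e - c' :=
        Nat.cast_le.1 (WithBot.coe_le_coe.1 ((iSup_le_iff.1 h1) ⟨z, ⟨hzU, hzo⟩, rfl⟩))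
      have := hdim z hz₁
      exact_mod_cast (show c' ≤ DimFormula.fb f z by omega)
  refine ⟨U₁ ⊓ U₂, ⟨hy₁, hy₂⟩, ⟨inferInstance, inferInstance, fun u => ?_⟩, ⟨e, fun t T hT => ?_⟩, fun z hz hzo => ?_⟩
  · obtain ⟨E⟩ := QGorRing.exists_fibre_stalk_equiv_opens f (U₁ ⊓ U₂) u
    refine QGorRing.hasSk_congr (KFlatLib.stalkUnitEquiv _) k ?_
    haveI := DimFormula.isLocallyNoetherian_fiber f (f ((U₁ ⊓ U₂).ι u))
    haveI := DimFormula.isLocallyNoetherian_fiber ((U₁ ⊓ U₂).ι ≫ f) (((U₁ ⊓ U₂).ι ≫ f) u)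
    exact FlatLoc6.hasSk_of_ringEquiv E k (hU₁ _ u.2.1).1
  · have hmem : topologicalKrullDim T ∈ (fun Z : Set ↥(((U₁ ⊓ U₂).ι ≫ f).fiber t) => topologicalKrullDim ↥Z) ''
        irreducibleComponents ↥(((U₁ ⊓ U₂).ι ≫ f).fiber t) := ⟨T, hT, rfl⟩
    rw [FibDim.fiber_component_dims] at hmem
    obtain ⟨w, ⟨-, hm⟩, hw⟩ := hmem
    rw [← hw]
    dsimp only
    rw [FibDim.rd_opens, (hU₁ ((U₁ ⊓ U₂).ι w) w.2.1).2 ((FibDim.fibMax_opens_iff f _ w).1 hm)]
    rfl
  · rw [DimFormula.ringKrullDim_stalk_fibre]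
    exact hU₂ z hz.2 hz.1 hzo

end Groth.Agent.S19832
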