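import Groth.Statements.S1984
import Groth.Agent.HensEt88.TotallyRamified

set_option autoImplicit false
set_option linter.style.haveILetI false
universe u
open EtAlg

namespace Groth.Agent.S1984

open TensorProduct IsLocalRing in
/-- Let A -> B be a weakly unramified extension of discrete valuation rings with fraction fields K ⊂ L,
and K₁/K a finite separable extension which is totally ramified with respect to A. Then L ⊗_K K₁ is
a field and K₁ is a weak solution for A -> B (the valuation ring of L ⊗_K K₁ over B is weakly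
unramified over that of K₁ over A). -/
theorem result (A B K L : Type u) [CommRing A] [IsDomain A] [IsDiscreteValuationRing A]
    [CommRing B] [IsDomain B] [IsDiscreteValuationRing B] [Algebra A B] [IsLocalHom (algebraMap A B)]
    (hinj : Function.Injective (algebraMap A B))
    [Field K] [Field L] [Algebra A K] [IsFractionRing A K] [Algebra B L] [IsFractionRing B L]
    [Algebra K L] [Algebra A L] [IsScalarTower A K L] [IsScalarTower A B L]
    (hw : EtRam.IsWeaklyUnramified A B) (K₁ : Type u) [Field K₁] [Algebra K K₁] [FiniteDimensional K K₁]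
    [Algebra.IsSeparable K K₁] (ht : EtRam.IsTotallyRamified A ((algebraMap K K₁).comp (algebraMap A K))) :
    IsField (L ⊗[K] K₁) ∧ EtRam.IsWeakSolution B K L K₁ := by
  classical
  letI : Algebra A K₁ := ((algebraMap K K₁).comp (algebraMap A K)).toAlgebra
  haveI : IsScalarTower A K K₁ := .of_algebraMap_eq' rfl
  let A' := integralClosure A K₁
  obtain ⟨ϖ, hϖ0, hsplit, hdvd, hpow⟩ := HensEt88.integralClosure_of_totallyRamified (K := K) ht
  haveI : Module.Finite A A' := IsIntegralClosure.finite A K K₁ A'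
  let B' := B ⊗[A] A'
  haveI : IsNoetherianRing B' := IsNoetherianRing.of_finite B B'
  haveI : Algebra.IsIntegral B B' := Algebra.IsIntegral.of_finite B B'
  let r : B' := (1 : B) ⊗ₜ[A] ϖ
  have hϖint : (ϖ : K₁) ≠ 0 := fun h => hϖ0 (Subtype.ext h)
  obtain ⟨πA, hπA⟩ := IsDiscreteValuationRing.exists_irreducible A
  have hmB : ∀ b ∈ maximalIdeal B, b ⊗ₜ[A] (1 : A') ∈ Ideal.span {r} := by
    intro b hb
    rw [← show (maximalIdeal A).map (algebraMap A B) = maximalIdeal B from hw, hπA.maximalIdeal_eq, Ideal.map_span,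
      Set.image_singleton, Ideal.mem_span_singleton'] at hb
    obtain ⟨c, rfl⟩ := hb
    obtain ⟨y, hy⟩ := hdvd πA hπA.not_isUnit
    rw [Ideal.mem_span_singleton']
    refine ⟨c ⊗ₜ[A] y, ?_⟩
    show (c ⊗ₜ[A] y) * ((1 : B) ⊗ₜ[A] ϖ) = (c * algebraMap A B πA) ⊗ₜ[A] (1 : A')
    rw [Algebra.TensorProduct.tmul_mul_tmul, mul_one, mul_comm y ϖ, ← hy, Algebra.algebraMap_eq_smul_one,
      Algebra.algebraMap_eq_smul_one, mul_smul_comm, mul_one, TensorProduct.smul_tmul]
  have hsplitB : ∀ x : B', ∃ (b : B) (y : B'), x = b ⊗ₜ[A] (1 : A') + r * y := by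
    intro x
    induction x using TensorProduct.induction_on with
    | zero => exact ⟨0, 0, by simp⟩
    | add x x' hx hx' =>
      obtain ⟨b, y, rfl⟩ := hx
      obtain ⟨b', y', rfl⟩ := hx'
      exact ⟨b + b', y + y', by rw [TensorProduct.add_tmul]; ring⟩
    | tmul b x =>
      obtain ⟨a, y, rfl⟩ := hsplit x
      refine ⟨a • b, b ⊗ₜ[A] y, ?_⟩
      show b ⊗ₜ[A] (algebraMap A A' a + ϖ * y) = _ + ((1 : B) ⊗ₜ[A] ϖ) * (b ⊗ₜ[A] y)
      rw [Algebra.TensorProduct.tmul_mul_tmul, one_mul, TensorProduct.tmul_add, Algebra.algebraMap_eq_smul_one,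
        TensorProduct.smul_tmul]
  -- maps to fields
  have hπ0 : algebraMap A B πA ≠ 0 := (map_ne_zero_iff _ hinj).mpr hπA.ne_zero
  have fields : ∀ (F : Type u) [Field F] [Algebra K F] (gL : L →ₐ[K] F) (gK : K₁ →ₐ[K] F),
      ∃ ψ : B' →+* F, (∀ b, ψ (b ⊗ₜ[A] (1 : A')) = gL (algebraMap B L b)) ∧
        (∀ x : A', ψ ((1 : B) ⊗ₜ[A] x) = gK (x : K₁)) ∧ (∀ b x, ψ (b ⊗ₜ[A] x) = gL (algebraMap B L b) * gK (x : K₁)) := by
    intro F _ _ gL gK
    letI : Algebra A F := ((algebraMap K F).comp (algebraMap A K)).toAlgebra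
    let f₁ : B →ₐ[A] F := AlgHom.mk (gL.toRingHom.comp (algebraMap B L)) fun a => by
      show gL (algebraMap B L (algebraMap A B a)) = algebraMap K F (algebraMap A K a)
      rw [← IsScalarTower.algebraMap_apply A B L, IsScalarTower.algebraMap_apply A K L, AlgHom.commutes]
    let f₂ : A' →ₐ[A] F := AlgHom.mk (gK.toRingHom.comp A'.val.toRingHom) fun a => by
      show gK (algebraMap A K₁ a) = algebraMap K F (algebraMap A K a)
      rw [IsScalarTower.algebraMap_apply A K K₁, AlgHom.commutes]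
    refine ⟨(Algebra.TensorProduct.lift f₁ f₂ fun _ _ => Commute.all _ _).toRingHom, fun b => ?_, fun x => ?_, fun b x => ?_⟩
    · show Algebra.TensorProduct.lift f₁ f₂ _ (b ⊗ₜ[A] (1 : A')) = _
      rw [Algebra.TensorProduct.lift_tmul, map_one, mul_one]; rfl
    · show Algebra.TensorProduct.lift f₁ f₂ _ ((1 : B) ⊗ₜ[A] x) = _
      rw [Algebra.TensorProduct.lift_tmul, map_one, one_mul]; rfl
    · show Algebra.TensorProduct.lift f₁ f₂ _ (b ⊗ₜ[A] x) = _
      rw [Algebra.TensorProduct.lift_tmul]; rfl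
  -- a first field
  haveI : Nontrivial (L ⊗[K] K₁) := inferInstance
  obtain ⟨mT, hmT⟩ := Ideal.exists_maximal (L ⊗[K] K₁)
  letI : Field ((L ⊗[K] K₁) ⧸ mT) := Ideal.Quotient.field mT
  let gL₀ : L →ₐ[K] (L ⊗[K] K₁) ⧸ mT := (Ideal.Quotient.mkₐ K mT).comp Algebra.TensorProduct.includeLeft
  let gK₀ : K₁ →ₐ[K] (L ⊗[K] K₁) ⧸ mT := (Ideal.Quotient.mkₐ K mT).comp Algebra.TensorProduct.includeRight
  obtain ⟨ψ₀, hψB, hψA, hψ₀⟩ := fields _ gL₀ gK₀
  haveI : Nontrivial B' := ψ₀.domain_nontrivial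
  -- `B'` is local
  have hBmax : ∀ P : Ideal B', P.IsMaximal → P = Ideal.span {r} := by
    intro P hP
    have hPB : P.comap (algebraMap B B') = maximalIdeal B :=
      IsLocalRing.eq_maximalIdeal (Ideal.isMaximal_comap_of_isIntegral_of_isMaximal (R := B) P)
    have hrP : r ∈ P := by
      obtain ⟨n, y, hy⟩ := hpow πA hπA.ne_zero
      refine hP.isPrime.mem_of_pow_mem n ?_
      have h1 : algebraMap B B' (algebraMap A B πA) ∈ P := Ideal.mem_comap.mp (hPB.ge (map_nonunit _ _ hπA.not_isUnit))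
      rw [show r ^ n = algebraMap B B' (algebraMap A B πA) * ((1 : B) ⊗ₜ[A] y) from ?_]
      · exact Ideal.mul_mem_right _ _ h1
      show ((1 : B) ⊗ₜ[A] ϖ) ^ n = (algebraMap A B πA ⊗ₜ[A] (1 : A')) * ((1 : B) ⊗ₜ[A] y)
      rw [Algebra.TensorProduct.tmul_pow, one_pow, hy, Algebra.TensorProduct.tmul_mul_tmul, mul_one, one_mul,
        Algebra.algebraMap_eq_smul_one, Algebra.algebraMap_eq_smul_one, smul_mul_assoc, one_mul, TensorProduct.smul_tmul]
    refine le_antisymm (fun x hx => ?_) ((Ideal.span_singleton_le_iff_mem _).mpr hrP)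
    obtain ⟨b, y, rfl⟩ := hsplitB x
    have hb : b ∈ maximalIdeal B := hPB ▸ Ideal.mem_comap.mpr ((Ideal.add_mem_iff_left P (Ideal.mul_mem_right _ _ hrP)).1 hx)
    exact add_mem (hmB b hb) (Ideal.mul_mem_right _ _ (Ideal.mem_span_singleton_self r))
  obtain ⟨P₀, hP₀⟩ := Ideal.exists_maximal B'
  haveI : IsLocalRing B' :=
    IsLocalRing.of_unique_max_ideal ⟨P₀, hP₀, fun M hM => (hBmax M hM).trans (hBmax P₀ hP₀).symm⟩
  have hmax : maximalIdeal B' = Ideal.span {r} := hBmax _ (maximalIdeal.isMaximal _)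
  refine ⟨?_, ?_⟩
  · have h0 : ψ₀ r ≠ 0 := by
      rw [hψA]; exact (map_ne_zero gK₀).mpr hϖint
    have hinj₀ := HensEt88.injective_of_map_ne_zero hmax ψ₀ h0
    let Φ : B' →ₐ[A] L ⊗[K] K₁ := Algebra.TensorProduct.lift
      (((Algebra.TensorProduct.includeLeft : L →ₐ[K] L ⊗[K] K₁).restrictScalars A).comp (IsScalarTower.toAlgHom A B L))
      (((Algebra.TensorProduct.includeRight : K₁ →ₐ[K] L ⊗[K] K₁).restrictScalars A).comp A'.val)
      fun _ _ => Commute.all _ _
    have hΦ : ∀ x, Ideal.Quotient.mk mT (Φ x) = ψ₀ x := fun x => by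
      induction x using TensorProduct.induction_on with
      | zero => simp
      | add a b ha hb => simp only [map_add, ha, hb]
      | tmul b x => rw [Algebra.TensorProduct.lift_tmul, map_mul, hψ₀]; rfl
    have hnum : ∀ z : L ⊗[K] K₁, ∃ (b : B) (x : B'), b ≠ 0 ∧ (algebraMap B L b ⊗ₜ[K] (1 : K₁)) * z = Φ x := by
      intro z
      induction z using TensorProduct.induction_on with
      | zero => exact ⟨1, 0, one_ne_zero, by simp⟩
      | add z z' hz hz' =>
        obtain ⟨b, x, hb, h1⟩ := hz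
        obtain ⟨b', x', hb', h2⟩ := hz'
        refine ⟨b * b', (b' ⊗ₜ[A] (1 : A')) * x + (b ⊗ₜ[A] (1 : A')) * x', mul_ne_zero hb hb', ?_⟩
        have e : ∀ c : B, Φ (c ⊗ₜ[A] (1 : A')) = algebraMap B L c ⊗ₜ[K] (1 : K₁) := fun c => by
          rw [Algebra.TensorProduct.lift_tmul, map_one, mul_one]; rfl
        simp only [map_add, map_mul, e, ← h1, ← h2]
        rw [show (algebraMap B L b * algebraMap B L b') ⊗ₜ[K] (1 : K₁) =
            (algebraMap B L b ⊗ₜ[K] (1 : K₁)) * (algebraMap B L b' ⊗ₜ[K] (1 : K₁)) by simp]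
        ring
      | tmul l k =>
        obtain ⟨p, q, hq, rfl⟩ := IsFractionRing.div_surjective (A := B) l
        haveI : Algebra.IsAlgebraic A K := IsLocalization.isAlgebraic K (nonZeroDivisors A)
        haveI : Algebra.IsAlgebraic A K₁ := Algebra.IsAlgebraic.trans A K K₁
        obtain ⟨c, hc, hck⟩ := Algebra.IsAlgebraic.exists_integral_multiples A ({k} : Finset K₁)
        refine ⟨q * algebraMap A B c, p ⊗ₜ[A] ⟨c • k, hck k (Finset.mem_singleton_self k)⟩,
          mul_ne_zero (nonZeroDivisors.ne_zero hq) ((map_ne_zero_iff _ hinj).mpr hc), ?_⟩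
        rw [Algebra.TensorProduct.lift_tmul, Algebra.TensorProduct.tmul_mul_tmul, one_mul]
        show _ = (algebraMap B L p ⊗ₜ[K] (1 : K₁)) * ((1 : L) ⊗ₜ[K] (c • k))
        have hq0 : algebraMap B L q ≠ 0 := IsFractionRing.to_map_ne_zero_of_mem_nonZeroDivisors hq
        rw [Algebra.TensorProduct.tmul_mul_tmul, mul_one, one_mul, map_mul, ← IsScalarTower.algebraMap_apply A B L,
          ← IsScalarTower.algebraMap_smul K c k, ← TensorProduct.smul_tmul, Algebra.smul_def,
          ← IsScalarTower.algebraMap_apply A K L]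
        congr 1
        field_simp
    have hfield : Function.Injective (Ideal.Quotient.mk mT) := by
      refine (injective_iff_map_eq_zero _).mpr fun z hz => ?_
      obtain ⟨b, x, hb, hx⟩ := hnum z
      have h1 : x = 0 := hinj₀ (by rw [← hΦ, ← hx, map_mul, hz, mul_zero, map_zero])
      rw [h1, map_zero] at hx
      have hu : IsUnit (algebraMap B L b ⊗ₜ[K] (1 : K₁)) :=
        (isUnit_iff_ne_zero.mpr ((map_ne_zero_iff _ (IsFractionRing.injective B L)).mpr hb)).map
          (Algebra.TensorProduct.includeLeftRingHom : L →+* L ⊗[K] K₁)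
      exact hu.mul_right_eq_zero.mp hx
    exact MulEquiv.isField (Field.toIsField ((L ⊗[K] K₁) ⧸ mT))
      (RingEquiv.ofBijective (Ideal.Quotient.mk mT) ⟨hfield, Ideal.Quotient.mk_surjective⟩).toMulEquiv
  · intro M _ _ _ _ _ _ hgen W hW
    letI : Algebra B M := ((algebraMap L M).comp (algebraMap B L)).toAlgebra
    haveI : IsScalarTower B L M := .of_algebraMap_eq' rfl
    let U := W.comap (algebraMap K₁ M)
    obtain ⟨ψ, hψ1, hψ2, hψ3⟩ := fields M (IsScalarTower.toAlgHom K L M) (IsScalarTower.toAlgHom K K₁ M)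
    have hA'W : ∀ x : A', algebraMap K₁ M (x : K₁) ∈ W := fun x => by
      obtain ⟨P, hP, hPx⟩ := x.2
      have hAM : ∀ a : A, algebraMap K₁ M (algebraMap A K₁ a) = algebraMap B M (algebraMap A B a) := fun a => by
        show _ = algebraMap L M (algebraMap B L (algebraMap A B a))
        rw [← IsScalarTower.algebraMap_apply A B L, IsScalarTower.algebraMap_apply A K L,
          IsScalarTower.algebraMap_apply A K K₁, ← IsScalarTower.algebraMap_apply K K₁ M,
          ← IsScalarTower.algebraMap_apply K L M]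
      let gA : A →+* W := ((algebraMap B M).comp (algebraMap A B)).codRestrict W fun a => hW.1 _
      have h1 : IsIntegral W (algebraMap K₁ M (x : K₁)) := ⟨P.map gA, hP.map _, by
        rw [Polynomial.eval₂_map, show (algebraMap W M).comp gA = (algebraMap K₁ M).comp (algebraMap A K₁) from
          RingHom.ext fun a => (hAM a).symm, ← Polynomial.hom_eval₂, hPx, map_zero]⟩
      obtain ⟨v, hv⟩ := IsIntegrallyClosed.isIntegral_iff.mp h1
      exact hv ▸ v.2
    have hψW : ∀ x, ψ x ∈ W := fun x => by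
      induction x using TensorProduct.induction_on with
      | zero => rw [map_zero]; exact zero_mem _
      | add a b ha hb => rw [map_add]; exact add_mem ha hb
      | tmul b x => rw [hψ3]; exact mul_mem (hW.1 b) (hA'W x)
    have hrW : W.valuation (ψ r) < 1 := by
      obtain ⟨n, y, hy⟩ := hpow πA hπA.ne_zero
      have h1 : W.valuation (algebraMap B M (algebraMap A B πA)) < 1 := hW.2 _ (map_nonunit _ _ hπA.not_isUnit)
      have h2 : ψ r ^ n = algebraMap B M (algebraMap A B πA) * ψ ((1 : B) ⊗ₜ[A] y) := by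
        show _ = algebraMap L M (algebraMap B L (algebraMap A B πA)) * _
        rw [hψ2, hψ2, ← map_pow, ← IsScalarTower.algebraMap_apply A B L, IsScalarTower.algebraMap_apply A K L,
          ← IsScalarTower.algebraMap_apply K L M, IsScalarTower.algebraMap_apply K K₁ M,
          ← IsScalarTower.algebraMap_apply A K K₁]
        show algebraMap K₁ M ((ϖ : K₁) ^ n) = algebraMap K₁ M _ * algebraMap K₁ M (y : K₁)
        rw [← map_mul]
        exact congrArg (algebraMap K₁ M) (congrArg Subtype.val hy)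
      refine lt_of_not_ge fun h3 => absurd ?_ (not_lt.mpr (one_le_pow₀ h3 : 1 ≤ W.valuation (ψ r) ^ n))
      rw [← map_pow, h2, map_mul]
      exact mul_lt_one_of_lt_of_le h1 ((W.valuation_le_one_iff _).mpr (hψW _))
    have hloc : IsLocalHom (ψ.codRestrict W hψW) := ⟨fun x hx => by
      by_contra hn
      have h1 : x ∈ Ideal.span {r} := hmax ▸ hn
      obtain ⟨c, rfl⟩ := Ideal.mem_span_singleton'.mp h1
      rw [map_mul] at hx
      exact (W.valuation_lt_one_iff (ψ.codRestrict W hψW r)).mpr hrW (isUnit_of_mul_isUnit_right hx)⟩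
    have hr0 : ψ r ≠ 0 := by rw [hψ2]; exact (map_ne_zero _).mpr hϖint
    have hfrac := HensEt88.exists_frac_of_adjoin (B := B) (L := L) ψ (fun b => ⟨b ⊗ₜ[A] (1 : A'), hψ1 b⟩)
      (Set.range fun x : A' => algebraMap K₁ M (x : K₁)) (by rintro _ ⟨x, rfl⟩; exact ⟨_, hψ2 x⟩) (by
        refine top_le_iff.mp (hgen ▸ Algebra.adjoin_le ?_)
        rintro _ ⟨k, rfl⟩
        haveI : Algebra.IsAlgebraic A K := IsLocalization.isAlgebraic K (nonZeroDivisors A)
        haveI : Algebra.IsAlgebraic A K₁ := Algebra.IsAlgebraic.trans A K K₁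
        obtain ⟨c, hc, hck⟩ := Algebra.IsAlgebraic.exists_integral_multiples A ({k} : Finset K₁)
        have hcK : algebraMap A K c ≠ 0 := (map_ne_zero_iff _ (IsFractionRing.injective A K)).mpr hc
        have h1 : algebraMap K₁ M k = algebraMap L M (algebraMap K L (algebraMap A K c))⁻¹ *
            algebraMap K₁ M (c • k) := by
          rw [map_inv₀, ← IsScalarTower.algebraMap_apply K L M, IsScalarTower.algebraMap_apply K K₁ M, Algebra.smul_def,
            map_mul, ← IsScalarTower.algebraMap_apply A K K₁, inv_mul_cancel_left₀]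
          rw [IsScalarTower.algebraMap_apply A K K₁]
          exact (map_ne_zero _).mpr ((map_ne_zero _).mpr hcK)
        show algebraMap K₁ M k ∈ (Algebra.adjoin L _ : Subalgebra L M)
        rw [h1]
        exact mul_mem (Subalgebra.algebraMap_mem _ _) (Algebra.subset_adjoin ⟨⟨_, hck k (Finset.mem_singleton_self k)⟩, rfl⟩))
    have hbij := HensEt88.bijective_codRestrict_of_model hmax ψ hr0 W hψW hloc hfrac
    show (maximalIdeal U).map (EtRam.inclOfComap W (algebraMap K₁ M)) = maximalIdeal W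
    refine le_antisymm (((local_hom_TFAE _).out 0 2).mp (EtRam.isLocalHom_inclOfComap W _)) ?_
    rw [← IsLocalRing.map_maximalIdeal_of_surjective _ hbij.2, hmax, Ideal.map_span, Set.image_singleton,
      Ideal.span_singleton_le_iff_mem]
    have hmem : (ϖ : K₁) ∈ U := hA'W ϖ
    have h1 : (⟨(ϖ : K₁), hmem⟩ : U) ∈ maximalIdeal U := by
      intro hu
      have h2 := hu.map (EtRam.inclOfComap W (algebraMap K₁ M))
      refine (W.valuation_lt_one_iff (EtRam.inclOfComap W (algebraMap K₁ M) ⟨(ϖ : K₁), hmem⟩)).mpr ?_ h2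
      show W.valuation (algebraMap K₁ M (ϖ : K₁)) < 1
      rw [show algebraMap K₁ M (ϖ : K₁) = ψ r from (hψ2 ϖ).symm]; exact hrW
    have h3 := Ideal.mem_map_of_mem (EtRam.inclOfComap W (algebraMap K₁ M)) h1
    rwa [show ψ.codRestrict W hψW r = EtRam.inclOfComap W (algebraMap K₁ M) ⟨(ϖ : K₁), hmem⟩ from Subtype.ext (hψ2 ϖ)]

end Groth.Agent.S1984
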