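import Groth.Statements.S1985
import Groth.Agent.NagataLib.IntClosure
import Groth.Agent.GrpSchLib.Reduced
import Groth.Agent.N12Aux.Nagata
import Groth.Agent.CompleteNagata.Complete

set_option linter.style.haveILetI false
set_option linter.unusedSectionVars false

set_option autoImplicit false
universe u
open EtAlg

namespace Groth.Agent.S1985

open scoped TensorProduct

/-- The integral closure of the smaller ring in a finite extension is a finite module. -/
theorem isN2_down (A B K L : Type u) [CommRing A] [IsDomain A] [IsDiscreteValuationRing A]
    [CommRing B] [IsDomain B] [IsDiscreteValuationRing B] [Algebra A B] [IsLocalHom (algebraMap A B)]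
    (hinj : Function.Injective (algebraMap A B))
    [Field K] [Field L] [Algebra A K] [IsFractionRing A K] [Algebra B L] [IsFractionRing B L]
    [Algebra K L] [Algebra A L] [IsScalarTower A K L] [IsScalarTower A B L] [Algebra.IsSeparable K L]
    (hB : CAlg.IsNagata B) : CAlg.IsN2 A := by
  intro K' _ _ _ _ hfin
  letI : Algebra K K' :=
    ((algebraMap (FractionRing A) K').comp (FractionRing.algEquiv A K).symm.toRingEquiv.toRingHom).toAlgebra
  haveI : IsScalarTower A K K' := IsScalarTower.of_algebraMap_eq fun a => by
    show _ = algebraMap (FractionRing A) K' ((FractionRing.algEquiv A K).symm (algebraMap A K a))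
    rw [AlgEquiv.commutes, ← IsScalarTower.algebraMap_apply]
  haveI : FiniteDimensional K K' :=
    Module.Finite.of_equiv_equiv (FractionRing.algEquiv A K).toRingEquiv (RingEquiv.refl K') (by
      ext x
      show algebraMap (FractionRing A) K' ((FractionRing.algEquiv A K).symm (FractionRing.algEquiv A K x)) = _
      rw [AlgEquiv.symm_apply_apply]
      rfl)
  haveI : Module.IsTorsionFree A B := Module.isTorsionFree_iff_algebraMap_injective.mpr hinj
  haveI : Module.Flat A B := inferInstance
  haveI : Module.FaithfullyFlat A B := Module.FaithfullyFlat.of_flat_of_isLocalHom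
  obtain ⟨π, hπ⟩ := IsDiscreteValuationRing.exists_irreducible B
  haveI : Algebra.FiniteType B L := by
    haveI : IsLocalization.Away π L := by
      refine (IsLocalization.iff_of_le_of_exists_dvd (Submonoid.powers π) (nonZeroDivisors B) ?_ ?_).mpr inferInstance
      · rintro _ ⟨k, rfl⟩
        exact mem_nonZeroDivisors_of_ne_zero (pow_ne_zero k hπ.ne_zero)
      · intro s hs
        obtain ⟨k, w, hw⟩ := IsDiscreteValuationRing.eq_unit_mul_pow_irreducible (nonZeroDivisors.ne_zero hs) hπ
        exact ⟨π ^ k, ⟨k, rfl⟩, Units.mul_left_dvd.mpr dvd_rfl |> fun h => hw ▸ h⟩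
    exact IsLocalization.finiteType_of_monoid_fg (Submonoid.powers π) L
  haveI : IsReduced (L ⊗[K] K') := by
    haveI := GrpSchLib.isReduced_tensor_of_isSeparable (k := K) (K := L) K'
    exact isReduced_of_injective (Algebra.TensorProduct.comm K L K')
      (Algebra.TensorProduct.comm K L K').injective
  haveI : Algebra.FiniteType B (L ⊗[K] K') := Algebra.FiniteType.trans (S := L) inferInstance inferInstance
  haveI := hB.1
  haveI := NagataLib.finite_integralClosure_of_reduced hB (L ⊗[K] K')
  let A' := integralClosure A K'
  let i : B ⊗[A] A' →ₐ[B] L ⊗[K] K' :=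
    Algebra.TensorProduct.lift (Algebra.ofId B _)
      (((Algebra.TensorProduct.includeRight : K' →ₐ[K] L ⊗[K] K').restrictScalars A).comp A'.val)
      (fun _ _ => Commute.all _ _)
  have hi : Function.Injective i := by
    haveI : Module.IsTorsionFree A A' := Module.isTorsionFree_iff_algebraMap_injective.mpr fun a b h =>
      (algebraMap K K').injective.comp (IsFractionRing.injective A K) (by
        simpa [← IsScalarTower.algebraMap_apply A K K'] using congrArg (fun z : A' => (z : K')) h)
    haveI : Module.Flat A A' := inferInstance
    haveI : Module.IsTorsionFree A L := Module.isTorsionFree_iff_algebraMap_injective.mpr (by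
      rw [IsScalarTower.algebraMap_eq A K L]
      exact (algebraMap K L).injective.comp (IsFractionRing.injective A K))
    haveI : Module.Flat A L := inferInstance
    have h1 : Function.Injective ((IsScalarTower.toAlgHom A B L).toLinearMap.rTensor A') :=
      Module.Flat.rTensor_preserves_injective_linearMap _ (IsFractionRing.injective B L)
    have h2 : Function.Injective (A'.val.toLinearMap.lTensor L) :=
      Module.Flat.lTensor_preserves_injective_linearMap _ Subtype.val_injective
    let e : L ⊗[K] K' ≃ₗ[K] L ⊗[A] K' := IsLocalization.moduleTensorEquiv (nonZeroDivisors A) K L K'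
    have heq : ∀ z, e (i z) = A'.val.toLinearMap.lTensor L
        ((IsScalarTower.toAlgHom A B L).toLinearMap.rTensor A' z) := by
      intro z
      induction z with
      | zero => simp
      | add x y hx hy => simp only [map_add, hx, hy]
      | tmul b a =>
        have : i (b ⊗ₜ a) = algebraMap B L b ⊗ₜ[K] (a : K') := by
          simp [i, Algebra.TensorProduct.algebraMap_apply, Algebra.ofId_apply]
        rw [this]
        rfl
    intro a b hab
    exact h1 (h2 (by rw [← heq, ← heq, hab]))
  haveI : Algebra.IsIntegral B (B ⊗[A] A') := inferInstance
  let j : B ⊗[A] A' →ₗ[B] integralClosure B (L ⊗[K] K') :=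
    i.toLinearMap.codRestrict (integralClosure B (L ⊗[K] K')).toSubmodule
      fun z => (Algebra.IsIntegral.isIntegral z).map i
  haveI : Module.Finite B (B ⊗[A] A') :=
    Module.Finite.of_injective j fun a b h => hi (congrArg Subtype.val h)
  exact Module.Finite.of_finite_tensorProduct_of_faithfullyFlat B

/-- Let A -> B be an extension of discrete valuation rings whose extension of fraction fields L/K is
separable. If B is a Nagata ring then so is A. -/
theorem result (A B K L : Type u) [CommRing A] [IsDomain A] [IsDiscreteValuationRing A]
    [CommRing B] [IsDomain B] [IsDiscreteValuationRing B] [Algebra A B] [IsLocalHom (algebraMap A B)]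
    (hinj : Function.Injective (algebraMap A B))
    [Field K] [Field L] [Algebra A K] [IsFractionRing A K] [Algebra B L] [IsFractionRing B L]
    [Algebra K L] [Algebra A L] [IsScalarTower A K L] [IsScalarTower A B L] [Algebra.IsSeparable K L] (hB : CAlg.IsNagata B) :
    CAlg.IsNagata A := by
  haveI := hB.1
  refine ⟨inferInstance, fun p hp => ?_⟩
  by_cases hp0 : p = ⊥
  · subst hp0
    exact N12Aux.isN2_of_ringEquiv (AlgEquiv.quotientBot A A).toRingEquiv.symm
      (isN2_down A B K L hinj hB)
  · haveI : p.IsMaximal := hp.isMaximal hp0
    letI : Field (A ⧸ p) := Ideal.Quotient.field p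
    exact CompleteNagata.isN2_field (A ⧸ p)

end Groth.Agent.S1985
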