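import Groth.Statements.S19856
import Mathlib
import Groth.Agent.CAlgSmall.CotangentTrivial

set_option autoImplicit false
universe u v
open CAlg

namespace Groth.Agent.S19856

open IsLocalRing in
theorem isCyclic_of_trivial_residue (O : Type*) [CommRing O] [IsDomain O] [IsDiscreteValuationRing O]
    (G : Type*) [Group G] [Finite G] [MulSemiringAction G O] [FaithfulSMul G O]
    (htriv : ∀ (g : G) (a : O), g • a - a ∈ maximalIdeal O)
    (hcard : ((Nat.card G : ℕ) : ResidueField O) ≠ 0) :
    IsCyclic G := by
  obtain ⟨π, hπ⟩ := IsDiscreteValuationRing.exists_irreducible O
  have hm : maximalIdeal O = Ideal.span {π} := hπ.maximalIdeal_eq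
  have hπm : π ∈ maximalIdeal O := hm ▸ Ideal.mem_span_singleton_self π
  have hdiv : ∀ g : G, ∃ u : O, g • π = π * u := fun g => by
    have : g • π ∈ maximalIdeal O := by simpa using add_mem (htriv g π) hπm
    rw [hm, Ideal.mem_span_singleton] at this
    exact this
  choose u hu using hdiv
  have hπ0 : π ≠ 0 := hπ.ne_zero
  let θ : G →* ResidueField O :=
    { toFun := fun g => residue O (u g)
      map_one' := by
        have : u 1 = 1 := mul_left_cancel₀ hπ0 (by rw [← hu, one_smul, mul_one])
        rw [this, map_one]
      map_mul' := fun g h => by
        have : u (g * h) = u g * (g • u h) := mul_left_cancel₀ hπ0 (by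
          rw [← hu, mul_smul, hu h, smul_mul', hu g, mul_assoc])
        rw [this, map_mul]
        congr 1
        rw [← sub_eq_zero, ← map_sub, residue_eq_zero_iff]
        exact htriv g (u h) }
  refine isCyclic_of_injective_ringHom θ ((injective_iff_map_eq_one θ).mpr fun g hg => ?_)
  have hu1 : u g - 1 ∈ maximalIdeal O := by
    rw [← residue_eq_zero_iff, map_sub, map_one]
    exact sub_eq_zero.mpr hg
  have horder : IsUnit (orderOf g : O) := by
    refine notMem_maximalIdeal.mp fun h => hcard ?_
    obtain ⟨t, ht⟩ := orderOf_dvd_natCard g
    rw [ht, Nat.cast_mul, ← map_natCast (residue O) (orderOf g), (residue_eq_zero_iff _).mpr h,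
      zero_mul]
  have hcot : ∀ a ∈ maximalIdeal O, g • a - a ∈ maximalIdeal O ^ 2 := fun a ha => by
    rw [hm, Ideal.mem_span_singleton] at ha
    obtain ⟨c, rfl⟩ := ha
    rw [smul_mul', hu, show π * u g * g • c - π * c = π * ((u g - 1) * g • c + (g • c - c)) by ring,
      pow_two]
    exact Ideal.mul_mem_mul hπm (add_mem (Ideal.mul_mem_right _ _ hu1) (htriv g c))
  have hfix := CAlgSmall.smul_eq_self_of_mem_maximalIdeal g horder hcot
  refine eq_of_smul_eq_smul (α := O) fun a => ?_
  rw [one_smul]
  refine mul_left_cancel₀ hπ0 ?_
  have h1 := hfix (π * a) (Ideal.mul_mem_right _ _ hπm)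
  rwa [smul_mul', hfix π hπm] at h1


/-- Ring-level form: let O be a discrete valuation ring and G a finite group acting faithfully on O by
ring automorphisms, such that every element of G acts trivially on the residue field of O (that is,
g • a - a lies in the maximal ideal for all a) and such that the order of G is nonzero in the
residue field of O. Then G is cyclic. (The source states this for a finite group of order invertible
in an algebraically closed field k acting faithfully on a smooth connected k-variety and the
subgroup of elements fixing pointwise a codimension-one irreducible component of the ramification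
locus, applied to the local ring at the generic point of that component; it is stated here for an
arbitrary discrete valuation ring with a faithful action. The source also shows that this subgroup
is nontrivial; that geometric part is not stated.) -/
theorem result
    (O : Type u) [CommRing O] [IsDomain O] [IsDiscreteValuationRing O]
    (G : Type v) [Group G] [Finite G] [MulSemiringAction G O] [FaithfulSMul G O]
    (htriv : ∀ (g : G) (a : O), g • a - a ∈ IsLocalRing.maximalIdeal O)
    (hcard : ((Nat.card G : ℕ) : IsLocalRing.ResidueField O) ≠ 0) :
    IsCyclic G := by
  classical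
  exact isCyclic_of_trivial_residue O G htriv hcard

end Groth.Agent.S19856
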