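import Groth.Statements.S7151
import Groth.Agent.HensEt88.NagataValuation

set_option linter.style.haveILetI false

set_option autoImplicit false
universe u
open EtAlg TensorProduct
open Polynomial hiding map_ne_zero

namespace Groth.Agent.S7151

/-- Let p be a prime and A → B an injective local homomorphism of discrete valuation rings whose fields
of fractions are K ⊆ L, where K has characteristic p, L is separable (geometrically reduced) over K
and B is a Nagata ring. Let K ⊆ K₁ ⊆ K₂ be finite extensions such that K₂ is a solution for A ⊆ B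
and K₂/K₁ is purely inseparable of degree p. Then some finite separable extension K₃/K₁ is also a
solution for A ⊆ B. -/
theorem result (p : ℕ) (hp : p.Prime) (A B K L : Type u)
    [CommRing A] [IsDomain A] [IsDiscreteValuationRing A] [CommRing B] [IsDomain B] [IsDiscreteValuationRing B]
    [Algebra A B] (hinj : Function.Injective (algebraMap A B)) [IsLocalHom (algebraMap A B)]
    [Field K] [Field L] [Algebra A K] [IsFractionRing A K] [Algebra B L] [IsFractionRing B L]
    [Algebra K L] [Algebra A L] [IsScalarTower A K L] [IsScalarTower A B L] [CharP K p]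
    [Algebra.IsGeometricallyReduced K L] (hB : CAlg.IsNagata B)
    (K₁ K₂ : Type u) [Field K₁] [Field K₂] [Algebra K K₁] [Algebra K K₂] [Algebra K₁ K₂] [IsScalarTower K K₁ K₂]
    [FiniteDimensional K K₁] [FiniteDimensional K₁ K₂] (hsol : EtRam.IsSolution B K L K₂)
    [IsPurelyInseparable K₁ K₂] (hdeg : Module.finrank K₁ K₂ = p) :
    ∃ (K₃ : Type u) (_ : Field K₃) (_ : Algebra K K₃) (_ : Algebra K₁ K₃) (_ : IsScalarTower K K₁ K₃),
      FiniteDimensional K₁ K₃ ∧ Algebra.IsSeparable K₁ K₃ ∧ EtRam.IsSolution B K L K₃ := by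
  classical
  haveI := Fact.mk hp
  obtain ⟨hchar1, hpow⟩ := HensEt88.charP_and_pow_mem K₁ K₂ hp hdeg
  haveI := hchar1
  haveI : CharP L p := charP_of_injective_algebraMap (algebraMap K L).injective p
  haveI : CharP K₂ p := charP_of_injective_algebraMap (algebraMap K₁ K₂).injective p
  haveI : FiniteDimensional K K₂ := Module.Finite.trans K₁ K₂
  have hinjA : Function.Injective (algebraMap A K) := IsFractionRing.injective A K
  obtain ⟨πA, hπA⟩ := IsDiscreteValuationRing.exists_irreducible A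
  obtain ⟨πB, hπB⟩ := IsDiscreteValuationRing.exists_irreducible B
  -- an integral generator
  obtain ⟨y₀, hy₀⟩ : ∃ y₀ : K₂, y₀ ∉ Set.range (algebraMap K₁ K₂) := by
    by_contra hcon
    push Not at hcon
    have h1 : Module.finrank K₁ K₂ = 1 := (finrank_eq_one_iff_of_nonzero' (1 : K₂) one_ne_zero).mpr fun w => by
      obtain ⟨c, hc⟩ := hcon w
      exact ⟨c, by rw [Algebra.smul_def, mul_one, hc]⟩
    exact hp.one_lt.ne' (hdeg.symm.trans h1)
  obtain ⟨a₀, ha₀⟩ := hpow y₀
  letI : Algebra A K₁ := ((algebraMap K K₁).comp (algebraMap A K)).toAlgebra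
  haveI : IsScalarTower A K K₁ := IsScalarTower.of_algebraMap_eq fun _ => rfl
  haveI : Algebra.IsAlgebraic A K := IsLocalization.isAlgebraic K (nonZeroDivisors A)
  haveI : Algebra.IsAlgebraic A K₁ := Algebra.IsAlgebraic.trans A K K₁
  obtain ⟨d₀, hd₀, hd₀i⟩ := (Algebra.IsAlgebraic.isAlgebraic (R := A) a₀).exists_integral_multiple
  have hd₁ : algebraMap A K₁ d₀ ≠ 0 := (map_ne_zero (algebraMap K K₁)).mpr ((map_ne_zero_iff _ hinjA).mpr hd₀)
  let y : K₂ := algebraMap K₁ K₂ (algebraMap A K₁ d₀) * y₀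
  let a : K₁ := algebraMap A K₁ d₀ ^ p * a₀
  have hy : y ^ p = algebraMap K₁ K₂ a := by simp only [y, a, mul_pow, map_mul, map_pow, ha₀]
  have hya : y ∉ Set.range (algebraMap K₁ K₂) := by
    rintro ⟨v, hv⟩
    exact hy₀ ⟨v / algebraMap A K₁ d₀, by rw [map_div₀, hv]; exact mul_div_cancel_left₀ _ ((map_ne_zero _).mpr hd₁)⟩
  have haint : IsIntegral A a := by
    have : a = algebraMap A K₁ d₀ ^ (p - 1) * (d₀ • a₀) := by
      rw [Algebra.smul_def, ← mul_assoc, ← pow_succ, Nat.sub_add_cancel hp.pos]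
    rw [this]
    exact (isIntegral_algebraMap.pow _).mul hd₀i
  have hanot : ∀ v : K₁, v ^ p ≠ a := fun v hv => hya ⟨v, frobenius_inj K₂ p (by
    rw [frobenius_def, frobenius_def, ← map_pow, hv, hy])⟩
  let f : K₁[X] := X ^ p - Polynomial.C a
  have hfirr : Irreducible f := X_pow_sub_C_irreducible_of_prime hp hanot
  have hmin : minpoly K₁ y = f :=
    (minpoly.eq_of_irreducible_of_monic hfirr (by simp [f, hy]) (monic_X_pow_sub_C _ hp.ne_zero)).symm
  have hnd : f.natDegree = p := natDegree_X_pow_sub_C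
  have hspanK₂ : ∀ e : K₂, ∃ k : Fin p → K₁, ∑ i, algebraMap K₁ K₂ (k i) * y ^ (i : ℕ) = e := by
    have hind : ∀ k : Fin p → K₁, ∑ i, algebraMap K₁ K₂ (k i) * y ^ (i : ℕ) = 0 → ∀ i, k i = 0 := by
      intro k hk i
      let Q : K₁[X] := ∑ j : Fin p, Polynomial.C (k j) * X ^ (j : ℕ)
      have hQ0 : Q = 0 := by
        by_contra hne
        have h1 := natDegree_le_of_dvd (minpoly.dvd K₁ y (show aeval y Q = 0 by simpa [Q] using hk)) hne
        rw [hmin, hnd] at h1
        have h2 : Q.natDegree ≤ p - 1 := natDegree_sum_le_of_forall_le _ _ fun j _ =>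
          (natDegree_C_mul_X_pow_le _ _).trans (Nat.le_sub_one_of_lt j.2)
        have := hp.pos
        omega
      have h3 : Q.coeff i = k i := by
        simp only [Q, finsetSum_coeff, coeff_C_mul, coeff_X_pow]
        rw [Finset.sum_eq_single i]
        · simp
        · exact fun j _ hj => by simp [Fin.val_inj, Ne.symm hj]
        · simp
      rw [← h3, hQ0, coeff_zero]
    exact fun e => HensEt88.exists_sum_eq hdeg.le y hind e
  -- reduced base changes
  haveI hred₁ : IsReduced (L ⊗[K] K₁) := isReduced_of_injective (Algebra.TensorProduct.comm K L K₁) (Algebra.TensorProduct.comm K L K₁).injective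
  haveI hred₂ : IsReduced (L ⊗[K] K₂) := isReduced_of_injective (Algebra.TensorProduct.comm K L K₂) (Algebra.TensorProduct.comm K L K₂).injective
  let R := L ⊗[K] K₁
  haveI : IsArtinianRing R := IsArtinianRing.of_finite L R
  let γ : K₁ →+* R := (Algebra.TensorProduct.includeRight : K₁ →ₐ[K] R).toRingHom
  have hnp : ∀ (m : Ideal R) [m.IsMaximal], ∀ v : R ⧸ m, v ^ p ≠ Ideal.Quotient.mk m (γ a) := by
    intro m _ v hv
    obtain ⟨v, rfl⟩ := Ideal.Quotient.mk_surjective v
    rw [← map_pow, eq_comm, Ideal.Quotient.eq] at hv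
    -- an element outside `m` killing the difference
    obtain ⟨t, ht, ht0⟩ : ∃ t, t ∉ m ∧ t * (γ a - v ^ p) = 0 := by
      have hFld : IsField (Localization.AtPrime m) := by
        haveI : IsArtinianRing (Localization.AtPrime m) := IsArtinianRing.localization_artinian m.primeCompl _
        haveI : Ring.KrullDimLE 0 (Localization.AtPrime m) := inferInstance
        haveI : IsReduced (Localization.AtPrime m) := inferInstance
        exact Ring.KrullDimLE.isField_of_isReduced
      have h0 : algebraMap R (Localization.AtPrime m) (γ a - v ^ p) = 0 := by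
        have h1 := (IsLocalization.AtPrime.to_map_mem_maximal_iff (Localization.AtPrime m) m (γ a - v ^ p)).mpr hv
        rwa [IsLocalRing.isField_iff_maximalIdeal_eq.mp hFld, Ideal.mem_bot] at h1
      obtain ⟨⟨t, ht⟩, htt⟩ := (IsLocalization.map_eq_zero_iff m.primeCompl _ _).mp h0
      exact ⟨t, ht, htt⟩
    letI : Field (R ⧸ m) := Ideal.Quotient.field m
    let g : (R ⧸ m)[X] := X ^ p - Polynomial.C (Ideal.Quotient.mk m (γ a))
    let ι : R →ₐ[L] L ⊗[K] K₂ := Algebra.TensorProduct.map (AlgHom.id L L) (IsScalarTower.toAlgHom K K₁ K₂)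
    let z : L ⊗[K] K₂ := (1 : L) ⊗ₜ y - ι v
    haveI : CharP (L ⊗[K] K₂) p := charP_of_injective_ringHom
      (Algebra.TensorProduct.includeLeftRingHom : L →+* L ⊗[K] K₂).injective p
    have hz : ι t * z = 0 := by
      refine eq_zero_of_pow_eq_zero (n := p) ?_
      have h1 : z ^ p = ι (γ a - v ^ p) := by
        simp only [z, sub_pow_char, map_sub, map_pow, Algebra.TensorProduct.tmul_pow, one_pow, hy]
        rfl
      rw [mul_pow, h1, ← map_pow, ← map_mul, show t ^ p * (γ a - v ^ p) = t ^ (p - 1) * (t * (γ a - v ^ p)) by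
        rw [← mul_assoc, ← pow_succ, Nat.sub_add_cancel hp.pos], ht0, mul_zero, map_zero]
    -- map to the polynomial quotient
    let M₂ := AdjoinRoot g
    let ρ : AdjoinRoot f →ₐ[K₁] K₂ := AdjoinRoot.liftAlgHom f (Algebra.ofId K₁ K₂) y (by simp [f, hy])
    haveI := Fact.mk hfirr
    have hρ : Function.Bijective ρ := ⟨ρ.toRingHom.injective, fun e => by
      obtain ⟨k, hk⟩ := hspanK₂ e
      exact ⟨∑ i, algebraMap K₁ _ (k i) * AdjoinRoot.root f ^ (i : ℕ), by simp [ρ, ← hk]⟩⟩
    let σ : K₁ →+* M₂ := (AdjoinRoot.of g).comp ((Ideal.Quotient.mk m).comp γ)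
    let δ : AdjoinRoot f →+* M₂ := AdjoinRoot.lift σ (AdjoinRoot.root g) (by
      have := AdjoinRoot.eval₂_root g
      simp only [g, eval₂_sub, eval₂_pow, eval₂_X, eval₂_C] at this
      simp only [f, eval₂_sub, eval₂_pow, eval₂_X, eval₂_C]
      exact this)
    let δ₂ : K₂ →+* M₂ := δ.comp (RingEquiv.ofBijective ρ hρ).symm.toRingHom
    have hρy : (RingEquiv.ofBijective ρ hρ).symm y = AdjoinRoot.root f := by
      rw [RingEquiv.symm_apply_eq]; simp [ρ]
    have hρc : ∀ k, (RingEquiv.ofBijective ρ hρ).symm (algebraMap K₁ K₂ k) = algebraMap K₁ _ k := fun k => by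
      rw [RingEquiv.symm_apply_eq]; exact (ρ.commutes k).symm
    have hδc : ∀ k, δ₂ (algebraMap K₁ K₂ k) = σ k := fun k => by
      simp [δ₂, hρc, δ, AdjoinRoot.algebraMap_eq]
    let eLA : L →ₐ[K] M₂ := (IsScalarTower.toAlgHom K (R ⧸ m) M₂).comp
      ((Ideal.Quotient.mkₐ K m).comp (Algebra.TensorProduct.includeLeft : L →ₐ[K] R))
    let δA : K₂ →ₐ[K] M₂ := AlgHom.mk δ₂ fun k => by
      show δ₂ (algebraMap K K₂ k) = algebraMap K M₂ k
      rw [IsScalarTower.algebraMap_apply K K₁ K₂, hδc, IsScalarTower.algebraMap_apply K (R ⧸ m) M₂]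
      show (AdjoinRoot.of g) (Ideal.Quotient.mk m (γ (algebraMap K K₁ k))) = (AdjoinRoot.of g) (Ideal.Quotient.mk m (algebraMap K R k))
      congr 2
      exact AlgHom.commutes (Algebra.TensorProduct.includeRight : K₁ →ₐ[K] R) k
    let Φ : L ⊗[K] K₂ →ₐ[K] M₂ := Algebra.TensorProduct.lift eLA δA fun _ _ => Commute.all _ _
    have hΦι : ∀ r : R, Φ (ι r) = AdjoinRoot.of g (Ideal.Quotient.mk m r) := by
      intro (r : L ⊗[K] K₁)
      induction r with
      | zero => simp
      | add r r' hr hr' => simp only [map_add, hr, hr']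
      | tmul l k =>
        show eLA l * δ₂ (algebraMap K₁ K₂ k) = _
        rw [hδc]
        show (AdjoinRoot.of g) (Ideal.Quotient.mk m (l ⊗ₜ 1)) * (AdjoinRoot.of g) (Ideal.Quotient.mk m (1 ⊗ₜ k)) = _
        rw [← map_mul (AdjoinRoot.of g), ← map_mul (Ideal.Quotient.mk m), Algebra.TensorProduct.tmul_mul_tmul, mul_one, one_mul]
    have h0 := congrArg Φ hz
    rw [map_mul, map_zero, hΦι, map_sub, hΦι] at h0
    have hΦy : Φ ((1 : L) ⊗ₜ y) = AdjoinRoot.root g := by
      show eLA 1 * δA y = _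
      rw [map_one, one_mul]
      show δ ((RingEquiv.ofBijective ρ hρ).symm y) = _
      rw [hρy]; simp [δ]
    rw [hΦy] at h0
    have htu : IsUnit (AdjoinRoot.of g (Ideal.Quotient.mk m t)) :=
      (isUnit_iff_ne_zero.mpr fun h => ht (Ideal.Quotient.eq_zero_iff_mem.mp h)).map _
    rw [htu.mul_right_eq_zero, sub_eq_zero] at h0
    have h2 : AdjoinRoot.mk g (X - Polynomial.C (Ideal.Quotient.mk m v)) = 0 := by
      rw [map_sub, AdjoinRoot.mk_X, AdjoinRoot.mk_C, h0, sub_self]
    rw [AdjoinRoot.mk_eq_zero] at h2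
    have h3 := natDegree_le_of_dvd h2 (X_sub_C_ne_zero _)
    rw [natDegree_X_pow_sub_C, natDegree_X_sub_C] at h3
    exact absurd h3 (not_le.mpr hp.one_lt)
  -- bound for each model
  have hmodel : ∀ m : MaximalSpectrum R, ∃ N : ℕ, ∀ (F : Type u) [Field F] [Algebra L F] [Algebra K₁ F] [Algebra K F]
      [IsScalarTower K L F] [IsScalarTower K K₁ F] (μ : R →ₐ[L] F), (∀ k, μ (γ k) = algebraMap K₁ F k) →
      RingHom.ker μ = m.asIdeal → ∀ (x : F) (N' : ℕ), N ≤ N' → x ^ p = algebraMap K₁ F a + algebraMap L F (algebraMap K L (algebraMap A K πA)) ^ N' * x →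
      Algebra.adjoin L (Set.range (algebraMap K₁ F) ∪ {x}) = ⊤ →
      ∀ (W₃ : ValuationSubring F), EtRam.Dominates B ((algebraMap L F).comp (algebraMap B L)) W₃ →
      ∀ (E₃ : Type u) [Field E₃] (f₃ : E₃ →+* F),
        (∀ e, ∃ k : Fin p → K₁, f₃ e = ∑ i, algebraMap K₁ F (k i) * x ^ (i : ℕ)) →
        (∀ k : Fin p → K₁, ∃ e, f₃ e = ∑ i, algebraMap K₁ F (k i) * x ^ (i : ℕ)) →
        (letI : Algebra (W₃.comap f₃) W₃ := (EtRam.inclOfComap W₃ f₃).toAlgebra;
          EtRam.IsWeaklyUnramified (W₃.comap f₃) W₃) ∧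
        @Algebra.IsGeometricallyReduced (IsLocalRing.ResidueField (W₃.comap f₃)) (IsLocalRing.ResidueField W₃) _ _
          (IsLocalRing.ResidueField.map (EtRam.inclOfComap W₃ f₃)).toAlgebra := by
    rintro ⟨m, hm⟩
    letI : Field (R ⧸ m) := Ideal.Quotient.field m
    let M₁ := R ⧸ m
    haveI : FiniteDimensional L M₁ := inferInstance
    haveI : IsScalarTower B L M₁ := inferInstance
    let γ₁ : K₁ →+* M₁ := (Ideal.Quotient.mk m).comp γ
    haveI : CharP M₁ p := charP_of_injective_algebraMap (algebraMap L M₁).injective p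
    let g : M₁[X] := X ^ p - Polynomial.C (γ₁ a)
    have hgirr : Irreducible g := X_pow_sub_C_irreducible_of_prime hp (hnp m)
    haveI := Fact.mk hgirr
    let M₂ := AdjoinRoot g
    haveI : FiniteDimensional M₁ M₂ := (AdjoinRoot.powerBasis hgirr.ne_zero).finite
    haveI : FiniteDimensional L M₂ := Module.Finite.trans M₁ M₂
    haveI : CharP M₂ p := charP_of_injective_algebraMap (algebraMap M₁ M₂).injective p
    let s : M₂ := AdjoinRoot.root g
    have hs : s ^ p = algebraMap M₁ M₂ (γ₁ a) := by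
      have h := AdjoinRoot.eval₂_root g
      simp only [g, eval₂_sub, eval₂_pow, eval₂_X, eval₂_C, sub_eq_zero] at h
      exact h
    have hindM : ∀ c : Fin p → M₁, ∑ i, algebraMap M₁ M₂ (c i) * s ^ (i : ℕ) = 0 → ∀ i, c i = 0 := by
      intro c hc i
      let Q : M₁[X] := ∑ j : Fin p, Polynomial.C (c j) * X ^ (j : ℕ)
      have hQ0 : Q = 0 := by
        by_contra hne
        have h1 := natDegree_le_of_dvd (minpoly.dvd M₁ s (show aeval s Q = 0 by simpa [Q] using hc)) hne
        rw [← minpoly.eq_of_irreducible_of_monic hgirr (show aeval s g = 0 by simp [g, hs])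
          (monic_X_pow_sub_C _ hp.ne_zero), natDegree_X_pow_sub_C] at h1
        have h2 : Q.natDegree ≤ p - 1 := natDegree_sum_le_of_forall_le _ _ fun j _ =>
          (natDegree_C_mul_X_pow_le _ _).trans (Nat.le_sub_one_of_lt j.2)
        have := hp.pos
        omega
      have h3 : Q.coeff i = c i := by
        simp only [Q, finsetSum_coeff, coeff_C_mul, coeff_X_pow]
        rw [Finset.sum_eq_single i]
        · simp
        · exact fun j _ hj => by simp [Fin.val_inj, Ne.symm hj]
        · simp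
      rw [← h3, hQ0, coeff_zero]
    have hspanM : ∀ z : M₂, ∃ c : Fin p → M₁, ∑ i, algebraMap M₁ M₂ (c i) * s ^ (i : ℕ) = z := by
      refine fun z => HensEt88.exists_sum_eq (le_of_eq ?_) s hindM z
      rw [(AdjoinRoot.powerBasis hgirr.ne_zero).finrank, AdjoinRoot.powerBasis_dim, natDegree_X_pow_sub_C]
    haveI : Module.Finite B (integralClosure B M₂) :=
      N12Aux.finite_of_isN2 (N12Aux.isN2_of_isNagata hB) L M₂
    obtain ⟨G, hG⟩ := (inferInstance : Module.Finite B (integralClosure B M₂)).fg_top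
    choose co hco using hspanM
    obtain ⟨e, he0, he⟩ := HensEt88.exists_common_denominator (L := L) (B := B)
      (G.biUnion fun o => Finset.univ.image (co (o : M₂)))
    obtain ⟨k, ue, rfl⟩ := IsDiscreteValuationRing.eq_unit_mul_pow_irreducible he0 hπB
    refine ⟨p * k + p + 1, ?_⟩
    intro F _ _ _ _ _ _ μ hμγ hμker x N' hN' hx hgenF W₃ hW₃ E₃ _ f₃ hE₃ hE₃'
    let g₃ : M₁ →+* F := Ideal.Quotient.lift m μ.toRingHom fun r hr => (show r ∈ RingHom.ker μ by rw [hμker]; exact hr)
    have hg₃L : ∀ l, g₃ (algebraMap L M₁ l) = algebraMap L F l := fun l => μ.commutes l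
    have hg₃γ : ∀ k, g₃ (γ₁ k) = algebraMap K₁ F k := fun k => hμγ k
    let W₁ := W₃.comap g₃
    have hW₁ : EtRam.Dominates B (algebraMap B M₁) W₁ :=
      HensEt88.dominates_comap g₃ (g' := g₃.comp (algebraMap B M₁)) rfl (by
        have : g₃.comp (algebraMap B M₁) = (algebraMap L F).comp (algebraMap B L) := RingHom.ext fun b => hg₃L _
        rw [this]; exact hW₃)
    obtain ⟨hdvr, hloc⟩ := HensEt88.dvr_of_dominates_nagata (L := L) hB W₁ hW₁
    haveI := hdvr
    obtain ⟨ϖ, hϖ⟩ := IsDiscreteValuationRing.exists_irreducible W₁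
    have hWW : EtRam.Dominates W₁ ((RingHom.id M₁).comp (algebraMap W₁ M₁)) W₁ :=
      ⟨fun a => a.2, fun a ha => (W₁.valuation_lt_one_iff a).mp ha⟩
    obtain ⟨W₂, hW₂⟩ := HensEt88.exists_dominates ((algebraMap M₁ M₂).comp (algebraMap W₁ M₁))
    have hc₂ : W₂.comap (algebraMap M₁ M₂) = W₁ := by
      ext w
      constructor
      · intro hw
        obtain ⟨r, hr⟩ := HensEt88.exists_of_map_mem (algebraMap M₁ M₂) hW₂ (m := w) hw
        rw [← hr]; exact r.2
      · exact fun hw => hW₂.1 ⟨w, hw⟩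
    -- units and bounds in `W₁`
    have hintW : ∀ w : M₁, IsIntegral B w → W₁.valuation w ≤ 1 := fun w hw => by
      obtain ⟨P, hP, hPx⟩ := hw
      have h1 : IsIntegral W₁ w := ⟨P.map ((algebraMap B M₁).codRestrict W₁ hW₁.1), hP.map _, by
        rw [Polynomial.eval₂_map]; exact hPx⟩
      obtain ⟨v, hv⟩ := IsIntegrallyClosed.isIntegral_iff.mp h1
      exact (W₁.valuation_le_one_iff _).mpr (hv ▸ v.2)
    have hue : W₁.valuation (algebraMap B M₁ ue) = 1 := by
      have h1 : W₁.valuation (algebraMap B M₁ ue) * W₁.valuation (algebraMap B M₁ ↑ue⁻¹) = 1 := by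
        rw [← map_mul, ← map_mul, Units.mul_inv, map_one, map_one]
      exact le_antisymm ((W₁.valuation_le_one_iff _).mpr (hW₁.1 _))
        (h1.ge.trans (mul_le_of_le_one_right' ((W₁.valuation_le_one_iff _).mpr (hW₁.1 _))))
    have hγint : W₁.valuation (γ₁ a) ≤ 1 := by
      obtain ⟨P, hP, hPx⟩ := haint
      refine hintW _ ⟨P.map (algebraMap A B), hP.map _, ?_⟩
      rw [Polynomial.eval₂_map, show (algebraMap B M₁).comp (algebraMap A B) = γ₁.comp (algebraMap A K₁) from RingHom.ext fun r => ?_,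
        ← Polynomial.hom_eval₂, hPx, map_zero]
      show Ideal.Quotient.mk m (algebraMap L R (algebraMap B L (algebraMap A B r))) =
        Ideal.Quotient.mk m (γ (algebraMap K K₁ (algebraMap A K r)))
      congr 1
      rw [← IsScalarTower.algebraMap_apply A B L, IsScalarTower.algebraMap_apply A K L]
      rw [← IsScalarTower.algebraMap_apply K L R]
      exact (AlgHom.commutes (Algebra.TensorProduct.includeRight : K₁ →ₐ[K] R) _).symm
    have hπA' : W₁.valuation (algebraMap L M₁ (algebraMap K L (algebraMap A K πA))) ≤ W₁.valuation (algebraMap B M₁ πB) := by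
      rw [← IsScalarTower.algebraMap_apply A K L, IsScalarTower.algebraMap_apply A B L, ← IsScalarTower.algebraMap_apply B L M₁]
      obtain ⟨t, ht⟩ : πB ∣ algebraMap A B πA := by
        rw [← Ideal.mem_span_singleton, ← hπB.maximalIdeal_eq]
        exact map_nonunit _ _ hπA.not_isUnit
      rw [ht, map_mul, map_mul]
      exact mul_le_of_le_one_right' ((W₁.valuation_le_one_iff _).mpr (hW₁.1 t))
    have hϖle : W₁.valuation (algebraMap B M₁ πB) ≤ W₁.valuation (ϖ : M₁) := by
      have h1 : (⟨algebraMap B M₁ πB, hW₁.1 πB⟩ : W₁) ∈ IsLocalRing.maximalIdeal W₁ :=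
        (W₁.valuation_lt_one_iff _).mpr (hW₁.2 πB hπB.not_isUnit)
      rw [hϖ.maximalIdeal_eq, Ideal.mem_span_singleton'] at h1
      obtain ⟨t, ht⟩ := h1
      have h2 : algebraMap B M₁ πB = (t : M₁) * (ϖ : M₁) := (congrArg Subtype.val ht).symm
      rw [h2, map_mul]
      exact mul_le_of_le_one_left' ((W₁.valuation_le_one_iff _).mpr t.2)
    have hpert : HensEt88.Perturbation p W₁ (algebraMap M₁ M₂) g₃ W₂ W₃ s x := by
      refine ⟨hc₂, rfl, fun z => ⟨co z, hco z⟩, hindM, γ₁ a, (algebraMap L M₁ (algebraMap K L (algebraMap A K πA))) ^ N',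
        (ϖ : M₁), algebraMap B M₁ πB, k, hs, ?_, hγint, ?_, ?_, hϖle, ?_, ?_, ?_⟩
      · rw [map_pow, hg₃γ, hg₃L]; exact hx
      · exact fun h => hϖ.ne_zero (Subtype.ext h)
      · exact (W₁.valuation_lt_one_iff ϖ).mp hϖ.not_isUnit
      · rw [map_pow]
        exact (pow_le_pow_left₀ zero_le hπA' _).trans (pow_le_pow_right_of_le_one' ((W₁.valuation_le_one_iff _).mpr (hW₁.1 πB)) hN')
      · intro w hw
        exact HensEt88.valuation_map_eq_zpow (RingHom.id M₁) hWW hϖ hw
      intro c hc i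
      set P := ∑ i, c i ^ p * γ₁ a ^ (i : ℕ) with hP
      obtain ⟨d, hd, hdv, hdP⟩ := hloc P ((W₁.valuation_le_one_iff _).mp hc)
      let z : M₂ := algebraMap M₁ M₂ d * ∑ i, algebraMap M₁ M₂ (c i) * s ^ (i : ℕ)
      have hzp : z ^ p = algebraMap M₁ M₂ (d ^ (p - 1) * (d * P)) := by
        rw [← mul_assoc, ← pow_succ, Nat.sub_add_cancel hp.pos, mul_pow, sum_pow_char, map_mul, map_pow, hP, map_sum]
        refine congrArg _ (Finset.sum_congr rfl fun j _ => ?_)
        rw [map_mul, map_pow, map_pow, mul_pow, ← pow_mul, mul_comm (j : ℕ), pow_mul, hs]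
      have hzint : IsIntegral B z := IsIntegral.of_pow hp.pos (by
        rw [hzp]; exact ((hd.pow _).mul hdP).map (IsScalarTower.toAlgHom B M₁ M₂))
      have hmem : (⟨z, hzint⟩ : integralClosure B M₂) ∈ Submodule.span B (G : Set (integralClosure B M₂)) := by
        rw [hG]; trivial
      obtain ⟨l, -, hl⟩ := Submodule.mem_span_finset.mp hmem
      have hl' : z = ∑ o ∈ G, algebraMap B M₂ (l o) * (o : M₂) := by
        have h1 := congrArg Subtype.val hl
        simp only [AddSubmonoidClass.coe_finsetSum, SetLike.val_smul, Algebra.smul_def] at h1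
        exact h1.symm
      have hcoord : d * c i = ∑ o ∈ G, algebraMap B M₁ (l o) * co (o : M₂) i := by
        refine sub_eq_zero.mp (hindM (fun j => d * c j - ∑ o ∈ G, algebraMap B M₁ (l o) * co (o : M₂) j) ?_ i)
        simp only [map_sub, map_mul, map_sum, sub_mul, Finset.sum_mul, Finset.sum_sub_distrib, mul_assoc]
        rw [← Finset.mul_sum, Finset.sum_comm, show algebraMap M₁ M₂ d * _ = z from rfl, hl', sub_eq_zero]
        refine Finset.sum_congr rfl fun o _ => ?_
        rw [← Finset.mul_sum, hco, ← IsScalarTower.algebraMap_apply B M₁ M₂]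
      have hb : W₁.valuation (algebraMap B M₁ (↑ue * πB ^ k) * (d * c i)) ≤ 1 := by
        rw [hcoord, Finset.mul_sum]
        refine W₁.valuation.map_sum_le fun o ho => ?_
        rw [mul_left_comm, map_mul]
        exact mul_le_one' ((W₁.valuation_le_one_iff _).mpr (hW₁.1 _))
          (hintW _ (he _ (Finset.mem_biUnion.mpr ⟨o, ho, Finset.mem_image_of_mem _ (Finset.mem_univ i)⟩)))
      rw [map_mul W₁.valuation, map_mul (algebraMap B M₁), map_mul W₁.valuation, map_mul W₁.valuation, hue, one_mul, hdv,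
        one_mul, map_pow, map_pow, mul_comm] at hb
      exact hb
    -- the field `K₂` inside `M₂`
    haveI : Module.Finite K₁ (AdjoinRoot f) := (AdjoinRoot.powerBasis hfirr.ne_zero).finite
    haveI := Fact.mk hfirr
    let ρ : AdjoinRoot f →ₐ[K₁] K₂ := AdjoinRoot.liftAlgHom f (Algebra.ofId K₁ K₂) y (by simp [f, hy])
    have hρ : Function.Bijective ρ := ⟨ρ.toRingHom.injective, fun e => by
      obtain ⟨k, hk⟩ := hspanK₂ e
      exact ⟨∑ i, algebraMap K₁ _ (k i) * AdjoinRoot.root f ^ (i : ℕ), by simp [ρ, ← hk]⟩⟩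
    let δ : AdjoinRoot f →+* M₂ := AdjoinRoot.lift ((algebraMap M₁ M₂).comp γ₁) s (by
      simp [f, eval₂_sub, eval₂_pow, hs])
    let f₂ : K₂ →+* M₂ := δ.comp (RingEquiv.ofBijective ρ hρ).symm.toRingHom
    have hf₂ : ∀ k : Fin p → K₁, f₂ (∑ i, algebraMap K₁ K₂ (k i) * y ^ (i : ℕ)) = ∑ i, algebraMap M₁ M₂ (γ₁ (k i)) * s ^ (i : ℕ) := by
      intro k
      have h1 : ∑ i, algebraMap K₁ K₂ (k i) * y ^ (i : ℕ) = ρ (∑ i, algebraMap K₁ _ (k i) * AdjoinRoot.root f ^ (i : ℕ)) := by
        simp [ρ]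
      rw [h1]
      show δ ((RingEquiv.ofBijective ρ hρ).symm (RingEquiv.ofBijective ρ hρ _)) = _
      rw [RingEquiv.symm_apply_apply]
      simp [δ, AdjoinRoot.algebraMap_eq]
    have hf₂c : ∀ k, f₂ (algebraMap K₁ K₂ k) = algebraMap M₁ M₂ (γ₁ k) := fun k => by
      show δ ((RingEquiv.ofBijective ρ hρ).symm (algebraMap K₁ K₂ k)) = _
      rw [show (RingEquiv.ofBijective ρ hρ).symm (algebraMap K₁ K₂ k) = algebraMap K₁ _ k by
        rw [RingEquiv.symm_apply_eq]; exact (ρ.commutes k).symm]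
      simp [δ, AdjoinRoot.algebraMap_eq]
    letI : Algebra K₂ M₂ := f₂.toAlgebra
    haveI : IsScalarTower K K₂ M₂ := IsScalarTower.of_algebraMap_eq fun k => by
      show algebraMap K M₂ k = f₂ (algebraMap K K₂ k)
      rw [IsScalarTower.algebraMap_apply K K₁ K₂, hf₂c, IsScalarTower.algebraMap_apply K M₁ M₂]
      congr 1
      show Ideal.Quotient.mk m (algebraMap K R k) = Ideal.Quotient.mk m (γ (algebraMap K K₁ k))
      congr 1
      exact (AlgHom.commutes (Algebra.TensorProduct.includeRight : K₁ →ₐ[K] R) k).symm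
    have hgen₂ : Algebra.adjoin L (Set.range (algebraMap K₂ M₂)) = ⊤ := by
      rw [eq_top_iff]
      intro z hz
      clear hz
      obtain ⟨c, rfl⟩ : ∃ c : Fin p → M₁, ∑ i, algebraMap M₁ M₂ (c i) * s ^ (i : ℕ) = z := ⟨co z, hco z⟩
      refine Subalgebra.sum_mem _ fun i _ => Subalgebra.mul_mem _ ?_ (Subalgebra.pow_mem _ ?_ _)
      · obtain ⟨r, hr⟩ := Ideal.Quotient.mk_surjective (c i)
        rw [← hr]
        clear hr
        revert r
        intro (r : L ⊗[K] K₁)
        induction r with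
        | zero => simp
        | add r r' hr hr' => rw [map_add, map_add]; exact Subalgebra.add_mem _ hr hr'
        | tmul l j =>
          rw [show (l ⊗ₜ j : R) = algebraMap L R l * γ j by show l ⊗ₜ j = (l ⊗ₜ[K] (1 : K₁)) * ((1 : L) ⊗ₜ j); rw [Algebra.TensorProduct.tmul_mul_tmul, mul_one, one_mul], map_mul, map_mul]
          refine Subalgebra.mul_mem _ ?_ (Algebra.subset_adjoin ⟨algebraMap K₁ K₂ j, hf₂c j⟩)
          rw [Ideal.Quotient.mk_algebraMap, ← IsScalarTower.algebraMap_apply L M₁ M₂]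
          exact Subalgebra.algebraMap_mem _ _
      · refine Algebra.subset_adjoin ⟨y, ?_⟩
        show δ ((RingEquiv.ofBijective ρ hρ).symm y) = _
        rw [show (RingEquiv.ofBijective ρ hρ).symm y = AdjoinRoot.root f by rw [RingEquiv.symm_apply_eq]; simp [ρ]]
        simp [δ]
    have hdom₂ : EtRam.Dominates B ((algebraMap L M₂).comp (algebraMap B L)) W₂ := by
      refine ⟨fun b => ?_, fun b hb => ?_⟩
      · have := hW₂.1 ⟨algebraMap B M₁ b, hW₁.1 b⟩
        rw [RingHom.comp_apply, IsScalarTower.algebraMap_apply L M₁ M₂]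
        exact this
      · rw [RingHom.comp_apply, IsScalarTower.algebraMap_apply L M₁ M₂]
        exact hW₂.2 ⟨algebraMap B M₁ b, hW₁.1 b⟩ ((W₁.valuation_lt_one_iff _).mpr (hW₁.2 b hb))
    obtain ⟨hw₂, hg₂⟩ := hsol M₂ hgen₂ W₂ hdom₂
    have hval₂ : ∀ z : M₂, z ≠ 0 → ∃ e, W₂.valuation (f₂ e) = W₂.valuation z := by
      intro z hz
      haveI : CharP M₂ p := inferInstance
      -- a uniformizer below generates above
      have hW₂dvr : IsDiscreteValuationRing W₂ := by
        exact (HensEt88.dvr_of_dominates_nagata (L := L) hB W₂ (by rw [IsScalarTower.algebraMap_eq B L M₂]; exact hdom₂)).1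
      haveI := hW₂dvr
      obtain ⟨u, hu, hu0⟩ : ∃ u : W₂.comap f₂, (EtRam.inclOfComap W₂ f₂ u) ∈ IsLocalRing.maximalIdeal W₂ ∧
          Irreducible (EtRam.inclOfComap W₂ f₂ u) := by
        by_contra hcon
        push Not at hcon
        obtain ⟨w, hw⟩ := IsDiscreteValuationRing.exists_irreducible W₂
        have h1 : Ideal.map (EtRam.inclOfComap W₂ f₂) (IsLocalRing.maximalIdeal (W₂.comap f₂)) ≤ IsLocalRing.maximalIdeal W₂ ^ 2 := by
          rw [Ideal.map_le_iff_le_comap]
          intro u hu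
          have hu' : EtRam.inclOfComap W₂ f₂ u ∈ IsLocalRing.maximalIdeal W₂ := map_nonunit (EtRam.inclOfComap W₂ f₂) u hu
          rw [Ideal.mem_comap, hw.maximalIdeal_eq, Ideal.span_singleton_pow, Ideal.mem_span_singleton]
          rw [hw.maximalIdeal_eq, Ideal.mem_span_singleton] at hu'
          obtain ⟨t, ht⟩ := hu'
          by_cases htu : IsUnit t
          · exact absurd (ht ▸ (irreducible_mul_isUnit htu).mpr hw) (hcon u (map_nonunit (EtRam.inclOfComap W₂ f₂) u hu))
          · have htm : t ∈ IsLocalRing.maximalIdeal W₂ := htu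
            rw [hw.maximalIdeal_eq, Ideal.mem_span_singleton] at htm
            rw [ht, pow_two]
            exact mul_dvd_mul_left w htm
        have h2 : IsLocalRing.maximalIdeal W₂ ≤ IsLocalRing.maximalIdeal W₂ ^ 2 := hw₂.ge.trans h1
        rw [hw.maximalIdeal_eq, Ideal.span_singleton_pow, Ideal.span_singleton_le_span_singleton, pow_two] at h2
        obtain ⟨t, ht⟩ := h2
        exact hw.not_isUnit (IsUnit.of_mul_eq_one t (mul_left_cancel₀ hw.ne_zero (by rw [mul_one, ← mul_assoc]; exact ht.symm)))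
      have hWW₂ : EtRam.Dominates W₂ ((RingHom.id M₂).comp (algebraMap W₂ M₂)) W₂ :=
        ⟨fun a => a.2, fun a ha => (W₂.valuation_lt_one_iff a).mp ha⟩
      obtain ⟨j, hj⟩ := HensEt88.valuation_map_eq_zpow (RingHom.id M₂) hWW₂ hu0 hz
      refine ⟨(u : K₂) ^ j, ?_⟩
      rw [map_zpow₀, map_zpow₀]
      exact hj.symm
    have hspan₃ : ∀ z : F, ∃ c : Fin p → M₁, ∑ i, g₃ (c i) * x ^ (i : ℕ) = z := by
      letI : Algebra M₁ F := g₃.toAlgebra
      have hgen₃ : Algebra.adjoin M₁ {x} = ⊤ := by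
        rw [eq_top_iff]
        intro z hz
        clear hz
        have h1 : z ∈ Algebra.adjoin L (Set.range (algebraMap K₁ F) ∪ {x}) := hgenF ▸ Algebra.mem_top
        induction h1 using Algebra.adjoin_induction with
        | mem v hv =>
          rcases hv with ⟨j, rfl⟩ | hv
          · rw [← hg₃γ j]; exact Subalgebra.algebraMap_mem _ (γ₁ j)
          · exact Algebra.subset_adjoin hv
        | algebraMap l => rw [← hg₃L l]; exact Subalgebra.algebraMap_mem _ (algebraMap L M₁ l)
        | add a b _ _ ha hb => exact Subalgebra.add_mem _ ha hb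
        | mul a b _ _ ha hb => exact Subalgebra.mul_mem _ ha hb
      obtain ⟨hfdF, hle⟩ := HensEt88.finrank_le_of_root (M := M₁) (F := F) hp.one_lt (x := x) (π' := γ₁ a)
        (c' := -(algebraMap L M₁ (algebraMap K L (algebraMap A K πA))) ^ N') (by
          show x ^ p = g₃ (γ₁ a) - g₃ (-_) * x
          rw [map_neg, map_pow, hg₃γ, hg₃L, neg_mul, sub_neg_eq_add]
          exact hx) hgen₃
      refine fun z => HensEt88.exists_sum_eq hle x (fun c hc i => ?_) z
      obtain ⟨P, hP₂, hP₃, -, hP0⟩ := hpert.isometry c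
      refine hP0 ?_ i
      rw [show (∑ i, g₃ (c i) * x ^ (i : ℕ)) = 0 from hc, map_zero, zero_pow hp.ne_zero] at hP₃
      exact (map_eq_zero g₃).mp (W₃.valuation.zero_iff.mp hP₃.symm)
    refine hpert.solution_transfer hspan₃ γ₁ f₂ f₃ (fun e => ?_) (fun k => ⟨_, hf₂ k⟩) ?_ ?_ hw₂ hval₂ hg₂
    · obtain ⟨k, rfl⟩ := hspanK₂ e
      exact ⟨k, hf₂ k⟩
    · intro e
      obtain ⟨k, hk⟩ := hE₃ e
      exact ⟨k, by rw [hk]; simp only [hg₃γ]⟩
    · intro k
      obtain ⟨e, he'⟩ := hE₃' k
      exact ⟨e, by rw [he']; simp only [hg₃γ]⟩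
  choose Nm hNm using hmodel
  haveI : Finite (MaximalSpectrum R) := inferInstance
  obtain ⟨N₀, hN₀⟩ : ∃ N₀, ∀ m, Nm m ≤ N₀ := by
    obtain ⟨N₀, hN₀⟩ := (Set.finite_range Nm).bddAbove
    exact ⟨N₀, fun m => hN₀ ⟨m, rfl⟩⟩
  let c : K₁ := algebraMap A K₁ πA ^ N₀
  have hc0 : c ≠ 0 := pow_ne_zero _ ((map_ne_zero (algebraMap K K₁)).mpr ((map_ne_zero_iff _ hinjA).mpr hπA.ne_zero))
  let P₃ : K₁[X] := X ^ p + (Polynomial.C (-c) * X - Polynomial.C a)
  have hd3 : (Polynomial.C (-c) * X - Polynomial.C a).degree < (p : WithBot ℕ) :=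
    lt_of_le_of_lt ((degree_sub_le _ _).trans (max_le (degree_C_mul_X_le _) (degree_C_le.trans (by exact_mod_cast zero_le_one))))
      (by exact_mod_cast hp.one_lt)
  have hP₃ : P₃.Monic := monic_X_pow_add hd3
  have hP₃d : P₃.natDegree = p := natDegree_eq_of_degree_eq_some (by
    rw [degree_add_eq_left_of_degree_lt (by rwa [degree_X_pow]), degree_X_pow])
  obtain ⟨x₀, hx₀⟩ := IsAlgClosed.exists_aeval_eq_zero (AlgebraicClosure K₁) P₃ (fun h => by
    have := natDegree_eq_zero_iff_degree_le_zero.mpr h.le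
    rw [hP₃d] at this
    exact hp.ne_zero this)
  have hint : IsIntegral K₁ x₀ := ⟨P₃, hP₃, hx₀⟩
  let K₃ := IntermediateField.adjoin K₁ {x₀}
  haveI : FiniteDimensional K₁ K₃ := IntermediateField.adjoin.finiteDimensional hint
  haveI hsep₃ : Algebra.IsSeparable K₁ K₃ := by
    refine (IntermediateField.isSeparable_adjoin_simple_iff_isSeparable (F := K₁) (E := AlgebraicClosure K₁)).mpr ?_
    refine Separable.of_dvd ?_ (minpoly.dvd K₁ x₀ hx₀)
    rw [separable_def]
    refine ⟨0, Polynomial.C (-c)⁻¹, ?_⟩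
    have : derivative P₃ = Polynomial.C (-c) := by
      simp [P₃, derivative_X_pow, CharP.cast_eq_zero]
    rw [this, zero_mul, zero_add, ← map_mul, inv_mul_cancel₀ (neg_ne_zero.mpr hc0), map_one]
  let x₃ : K₃ := IntermediateField.AdjoinSimple.gen K₁ x₀
  have hx₃root : aeval x₃ P₃ = 0 := Subtype.ext (by
    rw [← IntermediateField.aeval_coe, IntermediateField.AdjoinSimple.coe_gen, hx₀]; rfl)
  have hx₃ : x₃ ^ p = algebraMap K₁ K₃ a + algebraMap K₁ K₃ c * x₃ := by
    have h := hx₃root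
    simp only [P₃, map_add, map_sub, map_mul, map_pow, aeval_X, aeval_C, map_neg] at h
    linear_combination h
  have hspan₃ : ∀ e : K₃, ∃ k : Fin p → K₁, e = ∑ i, algebraMap K₁ K₃ (k i) * x₃ ^ (i : ℕ) := by
    intro e
    have he : e ∈ Algebra.adjoin K₁ {x₃} := by
      have h1 : (e : AlgebraicClosure K₁) ∈ Algebra.adjoin K₁ {x₀} := by
        rw [← IntermediateField.adjoin_simple_toSubalgebra_of_isAlgebraic hint.isAlgebraic]; exact e.2
      rw [show ({x₀} : Set (AlgebraicClosure K₁)) = K₃.val '' {x₃} by rw [Set.image_singleton]; rfl,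
        Algebra.adjoin_image] at h1
      obtain ⟨e', he', heq⟩ := h1
      rwa [← Subtype.ext (show (e' : AlgebraicClosure K₁) = e from heq)]
    rw [Algebra.adjoin_singleton_eq_range_aeval] at he
    obtain ⟨Q, rfl⟩ := he
    refine ⟨fun i => (Q %ₘ P₃).coeff i, ?_⟩
    show aeval x₃ Q = _
    rw [← aeval_modByMonic_eq_self_of_root (p := Q) hx₃root]
    rw [aeval_eq_sum_range' (n := p) (by
      rw [← hP₃d]; exact natDegree_modByMonic_lt _ hP₃ (fun h => by rw [h, natDegree_one] at hP₃d; exact hp.ne_zero hP₃d.symm)),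
      ← Fin.sum_univ_eq_sum_range (fun i => (Q %ₘ P₃).coeff i • x₃ ^ i)]
    simp [Algebra.smul_def]
  letI : Algebra K K₃ := ((algebraMap K₁ K₃).comp (algebraMap K K₁)).toAlgebra
  haveI : IsScalarTower K K₁ K₃ := IsScalarTower.of_algebraMap_eq fun _ => rfl
  refine ⟨K₃, inferInstance, inferInstance, inferInstance, inferInstance, inferInstance, hsep₃, ?_⟩
  intro F _ _ _ _ _ _ hgen W₃ hW₃
  letI : Algebra K₁ F := ((algebraMap K₃ F).comp (algebraMap K₁ K₃)).toAlgebra
  haveI : IsScalarTower K₁ K₃ F := IsScalarTower.of_algebraMap_eq fun _ => rfl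
  haveI : IsScalarTower K K₁ F := IsScalarTower.of_algebraMap_eq fun k => by
    show _ = algebraMap K₃ F (algebraMap K₁ K₃ (algebraMap K K₁ k))
    rw [← IsScalarTower.algebraMap_apply K K₁ K₃, ← IsScalarTower.algebraMap_apply K K₃ F]
  let μ : R →ₐ[L] F := Algebra.TensorProduct.lift (Algebra.ofId L F) (IsScalarTower.toAlgHom K K₁ F) fun _ _ => Commute.all _ _
  have hμγ : ∀ k, μ (γ k) = algebraMap K₁ F k := fun k => by
    show algebraMap L F 1 * algebraMap K₁ F k = _
    rw [map_one, one_mul]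
  haveI : (RingHom.ker μ).IsPrime := RingHom.ker_isPrime _
  haveI : (RingHom.ker μ).IsMaximal := IsArtinianRing.isMaximal_of_isPrime _
  let m₀ : MaximalSpectrum R := ⟨RingHom.ker μ, inferInstance⟩
  let tF : F := algebraMap L F (algebraMap K L (algebraMap A K πA))
  have htF : algebraMap K₁ F (algebraMap A K₁ πA) = tF := by
    rw [IsScalarTower.algebraMap_apply A K K₁, ← IsScalarTower.algebraMap_apply K K₁ F, IsScalarTower.algebraMap_apply K L F]
  let x : F := algebraMap K₃ F x₃
  have hxF : x ^ p = algebraMap K₁ F a + tF ^ N₀ * x := by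
    show algebraMap K₃ F x₃ ^ p = _
    rw [← map_pow, hx₃, map_add (algebraMap K₃ F), map_mul (algebraMap K₃ F) (algebraMap K₁ K₃ c), ← htF,
      ← map_pow (algebraMap K₁ F)]
    rfl
  haveI : CharP F p := charP_of_injective_algebraMap (algebraMap L F).injective p
  refine hNm m₀ F μ hμγ rfl x N₀ (hN₀ m₀) hxF ?_ W₃ hW₃ K₃ (algebraMap K₃ F) (fun e => ?_) (fun k => ⟨∑ i, algebraMap K₁ K₃ (k i) * x₃ ^ (i : ℕ), ?_⟩)
  · refine top_le_iff.mp (hgen ▸ Algebra.adjoin_le ?_)
    rintro _ ⟨e, rfl⟩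
    obtain ⟨k, rfl⟩ := hspan₃ e
    rw [map_sum]
    refine Subalgebra.sum_mem _ fun i _ => ?_
    rw [map_mul, map_pow, ← IsScalarTower.algebraMap_apply K₁ K₃ F]
    exact Subalgebra.mul_mem _ (Algebra.subset_adjoin (Set.mem_union_left _ ⟨k i, rfl⟩)) (Subalgebra.pow_mem _ (Algebra.subset_adjoin (Set.mem_union_right _ (Set.mem_singleton x))) _)
  · obtain ⟨k, rfl⟩ := hspan₃ e
    exact ⟨k, by simp [map_sum, x, IsScalarTower.algebraMap_apply K₁ K₃ F]⟩
  · simp [map_sum, x, IsScalarTower.algebraMap_apply K₁ K₃ F]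
end Groth.Agent.S7151
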