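import Groth.Statements.S1986
import Groth.Agent.S7151
import Groth.Agent.S8209

set_option linter.style.haveILetI false

set_option autoImplicit false
universe u
open EtAlg IntermediateField Polynomial

namespace Groth.Agent.S1986

/-- A finite inseparable extension has an intermediate field below which it is purely inseparable of degree `p`. -/
theorem exists_step (p : ℕ) (hp : p.Prime) (K K₂ : Type u) [Field K] [Field K₂] [Algebra K K₂] [CharP K p]
    [FiniteDimensional K K₂] (hns : ¬ Algebra.IsSeparable K K₂) :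
    ∃ E : IntermediateField K K₂, IsPurelyInseparable E K₂ ∧ Module.finrank E K₂ = p := by
  classical
  haveI := Fact.mk hp
  let S := separableClosure K K₂
  have hS : S ≠ ⊤ := fun h => hns ((separableClosure.eq_top_iff K K₂).mp h)
  obtain ⟨E, ⟨hSE, hEtop⟩, hmax⟩ : ∃ E : IntermediateField K K₂, (S ≤ E ∧ E ≠ ⊤) ∧
      ∀ E' : IntermediateField K K₂, (S ≤ E' ∧ E' ≠ ⊤) → E ≤ E' → E' ≤ E := by
    obtain ⟨E, hE, hmax⟩ := (InvImage.wf (fun E : IntermediateField K K₂ => Module.finrank K K₂ - Module.finrank K E)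
      Nat.lt_wfRel.wf).has_min {E | S ≤ E ∧ E ≠ ⊤} ⟨S, le_rfl, hS⟩
    refine ⟨E, hE, fun E' hE' hle => le_of_eq (IntermediateField.eq_of_le_of_finrank_le hle ?_).symm⟩
    by_contra hlt
    refine hmax E' hE' ?_
    have h2 : Module.finrank K E' ≤ Module.finrank K K₂ := Submodule.finrank_le E'.toSubmodule
    show Module.finrank K K₂ - Module.finrank K E' < Module.finrank K K₂ - Module.finrank K E
    omega
  haveI : CharP E p := charP_of_injective_algebraMap (algebraMap K E).injective p
  haveI : ExpChar E p := ExpChar.prime hp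
  haveI : CharP S p := charP_of_injective_algebraMap (algebraMap K S).injective p
  haveI : ExpChar S p := ExpChar.prime hp
  haveI hpi : IsPurelyInseparable E K₂ := (isPurelyInseparable_iff_pow_mem E p).mpr fun x => by
    haveI : IsPurelyInseparable S K₂ := separableClosure.isPurelyInseparable K K₂
    obtain ⟨n, s, hs⟩ := IsPurelyInseparable.pow_mem S p x
    exact ⟨n, ⟨(s : K₂), hSE s.2⟩, hs⟩
  refine ⟨E, hpi, ?_⟩
  obtain ⟨x, -, hx⟩ := SetLike.exists_of_lt (lt_top_iff_ne_top.mpr hEtop)
  have hex : ∃ n, x ^ p ^ n ∈ E := by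
    obtain ⟨n, e, he⟩ := IsPurelyInseparable.pow_mem E p x
    exact ⟨n, he ▸ e.2⟩
  obtain ⟨m, hm⟩ : ∃ m, Nat.find hex = m + 1 := Nat.exists_eq_succ_of_ne_zero fun h => hx (by
    have := Nat.find_spec hex
    rwa [h, pow_zero, pow_one] at this)
  have hnot : x ^ p ^ m ∉ E := Nat.find_min hex (by omega)
  have hmem : (x ^ p ^ m) ^ p ∈ E := by
    rw [← pow_mul, ← pow_succ, ← hm]
    exact Nat.find_spec hex
  set y : K₂ := x ^ p ^ m
  have htop : E⟮y⟯ = ⊤ := by
    by_contra hne
    have hne' : (E⟮y⟯).restrictScalars K ≠ ⊤ := fun h => hne (restrictScalars_eq_top_iff.mp h)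
    have hle : E ≤ (E⟮y⟯).restrictScalars K := fun z hz => (E⟮y⟯).algebraMap_mem ⟨z, hz⟩
    exact hnot (hmax _ ⟨hSE.trans hle, hne'⟩ hle (mem_adjoin_simple_self E y))
  have hirr : Irreducible (X ^ p - C (⟨y ^ p, hmem⟩ : E)) := X_pow_sub_C_irreducible_of_prime hp fun v hv => hnot (by
    have h1 : (v : K₂) ^ p = y ^ p := congrArg Subtype.val hv
    haveI : CharP K₂ p := charP_of_injective_algebraMap (algebraMap K K₂).injective p
    rw [← frobenius_inj K₂ p (show frobenius K₂ p (v : K₂) = frobenius K₂ p y from h1)]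
    exact v.2)
  have hmin : minpoly E y = X ^ p - C (⟨y ^ p, hmem⟩ : E) :=
    (minpoly.eq_of_irreducible_of_monic hirr (by simp) (monic_X_pow_sub_C _ hp.ne_zero)).symm
  rw [← IntermediateField.finrank_top', ← htop, adjoin.finrank (IsIntegral.of_finite E y), hmin, natDegree_X_pow_sub_C]

/-- Let A -> B be an extension of discrete valuation rings with separable extension of fraction fields
L/K and B a Nagata ring. If some finite extension of K is a solution for A -> B, then some finite
separable extension of K is a solution as well. -/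
theorem result (A B K L : Type u) [CommRing A] [IsDomain A] [IsDiscreteValuationRing A]
    [CommRing B] [IsDomain B] [IsDiscreteValuationRing B] [Algebra A B] [IsLocalHom (algebraMap A B)]
    (hinj : Function.Injective (algebraMap A B))
    [Field K] [Field L] [Algebra A K] [IsFractionRing A K] [Algebra B L] [IsFractionRing B L]
    [Algebra K L] [Algebra A L] [IsScalarTower A K L] [IsScalarTower A B L] [Algebra.IsSeparable K L] (hB : CAlg.IsNagata B)
    (K₂ : Type u) [Field K₂] [Algebra K K₂] [FiniteDimensional K K₂] (h₂ : EtRam.IsSolution B K L K₂) :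
    ∃ (K₃ : Type u) (_ : Field K₃) (_ : Algebra K K₃) (_ : FiniteDimensional K K₃) (_ : Algebra.IsSeparable K K₃),
      EtRam.IsSolution B K L K₃ := by
  classical
  obtain ⟨p, hpchar⟩ := CharP.exists K
  rcases CharP.char_is_prime_or_zero K p with hp | rfl
  swap
  · haveI := CharP.charP_to_charZero K
    exact ⟨K₂, inferInstance, inferInstance, inferInstance, inferInstance, h₂⟩
  haveI : Algebra.IsGeometricallyReduced K L := S8209.isGeometricallyReduced_of_separable K L
  suffices H : ∀ n : ℕ, ∀ (K₂ : Type u) [Field K₂] [Algebra K K₂] [FiniteDimensional K K₂],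
      Field.finInsepDegree K K₂ = n → EtRam.IsSolution B K L K₂ →
      ∃ (K₃ : Type u) (_ : Field K₃) (_ : Algebra K K₃) (_ : FiniteDimensional K K₃) (_ : Algebra.IsSeparable K K₃),
        EtRam.IsSolution B K L K₃ from H _ K₂ rfl h₂
  intro n
  induction n using Nat.strong_induction_on with
  | _ n ih =>
    intro K₂ _ _ _ hn hsol
    by_cases hs : Algebra.IsSeparable K K₂
    · exact ⟨K₂, inferInstance, inferInstance, inferInstance, hs, hsol⟩
    obtain ⟨E, hpi, hdeg⟩ := exists_step p hp K K₂ hs
    obtain ⟨K₃, iF, iK, iE, iT, hfin, hsep, hsol₃⟩ := S7151.result p hp A B K L hinj hB E K₂ hsol hdeg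
    haveI : FiniteDimensional K K₃ := Module.Finite.trans E K₃
    refine ih (Field.finInsepDegree K K₃) ?_ K₃ rfl hsol₃
    rw [← hn, ← Field.finInsepDegree_mul_finInsepDegree_of_isAlgebraic K E K₂,
      ← Field.finInsepDegree_mul_finInsepDegree_of_isAlgebraic K E K₃,
      Algebra.IsSeparable.finInsepDegree_eq E K₃, IsPurelyInseparable.finInsepDegree_eq E K₂, hdeg, mul_one]
    exact lt_mul_of_one_lt_right (Nat.pos_of_ne_zero (NeZero.ne _)) hp.one_lt

end Groth.Agent.S1986
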