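import Groth.Statements.S19879
import Groth.Agent.LVContr.Fix

set_option autoImplicit false
universe u
open LVCorr

namespace Groth.Agent.S19879

open AlgebraicGeometry CategoryTheory CategoryTheory.Limits in
/-- Let k₀ be a finite field with p^e elements, K an algebraic closure of k₀, C₀ a scheme of finite type
over k₀, C = C₀ ×_{k₀} Spec K with its projections, and Fr : C → C the n-th power of the geometric
Frobenius (over K, compatible with the (e·n)-th power of the absolute p-Frobenius of C₀). Let X be
locally of finite type over K and c₁, c₂ : C → X morphisms over K with c₂ locally quasi-finite, and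
let d < p^(e n) be such that for every closed point x of X, with J_x the inverse image under c₂ of
the ideal sheaf of the reduced point x, one has (√J_x)^d ⊂ J_x (so p^(e n) exceeds the ramification
degree of c₂). Then the scheme of fixed points of the twisted correspondence (c₁ ∘ Fr, c₂), namely
the pullback of (c₁ ∘ Fr, c₂) : C → X ×_K X along the diagonal of X, has finite and discrete
underlying topological space. (In the source X, c₁ and c₂ are also defined over k₀ and all schemes
are separated; neither is needed here.) -/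
theorem result {C C₀ X Fx : Scheme.{u}}
    (p : ℕ) [Fact p.Prime] (k₀ : Type u) [Field k₀] [Fintype k₀] [CharP k₀ p] (e : ℕ)
    (hq : Fintype.card k₀ = p ^ e) (K : Type u) [Field K] [Algebra k₀ K] [IsAlgClosure k₀ K]
    (f₀ : C₀ ⟶ Spec (CommRingCat.of k₀)) [LocallyOfFiniteType f₀] [QuasiCompact f₀] [FrobSch.IsCharP C₀ p]
    (πC₀ : C ⟶ C₀) (πK : C ⟶ Spec (CommRingCat.of K))
    (hC : IsPullback πC₀ πK f₀ (Spec.map (CommRingCat.ofHom (algebraMap k₀ K))))
    (n : ℕ) (Fr : C ⟶ C)
    (hFr₀ : Fr ≫ πC₀ = πC₀ ≫ End.asHom (End.of (FrobSch.frob C₀ p) ^ (e * n)))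
    (hFrK : Fr ≫ πK = πK)
    (pX : X ⟶ Spec (CommRingCat.of K)) [LocallyOfFiniteType pX]
    (c₁ c₂ : C ⟶ X) (hc₁ : c₁ ≫ pX = πK) (hc₂ : c₂ ≫ pX = πK)
    [LocallyQuasiFinite c₂] [LocallyOfFiniteType c₂]
    (hcomm : (Fr ≫ c₁) ≫ pX = c₂ ≫ pX) (d : ℕ) (hn : d < p ^ (e * n))
    (hd : ∀ (x : X) (hx : IsClosed ({x} : Set X)),
      ((Scheme.IdealSheafData.vanishingIdeal ⟨{x}, hx⟩).comap c₂).radical ^ d ≤
        (Scheme.IdealSheafData.vanishingIdeal ⟨{x}, hx⟩).comap c₂)
    (i : Fx ⟶ C) (δ : Fx ⟶ X) (hF : IsPullback i δ (pullback.lift (Fr ≫ c₁) c₂ hcomm) (pullback.diagonal pX)) :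
    Finite Fx ∧ DiscreteTopology Fx := by
  have : LocallyOfFiniteType πK := MorphismProperty.of_isPullback hC inferInstance
  have : QuasiCompact πK := MorphismProperty.of_isPullback hC inferInstance
  have : IsLocallyNoetherian C := LocallyOfFiniteType.isLocallyNoetherian πK
  have : CompactSpace C := QuasiCompact.compactSpace_of_compactSpace πK
  have : IsNoetherian C := ⟨⟩
  have : IsImmersion i := MorphismProperty.of_isPullback hF.flip inferInstance
  have : TopologicalSpace.NoetherianSpace Fx :=
    Topology.IsInducing.noetherianSpace i.isEmbedding.isInducing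
  have hi₂ : i ≫ c₂ = δ := by
    have := hF.w =≫ pullback.snd pX pX
    simp only [Category.assoc] at this
    erw [pullback.lift_snd, pullback.diagonal_snd, Category.comp_id] at this
    exact this
  have : LocallyOfFiniteType δ := by rw [← hi₂]; infer_instance
  have : JacobsonSpace X := LocallyOfFiniteType.jacobsonSpace pX
  have : JacobsonSpace Fx := LocallyOfFiniteType.jacobsonSpace δ
  have hopen : ∀ y : Fx, IsClosed ({y} : Set Fx) → IsOpen ({y} : Set Fx) := by
    intro y hy
    have hx : IsClosed ({δ.base y} : Set X) := δ.closePoints_subset_preimage_closedPoints hy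
    obtain ⟨W, hW, -, k, hk⟩ := Groth.Agent.LVContr.exists_contracting p k₀ e hq K f₀ πC₀ πK hC n Fr hFr₀ hFrK
      pX c₁ c₂ hcomm d hn (δ.base y) hx (hd _ hx)
    have hW' : Set.range i.base ⊆ (W : Set C) := by
      rintro _ ⟨z, rfl⟩
      refine hW ⟨δ.base z, ?_⟩
      rw [← TopCat.comp_app, ← TopCat.comp_app, ← Scheme.Hom.comp_base, ← Scheme.Hom.comp_base, hF.w]
    have ho := (Groth.Agent.LVContr.isClopen_support_fix pX _ _ hcomm i δ hF _ W hW' k hk).2
    rw [Scheme.IdealSheafData.coe_support_vanishingIdeal] at ho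
    replace ho : IsOpen (δ.base ⁻¹' {δ.base y}) := ho
    have hdisc : _root_.IsDiscrete (δ.base ⁻¹' {δ.base y}) := by
      have h1 : δ.base ⁻¹' {δ.base y} = i.base ⁻¹' (c₂.base ⁻¹' {δ.base y}) := by
        rw [← hi₂]; rfl
      rw [h1]
      exact (c₂.isDiscrete_preimage_singleton _).preimage i.continuous.continuousOn i.isEmbedding.injective
    have : DiscreteTopology ↥(δ.base ⁻¹' {δ.base y}) := hdisc.to_subtype
    have h2 := ho.isOpenEmbedding_subtypeVal.isOpenMap {⟨y, rfl⟩} (isOpen_discrete _)
    rwa [Set.image_singleton] at h2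
  have hall : ∀ z : Fx, IsClosed ({z} : Set Fx) := by
    intro z
    obtain ⟨y, hy, hyc⟩ := nonempty_inter_closedPoints (Z := closure ({z} : Set Fx))
      ⟨z, subset_closure rfl⟩ isClosed_closure.isLocallyClosed
    obtain ⟨w, hw, hwz⟩ := mem_closure_iff.1 hy {y} (hopen y hyc) rfl
    obtain rfl : w = z := hwz
    obtain rfl : w = y := hw
    exact hyc
  have : DiscreteTopology Fx := discreteTopology_iff_isOpen_singleton.2 fun z => hopen z (hall z)
  exact ⟨finite_of_compact_of_discrete, inferInstance⟩

end Groth.Agent.S19879
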