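import Groth.Statements.S1988
import Groth.Agent.HensEt88.SolutionDescend

set_option linter.style.haveILetI false

set_option autoImplicit false
universe u
open EtAlg

namespace Groth.Agent.S1988

/-- Let A -> B -> C be extensions of discrete valuation rings (local injective maps) with fraction
fields K ⊂ L ⊂ M₀ and K₁/K a finite extension. (The solution predicates mention only B, C and the
fields: in them the bottom ring is recovered as B ∩ K, which the hypotheses on A force to be A.) If
K₁ is a weak solution (resp. a solution) for A -> C then it is a weak solution (resp. a solution)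
for A -> B. -/
theorem result (A B C K L M₀ K₁ : Type u) [CommRing A] [IsDomain A] [IsDiscreteValuationRing A]
    [CommRing B] [IsDomain B] [IsDiscreteValuationRing B] [Algebra A B] [IsLocalHom (algebraMap A B)]
    (hinjA : Function.Injective (algebraMap A B))
    [CommRing C] [IsDomain C] [IsDiscreteValuationRing C] [Algebra B C] [IsLocalHom (algebraMap B C)]
    (hinj : Function.Injective (algebraMap B C))
    [Field K] [Field L] [Field M₀] [Field K₁] [Algebra K L] [Algebra K M₀] [Algebra L M₀] [IsScalarTower K L M₀]
    [Algebra K K₁] [FiniteDimensional K K₁] [Algebra A K] [IsFractionRing A K]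
    [Algebra B L] [IsFractionRing B L] [Algebra A L] [IsScalarTower A K L] [IsScalarTower A B L]
    [Algebra C M₀] [IsFractionRing C M₀] [Algebra B M₀]
    [IsScalarTower B C M₀] [IsScalarTower B L M₀] :
    (EtRam.IsWeakSolution C K M₀ K₁ → EtRam.IsWeakSolution B K L K₁) ∧
    (EtRam.IsSolution C K M₀ K₁ → EtRam.IsSolution B K L K₁) := by
  classical
  have hBinj : Function.Injective (algebraMap B L) := IsFractionRing.injective B L
  have key : ∀ (M : Type u) [Field M] [Algebra K M] [Algebra L M] [Algebra K₁ M] [IsScalarTower K L M]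
      [IsScalarTower K K₁ M], Algebra.adjoin L (Set.range (algebraMap K₁ M)) = ⊤ →
      ∀ (W : ValuationSubring M), EtRam.Dominates B ((algebraMap L M).comp (algebraMap B L)) W →
      ∃ (M' : Type u) (_ : Field M') (_ : Algebra K M') (_ : Algebra M₀ M') (_ : Algebra K₁ M')
        (_ : IsScalarTower K M₀ M') (_ : IsScalarTower K K₁ M') (g : M →+* M') (W' : ValuationSubring M'),
        Algebra.adjoin M₀ (Set.range (algebraMap K₁ M')) = ⊤ ∧
        EtRam.Dominates C ((algebraMap M₀ M').comp (algebraMap C M₀)) W' ∧
        algebraMap K₁ M' = g.comp (algebraMap K₁ M) ∧ W'.comap g = W := by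
    intro M _ _ _ _ _ _ hgen W hW
    obtain ⟨F, fF, jM, j₀, W', hcomm, hW', hdom⟩ := HensEt88.exists_common_valuationSubring B C M hinj
      ((algebraMap L M).comp (algebraMap B L)) ((algebraMap L M).injective.comp hBinj) W hW M₀
    letI : Algebra M₀ F := j₀.toAlgebra
    letI : Algebra K₁ F := (jM.comp (algebraMap K₁ M)).toAlgebra
    letI : Algebra K F := (j₀.comp (algebraMap K M₀)).toAlgebra
    haveI : IsScalarTower K M₀ F := .of_algebraMap_eq' rfl
    have hL : jM.comp (algebraMap L M) = j₀.comp (algebraMap L M₀) := IsFractionRing.ringHom_ext (A := B) fun b => by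
      show jM (algebraMap L M (algebraMap B L b)) = j₀ (algebraMap L M₀ (algebraMap B L b))
      rw [← IsScalarTower.algebraMap_apply B L M₀, IsScalarTower.algebraMap_apply B C M₀]
      exact hcomm b
    haveI : IsScalarTower K K₁ F := .of_algebraMap_eq fun x => by
      show j₀ (algebraMap K M₀ x) = jM (algebraMap K₁ M (algebraMap K K₁ x))
      rw [← IsScalarTower.algebraMap_apply K K₁ M, IsScalarTower.algebraMap_apply K L M,
        IsScalarTower.algebraMap_apply K L M₀]
      exact (RingHom.congr_fun hL _).symm
    let M' := IntermediateField.adjoin M₀ (Set.range (algebraMap K₁ F))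
    have hmemK₁ : ∀ x, algebraMap K₁ F x ∈ M' := fun x => IntermediateField.subset_adjoin M₀ _ ⟨x, rfl⟩
    have hmem : ∀ m, jM m ∈ M' := by
      intro m
      have hm : m ∈ Algebra.adjoin L (Set.range (algebraMap K₁ M)) := hgen ▸ Algebra.mem_top
      induction hm using Algebra.adjoin_induction with
      | mem x hx => obtain ⟨x, rfl⟩ := hx; exact hmemK₁ x
      | algebraMap r =>
        rw [show jM (algebraMap L M r) = algebraMap M₀ F (algebraMap L M₀ r) from RingHom.congr_fun hL r]
        exact M'.algebraMap_mem _
      | add x y _ _ hx hy => rw [map_add]; exact add_mem hx hy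
      | mul x y _ _ hx hy => rw [map_mul]; exact mul_mem hx hy
    letI : Algebra K₁ M' := ((algebraMap K₁ F).codRestrict M'.toSubalgebra.toSubring hmemK₁).toAlgebra
    letI : Algebra K M' := ((algebraMap M₀ M').comp (algebraMap K M₀)).toAlgebra
    haveI : IsScalarTower K M₀ M' := .of_algebraMap_eq' rfl
    haveI : IsScalarTower K K₁ M' := .of_algebraMap_eq fun x => Subtype.ext (IsScalarTower.algebraMap_apply K K₁ F x)
    let g : M →+* M' := jM.codRestrict M'.toSubalgebra.toSubring hmem
    refine ⟨M', inferInstance, inferInstance, inferInstance, inferInstance, inferInstance, inferInstance, g,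
      W'.comap M'.val.toRingHom, ?_, ?_, RingHom.ext fun x => Subtype.ext rfl, ?_⟩
    · refine top_le_iff.mp ?_
      rintro ⟨y, hy⟩ -
      have halg : ∀ x ∈ Set.range (algebraMap K₁ F), IsAlgebraic M₀ x := by
        rintro _ ⟨x, rfl⟩
        exact (((IsIntegral.of_finite K x).map (IsScalarTower.toAlgHom K K₁ F)).tower_top).isAlgebraic
      have hy' : y ∈ Algebra.adjoin M₀ (Set.range (algebraMap K₁ F)) :=
        IntermediateField.adjoin_toSubalgebra_of_isAlgebraic halg ▸ hy
      have hrange : Set.range (algebraMap K₁ F) = M'.val '' Set.range (algebraMap K₁ M') := by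
        rw [← Set.range_comp]
        rfl
      rw [hrange, Algebra.adjoin_image] at hy'
      obtain ⟨z, hz, hzy⟩ := hy'
      exact (Subtype.ext hzy : z = ⟨y, hy⟩) ▸ hz
    · exact HensEt88.dominates_comap M'.val.toRingHom (RingHom.ext fun c => rfl) hdom
    · rw [ValuationSubring.comap_comap]
      exact hW'
  constructor
  · intro h M _ _ _ _ _ _ hgen W hW
    obtain ⟨M', fM', aKM', aM₀, aK₁, t₁, t₂, g, W', hgen', hdom, hg, hWW⟩ := key M hgen W hW
    subst hWW
    have h' := h M' hgen' W' hdom
    rw [hg] at h'
    exact HensEt88.isWeaklyUnramified_comap W' g (algebraMap K₁ M) h'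
  · intro h M _ _ _ _ _ _ hgen W hW
    obtain ⟨M', fM', aKM', aM₀, aK₁, t₁, t₂, g, W', hgen', hdom, hg, hWW⟩ := key M hgen W hW
    subst hWW
    have h' := h M' hgen' W' hdom
    rw [hg] at h'
    exact ⟨HensEt88.isWeaklyUnramified_comap W' g (algebraMap K₁ M) h'.1,
      HensEt88.isGeometricallyReduced_comap W' g (algebraMap K₁ M) h'.2⟩

end Groth.Agent.S1988
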