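import Groth.Statements.S19892
import Groth.Agent.MorLib.DenseValuative
import Groth.Agent.S19891

set_option autoImplicit false
universe u
open CategoryTheory AlgebraicGeometry
open ValCrit

namespace Groth.Agent.S19892

/-- Let h : Z → Y and f : Y → X be morphisms of quasi-compact quasi-separated schemes, with h dominant
and f locally of finite type. Then f is proper if and only if the following refined valuative
criterion holds: for every point z of Z, every valuation ring R of the residue field κ(z) and every
morphism φ : Spec R → X whose restriction to Spec κ(z) is the canonical morphism Spec κ(z) → Z → Y →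
X, there is exactly one morphism Spec R → Y lying over φ and restricting to Spec κ(z) → Z → Y on the
generic point. (The published statement does not require h to be dominant; its proof uses that every
point of Y generalises to a point of h(Z), and for Z empty the criterion holds whatever f is, so
dominance of h is assumed here.) -/
theorem result {X Y Z : Scheme.{u}} (h : Z ⟶ Y) (f : Y ⟶ X)
    [CompactSpace ↥Z] [QuasiSeparatedSpace ↥Z] [CompactSpace ↥Y] [QuasiSeparatedSpace ↥Y]
    [CompactSpace ↥X] [QuasiSeparatedSpace ↥X] (hd : DenseRange h.base)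
    [LocallyOfFiniteType f] :
    IsProper f ↔
      ∀ (z : ↥Z) (R : ValuationSubring ↑(Z.residueField z)) (φ : Spec (CommRingCat.of ↥R) ⟶ X),
        Spec.map (CommRingCat.ofHom R.subtype) ≫ φ = Z.fromSpecResidueField z ≫ h ≫ f →
        ∃! φ' : Spec (CommRingCat.of ↥R) ⟶ Y,
          Spec.map (CommRingCat.ofHom R.subtype) ≫ φ' = Z.fromSpecResidueField z ≫ h ∧ φ' ≫ f = φ := by
  constructor
  · intro hp z R φ w
    have hv : ValuativeCriterion f := by
      rw [IsProper.eq_valuativeCriterion] at hp
      exact hp.1.1.1
    obtain ⟨hu⟩ := hv ⟨↥R, ↑(Z.residueField z), Z.fromSpecResidueField z ≫ h, φ,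
      ⟨by rw [Category.assoc]; exact w.symm⟩⟩
    exact ⟨hu.default.l, ⟨hu.default.fac_left, hu.default.fac_right⟩,
      fun φ' hφ' => congrArg CommSq.LiftStruct.l (hu.eq_default ⟨φ', hφ'.1, hφ'.2⟩)⟩
  · intro H
    have HU : Groth.Agent.MorLib.DenseValuative.UniqueLifts f h := fun u V l₁ l₂ he h₁ h₂ =>
      (H u V (l₁ ≫ f) (by rw [reassoc_of% h₁])).unique ⟨h₁, rfl⟩ ⟨h₂, he.symm⟩
    have HE : Groth.Agent.MorLib.DenseValuative.HasLifts f h := fun u V y hy => by
      obtain ⟨l, ⟨a, b⟩, -⟩ := H u V y hy
      exact ⟨l, b, a⟩
    haveI := Groth.Agent.MorLib.DenseValuative.isSeparated_of_uniqueLifts f h hd HU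
    haveI : UniversallyClosed f := UniversallyClosed.of_valuativeCriterion f
      (Groth.Agent.MorLib.DenseValuative.existence_of_dense f h hd HE HU)
    constructor

end Groth.Agent.S19892
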