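import Groth.Statements.S19907
import Mathlib.RingTheory.Etale.Kaehler
import Mathlib.RingTheory.Etale.StandardEtale
import Mathlib.RingTheory.Smooth.Flat
import Mathlib.FieldTheory.PrimitiveElement
import Mathlib.Algebra.Polynomial.Lifts

set_option autoImplicit false
set_option linter.style.haveILetI false
universe u
open CategoryTheory TensorProduct
open ArtFun

namespace Groth.Agent.S19907

open Algebra Polynomial

set_option maxHeartbeats 1600000 in
theorem aux (Λ S T : Type u) [CommRing Λ] [Field S] [Field T] [Algebra Λ S] [Algebra Λ T]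
    [Algebra S T] [IsScalarTower Λ S T] [FiniteDimensional S T] [Algebra.IsSeparable S T]
    (hsurj : Function.Surjective (algebraMap Λ S)) :
    Function.Bijective ((Algebra.H1Cotangent.map Λ Λ S T).liftBaseChange T) := by
  let pb := Field.powerBasisOfFiniteOfSeparable S T
  obtain ⟨F, hF, -, hFm⟩ := Polynomial.lifts_and_degree_eq_and_monic
    (show minpoly S pb.gen ∈ Polynomial.lifts (algebraMap Λ S) from
      Polynomial.map_surjective _ hsurj (minpoly S pb.gen))
    (minpoly.monic (Algebra.IsIntegral.isIntegral pb.gen))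
  let E : StandardEtalePair Λ := ⟨F, hFm, F.derivative, 1, 0, 1, by ring⟩
  have hα : E.HasMap pb.gen := by
    constructor
    · show aeval pb.gen F = 0
      rw [← aeval_map_algebraMap S, hF, minpoly.aeval]
    · show IsUnit (aeval pb.gen F.derivative)
      rw [← aeval_map_algebraMap S, ← derivative_map, hF]
      exact (Algebra.IsSeparable.isSeparable S pb.gen).aeval_derivative_ne_zero
        (minpoly.aeval _ _) |>.isUnit
  let π : E.Ring →ₐ[Λ] T := E.lift pb.gen hα
  let I : Ideal E.Ring := (RingHom.ker (algebraMap Λ S)).map (algebraMap Λ E.Ring)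
  have hker : RingHom.ker π ≤ I := by
    let j : S →+* E.Ring ⧸ I := RingHom.liftOfSurjective (C := E.Ring ⧸ I) (algebraMap Λ S) hsurj
      ⟨algebraMap Λ (E.Ring ⧸ I), fun a ha => by
        rw [RingHom.mem_ker, IsScalarTower.algebraMap_apply Λ E.Ring (E.Ring ⧸ I),
          Ideal.Quotient.algebraMap_eq, Ideal.Quotient.eq_zero_iff_mem]
        exact Ideal.mem_map_of_mem _ ha⟩
    have hj : j.comp (algebraMap Λ S) = algebraMap Λ (E.Ring ⧸ I) := by
      exact RingHom.liftOfRightInverse_comp _ _ _ _
    let : Algebra S (E.Ring ⧸ I) := j.toAlgebra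
    have : IsScalarTower Λ S (E.Ring ⧸ I) := IsScalarTower.of_algebraMap_eq' hj.symm
    let xb : E.Ring ⧸ I := Ideal.Quotient.mkₐ Λ I E.X
    have hxb : E.HasMap xb := (StandardEtalePair.hasMap_X).map _
    have hy : aeval xb (minpoly S pb.gen) = 0 := by
      rw [← hF, aeval_map_algebraMap]; exact hxb.1
    let s : T →ₐ[S] E.Ring ⧸ I := pb.lift xb hy
    have hs : (s.restrictScalars Λ).comp π = Ideal.Quotient.mkₐ Λ I := by
      refine E.hom_ext ?_
      simp [π, s, xb]
    intro a ha
    rw [← Ideal.Quotient.eq_zero_iff_mem, ← Ideal.Quotient.mkₐ_eq_mk Λ, ← hs]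
    simp [RingHom.mem_ker.mp ha]
  have hπ : Function.Surjective π := by
    intro t
    obtain ⟨p, rfl⟩ := pb.exists_eq_aeval' t
    obtain ⟨p, rfl⟩ := Polynomial.map_surjective _ hsurj p
    exact ⟨aeval E.X p, by rw [← aeval_algHom_apply, aeval_map_algebraMap]; simp [π]⟩
  let P : Extension.{u} Λ S := Extension.ofSurjective (Algebra.ofId Λ S) hsurj
  let Q : Extension.{u} Λ T := Extension.ofSurjective π hπ
  let f : P.Hom Q :=
  { toRingHom := algebraMap Λ E.Ring
    toRingHom_algebraMap := fun x => rfl
    algebraMap_toRingHom := fun x => by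
      show π (algebraMap Λ E.Ring x) = algebraMap S T (algebraMap Λ S x)
      exact (π.commutes _).trans (IsScalarTower.algebraMap_apply Λ S T _) }
  letI alg : Algebra P.Ring Q.Ring := (inferInstance : Algebra Λ E.Ring)
  haveI : FormallySmooth Λ P.Ring := inferInstanceAs (FormallySmooth Λ Λ)
  haveI : FormallySmooth Λ Q.Ring := inferInstanceAs (FormallySmooth Λ E.Ring)
  have hE : f.toRingHom.FormallyEtale := by
    show (algebraMap Λ E.Ring).FormallyEtale
    exact RingHom.formallyEtale_algebraMap.mpr inferInstance
  have H₂ : Function.Bijective ((f.mapKer (alg := alg) rfl).liftBaseChange Q.Ring) := by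
    have : Module.Flat P.Ring Q.Ring := inferInstanceAs (Module.Flat Λ E.Ring)
    let g := (f.mapKer (alg := alg) rfl).liftBaseChange Q.Ring
    have heq : ∀ z, (g z : Q.Ring) =
        TensorProduct.rid P.Ring Q.Ring (LinearMap.lTensor Q.Ring P.ker.subtype z) := by
      intro z
      induction z using TensorProduct.induction_on with
      | zero => simp
      | tmul e x =>
        simp only [g, LinearMap.liftBaseChange_tmul, LinearMap.lTensor_tmul,
          TensorProduct.rid_tmul, SetLike.val_smul, Submodule.subtype_apply,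
          smul_eq_mul, Algebra.smul_def]
        exact mul_comm _ _
      | add a b ha hb => simp only [map_add, ← ha, ← hb, Submodule.coe_add]
    constructor
    · intro a b hab
      refine Module.Flat.lTensor_preserves_injective_linearMap _ P.ker.subtype_injective
        ((TensorProduct.rid P.Ring Q.Ring).injective ?_)
      rw [← heq, ← heq]
      exact congrArg Subtype.val hab
    · rintro ⟨x, hx⟩
      have hxI : x ∈ P.ker.map (algebraMap P.Ring Q.Ring) := hker (RingHom.mem_ker.mpr hx)
      suffices ∀ y ∈ P.ker.map (algebraMap P.Ring Q.Ring), ∃ z, (g z : Q.Ring) = y by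
        obtain ⟨z, hz⟩ := this x hxI
        exact ⟨z, Subtype.ext hz⟩
      intro y hy
      induction hy using Submodule.span_induction with
      | mem y hy =>
        obtain ⟨a, ha, rfl⟩ := hy
        refine ⟨(1 : Q.Ring) ⊗ₜ (⟨a, ha⟩ : P.ker), ?_⟩
        simp only [g, LinearMap.liftBaseChange_tmul, one_smul]
        rfl
      | zero => exact ⟨0, by simp⟩
      | add a b _ _ ha hb =>
        obtain ⟨za, rfl⟩ := ha
        obtain ⟨zb, rfl⟩ := hb
        exact ⟨za + zb, by simp⟩
      | smul c a _ ha =>
        obtain ⟨za, rfl⟩ := ha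
        exact ⟨c • za, by simp⟩
  haveI : Module.Flat S T := inferInstance
  let e₁ := P.equivH1CotangentOfFormallySmooth
  let e₂ := Q.equivH1CotangentOfFormallySmooth
  let e := Extension.tensorH1CotangentOfFormallyEtale f (alg := alg) rfl hE H₂
  let E' := (LinearEquiv.baseChange S T _ _ e₁.symm) ≪≫ₗ e ≪≫ₗ e₂
  have : (Algebra.H1Cotangent.map Λ Λ S T).liftBaseChange T = E'.toLinearMap := by
    ext x : 3
    simp only [AlgebraTensorModule.curry_apply, TensorProduct.curry_apply,
      LinearMap.coe_restrictScalars, LinearMap.liftBaseChange_tmul, one_smul, LinearEquiv.coe_coe]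
    show _ = e₂ (e (1 ⊗ₜ e₁.symm x))
    rw [show e (1 ⊗ₜ e₁.symm x) = Extension.H1Cotangent.map f (e₁.symm x) by
      simp only [e, Extension.tensorH1CotangentOfFormallyEtale]
      erw [LinearEquiv.ofBijective_apply]
      simp]
    haveI : FormallySmooth Λ (Generators.self Λ T).toExtension.Ring :=
      inferInstanceAs (FormallySmooth Λ (MvPolynomial T Λ))
    haveI : FormallySmooth Λ (Generators.self Λ S).toExtension.Ring :=
      inferInstanceAs (FormallySmooth Λ (MvPolynomial S Λ))
    refine ((LinearEquiv.symm_apply_eq _).mp ?_)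
    simp only [e₁, e₂, Extension.equivH1CotangentOfFormallySmooth,
      Extension.H1Cotangent.equivOfFormallySmooth_symm]
    rw [Extension.H1Cotangent.equivOfFormallySmooth_apply (f := Q.defaultHom),
      Extension.H1Cotangent.equivOfFormallySmooth_apply (f := P.defaultHom),
      Algebra.H1Cotangent.map, ← Extension.H1Cotangent.map_comp_apply,
      ← Extension.H1Cotangent.map_comp_apply, Extension.H1Cotangent.map_eq]
  rw [this]
  exact E'.bijective


/-- Let Λ be a Noetherian ring with a finite ring map to a field k, let k' ⊂ k be the image of Λ and m_Λ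
the kernel, so that m_Λ/m_Λ² = H₁(L_{k'/Λ}) (Λ → k' being surjective with kernel m_Λ). If k is
separable over k', the canonical map m_Λ/m_Λ² ⊗_{k'} k → H₁(L_{k/Λ}) is an isomorphism. Stated for
H₁(L_{k'/Λ}) in place of m_Λ/m_Λ²: the k-linear base change of the functoriality map H₁(L_{k'/Λ}) →
H₁(L_{k/Λ}) is bijective. (The general construction of the map and the case k = k' are the other
assertions of the source; only the separable case is stated here.) -/
theorem result {Λ : Type u} {k : Type u} [CommRing Λ] [Field k] [Algebra Λ k]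
    [IsNoetherianRing Λ] [Module.Finite Λ k]
    [Algebra.IsSeparable (↥(algebraMap Λ k).range) k] :
    letI : Algebra Λ (↥(algebraMap Λ k).range) := (algebraMap Λ k).rangeRestrict.toAlgebra
    letI : IsScalarTower Λ (↥(algebraMap Λ k).range) k := IsScalarTower.of_algebraMap_eq (fun _ ↦ rfl)
    Function.Bijective ((Algebra.H1Cotangent.map Λ Λ (↥(algebraMap Λ k).range) k).liftBaseChange k) := by
  let : Algebra Λ (↥(algebraMap Λ k).range) := (algebraMap Λ k).rangeRestrict.toAlgebra
  haveI : IsScalarTower Λ (↥(algebraMap Λ k).range) k := IsScalarTower.of_algebraMap_eq (fun _ ↦ rfl)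
  let K := ↥(algebraMap Λ k).range
  haveI : Module.Finite K k := Module.Finite.of_restrictScalars_finite Λ K k
  have hK : IsField K :=
    isField_of_isIntegral_of_isField (S := k) (Subtype.val_injective) (Field.toIsField k)
  letI : Field K := hK.toField
  exact aux Λ K k (RingHom.rangeRestrict_surjective _)

end Groth.Agent.S19907
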