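import Groth.Statements.S1991
import Groth.Agent.S1989
import Groth.Agent.S1990
import Groth.Agent.HensEt88.TameCompositum

set_option autoImplicit false
set_option linter.style.haveILetI false
universe u
open EtAlg TensorProduct

namespace Groth.Agent.S1991

variable (A K : Type u) [CommRing A] [IsDomain A] [IsDiscreteValuationRing A] [Field K] [Algebra A K] [IsFractionRing A K]

theorem compositum_step (L₁ L₂ M : Type u) [Field L₁] [Field L₂] [Field M] [Algebra K L₁] [Algebra K L₂] [Algebra K M]
    [Algebra L₁ M] [Algebra L₂ M] [IsScalarTower K L₁ M] [IsScalarTower K L₂ M]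
    [FiniteDimensional K L₁] [Algebra.IsSeparable K L₁] [FiniteDimensional K L₂] [Algebra.IsSeparable K L₂]
    (hgen : Algebra.adjoin L₁ (Set.range (algebraMap L₂ M)) = ⊤) :
    (EtRam.IsUnramifiedExt A ((algebraMap K L₁).comp (algebraMap A K)) →
      EtRam.IsUnramifiedExt A ((algebraMap K L₂).comp (algebraMap A K)) →
      EtRam.IsUnramifiedExt A ((algebraMap K M).comp (algebraMap A K))) ∧
    (EtRam.IsTamelyRamified A ((algebraMap K L₁).comp (algebraMap A K)) →
      EtRam.IsTamelyRamified A ((algebraMap K L₂).comp (algebraMap A K)) →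
      EtRam.IsTamelyRamified A ((algebraMap K M).comp (algebraMap A K))) := by
  obtain ⟨hfd, hsep⟩ := HensEt88.finite_separable_of_gen K L₁ L₂ M hgen
  haveI : FiniteDimensional K M := FiniteDimensional.trans K L₁ M
  haveI : Algebra.IsSeparable K M := Algebra.IsSeparable.trans K L₁ M
  letI : Algebra A L₁ := ((algebraMap K L₁).comp (algebraMap A K)).toAlgebra
  haveI : IsScalarTower A K L₁ := .of_algebraMap_eq' rfl
  letI : Algebra A L₂ := ((algebraMap K L₂).comp (algebraMap A K)).toAlgebra
  haveI : IsScalarTower A K L₂ := .of_algebraMap_eq' rfl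
  letI : Algebra A M := ((algebraMap K M).comp (algebraMap A K)).toAlgebra
  haveI : IsScalarTower A L₂ M := .of_algebraMap_eq fun a => IsScalarTower.algebraMap_apply K L₂ M _
  constructor
  · intro h₁ h₂
    refine (S1990.result A K L₁ M).2 h₁ fun V hV => ?_
    haveI := HensEt88.isDiscreteValuationRing_of_dominates hV
    letI : Algebra A V := (RingHom.codRestrict ((algebraMap K L₁).comp (algebraMap A K)) V hV.1).toAlgebra
    haveI : IsLocalHom (algebraMap A V) := HensEt88.Dominates.isLocalHom hV
    letI : Algebra V M := ((algebraMap L₁ M).comp V.subtype).toAlgebra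
    haveI : IsScalarTower V L₁ M := .of_algebraMap_eq' rfl
    haveI : IsScalarTower A V M := .of_algebraMap_eq fun a => IsScalarTower.algebraMap_apply K L₁ M _
    exact HensEt88.isUnramifiedExt_compositum (K := K) (K' := L₂) (L := L₁) h₂ hgen
  · intro h₁ h₂
    refine (S1990.result A K L₁ M).1 h₁ fun V hV => ?_
    haveI := HensEt88.isDiscreteValuationRing_of_dominates hV
    letI : Algebra A V := (RingHom.codRestrict ((algebraMap K L₁).comp (algebraMap A K)) V hV.1).toAlgebra
    haveI : IsLocalHom (algebraMap A V) := HensEt88.Dominates.isLocalHom hV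
    haveI : IsScalarTower A V L₁ := .of_algebraMap_eq fun a => rfl
    exact HensEt88.isTamelyRamified_compositum (K := K) (K' := L₂) (B := V) (L := L₁) (F := M) h₂ hgen

theorem sup_step {N : Type u} [Field N] [Algebra K N] (E₁ E₂ : IntermediateField K N)
    [FiniteDimensional K E₁] [Algebra.IsSeparable K E₁] [FiniteDimensional K E₂] [Algebra.IsSeparable K E₂] :
    (EtRam.IsUnramifiedExt A ((algebraMap K E₁).comp (algebraMap A K)) →
      EtRam.IsUnramifiedExt A ((algebraMap K E₂).comp (algebraMap A K)) →
      EtRam.IsUnramifiedExt A ((algebraMap K ↥(E₁ ⊔ E₂)).comp (algebraMap A K))) ∧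
    (EtRam.IsTamelyRamified A ((algebraMap K E₁).comp (algebraMap A K)) →
      EtRam.IsTamelyRamified A ((algebraMap K E₂).comp (algebraMap A K)) →
      EtRam.IsTamelyRamified A ((algebraMap K ↥(E₁ ⊔ E₂)).comp (algebraMap A K))) := by
  let M := ↥(E₁ ⊔ E₂)
  letI : Algebra E₁ M := (IntermediateField.inclusion (le_sup_left : E₁ ≤ E₁ ⊔ E₂)).toRingHom.toAlgebra
  letI : Algebra E₂ M := (IntermediateField.inclusion (le_sup_right : E₂ ≤ E₁ ⊔ E₂)).toRingHom.toAlgebra
  haveI : IsScalarTower K E₁ M := .of_algebraMap_eq fun _ => rfl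
  haveI : IsScalarTower K E₂ M := .of_algebraMap_eq fun _ => rfl
  refine compositum_step A K E₁ E₂ M (top_le_iff.mp ?_)
  rintro ⟨y, hy⟩ -
  have h1 : y ∈ E₁.toSubalgebra ⊔ E₂.toSubalgebra :=
    IntermediateField.sup_toSubalgebra_of_left E₁ E₂ ▸ hy
  let S := Algebra.adjoin E₁ (Set.range (algebraMap E₂ M))
  have h2 : E₁.toSubalgebra ⊔ E₂.toSubalgebra ≤ (S.restrictScalars K).map (E₁ ⊔ E₂).val := by
    refine sup_le ?_ ?_
    · intro x hx
      exact ⟨algebraMap E₁ M ⟨x, hx⟩, Subalgebra.algebraMap_mem S _, rfl⟩
    · intro x hx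
      exact ⟨algebraMap E₂ M ⟨x, hx⟩, Algebra.subset_adjoin ⟨_, rfl⟩, rfl⟩
  obtain ⟨⟨z, hz⟩, hzS, hzy⟩ := h2 h1
  have : z = y := hzy
  subst this
  exact hzS

theorem finset_sup_step {N : Type u} [Field N] [Algebra K N] [FiniteDimensional K N] [Algebra.IsSeparable K N]
    {ι : Type*} (E : ι → IntermediateField K N) (s : Finset ι)
    (hbot : EtRam.IsUnramifiedExt A ((algebraMap K (⊥ : IntermediateField K N)).comp (algebraMap A K))) :
    ((∀ i, EtRam.IsUnramifiedExt A ((algebraMap K (E i)).comp (algebraMap A K))) →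
      EtRam.IsUnramifiedExt A ((algebraMap K ↥(s.sup E)).comp (algebraMap A K))) ∧
    ((∀ i, EtRam.IsTamelyRamified A ((algebraMap K (E i)).comp (algebraMap A K))) →
      EtRam.IsTamelyRamified A ((algebraMap K ↥(s.sup E)).comp (algebraMap A K))) := by
  classical
  induction s using Finset.induction_on with
  | empty =>
    rw [Finset.sup_empty]
    exact ⟨fun _ => hbot, fun _ => HensEt88.isTamelyRamified_of_isUnramifiedExt hbot⟩
  | insert i s hi ih =>
    rw [Finset.sup_insert]
    exact ⟨fun h => (sup_step A K (E i) (s.sup E)).1 (h i) (ih.1 h),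
      fun h => (sup_step A K (E i) (s.sup E)).2 (h i) (ih.2 h)⟩

theorem unramified_self (L : Type u) [Field L] [Algebra K L] (hs : Function.Surjective (algebraMap K L)) :
    EtRam.IsUnramifiedExt A ((algebraMap K L).comp (algebraMap A K)) := by
  intro V hV
  letI : Algebra A V := (RingHom.codRestrict ((algebraMap K L).comp (algebraMap A K)) V hV.1).toAlgebra
  intro _
  obtain ⟨t, ht⟩ := IsDiscreteValuationRing.exists_irreducible A
  let ψ := (algebraMap K L).comp (algebraMap A K)
  have h0 : ψ t ≠ 0 := (_root_.map_ne_zero (algebraMap K L)).mpr ((map_ne_zero_iff _ (IsFractionRing.injective A K)).mpr ht.ne_zero)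
  have hbij : Function.Bijective (algebraMap A V) :=
    HensEt88.bijective_codRestrict_of_model ht.maximalIdeal_eq ψ h0 V hV.1 ‹_› fun y => by
      obtain ⟨x, rfl⟩ := hs y
      obtain ⟨a, b, hb, rfl⟩ := IsFractionRing.div_surjective (A := A) x
      refine ⟨a, b, (_root_.map_ne_zero (algebraMap K L)).mpr (IsFractionRing.to_map_ne_zero_of_mem_nonZeroDivisors hb), ?_⟩
      show algebraMap K L _ = algebraMap K L _ * algebraMap K L _
      rw [← map_mul, div_mul_cancel₀ _ (IsFractionRing.to_map_ne_zero_of_mem_nonZeroDivisors hb)]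
  refine ⟨IsLocalRing.map_maximalIdeal_of_surjective _ hbij.2, ⟨fun y => ?_⟩⟩
  obtain ⟨v, rfl⟩ := IsLocalRing.residue_surjective y
  obtain ⟨a, rfl⟩ := hbij.2 v
  exact isSeparable_algebraMap (IsLocalRing.residue A a)

/-- Let A be a discrete valuation ring with fraction field K. A finite separable extension L/K that is
unramified (resp. tamely ramified) with respect to A embeds over K into a finite Galois extension of
K that is unramified (resp. tamely ramified) with respect to A; and two finite separable extensions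
of K that are unramified (resp. tamely ramified) with respect to A embed over K into a common finite
separable extension with the same property. -/
theorem result (A K : Type u) [CommRing A] [IsDomain A] [IsDiscreteValuationRing A] [Field K] [Algebra A K] [IsFractionRing A K] :
    (∀ (L : Type u) [Field L] [Algebra K L] [FiniteDimensional K L] [Algebra.IsSeparable K L],
      (EtRam.IsUnramifiedExt A ((algebraMap K L).comp (algebraMap A K)) →
        ∃ (M : Type u) (_ : Field M) (_ : Algebra K M) (_ : FiniteDimensional K M) (_ : IsGalois K M) (_ : L →ₐ[K] M),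
          EtRam.IsUnramifiedExt A ((algebraMap K M).comp (algebraMap A K))) ∧
      (EtRam.IsTamelyRamified A ((algebraMap K L).comp (algebraMap A K)) →
        ∃ (M : Type u) (_ : Field M) (_ : Algebra K M) (_ : FiniteDimensional K M) (_ : IsGalois K M) (_ : L →ₐ[K] M),
          EtRam.IsTamelyRamified A ((algebraMap K M).comp (algebraMap A K)))) ∧
    (∀ (L₁ L₂ : Type u) [Field L₁] [Field L₂] [Algebra K L₁] [Algebra K L₂] [FiniteDimensional K L₁] [FiniteDimensional K L₂]
      [Algebra.IsSeparable K L₁] [Algebra.IsSeparable K L₂],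
      (EtRam.IsUnramifiedExt A ((algebraMap K L₁).comp (algebraMap A K)) →
        EtRam.IsUnramifiedExt A ((algebraMap K L₂).comp (algebraMap A K)) →
        ∃ (M : Type u) (_ : Field M) (_ : Algebra K M) (_ : FiniteDimensional K M) (_ : Algebra.IsSeparable K M)
          (_ : L₁ →ₐ[K] M) (_ : L₂ →ₐ[K] M), EtRam.IsUnramifiedExt A ((algebraMap K M).comp (algebraMap A K))) ∧
      (EtRam.IsTamelyRamified A ((algebraMap K L₁).comp (algebraMap A K)) →
        EtRam.IsTamelyRamified A ((algebraMap K L₂).comp (algebraMap A K)) →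
        ∃ (M : Type u) (_ : Field M) (_ : Algebra K M) (_ : FiniteDimensional K M) (_ : Algebra.IsSeparable K M)
          (_ : L₁ →ₐ[K] M) (_ : L₂ →ₐ[K] M), EtRam.IsTamelyRamified A ((algebraMap K M).comp (algebraMap A K)))) := by
  classical
  constructor
  · intro L _ _ _ _
    let j : L →ₐ[K] SeparableClosure K := IsSepClosed.lift
    let C := IntermediateField.normalClosure K L (SeparableClosure K)
    haveI : IsGalois K (SeparableClosure K) := IsSepClosure.isGalois
    haveI : IsGalois K C := IsGalois.normalClosure K L (SeparableClosure K)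
    let emb : L →ₐ[K] C :=
      AlgHom.codRestrict j C.toSubalgebra fun x => j.fieldRange_le_normalClosure ⟨x, rfl⟩
    haveI : Fintype (L →ₐ[K] C) := Fintype.ofFinite _
    let E : (L →ₐ[K] C) → IntermediateField K C := fun f => f.fieldRange
    have hC : Finset.univ.sup E = ⊤ := by
      rw [Finset.sup_univ_eq_iSup]
      refine top_le_iff.mp ?_
      have h1 : C ≤ (⨆ f, E f).map C.val := by
        show IntermediateField.normalClosure K L (SeparableClosure K) ≤ _
        rw [_root_.normalClosure_def]
        refine iSup_le fun g => ?_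
        rintro _ ⟨x, rfl⟩
        let g' : L →ₐ[K] C := AlgHom.codRestrict g C.toSubalgebra fun y => g.fieldRange_le_normalClosure ⟨y, rfl⟩
        exact ⟨g' x, le_iSup E g' ⟨x, rfl⟩, rfl⟩
      intro y _
      obtain ⟨z, hz, hzy⟩ := h1 y.2
      exact (Subtype.ext hzy : z = y) ▸ hz
    have hE : ∀ f, (EtRam.IsUnramifiedExt A ((algebraMap K L).comp (algebraMap A K)) →
        EtRam.IsUnramifiedExt A ((algebraMap K (E f)).comp (algebraMap A K))) ∧
      (EtRam.IsTamelyRamified A ((algebraMap K L).comp (algebraMap A K)) →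
        EtRam.IsTamelyRamified A ((algebraMap K (E f)).comp (algebraMap A K))) := fun f => by
      let e : L ≃ₐ[K] E f := AlgEquiv.ofInjectiveField f
      letI : Algebra (E f) L := e.symm.toRingHom.toAlgebra
      haveI : IsScalarTower K (E f) L := .of_algebraMap_eq fun x => (e.symm.commutes x).symm
      exact ⟨(S1989.result A K (E f) L).2, (S1989.result A K (E f) L).1⟩
    have hbot : EtRam.IsUnramifiedExt A ((algebraMap K (⊥ : IntermediateField K C)).comp (algebraMap A K)) :=
      unramified_self A K _ fun x => by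
        obtain ⟨y, hy⟩ := IntermediateField.mem_bot.mp x.2
        exact ⟨y, Subtype.ext hy⟩
    obtain ⟨s1, s2⟩ := finset_sup_step A K E Finset.univ hbot
    have key : ∀ (T : IntermediateField K C), T = ⊤ →
      (EtRam.IsUnramifiedExt A ((algebraMap K T).comp (algebraMap A K)) →
        EtRam.IsUnramifiedExt A ((algebraMap K C).comp (algebraMap A K))) ∧
      (EtRam.IsTamelyRamified A ((algebraMap K T).comp (algebraMap A K)) →
        EtRam.IsTamelyRamified A ((algebraMap K C).comp (algebraMap A K))) := by
      rintro T rfl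
      let e : (⊤ : IntermediateField K C) ≃ₐ[K] C := IntermediateField.topEquiv
      letI : Algebra C (⊤ : IntermediateField K C) := e.symm.toRingHom.toAlgebra
      haveI : IsScalarTower K C (⊤ : IntermediateField K C) := .of_algebraMap_eq fun x => (e.symm.commutes x).symm
      exact ⟨(S1989.result A K C (⊤ : IntermediateField K C)).2, (S1989.result A K C (⊤ : IntermediateField K C)).1⟩
    exact ⟨fun h => ⟨C, inferInstance, inferInstance, inferInstance, inferInstance, emb,
        (key _ hC).1 (s1 fun f => (hE f).1 h)⟩,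
      fun h => ⟨C, inferInstance, inferInstance, inferInstance, inferInstance, emb,
        (key _ hC).2 (s2 fun f => (hE f).2 h)⟩⟩
  · intro L₁ L₂ _ _ _ _ _ _ _ _
    let T := L₁ ⊗[K] L₂
    obtain ⟨m, hm⟩ := Ideal.exists_maximal T
    let M := T ⧸ m
    letI : Field M := Ideal.Quotient.field m
    let j₂ : L₂ →ₐ[K] M := (Ideal.Quotient.mkₐ K m).comp Algebra.TensorProduct.includeRight
    let j₁ : L₁ →ₐ[K] M := (Ideal.Quotient.mkₐ K m).comp Algebra.TensorProduct.includeLeft
    letI : Algebra L₂ M := j₂.toRingHom.toAlgebra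
    haveI : IsScalarTower K L₂ M := .of_algebraMap_eq fun x => (j₂.commutes x).symm
    haveI : IsScalarTower K L₁ M := .of_algebraMap_eq fun x => (j₁.commutes x).symm
    have hgen : Algebra.adjoin L₁ (Set.range (algebraMap L₂ M)) = ⊤ := by
      refine top_le_iff.mp ?_
      rintro y -
      obtain ⟨t, rfl⟩ := Ideal.Quotient.mk_surjective y
      induction t using TensorProduct.induction_on with
      | zero => rw [map_zero]; exact zero_mem _
      | add a b ha hb => rw [map_add]; exact add_mem ha hb
      | tmul x l =>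
        rw [show x ⊗ₜ[K] l = (x ⊗ₜ[K] (1 : L₂)) * ((1 : L₁) ⊗ₜ[K] l) by simp, map_mul]
        exact mul_mem (Subalgebra.algebraMap_mem _ x) (Algebra.subset_adjoin ⟨l, rfl⟩)
    obtain ⟨hfd, hsep⟩ := HensEt88.finite_separable_of_gen K L₁ L₂ M hgen
    haveI : FiniteDimensional K M := FiniteDimensional.trans K L₁ M
    haveI : Algebra.IsSeparable K M := Algebra.IsSeparable.trans K L₁ M
    obtain ⟨h1, h2⟩ := compositum_step A K L₁ L₂ M hgen
    exact ⟨fun a b => ⟨M, inferInstance, inferInstance, inferInstance, inferInstance, j₁, j₂, h1 a b⟩,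
      fun a b => ⟨M, inferInstance, inferInstance, inferInstance, inferInstance, j₁, j₂, h2 a b⟩⟩

end Groth.Agent.S1991
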