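import Groth.Statements.S19917
import Groth.Agent.SGA7X.KummerInertia

set_option autoImplicit false
universe u
open CategoryTheory CategoryTheory.Limits AlgebraicGeometry MonObj
open SGA7

namespace Groth.Agent.S19917

/-- Let R be a discrete valuation ring with fraction field K and residue field k, Ω a separable closure
of K and W a valuation subring of Ω lying over R. Assume that every K-automorphism of Ω belongs to
the inertia group at W, i.e. K coincides with its maximal extension inside Ω at which the
restriction of W is unramified over R. Let r ≥ 1 be an integer whose image in k is non-zero. Then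
there is exactly one intermediate field L of Ω over K with [L : K] = r and L Galois over K; moreover
every such L is totally (and tamely) ramified over R: every maximal ideal of the integral closure of
R in L has ramification index r over R. -/
theorem result (R K Ω : Type u) [CommRing R] [IsDomain R]
    [IsDiscreteValuationRing R] [Field K] [Algebra R K] [IsFractionRing R K] [Field Ω] [Algebra K Ω]
    [IsSepClosure K Ω] [Algebra R Ω] [IsScalarTower R K Ω]
    (W : ValuationSubring Ω) (hW : SGA7.LiesOver K R W)
    (hI : ∀ σ : Ω ≃ₐ[K] Ω, SGA7.IsInertia W σ)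
    (r : ℕ) (hr : 0 < r) (hrk : (r : IsLocalRing.ResidueField R) ≠ 0) :
    (∃! L : IntermediateField K Ω, Module.finrank K L = r ∧ IsGalois K L) ∧
      ∀ L : IntermediateField K Ω, Module.finrank K L = r → IsGalois K L →
        ∀ P : Ideal (integralClosure R L), P.IsMaximal → P.ramificationIdx R = r := by
  classical
  obtain ⟨π, hπ⟩ := IsDiscreteValuationRing.exists_irreducible R
  have : IsGalois K Ω := Groth.Agent.SGA7X.KummerInertia.isGalois_sepClosure
  have : IsSepClosed Ω := IsSepClosure.sep_closed K
  set c : K := algebraMap R K π with hc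
  have hc0 : c ≠ 0 := fun h => hπ.ne_zero ((IsFractionRing.injective R K) (by rw [← hc, h, map_zero]))
  have hrK : (r : K) ≠ 0 := by
    intro h
    have hv := Groth.Agent.SGA7X.KummerInertia.valuation_natCast W hW hrk
    rw [← map_natCast (algebraMap K Ω), h, map_zero, map_zero] at hv
    exact zero_ne_one hv
  obtain ⟨y, hy⟩ : ∃ y : Ω, y ^ r = algebraMap K Ω c := by
    have hsep : (Polynomial.X ^ r - Polynomial.C (algebraMap K Ω c)).Separable :=
      Polynomial.separable_X_pow_sub_C _ (by rw [← map_natCast (algebraMap K Ω)]; exact (map_ne_zero _).2 hrK)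
        ((map_ne_zero _).2 hc0)
    have hdeg : (Polynomial.X ^ r - Polynomial.C (algebraMap K Ω c)).degree ≠ 0 := by
      rw [Polynomial.degree_X_pow_sub_C hr]
      exact_mod_cast hr.ne'
    obtain ⟨y, hy⟩ := IsSepClosed.exists_root _ hdeg hsep
    exact ⟨y, by simpa [Polynomial.IsRoot, sub_eq_zero] using hy⟩
  have hy0 : y ≠ 0 := fun h => (map_ne_zero (algebraMap K Ω)).2 hc0 (by rw [← hy, h, zero_pow hr.ne'])
  have hyint : IsIntegral K y := Algebra.IsIntegral.isIntegral y
  have hirr : Irreducible (Polynomial.X ^ r - Polynomial.C c) := by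
    let f : Polynomial R := Polynomial.X ^ r - Polynomial.C π
    have hm : f.Monic := Polynomial.monic_X_pow_sub_C π hr.ne'
    have hnd : f.natDegree = r := Polynomial.natDegree_X_pow_sub_C
    have hE : f.IsEisensteinAt (Ideal.span {π}) := by
      refine ⟨?_, fun {n} hn => ?_, ?_⟩
      · rw [hm.leadingCoeff, Ideal.mem_span_singleton]
        exact fun h => hπ.not_isUnit (isUnit_of_dvd_one h)
      · rw [hnd] at hn
        rw [Polynomial.coeff_sub, Polynomial.coeff_X_pow, if_neg hn.ne, zero_sub]
        refine neg_mem ?_
        rw [Polynomial.coeff_C]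
        split
        · exact Ideal.subset_span rfl
        · exact zero_mem _
      · rw [Polynomial.coeff_sub, Polynomial.coeff_X_pow, if_neg hr.ne, zero_sub, Polynomial.coeff_C, if_pos rfl,
          neg_mem_iff, Ideal.span_singleton_pow, Ideal.mem_span_singleton]
        intro h
        obtain ⟨t, ht⟩ := h
        have : π * t = 1 := mul_left_cancel₀ hπ.ne_zero (by rw [_root_.mul_one, ← _root_.mul_assoc, ← sq]; exact ht.symm)
        exact hπ.not_isUnit (isUnit_of_dvd_one ⟨t, this.symm⟩)
    have hp : (Ideal.span {π}).IsPrime :=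
      (Ideal.span_singleton_prime hπ.ne_zero).2 hπ.prime
    have hi := (Polynomial.Monic.irreducible_iff_irreducible_map_fraction_map (K := K) hm).1
      (hE.irreducible hp hm.isPrimitive (hnd.symm ▸ hr))
    simpa [f, hc] using hi
  have hmin : minpoly K y = Polynomial.X ^ r - Polynomial.C c :=
    (minpoly.eq_of_irreducible_of_monic hirr (by simp [hy]) (Polynomial.monic_X_pow_sub_C c hr.ne')).symm
  let L₀ : IntermediateField K Ω := IntermediateField.adjoin K {y}
  have hL₀ : Module.finrank K L₀ = r := by
    rw [IntermediateField.adjoin.finrank hyint, hmin, Polynomial.natDegree_X_pow_sub_C]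
  have : FiniteDimensional K L₀ := IntermediateField.adjoin.finiteDimensional hyint
  have : Normal K L₀ := by
    refine IntermediateField.normal_iff_forall_map_le'.2 fun σ => ?_
    rw [IntermediateField.adjoin_map, Set.image_singleton, IntermediateField.adjoin_simple_le_iff]
    have hζ : (σ y / y) ^ r = 1 := by
      rw [div_pow, ← map_pow, hy, AlgEquiv.commutes, div_self ((map_ne_zero _).2 hc0)]
    obtain ⟨a, ha⟩ := (InfiniteGalois.mem_range_algebraMap_iff_fixed (σ y / y)).2
      fun τ => Groth.Agent.SGA7X.KummerInertia.map_root_of_unity W hW hrk hI τ hζ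
    show σ y ∈ L₀
    rw [← div_mul_cancel₀ (σ y) hy0, ← ha]
    exact mul_mem (L₀.algebraMap_mem a) (IntermediateField.mem_adjoin_simple_self K y)
  have : IsGalois K L₀ := { }
  have huniq : ∀ L : IntermediateField K Ω, Module.finrank K L = r → IsGalois K L → L = L₀ := by
    intro L hL _
    have hle : L ≤ L₀ := by
      intro x hx
      rw [← InfiniteGalois.fixedField_fixingSubgroup L₀]
      rintro ⟨σ, hσ⟩
      exact Groth.Agent.SGA7X.KummerInertia.fixes_of_degree W hW hr hrk hI hπ hy L hL σ
        ((IntermediateField.mem_fixingSubgroup_iff L₀ σ).1 hσ y (IntermediateField.mem_adjoin_simple_self K y)) x hx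
    exact IntermediateField.eq_of_le_of_finrank_eq hle (hL.trans hL₀.symm)
  refine ⟨⟨L₀, ⟨hL₀, inferInstance⟩, fun L hL => huniq L hL.1 hL.2⟩, fun L hL hgal => ?_⟩
  obtain rfl := huniq L hL hgal
  intro P hP
  let B := integralClosure R L₀
  have : IsFractionRing B L₀ := integralClosure.isFractionRing_of_finite_extension K L₀
  have : IsDedekindDomain B := IsIntegralClosure.isDedekindDomain R K L₀ B
  have : Module.Finite R B := IsIntegralClosure.finite R K L₀ B
  have hinj : Function.Injective (algebraMap R B) := by
    intro a b h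
    apply IsFractionRing.injective R K
    apply (algebraMap K L₀).injective
    rw [← IsScalarTower.algebraMap_apply, ← IsScalarTower.algebraMap_apply]
    exact congrArg Subtype.val h
  have : FaithfulSMul R B := (faithfulSMul_iff_algebraMap_injective R B).2 hinj
  have : NoZeroSMulDivisors R B := ⟨fun {a x} h => by
    rw [Algebra.smul_def, mul_eq_zero] at h
    exact h.imp_left fun h0 => hinj (h0.trans (map_zero _).symm)⟩
  let p := IsLocalRing.maximalIdeal R
  have hPp : P.LiesOver p := ⟨(IsLocalRing.eq_maximalIdeal (Ideal.isMaximal_comap_of_isIntegral_of_isMaximal P)).symm⟩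
  have hp0 : p ≠ ⊥ := IsDiscreteValuationRing.not_a_field R
  let y₀ : L₀ := ⟨y, IntermediateField.mem_adjoin_simple_self K y⟩
  have hy₀ : y₀ ^ r = algebraMap R L₀ π := Subtype.ext (by
    show y ^ r = algebraMap R Ω π
    rw [hy, hc, ← IsScalarTower.algebraMap_apply])
  have hyB : IsIntegral R y₀ := IsIntegral.of_pow hr (hy₀ ▸ isIntegral_algebraMap)
  let yB : B := ⟨y₀, hyB⟩
  have hyπ : yB ^ r = algebraMap R B π := Subtype.ext hy₀
  have hyP : yB ∈ P := by
    refine hP.isPrime.mem_of_pow_mem r ?_
    rw [hyπ]
    exact (Ideal.mem_of_liesOver P p π).1 ((IsLocalRing.mem_maximalIdeal π).2 hπ.not_isUnit)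
  have hge : p.map (algebraMap R B) ≤ P ^ r := by
    rw [Ideal.map_le_iff_le_comap, show p = Ideal.span {π} from hπ.maximalIdeal_eq, Ideal.span_le,
      Set.singleton_subset_iff]
    show algebraMap R B π ∈ P ^ r
    rw [← hyπ]
    exact Ideal.pow_mem_pow hyP r
  have hP' : P.IsPrime := hP.isPrime
  rw [← Ideal.ramificationIdx'_eq_ramificationIdx p P hp0]
  refine le_antisymm ?_ ?_
  · refine (Ideal.ramificationIdx_le_finrank B K L₀ P).trans ?_
    rw [hL₀]
  · have hne : Ideal.ramificationIdx' p P ≠ 0 := Ideal.IsDedekindDomain.ramificationIdx'_ne_zero_of_liesOver P hp0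
    have hb : BddAbove {n | p.map (algebraMap R B) ≤ P ^ n} := by
      by_contra h
      refine hne (Ideal.ramificationIdx'_eq_zero fun n => ?_)
      obtain ⟨k, hk, hnk⟩ := not_bddAbove_iff.1 h n
      exact ⟨k, hk, hnk⟩
    exact le_csSup hb hge

end Groth.Agent.S19917
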