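import Groth.Statements.S19918
import Groth.Agent.MdlSurf.PicVert
-- import your own Groth.Agent.* helpers here

set_option autoImplicit false
universe u
open CategoryTheory CategoryTheory.Limits AlgebraicGeometry
open Models
open scoped Groth.Agent.H23.PicMul

namespace Groth.Agent.S19918

/-- Kernel of Pic(X)[n] → Pic(C)[n]: let R be a discrete valuation ring with fraction field K, C a
smooth proper curve over K with H^0(C, O_C) = K, X a regular proper model of C with generic-fibre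
inclusion g : C → X, Γ_1, …, Γ_n the irreducible components of the closed fibre with multiplicities
m_1, …, m_n, d = gcd(m_1, …, m_n), and L_i invertible O_X-modules with L_i ⊗ I(Γ_i) ≅ O_X (that is,
L_i = O_X(Γ_i)). Let h ≥ 1 and put e = gcd(h, d). If M is an invertible O_X-module with M^{⊗h} ≅ O_X
whose pullback to C is trivial, then there is exactly one natural number k < e with M ≅ L_1^{k
m_1/e} ⊗ ⋯ ⊗ L_n^{k m_n/e} = O_X(k·(1/e)·X_s). In other words the kernel of Pic(X)[h] → Pic(C)[h] is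
cyclic of order gcd(h, d), generated by the class of O_X((1/e)·X_s). -/
theorem result (R : Type u) [CommRing R] [IsDomain R] [IsDiscreteValuationRing R]
    (C X : Scheme.{u}) (f : C ⟶ Spec (CommRingCat.of (FractionRing R))) (p : X ⟶ Spec (CommRingCat.of R))
    (hC : Curve.IsSmoothProperCurve (FractionRing R) C f) (hH0 : IsIso f.appTop)
    (hX : Models.IsRegularProperModel R X p C f)
    {n : ℕ} (Γ : Fin n → ArSurf.VertComp R (Over.mk p)) (hΓ : Models.IsComponentList R (Over.mk p) Γ)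
    (g : C ⟶ X) (hg : IsPullback g f p (Spec.map (CommRingCat.ofHom (algebraMap R (FractionRing R)))))
    (L : Fin n → X.Modules) (hL : ∀ i, ClSub.IsInverseOf (L i) (ClSub.idealMod (Γ i).ι.ker))
    (h : ℕ) (hh : 0 < h)
    (M : X.Modules) (hM : PicF.IsInvertible M)
    (htors : Nonempty (CohB1.tensorPow M h ≅ Coh.structureModule X))
    (htriv : Nonempty ((Scheme.Modules.pullback g).obj M ≅ Coh.structureModule C)) :
    ∃! k : ℕ, k < Nat.gcd h (Models.multGcd R (Over.mk p) Γ) ∧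
      Nonempty (M ≅ FGA.multiTwist L (fun i => k * (Models.mult R (Over.mk p) (Γ i) / Nat.gcd h (Models.multGcd R (Over.mk p) Γ)))) := by
  set d := Models.multGcd R (Over.mk p) Γ with hd
  set e := Nat.gcd h d with he
  have he0 : 0 < e := Nat.gcd_pos_of_pos_left _ hh
  let q : Fin n → ℕ := fun i => Models.mult R (Over.mk p) (Γ i) / e
  have hq : ∀ i, (Models.mult R (Over.mk p) (Γ i) : ℤ) = (e : ℤ) * q i := fun i => by
    exact_mod_cast (Nat.mul_div_cancel' ((Nat.gcd_dvd_right h d).trans ⟨_, MdlSurf.mult_eq_gcd_mul hC hX hΓ i⟩)).symm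
  obtain ⟨a, ha⟩ := MdlSurf.exists_cl_eq_vert hC hX hΓ hL hH0 hg hM htriv
  have hk : ∀ k : ℕ, Nonempty (M ≅ FGA.multiTwist L fun i => k * (Models.mult R (Over.mk p) (Γ i) / e)) ↔
      ∃ c : ℤ, ∀ i, a i - (k : ℤ) * q i = c * (Models.mult R (Over.mk p) (Γ i) : ℤ) := fun k => by
    have hu : IsUnit (PicF.cl (MdlSurf.vert hC hX hΓ hL fun i => (k : ℤ) * q i)) :=
      H23.PicMul.isUnit_cl (MdlSurf.isInvertible_vert hC hX hΓ hL _)
    rw [← MdlSurf.cl_vert_eq_one_iff hC hX hΓ hL hH0, ← H23.PicMul.cl_eq_iff, ha,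
      show PicF.cl (FGA.multiTwist L fun i => k * (Models.mult R (Over.mk p) (Γ i) / e)) =
        PicF.cl (MdlSurf.vert hC hX hΓ hL fun i => (k : ℤ) * q i) by
          rw [← MdlSurf.cl_vert_natCast hC hX hΓ hL]
          simp only [q, Nat.cast_mul]]
    have hs : PicF.cl (MdlSurf.vert hC hX hΓ hL fun i => a i - (k : ℤ) * q i) *
        PicF.cl (MdlSurf.vert hC hX hΓ hL fun i => (k : ℤ) * q i) = PicF.cl (MdlSurf.vert hC hX hΓ hL a) := by
      rw [← MdlSurf.cl_vert_add]
      congr 2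
      exact funext fun i => sub_add_cancel _ _
    refine ⟨fun h1 => hu.mul_right_cancel (by rw [one_mul, hs, h1]), fun h1 => ?_⟩
    rw [← hs, h1, one_mul]
  -- `M` is a multiple of `(1/e)` times the fibre
  have h1 := H23.PicMul.cl_eq_iff.2 htors
  rw [H23.PicMul.cl_tensorPow, ← H23.PicMul.one_def, ha, ← MdlSurf.cl_vert_nsmul,
    MdlSurf.cl_vert_eq_one_iff hC hX hΓ hL hH0] at h1
  obtain ⟨c, hc⟩ := h1
  obtain ⟨h', hh'⟩ : (e : ℤ) ∣ (h : ℤ) := Int.natCast_dvd_natCast.2 (Nat.gcd_dvd_left h d)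
  have hh'0 : h' ≠ 0 := fun h0 => by rw [h0, mul_zero] at hh'; exact hh.ne' (by exact_mod_cast hh')
  have he0' : (e : ℤ) ≠ 0 := by exact_mod_cast he0.ne'
  have hdvd : (h : ℤ) ∣ c * d :=
    MdlSurf.dvd_of_dvd_mul_div hC hX hΓ fun i => ⟨a i, by
      have h2 := hc i
      rw [MdlSurf.mult_eq_gcd_mul hC hX hΓ i, Nat.cast_mul, Pi.smul_apply, smul_eq_mul] at h2
      linear_combination -h2⟩
  obtain ⟨t, ht⟩ : h' ∣ c := by
    have h3 : (h : ℤ) ∣ (Int.gcd (c * h) (c * d) : ℤ) := Int.dvd_coe_gcd ⟨c, mul_comm _ _⟩ hdvd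
    rw [Int.gcd_mul_left, Int.gcd_natCast_natCast, ← he, Nat.cast_mul, hh', mul_comm (e : ℤ) h'] at h3
    exact Int.dvd_natAbs.1 (Int.dvd_of_mul_dvd_mul_right he0' h3)
  have hat : ∀ i, a i = t * q i := fun i => by
    have h2 := hc i
    rw [Pi.smul_apply, smul_eq_mul, hq i, ht, hh'] at h2
    exact mul_left_cancel₀ (mul_ne_zero he0' hh'0) (by linear_combination h2)
  refine ⟨(t % e).toNat, ⟨?_, (hk _).2 ⟨t / e, fun i => ?_⟩⟩, fun k ⟨hke, hkM⟩ => ?_⟩
  · have := Int.emod_lt_of_pos t (show (0 : ℤ) < e by exact_mod_cast he0)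
    have := Int.emod_nonneg t he0'
    omega
  · rw [Int.toNat_of_nonneg (Int.emod_nonneg t he0'), hat i, hq i, Int.emod_def]
    ring
  · obtain ⟨c', hc'⟩ := (hk k).1 hkM
    let i₀ : Fin n := ⟨0, MdlSurf.n_pos hC hX hΓ⟩
    have h4 := hc' i₀
    rw [hat, hq] at h4
    have hq0 : (q i₀ : ℤ) ≠ 0 := fun h0 => by
      have h5 := hq i₀
      rw [h0, mul_zero] at h5
      exact (MdlSurf.mult_pos hC hX hΓ i₀).ne' (by exact_mod_cast h5)
    have h5 : t - k = c' * e := mul_right_cancel₀ hq0 (by linear_combination h4)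
    have h6 : t % (e : ℤ) = (k : ℤ) := by
      rw [show t = (k : ℤ) + c' * e by omega, Int.add_mul_emod_self_right, Int.emod_eq_of_lt (Int.natCast_nonneg k) (by exact_mod_cast hke)]
    omega

end Groth.Agent.S19918
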