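import Groth.Statements.S19924
import Groth.Agent.MdlSurf.PicVert
-- import your own Groth.Agent.* helpers here

set_option autoImplicit false
universe u
open CategoryTheory CategoryTheory.Limits AlgebraicGeometry
open Models
open scoped Groth.Agent.H23.PicMul

namespace Groth.Agent.S19924

/-- Let R be a discrete valuation ring with fraction field K, C a smooth proper curve over K with H^0(C,
O_C) = K, X a regular proper model of C with generic-fibre inclusion g : C → X, Γ_1, …, Γ_n the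
irreducible components of the closed fibre with multiplicities m_1, …, m_n, and L_i invertible
O_X-modules with L_i ⊗ I(Γ_i) ≅ O_X. Let h ≥ 1, let N be an invertible O_C-module with N^{⊗h} ≅ O_C,
let M be an invertible O_X-module whose pullback to C is N, and let a, b be exponent vectors with
M^{⊗h} ⊗ L_1^{a_1} ⊗ ⋯ ⊗ L_n^{a_n} ≅ L_1^{b_1} ⊗ ⋯ ⊗ L_n^{b_n}, i.e. M^{⊗h} ≅ O_X(Σ (b_i − a_i)
Γ_i). Then N is the pullback of some invertible O_X-module M' with M'^{⊗h} ≅ O_X if and only if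
there are integers c_1, …, c_n and e with b_i − a_i = h c_i + e m_i for all i: the class of Σ (b_i −
a_i) Γ_i modulo h ℤ^n + ℤ·(m_1, …, m_n) is the obstruction to lifting the h-torsion class N to an
h-torsion class on X. -/
theorem result (R : Type u) [CommRing R] [IsDomain R] [IsDiscreteValuationRing R]
    (C X : Scheme.{u}) (f : C ⟶ Spec (CommRingCat.of (FractionRing R))) (p : X ⟶ Spec (CommRingCat.of R))
    (hC : Curve.IsSmoothProperCurve (FractionRing R) C f) (hH0 : IsIso f.appTop)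
    (hX : Models.IsRegularProperModel R X p C f)
    {n : ℕ} (Γ : Fin n → ArSurf.VertComp R (Over.mk p)) (hΓ : Models.IsComponentList R (Over.mk p) Γ)
    (g : C ⟶ X) (hg : IsPullback g f p (Spec.map (CommRingCat.ofHom (algebraMap R (FractionRing R)))))
    (L : Fin n → X.Modules) (hL : ∀ i, ClSub.IsInverseOf (L i) (ClSub.idealMod (Γ i).ι.ker))
    (h : ℕ) (hh : 0 < h)
    (N : C.Modules) (hN : PicF.IsInvertible N) (hNt : Nonempty (CohB1.tensorPow N h ≅ Coh.structureModule C))
    (M : X.Modules) (hM : PicF.IsInvertible M) (hMN : Nonempty ((Scheme.Modules.pullback g).obj M ≅ N))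
    (a b : Fin n → ℕ)
    (hab : Nonempty (CohB1.tensorMod (CohB1.tensorPow M h) (FGA.multiTwist L a) ≅ FGA.multiTwist L b)) :
    (∃ M' : X.Modules, PicF.IsInvertible M' ∧ Nonempty (CohB1.tensorPow M' h ≅ Coh.structureModule X) ∧
        Nonempty ((Scheme.Modules.pullback g).obj M' ≅ N)) ↔
      ∃ (c : Fin n → ℤ) (e : ℤ), ∀ i, ((b i : ℤ) - (a i : ℤ)) = (h : ℤ) * c i + e * (Models.mult R (Over.mk p) (Γ i) : ℤ) := by
  haveI : IsProper (Over.mk p).hom := hX.2.1
  let w : Fin n → ℤ := fun i => (b i : ℤ) - a i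
  have hMh : PicF.cl M ^ h = PicF.cl (MdlSurf.vert hC hX hΓ hL w) := by
    have hu : IsUnit (PicF.cl (MdlSurf.vert hC hX hΓ hL fun i => (a i : ℤ))) :=
      H23.PicMul.isUnit_cl (MdlSurf.isInvertible_vert hC hX hΓ hL _)
    refine hu.mul_right_cancel ?_
    rw [← MdlSurf.cl_vert_add, show (w + fun i => (a i : ℤ)) = (fun i => (b i : ℤ)) from funext fun i => sub_add_cancel _ _,
      MdlSurf.cl_vert_natCast, MdlSurf.cl_vert_natCast, ← H23.PicMul.cl_tensorPow, ← H23.PicMul.cl_tensor]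
    exact H23.PicMul.cl_eq_iff.2 hab
  constructor
  · rintro ⟨M', hM', hM't, hM'N⟩
    obtain ⟨D, hD, ⟨eD⟩⟩ := H23.PicInv.exists_inverse hM
    have hD1 : PicF.cl M * PicF.cl D = 1 := by
      rw [← H23.PicMul.cl_tensor, H23.PicMul.one_def]
      exact H23.PicMul.cl_eq_iff.2 ⟨eD⟩
    have htriv : Nonempty ((Scheme.Modules.pullback g).obj (CohB1.tensorMod M' D) ≅ Coh.structureModule C) := by
      refine H23.PicMul.cl_eq_iff.1 ?_
      show PicF.pullCl g (PicF.cl (CohB1.tensorMod M' D)) = _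
      rw [H23.PicMul.cl_tensor, H23.PicMul.pullCl_mul,
        show PicF.pullCl g (PicF.cl M') = PicF.cl N from H23.PicMul.cl_eq_iff.2 hM'N,
        ← show PicF.pullCl g (PicF.cl M) = PicF.cl N from H23.PicMul.cl_eq_iff.2 hMN,
        ← H23.PicMul.pullCl_mul, hD1, H23.PicMul.pullCl_one, H23.PicMul.one_def]
    obtain ⟨c, hc⟩ := MdlSurf.exists_cl_eq_vert hC hX hΓ hL hH0 hg (H23.PicMul.isInvertible_tensor hM' hD) htriv
    have hM'1 : PicF.cl M' = PicF.cl (MdlSurf.vert hC hX hΓ hL c) * PicF.cl M := by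
      rw [← hc, H23.PicMul.cl_tensor, mul_assoc, mul_comm (PicF.cl D), hD1, mul_one]
    have h2 := H23.PicMul.cl_eq_iff.2 hM't
    rw [H23.PicMul.cl_tensorPow, ← H23.PicMul.one_def, hM'1, mul_pow, hMh, ← MdlSurf.cl_vert_nsmul,
      ← MdlSurf.cl_vert_add, MdlSurf.cl_vert_eq_one_iff hC hX hΓ hL hH0] at h2
    obtain ⟨e, he⟩ := h2
    refine ⟨fun i => -c i, e, fun i => ?_⟩
    have h3 := he i
    simp only [Pi.add_apply, Pi.smul_apply, smul_eq_mul, w] at h3
    linear_combination h3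
  · rintro ⟨c, e, hce⟩
    have hV := MdlSurf.isInvertible_vert hC hX hΓ hL (-c)
    refine ⟨CohB1.tensorMod M (MdlSurf.vert hC hX hΓ hL (-c)), H23.PicMul.isInvertible_tensor hM hV,
      H23.PicMul.cl_eq_iff.1 ?_, H23.PicMul.cl_eq_iff.1 ?_⟩
    · rw [H23.PicMul.cl_tensorPow, H23.PicMul.cl_tensor, mul_pow, hMh, ← MdlSurf.cl_vert_nsmul,
        ← MdlSurf.cl_vert_add, ← H23.PicMul.one_def, MdlSurf.cl_vert_eq_one_iff hC hX hΓ hL hH0]
      refine ⟨e, fun i => ?_⟩
      simp only [Pi.add_apply, Pi.smul_apply, smul_eq_mul, Pi.neg_apply, w]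
      linear_combination hce i
    · show PicF.pullCl g (PicF.cl (CohB1.tensorMod M (MdlSurf.vert hC hX hΓ hL (-c)))) = _
      rw [H23.PicMul.cl_tensor, H23.PicMul.pullCl_mul, MdlSurf.pullCl_vert hC hX hΓ hL hg, mul_one]
      exact H23.PicMul.cl_eq_iff.2 hMN

end Groth.Agent.S19924
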