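import Groth.Statements.S19948
import Groth.Agent.ThetaG.Split
import Groth.Agent.ThetaG.Rep
import Groth.Agent.ThetaG.Descent
-- import your own Groth.Agent.* helpers here

set_option autoImplicit false
universe u
open CategoryTheory MonoidalCategory CartesianMonoidalCategory MonObj GrpObj AlgebraicGeometry
open ThetaGrp

namespace Groth.Agent.S19948

/-- Let k be an algebraically closed field, f : X → Y an isogeny of abelian varieties over k (X, Y
proper, geometrically integral, commutative k-group schemes; f a finite surjective homomorphism), i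
: N → X the kernel of f (a homomorphism forming a cartesian square with the unit section of Y), L an
invertible O_X-module and i_K : K → X a closed immersion exhibiting K as K(L), the maximal closed
subscheme of X over which the Mumford bundle m^*L ⊗ p_1^*L⁻¹ ⊗ p_2^*L⁻¹, restricted to X ×_k K, is
the inverse image of an invertible module on K, with its universal property. Then L is the inverse
image of an invertible O_Y-module (there is an invertible M on Y with f^*M ≅ L) if and only if the
kernel of f lies inside K(L) as a subgroup scheme and the commutator pairing e_L is trivial on it: i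
factors through i_K, and for every k-scheme T any two points (x₁, φ₁), (x₂, φ₂) of G(L)(T) whose
translations are by points of N commute. (Algebraic closedness is used for the converse; over other
fields an isotropic kernel descends in general only after a finite extension of k.) -/
theorem result (k : Type u) [Field k] [IsAlgClosed k]
    (A : Over (Spec (CommRingCat.of k))) [GrpObj A] [IsCommMonObj A] [IsProper A.hom] [GeometricallyIntegral A.hom]
    (B : Over (Spec (CommRingCat.of k))) [GrpObj B] [IsCommMonObj B] [IsProper B.hom] [GeometricallyIntegral B.hom]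
    (f : A ⟶ B) [IsMonHom f] [IsFinite f.left] (hf : Surjective f.left)
    (N : Over (Spec (CommRingCat.of k))) [GrpObj N] (i : N ⟶ A) [IsMonHom i] (hN : AlgGrp.IsKernel i f)
    (L : A.left.Modules) (hL : PicF.IsInvertible L)
    (K : Over (Spec (CommRingCat.of k))) (iK : K ⟶ A) (hK : ThetaGrp.IsKL A L iK) :
    (∃ M : B.left.Modules, PicF.IsInvertible M ∧ Nonempty ((Scheme.Modules.pullback f.left).obj M ≅ L)) ↔
      ((∃ y : N ⟶ K, y ≫ iK = i) ∧ ThetaGrp.IsIsotropic L i) := by
  open Groth.Agent.ThetaG in
  · obtain ⟨G, _, u, hG⟩ := exists_thetaGrpSch (A := A) hL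
    haveI := kernel_mono hN
    constructor
    · rintro ⟨M, hM, ⟨e⟩⟩
      obtain ⟨j, hjm, hover⟩ := exists_lift_of_descent hL hN hM e hG
      haveI := hjm
      refine ⟨factors_of_overPt hL hK (β := bc (𝟙 N ≫ j) u)
        (by simpa using hover _ (𝟙 N) _ (isBaseChange_bc _ _)), fun T x y α β hα hβ => ?_⟩
      refine commute_of_overPt hL (hover _ x _ (isBaseChange_bc _ u)) hα (hover _ y _ (isBaseChange_bc _ u)) hβ ?_
      have h1 := fun a b : T ⟶ N => isBaseChange_iff.1
        (hG.mul _ _ _ _ _ (isBaseChange_bc (a ≫ j) u) (isBaseChange_bc (b ≫ j) u))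
      have hc : x * y = y * x := by
        rw [← cancel_mono i, MonObj.mul_comp, MonObj.mul_comp]
        exact mul_comm _ _
      rw [h1, h1, ← MonObj.mul_comp, ← MonObj.mul_comp, hc]
    · rintro ⟨hfac, hiso⟩
      haveI : IsFinite N.hom := MorphismProperty.of_isPullback (P := @IsFinite)
        (Functor.map_isPullback (Over.forget _) hN) (show IsFinite f.left from inferInstance)
      obtain ⟨σ, hσ⟩ := exists_global_lift hL hK hfac
      obtain ⟨τ, hτ, hmul⟩ := exists_mul_lift hL i hσ hiso
      obtain ⟨j, hj, -⟩ := hG.univ N τ
      rw [isBaseChange_iff] at hj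
      have huniq : ∀ {T : Over (Spec (CommRingCat.of k))} (g g' : T ⟶ G), bc g u = bc g' u → g = g' :=
        fun g g' h => (hG.univ _ (bc g u)).unique (isBaseChange_bc _ _) (h ▸ isBaseChange_bc _ _)
      have hjmul : ∀ {T : Over (Spec (CommRingCat.of k))} (a b : T ⟶ N), (a * b) ≫ j = (a ≫ j) * (b ≫ j) :=
        fun a b => huniq _ _ (by
          rw [← isBaseChange_iff.1 (hG.mul _ _ _ _ _ (isBaseChange_bc (a ≫ j) u) (isBaseChange_bc (b ≫ j) u)),
            bc_comp hL, bc_comp hL, bc_comp hL, ← hj, hmul])
      have hone : η[N] ≫ j = η[G] := by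
        have h1 := hjmul (1 : 𝟙_ _ ⟶ N) 1
        rw [_root_.mul_one, left_eq_mul] at h1
        rw [Hom.one_def, Hom.one_def, toUnit_unique (toUnit _) (𝟙 _), Category.id_comp, Category.id_comp] at h1
        exact h1
      haveI : IsMonHom j := ⟨hone, by
        have h1 := hjmul (fst N N) (snd N N)
        rw [Hom.mul_def, lift_fst_snd, Category.id_comp, Hom.mul_def] at h1
        rw [h1]; congr 1⟩
      refine exists_descent hL hf hN hG j fun T n β hβ => ?_
      rw [isBaseChange_iff.1 hβ, bc_comp hL, ← hj]
      exact isOverPt_bc n hτ

end Groth.Agent.S19948
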