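import Groth.Statements.S19951
import Groth.Agent.ThetaG.Nondeg
import Groth.Agent.ThetaG.Scal
-- import your own Groth.Agent.* helpers here

set_option autoImplicit false
universe u
open CategoryTheory MonoidalCategory CartesianMonoidalCategory MonObj GrpObj AlgebraicGeometry
open ThetaGrp

namespace Groth.Agent.S19951

/-- Let k be an algebraically closed field, X an abelian variety over k (a proper, geometrically
integral, commutative k-group scheme) and L a non-degenerate invertible O_X-module: for a closed
immersion i_K : K → X exhibiting K as K(L) (the maximal closed subscheme of X over which the Mumford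
bundle m^*L ⊗ p_1^*L⁻¹ ⊗ p_2^*L⁻¹, restricted to X ×_k K, is the inverse image of an invertible
module on K, with its universal property) the scheme K is finite over k. Let i_H : H → X be a closed
subgroup scheme (H a k-group scheme, i_H a homomorphism and a closed immersion) contained in K(L)
and totally isotropic for the commutator pairing e_L — for every k-scheme T, any two points of
G(L)(T) lying over translations by points of H commute — and maximal: every closed subgroup scheme
of K(L) that is totally isotropic and contains H is contained in H. Then H = H^⊥: a T-valued point x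
of X factors through i_H if and only if it factors through i_K and is orthogonal to H (after every
base change T' → T, every point of G(L)(T') over the translation by x commutes with every point over
a translation by a point of H); moreover H is finite over k and rank(H)² = rank(K(L)) (ranks of the
finite k-schemes H and K). (The published statement is over an arbitrary field and its argument
begins by passing to an algebraic closure; but maximality is not preserved by that passage: for an
elliptic curve E over a field k and a prime ℓ such that E[ℓ] has no k-rational subgroup scheme of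
order ℓ, with L of degree ℓ so that K(L) = E[ℓ] and e_L is the Weil pairing, the trivial subgroup is
maximal totally isotropic while its orthogonal is all of E[ℓ]. The statement is therefore given over
an algebraically closed field, where the printed argument applies.) -/
theorem result (k : Type u) [Field k] [IsAlgClosed k]
    (A : Over (Spec (CommRingCat.of k))) [GrpObj A] [IsCommMonObj A] [IsProper A.hom] [GeometricallyIntegral A.hom]
    (L : A.left.Modules) (hL : PicF.IsInvertible L)
    (K : Over (Spec (CommRingCat.of k))) (iK : K ⟶ A) (hK : ThetaGrp.IsKL A L iK) [IsFinite K.hom]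
    (H : Over (Spec (CommRingCat.of k))) [GrpObj H] (iH : H ⟶ A) [IsMonHom iH] [IsClosedImmersion iH.left]
    (hHK : ∃ y : H ⟶ K, y ≫ iK = iH) (hiso : ThetaGrp.IsIsotropic L iH)
    (hmax : ∀ (H' : Over (Spec (CommRingCat.of k))) [GrpObj H'] (iH' : H' ⟶ A) [IsMonHom iH']
      [IsClosedImmersion iH'.left], (∃ y' : H' ⟶ K, y' ≫ iK = iH') → ThetaGrp.IsIsotropic L iH' →
      (∃ z : H ⟶ H', z ≫ iH' = iH) → ∃ z' : H' ⟶ H, z' ≫ iH = iH') :
    (∀ (T : Over (Spec (CommRingCat.of k))) (x : T ⟶ A),
        ((∃ y : T ⟶ K, y ≫ iK = x) ∧ ThetaGrp.IsPerpPt L iH x) ↔ ∃ z : T ⟶ H, z ≫ iH = x) ∧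
      IsFinite H.hom ∧
      ∀ s : ↥(Spec (CommRingCat.of k)), Scheme.Hom.finrank H.hom s ^ 2 = Scheme.Hom.finrank K.hom s := by
  open Groth.Agent.ThetaG Groth.Agent in
  · haveI := hK.closed
    obtain ⟨yH, hyH⟩ := hHK
    haveI : IsFinite H.hom := by
      haveI : IsClosedImmersion (yH.left ≫ iK.left) := by rw [← Over.comp_left, hyH]; infer_instance
      haveI : IsClosedImmersion yH.left := IsClosedImmersion.of_comp yH.left iK.left
      rw [← Over.w yH]; infer_instance
    obtain ⟨B, _, _, _, _, f, M, e, KM, iM, hf1, hf4, hf2, hN, hM, hKM, hKMf, hrk, hpts⟩ :=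
      exists_isotropic_descent hL hK iH ⟨yH, hyH⟩ hiso
    haveI := hf1
    haveI := hf2
    haveI := hf4
    haveI := hKMf
    haveI := hKM.closed
    haveI := AVIsog3.flat_of_surjective f
    haveI : Mono iM := mono_of_closed iM
    haveI : Mono iH := mono_of_closed iH
    have hker : ∀ {T : Over (Spec (CommRingCat.of k))} (x : T ⟶ A), x ≫ f = 1 ↔ ∃ z : T ⟶ H, z ≫ iH = x := by
      intro T x
      constructor
      · intro h
        exact ⟨hN.lift x (toUnit T) h, hN.lift_fst _ _ h⟩
      · rintro ⟨z, rfl⟩
        exact comp_kernel hN z ▸ (Category.assoc _ _ _)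
    have htriv : iM = 1 := by
      by_contra hne
      obtain ⟨P, p, hP, hpK, hpiso, hp1⟩ := exists_self_comm hM hKM hne
      haveI := hP
      obtain ⟨C, _, iC, hC1, hC2, hC3, hCpts⟩ := exists_perp_sub hM hKM p hpK
      haveI := hC1
      haveI := hC2
      haveI := hC3
      obtain ⟨hCK, hCp⟩ := (hCpts iC).1 ⟨𝟙 C, Category.id_comp _⟩
      obtain ⟨D, _, iD, hD1, hD2, hD3, hDpts⟩ := exists_perp_sub hM hKM iC hCK
      haveI := hD1
      haveI := hD2
      haveI := hD3
      obtain ⟨⟨aD, haD⟩, hDC⟩ := (hDpts iD).1 ⟨𝟙 D, Category.id_comp _⟩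
      obtain ⟨y0, hy0⟩ := (hCpts p).2 ⟨hpK, fun T' g y β₁ β₂ h₁ h₂ => hpiso T' g y β₁ β₂ h₁ h₂⟩
      obtain ⟨d0, hd0⟩ := (hDpts p).2 ⟨hpK, isPerpPt_symm hCp⟩
      obtain ⟨cD, hcD⟩ := (hCpts iD).2 ⟨⟨aD, haD⟩, fun T' g y β₁ β₂ h₁ h₂ =>
        hDC T' g (y ≫ y0) β₁ β₂ h₁ (by rw [Category.assoc, hy0]; exact h₂)⟩
      obtain ⟨Q, _, q, hQ1, hQ2, hq1, hq2, hq3, hq4, hqpts⟩ := AVQuot.exists_quotient B D iD
      haveI := hQ1
      haveI := hQ2
      haveI := hq1
      haveI := hq4
      haveI : IsFinite (f ≫ q).left := inferInstanceAs (IsFinite (f.left ≫ q.left))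
      obtain ⟨H', _, iH', h'1, h'2, h'3, hN'⟩ := exists_kernel_isogeny (f ≫ q)
      haveI := h'1
      haveI := h'2
      have hH' : ∀ {T : Over (Spec (CommRingCat.of k))} (x : T ⟶ A),
          (∃ z : T ⟶ H', z ≫ iH' = x) ↔ ∃ d : T ⟶ D, d ≫ iD = x ≫ f := by
        intro T x
        rw [← hqpts, Category.assoc]
        constructor
        · rintro ⟨z, rfl⟩
          exact comp_kernel hN' z ▸ (Category.assoc _ _ _)
        · intro h
          exact ⟨hN'.lift x (toUnit T) h, hN'.lift_fst _ _ h⟩
      obtain ⟨dH, hdH⟩ := (hH' iH').1 ⟨𝟙 _, Category.id_comp _⟩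
      have hH'K : ∃ y : H' ⟶ K, y ≫ iK = iH' :=
        ((hpts iH').1 ⟨dH ≫ aD, by rw [Category.assoc, haD, hdH]⟩).1
      have hH'iso : ThetaGrp.IsIsotropic L iH' := fun T a b α α' hα hα' => by
        refine comm_of_bc hL fun t => ?_
        obtain ⟨V, hV, β, β', hβ, hβ'⟩ := exists_local_lift₂ hM hKM (x := a ≫ iH' ≫ f) (y := b ≫ iH' ≫ f)
          ⟨a ≫ dH ≫ aD, by rw [Category.assoc, Category.assoc, haD, hdH]⟩
          ⟨b ≫ dH ≫ aD, by rw [Category.assoc, Category.assoc, haD, hdH]⟩ t
        refine ⟨V, hV, ?_⟩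
        obtain ⟨gam, ⟨hgam, hgamA⟩, -⟩ := existsUnique_above (f := f) (e := e) β (resι T V ≫ a ≫ iH') (by simpa using hβ)
        obtain ⟨del, ⟨hdel, hdelA⟩, -⟩ := existsUnique_above (f := f) (e := e) β' (resι T V ≫ b ≫ iH') (by simpa using hβ')
        refine commute_of_overPt hL hgam (isOverPt_bc _ hα) hdel (isOverPt_bc _ hα') ?_
        rw [← cm_eq_one_iff hL, cm_above hL hM hgamA hdelA, cm_eq_one_iff hM]
        exact hDC _ (resι T V ≫ a ≫ dH) (resι T V ≫ b ≫ dH ≫ cD) β β' (by simpa [hdH] using hβ)
          (by simpa [hdH, hcD] using hβ')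
      obtain ⟨z', hz'⟩ := hmax H' iH' hH'K hH'iso ((hH' iH).2 ⟨1, by
        rw [MonObj.one_comp, (hker iH).2 ⟨𝟙 _, Category.id_comp _⟩]⟩)
      have hD : iD = 1 := by
        have hcov : GrpSchLib.IsCover f := GrpSchLib.isCover_of_flat_surjective f
        obtain ⟨T', c, x, hc, hcx⟩ := hcov.exists_pullback iD
        haveI := hc.epi
        obtain ⟨w, hw⟩ := (hH' x).2 ⟨c, hcx⟩
        rw [← cancel_epi c, hcx, MonObj.comp_one]
        exact (hker x).2 ⟨w ≫ z', by rw [Category.assoc, hz', hw]⟩
      exact hp1 (by rw [← hd0, hD, MonObj.comp_one])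
    refine ⟨fun T x => ?_, inferInstance, fun s => ?_⟩
    · rw [← hpts, ← hker]
      constructor
      · rintro ⟨y, hy⟩
        rw [← hy, htriv, MonObj.comp_one]
      · intro h
        rw [h]
        exact factors_one hM hKM T
    · rw [finrank_eq_rk, finrank_eq_rk, hrk]
      have h1 : rk KM = 1 := by
        haveI : Mono η[B] := (Over.forget _).mono_of_mono_map (inferInstanceAs (Mono η[B].left))
        haveI : IsFinite (𝟙_ (Over (Spec (CommRingCat.of k)))).hom :=
          inferInstanceAs (IsFinite (𝟙 (Spec (CommRingCat.of k))))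
        refine ((rk_congr_points iM η[B] fun {T} x => ⟨?_, ?_⟩).2).trans ?_
        · rintro ⟨y, rfl⟩
          exact ⟨toUnit T, by rw [htriv, MonObj.comp_one, Hom.one_def]⟩
        · rintro ⟨y, rfl⟩
          rw [toUnit_unique y (toUnit T), ← Hom.one_def]
          exact factors_one hM hKM T
        · exact congrFun (Scheme.Hom.finrank_eq_one_of_isIso (𝟙 (Spec (CommRingCat.of k)))) _
      rw [h1, _root_.mul_one]

end Groth.Agent.S19951
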