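import Groth.Statements.S19952
import Groth.Agent.ThetaG.RepFt
import Groth.Agent.ThetaG.Quot
import Groth.Agent.ThetaG.Descent
import Groth.Agent.S3036
-- import your own Groth.Agent.* helpers here

set_option autoImplicit false
universe u
open CategoryTheory MonoidalCategory CartesianMonoidalCategory MonObj GrpObj AlgebraicGeometry
open ThetaGrp

namespace Groth.Agent.S19952

/-- Let X be an abelian variety over a field k (a proper, geometrically integral, commutative k-group
scheme), L an invertible O_X-module, and G a k-group scheme with a point u ∈ G(L)(G) representing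
the theta group of L (every point of G(L)(T) is the base change of u along a unique T → G,
multiplicatively). Let j : H → G be a level subgroup — H a k-group scheme, j a homomorphism of group
schemes and an immersion, such that a point of H whose image lies over the identity translation is
trivial — and let i_H : H → X be the morphism it lies over: for every k-scheme T and T-valued point
h of H the base change of u along j(h) lies over the translation by i_H(h). Then there are an
abelian variety Y over k (proper, geometrically integral k-group scheme), a surjective homomorphism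
f : X → Y whose kernel is i_H (i_H and f form a cartesian square with the unit section of Y), and an
invertible O_Y-module M with f^*M ≅ L. (The source states a bijection between level subgroups and
isomorphism classes of such pairs (f, M); this row is the existence of a pair for a given level
subgroup.) -/
theorem result (k : Type u) [Field k]
    (A : Over (Spec (CommRingCat.of k))) [GrpObj A] [IsCommMonObj A] [IsProper A.hom] [GeometricallyIntegral A.hom]
    (L : A.left.Modules) (hL : PicF.IsInvertible L)
    (G : Over (Spec (CommRingCat.of k))) [GrpObj G] (u : ThetaGrp.thetaPts A L G)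
    (hG : ThetaGrp.IsThetaGrpSch A L G u)
    (H : Over (Spec (CommRingCat.of k))) [GrpObj H] (j : H ⟶ G) (hj : ThetaGrp.IsLevelSubgrp u j)
    (iH : H ⟶ A)
    (hover : ∀ (T : Over (Spec (CommRingCat.of k))) (h : T ⟶ H) (β : ThetaGrp.thetaPts A L T),
      ThetaGrp.IsBaseChange β (h ≫ j) u → ThetaGrp.IsOverPt β (h ≫ iH)) :
    ∃ (B : Over (Spec (CommRingCat.of k))) (_ : GrpObj B) (f : A ⟶ B),
      IsProper B.hom ∧ GeometricallyIntegral B.hom ∧ IsMonHom f ∧ Surjective f.left ∧
      AlgGrp.IsKernel iH f ∧
      ∃ M : B.left.Modules, PicF.IsInvertible M ∧ Nonempty ((Scheme.Modules.pullback f.left).obj M ≅ L) := by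
  open Groth.Agent.ThetaG in
  obtain ⟨himm, hjhom, hlev⟩ := hj
  haveI := himm
  haveI := hjhom
  open Groth.Agent.ThetaG in
  have hov : ∀ {T : Over (Spec (CommRingCat.of k))} (h : T ⟶ H), IsOverPt (bc (h ≫ j) u) (h ≫ iH) :=
    fun h => hover _ h _ (isBaseChange_bc _ _)
  open Groth.Agent.ThetaG in
  have hmul : ∀ {T : Over (Spec (CommRingCat.of k))} (a b : T ⟶ H), (a * b) ≫ iH = (a ≫ iH) * (b ≫ iH) :=
    fun a b => by
      have h1 := hG.mul _ _ _ _ _ (isBaseChange_bc (a ≫ j) u) (isBaseChange_bc (b ≫ j) u)
      rw [isBaseChange_iff, ← MonObj.mul_comp] at h1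
      refine overPt_unique (hov (a * b)) ?_
      rw [← h1, mul_comm]
      exact isOverPt_mul (hov a) (hov b)
  have hone : η[H] ≫ iH = η[A] := by
    have h1 := hmul (1 : 𝟙_ _ ⟶ H) 1
    rw [_root_.mul_one, left_eq_mul] at h1
    rw [Hom.one_def, Hom.one_def, toUnit_unique (toUnit _) (𝟙 _), Category.id_comp, Category.id_comp] at h1
    exact h1
  haveI : IsMonHom iH := ⟨hone, by
    have h1 := hmul (fst H H) (snd H H)
    rw [Hom.mul_def, lift_fst_snd, Category.id_comp, Hom.mul_def] at h1
    rw [h1]; congr 1⟩
  open Groth.Agent.ThetaG in
  haveI : Mono iH := ⟨fun {T} a b hab => by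
    refine (mul_inv_eq_one.1 (hlev _ (a * b⁻¹) _ (isBaseChange_bc _ _) ?_))
    have h1 := hov (a * b⁻¹)
    rwa [hmul, GrpObj.inv_comp, hab, mul_inv_cancel] at h1⟩
  obtain ⟨hlft, hnoe⟩ := Groth.Agent.ThetaG.finiteType_thetaGrpSch hL hG
  haveI := hlft
  haveI := hnoe
  haveI : LocallyOfFiniteType H.hom := by rw [← Over.w j]; infer_instance
  haveI : CompactSpace H.left := by
    haveI : TopologicalSpace.NoetherianSpace H.left :=
      Topology.IsInducing.noetherianSpace j.left.isEmbedding.isInducing
    infer_instance
  haveI : QuasiCompact iH.left := by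
    haveI : QuasiCompact (iH.left ≫ A.hom) := by
      rw [Over.w iH]
      exact (quasiCompact_iff_compactSpace H.hom).2 inferInstance
    exact QuasiCompact.of_comp iH.left A.hom
  haveI : IsClosedImmersion iH.left := Groth.Agent.S3036.result k H A iH
  obtain ⟨B, _, f, hB1, hB2, hf1, hf2, hN⟩ := Groth.Agent.ThetaG.exists_quotient_closedSubgroup A H iH
  haveI := hB1
  haveI := hB2
  haveI := hf1
  haveI : IsCommMonObj B := isCommMonObj_of_isProper_of_geometricallyIntegral B
  exact ⟨B, _, f, hB1, hB2, hf1, hf2, hN, Groth.Agent.ThetaG.exists_descent hL hf2 hN hG j hover⟩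

end Groth.Agent.S19952
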