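import Groth.Statements.S19954
import Groth.Agent.ThetaG.Pull
import Groth.Agent.ThetaG.Pairing

set_option autoImplicit false
universe u
open CategoryTheory MonoidalCategory CartesianMonoidalCategory MonObj GrpObj AlgebraicGeometry
open ThetaGrp

namespace Groth.Agent.S19954

/-- Let f : X → Y be a homomorphism of abelian varieties over a field k (proper, geometrically integral,
commutative k-group schemes), L an invertible O_Y-module, and i_K : K → Y a closed immersion
exhibiting K as K(L), the maximal closed subscheme of Y over which the Mumford bundle m^*L ⊗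
p_1^*L⁻¹ ⊗ p_2^*L⁻¹, restricted to Y ×_k K, is the inverse image of an invertible module on K, with
its universal property. The identity e_{f^*L} = e_L ∘ (f, f) on f⁻¹(K(L)) is stated here through the
vanishing of the two commutator pairings: for a k-scheme H and a k-morphism i_H : H → X such that f
∘ i_H factors through i_K, the pairing e_L is trivial on the image of H in Y — for every k-scheme T,
any two points of G(L)(T) lying over the translations by f(i_H(h₁)), f(i_H(h₂)) for T-valued points
h₁, h₂ of H commute — if and only if e_{f^*L} is trivial on H: any two points of G(f^*L)(T) lying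
over the translations by i_H(h₁), i_H(h₂) commute. -/
theorem result (k : Type u) [Field k]
    (A : Over (Spec (CommRingCat.of k))) [GrpObj A] [IsCommMonObj A] [IsProper A.hom] [GeometricallyIntegral A.hom]
    (B : Over (Spec (CommRingCat.of k))) [GrpObj B] [IsCommMonObj B] [IsProper B.hom] [GeometricallyIntegral B.hom]
    (f : A ⟶ B) [IsMonHom f]
    (L : B.left.Modules) (hL : PicF.IsInvertible L)
    (K : Over (Spec (CommRingCat.of k))) (iK : K ⟶ B) (hK : ThetaGrp.IsKL B L iK)
    (H : Over (Spec (CommRingCat.of k))) (iH : H ⟶ A) (hH : ∃ y : H ⟶ K, y ≫ iK = iH ≫ f) :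
    ThetaGrp.IsIsotropic L (iH ≫ f) ↔
      ThetaGrp.IsIsotropic ((Scheme.Modules.pullback f.left).obj L) iH := by
  open Groth.Agent.ThetaG in
  · obtain ⟨yH, hyH⟩ := hH
    let e := Iso.refl ((Scheme.Modules.pullback f.left).obj L)
    have hLA : PicF.IsInvertible ((Scheme.Modules.pullback f.left).obj L) :=
      Groth.Agent.PicClLib.isInvertible_pullback f.left hL
    constructor
    · intro hI T a b α α' hα hα'
      refine comm_of_bc hLA fun t => ?_
      obtain ⟨V, hV, β, β', hβ, hβ'⟩ := exists_local_lift₂ hL hK (x := a ≫ iH ≫ f) (y := b ≫ iH ≫ f)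
        ⟨a ≫ yH, by rw [Category.assoc, hyH]⟩ ⟨b ≫ yH, by rw [Category.assoc, hyH]⟩ t
      refine ⟨V, hV, ?_⟩
      obtain ⟨gam, ⟨hgam, hgamA⟩, -⟩ := existsUnique_above (e := e) β (resι T V ≫ a ≫ iH) (by simpa using hβ)
      obtain ⟨del, ⟨hdel, hdelA⟩, -⟩ := existsUnique_above (e := e) β' (resι T V ≫ b ≫ iH) (by simpa using hβ')
      refine commute_of_overPt hLA hgam (isOverPt_bc _ hα) hdel (isOverPt_bc _ hα') ?_
      rw [← cm_eq_one_iff hLA, cm_above hLA hL hgamA hdelA, cm_eq_one_iff hL]
      exact hI _ (resι T V ≫ a) (resι T V ≫ b) β β' (by simpa using hβ) (by simpa using hβ')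
    · intro hI T a b β β' hβ hβ'
      obtain ⟨gam, ⟨hgam, hgamA⟩, -⟩ := existsUnique_above (e := e) β (a ≫ iH) (by simpa using hβ)
      obtain ⟨del, ⟨hdel, hdelA⟩, -⟩ := existsUnique_above (e := e) β' (b ≫ iH) (by simpa using hβ')
      rw [← cm_eq_one_iff hL, ← cm_above hLA hL hgamA hdelA, cm_eq_one_iff hLA]
      exact hI T a b gam del hgam hdel

end Groth.Agent.S19954
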