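import Groth.Statements.S19978
import Groth.Agent.AVIdx.AlbProper
import Groth.Agent.AVFac.Tate
import Groth.Agent.H23.EquidimFibres
import Groth.Agent.H23.InfArtin
import Groth.Agent.GrpSchLib.FieldSubgroup

set_option linter.style.haveILetI false
set_option backward.isDefEq.respectTransparency false
set_option backward.isDefEq.respectTransparency.types false

set_option autoImplicit false
universe u
open CategoryTheory MonoidalCategory CartesianMonoidalCategory MonObj GrpObj AlgebraicGeometry CategoryTheory.Limits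
open AbVar

namespace Groth.Agent.S19978

open Groth.Agent

/-- Over an algebraically closed field k, let X be an integral separated k-scheme of finite type which
is proper over k. Call large group a commutative separated k-group scheme G locally of finite type
given with a connected open subgroup scheme G⁰ (its neutral component) which is semiabelian: G⁰ has
a closed subgroup scheme T that is a torus and is the kernel of a flat surjective homomorphism from
G⁰ onto an abelian variety (a proper smooth connected k-group scheme). Let A be a large group, with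
neutral component A⁰, and u : X → A a k-morphism which is universal for morphisms to large groups
(every k-morphism from X to a large group G is u followed by a unique homomorphism A → G), i.e. (A,
u) is the Albanese scheme of X. Then A⁰ is proper over k: the neutral component of the Albanese
scheme of a proper scheme is an abelian variety. (The published statement is for any proper reduced
scheme of finite type over a perfect field; this row states the case of an integral scheme over an
algebraically closed field.) -/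
theorem result (k : Type u) [Field k] [IsAlgClosed k]
    (X : Over (Spec (CommRingCat.of k))) [IsIntegral X.left] [IsProper X.hom]
    (A : Over (Spec (CommRingCat.of k))) [GrpObj A] [IsCommMonObj A] [IsSeparated A.hom] [LocallyOfFiniteType A.hom]
    (A0 : Over (Spec (CommRingCat.of k))) [GrpObj A0] (e₀ : A0 ⟶ A) [IsMonHom e₀] [IsOpenImmersion e₀.left]
    [ConnectedSpace ↥A0.left]
    (T₀ : Over (Spec (CommRingCat.of k))) [GrpObj T₀] (i₀ : T₀ ⟶ A0) [IsMonHom i₀] [IsClosedImmersion i₀.left]
    (hT₀ : Red.IsTorus T₀)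
    (B₀ : Over (Spec (CommRingCat.of k))) [GrpObj B₀] [IsProper B₀.hom] [Smooth B₀.hom] [ConnectedSpace ↥B₀.left]
    (q₀ : A0 ⟶ B₀) [IsMonHom q₀] [Surjective q₀.left] [Flat q₀.left] (hker₀ : AlgGrp.IsKernel i₀ q₀)
    (u : X ⟶ A)
    (huniv : ∀ (G : Over (Spec (CommRingCat.of k))) [GrpObj G] [IsCommMonObj G] [IsSeparated G.hom] [LocallyOfFiniteType G.hom]
      (G0 : Over (Spec (CommRingCat.of k))) [GrpObj G0] (e : G0 ⟶ G) [IsMonHom e] [IsOpenImmersion e.left]
      [ConnectedSpace ↥G0.left]
      (T : Over (Spec (CommRingCat.of k))) [GrpObj T] (i : T ⟶ G0) [IsMonHom i] [IsClosedImmersion i.left]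
      (_ : Red.IsTorus T)
      (B : Over (Spec (CommRingCat.of k))) [GrpObj B] [IsProper B.hom] [Smooth B.hom] [ConnectedSpace ↥B.left]
      (q : G0 ⟶ B) [IsMonHom q] [Surjective q.left] [Flat q.left] (_ : AlgGrp.IsKernel i q)
      (φ : X ⟶ G), ∃! h : A ⟶ G, IsMonHom h ∧ u ≫ h = φ) :
    IsProper A0.hom := by
  letI : GrpObj (TwC.const (Spec (CommRingCat.of k)) AVIdx.ZZ.{u}) := AVIdx.ConstGrp.grpObj _ _
  haveI : IsCommMonObj (TwC.const (Spec (CommRingCat.of k)) AVIdx.ZZ.{u}) := AVIdx.ConstGrp.isCommMonObj _ _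
  haveI : GeometricallyIntegral X.hom := H23.EquidimFibres.geometricallyIntegral_of_isAlgClosed
  haveI : JacobsonSpace X.left := LocallyOfFiniteType.jacobsonSpace X.hom
  obtain ⟨c, -, hc⟩ := nonempty_inter_closedPoints (Z := (Set.univ : Set X.left)) Set.univ_nonempty
    isOpen_univ.isLocallyClosed
  let x₀ : 𝟙_ (Over (Spec (CommRingCat.of k))) ⟶ X :=
    Over.homMk (pointOfClosedPoint X.hom c hc) (pointOfClosedPoint_comp _ _ _)
  let a := x₀ ≫ u
  let d : X ⟶ A := u * (toUnit X ≫ a)⁻¹
  have hd : x₀ ≫ d = η[A] := by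
    rw [show η[A] = (1 : 𝟙_ (Over (Spec (CommRingCat.of k))) ⟶ A) by
      rw [Hom.one_def, toUnit_unique (toUnit _) (𝟙 _), Category.id_comp]]
    simp only [d, a, MonObj.comp_mul, GrpObj.comp_inv]
    rw [← Category.assoc x₀ (toUnit X), toUnit_unique (x₀ ≫ toUnit X) (𝟙 _), Category.id_comp, mul_inv_cancel]
  obtain ⟨C, _, j, w, _, _, _, _, hw⟩ := AVIdx.exists_subvariety_of_map d x₀ hd
  haveI : IsIntegral C.left := H23.MaxAbelian.isIntegral_of_geometricallyIntegral
  haveI : IsCommMonObj C := isCommMonObj_of_isProper_of_geometricallyIntegral C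
  haveI : Smooth C.hom := AVFac.smooth_av C
  let Λ := TwC.const (Spec (CommRingCat.of k)) AVIdx.ZZ.{u}
  haveI : LocallyOfFiniteType Λ.hom := IsZariskiLocalAtSource.sigmaDesc fun _ => inferInstance
  haveI : IsSeparated Λ.hom :=
    (isSeparated_iff Λ.hom).mpr ((GrpSchLib.diagonal_iff_unit @IsClosedImmersion).mpr inferInstance)
  haveI : IsSeparated (C ⊗ Λ).hom := inferInstanceAs (IsSeparated (pullback.fst C.hom Λ.hom ≫ C.hom))
  haveI : LocallyOfFiniteType (C ⊗ Λ).hom := inferInstanceAs (LocallyOfFiniteType (pullback.fst C.hom Λ.hom ≫ C.hom))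
  haveI := AVIdx.isMonHom_powHom a
  let ev : C ⊗ Λ ⟶ A := (fst C Λ ≫ j) * (snd C Λ ≫ AVIdx.powHom a)
  haveI : IsMonHom ev := AVIdx.isMonHom_of_mul _ fun T f g => by
    simp only [ev, MonObj.comp_mul, MonObj.mul_comp, ← Category.assoc]
    exact mul_mul_mul_comm _ _ _ _
  let e : C ⟶ C ⊗ Λ := (ρ_ C).inv ≫ C ◁ η[Λ]
  have he : e = lift (𝟙 C) 1 := by
    refine CartesianMonoidalCategory.hom_ext _ _ ?_ ?_
    · simp [e]
    · rw [lift_snd, Hom.one_def]
      simp only [e, Category.assoc, whiskerLeft_snd]
      rw [← Category.assoc, toUnit_unique ((ρ_ C).inv ≫ snd C (𝟙_ _)) (toUnit C)]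
  haveI : IsMonHom e := AVIdx.isMonHom_of_mul _ fun T f g => by
    rw [he]
    refine CartesianMonoidalCategory.hom_ext _ _ ?_ ?_
    · simp only [MonObj.mul_comp, Category.assoc, lift_fst, Category.comp_id]
    · simp only [MonObj.mul_comp, Category.assoc, lift_snd, MonObj.comp_one, _root_.mul_one]
  haveI : IsOpenImmersion e.left := by
    haveI := AVIdx.isOpenImmersion_whisker_eta (S := Spec (CommRingCat.of k)) C
    haveI : IsIso (ρ_ C).inv.left := ((Over.forget _).mapIso (ρ_ C).symm).isIso_hom
    rw [Over.comp_left]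
    infer_instance
  let i : 𝟙_ (Over (Spec (CommRingCat.of k))) ⟶ C := η[C]
  haveI : IsMonHom i := AVIdx.isMonHom_of_mul _ fun T f g => by
    have h1 : ∀ f : T ⟶ 𝟙_ (Over (Spec (CommRingCat.of k))), f ≫ i = 1 := fun f => by
      rw [Hom.one_def, toUnit_unique f (toUnit T)]
    rw [h1, h1, h1, _root_.one_mul]
  haveI : IsClosedImmersion i.left := isClosedImmersion_of_comp_eq_id (Y := Spec (CommRingCat.of k)) C.hom i.left (Over.w i)
  haveI : Surjective (𝟙 C : C ⟶ C).left := by rw [Over.id_left]; infer_instance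
  haveI : Flat (𝟙 C : C ⟶ C).left := by rw [Over.id_left]; infer_instance
  have hker : AlgGrp.IsKernel i (𝟙 C) := by
    haveI : IsIso (toUnit (𝟙_ (Over (Spec (CommRingCat.of k))))) := by
      rw [toUnit_unique (toUnit (𝟙_ _)) (𝟙 _)]; infer_instance
    refine IsPullback.of_vert_isIso ⟨?_⟩
    rw [Category.comp_id, toUnit_unique (toUnit (𝟙_ _)) (𝟙 _), Category.id_comp]
  let φ : X ⟶ C ⊗ Λ := lift w (toUnit X ≫ TwC.pt _ AVIdx.ZZ.{u} (Multiplicative.ofAdd ⟨1⟩))
  obtain ⟨h, ⟨hh, hu⟩, -⟩ := huniv (C ⊗ Λ) C e _ i AVIdx.TrivTorus.isTorus_unit C (𝟙 C) hker φ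
  have hev : φ ≫ ev = u := by
    simp only [φ, ev, MonObj.comp_mul, lift_fst_assoc, lift_snd_assoc, Category.assoc, hw]
    rw [AVIdx.pt_powHom]
    show u * (toUnit X ≫ a)⁻¹ * (toUnit X ≫ a) = u
    exact inv_mul_cancel_right _ _
  have hid : h ≫ ev = 𝟙 A := by
    obtain ⟨g, -, hg⟩ := huniv A A0 e₀ T₀ i₀ hT₀ B₀ q₀ hker₀ u
    exact (hg (h ≫ ev) ⟨inferInstance, by rw [← Category.assoc, hu, hev]⟩).trans
      (hg (𝟙 A) ⟨inferInstance, Category.comp_id u⟩).symm
  -- the retraction maps the neutral component onto `C`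
  obtain ⟨v, hv⟩ : ∃ v : A0 ⟶ C, v ≫ e = e₀ ≫ h := by
    have hr : Set.range (e₀ ≫ h).left ⊆ Set.range e.left := by
      have hcl : IsClosed (Set.range e.left) := by
        haveI : IsClosedImmersion e.left := by
          haveI : IsIso (e ≫ fst C Λ) := by rw [he, lift_fst]; infer_instance
          haveI : IsSeparated (fst C Λ).left := inferInstanceAs (IsSeparated (pullback.fst C.hom Λ.hom))
          exact H23.InfArtin.isClosedImmersion_section e (fst C Λ)
        exact e.left.isClosedEmbedding.isClosed_range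
      have h1 : (e₀ ≫ h).left ⁻¹' Set.range e.left = Set.univ := by
        refine IsClopen.eq_univ ⟨hcl.preimage (e₀ ≫ h).left.continuous,
          e.left.isOpenEmbedding.isOpen_range.preimage (e₀ ≫ h).left.continuous⟩
          ⟨η[A0].left (IsLocalRing.closedPoint k), ?_⟩
        refine ⟨η[C].left (IsLocalRing.closedPoint k), ?_⟩
        show (η[C] ≫ e).left _ = (η[A0] ≫ e₀ ≫ h).left _
        rw [IsMonHom.one_hom, IsMonHom.one_hom]
      rintro _ ⟨y, rfl⟩
      exact h1.ge (Set.mem_univ y)
    refine ⟨Over.homMk (IsOpenImmersion.lift e.left (e₀ ≫ h).left hr) ?_, Over.OverMorphism.ext (IsOpenImmersion.lift_fac _ _ _)⟩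
    rw [← Over.w e, IsOpenImmersion.lift_fac_assoc, Over.w]
  have hjr : Set.range j.left ⊆ Set.range e₀.left := by
    haveI : ConnectedSpace C.left := inferInstance
    let U : A.left.Opens := e₀.left.opensRange
    have hcl : IsClosed (Set.range e₀.left) := by
      haveI : LocallyOfFiniteType A0.hom := by rw [← Over.w e₀]; infer_instance
      exact GrpSchLib.isClosed_range_of_isLocallyClosed e₀ e₀.left.isOpenEmbedding.isOpen_range.isLocallyClosed
    have h1 : j.left ⁻¹' Set.range e₀.left = Set.univ := by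
      refine IsClopen.eq_univ ⟨hcl.preimage j.left.continuous,
        e₀.left.isOpenEmbedding.isOpen_range.preimage j.left.continuous⟩
        ⟨η[C].left (IsLocalRing.closedPoint k), η[A0].left (IsLocalRing.closedPoint k), ?_⟩
      show (η[A0] ≫ e₀).left _ = (η[C] ≫ j).left _
      rw [IsMonHom.one_hom, IsMonHom.one_hom]
    rintro _ ⟨y, rfl⟩
    exact h1.ge (Set.mem_univ y)
  let r : C ⟶ A0 := Over.homMk (IsOpenImmersion.lift e₀.left j.left hjr)
    (by rw [← Over.w e₀, IsOpenImmersion.lift_fac_assoc, Over.w])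
  have hr : r ≫ e₀ = j := Over.OverMorphism.ext (IsOpenImmersion.lift_fac _ _ _)
  have hej : e ≫ ev = j := by
    simp only [ev, he, MonObj.comp_mul, lift_fst_assoc, lift_snd_assoc, Category.id_comp, MonObj.one_comp, _root_.mul_one]
  haveI : Mono e₀ := (Over.forget _).mono_of_mono_map (show Mono e₀.left by infer_instance)
  have hvr : v ≫ r = 𝟙 A0 := by
    rw [← cancel_mono e₀, Category.assoc, hr, ← hej, ← Category.assoc, hv, Category.assoc, hid, Category.comp_id,
      Category.id_comp]
  haveI : Surjective r.left := ⟨fun y => ⟨v.left y, congrArg (fun t : A0 ⟶ A0 => t.left y) hvr⟩⟩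
  haveI : LocallyOfFiniteType A0.hom := by rw [← Over.w e₀]; infer_instance
  haveI : IsSeparated A0.hom := by rw [← Over.w e₀]; infer_instance
  haveI : IsProper (r.left ≫ A0.hom) := by rw [Over.w r]; infer_instance
  haveI : UniversallyClosed A0.hom := UniversallyClosed.of_comp_surjective r.left A0.hom
  exact {}

end Groth.Agent.S19978
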