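import Groth.Statements.S19985
import Groth.Agent.ConeLib35.LineFibre

set_option autoImplicit false
universe u
open CategoryTheory CategoryTheory.Limits AlgebraicGeometry Opposite TopologicalSpace
open scoped HomogeneousIdeal
noncomputable section
open EGA2

namespace Groth.Agent.S19985

/-- Let 𝒮 be a quasi-coherent positively graded O_Y-algebra with 𝒮_0 = O_Y which is generated by 𝒮_1
(over every affine open U the ring 𝒮(U) is generated by its degree-0 and degree-1 parts), Ŝ = 𝒮[z]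
(graded homomorphism ι : 𝒮 → Ŝ and a degree-one global section z, polynomial over affine opens), C =
Spec(𝒮), X = Proj(𝒮) and Ĉ = Proj(Ŝ) with their charts, E ⊆ C and Ê ⊆ Ĉ the pointed cones, i : C → Ĉ
the canonical open immersion and p : Ê → X the canonical retraction (the morphism which on each
affine piece Spec Ŝ(U)_(ι f), f ∈ 𝒮(U) homogeneous of positive degree, is Spec of 𝒮(U)_(f) → Ŝ(U)_(ι
f) followed by the chart of X). Then p is of finite type (locally of finite type and quasi-compact)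
and for every point x of X the fibre p⁻¹(x) = Ê ×_X Spec k(x) is isomorphic over k(x) to the affine
line Spec k(x)[T]; and for every factorisation i' : E → Ê of i restricted to E, the composite π = p
∘ i' : E → X is of finite type and its fibre at every x is isomorphic over k(x) to Spec k(x)[T,
T⁻¹]. -/
theorem result {Y PC P : Scheme.{u}} (𝒮 𝒮h : RelProj.QCGrAlg Y) (h0 : RelCone.StrZeroBij 𝒮)
    (hgen : 𝒮.IsGenDegOne)
    (ι : 𝒮.toQCAlg ⟶ 𝒮h.toQCAlg) (z : 𝒮h.presheaf.obj (op ⊤)) (hz : RelCone.IsPolyOver 𝒮 𝒮h ι z)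
    (pC : PC ⟶ Y)
    (chartC : ∀ (U : Y.Opens) (hU : IsAffineOpen U), (((pC ⁻¹ᵁ U : PC.Opens) : Scheme.{u}) ≅ Proj (𝒮h.deg U hU)))
    (hPC : RelProj.IsRelProj 𝒮h pC chartC)
    (p : P ⟶ Y)
    (chart : ∀ (U : Y.Opens) (hU : IsAffineOpen U), (((p ⁻¹ᵁ U : P.Opens) : Scheme.{u}) ≅ Proj (𝒮.deg U hU)))
    (hP : RelProj.IsRelProj 𝒮 p chart)
    (i : 𝒮.toQCAlg.spec ⟶ PC) (hi : RelCone.IsConeImm 𝒮 hz pC chartC i)
    (r : ((RelCone.pointedProjCone 𝒮 hz pC chartC : PC.Opens) : Scheme.{u}) ⟶ P)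
    (hr : (∀ (U : Y.Opens) (hU : IsAffineOpen U) (d : ℕ) (hd : 0 < d) (f : 𝒮.presheaf.obj (op U)) (hf : f ∈ 𝒮.deg U hU d)
        (g : Spec (CommRingCat.of (HomogeneousLocalization.Away (𝒮h.deg U hU) ((RelProj.gradedHomAt ι hz.graded U hU) f))) ⟶
          ((RelCone.pointedProjCone 𝒮 hz pC chartC : PC.Opens) : Scheme.{u})),
        g ≫ (RelCone.pointedProjCone 𝒮 hz pC chartC).ι =
            Proj.awayι (𝒮h.deg U hU) ((RelProj.gradedHomAt ι hz.graded U hU) f) ((RelProj.gradedHomAt ι hz.graded U hU).2 hf) hd ≫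
              RelProj.emb pC chartC U hU →
          g ≫ r =
            Spec.map (CommRingCat.ofHom (HomogeneousLocalization.Away.map (RelProj.gradedHomAt ι hz.graded U hU) f)) ≫
              Proj.awayι (𝒮.deg U hU) f hf hd ≫ RelProj.emb p chart U hU)) :
    (LocallyOfFiniteType r ∧ QuasiCompact r ∧
        ∀ x : ↥P, ∃ e : pullback r (P.fromSpecResidueField x) ≅ Spec (CommRingCat.of (Polynomial (P.residueField x))),
          e.hom ≫ Spec.map (CommRingCat.ofHom (algebraMap (P.residueField x) (Polynomial (P.residueField x)))) =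
            pullback.snd r (P.fromSpecResidueField x)) ∧
      ∀ i' : ((RelCone.pointedCone 𝒮 : 𝒮.toQCAlg.spec.Opens) : Scheme.{u}) ⟶
          ((RelCone.pointedProjCone 𝒮 hz pC chartC : PC.Opens) : Scheme.{u}),
        i' ≫ (RelCone.pointedProjCone 𝒮 hz pC chartC).ι = (RelCone.pointedCone 𝒮).ι ≫ i →
          LocallyOfFiniteType (i' ≫ r) ∧ QuasiCompact (i' ≫ r) ∧
        ∀ x : ↥P, ∃ e : pullback (i' ≫ r) (P.fromSpecResidueField x) ≅ Spec (CommRingCat.of (LaurentPolynomial (P.residueField x))),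
          e.hom ≫ Spec.map (CommRingCat.ofHom (algebraMap (P.residueField x) (LaurentPolynomial (P.residueField x)))) =
            pullback.snd (i' ≫ r) (P.fromSpecResidueField x) := by
  have hcover : ∀ x : P, ∃ (U : Y.Opens) (hU : IsAffineOpen U) (f : 𝒮.presheaf.obj (op U)) (hf : f ∈ 𝒮.deg U hU 1),
      x ∈ Set.range (Proj.awayι (𝒮.deg U hU) f hf one_pos ≫ RelProj.emb p chart U hU) := by
    intro x
    obtain ⟨_, ⟨U, hU₀, rfl⟩, hxU, -⟩ := Y.isBasis_affineOpens.exists_subset_of_mem_open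
      (Set.mem_univ (p x)) isOpen_univ
    have hU : IsAffineOpen U := hU₀
    obtain ⟨v, rfl⟩ := ProjQMapX.exists_emb_eq (chart := chart) U hU hxU
    obtain ⟨f, hf, hvf⟩ : ∃ f ∈ 𝒮.deg U hU 1, f ∉ v.asHomogeneousIdeal := by
      by_contra! hne
      refine v.not_irrelevant_le ?_
      have hadj : Algebra.adjoin (𝒮.deg U hU 0) (𝒮.deg U hU 1 : Set (𝒮.presheaf.obj (op U))) = ⊤ := by
        refine top_le_iff.mp fun a _ => ?_
        have hle : Subring.closure ((𝒮.deg U hU 0 : Set (𝒮.presheaf.obj (op U))) ∪ (𝒮.deg U hU 1 : Set _)) ≤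
            (Algebra.adjoin (𝒮.deg U hU 0) (𝒮.deg U hU 1 : Set (𝒮.presheaf.obj (op U)))).toSubring := by
          rw [Subring.closure_le]
          rintro y (hy | hy)
          · exact Subalgebra.algebraMap_mem (Algebra.adjoin (𝒮.deg U hU 0) _) ⟨y, hy⟩
          · exact Algebra.subset_adjoin hy
        exact hle (hgen U hU ▸ trivial)
      exact (Proj16.irrelevant_le_span_of_adjoin_eq_top (𝒮.deg U hU) (fun e he => ⟨1, one_pos, he⟩) hadj).trans
        (Ideal.span_le.mpr hne)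
    refine ⟨U, hU, f, hf, ?_⟩
    rw [ProjQMapX.range_toP_base U hU one_pos hf]
    exact ⟨v, hvf, rfl⟩
  let O : (Σ' (U : Y.Opens) (hU : IsAffineOpen U) (f : 𝒮.presheaf.obj (op U)), f ∈ 𝒮.deg U hU 1) → P.Opens :=
    fun c => (Proj.awayι (𝒮.deg c.1 c.2.1) c.2.2.1 c.2.2.2 one_pos ≫ RelProj.emb p chart c.1 c.2.1).opensRange
  have hO : ⨆ c, O c = ⊤ := eq_top_iff.mpr fun x _ => by
    obtain ⟨U, hU, f, hf, hx⟩ := hcover x
    exact Opens.mem_iSup.mpr ⟨⟨U, hU, f, hf⟩, hx⟩
  have hlocal : ∀ {X : Scheme.{u}} (g : X ⟶ P) (Pr : MorphismProperty Scheme.{u}) [IsZariskiLocalAtTarget Pr],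
      (∀ (U : Y.Opens) (hU : IsAffineOpen U) (f : 𝒮.presheaf.obj (op U)) (hf : f ∈ 𝒮.deg U hU 1),
        ∃ (L : CommRingCat.{u}) (φ : CommRingCat.of (HomogeneousLocalization.Away (𝒮.deg U hU) f) ⟶ L)
          (k : Spec L ⟶ X), IsPullback k (Spec.map φ) g
            (Proj.awayι (𝒮.deg U hU) f hf one_pos ≫ RelProj.emb p chart U hU) ∧ Pr (Spec.map φ)) → Pr g := by
    intro X g Pr _ H
    refine IsZariskiLocalAtTarget.of_iSup_eq_top O hO ?_
    rintro ⟨U, hU, f, hf⟩
    obtain ⟨L, φ, k, hk, hPr⟩ := H U hU f hf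
    refine (Pr.arrow_mk_iso_iff (morphismRestrictOpensRange g
      (Proj.awayι (𝒮.deg U hU) f hf one_pos ≫ RelProj.emb p chart U hU) ≪≫ ?_)).mpr hPr
    exact Arrow.isoMk hk.isoPullback.symm (Iso.refl _)
      ((hk.isoPullback_inv_snd).trans (Category.comp_id _).symm)
  have hFT : ∀ (U : Y.Opens) (hU : IsAffineOpen U) (f : 𝒮.presheaf.obj (op U)),
      LocallyOfFiniteType (Spec.map (CommRingCat.ofHom (Polynomial.C :
        HomogeneousLocalization.Away (𝒮.deg U hU) f →+* _))) ∧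
      LocallyOfFiniteType (Spec.map (CommRingCat.ofHom (algebraMap
        (HomogeneousLocalization.Away (𝒮.deg U hU) f)
        (LaurentPolynomial (HomogeneousLocalization.Away (𝒮.deg U hU) f))))) := fun U hU f => by
    constructor <;> rw [HasRingHomProperty.Spec_iff (P := @LocallyOfFiniteType)]
    · exact RingHom.finiteType_algebraMap.mpr
        (inferInstance : Algebra.FiniteType _ (Polynomial (HomogeneousLocalization.Away (𝒮.deg U hU) f)))
    · exact RingHom.finiteType_algebraMap.mpr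
        (inferInstance : Algebra.FiniteType _ (LaurentPolynomial (HomogeneousLocalization.Away (𝒮.deg U hU) f)))
  refine ⟨⟨hlocal r @LocallyOfFiniteType fun U hU f hf => ?_, hlocal r @QuasiCompact fun U hU f hf => ?_,
    fun x => ?_⟩, fun i' hi' =>
    ⟨hlocal (i' ≫ r) @LocallyOfFiniteType fun U hU f hf => ?_,
      hlocal (i' ≫ r) @QuasiCompact fun U hU f hf => ?_, fun x => ?_⟩⟩
  · obtain ⟨g, hg, -⟩ := ConeLib35.exists_line_pullback hz hPC hP hr U hU hf
    exact ⟨_, _, g, hg, (hFT U hU f).1⟩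
  · obtain ⟨g, hg, -⟩ := ConeLib35.exists_line_pullback hz hPC hP hr U hU hf
    exact ⟨_, _, g, hg, inferInstance⟩
  · obtain ⟨U, hU, f, hf, hx⟩ := hcover x
    obtain ⟨g, hg, -⟩ := ConeLib35.exists_line_pullback hz hPC hP hr U hU hf
    exact ConeLib35.exists_fibre_iso r hg (fun K _ => CommRingCat.of (Polynomial K))
      (fun K _ => CommRingCat.ofHom (algebraMap K (Polynomial K)))
      (fun K _ h => ⟨_, ConeLib35.isPushout_polynomial h.hom⟩) x hx
  · obtain ⟨g, hg⟩ := ConeLib35.exists_torus_pullback hz hPC hP hr hi hi' U hU hf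
    exact ⟨_, _, g, hg, (hFT U hU f).2⟩
  · obtain ⟨g, hg⟩ := ConeLib35.exists_torus_pullback hz hPC hP hr hi hi' U hU hf
    exact ⟨_, _, g, hg, inferInstance⟩
  · obtain ⟨U, hU, f, hf, hx⟩ := hcover x
    obtain ⟨g, hg⟩ := ConeLib35.exists_torus_pullback hz hPC hP hr hi hi' U hU hf
    exact ConeLib35.exists_fibre_iso (i' ≫ r) hg (fun K _ => CommRingCat.of (LaurentPolynomial K))
      (fun K _ => CommRingCat.ofHom (algebraMap K (LaurentPolynomial K)))
      (fun K _ h => ⟨_, ConeLib35.isPushout_laurent h.hom⟩) x hx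

end Groth.Agent.S19985
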