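import Groth.Statements.S20012
import Groth.Agent.MdlA1.ImageSys
import Groth.Agent.ModPairLib.Quot
import Groth.Agent.MdlA1.LimPrincipal
import Groth.Agent.LimMor.RelLimit

set_option autoImplicit false
universe u
open CategoryTheory CategoryTheory.Limits AlgebraicGeometry TopologicalSpace
open ModPair

set_option linter.style.haveILetI false

namespace Groth.Agent.S20012

/-- Let (S, I_S) be a modulus pair — a scheme with the quasi-coherent ideal sheaf of an effective
Cartier divisor — with S quasi-compact and quasi-separated, and let (X, I_X) be a modulus pair with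
an ambient morphism f : X ⟶ S (modulus condition I_X ≤ I_S.comap f) which is quasi-compact and
separated. Then (X, I_X) is a limit of finite-type S-pairs along affine, minimal,
scheme-theoretically dominant transitions: there are a cofiltered system D of S-schemes with limit X
(as an S-scheme) and quasi-coherent ideal sheaves J_i of effective Cartier divisors on its members
such that every X_i ⟶ S is separated and of finite type and satisfies the modulus condition J_i ≥
I_S pulled back, every transition morphism is affine, minimal (J_i is the pull-back of J_j) and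
scheme-theoretically dominant, and I_X is the pull-back of J_i along the projection for every i.
(The full faithfulness half of the published statement is the hom formula for such systems and is
not part of this row.) -/
theorem result
    {X S : Scheme.{u}} [CompactSpace S] [QuasiSeparatedSpace S]
    (IS : S.IdealSheafData) (hS : BlowUp.IsEffCartierIdeal IS)
    (IX : X.IdealSheafData) (hX : BlowUp.IsEffCartierIdeal IX)
    (f : X ⟶ S) [QuasiCompact f] [IsSeparated f] (hf : ModPair.IsAmbient IX IS f) :
    ∃ (I : Type u) (_ : SmallCategory I) (_ : IsCofiltered I) (D : I ⥤ Over S) (c : Cone D)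
      (_ : IsLimit c) (e : c.pt ≅ Over.mk f) (J : ∀ i, (D.obj i).left.IdealSheafData),
      (∀ i, BlowUp.IsEffCartierIdeal (J i)) ∧
      (∀ i, LocallyOfFiniteType (D.obj i).hom ∧ QuasiCompact (D.obj i).hom ∧ IsSeparated (D.obj i).hom) ∧
      (∀ i, ModPair.IsAmbient (J i) IS (D.obj i).hom) ∧
      (∀ (i j : I) (t : i ⟶ j), IsAffineHom (D.map t).left ∧ ModPair.IsMinimal (J i) (J j) (D.map t).left ∧
          IsSchemeTheoreticallyDominant (D.map t).left) ∧
      (∀ i, IX = (J i).comap (e.inv.left ≫ (c.π.app i).left)) := by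
  classical
  haveI : CompactSpace X := QuasiCompact.compactSpace_of_compactSpace f
  haveI : QuasiSeparatedSpace X := quasiSeparatedSpace_of_quasiSeparated f
  obtain ⟨I, _, hdir, _, D, π, hlim, hD, haff⟩ := LimMor.exists_isLimit_fp f
  haveI : IsDirectedOrder I := hdir
  haveI : IsConnected Iᵒᵖ := IsCofiltered.isConnected _
  haveI hA₀ : ∀ {i j : Iᵒᵖ} (a : i ⟶ j), IsAffineHom ((D ⋙ Over.forget S).map a) := fun a => haff _ _ a
  have hπaff : ∀ i, IsAffineHom (π.app i).left := fun i =>
    isAffineHom_π_app _ _ (isLimitOfPreserves (Over.forget S) hlim) i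
  haveI : ∀ i, QuasiCompact (π.app i).left := fun i => have := hπaff i; inferInstance
  let D' := MdlA1.ImageSys.sys D π
  let c' := MdlA1.ImageSys.cone D π
  let hc' : IsLimit c' := MdlA1.ImageSys.isLimitCone D π hlim
  have haff' : ∀ (i j : Iᵒᵖ) (a : i ⟶ j), IsAffineHom (D'.map a).left := fun i j a =>
    have := haff i j a; MdlA1.ImageSys.isAffineHom_tr D π a
  let F := D' ⋙ Over.forget S
  let cF : Cone F := (Over.forget S).mapCone c'
  have hcF : IsLimit cF := isLimitOfPreserves (Over.forget S) hc'
  haveI hA : ∀ {i j : Iᵒᵖ} (a : i ⟶ j), IsAffineHom (F.map a) := fun a => haff' _ _ a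
  haveI hqc : ∀ i, CompactSpace (F.obj i) := fun i => by
    haveI : CompactSpace (D.obj i).left := (hD i).2.2.2.1
    exact (MdlA1.ImageSys.p D π i).imageι.isClosedEmbedding.compactSpace
  haveI hqs : ∀ i, QuasiSeparatedSpace (F.obj i) := fun i => by
    haveI : QuasiSeparatedSpace (D.obj i).left := (hD i).2.2.2.2.1
    exact quasiSeparatedSpace_of_quasiSeparated (X := (MdlA1.ImageSys.p D π i).image)
      (MdlA1.ImageSys.p D π i).imageι
  -- descend the modulus
  have hIX : ∀ U : X.affineOpens, (IX.ideal U).FG :=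
    fun U => ModPairLib.fg_of_isLocPrincipal (ModPairLib.isLocPrincipal_of_isEffCartier hX) U
  obtain ⟨i₁, -, K, hK, hKX⟩ := MorLib.IdealFG.exists_comap_eq hcF (IsCofiltered.nonempty (C := Iᵒᵖ)).some IX hIX
  obtain ⟨i₂, a, hLP⟩ := MdlA1.LimPrincipal.exists_isLocPrincipal F cF hcF K hK
    (hKX.symm ▸ ModPairLib.isLocPrincipal_of_isEffCartier hX)
  let q : ∀ i, X ⟶ (D'.obj i).left := fun i => (c'.π.app i).left
  have hq : ∀ (i j : Iᵒᵖ) (t : i ⟶ j), q i ≫ (D'.map t).left = q j := fun i j t =>
    congrArg CommaMorphism.left (c'.w t)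
  have hqf : ∀ i, q i ≫ (D'.obj i).hom = f := fun i => Over.w (c'.π.app i)
  let K₂ : (D'.obj i₂).left.IdealSheafData := (K : (D'.obj i₁).left.IdealSheafData).comap (D'.map a).left
  have hK₂ : K₂.comap (q i₂) = IX :=
    (MdlA1.ImageSys.comap_comp_of_w (q i₂) (D'.map a).left (q i₁) (hq _ _ a) _).trans hKX
  have hle : K₂.comap (q i₂) ≤ (IS.comap (D'.obj i₂).hom).comap (q i₂) := by
    rw [hK₂, MdlA1.ImageSys.comap_comp_of_w (q i₂) (D'.obj i₂).hom f (hqf i₂)]
    exact hf
  obtain ⟨i₃, b, hb⟩ := MdlA1.LimAmbient.exists_le F cF hcF K₂ (IS.comap (D'.obj i₂).hom) hLP hle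
  let K₃ : (D'.obj i₃).left.IdealSheafData := K₂.comap (D'.map b).left
  have hK₃ : K₃.comap (q i₃) = IX :=
    (MdlA1.ImageSys.comap_comp_of_w (q i₃) (D'.map b).left (q i₂) (hq _ _ b) _).trans hK₂
  have hLP₃ : ModPairLib.IsLocPrincipal K₃ := ModPairLib.IsLocPrincipal.comap hLP _
  -- the system above `i₃`
  let G := Over.forget i₃ ⋙ D'
  let cG : Cone G := c'.whisker (Over.forget i₃)
  have hcG : IsLimit cG := (Functor.Initial.isLimitWhiskerEquiv (Over.forget i₃) c').symm hc'
  let J : ∀ k : Over i₃, (D'.obj k.left).left.IdealSheafData := fun k => K₃.comap (D'.map k.hom).left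
  have hJX : ∀ k : Over i₃, (J k).comap (q k.left) = IX := fun k =>
    (MdlA1.ImageSys.comap_comp_of_w (q k.left) (D'.map k.hom).left (q i₃) (hq _ _ k.hom) _).trans hK₃
  have hJ : ∀ k : Over i₃, BlowUp.IsEffCartierIdeal (J k) := fun k =>
    @MdlA1.ImageSys.isEffCartier_of_comap _ _ (q k.left)
      (MdlA1.ImageSys.isSchemeTheoreticallyDominant_cone D π k.left) _
      (ModPairLib.IsLocPrincipal.comap hLP₃ _) ((hJX k).symm ▸ hX)
  refine ⟨Over i₃, inferInstance, inferInstance, G, cG, hcG, Iso.refl _, J, hJ, fun k => ?_, fun k => ?_,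
    fun k l t => ⟨haff' _ _ _, ?_, MdlA1.ImageSys.isSchemeTheoreticallyDominant_tr D π t.left⟩, fun k => ?_⟩
  · haveI := (hD k.left).1
    haveI := (hD k.left).2.1
    haveI := (hD k.left).2.2.2.2.2 inferInstance inferInstance
    exact ⟨inferInstanceAs (LocallyOfFiniteType ((MdlA1.ImageSys.p D π k.left).imageι ≫ (D.obj k.left).hom)),
      inferInstanceAs (QuasiCompact ((MdlA1.ImageSys.p D π k.left).imageι ≫ (D.obj k.left).hom)),
      inferInstanceAs (IsSeparated ((MdlA1.ImageSys.p D π k.left).imageι ≫ (D.obj k.left).hom))⟩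
  · have h1 : J k ≤ ((IS.comap (D'.obj i₂).hom).comap (D'.map b).left).comap (D'.map k.hom).left :=
      Scheme.IdealSheafData.comap_mono _ hb
    refine h1.trans (le_of_eq ?_)
    rw [MdlA1.ImageSys.comap_comp_of_w (D'.map b).left (D'.obj i₂).hom (D'.obj i₃).hom (Over.w (D'.map b))]
    exact MdlA1.ImageSys.comap_comp_of_w (D'.map k.hom).left (D'.obj i₃).hom (D'.obj k.left).hom
      (Over.w (D'.map k.hom)) IS
  · refine (MdlA1.ImageSys.comap_comp_of_w (D'.map t.left).left (D'.map l.hom).left (D'.map k.hom).left ?_ _).symm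
    refine (Over.comp_left _ _ _ _ _).symm.trans ?_
    rw [← D'.map_comp, Over.w t]
  · refine (hJX k).symm.trans (congrArg (J k).comap ?_)
    exact (Category.id_comp _).symm

end Groth.Agent.S20012
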