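import Groth.Statements.S20017
import Groth.Agent.NonAbLib.IsomNormal
-- import your own Groth.Agent.* helpers here

set_option autoImplicit false
universe u
open CategoryTheory AlgebraicGeometry
open NonAbH1

namespace Groth.Agent.S20017

/-- Let X be a normal integral scheme (integral, with every local ring integrally closed), G a group
scheme over X whose structure morphism is finite and flat, and U ⊆ X a dense open subscheme. Then
the restriction map H¹(X, G) → H¹(U, G|_U) on classes of fppf G-torsors — X-schemes with a G-action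
which are pseudo-torsors and acquire sections on the members of some fppf covering family, up to
equivariant isomorphism — given by base change along the open immersion U → X, is injective. (G is
not assumed commutative; injectivity is that of a map of pointed sets.) -/
theorem result
    (X : Scheme.{u}) [AlgebraicGeometry.IsIntegral X] (hX : Pi1.IsNormalScheme X)
    (G : Over X) [GrpObj G] [IsFinite G.hom] [Flat G.hom]
    (U : X.Opens) (hU : Dense (U : Set X)) :
    Function.Injective (NonAbH1.H1Sch.bcMap U.ι G Scheme.fppfPrecoverage) := by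
  open CategoryTheory MonoidalCategory CartesianMonoidalCategory Limits in
  intro c₁ c₂
  induction c₁ using Quot.ind with | mk P => ?_
  induction c₂ using Quot.ind with | mk Q => ?_
  refine fun h => Quot.sound ?_
  have hr : Equivalence (fun P Q : NonAbH1.TorsorSch (Red.bc U.ι G) Scheme.fppfPrecoverage =>
      Nonempty (NonAbH1.EquivIso P.act Q.act)) :=
    { refl := fun P => ⟨⟨Iso.refl _, by simp⟩⟩
      symm := fun {P Q} ⟨e⟩ => ⟨⟨e.iso.symm, by
        rw [Iso.symm_hom, ← cancel_mono e.iso.hom]
        simp only [Category.assoc, Iso.inv_hom_id, Category.comp_id, e.comm, whiskerLeft_inv_hom_assoc]⟩⟩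
      trans := fun {P Q R} ⟨e⟩ ⟨e'⟩ => ⟨⟨e.iso ≪≫ e'.iso, by
        rw [Iso.trans_hom, reassoc_of% e.comm, e'.comm, MonoidalCategory.whiskerLeft_comp, Category.assoc]⟩⟩ }
  obtain ⟨e⟩ : Nonempty (NonAbH1.EquivIso (P.bc U.ι).act (Q.bc U.ι).act) :=
    hr.eqvGen_iff.1 (Quot.eqvGen_exact h)
  have ha := NonAbLib.torsor_mono NonAbLib.fppf_le_fpqc P.isTorsor
  have hb := NonAbLib.torsor_mono NonAbLib.fppf_le_fpqc Q.isTorsor
  have hη : genericPoint X ∈ U := by
    obtain ⟨x, hx⟩ := hU.nonempty
    exact SchTorsor.genericPoint_mem U hx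
  let T : Over X := (Over.map U.ι).obj (Over.mk (𝟙 (U : Scheme.{u})))
  let W : Over (U : Scheme.{u}) := Over.mk ((fst T P.X).left)
  let fr : (Over.map U.ι).obj W ⟶ T ⊗ P.X := Over.homMk (𝟙 _) ((Category.id_comp _).trans (Over.w (fst T P.X)).symm)
  let fr' : T ⊗ P.X ⟶ (Over.map U.ι).obj W := Over.homMk (𝟙 _) ((Category.id_comp _).trans (Over.w (fst T P.X)))
  let eh : (Over.pullback U.ι).obj P.X ⟶ (Over.pullback U.ι).obj Q.X := e.iso.hom
  let he := fun (W' : Over (U : Scheme.{u})) (Y : Over X) => (Over.mapPullbackAdj U.ι).homEquiv W' Y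
  let ψ : T ⊗ P.X ⟶ Q.X := fr' ≫ (he W Q.X).symm (he W P.X (fr ≫ snd T P.X) ≫ eh)
  have hnat : ∀ {Z : Over X} (t : Z ⟶ T) (x : Z ⟶ P.X) (k : (Over.map U.ι).obj (Over.mk t.left) ⟶ Z),
      k.left = 𝟙 Z.left →
        k ≫ lift t x ≫ ψ = (he (Over.mk t.left) Q.X).symm (he (Over.mk t.left) P.X (k ≫ x) ≫ eh) := by
    intro Z t x k hk
    let l : Over.mk t.left ⟶ W := Over.homMk (lift t x).left (congrArg CommaMorphism.left (lift_fst t x))
    have hl : (Over.map U.ι).map l ≫ fr = k ≫ lift t x :=
      Over.OverMorphism.ext (Eq.trans (Category.comp_id _) (Eq.symm ((congrArg (fun m => m ≫ (lift t x).left) hk).trans (Category.id_comp _))))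
    have h1 : k ≫ lift t x ≫ fr' = (Over.map U.ι).map l :=
      Over.OverMorphism.ext (Eq.trans (congrArg (fun m => m ≫ (lift t x).left ≫ _) hk)
        ((Category.id_comp _).trans (Category.comp_id _)))
    simp only [ψ, reassoc_of% h1, he]
    rw [← Adjunction.homEquiv_naturality_left_symm, ← Category.assoc l, ← Adjunction.homEquiv_naturality_left,
      ← Category.assoc ((Over.map U.ι).map l), hl, Category.assoc, lift_snd]
  refine NonAbLib.exists_equivIso_of_point hX ha hb (T := T)
    (IsOpenImmersion.lift U.ι (X.fromSpecStalk (genericPoint X)) ?_) ?_ ψ ?_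
  · rintro _ ⟨z, rfl⟩
    rw [Scheme.Opens.range_ι]
    have hz : X.fromSpecStalk (genericPoint X) z ∈ Set.range (X.fromSpecStalk (genericPoint X)) := ⟨z, rfl⟩
    rw [Scheme.range_fromSpecStalk] at hz
    show X.fromSpecStalk (genericPoint X) z ∈ U
    rw [(hz.antisymm (genericPoint_specializes _)).eq]
    exact hη
  · show _ ≫ 𝟙 _ ≫ U.ι = _
    rw [Category.id_comp]
    exact IsOpenImmersion.lift_fac _ _ _
  · intro Z t g x
    let k : (Over.map U.ι).obj (Over.mk t.left) ⟶ Z := Over.homMk (𝟙 _) ((Category.id_comp _).trans (by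
      exact (Over.w t).symm.trans (congrArg (t.left ≫ ·) (Category.id_comp _))))
    have : IsIso ((Over.forget X).map k) := inferInstanceAs (IsIso (𝟙 Z.left))
    have : IsIso k := isIso_of_reflects_iso k (Over.forget X)
    rw [← cancel_epi k, hnat t _ k rfl, ← Category.assoc k (lift g x), comp_lift, ← Category.assoc k (lift g _), comp_lift,
      hnat t x k rfl]
    apply (he _ Q.X).injective
    rw [Equiv.apply_symm_apply]
    simp only [he]
    rw [← AlgGrp.Action.lift_homEquiv_bc_act, ← AlgGrp.Action.lift_homEquiv_bc_act, Equiv.apply_symm_apply,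
      Category.assoc]
    exact (congrArg (_ ≫ ·) e.comm).trans (lift_whiskerLeft_assoc _ _ _ _)

end Groth.Agent.S20017
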