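import Groth.Statements.S20025
import Mathlib.LinearAlgebra.Matrix.NonsingularInverse
import Mathlib.LinearAlgebra.Matrix.Determinant.Basic
import Mathlib.Tactic

set_option autoImplicit false
universe u
open InvQ

namespace Groth.Agent.S20025

open W4c6intromoduli Matrix

lemma pick (a b : Fin 4) (h : a ≠ b) : ∃ c d : Fin 4, a ≠ c ∧ a ≠ d ∧ b ≠ c ∧ b ≠ d ∧ c ≠ d ∧
    (Finset.univ : Finset (Fin 4)) = {a, b, c, d} := by
  revert a b; decide

lemma eval_subst {k : Type u} [CommRing k] (M : Matrix (Fin 2) (Fin 2) k) (v : Fin 2 → k)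
    (p : MvPolynomial (Fin 2) k) :
    MvPolynomial.eval v (subst M p) = MvPolynomial.eval (M *ᵥ v) p := by
  induction p using MvPolynomial.induction_on with
  | C c => simp [subst]
  | add p q hp hq => simp [hp, hq]
  | mul_X p i hp =>
    have hX : MvPolynomial.eval v (subst M (MvPolynomial.X i)) = (M *ᵥ v) i := by
      simp [subst, Matrix.mulVec, dotProduct]
    rw [map_mul, map_mul, hp, hX, map_mul, MvPolynomial.eval_X]

/-- The two model forms are inequivalent. -/
lemma models_ne {k : Type u} [Field k] (M₁ M₂ : Matrix (Fin 2) (Fin 2) k) (c₁ c₂ : k)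
    (hM₁ : IsUnit M₁.det) (hM₂ : IsUnit M₂.det) (hc₁ : c₁ ≠ 0) (hc₂ : c₂ ≠ 0) :
    MvPolynomial.C c₁ * subst M₁ (MvPolynomial.X 0 ^ 2 * MvPolynomial.X 1 * (MvPolynomial.X 0 - MvPolynomial.X 1)) ≠
      MvPolynomial.C c₂ * subst M₂ (MvPolynomial.X 0 ^ 2 * MvPolynomial.X 1 ^ 2) := by
  intro h
  let N := M₂ * M₁⁻¹
  have hN : N.det ≠ 0 := by
    rw [Matrix.det_mul]
    exact mul_ne_zero hM₂.ne_zero ((Matrix.isUnit_nonsing_inv_det _ hM₁).ne_zero)
  have key : ∀ x : Fin 2 → k, x 0 ^ 2 * x 1 * (x 0 - x 1) = 0 →
      (N *ᵥ x) 0 * (N *ᵥ x) 1 = 0 := by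
    intro x hx
    have h' := congrArg (MvPolynomial.eval (M₁⁻¹ *ᵥ x)) h
    rw [map_mul (MvPolynomial.eval _), map_mul (MvPolynomial.eval _), eval_subst, eval_subst, Matrix.mulVec_mulVec, Matrix.mulVec_mulVec,
      Matrix.mul_nonsing_inv _ hM₁, Matrix.one_mulVec] at h'
    simp only [map_mul, map_pow, map_sub, MvPolynomial.eval_X, MvPolynomial.eval_C, hx, mul_zero] at h'
    have := (mul_eq_zero.1 h'.symm).resolve_left hc₂
    rw [← mul_pow] at this
    exact pow_eq_zero_iff two_ne_zero |>.1 this
  have e1 : N 0 0 * N 1 0 = 0 := by simpa [Matrix.mulVec, dotProduct] using key ![1, 0] (by simp)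
  have e2 : N 0 1 * N 1 1 = 0 := by simpa [Matrix.mulVec, dotProduct] using key ![0, 1] (by simp)
  have e3 : (N 0 0 + N 0 1) * (N 1 0 + N 1 1) = 0 := by
    simpa [Matrix.mulVec, dotProduct] using key ![1, 1] (by simp)
  rw [Matrix.det_fin_two] at hN
  rcases mul_eq_zero.1 e1 with a | a <;> rcases mul_eq_zero.1 e2 with b | b <;> simp_all

/-- For the special fibre of the invariant map, over a field in which 2 and 3 are nonzero, consider a
split binary quartic f = ∏_i (μ_i X₀ − λ_i X₁) given by four root points (λ_i, μ_i) ≠ (0, 0), with a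
double zero (vanishing discriminant ∏_{i<j} (λ_j μ_i − λ_i μ_j)²) and no triple zero (no three root
points pairwise proportional); these are the forms of the fibre over the special point P³/Q² = 6 of
the invariant map. Then exactly one of the two alternatives holds: f is a nonzero constant times the
form X₀² X₁ (X₀ − X₁) after an invertible linear substitution of the variables, or f is a nonzero
constant times X₀² X₁² after such a substitution. So this fibre consists of exactly two classes
under substitutions and scalars (one double zero and two simple zeros; two double zeros). (The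
dimensions of the two orbits and which of them is open or closed in the fibre are not part of this
row; stated for split forms over any such field.) -/
theorem result (k : Type u) [Field k]
    (h2 : (2 : k) ≠ 0) (h3 : (3 : k) ≠ 0) (la mu : Fin 4 → k)
    (hne : ∀ i, la i ≠ 0 ∨ mu i ≠ 0) (hd : W4c6intromoduli.disc la mu = 0)
    (h3z : ∀ i j l : Fin 4, i ≠ j → j ≠ l → i ≠ l →
      ¬ (la i * mu j = la j * mu i ∧ la j * mu l = la l * mu j)) :
    Xor
      (∃ (M : Matrix (Fin 2) (Fin 2) k) (c : k), IsUnit M.det ∧ c ≠ 0 ∧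
        W4c6intromoduli.binForm la mu =
          MvPolynomial.C c * W4c6intromoduli.subst M
            (MvPolynomial.X 0 ^ 2 * MvPolynomial.X 1 * (MvPolynomial.X 0 - MvPolynomial.X 1)))
      (∃ (M : Matrix (Fin 2) (Fin 2) k) (c : k), IsUnit M.det ∧ c ≠ 0 ∧
        W4c6intromoduli.binForm la mu =
          MvPolynomial.C c * W4c6intromoduli.subst M
            (MvPolynomial.X 0 ^ 2 * MvPolynomial.X 1 ^ 2)) := by
  let L : Fin 4 → MvPolynomial (Fin 2) k :=
    fun i => MvPolynomial.C (mu i) * MvPolynomial.X 0 - MvPolynomial.C (la i) * MvPolynomial.X 1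
  let D : Fin 4 → Fin 4 → k := fun i j => mu i * la j - la i * mu j
  have hexists : (∃ (M : Matrix (Fin 2) (Fin 2) k) (c : k), IsUnit M.det ∧ c ≠ 0 ∧
        binForm la mu = MvPolynomial.C c * subst M
            (MvPolynomial.X 0 ^ 2 * MvPolynomial.X 1 * (MvPolynomial.X 0 - MvPolynomial.X 1))) ∨
      (∃ (M : Matrix (Fin 2) (Fin 2) k) (c : k), IsUnit M.det ∧ c ≠ 0 ∧
        binForm la mu = MvPolynomial.C c * subst M (MvPolynomial.X 0 ^ 2 * MvPolynomial.X 1 ^ 2)) := by
    obtain ⟨⟨a, b⟩, hp, hp0⟩ := Finset.prod_eq_zero_iff.1 hd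
    have hab : a ≠ b := (Finset.mem_filter.1 hp).2.ne
    have hD : D a b = 0 := by
      have := pow_eq_zero_iff two_ne_zero |>.1 hp0
      show mu a * la b - la a * mu b = 0
      linear_combination this
    obtain ⟨c, d, hac, had, hbc, hbd, hcd, huniv⟩ := pick a b hab
    have hprod : binForm la mu = L a * L b * L c * L d := by
      rw [binForm, huniv, Finset.prod_insert (by simp [hab, hac, had]), Finset.prod_insert (by simp [hbc, hbd]),
        Finset.prod_pair hcd]
      simp only [L]; ring
    have hprop : ∀ i j, D i j = 0 → ∃ t : k, t ≠ 0 ∧ L j = MvPolynomial.C t * L i := by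
      intro i j hij
      have hij' : mu i * la j = la i * mu j := sub_eq_zero.1 hij
      rcases hne i with hi | hi
      · refine ⟨la j / la i, div_ne_zero ?_ hi, ?_⟩
        · intro h0
          rw [h0, mul_zero] at hij'
          rcases hne j with h | h
          · exact h h0
          · exact h ((mul_eq_zero.1 hij'.symm).resolve_left hi)
        · have e1 : la j / la i * la i = la j := div_mul_cancel₀ _ hi
          have e2 : la j / la i * mu i = mu j := by field_simp; linear_combination hij'
          simp only [L, mul_sub, ← mul_assoc, ← map_mul, e1, e2]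
      · refine ⟨mu j / mu i, div_ne_zero ?_ hi, ?_⟩
        · intro h0
          rw [h0, mul_zero] at hij'
          rcases hne j with h | h
          · exact h ((mul_eq_zero.1 hij').resolve_left hi)
          · exact h h0
        · have e1 : mu j / mu i * mu i = mu j := div_mul_cancel₀ _ hi
          have e2 : mu j / mu i * la i = la j := by field_simp; linear_combination -hij'
          simp only [L, mul_sub, ← mul_assoc, ← map_mul, e1, e2]
    obtain ⟨t, ht, hLb⟩ := hprop a b hD
    have hDac : D a c ≠ 0 := fun h => h3z b a c hab.symm hac hbc ⟨by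
      linear_combination (norm := (simp only [D]; ring)) hD, by
      linear_combination (norm := (simp only [D]; ring)) -h⟩
    have hDad : D a d ≠ 0 := fun h => h3z b a d hab.symm had hbd ⟨by
      linear_combination (norm := (simp only [D]; ring)) hD, by
      linear_combination (norm := (simp only [D]; ring)) -h⟩
    by_cases hDcd : D c d = 0
    · obtain ⟨e, he, hLd⟩ := hprop c d hDcd
      refine Or.inr ⟨!![mu a, -la a; mu c, -la c], t * e, ?_, mul_ne_zero ht he, ?_⟩
      · rw [Matrix.det_fin_two_of, isUnit_iff_ne_zero]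
        intro h; apply hDac; simp only [D]; linear_combination -h
      · rw [hprod, hLb, hLd]
        simp [subst, L, map_mul]
        ring
    · let p : k := D d c
      let q : k := D a d
      have hp : p ≠ 0 := fun h => hDcd (by simp only [p, D] at h ⊢; linear_combination -h)
      refine Or.inl ⟨!![p * mu a, -(p * la a); -(q * mu c), q * la c], t * (p ^ 2 * (-q) * D a c)⁻¹, ?_,
        mul_ne_zero ht (inv_ne_zero (mul_ne_zero (mul_ne_zero (pow_ne_zero _ hp) (neg_ne_zero.2 hDad)) hDac)), ?_⟩
      · rw [Matrix.det_fin_two_of, isUnit_iff_ne_zero]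
        intro h
        apply mul_ne_zero (mul_ne_zero hp hDad) hDac
        simp only [D, p, q] at h ⊢
        linear_combination h
      · have hsum : MvPolynomial.C p * L a + MvPolynomial.C q * L c = MvPolynomial.C (D a c) * L d := by
          simp only [p, q, D, L, map_sub, map_mul]
          ring
        have hs : subst !![p * mu a, -(p * la a); -(q * mu c), q * la c]
            (MvPolynomial.X 0 ^ 2 * MvPolynomial.X 1 * (MvPolynomial.X 0 - MvPolynomial.X 1)) =
            MvPolynomial.C (p ^ 2 * (-q) * D a c) * (L a ^ 2 * L c * L d) := by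
          have h0 : subst !![p * mu a, -(p * la a); -(q * mu c), q * la c] (MvPolynomial.X 0) =
              MvPolynomial.C p * L a := by
            simp [subst, L]; ring
          have h1 : subst !![p * mu a, -(p * la a); -(q * mu c), q * la c] (MvPolynomial.X 1) =
              -(MvPolynomial.C q * L c) := by
            simp [subst, L]; ring
          rw [map_mul, map_mul, map_sub, map_pow, h0, h1, sub_neg_eq_add, hsum]
          simp only [map_mul, map_pow, map_neg]
          ring
        rw [hs, ← mul_assoc, ← map_mul, mul_assoc t, inv_mul_cancel₀ (mul_ne_zero (mul_ne_zero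
          (pow_ne_zero _ hp) (neg_ne_zero.2 hDad)) hDac), mul_one, hprod, hLb]
        ring
  rw [xor_def]
  rcases hexists with h | h
  · refine Or.inl ⟨h, ?_⟩
    rintro ⟨M₂, c₂, hM₂, hc₂, e₂⟩
    obtain ⟨M₁, c₁, hM₁, hc₁, e₁⟩ := h
    exact models_ne M₁ M₂ c₁ c₂ hM₁ hM₂ hc₁ hc₂ (e₁.symm.trans e₂)
  · refine Or.inr ⟨h, ?_⟩
    rintro ⟨M₁, c₁, hM₁, hc₁, e₁⟩
    obtain ⟨M₂, c₂, hM₂, hc₂, e₂⟩ := h
    exact models_ne M₁ M₂ c₁ c₂ hM₁ hM₂ hc₁ hc₂ (e₁.symm.trans e₂)

end Groth.Agent.S20025
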