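import Groth.Statements.S2037
import Groth.Agent.RegFS6.Field
import Groth.Agent.Calg46.HeightOne

set_option autoImplicit false
universe u
open CAlg

namespace Groth.Agent.S2037

open TensorProduct in
/-- Let `k` be a field of characteristic `p > 0` and `A` a Noetherian local `k`-algebra. Then `A` is
geometrically regular over `k` if and only if `k' ⊗ A` is a regular ring for every finite extension
`k'` of `k` in which every element has its `p`-th power in `k`. -/
theorem result {k A : Type u} [Field k] (p : ℕ)
    [Fact p.Prime] [CharP k p] [CommRing A] [IsLocalRing A] [IsNoetherianRing A] [Algebra k A] :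
    CAlg.IsGeometricallyRegular k A ↔
      ∀ (k' : Type u) [Field k'] [Algebra k k'], Module.Finite k k' →
        (∀ x : k', x ^ p ∈ Set.range (algebraMap k k')) → IsRegularRing (k' ⊗[k] A) := by
  refine ⟨fun h k' _ _ hfin _ => h k' hfin, fun h => ?_⟩
  haveI : IsRegularRing A := by
    haveI := h k inferInstance (fun x => ⟨x ^ p, rfl⟩)
    exact IsRegularRing.of_ringEquiv (Algebra.TensorProduct.lid k A).toRingEquiv
  haveI : IsRegularLocalRing A := IsRegularLocalRing.of_isRegularRing_of_isLocalRing A
  haveI : CharP A p := charP_of_injective_algebraMap (algebraMap k A).injective p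
  let P := ULift.{u} (ZMod p)
  haveI : Finite P := Finite.of_equiv _ Equiv.ulift.symm
  haveI : PerfectField P := PerfectField.ofFinite
  letI : Algebra P k :=
    ((ZMod.castHom dvd_rfl k).comp (ULift.ringEquiv (R := ZMod p)).toRingHom).toAlgebra
  exact Groth.Agent.RegFS6.geometricallyRegular_of_fs
    (Groth.Agent.RegFS6.fs_of_derivation_extend P fun F _ _ _ _ hF δ =>
      Groth.Agent.Calg46.HeightOne.exists_derivation_extend p h hF δ)

end Groth.Agent.S2037
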