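import Groth.Statements.S2048
import Groth.Agent.CplFib6.GRing
import Groth.Agent.CILib.Basic
import Groth.Agent.Calg46.DerivTower

set_option autoImplicit false
universe u
open CAlg
set_option linter.style.haveILetI false

namespace Groth.Agent.S2048

/-- Let `p` be a prime and `B` a domain of characteristic `p`, finitely generated as an algebra over
some complete Noetherian local ring. If `f ∈ B` has no `p`-th root in the fraction field of `B`,
then some derivation `D : B → B` has `D(f) ≠ 0`. -/
theorem result {R B : Type u} [CommRing R] [IsLocalRing R]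
    [IsNoetherianRing R] [IsAdicComplete (IsLocalRing.maximalIdeal R) R] [CommRing B] [IsDomain B]
    [Algebra R B] [Algebra.FiniteType R B] (p : ℕ) [Fact p.Prime] [CharP B p] (f : B)
    (hf : ∀ x : FractionRing B, x ^ p ≠ algebraMap B (FractionRing B) f) :
    ∃ D : Derivation ℤ B B, D f ≠ 0 := by
  let J := RingHom.ker (algebraMap R B)
  haveI : J.IsPrime := RingHom.ker_isPrime _
  haveI : IsLocalRing (R ⧸ J) := IsLocalRing.of_surjective' (Ideal.Quotient.mk J) Ideal.Quotient.mk_surjective
  haveI : IsAdicComplete (IsLocalRing.maximalIdeal (R ⧸ J)) (R ⧸ J) :=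
    Groth.Agent.CILib.isAdicComplete_quotient J
  letI : Algebra (R ⧸ J) B := (RingHom.kerLift (algebraMap R B)).toAlgebra
  haveI : IsScalarTower R (R ⧸ J) B := IsScalarTower.of_algebraMap_eq fun r => rfl
  haveI : Algebra.FiniteType (R ⧸ J) B := Algebra.FiniteType.of_restrictScalars_finiteType R (R ⧸ J) B
  have hinj : Function.Injective (algebraMap (R ⧸ J) B) := RingHom.kerLift_injective (algebraMap R B)
  obtain ⟨C, _, _, _, _, hfin, hCR, hC⟩ := Groth.Agent.CplFib6.exists_regular_enough_base (R ⧸ J)
  haveI := hfin
  letI : Algebra C B := ((algebraMap (R ⧸ J) B).comp (algebraMap C (R ⧸ J))).toAlgebra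
  haveI : IsScalarTower C (R ⧸ J) B := IsScalarTower.of_algebraMap_eq fun c => rfl
  haveI : Algebra.FiniteType C B := Algebra.FiniteType.trans (R := C) (S := R ⧸ J) (A := B) inferInstance inferInstance
  have hCB : Function.Injective (algebraMap C B) := hinj.comp (FaithfulSMul.algebraMap_injective C (R ⧸ J))
  haveI : FaithfulSMul C B := (faithfulSMul_iff_algebraMap_injective _ _).2 hCB
  have hCp : CharP C p := RingHom.charP (algebraMap C B) hCB p
  rcases hC with hC0 | ⟨q, hq, hqc, hen⟩
  · exact absurd (CharP.cast_eq_zero C p) (Nat.cast_ne_zero.2 (Fact.out : p.Prime).ne_zero)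
  · obtain rfl := CharP.eq C hCp hqc
    exact Groth.Agent.Calg46.DerivField.exists_derivation_ne_zero p hen f hf

end Groth.Agent.S2048
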