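import Groth.Statements.S2065
import Groth.Agent.AuditBE.Split
import Groth.Agent.S19962
import Groth.Agent.LC.DepthLoc
import Groth.Agent.LC.GorFlat
import Mathlib.RingTheory.Localization.Integer

set_option autoImplicit false
universe u
open CAlg

namespace Groth.Agent.S2065

open scoped Matrix
open Groth.Agent.AuditBE

variable {R : Type u} [CommRing R]

theorem minorIdeal_map {S : Type u} [CommRing S] (φ : R →+* S) {a b : ℕ}
    (M : Matrix (Fin a) (Fin b) R) (r : ℕ) :
    CAlgX.minorIdeal (M.map φ) r = (CAlgX.minorIdeal M r).map φ := by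
  rw [CAlgX.minorIdeal, CAlgX.minorIdeal, Ideal.map_span, ← Set.range_comp]
  congr 1
  refine congrArg Set.range (funext fun fg => ?_)
  simp only [Function.comp_apply, RingHom.map_det, RingHom.mapMatrix_apply, Matrix.submatrix_map]

theorem minorIdeal_zero {a b : ℕ} (M : Matrix (Fin a) (Fin b) R) : CAlgX.minorIdeal M 0 = ⊤ :=
  Ideal.eq_top_of_isUnit_mem _ (Ideal.subset_span ⟨(Fin.elim0, Fin.elim0), rfl⟩) (by simp)

section

variable [IsNoetherianRing R] {e : ℕ} {n : ℕ → ℕ} (A : (i : ℕ) → Matrix (Fin (n i)) (Fin (n (i + 1))) R)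
  (htop : A e = 0) (hAA : ∀ i, A i * A (i + 1) = 0)
  (hex : ∀ i, i < e → ∀ z, A i *ᵥ z = 0 → ∃ v, A (i + 1) *ᵥ v = z)

include htop hAA hex in
/-- What exactness gives at a prime whose local ring has depth at most `k`. -/
theorem local_rank (p : Ideal R) [p.IsPrime] {k : ℕ}
    (hk : LocCoh.depth (Localization.AtPrime p) (Localization.AtPrime p) ≤ k) :
    ∃ ρ : ℕ → ℕ, ρ e = 0 ∧ ∀ l, k ≤ l → l < e →
      n (l + 1) = ρ (l + 1) + ρ l ∧ ¬ CAlgX.minorIdeal (A l) (ρ l) ≤ p ∧
      ∀ r', ρ l < r' → ∀ c ∈ CAlgX.minorIdeal (A l) r', ∃ s, s ∉ p ∧ s * c = 0 := by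
  classical
  let S := Localization.AtPrime p
  let φ := algebraMap R S
  haveI : IsNoetherianRing S := IsLocalization.isNoetherianRing p.primeCompl S ‹_›
  let B : (i : ℕ) → Matrix (Fin (n i)) (Fin (n (i + 1))) S := fun i => (A i).map φ
  have htop' : B e = 0 := by simp [B, htop]
  have hBB : ∀ i, B i * B (i + 1) = 0 := fun i => by
    simp only [B]; rw [← Matrix.map_mul, hAA i]; simp
  have hex' : ∀ i, i < e → ∀ z, B i *ᵥ z = 0 → ∃ v, B (i + 1) *ᵥ v = z := by
    intro i hi z hz
    obtain ⟨c, hc⟩ := IsLocalization.exist_integer_multiples_of_finite p.primeCompl z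
    choose w hw using hc
    have hw' : φ ∘ w = (c : R) • z := funext fun j => (hw j).trans rfl
    have h1 : ∀ j, φ ((A i *ᵥ w) j) = 0 := fun j => by
      rw [RingHom.map_mulVec, hw']
      show (B i *ᵥ ((c : R) • z)) j = 0
      rw [Matrix.mulVec_smul, hz, smul_zero]
      rfl
    choose t ht using fun j => (IsLocalization.map_eq_zero_iff p.primeCompl S _).1 (h1 j)
    let T : p.primeCompl := ∏ j, t j
    have hT : A i *ᵥ ((T : R) • w) = 0 := funext fun j => by
      obtain ⟨d, hd⟩ : (t j : R) ∣ (T : R) :=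
        map_dvd p.primeCompl.subtype (Finset.dvd_prod_of_mem t (Finset.mem_univ j))
      rw [Matrix.mulVec_smul, Pi.smul_apply, smul_eq_mul, hd, mul_comm (t j : R) d, mul_assoc, ht j,
        mul_zero]
      rfl
    obtain ⟨v, hv⟩ := hex i hi _ hT
    have hu : IsUnit (φ ((T : R) * c)) := IsLocalization.map_units S (T * c)
    refine ⟨(↑hu.unit⁻¹ : S) • (φ ∘ v), funext fun j => ?_⟩
    rw [Matrix.mulVec_smul, Pi.smul_apply, smul_eq_mul]
    show (↑hu.unit⁻¹ : S) * ((A (i + 1)).map φ *ᵥ (φ ∘ v)) j = z j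
    have hwj : φ ((T : R) * w j) = φ ((T : R) * c) * z j := by
      rw [map_mul, map_mul, mul_assoc, show φ (w j) = φ (c : R) * z j from
        (congrFun hw' j).trans (Algebra.smul_def (c : R) (z j))]
    rw [← RingHom.map_mulVec, hv, Pi.smul_apply, smul_eq_mul, hwj, ← mul_assoc,
      IsUnit.val_inv_mul, one_mul]
  refine ⟨fun l => Module.finrank S (Im B l), ?_, fun l hkl hle => ?_⟩
  · show Module.finrank S (Im B e) = 0
    rw [show Im B e = ⊥ by simp [Im, htop']]
    exact finrank_bot S _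
  obtain ⟨⟨hone, hzero⟩, hn⟩ := splitRank B htop' hBB hex' hk l hkl hle
  refine ⟨hn, fun hle' => ?_, fun r' hr' c hc => ?_⟩
  · have h := Ideal.map_mono (f := φ) hle'
    rw [← minorIdeal_map, hone, Localization.AtPrime.map_eq_maximalIdeal] at h
    exact (IsLocalRing.maximalIdeal.isMaximal S).ne_top (top_le_iff.1 h)
  · have h0 : φ c ∈ CAlgX.minorIdeal (B l) r' := by
      rw [minorIdeal_map]; exact Ideal.mem_map_of_mem φ hc
    rw [hzero r' hr', Ideal.mem_bot, IsLocalization.map_eq_zero_iff p.primeCompl] at h0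
    obtain ⟨s, hs⟩ := h0
    exact ⟨s, s.2, hs⟩

theorem depth_localization_ass {p : Ideal R} [p.IsPrime] (hp : p ∈ associatedPrimes R R) :
    LocCoh.depth (Localization.AtPrime p) (Localization.AtPrime p) = 0 := by
  haveI : IsNoetherianRing (Localization.AtPrime p) :=
    IsLocalization.isNoetherianRing p.primeCompl _ ‹_›
  obtain ⟨-, z, hz⟩ := Groth.Agent.Alg6.mem_ass_iff.1 hp
  refine Groth.Agent.LC.depth_eq_zero_of_socle (s := algebraMap R _ z) (fun h => ?_) fun r hr => ?_
  · obtain ⟨t, ht⟩ := (IsLocalization.map_eq_zero_iff p.primeCompl (Localization.AtPrime p) z).1 h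
    exact t.2 ((hz t).2 ht)
  · rw [← Localization.AtPrime.map_eq_maximalIdeal] at hr
    have : Ideal.map (algebraMap R (Localization.AtPrime p)) p ≤
        LinearMap.ker (LinearMap.toSpanSingleton (Localization.AtPrime p) (Localization.AtPrime p)
          (algebraMap R (Localization.AtPrime p) z)) := by
      rw [Ideal.map_le_iff_le_comap]
      intro a ha
      show algebraMap R (Localization.AtPrime p) a * algebraMap R _ z = 0
      rw [← map_mul, show a * z = 0 from (hz a).1 ha, map_zero]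
    exact this hr

include htop hAA hex in
/-- The necessity half of the criterion. -/
theorem necessity [IsLocalRing R] : ∃ r : ℕ → ℕ, r e = 0 ∧ ∀ l, l < e →
    n (l + 1) = r (l + 1) + r l ∧ CAlgX.matrixRank (A l) = r l ∧
      (CAlgX.minorIdeal (A l) (r l) = ⊤ ∨
        ∃ rs : List R, rs.length = l + 1 ∧ (∀ x ∈ rs, x ∈ CAlgX.minorIdeal (A l) (r l)) ∧
          RingTheory.Sequence.IsRegular R rs) := by
  classical
  obtain ⟨p₀, hp₀⟩ := associatedPrimes.nonempty R R
  haveI := IsAssociatedPrime.isPrime hp₀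
  obtain ⟨r, hre, hr⟩ := local_rank A htop hAA hex p₀ (k := 0) (depth_localization_ass hp₀).le
  -- all local ranks agree
  have huniq : ∀ {k : ℕ} (ρ : ℕ → ℕ), ρ e = 0 → (∀ l, k ≤ l → l < e → n (l + 1) = ρ (l + 1) + ρ l) →
      ∀ m l, e = l + m → k ≤ l → ρ l = r l := by
    intro k ρ hρe hρ m
    induction m with
    | zero => intro l hl _; obtain rfl : l = e := (by omega); rw [hρe, hre]
    | succ m ih =>
      intro l hl hkl
      have h1 := ih (l + 1) (by omega) (by omega)
      have h2 := hρ l hkl (by omega)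
      have h3 := (hr l (Nat.zero_le l) (by omega)).1
      omega
  refine ⟨r, hre, fun l hl => ?_⟩
  obtain ⟨hn, hnot, -⟩ := hr l (Nat.zero_le l) hl
  have hvanish : ∀ r', r l < r' → CAlgX.minorIdeal (A l) r' = ⊥ := by
    intro r' hr'
    rw [eq_bot_iff]
    intro c hc
    by_contra hc0
    obtain ⟨q, hq, hqc⟩ := exists_le_isAssociatedPrime_of_isNoetherianRing R c
      (by simpa using hc0)
    haveI := hq.isPrime
    obtain ⟨ρ, hρe, hρ⟩ := local_rank A htop hAA hex q (k := 0) (depth_localization_ass hq).le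
    have hrl := huniq ρ hρe (fun l h1 h2 => (hρ l h1 h2).1) (e - l) l (by omega) (Nat.zero_le l)
    obtain ⟨s, hs, hsc⟩ := (hρ l (Nat.zero_le l) hl).2.2 r' (hrl ▸ hr') c hc
    exact hs (hqc (Submodule.mem_colon_singleton.2 (by simpa using hsc)))
  have hne : CAlgX.minorIdeal (A l) (r l) ≠ ⊥ := fun h => hnot (h ▸ bot_le)
  have hrank : CAlgX.matrixRank (A l) = r l := by
    have hub : ∀ r' ∈ {r' : ℕ | CAlgX.minorIdeal (A l) r' ≠ ⊥}, r' ≤ r l := fun r' h' => by
      by_contra h; exact h' (hvanish r' (by omega))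
    exact le_antisymm (csSup_le ⟨r l, hne⟩ hub) (le_csSup ⟨r l, hub⟩ hne)
  refine ⟨hn, hrank, ?_⟩
  by_cases htopI : CAlgX.minorIdeal (A l) (r l) = ⊤
  · exact Or.inl htopI
  refine Or.inr ?_
  set I := CAlgX.minorIdeal (A l) (r l)
  have hdepth : ((l + 1 : ℕ) : ℕ∞) ≤ LocCoh.idealDepth I R := by
    rw [Groth.Agent.LC.idealDepth_eq_iInf_depth I R]
    refine le_iInf₂ fun p hp => ?_
    rw [Groth.Agent.Hensel.depth_congr
      (IsLocalizedModule.iso p.asIdeal.primeCompl
        (Algebra.linearMap R (Localization.AtPrime p.asIdeal))|>.extendScalarsOfIsLocalization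
          p.asIdeal.primeCompl (Localization.AtPrime p.asIdeal))]
    by_contra h
    obtain ⟨ρ, hρe, hρ⟩ := local_rank A htop hAA hex p.asIdeal (k := l)
      (Order.le_of_lt_add_one (by exact_mod_cast not_le.1 h))
    have hrl := huniq ρ hρe (fun l h1 h2 => (hρ l h1 h2).1) (e - l) l (by omega) le_rfl
    exact (hρ l le_rfl hl).2.1 (hrl ▸ hp)
  have hIne : I • (⊤ : Submodule R R) ≠ ⊤ := by simpa [Ideal.mul_top] using htopI
  obtain ⟨rs, hrs, hmem, hlen⟩ := Groth.Agent.Alg6.exists_length_ge_of_le_idealDepth hIne hdepth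
  refine ⟨rs.take (l + 1), by simp; omega, fun x hx => hmem x (List.mem_of_mem_take hx),
    ⟨⟨fun i hi => ?_⟩, fun h => htopI ?_⟩⟩
  · have h := hrs.regular_mod_prev i (by simp at hi; omega)
    have hil : i ≤ l + 1 := by simp at hi; omega
    rw [show (rs.take (l + 1)).take i = rs.take i by rw [List.take_take, Nat.min_eq_left hil]]
    simpa [List.getElem_take] using h
  · rw [eq_top_iff]
    refine le_trans h.le ?_
    rw [smul_eq_mul, Ideal.mul_top]
    exact Groth.Agent.LC.ofList_le I fun x hx => hmem x (List.mem_of_mem_take hx)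

end

/-- Let `R` be a Noetherian local ring and `0 → R^{n_e} → … → R^{n_1} → R^{n_0}` a complex of finite
free modules, the map `R^{n_{i+1}} → R^{n_i}` being given by the matrix `A i`. The complex is exact
at `R^{n_e}, …, R^{n_1}` if and only if for each `1 ≤ j ≤ e` the matrix of `R^{n_j} → R^{n_{j-1}}`
has rank `n_j - n_{j+1} + … ± n_e` and its ideal of minors of that size is the unit ideal or
contains a regular sequence of length `j`. -/
theorem result {R : Type u} [CommRing R] [IsLocalRing R] [IsNoetherianRing R]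
    (e : ℕ) (he : 1 ≤ e) (n : ℕ → ℕ) (A : (i : ℕ) → Matrix (Fin (n i)) (Fin (n (i + 1))) R)
    (hA : ∀ i, i + 2 ≤ e → A i * A (i + 1) = 0) :
    (LinearMap.ker (A (e - 1)).mulVecLin = ⊥ ∧
        ∀ i, i + 2 ≤ e → LinearMap.ker (A i).mulVecLin = LinearMap.range (A (i + 1)).mulVecLin) ↔
      ∀ j, 1 ≤ j → j ≤ e →
        (CAlgX.matrixRank (A (j - 1)) : ℤ) = ∑ t ∈ Finset.Icc j e, (-1 : ℤ) ^ (t - j) * (n t : ℤ) ∧
          (CAlgX.detIdeal (A (j - 1)) = ⊤ ∨
            ∃ rs : List R, rs.length = j ∧ (∀ r ∈ rs, r ∈ CAlgX.detIdeal (A (j - 1))) ∧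
              RingTheory.Sequence.IsRegular R rs) := by
  constructor
  · rintro ⟨hker, hexact⟩
    let A' : (i : ℕ) → Matrix (Fin (n i)) (Fin (n (i + 1))) R := fun i => if i < e then A i else 0
    have hA' : ∀ i, i < e → A' i = A i := fun i hi => if_pos hi
    have htop : A' e = 0 := if_neg (lt_irrefl e)
    have hAA : ∀ i, A' i * A' (i + 1) = 0 := by
      intro i
      by_cases h : i + 2 ≤ e
      · rw [hA' i (by omega), hA' (i + 1) (by omega), hA i h]
      · rw [show A' (i + 1) = 0 from if_neg (by omega), Matrix.mul_zero]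
    have hex : ∀ i, i < e → ∀ z, A' i *ᵥ z = 0 → ∃ v, A' (i + 1) *ᵥ v = z := by
      intro i hi z hz
      rw [hA' i hi] at hz
      by_cases h : i + 2 ≤ e
      · obtain ⟨v, hv⟩ := (hexact i h).le (show (A i).mulVecLin z = 0 from hz)
        exact ⟨v, by rw [hA' (i + 1) (by omega)]; exact hv⟩
      · obtain rfl : i = e - 1 := by omega
        refine ⟨0, ?_⟩
        rw [Matrix.mulVec_zero]
        exact ((LinearMap.ker_eq_bot'.1 hker) z hz).symm
    obtain ⟨r, hre, hr⟩ := necessity A' htop hAA hex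
    have hsum : ∀ m j, j + 1 + m = e + 1 → j ≤ e →
        (r j : ℤ) = ∑ t ∈ Finset.Icc (j + 1) e, (-1 : ℤ) ^ (t - (j + 1)) * (n t : ℤ) := by
      intro m
      induction m with
      | zero => intro j hj hje; obtain rfl : j = e := (by omega); simp [hre]
      | succ m ih =>
        intro j hj hje
        rw [← Finset.add_sum_Ioc_eq_sum_Icc (by omega : j + 1 ≤ e)]
        have h1 := ih (j + 1) (by omega) (by omega)
        have h2 := (hr j (by omega)).1
        have h3 : ∑ t ∈ Finset.Ioc (j + 1) e, (-1 : ℤ) ^ (t - (j + 1)) * (n t : ℤ) = -(r (j + 1) : ℤ) := by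
          rw [h1, show Finset.Ioc (j + 1) e = Finset.Icc (j + 1 + 1) e by ext; simp,
            ← Finset.sum_neg_distrib]
          refine Finset.sum_congr rfl fun t ht => ?_
          rw [Finset.mem_Icc] at ht
          rw [show t - (j + 1) = t - (j + 1 + 1) + 1 by omega, pow_succ]
          ring
        rw [h3, Nat.sub_self, pow_zero, one_mul]
        omega
    intro j hj1 hje
    obtain ⟨l, rfl⟩ : ∃ l, j = l + 1 := ⟨j - 1, by omega⟩
    obtain ⟨-, hrank, hdet⟩ := hr l (by omega)
    rw [hA' l (by omega)] at hrank hdet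
    show (CAlgX.matrixRank (A l) : ℤ) = _ ∧ _
    refine ⟨hrank ▸ hsum (e - l) l (by omega) (by omega), ?_⟩
    show CAlgX.detIdeal (A l) = ⊤ ∨ ∃ rs : List R, rs.length = l + 1 ∧
      (∀ r ∈ rs, r ∈ CAlgX.detIdeal (A l)) ∧ RingTheory.Sequence.IsRegular R rs
    rw [CAlgX.detIdeal, hrank]
    exact hdet
  · intro h
    exact Groth.Agent.S19962.result e he n A hA (fun j h1 h2 => (h j h1 h2).1) fun j h1 h2 => (h j h1 h2).2

end Groth.Agent.S2065
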