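import Groth.Statements.S2079
import Groth.Agent.LimMor.ProperApprox
import Groth.Agent.MorLib.IdealFG3

set_option autoImplicit false
set_option backward.isDefEq.respectTransparency false
set_option backward.isDefEq.respectTransparency.types false
universe u
open CategoryTheory AlgebraicGeometry
open Lim

namespace Groth.Agent.S2079

/-- Let `f : X → S` be proper with `S` quasi-compact and quasi-separated. Then `X` is the limit of a
cofiltered diagram of `S`-schemes which are proper and of finite presentation over `S`, with all
transition morphisms and all projections `X → X_i` closed immersions. -/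
theorem result {X S : Scheme.{u}} (f : X ⟶ S) [IsProper f] [CompactSpace S]
    [QuasiSeparatedSpace S] :
    ∃ (I : Type u) (_ : SmallCategory I) (_ : IsCofiltered I) (D : I ⥤ Over S) (c : Limits.Cone D)
      (_ : Limits.IsLimit c) (e : c.pt ≅ Over.mk f),
      (∀ (i j : I) (a : i ⟶ j), IsClosedImmersion (D.map a).left) ∧
      (∀ i, IsClosedImmersion (c.π.app i).left ∧ IsProper (D.obj i).hom ∧
        LocallyOfFinitePresentation (D.obj i).hom) := by
  obtain ⟨Y, g, h, hci, hw, hg, hg'⟩ := LimMor.exists_closedImmersion_proper_fp f
  haveI : CompactSpace Y := QuasiCompact.compactSpace_of_compactSpace g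
  haveI : QuasiSeparatedSpace Y := quasiSeparatedSpace_of_quasiSeparated g
  open Groth.Agent.MorLib.IdealFG in
  refine ⟨(Sub h.ker)ᵒᵖ, inferInstance, inferInstance, subDiagram g h.ker, subCone g h.ker,
    isLimitSubCone g h.ker, Over.isoMk (asIso h.toImage).symm ?_,
    fun i j a => isClosedImmersion_map g h.ker a, fun K => ?_⟩
  · show inv h.toImage ≫ f = h.ker.subschemeι ≫ g
    rw [IsIso.inv_comp_eq, ← hw]
    exact (congrArg (· ≫ g) h.toImage_imageι).symm.trans (Category.assoc _ _ _)
  · haveI := Groth.Agent.MorLib.IdealFG.lfp_subschemeι K.unop.2.2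
    haveI : IsClosedImmersion (Scheme.IdealSheafData.inclusion K.unop.2.1 ≫ K.unop.1.subschemeι) := by
      rw [Scheme.IdealSheafData.inclusion_subschemeι]; infer_instance
    haveI : IsClosedImmersion K.unop.1.subschemeι := by infer_instance
    haveI : IsProper K.unop.1.subschemeι := inferInstance
    exact ⟨IsClosedImmersion.of_comp (Scheme.IdealSheafData.inclusion K.unop.2.1) K.unop.1.subschemeι,
      inferInstanceAs (IsProper (K.unop.1.subschemeι ≫ g)),
      inferInstanceAs (LocallyOfFinitePresentation (K.unop.1.subschemeι ≫ g))⟩

end Groth.Agent.S2079
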