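import Groth.Statements.S2117
import Groth.Agent.EGA41Lib.FieldFS

set_option autoImplicit false
universe u
open CAlg
open scoped TensorProduct KaehlerDifferential

namespace Groth.Agent.S2117

/-- Let k be a field of characteristic p > 0 and K a field extension of k. Then K is geometrically
reduced over k (equivalently, K/k is separable: every finitely generated subextension is separably
generated) if and only if the natural base-change map K ⊗_k Ω_{k/ℤ} → Ω_{K/ℤ} on absolute Kähler
differentials is injective. -/
theorem result {k K : Type u} [Field k] [Field K] [Algebra k K] (p : ℕ)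
    [Fact p.Prime] [CharP k p] :
    Algebra.IsGeometricallyReduced k K ↔ Function.Injective (KaehlerDifferential.mapBaseChange ℤ k K) := by
  let : Algebra (ZMod p) k := ZMod.algebra k p
  have : CharP K p := charP_of_injective_algebraMap (algebraMap k K).injective p
  let : Algebra (ZMod p) K := ZMod.algebra K p
  have : IsScalarTower (ZMod p) k K := IsScalarTower.of_algebraMap_eq' (Subsingleton.elim _ _)
  have : Algebra.FormallySmooth (ZMod p) K := CoeffField.formallySmooth_of_perfectField (ZMod p) K
  have hsurjZ : Function.Surjective (algebraMap ℤ (ZMod p)) := fun x =>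
    ⟨x.val, by simp⟩
  have : Subsingleton (Ω[ZMod p⁄ℤ]) := KaehlerDifferential.subsingleton_of_surjective ℤ (ZMod p) hsurjZ
  have hbij : ∀ (L : Type u) [Field L] [Algebra (ZMod p) L],
      Function.Bijective (KaehlerDifferential.map ℤ (ZMod p) L L) := by
    intro L _ _
    refine ⟨(injective_iff_map_eq_zero _).2 fun x hx => ?_, KaehlerDifferential.map_surjective ℤ (ZMod p) L⟩
    obtain ⟨y, rfl⟩ := (KaehlerDifferential.exact_mapBaseChange_map ℤ (ZMod p) L x).1 hx
    rw [Subsingleton.elim y 0, map_zero]
  let v := LinearEquiv.ofBijective (KaehlerDifferential.map ℤ (ZMod p) k k) (hbij k)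
  have hsq : ∀ x : K ⊗[k] Ω[k⁄ℤ], KaehlerDifferential.map ℤ (ZMod p) K K (KaehlerDifferential.mapBaseChange ℤ k K x) =
      KaehlerDifferential.mapBaseChange (ZMod p) k K (LinearEquiv.lTensor K v x) := by
    intro x
    induction x using TensorProduct.induction_on with
    | zero => simp
    | tmul a ω =>
      simp only [KaehlerDifferential.mapBaseChange_tmul, LinearEquiv.lTensor_tmul, map_smul]
      congr 1
      have hω : ω ∈ Submodule.span k (Set.range (KaehlerDifferential.D ℤ k)) := by
        rw [KaehlerDifferential.span_range_derivation]; trivial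
      induction hω using Submodule.span_induction with
      | mem b hb =>
        obtain ⟨b, rfl⟩ := hb
        simp [v]
      | zero => simp
      | add y z _ _ hy hz => simp only [map_add, TensorProduct.tmul_add, hy, hz]
      | smul c y _ hy => simp only [map_smul, LinearMap.map_smul_of_tower, hy]
    | add x y hx hy => simp [hx, hy]
  have hiff : Function.Injective (KaehlerDifferential.mapBaseChange ℤ k K) ↔
      Function.Injective (KaehlerDifferential.mapBaseChange (ZMod p) k K) := by
    constructor
    · intro h x y hxy
      obtain ⟨x, rfl⟩ := (LinearEquiv.lTensor K v).surjective x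
      obtain ⟨y, rfl⟩ := (LinearEquiv.lTensor K v).surjective y
      rw [← hsq, ← hsq] at hxy
      rw [h ((hbij K).1 hxy)]
    · intro h x y hxy
      exact (LinearEquiv.lTensor K v).injective (h (by rw [← hsq, ← hsq, hxy]))
  rw [hiff]
  constructor
  · intro _
    have : Algebra.FormallySmooth k K := EGA41Lib.FieldFS.formallySmooth_of_isGeometricallyReduced k K
    refine (injective_iff_map_eq_zero _).2 fun x hx => ?_
    obtain ⟨y, rfl⟩ := (Algebra.H1Cotangent.exact_δ_mapBaseChange (ZMod p) k K x).1 hx
    rw [Subsingleton.elim y 0, map_zero]
  · intro h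
    have : Subsingleton (Algebra.H1Cotangent k K) := by
      refine subsingleton_of_forall_eq 0 fun y => ?_
      have hδ : Algebra.H1Cotangent.δ (ZMod p) k K y = 0 :=
        h ((Algebra.H1Cotangent.exact_δ_mapBaseChange (ZMod p) k K).apply_apply_eq_zero y |>.trans (map_zero _).symm)
      obtain ⟨z, rfl⟩ := (Algebra.H1Cotangent.exact_map_δ (ZMod p) k K y).1 hδ
      rw [Subsingleton.elim z 0, map_zero]
    have : Algebra.FormallySmooth k K := ⟨inferInstance, this⟩
    exact EGA41Lib.FieldFS.isGeometricallyReduced_of_formallySmooth k K

end Groth.Agent.S2117
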