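import Groth.Statements.S2147
import Groth.Agent.LimMor.ProperApprox

set_option autoImplicit false
set_option backward.isDefEq.respectTransparency false
set_option backward.isDefEq.respectTransparency.types false
universe u
open CategoryTheory AlgebraicGeometry
open Lim

namespace Groth.Agent.S2147

/-- Let `f : X → S` be proper with `S` quasi-compact and quasi-separated. Then `f` is a limit of proper
morphisms `f_i : X_i → S_i` with `S_i` of finite type over `ℤ`: there are cofiltered diagrams of
schemes `X_i`, `S_i` with affine transition morphisms, a natural transformation with proper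
components, and limit cones identified with `X` and `S` compatibly with `f`. -/
theorem result {X S : Scheme.{u}} (f : X ⟶ S) [IsProper f] [CompactSpace S]
    [QuasiSeparatedSpace S] :
    ∃ (I : Type u) (_ : SmallCategory I) (_ : IsCofiltered I) (DX DS : I ⥤ Scheme.{u}) (φ : DX ⟶ DS)
      (cX : Limits.Cone DX) (cS : Limits.Cone DS) (_ : Limits.IsLimit cX) (_ : Limits.IsLimit cS)
      (eX : cX.pt ≅ X) (eS : cS.pt ≅ S),
      (∀ (i j : I) (a : i ⟶ j), IsAffineHom (DX.map a) ∧ IsAffineHom (DS.map a)) ∧
      (∀ i, IsProper (φ.app i) ∧ CompactSpace (DS.obj i) ∧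
        LocallyOfFiniteType (Limits.IsTerminal.from specULiftZIsTerminal (DS.obj i))) ∧
      (∀ i, cX.π.app i ≫ φ.app i = eX.hom ≫ f ≫ eS.inv ≫ cS.π.app i) := by
  obtain ⟨T, X₀, s, a, q, hs, ha, hsep, hT, hX, hlft, hq⟩ := LimMor.exists_proper_data f
  haveI := hT.isNoetherian
  haveI := hX.isNoetherian
  haveI := LimMor.properPair_nonempty f s a q hq
  haveI := LimMor.properPair_directed f s a q hq
  haveI := LimMor.properIncl_initial f s a q hq
  refine ⟨(LimMor.ProperPair f s a q)ᵒᵖ, inferInstance, inferInstance,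
    (LimMor.properIncl f s a q).op ⋙ LimMor.pairSrc f s a q,
    (LimMor.properIncl f s a q).op ⋙ LimMor.pairTgt f s a q,
    Functor.whiskerLeft _ (LimMor.pairHom f s a q), _, _,
    (Functor.Initial.isLimitWhiskerEquiv _ _).symm (LimMor.nonempty_isLimit_pairSrc f s a q hq).some,
    (Functor.Initial.isLimitWhiskerEquiv _ _).symm (LimMor.nonempty_isLimit_pairTgt f s a q hq).some,
    Iso.refl _, Iso.refl _, fun i j g => ⟨?_, ?_⟩, fun i => ?_, fun i => ?_⟩
  · exact inferInstanceAs (IsAffineHom ((LimMor.sys a).map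
      ((LimMor.fstFunctor f s a q).op.map ((LimMor.properIncl f s a q).op.map g))))
  · exact inferInstanceAs (IsAffineHom ((LimMor.sys s).map
      ((LimMor.sndFunctor f s a q).op.map ((LimMor.properIncl f s a q).op.map g))))
  · exact ⟨i.unop.2, (hT.sch i.unop.1.n).compact, (hT.sch i.unop.1.n).lft⟩
  · show i.unop.1.l.k ≫ i.unop.1.m = 𝟙 X ≫ f ≫ 𝟙 S ≫ i.unop.1.n.k
    rw [i.unop.1.k_m, Category.id_comp, Category.id_comp]

end Groth.Agent.S2147
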