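import Groth.Statements.S2209
import Groth.Agent.MdlSurf.Connected

set_option autoImplicit false
universe u
open CategoryTheory AlgebraicGeometry
open Models

namespace Groth.Agent.S2209

/-- Let R be a discrete valuation ring with fraction field K, C a smooth proper curve over K whose ring
of global functions is K (the map K -> H^0(C, O_C) is an isomorphism), and X a regular proper model
of C over R. Then the special fibre of X is connected. -/
theorem result (R : Type u) [CommRing R] [IsDomain R]
    [IsDiscreteValuationRing R] (C X : Scheme.{u})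
    (f : C ⟶ Spec (CommRingCat.of (FractionRing R))) (p : X ⟶ Spec (CommRingCat.of R))
    (hC : Curve.IsSmoothProperCurve (FractionRing R) C f) (hH0 : IsIso f.appTop)
    (hX : Models.IsRegularProperModel R X p C f) :
    ConnectedSpace ↥(Models.specialFibre R X p) := by
  haveI := MdlSurf.isIntegral hC hX.1 hX.2.2
  haveI := hX.2.1
  haveI : CompactSpace X := QuasiCompact.compactSpace_of_compactSpace p
  let b := Spec.map (CommRingCat.ofHom (algebraMap R (IsLocalRing.ResidueField R)))
  haveI : IsClosedImmersion b := IsClosedImmersion.spec_of_surjective _ IsLocalRing.residue_surjective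
  have hb : Set.range b = {IsLocalRing.closedPoint R} := by
    ext y
    refine ⟨?_, fun hy => ⟨IsLocalRing.closedPoint _, hy ▸ IsLocalRing.comap_closedPoint (IsLocalRing.residue R)⟩⟩
    rintro ⟨t, rfl⟩
    rw [Subsingleton.elim (α := PrimeSpectrum (IsLocalRing.ResidueField R)) t (IsLocalRing.closedPoint _)]
    exact IsLocalRing.comap_closedPoint (IsLocalRing.residue R)
  have hr : Set.range (Limits.pullback.fst p b) = {x : X | p.base x = IsLocalRing.closedPoint R} := by
    rw [Scheme.Pullback.range_fst, hb]
    rfl
  haveI : PreconnectedSpace ↥(Models.specialFibre R X p) := ⟨by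
    show _root_.IsPreconnected (Set.univ : Set ↥(Limits.pullback p b))
    rw [← (Limits.pullback.fst p b).isEmbedding.isInducing.isPreconnected_image, Set.image_univ, hr]
    exact MdlSurf.isPreconnected_closedFibre hC hH0 hX.1⟩
  obtain ⟨z, -, hz⟩ := IsClosed.exists_closed_singleton (isClosed_univ (X := X)) Set.univ_nonempty
  have hne : (p.base z).asIdeal ≠ ⊥ :=
    ArSurfBase.asIdeal_ne_bot_of_isClosed p (IsDiscreteValuationRing.not_isField R) hz
  have hz' : p.base z = IsLocalRing.closedPoint R :=
    PrimeSpectrum.ext (IsLocalRing.eq_maximalIdeal ((p.base z).isPrime.isMaximal hne))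
  obtain ⟨w, -⟩ : z ∈ Set.range (Limits.pullback.fst p b) := by rw [hr]; exact hz'
  exact { toNonempty := ⟨w⟩ }

end Groth.Agent.S2209
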