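import Groth.Statements.S2232
import Groth.Agent.RPSM.FMPerfect
import Groth.Agent.PerfD40.CohRpush
import Groth.Agent.KFlatLib.Scheme.LpullLE
import Groth.Agent.S1005
-- import your own Groth.Agent.* helpers here

set_option autoImplicit false
universe u
open CategoryTheory AlgebraicGeometry
attribute [local instance] HasDerivedCategory.standard
open QCohCat

set_option backward.isDefEq.respectTransparency false
set_option backward.isDefEq.respectTransparency.types false

namespace Groth.Agent.S2232

/-- Case (3): let S be Noetherian, X -> S and Y -> S of finite type with all local rings of X regular,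
and K a bounded complex of modules on X x_S Y with coherent cohomology sheaves whose supports are
proper over Y. Assuming the derived functors L pr_1^*, - tensor^L K and R pr_2,* exist (unproved
hypotheses carried as binders), the Fourier-Mukai transform of a bounded object of D(O_X) with
coherent cohomology sheaves is a bounded object of D(O_Y) with coherent cohomology sheaves. -/
theorem result {S X Y : Scheme.{u}} [IsNoetherian S]
    (a : X ⟶ S) (b : Y ⟶ S) [LocallyOfFiniteType a] [QuasiCompact a] [LocallyOfFiniteType b]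
    [QuasiCompact b] (hreg : Models.IsRegularScheme X)
    (K : CochainComplex (Limits.pullback a b).Modules ℤ)
    (hKcoh : DCoh.IsCohD (DCoh.toD (Limits.pullback a b) K)) (kₗ kᵤ : ℤ)
    (hKge : DerivedCategory.IsGE (DCoh.toD (Limits.pullback a b) K) kₗ)
    (hKle : DerivedCategory.IsLE (DCoh.toD (Limits.pullback a b) K) kᵤ)
    (hsupp : ∀ i : ℤ, ClSub.IsProperOver (Limits.pullback.snd a b)
      (CohB1.support (DCoh.HD (DCoh.toD (Limits.pullback a b) K) i)))
    [DCoh.HasLpull (Limits.pullback.fst a b)] [DCoh.HasLTensorCx K]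
    [DCoh.HasRpush (Limits.pullback.snd a b)]
    (M : DCoh.D X) (hM : DCoh.IsCohD M) (m n : ℤ) (hMge : DerivedCategory.IsGE M m)
    (hMle : DerivedCategory.IsLE M n) :
    DCoh.IsCohD ((DCoh.Rpush (Limits.pullback.snd a b)).obj
        ((DCoh.LTensorCx K).obj ((DCoh.Lpull (Limits.pullback.fst a b)).obj M))) ∧
      ∃ m' n' : ℤ, DerivedCategory.IsGE ((DCoh.Rpush (Limits.pullback.snd a b)).obj
        ((DCoh.LTensorCx K).obj ((DCoh.Lpull (Limits.pullback.fst a b)).obj M))) m' ∧
        DerivedCategory.IsLE ((DCoh.Rpush (Limits.pullback.snd a b)).obj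
        ((DCoh.LTensorCx K).obj ((DCoh.Lpull (Limits.pullback.fst a b)).obj M))) n' := by
  haveI : IsLocallyNoetherian X := LocallyOfFiniteType.isLocallyNoetherian a
  haveI : IsLocallyNoetherian Y := LocallyOfFiniteType.isLocallyNoetherian b
  haveI : CompactSpace Y := QuasiCompact.compactSpace_of_compactSpace b
  haveI : IsNoetherian Y := ⟨⟩
  haveI : IsLocallyNoetherian (Limits.pullback a b) :=
    LocallyOfFiniteType.isLocallyNoetherian (Limits.pullback.snd a b)
  haveI : CompactSpace (Limits.pullback a b : Scheme.{u}) :=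
    QuasiCompact.compactSpace_of_compactSpace (Limits.pullback.snd a b)
  haveI : IsNoetherian (Limits.pullback a b) := ⟨⟩
  haveI := hMge
  haveI := hMle
  have hMp : DCoh.IsPerfect M := Groth.Agent.S1005.result X hreg M m n hM
  obtain ⟨hc, ⟨a', b', ha', hb'⟩, hC⟩ := RPSM.ltensor_perfect_coh_bounded
    (KFlatLib.isPerfect_lpull (Limits.pullback.fst a b) hMp) K hKcoh kₗ kᵤ hKge hKle
    (KFlatLib.isQCohD_lpull _ (KFlatLib.isCohD_isQCohD hM))
  haveI := ha'
  haveI := hb'
  let C : Set (Limits.pullback a b : Scheme.{u}) :=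
    ⋃ i ∈ Set.Icc kₗ kᵤ, CohB1.support (DCoh.HD (DCoh.toD _ K) i)
  have hCp : ClSub.IsProperOver (Limits.pullback.snd a b) C := by
    exact Set.Finite.induction_on (motive := fun s _ => ClSub.IsProperOver (Limits.pullback.snd a b)
        (⋃ i ∈ s, CohB1.support (DCoh.HD (DCoh.toD _ K) i))) _ (Set.finite_Icc kₗ kᵤ)
      (by simpa only [Set.biUnion_empty] using QCoh.isProperOver_empty (p := Limits.pullback.snd a b))
      (fun {i _} _ _ ih => by
        rw [Set.biUnion_insert]
        exact QCoh.IsProperOver.union (hsupp i) ih)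
  have hsub : ∀ i, CohB1.support (DCoh.HD (DCoh.toD _ K) i) ⊆ C := fun i y hy => by
    refine Set.mem_iUnion₂.2 ⟨i, ⟨?_, ?_⟩, hy⟩
    · by_contra h
      haveI := hKge
      exact (PerfD40.isZero_iff_support _).1
        (DerivedCategory.isZero_of_isGE (DCoh.toD _ K) kₗ i (not_le.1 h)) y hy
    · by_contra h
      haveI := hKle
      exact (PerfD40.isZero_iff_support _).1
        (DerivedCategory.isZero_of_isLE (DCoh.toD _ K) kᵤ i (not_le.1 h)) y hy
  obtain ⟨h, b'', hb''⟩ := PerfD40.isCohD_rpush_bounded (Limits.pullback.snd a b) _ a' b' hc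
    fun i => QCoh.IsProperOver.subset hCp (QCoh.isClosed_support_of_isFT (hc i).1 (hc i).2)
      (hC C hCp.1 hsub i)
  exact ⟨h, a', b'', KFlatLib.isGE_rpush _ _ a', (DerivedCategory.isLE_iff _ b'').2 hb''⟩

end Groth.Agent.S2232
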