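import Groth.Statements.S2474
import Groth.Agent.CompleteNagata.Complete
import Groth.Agent.FlatLoc6.Cpl
import Groth.Agent.FormCat.Descent
import Mathlib.RingTheory.QuasiFinite.Basic

set_option autoImplicit false
universe u
open EGA41

namespace Groth.Agent.S2474

open TensorProduct IsLocalRing

/-- Integral closures of complete local rings in quasi-finite field extensions are finite. -/
theorem finite_integralClosure_field (R : Type u) [CommRing R] [IsLocalRing R] [IsNoetherianRing R]
    [IsAdicComplete (maximalIdeal R) R] (L : Type u) [Field L] [Algebra R L] [Algebra.QuasiFinite R L] :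
    Module.Finite R (integralClosure R L) := by
  let p := RingHom.ker (algebraMap R L)
  haveI : p.IsPrime := RingHom.ker_isPrime _
  letI : Algebra (R ⧸ p) L := (RingHom.kerLift (algebraMap R L)).toAlgebra
  haveI : IsScalarTower R (R ⧸ p) L := IsScalarTower.of_algebraMap_eq fun r => rfl
  haveI : FaithfulSMul (R ⧸ p) L :=
    (faithfulSMul_iff_algebraMap_injective _ _).2 (RingHom.kerLift_injective (algebraMap R L))
  letI : Algebra (FractionRing (R ⧸ p)) L := FractionRing.liftAlgebra _ _
  haveI : IsScalarTower (R ⧸ p) (FractionRing (R ⧸ p)) L := inferInstance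
  haveI : IsScalarTower R (FractionRing (R ⧸ p)) L := IsScalarTower.of_algebraMap_eq fun r => by
    rw [IsScalarTower.algebraMap_apply R (R ⧸ p) L, IsScalarTower.algebraMap_apply R (R ⧸ p) (FractionRing (R ⧸ p)),
      IsScalarTower.algebraMap_apply (R ⧸ p) (FractionRing (R ⧸ p)) L]
  haveI : Algebra.QuasiFinite (FractionRing (R ⧸ p)) L := Algebra.QuasiFinite.of_restrictScalars R _ _
  haveI : Module.Finite (FractionRing (R ⧸ p)) L := Module.Finite.of_quasiFinite
  haveI : Module.Finite (R ⧸ p) (integralClosure (R ⧸ p) L) :=
    (Groth.Agent.CompleteNagata.isNagata_of_complete R).2 p L inferInstance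
  haveI : Module.Finite R (integralClosure (R ⧸ p) L) := Module.Finite.trans (R ⧸ p) _
  let f : integralClosure (R ⧸ p) L →ₗ[R] integralClosure R L :=
    { toFun := fun x => ⟨x.1, haveI : Algebra.IsIntegral R (R ⧸ p) := inferInstance
        isIntegral_trans x.1 x.2⟩
      map_add' := fun _ _ => rfl
      map_smul' := fun _ _ => rfl }
  exact Module.Finite.of_surjective f fun y => ⟨⟨y.1, y.2.tower_top⟩, rfl⟩

theorem semilocal_integralClosure (A K : Type u) [CommRing A] [IsLocalRing A] [IsNoetherianRing A] [Field K]
    [Algebra A K] [Algebra.QuasiFinite A K] [Algebra.EssFiniteType A K] :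
    {m : Ideal (integralClosure A K) | m.IsMaximal}.Finite ∧
      ∀ (m : Ideal (integralClosure A K)), m.IsMaximal → Module.Finite A (integralClosure A K ⧸ m) := by
  classical
  let R := EGA4.Cpl A
  haveI := Groth.Agent.FlatLoc6.isLocalRing_cpl A
  haveI := Groth.Agent.FlatLoc6.isNoetherianRing_cpl A
  haveI := Groth.Agent.FlatLoc6.faithfullyFlat_cpl A
  haveI := Groth.Agent.FormCat.isAdicComplete_cpl (A := A)
  let A' := integralClosure A K
  let U := R ⊗[A] A'
  let G := R ⊗[A] K
  haveI : IsNoetherianRing G := Algebra.EssFiniteType.isNoetherianRing R G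
  let ι : U →ₐ[R] G := Algebra.TensorProduct.map (AlgHom.id R R) A'.val
  have hι : Function.Injective ι :=
    Module.Flat.lTensor_preserves_injective_linearMap A'.val.toLinearMap Subtype.val_injective
  have hint : ∀ z : U, IsIntegral R z := fun z => by
    induction z using TensorProduct.induction_on with
    | zero => exact isIntegral_zero
    | add a b ha hb => exact ha.add hb
    | tmul r a =>
      have h1 : IsIntegral R ((1 : R) ⊗ₜ[A] a) := by
        have h0 : IsIntegral A a := Algebra.IsIntegral.isIntegral a
        exact (h0.map (Algebra.TensorProduct.includeRight (R := A) (A := R) (B := A'))).tower_top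
      have h2 := h1.smul r
      rwa [TensorProduct.smul_tmul', smul_eq_mul, mul_one] at h2
  -- the data attached to a prime of `G`
  let S : ∀ P : PrimeSpectrum G, Subalgebra R P.asIdeal.ResidueField := fun P => integralClosure R _
  let ω : ∀ P : PrimeSpectrum G, U →ₐ[R] S P := fun P =>
    ((IsScalarTower.toAlgHom R G P.asIdeal.ResidueField).comp ι).codRestrict (S P)
      fun z => (hint z).map _
  let θ : ∀ P : PrimeSpectrum G, A' →ₐ[A] S P := fun P =>
    ((ω P).restrictScalars A).comp (Algebra.TensorProduct.includeRight (R := A) (A := R) (B := A'))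
  haveI hfinS : ∀ P : PrimeSpectrum G, Module.Finite R (S P) := fun P =>
    finite_integralClosure_field R P.asIdeal.ResidueField
  let mins := {P : PrimeSpectrum G | P.asIdeal ∈ minimalPrimes G}
  have hminsfin : mins.Finite :=
    (minimalPrimes.finite_of_isNoetherianRing G).preimage fun _ _ _ _ h => PrimeSpectrum.ext h
  have hover : ∀ n : Ideal A', n.IsMaximal → n.comap (algebraMap A A') = maximalIdeal A := fun n hn =>
    IsLocalRing.eq_maximalIdeal (Ideal.isMaximal_comap_of_isIntegral_of_isMaximal (R := A) n)
  have key : ∀ n : Ideal A', n.IsMaximal → ∃ P ∈ mins, ∃ W : Ideal (S P),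
      W.IsPrime ∧ W.LiesOver (maximalIdeal R) ∧ W.comap (θ P) = n := by
    intro n hn
    let j : A' →+* U := (Algebra.TensorProduct.includeRight (R := A) (A := R) (B := A')).toRingHom
    obtain ⟨w₀, hw₀⟩ := PrimeSpectrum.comap_surjective_of_faithfullyFlat (A := A') (B := A' ⊗[A] R) ⟨n, hn.isPrime⟩
    let w := w₀.asIdeal.comap (Algebra.TensorProduct.comm A R A').toRingEquiv.toRingHom
    have hwn : w.comap j = n := by
      rw [← show w₀.asIdeal.comap (algebraMap A' (A' ⊗[A] R)) = n from congrArg PrimeSpectrum.asIdeal hw₀]
      rfl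
    obtain ⟨w', hw', hle⟩ := Ideal.exists_minimalPrimes_le (show (⊥ : Ideal U) ≤ w from bot_le)
    obtain ⟨P, hP, hPw⟩ := Ideal.exists_minimalPrimes_comap_eq (I := (⊥ : Ideal G)) ι.toRingHom w'
      ((Ideal.comap_bot_of_injective ι.toRingHom hι).symm ▸ hw')
    haveI := hP.1.1
    let P' : PrimeSpectrum G := ⟨P, hP.1.1⟩
    letI : Algebra U (S P') := (ω P').toRingHom.toAlgebra
    haveI : IsScalarTower R U (S P') := IsScalarTower.of_algebraMap_eq fun r => ((ω P').commutes r).symm
    haveI : Algebra.IsIntegral R (S P') := Algebra.IsIntegral.of_finite R _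
    haveI : Algebra.IsIntegral U (S P') := Algebra.IsIntegral.tower_top (R := R)
    have hker : (⊥ : Ideal (S P')).comap (algebraMap U (S P')) ≤ w := by
      intro z hz
      refine hle ?_
      rw [← hPw, Ideal.mem_comap, ← Ideal.algebraMap_residueField_eq_zero]
      exact congrArg Subtype.val (show ω P' z = 0 from hz)
    haveI : w.IsPrime := Ideal.IsPrime.comap _
    obtain ⟨W, -, hW, hWw⟩ := Ideal.exists_ideal_over_prime_of_isIntegral_of_isPrime w (⊥ : Ideal (S P')) hker
    refine ⟨P', hP, W, hW, ⟨?_⟩, ?_⟩
    · refine (IsLocalRing.maximalIdeal.isMaximal R).eq_of_le (Ideal.IsPrime.comap _).ne_top ?_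
      refine (AdicCompletion.maximalIdeal_eq_map_of_fg (IsNoetherian.noetherian (maximalIdeal A))).trans_le ?_
      rw [Ideal.map_le_iff_le_comap]
      refine (hover n hn).ge.trans fun a ha => ?_
      have h1 : j (algebraMap A A' a) ∈ w := by rw [← hwn] at ha; exact ha
      rw [← hWw] at h1
      have h2 : θ P' (algebraMap A A' a) ∈ W := h1
      rw [AlgHom.commutes, IsScalarTower.algebraMap_apply A R (S P')] at h2
      exact h2
    · rw [← hwn, ← hWw]
      rfl
  constructor
  · refine ((hminsfin.biUnion fun P _ =>
      (Algebra.QuasiFinite.finite_primesOver (S := S P) (maximalIdeal R)).image fun W => W.comap (θ P))).subset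
      fun n hn => ?_
    obtain ⟨P, hP, W, hW, hWo, hWn⟩ := key n hn
    exact Set.mem_biUnion hP ⟨W, ⟨hW, hWo⟩, hWn⟩
  · intro n hn
    obtain ⟨P, hP, W, hW, hWo, hWn⟩ := key n hn
    haveI := hWo
    have hsurj : ∀ r : R, ∃ a : A, r - algebraMap A R a ∈ maximalIdeal R := fun r => by
      obtain ⟨y, hy⟩ := (AdicCompletion.residueField_map_bijective (R := A)).2 (residue R r)
      obtain ⟨a, rfl⟩ := IsLocalRing.residue_surjective y
      refine ⟨a, ?_⟩
      rw [← IsLocalRing.residue_eq_zero_iff, map_sub, ← hy, sub_eq_zero]
      rfl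
    haveI : Module.Finite A ((S P) ⧸ W) := by
      obtain ⟨gs, hgs⟩ := Module.Finite.fg_top (R := R) (M := (S P) ⧸ W)
      refine ⟨⟨gs, eq_top_iff.2 fun x hxt => ?_⟩⟩
      clear hxt
      have hx : x ∈ Submodule.span R (gs : Set ((S P) ⧸ W)) := hgs ▸ Submodule.mem_top
      induction hx using Submodule.span_induction with
      | mem y hy => exact Submodule.subset_span hy
      | zero => exact zero_mem _
      | add u v _ _ hu hv => exact add_mem hu hv
      | smul r y _ hy =>
        obtain ⟨a, ha⟩ := hsurj r
        have h0 : (r - algebraMap A R a) • y = 0 := by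
          obtain ⟨y, rfl⟩ := Ideal.Quotient.mk_surjective y
          show Ideal.Quotient.mk W ((r - algebraMap A R a) • y) = 0
          rw [Ideal.Quotient.eq_zero_iff_mem, Algebra.smul_def]
          exact W.mul_mem_right _ (hWo.over.le ha)
        rw [sub_smul, sub_eq_zero, algebraMap_smul] at h0
        rw [h0]
        exact Submodule.smul_mem _ a hy
    subst hWn
    exact Module.Finite.of_injective
      (Ideal.quotientMapₐ W (θ P) le_rfl).toLinearMap (Ideal.quotientMap_injective' (f := (θ P).toRingHom) (H := le_rfl) le_rfl)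

open IsLocalRing in
/-- Let A be a Noetherian local domain with fraction field K, K' a finite extension of K and A' the
integral closure of A in K'. Then A' has only finitely many maximal ideals, and for every maximal
ideal 𝔪' of A' the field A'/𝔪' is a finite extension of the residue field of A (equivalently a
finite A-module). -/
theorem result {A K' : Type u} [CommRing A] [IsDomain A] [IsLocalRing A] [IsNoetherianRing A]
    [Field K'] [Algebra A K'] [Algebra (FractionRing A) K'] [IsScalarTower A (FractionRing A) K'] [FiniteDimensional (FractionRing A) K'] :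
    {m : Ideal (integralClosure A K') | m.IsMaximal}.Finite ∧
      ∀ (m : Ideal (integralClosure A K')), m.IsMaximal → Module.Finite A (integralClosure A K' ⧸ m) := by
  classical
  haveI : Algebra.QuasiFinite A K' := Algebra.QuasiFinite.trans A (FractionRing A) K'
  haveI : Algebra.EssFiniteType A (FractionRing A) := Algebra.EssFiniteType.of_isLocalization _ (nonZeroDivisors A)
  haveI : Algebra.EssFiniteType A K' := Algebra.EssFiniteType.comp A (FractionRing A) K'
  obtain ⟨fin, hres⟩ := semilocal_integralClosure A K'
  exact ⟨fin, hres⟩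

end Groth.Agent.S2474
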