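import Groth.Statements.S2586
import Groth.Agent.FibInj.Regular
-- import your own Groth.Agent.* helpers here

set_option autoImplicit false
open TensorProduct
universe u
open EGA43

namespace Groth.Agent.S2586

/-- Let A ⟶ B be a ring map with B finitely presented over A, M a finitely presented B-module, q a prime
of B with contraction p, and g₁, …, gₙ elements of q. Suppose the localization M_q is flat over A
and the gᵢ form a regular sequence on the localization at q of the fibre module M ⊗_A κ(p). Then the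
gᵢ form a regular sequence on M_q, and for every i the localization at q of M/(g₁, …, gᵢ)M is flat
over A. -/
theorem result {A B : Type u} [CommRing A] [CommRing B] [Algebra A B]
    [Algebra.FinitePresentation A B] (M : Type u) [AddCommGroup M] [Module B M] [Module A M] [IsScalarTower A B M]
    [Module.FinitePresentation B M] (q : Ideal B) [q.IsPrime] (g : List B) (hg : ∀ b ∈ g, b ∈ q)
    (hflat : Module.Flat A (LocalizedModule q.primeCompl M))
    (hreg : RingTheory.Sequence.IsRegular
      (LocalizedModule q.primeCompl (M ⊗[A] (q.comap (algebraMap A B)).ResidueField)) g) :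
    RingTheory.Sequence.IsRegular (LocalizedModule q.primeCompl M) g ∧
      ∀ i ≤ g.length, Module.Flat A
        (LocalizedModule q.primeCompl (M ⧸ (Ideal.span {b | b ∈ g.take i} • (⊤ : Submodule B M)))) := by
  let p := q.comap (algebraMap A B)
  have hfib : ∀ i (h : i < g.length), Groth.Agent.FibInj.FibreInjective p q.primeCompl
      (LinearMap.lsmul B (M ⧸ (Ideal.ofList (g.take i) • ⊤ : Submodule B M)) g[i]) := fun i h =>
    Groth.Agent.FibInj.fibreInjective_quot q _ (Groth.Agent.FibInj.toLocFibre (A := A) M q)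
      (Groth.Agent.FibInj.toLocFibre_surj q) (fun _ => Groth.Agent.FibInj.toLocFibre_eq_zero q) _ _
      (hreg.toIsWeaklyRegular.regular_mod_prev i h)
  obtain ⟨hfl, hk⟩ := Groth.Agent.FibInj.flat_quotients q g hflat hfib
  let ℓ := LocalizedModule.mkLinearMap q.primeCompl M
  have hℓ : ∀ y, ∃ s ∈ q.primeCompl, ∃ x, s • y = ℓ x := fun y => by
    obtain ⟨⟨x, s⟩, h⟩ := IsLocalizedModule.surj q.primeCompl ℓ y
    exact ⟨s, s.2, x, h⟩
  -- units of the localisation
  have hunit : ∀ (I : Ideal B) (Y : Type u) [AddCommGroup Y] [Module B Y] (fY : Y →ₗ[B] LocalizedModule q.primeCompl Y)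
      [IsLocalizedModule q.primeCompl fY] (s : B) (_ : s ∈ q.primeCompl) (y : LocalizedModule q.primeCompl Y),
      s • y ∈ (I • ⊤ : Submodule B (LocalizedModule q.primeCompl Y)) → y ∈ (I • ⊤ : Submodule B _) := by
    intro I Y _ _ fY _ s hs y hy
    obtain ⟨e, he⟩ := (IsLocalizedModule.map_units fY ⟨s, hs⟩).exists_left_inv
    have h2 := Groth.Agent.FibInj.map_mem_smul_top e I hy
    have h3 := LinearMap.congr_fun he y
    rw [Module.End.mul_apply, Module.End.one_apply, Module.algebraMap_end_apply] at h3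
    rwa [h3] at h2
  refine ⟨⟨⟨fun i h => ?_⟩, ?_⟩, hfl⟩
  · refine IsSMulRegular.of_right_eq_zero_of_smul fun y hy => ?_
    obtain ⟨z, rfl⟩ := Submodule.Quotient.mk_surjective _ y
    rw [← Submodule.Quotient.mk_smul, Submodule.Quotient.mk_eq_zero] at hy
    rw [Submodule.Quotient.mk_eq_zero]
    obtain ⟨t, ht, x, hx⟩ := hℓ z
    let I := Ideal.ofList (g.take i)
    obtain ⟨t', ht', w, hw, htw⟩ := Groth.Agent.FibInj.exists_smul_mem_smul_top _ ℓ hℓ I
      (Submodule.smul_mem _ t hy)
    rw [smul_comm t, hx, ← map_smul, ← map_smul] at htw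
    obtain ⟨c, hc⟩ := (IsLocalizedModule.eq_iff_exists q.primeCompl ℓ).1 htw
    obtain ⟨r, hr, hrx⟩ := hk i h (((c : B) * t') • x) (by
      rw [smul_comm, mul_smul, ← Submonoid.smul_def, hc]
      exact Submodule.smul_mem _ _ hw)
    refine hunit I M ℓ (r * ((c : B) * t') * t) (q.primeCompl.mul_mem (q.primeCompl.mul_mem hr
      (q.primeCompl.mul_mem c.2 ht')) ht) z ?_
    rw [mul_smul, hx, ← map_smul, mul_smul]
    exact Groth.Agent.FibInj.map_mem_smul_top ℓ I hrx
  · intro htop
    apply hreg.top_ne_smul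
    let φ := Groth.Agent.FibInj.toLocFibre (A := A) M q
    refine (top_unique fun z _ => ?_).symm
    obtain ⟨s, hs, m, hm⟩ := Groth.Agent.FibInj.toLocFibre_surj (A := A) q z
    obtain ⟨t, ht, w, hw, htw⟩ := Groth.Agent.FibInj.exists_smul_mem_smul_top _ ℓ hℓ (Ideal.ofList g)
      (htop.le (Submodule.mem_top (x := ℓ m)))
    rw [← map_smul] at htw
    obtain ⟨c, hc⟩ := (IsLocalizedModule.eq_iff_exists q.primeCompl ℓ).1 htw
    refine hunit _ _ (LocalizedModule.mkLinearMap q.primeCompl _) ((c : B) * t * s)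
      (q.primeCompl.mul_mem (q.primeCompl.mul_mem c.2 ht) hs) z ?_
    rw [mul_smul, hm, ← map_smul, mul_smul, ← Submonoid.smul_def, hc, Submonoid.smul_def, map_smul]
    exact Submodule.smul_mem _ _ (Groth.Agent.FibInj.map_mem_smul_top φ _ hw)

end Groth.Agent.S2586
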