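import Groth.Statements.S2591
import Groth.Agent.FlatSyz5.GenFreeNil
import Groth.Agent.FlatSyz5.NilFree
import Groth.Agent.ProConsLib.Basic

set_option autoImplicit false
open TensorProduct
universe u
open EGA43

namespace Groth.Agent.S2591

/-- Let A be a commutative ring, B a finitely presented A-algebra and M a finitely presented B-module
which is flat over A. Then there are finitely many elements f₁, …, fₙ of A generating the unit ideal
such that, for each i < n, writing A' for the localization of A at f_{i+1} modulo the ideal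
generated by f₁, …, fᵢ, the module A' ⊗_A M is free over A'. -/
theorem result {A B : Type u} [CommRing A] [CommRing B] [Algebra A B]
    [Algebra.FinitePresentation A B] (M : Type u) [AddCommGroup M] [Module B M] [Module A M] [IsScalarTower A B M]
    [Module.FinitePresentation B M] [Module.Flat A M] :
    ∃ l : List A, Ideal.span {a | a ∈ l} = ⊤ ∧
      ∀ (i : ℕ) (hi : i < l.length),
        letI J : Ideal (Localization.Away l[i]) :=
          (Ideal.span {a | a ∈ l.take i}).map (algebraMap A (Localization.Away l[i]))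
        Module.Free (Localization.Away l[i] ⧸ J) ((Localization.Away l[i] ⧸ J) ⊗[A] M) := by
  classical
  have hpiece := fun q : PrimeSpectrum A => FlatSyz5.exists_free_piece (R := A) (S := B) M q.asIdeal q.isPrime
  choose P f hP hPq hfq hfree using hpiece
  -- finitely many pieces
  obtain ⟨s, hs⟩ : ∃ s : Finset (PrimeSpectrum A), ∀ q : PrimeSpectrum A, ∃ k ∈ s, P k ≤ q.asIdeal ∧ f k ∉ q.asIdeal := by
    let U : PrimeSpectrum A → Set (PrimeSpectrum A) := fun k =>
      PrimeSpectrum.zeroLocus (P k : Set A) ∩ (PrimeSpectrum.basicOpen (f k) : Set (PrimeSpectrum A))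
    have hopen : ∀ k, @IsOpen _ (constructibleTopology (PrimeSpectrum A)) (U k) := fun k => by
      refine @IsOpen.inter _ (constructibleTopology (PrimeSpectrum A)) _ _ ?_ ?_
      · refine IsCompact.isOpen_constructibleTopology_of_isClosed ?_ (PrimeSpectrum.isClosed_zeroLocus _)
        obtain ⟨G, hG⟩ := hP k
        have e : (PrimeSpectrum.zeroLocus (P k : Set A))ᶜ = ⋃ g ∈ G, (PrimeSpectrum.basicOpen g : Set (PrimeSpectrum A)) := by
          rw [← hG, PrimeSpectrum.zeroLocus_span]
          ext x
          simp [Set.not_subset]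
        rw [e]
        exact G.finite_toSet.isCompact_biUnion fun g _ => PrimeSpectrum.isCompact_basicOpen g
      · exact (PrimeSpectrum.isCompact_basicOpen (f k)).isOpen_constructibleTopology_of_isOpen
          (PrimeSpectrum.basicOpen (f k)).isOpen
    have hc : @IsCompact (PrimeSpectrum A) (constructibleTopology (PrimeSpectrum A)) Set.univ :=
      @isCompact_univ _ (constructibleTopology _) ProConsLib.compactSpace_cons
    obtain ⟨s, hs⟩ := @IsCompact.elim_finite_subcover (PrimeSpectrum A) (constructibleTopology (PrimeSpectrum A)) Set.univ (PrimeSpectrum A) hc U hopen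
      (fun q _ => Set.mem_iUnion.2 ⟨q, hPq q, hfq q⟩)
    refine ⟨s, fun q => ?_⟩
    obtain ⟨k, hk, hk1, hk2⟩ := Set.mem_iUnion₂.1 (hs (Set.mem_univ q))
    exact ⟨k, hk, hk1, hk2⟩
  choose G hG using hP
  let E : Finset A := s.biUnion fun k => insert (f k) (G k)
  let T : List (Finset A) := E.powerset.toList.mergeSort fun a b => decide (b.card ≤ a.card)
  have hsorted : T.Pairwise fun a b => b.card ≤ a.card :=
    (List.pairwise_mergeSort (fun a b c h h' => by simp only [decide_eq_true_eq] at *; omega)
      (fun a b => by simp only [Bool.or_eq_true, decide_eq_true_eq]; omega) _).imp fun h => by simpa using h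
  have hmemT : ∀ S : Finset A, S ∈ T ↔ S ⊆ E := fun S => by simp [T, List.mem_mergeSort]
  refine ⟨T.map fun S => ∏ g ∈ S, g, ?_, fun i hi => ?_⟩
  · rw [Ideal.eq_top_iff_one]
    refine Ideal.subset_span ?_
    exact List.mem_map.2 ⟨∅, (hmemT ∅).2 (Finset.empty_subset _), Finset.prod_empty⟩
  have hiT : i < T.length := by simpa using hi
  let g : A := (T.map fun S => ∏ g ∈ S, g)[i]
  let J : Ideal (Localization.Away g) :=
    (Ideal.span {a | a ∈ (T.map fun S => ∏ g ∈ S, g).take i}).map (algebraMap A (Localization.Away g))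
  let Ai := Localization.Away g ⧸ J
  show Module.Free Ai (Ai ⊗[A] M)
  -- on the stratum the set of non-vanishing generators is constant
  have key : ∀ q : Ideal Ai, q.IsPrime → ∀ e ∈ E, (algebraMap A Ai e ∈ q ↔ e ∉ T[i]) := by
    intro q hq e he
    let p := q.comap (algebraMap A Ai)
    have hp : p.IsPrime := hq.comap _
    let S := E.filter (· ∉ p)
    have hgi : ∏ x ∈ T[i], x ∉ p := fun h => by
      have hu : IsUnit (algebraMap A Ai g) := by
        rw [IsScalarTower.algebraMap_apply A (Localization.Away g) Ai]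
        exact (IsLocalization.Away.algebraMap_isUnit g).map _
      exact hq.ne_top (Ideal.eq_top_of_isUnit_mem _ (by
        simp only [p, Ideal.mem_comap] at h; simpa [g] using h) hu)
    have hlt : ∀ (m : ℕ) (hm : m < i), ∏ x ∈ T[m], x ∈ p := fun m hm => by
      have : algebraMap A Ai (∏ x ∈ T[m], x) = 0 := by
        rw [IsScalarTower.algebraMap_apply A (Localization.Away g) Ai]
        refine Ideal.Quotient.eq_zero_iff_mem.2 (Ideal.mem_map_of_mem _ (Ideal.subset_span ?_))
        exact List.mem_take_iff_getElem.2 ⟨m, by simp; omega, by simp⟩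
      show algebraMap A Ai _ ∈ q
      rw [this]; exact zero_mem _
    have hsub : T[i] ⊆ S := fun x hx => Finset.mem_filter.2
      ⟨(hmemT _).1 (List.getElem_mem hiT) hx, fun hxp => hgi (Ideal.mem_of_dvd _ (Finset.dvd_prod_of_mem _ hx) hxp)⟩
    obtain ⟨m, hm, hmS⟩ := List.getElem_of_mem ((hmemT S).2 (Finset.filter_subset _ _))
    have hS : ∏ x ∈ S, x ∉ p := fun h => by
      obtain ⟨x, hx, hxp⟩ := (hp.prod_mem_iff).1 h
      exact (Finset.mem_filter.1 hx).2 hxp
    have him : i ≤ m := by
      by_contra hn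
      exact hS (hmS ▸ hlt m (by omega))
    have hcard : S.card ≤ (T[i]).card := by
      rcases eq_or_lt_of_le him with rfl | h
      · exact (congrArg Finset.card hmS).ge
      · exact hmS ▸ List.pairwise_iff_getElem.1 hsorted i m hiT hm h
    have heq : T[i] = S := Finset.eq_of_subset_of_card_le hsub hcard
    rw [heq]
    simp only [S, Finset.mem_filter, he, true_and, not_not]
    rfl
  rcases subsingleton_or_nontrivial Ai with hs' | hs'
  · have := Module.subsingleton Ai (Ai ⊗[A] M)
    infer_instance
  obtain ⟨q₀, hq₀⟩ := Ideal.exists_maximal Ai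
  obtain ⟨k, hk, hk1, hk2⟩ := hs ⟨q₀.comap (algebraMap A Ai), hq₀.isPrime.comap _⟩
  have hfE : f k ∈ E := Finset.mem_biUnion.2 ⟨k, hk, Finset.mem_insert_self _ _⟩
  have hfu : IsUnit (algebraMap A Ai (f k)) := by
    by_contra hn
    obtain ⟨q, hq, hmem⟩ := exists_max_ideal_of_mem_nonunits hn
    exact hk2 ((key q₀ hq₀.isPrime _ hfE).2 ((key q hq.isPrime _ hfE).1 hmem))
  have hnil : ∀ x ∈ G k, IsNilpotent (algebraMap A Ai x) := fun x hx => by
    have hxE : x ∈ E := Finset.mem_biUnion.2 ⟨k, hk, Finset.mem_insert_of_mem hx⟩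
    rw [← mem_nilradical, nilradical_eq_sInf, Submodule.mem_sInf]
    exact fun q hq => (key q hq _ hxE).2 ((key q₀ hq₀.isPrime _ hxE).1
      (hk1 (hG k ▸ Submodule.subset_span hx)))
  let N : Ideal Ai := (P k).map (algebraMap A Ai)
  have hNfg : N.FG := Ideal.FG.map ⟨G k, hG k⟩ _
  have hN : IsNilpotent N := (Ideal.FG.isNilpotent_iff_le_nilradical hNfg).2 (by
    simp only [N, ← hG k, Ideal.map_span]
    refine Ideal.span_le.2 ?_
    rintro _ ⟨x, hx, rfl⟩
    exact mem_nilradical.2 (hnil x hx))
  have hred : Module.Free (Ai ⧸ N) ((Ai ⧸ N) ⊗[Ai] (Ai ⊗[A] M)) := by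
    have := hfree k (Ai ⧸ N) (fun x hx => by
      rw [IsScalarTower.algebraMap_apply A Ai (Ai ⧸ N)]
      exact Ideal.Quotient.eq_zero_iff_mem.2 (Ideal.mem_map_of_mem _ hx))
      (by rw [IsScalarTower.algebraMap_apply A Ai (Ai ⧸ N)]; exact hfu.map _)
    exact Module.Free.of_equiv (TensorProduct.AlgebraTensorModule.cancelBaseChange A Ai (Ai ⧸ N) (Ai ⧸ N) M).symm
  obtain ⟨κ, φ, hφ, hker⟩ := FlatSyz5.exists_cover_of_free_mod N hN hred
  exact Module.Free.of_equiv (LinearEquiv.ofBijective φ ⟨FlatSyz5.injective_of_flat N hN φ hφ hker, hφ⟩)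

end Groth.Agent.S2591
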