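import Groth.Statements.S2903
import Groth.Agent.SchDesc82.Proper
import Groth.Agent.S14773
import Groth.Agent.EtFound.Descent

set_option autoImplicit false
open CategoryTheory CategoryTheory.Limits AlgebraicGeometry Opposite
universe u
open SGA1

namespace Groth.Agent.S2903

/-- Let g : S' ⟶ S be proper, surjective and locally of finite presentation. Then every descent datum
relative to g whose underlying scheme is a finite etale cover of S' is isomorphic to the canonical
descent datum of a finite etale cover of S. (Descent data relative to g are taken in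
functor-of-points form.) -/
theorem result {S' S : Scheme.{u}} (g : S' ⟶ S) [IsProper g] [Surjective g]
    [LocallyOfFinitePresentation g] (D : Desc.SchDD g) [IsFinite D.obj.hom] [Etale D.obj.hom] :
    ∃ U : Over S, IsFinite U.hom ∧ Etale U.hom ∧ Nonempty ((Desc.toDD g).obj U ≅ D) := by
  obtain ⟨U, h1, h2, h3, ⟨I⟩⟩ := Groth.Agent.S14773.result g D
  refine ⟨U, ?_, h3, ⟨I⟩⟩
  have : IsFinite (pullback.fst g U.hom) := by
    have hw : pullback.fst g U.hom = I.hom.hom.left ≫ D.obj.hom := (Over.w I.hom.hom).symm
    let J : ((Desc.toDD g).obj U).obj ≅ D.obj :=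
      ⟨I.hom.hom, I.inv.hom, congrArg Desc.SchDD.Hom.hom I.hom_inv_id, congrArg Desc.SchDD.Hom.hom I.inv_hom_id⟩
    have : IsIso I.hom.hom.left := ((Over.forget _).mapIso J).isIso_hom
    rw [hw]
    have : IsFinite I.hom.hom.left :=
      inferInstanceAs (IsFinite ((Over.forget S').mapIso J).hom)
    exact MorphismProperty.IsStableUnderComposition.comp_mem (P := @IsFinite) _ _ this inferInstance
  have : UniversallyClosed (pullback.snd g U.hom ≫ U.hom) := by
    rw [← pullback.condition]; infer_instance
  have : UniversallyClosed U.hom := UniversallyClosed.of_comp_surjective (pullback.snd g U.hom) U.hom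
  have : IsProper U.hom := ⟨⟩
  exact (IsFinite.iff_isProper_and_locallyQuasiFinite U.hom).2 ⟨inferInstance, inferInstance⟩

end Groth.Agent.S2903
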