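import Groth.Statements.S2906
import Groth.Agent.DescLib.IndQAEff
import Groth.Agent.MorLib.WeightFlat
import Groth.Agent.EtFound.Descent
import Mathlib.AlgebraicGeometry.Morphisms.FlatDescent

set_option autoImplicit false
open CategoryTheory CategoryTheory.Limits AlgebraicGeometry Opposite
universe u
open SGA1

namespace Groth.Agent.S2906

/-- Let g : S' ⟶ S be flat, surjective and quasi-compact. Then every descent datum relative to g whose
underlying scheme is etale, separated and quasi-compact over S' is isomorphic to the canonical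
descent datum of a scheme etale, separated and quasi-compact over S. (Descent data relative to g are
taken in functor-of-points form.) -/
theorem result {S' S : Scheme.{u}} (g : S' ⟶ S) [Flat g] [Surjective g] [QuasiCompact g]
    (D : Desc.SchDD g) [QuasiCompact D.obj.hom] [IsSeparated D.obj.hom] [Etale D.obj.hom] :
    ∃ U : Over S, QuasiCompact U.hom ∧ IsSeparated U.hom ∧ Etale U.hom ∧ Nonempty ((Desc.toDD g).obj U ≅ D) := by
  haveI := Groth.Agent.EtFound.fpqc_quasiCompact.{u}
  haveI := Groth.Agent.EtFound.fpqc_isSeparated.{u}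
  haveI : LocallyQuasiFinite D.obj.hom := Groth.Agent.MorLib.WT.locallyQuasiFinite_of_etale _
  have hD : MoreMor.IsIndQuasiAffineHom D.obj.hom :=
    Groth.Agent.MorLib.IQA.indQA_of_locallyQuasiFinite D.obj.hom
  obtain ⟨U, ⟨e⟩⟩ := Groth.Agent.DescLib.effective_single Groth.Agent.DescLib.IndQA.indQA
    (fun _ _ p _ _ _ _ D h => Groth.Agent.DescLib.IndQA.effective_indQA_hom p D h) g D hD
  have key : ∀ (P : MorphismProperty Scheme.{u}) [P.RespectsIso]
      [P.DescendsAlong (@Surjective ⊓ @Flat ⊓ @QuasiCompact)], P D.obj.hom → P U.hom := fun P _ _ h =>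
    MorphismProperty.of_pullback_fst_of_descendsAlong (f := g) (g := U.hom)
      (Q := @Surjective ⊓ @Flat ⊓ @QuasiCompact) ⟨⟨‹_›, ‹_›⟩, ‹_›⟩ (by
      refine (P.arrow_mk_iso_iff (Arrow.isoMk (Iso.mk e.hom.hom.left e.inv.hom.left ?_ ?_) (Iso.refl _) ?_)).2 h
      · exact congrArg (fun b : (Desc.toDD g).obj U ⟶ (Desc.toDD g).obj U => b.hom.left) e.hom_inv_id
      · exact congrArg (fun b : D ⟶ D => b.hom.left) e.inv_hom_id
      · exact (Over.w e.hom.hom).trans (Category.comp_id _).symm)
  exact ⟨U, key @QuasiCompact inferInstance, key @IsSeparated inferInstance, key @Etale inferInstance, ⟨e⟩⟩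

end Groth.Agent.S2906
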