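import Groth.Statements.S2912
import Groth.Agent.DescLib.DescFinite

set_option autoImplicit false
open CategoryTheory CategoryTheory.Limits AlgebraicGeometry Opposite
universe u
open SGA1

namespace Groth.Agent.S2912

/-- Let g : S' ⟶ S be flat, surjective, quasi-compact and universally injective. Then every descent
datum relative to g (on an arbitrary S'-scheme) is isomorphic to the canonical descent datum of some
S-scheme. (Descent data relative to g are taken in functor-of-points form.) -/
theorem result {S' S : Scheme.{u}} (g : S' ⟶ S) [Flat g] [Surjective g] [QuasiCompact g]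
    [UniversallyInjective g] (D : Desc.SchDD g) : ∃ U : Over S, Nonempty ((Desc.toDD g).obj U ≅ D) := by
  have hinj : Function.Injective (pullback.fst (Groth.Agent.DescLib.IndQA.sv g D) g) :=
    haveI : UniversallyInjective (pullback.fst (Groth.Agent.DescLib.IndQA.sv g D) g) :=
      MorphismProperty.pullback_fst _ _ (inferInstanceAs (UniversallyInjective g))
    (pullback.fst (Groth.Agent.DescLib.IndQA.sv g D) g).injective
  let s : D.obj.left ⟶ pullback (Groth.Agent.DescLib.IndQA.sv g D) g :=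
    pullback.lift (𝟙 _) D.obj.hom (Category.id_comp _)
  have hs₀ : s ≫ pullback.fst (Groth.Agent.DescLib.IndQA.sv g D) g = 𝟙 _ := pullback.lift_fst _ _ _
  have hs₁ : s ≫ Groth.Agent.DescLib.IndQA.d₁ g D = 𝟙 _ := by
    rw [Groth.Agent.DescLib.IndQA.lift_d₁]
    exact Groth.Agent.DescLib.IndQA.tr_self g D _ _ (Category.id_comp _) _
  have heq : ∀ z, Groth.Agent.DescLib.IndQA.d₁ g D z = pullback.fst (Groth.Agent.DescLib.IndQA.sv g D) g z := by
    intro z
    have hz : s (pullback.fst (Groth.Agent.DescLib.IndQA.sv g D) g z) = z := hinj (by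
      rw [← Scheme.Hom.comp_apply, hs₀]; rfl)
    conv_lhs => rw [← hz]
    rw [← Scheme.Hom.comp_apply, hs₁]; rfl
  refine Groth.Agent.DescLib.effective_of_locally_effective g D fun v => ?_
  obtain ⟨_, ⟨V, hV, rfl⟩, hvV, -⟩ :=
    S'.isBasis_affineOpens.exists_subset_of_mem_open (Set.mem_univ (D.obj.hom v)) isOpen_univ
  obtain ⟨_, ⟨O, hO, rfl⟩, hvO, hOV⟩ :=
    D.obj.left.isBasis_affineOpens.exists_subset_of_mem_open hvV (D.obj.hom ⁻¹ᵁ V).2
  replace hV : IsAffineOpen V := hV
  replace hO : IsAffineOpen O := hO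
  obtain ⟨D', j, hj, hr⟩ := Groth.Agent.DescLib.exists_subDatum g D O (by
    ext z
    show pullback.fst (Groth.Agent.DescLib.IndQA.sv g D) g z ∈ O ↔ Groth.Agent.DescLib.IndQA.d₁ g D z ∈ O
    rw [heq])
  refine ⟨D', j, hj, (show v ∈ Set.range j.hom.left by rw [hr]; exact hvO), ?_⟩
  haveI := hj
  haveI : IsAffine (O : Scheme.{u}) := hO
  haveI : IsAffine D'.obj.left :=
    .of_isIso (IsOpenImmersion.isoOfRangeEq j.hom.left (Scheme.Opens.ι O) (hr.trans (Scheme.Opens.range_ι O).symm)).hom
  haveI : IsAffine (V : Scheme.{u}) := hV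
  have hrange : Set.range D'.obj.hom ⊆ Set.range (Scheme.Opens.ι V) := by
    rw [Scheme.Opens.range_ι]
    rintro _ ⟨w, rfl⟩
    show D'.obj.hom w ∈ V
    rw [← Over.w j.hom, Scheme.Hom.comp_apply]
    exact hOV (by rw [← hr]; exact ⟨w, rfl⟩)
  have hg : IsOpenImmersion.lift (Scheme.Opens.ι V) D'.obj.hom hrange ≫ (Scheme.Opens.ι V) = D'.obj.hom :=
    IsOpenImmersion.lift_fac _ _ _
  have hq : Groth.Agent.DescLib.IndQA.indQA D'.obj.hom := by
    rw [← hg]
    exact Groth.Agent.MorLib.IQA.indQA_comp _ (Scheme.Opens.ι V) (Groth.Agent.DescLib.indQA_of_isAffineHom _)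
      (Groth.Agent.MorLib.IQA.indQA_of_isImmersion _)
  exact Groth.Agent.DescLib.effective_single Groth.Agent.DescLib.IndQA.indQA
    (fun _ _ p _ _ _ _ D h => Groth.Agent.DescLib.IndQA.effective_indQA_hom p D h) g D' hq

end Groth.Agent.S2912
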