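import Groth.Statements.S2957
import Groth.Agent.RootData.Inversions
import Groth.Agent.RootData.Parabolic

set_option autoImplicit false
open RootPairing
open scoped Pointwise
universe u
open RootD

namespace Groth.Agent.S2957

open Groth.Agent.RootData in
/-- The induction on the number of inversions. -/
theorem decomposition {ι R M N : Type*} [CommRing R] [CharZero R] [IsDomain R] [AddCommGroup M] [Module R M]
    [AddCommGroup N] [Module R N] {P : RootPairing ι R M N} [Fintype ι] [P.IsCrystallographic] [P.IsReduced]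
    {Δ : Set ι} (hΔ : Simple P Δ) {β : ι} (hβ : β ∈ Δ) :
    ∀ (n : ℕ) (w : P.Aut) (α : ι), w ∈ P.weylGroup → α ∈ Δ → w • α = β → (inv' P Δ w).ncard ≤ n →
      ∃ (m : ℕ) (a : Fin (m + 1) → ι) (ws : Fin m → P.Aut),
        (∀ i, a i ∈ Δ) ∧ a 0 = α ∧ a (Fin.last m) = β ∧ (∀ i, ws i ∈ P.weylGroup) ∧
        w = (List.ofFn fun i : Fin m => ws (Fin.rev i)).prod ∧
        (∀ i : Fin m, ws i • a (Fin.castSucc i) = a (Fin.succ i)) ∧
        ∀ i : Fin m, ∃ γ ∈ Δ,
          ws i ∈ Subgroup.closure {RootPairing.Equiv.reflection P (a (Fin.castSucc i)), RootPairing.Equiv.reflection P γ} ∧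
          (a (Fin.castSucc i) ≠ a (Fin.succ i) → γ = a (Fin.succ i)) := by
  classical
  intro n
  induction n using Nat.strong_induction_on with
  | _ n ih =>
    intro w α hw hα hwα hn
    by_cases hall : ∀ i ∈ Δ, w • i ∈ posOf P Δ
    · obtain rfl := hΔ.eq_one_of_pos hw hall
      rw [one_smul] at hwα
      subst hwα
      exact ⟨0, fun _ => α, Fin.elim0, fun _ => hα, rfl, rfl, fun i => i.elim0, by simp, fun i => i.elim0,
        fun i => i.elim0⟩
    push Not at hall
    obtain ⟨γ, hγ, hγneg⟩ := hall
    have hαγ : α ≠ γ := fun e => hγneg (by rw [← e, hwα]; exact hΔ.subset_posOf hβ)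
    let D : Set ι := {α, γ}
    have hDΔ : D ⊆ Δ := by
      rintro x (rfl | rfl) <;> assumption
    -- right multiplication by a simple reflection which is inverted lowers the inversions
    have hdrop : ∀ (g : P.Aut) (a : ι), a ∈ Δ → g • a ∉ posOf P Δ →
        (inv' P Δ (g * RootPairing.Equiv.reflection P a)).ncard < (inv' P Δ g).ncard := by
      intro g a ha hga
      have hsub : inv' P Δ (g * RootPairing.Equiv.reflection P a) ⊆
          P.reflectionPerm a '' (inv' P Δ g \ {a}) := by
        rintro k ⟨hk, hk'⟩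
        rw [mul_smul, refl_smul_idx] at hk'
        have hka : k ≠ a := by
          intro e
          rw [e, smul_neg_idx, hΔ.neg_mem_posOf_iff, not_not] at hk'
          exact hga hk'
        have hp := (hΔ.refl_pos_ne isIndiv_of_reduced ha hk hka).1
        refine ⟨P.reflectionPerm a k, ⟨⟨hp, hk'⟩, fun e => ?_⟩, P.reflectionPerm_self a k⟩
        have : k = P.reflectionPerm a a := by
          rw [← P.reflectionPerm_self a k, Set.mem_singleton_iff.mp e]
        exact hΔ.refl_self_notMem ha (this ▸ hk)
      calc (inv' P Δ (g * RootPairing.Equiv.reflection P a)).ncard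
          ≤ (P.reflectionPerm a '' (inv' P Δ g \ {a})).ncard := Set.ncard_le_ncard hsub (Set.toFinite _)
        _ = (inv' P Δ g \ {a}).ncard := Set.ncard_image_of_injective _ (P.reflectionPerm a).injective
        _ < (inv' P Δ g).ncard :=
            Set.ncard_diff_singleton_lt_of_mem ⟨hΔ.subset_posOf ha, hga⟩ (Set.toFinite _)
    have hex : ∃ c, ∃ u ∈ gen P D, (inv' P Δ (w * u)).ncard = c := ⟨_, 1, one_mem _, rfl⟩
    obtain ⟨u, hu, hucard⟩ := Nat.find_spec hex
    have hmin : ∀ u' ∈ gen P D, (inv' P Δ (w * u)).ncard ≤ (inv' P Δ (w * u')).ncard := fun u' hu' =>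
      hucard ▸ Nat.find_min' hex ⟨u', hu', rfl⟩
    have hpos : ∀ a ∈ D, (w * u) • a ∈ posOf P Δ := by
      intro a ha
      by_contra h
      have h1 := hdrop (w * u) a (hDΔ ha) h
      have h2 := hmin (u * RootPairing.Equiv.reflection P a) (mul_mem hu (refl_mem_gen ha))
      rw [mul_assoc] at h1
      omega
    have hlt : (inv' P Δ (w * u)).ncard < n := by
      have h1 := hdrop w γ hγ hγneg
      have h2 := hmin (RootPairing.Equiv.reflection P γ) (refl_mem_gen (Or.inr rfl))
      omega
    obtain ⟨l, hl, hlu⟩ := exists_word (inv_mem hu)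
    have hsupp : ∀ b, b ∉ D → hΔ.co (u⁻¹ • α) b = 0 := by
      rw [← hlu]
      clear hlu
      induction l with
      | nil =>
        intro b hb
        have hba : b ≠ α := fun e => hb (Or.inl e)
        simp [word, hΔ.co_simple hα, hba]
      | cons c t iht =>
        intro b hb
        have hc : c ∈ D := hl c List.mem_cons_self
        have hbc : b ≠ c := fun e => hb (e ▸ hc)
        rw [word_cons, mul_smul, refl_smul_idx, hΔ.co_refl (hDΔ hc)]
        simp [hbc, iht (fun x hx => hl x (List.mem_cons_of_mem _ hx)) b hb]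
    set δ := u⁻¹ • α with hδdef
    have hwδ : (w * u) • δ = β := by rw [hδdef, mul_smul, smul_inv_smul, hwα]
    have hroot : P.root δ = hΔ.co δ α • P.root α + hΔ.co δ γ • P.root γ := by
      conv_lhs => rw [← hΔ.co_spec δ]
      rw [comb, ← Finset.sum_pair (f := fun a => hΔ.co δ a • P.root a) hαγ]
      refine (Finset.sum_subset (Finset.subset_univ _) fun b _ hb => ?_).symm
      rw [hsupp b (fun h => hb (by rcases h with rfl | rfl <;> simp)), zero_smul]
    have hco : hΔ.co ((w * u) • δ) =
        hΔ.co δ α • hΔ.co ((w * u) • α) + hΔ.co δ γ • hΔ.co ((w * u) • γ) := by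
      refine hΔ.co_unique (fun b hb => by simp [hΔ.co_supp hb]) ?_
      rw [comb_add, comb_smul, comb_smul, hΔ.co_spec, hΔ.co_spec, smul_root, smul_root, smul_root, hroot,
        smul_add, smul_comm (w * u), smul_comm (w * u)]
    have hht : (1 : ℤ) = hΔ.co δ α * hΔ.ht ((w * u) • α) + hΔ.co δ γ * hΔ.ht ((w * u) • γ) := by
      rw [← hΔ.ht_simple hβ, ← hwδ]
      simp only [Simple.ht, hco, Pi.add_apply, Pi.smul_apply, smul_eq_mul, Finset.sum_add_distrib, Finset.mul_sum]
    have hA := hΔ.ht_pos (hpos α (Or.inl rfl))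
    have hC := hΔ.ht_pos (hpos γ (Or.inr rfl))
    have hδD : δ ∈ D := by
      have key : (hΔ.co δ α = 1 ∧ hΔ.co δ γ = 0) ∨ (hΔ.co δ α = 0 ∧ hΔ.co δ γ = 1) := by
        rcases hΔ.co_sign δ with h | h
        · have ha := h α; have hc := h γ
          have h1 : hΔ.co δ α ≤ hΔ.co δ α * hΔ.ht ((w * u) • α) := le_mul_of_one_le_right ha hA
          have h2 : hΔ.co δ γ ≤ hΔ.co δ γ * hΔ.ht ((w * u) • γ) := le_mul_of_one_le_right hc hC
          rcases Nat.eq_zero_or_pos (hΔ.co δ α).toNat with h0 | h0
          · have h0' : hΔ.co δ α = 0 := by omega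
            rw [h0', zero_mul, zero_add] at hht
            have : hΔ.co δ γ ≠ 0 := fun e => by rw [e, zero_mul] at hht; omega
            exact Or.inr ⟨h0', by omega⟩
          · exact Or.inl ⟨by omega, by omega⟩
        · have ha := h α; have hc := h γ
          nlinarith [mul_nonpos_of_nonpos_of_nonneg ha hA.le, mul_nonpos_of_nonpos_of_nonneg hc hC.le]
      rcases key with ⟨h1, h2⟩ | ⟨h1, h2⟩ <;> rw [h1, h2] at hroot <;> simp at hroot
      · exact Or.inl hroot
      · exact Or.inr hroot
    obtain ⟨m, a, ws, ha, ha0, hal, hws, hprod, hstep, hγ'⟩ :=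
      ih _ hlt (w * u) δ (mul_mem hw (gen_le D hu)) (hDΔ hδD) hwδ le_rfl
    refine ⟨m + 1, Fin.cons α a, Fin.cons u⁻¹ ws, Fin.cases hα ha, rfl, ?_, ?_, ?_, ?_, ?_⟩
    · rw [← Fin.succ_last, Fin.cons_succ, hal]
    · exact Fin.cases (by simpa using inv_mem (gen_le D hu)) (fun i => by simpa using hws i)
    · rw [List.ofFn_succ']
      simp only [List.concat_eq_append, List.prod_append, Fin.rev_castSucc, Fin.cons_succ, Fin.rev_last,
        Fin.cons_zero, List.prod_singleton, ← hprod, mul_inv_cancel_right]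
    · refine Fin.cases ?_ (fun i => ?_)
      · simp [ha0, ← hδdef]
      · rw [Fin.castSucc_succ, Fin.cons_succ, Fin.cons_succ, Fin.cons_succ]; exact hstep i
    · refine Fin.cases ⟨γ, hγ, ?_, ?_⟩ (fun i => ?_)
      · have he : gen P D = Subgroup.closure
            {RootPairing.Equiv.reflection P α, RootPairing.Equiv.reflection P γ} := by
          simp [gen, D, Set.image_pair]
        simpa [← he] using inv_mem hu
      · simp only [Fin.castSucc_zero, Fin.cons_zero, Fin.cons_succ, ha0]
        intro hne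
        rcases hδD with h | h
        · exact absurd h.symm hne
        · exact h.symm
      · rw [Fin.castSucc_succ, Fin.cons_succ, Fin.cons_succ, Fin.cons_succ]; exact hγ' i

/-- For a finite crystallographic reduced root pairing with a base b: let α, β be simple roots and w an
element of the Weyl group with w(α) = β. Then there are simple roots α = α_0, ..., α_m = β and Weyl
group elements w_0, ..., w_{m-1} with w = w_{m-1} ... w_0, w_i(α_i) = α_{i+1}, and each w_i lying in
the subgroup generated by the reflections in α_i and in a simple root γ_i, where γ_i = α_{i+1}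
whenever α_i ≠ α_{i+1}. -/
theorem result {ι R M N : Type*} [CommRing R] [CharZero R] [IsDomain R] [AddCommGroup M] [Module R M]
    [AddCommGroup N] [Module R N] (P : RootPairing ι R M N) [Finite ι] [P.IsCrystallographic] [P.IsReduced]
    (b : P.Base) (α β : ι) (hα : α ∈ b.support) (hβ : β ∈ b.support) (w : P.Aut) (hw : w ∈ P.weylGroup)
    (hwα : w • α = β) :
    ∃ (m : ℕ) (a : Fin (m + 1) → ι) (ws : Fin m → P.Aut),
      (∀ i, a i ∈ b.support) ∧ a 0 = α ∧ a (Fin.last m) = β ∧
      (∀ i, ws i ∈ P.weylGroup) ∧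
      w = (List.ofFn fun i : Fin m => ws (Fin.rev i)).prod ∧
      (∀ i : Fin m, ws i • a (Fin.castSucc i) = a (Fin.succ i)) ∧
      ∀ i : Fin m, ∃ γ ∈ b.support,
        ws i ∈ Subgroup.closure {Equiv.reflection P (a (Fin.castSucc i)), Equiv.reflection P γ} ∧
        (a (Fin.castSucc i) ≠ a (Fin.succ i) → γ = a (Fin.succ i)) := by
  have := Fintype.ofFinite ι
  exact decomposition (Groth.Agent.RootData.Simple.of_base b) (Finset.mem_coe.mpr hβ) _ w α hw
    (Finset.mem_coe.mpr hα) hwα le_rfl

end Groth.Agent.S2957
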