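import Groth.Statements.S2962
import Groth.Agent.Obs28.CentreRoots

set_option autoImplicit false
set_option linter.style.haveILetI false
open CategoryTheory MonoidalCategory CartesianMonoidalCategory MonObj GrpObj AlgebraicGeometry
universe u
open RedX

namespace Groth.Agent.S2962

/-- Let G be a split reductive group scheme over S with splitting D (maximal torus T = D(M), roots in
M). A point g of G with values in X is central (commutes with every point of G after every base
change X' -> X) if and only if it factors through T and every root, viewed as a character T -> G_m,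
is trivial on it; i.e. the centre of G is the intersection of the kernels of the roots. -/
theorem result {S : Scheme.{u}} {G : Over S} [GrpObj G] (D : Red.SplitRed G)
    (X : Over S) (g : X ⟶ G) :
    (∀ (X' : Over S) (x : X' ⟶ X) (h : X' ⟶ G), (x ≫ g) * h = h * (x ≫ g)) ↔
      ∃ t : X ⟶ D.T, t ≫ D.i = g ∧ ∀ a : D.idx, t ≫ D.split.hom.hom.hom ≫ Red.chi S (D.P.root a) = 1 := by
  constructor
  · intro hg
    rcases isEmpty_or_nonempty S with hS | hS
    · haveI : IsEmpty X.left := ⟨fun x => hS.elim (X.hom.base x)⟩
      have hsub : ∀ (Z : Over S) (a b : X ⟶ Z), a = b := fun Z a b =>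
        Over.OverMorphism.ext (isInitialOfIsEmpty.hom_ext _ _)
      exact ⟨1, hsub _ _ _, fun a => hsub _ _ _⟩
    · exact Obs28.CRoots.central_imp D g hg
  · rintro ⟨t, rfl, ht⟩ X' x h
    rcases isEmpty_or_nonempty S with hS | hS
    · haveI : IsEmpty X'.left := ⟨fun x => hS.elim (X'.hom.base x)⟩
      exact Over.OverMorphism.ext (isInitialOfIsEmpty.hom_ext _ _)
    · exact Obs28.CRoots.central_of D t ht X' x h

end Groth.Agent.S2962
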