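import Groth.Statements.S5246
-- import your own Groth.Agent.* helpers here
import Groth.Agent.MultDefLib.SplitHom
import Groth.Agent.MultDefLib.HomFamBC
import Groth.Agent.MultDefLib.Descend
import Groth.Agent.GrpSchLib.MultTypeBC

set_option autoImplicit false
open CategoryTheory MonoidalCategory CartesianMonoidalCategory MonObj GrpObj AlgebraicGeometry
universe u
open SGA3x

namespace Groth.Agent.S5246

open CategoryTheory.Limits MultDefLib GrpSchLib

set_option linter.style.haveILetI false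

set_option backward.isDefEq.respectTransparency false in
/-- Let H be an S-group of multiplicative type and of finite type and G an S-group which is smooth and
affine over S. Then the functor of group homomorphisms from H to G is representable, by an S-scheme
A smooth and separated over S: there is a family of homomorphisms H ⟶ G parametrised by A through
which every such family parametrised by an S-scheme T factors through exactly one S-morphism T ⟶ A. -/
theorem result {S : Scheme.{u}} (H G : Over S) [GrpObj H] [GrpObj G]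
    (hH : SGA3x.IsMultTypeFT H) (hG : Smooth G.hom) (hGa : IsAffineHom G.hom) :
    ∃ (A : Over S) (υ : H ⊗ A ⟶ G), AutFam.RepresentsHom H G A υ ∧ Smooth A.hom ∧ IsSeparated A.hom := by
  classical
  obtain ⟨S', f, hfl, hsur, hqc, hloc⟩ := hH
  choose Us hs Ms iMs hfg e using hloc
  let κ := {W : S'.Opens // IsAffineOpen W ∧ ∃ s, W ≤ Us s}
  let q : ∀ w : κ, Spec Γ(S', w.1) ⟶ S := fun w => w.2.1.fromSpec ≫ f
  have hcover : ∀ (x : S') (O : S'.Opens), x ∈ O → ∃ w : κ, x ∈ w.1 ∧ w.1 ≤ O := fun x O hx => by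
    obtain ⟨W, hW, hxW, hWO⟩ := exists_isAffineOpen_mem_and_subset (show x ∈ O ⊓ Us x from ⟨hx, hs x⟩)
    exact ⟨⟨W, hW, x, fun y hy => (hWO hy).2⟩, hxW, fun y hy => (hWO hy).1⟩
  have hmem : Presieve.ofArrows (fun w : κ => Spec Γ(S', w.1)) q ∈ Scheme.fpqcPrecoverage S := by
    refine ⟨?_, ?_⟩
    · let E : PreZeroHypercover.{u} S := ⟨κ, fun w => Spec Γ(S', w.1), q⟩
      show E.presieve₀ ∈ _
      rw [Scheme.presieve₀_mem_qcPrecoverage_iff]
      refine ⟨fun {V} hV => ?_⟩
      obtain ⟨W, hW, hWV⟩ := hqc V hV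
      choose w hxw hwW using fun x : W => hcover x.1 W x.2
      obtain ⟨t, ht⟩ := hW.elim_finite_subcover (fun x : W => ((w x).1 : Set S')) (fun x => (w x).1.2)
        fun x hx => Set.mem_iUnion.2 ⟨⟨x, hx⟩, hxw _⟩
      refine IsCompactOpenCovered.of_finite (κ := {x // x ∈ t}) (fun x => (w x.1 : E.I₀)) (fun x => ⊤)
        (fun x => ?_) ?_
      · show IsCompact (Set.univ : Set (Spec Γ(S', (w x.1).1)))
        exact isCompact_univ
      · rw [← hWV]
        refine Set.ext fun y => ⟨?_, ?_⟩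
        · intro hy
          obtain ⟨x, p, -, hp⟩ := Set.mem_iUnion.1 hy
          refine ⟨(w x.1).2.1.fromSpec p, hwW x.1 ?_, hp⟩
          exact (w x.1).2.1.range_fromSpec.subset ⟨p, rfl⟩
        · rintro ⟨z, hz, rfl⟩
          obtain ⟨x, hx, hzx⟩ := Set.mem_iUnion₂.1 (ht hz)
          obtain ⟨p, hp⟩ := (w x).2.1.range_fromSpec.superset hzx
          exact Set.mem_iUnion.2 ⟨⟨x, hx⟩, p, trivial, congrArg f.base hp⟩
    · rw [Scheme.ofArrows_mem_precoverage_iff]
      refine ⟨fun y => ?_, fun w => ?_⟩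
      · obtain ⟨z, rfl⟩ := hsur.surj y
        obtain ⟨w, hzw, -⟩ := hcover z ⊤ trivial
        obtain ⟨p, hp⟩ := w.2.1.range_fromSpec.superset hzw
        exact ⟨w, p, congrArg f.base hp⟩
      · exact inferInstanceAs (Flat (w.2.1.fromSpec ≫ f))
  have key : ∀ w : κ, ∃ (A : Over (Spec Γ(S', w.1))) (υ : H ⊗ (Over.map (q w)).obj A ⟶ G),
      RepOn (q w) A υ ∧ MoreMor.IsIndQuasiAffineHom A.hom ∧ Smooth A.hom ∧ IsSeparated A.hom := by
    intro w
    obtain ⟨s, hws⟩ := w.2.2
    letI := iMs s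
    haveI : IsAffine (Red.bc (q w) G).left := by
      haveI := hGa
      show IsAffine (pullback G.hom (q w))
      exact isAffine_of_isAffineHom (pullback.snd G.hom (q w))
    obtain ⟨A, _, _, ⟨eG⟩⟩ := AffineHopf.exists_hopf (Red.bc (q w) G)
    haveI : Algebra.Smooth Γ(S', w.1) A := by
      refine RingHom.smooth_algebraMap.1 ((HasRingHomProperty.Spec_iff (P := @Smooth) (φ := CommRingCat.ofHom (algebraMap Γ(S', w.1) A))).1 ?_)
      show Smooth (AffineHopf.sp Γ(S', w.1) A).hom
      rw [← Over.w (overIso eG).hom]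
      haveI : Smooth (Red.bc (q w) G).hom := MorphismProperty.pullback_snd G.hom (q w) hG
      haveI : IsIso (overIso eG).hom.left := inferInstanceAs (IsIso ((Over.forget _).map (overIso eG).hom))
      infer_instance
    let l : Spec Γ(S', w.1) ⟶ Us s := w.2.1.isoSpec.inv ≫ S'.homOfLE hws
    have hl : l ≫ (Us s).ι ≫ f = q w := by
      show (w.2.1.isoSpec.inv ≫ S'.homOfLE hws) ≫ (Us s).ι ≫ f = w.2.1.fromSpec ≫ f
      rw [Category.assoc, Scheme.homOfLE_ι_assoc, ← w.2.1.isoSpec_inv_ι, Category.assoc]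
    obtain ⟨e₁⟩ := MultTypeBC.bc_congr hl.symm H
    obtain ⟨e₂⟩ := MultTypeBC.bc_bc l ((Us s).ι ≫ f) H
    obtain ⟨e₀⟩ := e s
    obtain ⟨e₃⟩ := MultTypeBC.bc_iso l e₀
    obtain ⟨e₄⟩ := MultTypeBC.bc_DS l (Ms s)
    obtain ⟨e₅⟩ := AffineHopf.nonempty_DS_iso Γ(S', w.1) (Ms s)
    obtain ⟨U, υ', hrep, hqa, hsm, hsep⟩ :=
      SplitHom.exists_representsHom_split Γ(S', w.1) (Multiplicative (Ms s)) A
    obtain ⟨υ, hυ⟩ := exists_repOn (q w) (H' := AffineHopf.sp Γ(S', w.1) (MonoidAlgebra Γ(S', w.1) (Multiplicative (Ms s))))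
      (e₁ ≪≫ e₂.symm ≪≫ e₃ ≪≫ e₄ ≪≫ e₅.symm).symm eG υ' hrep
    exact ⟨U, υ, hυ, hqa, hsm, hsep⟩
  choose A υ hrep hqa hsm hsep using key
  obtain ⟨U, υU, hU, hiso⟩ := exists_representsHom_of_cover hmem hrep hqa
  haveI : MorphismProperty.DescendsAlong @IsSeparated
      (@Surjective ⊓ @Flat ⊓ @QuasiCompact : MorphismProperty Scheme.{u}) := EtFound.fpqc_isSeparated
  refine ⟨U, υU, hU, of_fpqc_family (P := @Smooth) q hmem U.hom fun w => ?_,
    of_fpqc_family (P := @IsSeparated) q hmem U.hom fun w => ?_⟩ <;>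
    obtain ⟨i⟩ := hiso w <;>
    haveI : IsIso i.hom.left := inferInstanceAs (IsIso ((Over.forget _).map i.hom))
  · haveI := hsm w
    rw [show pullback.fst (q w) U.hom = i.hom.left ≫ (A w).hom from (Over.w i.hom).symm]
    infer_instance
  · haveI := hsep w
    rw [show pullback.fst (q w) U.hom = i.hom.left ≫ (A w).hom from (Over.w i.hom).symm]
    infer_instance

end Groth.Agent.S5246
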