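import Groth.Statements.S2993
import Groth.Agent.ParLib.AffineDimOne
import Groth.Agent.GrpSchLib.IsogenyFibre
import Groth.Agent.GrpSchLib.HomFinite

set_option autoImplicit false
set_option backward.isDefEq.respectTransparency.types false
universe u
open Par

namespace Groth.Agent.S2993

open AlgebraicGeometry CategoryTheory MonObj in
theorem isFinite_field {k : Type u} [Field k] {G H : Over (Spec (CommRingCat.of k))} [GrpObj G] [GrpObj H]
    [LocallyOfFiniteType G.hom] [LocallyOfFiniteType H.hom] (f : G ⟶ H) [IsMonHom f] [QuasiCompact f.left]
    [LocallyQuasiFinite f.left] [IsSeparated f.left] : IsFinite f.left :=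
  Groth.Agent.GrpSchLib.HomFinite.isFinite f

open AlgebraicGeometry CategoryTheory in
/-- In the case proved in the text (G smooth over S; the editors note that flatness suffices): let S be
a locally Noetherian scheme of dimension ≤ 1, G and H two S-group schemes of finite type and f : G →
H a homomorphism of S-groups which is quasi-finite and separated. If G is smooth over S then f is
affine. -/
theorem result {S : Scheme.{u}} [IsLocallyNoetherian S] (hS : topologicalKrullDim S ≤ 1)
    (G H : Over S) [GrpObj G] [GrpObj H] [LocallyOfFiniteType G.hom] [QuasiCompact G.hom] [LocallyOfFiniteType H.hom] [QuasiCompact H.hom]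
    [Smooth G.hom] (f : G ⟶ H) [IsMonHom f] [LocallyQuasiFinite f.left] [QuasiCompact f.left] [IsSeparated f.left] :
    IsAffineHom f.left := by
  have : LocallyOfFiniteType (f.left ≫ H.hom) := by rw [Over.w f]; infer_instance
  have : LocallyOfFiniteType f.left := locallyOfFiniteType_of_comp f.left H.hom
  refine Groth.Agent.ParLib.isAffineHom_of_finite_fibres f.left H.hom hS fun s => ?_
  let σ := S.fromSpecResidueField s
  let fs := (Over.pullback σ).map f
  have sqf := Groth.Agent.GrpSchLib.IsogenyFibre.fibre_isPullback f σ
  have : LocallyOfFiniteType ((Over.pullback σ).obj G).hom :=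
    inferInstanceAs (LocallyOfFiniteType (Limits.pullback.snd G.hom σ))
  have : LocallyOfFiniteType ((Over.pullback σ).obj H).hom :=
    inferInstanceAs (LocallyOfFiniteType (Limits.pullback.snd H.hom σ))
  have : QuasiCompact fs.left := MorphismProperty.of_isPullback sqf.flip ‹_›
  have : LocallyQuasiFinite fs.left := MorphismProperty.of_isPullback sqf.flip ‹_›
  have : IsSeparated fs.left := MorphismProperty.of_isPullback sqf.flip ‹_›
  have h : IsFinite fs.left := isFinite_field (k := S.residueField s) fs
  show IsFinite (Limits.pullback.snd f.left (Limits.pullback.fst H.hom σ))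
  rw [← sqf.flip.isoPullback_inv_snd]
  exact (MorphismProperty.cancel_left_of_respectsIso @IsFinite _ fs.left).2 h

end Groth.Agent.S2993
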