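import Groth.Statements.S2994
import Groth.Agent.S3025
import Groth.Agent.ParLib.AffineGrpDimOne

set_option autoImplicit false
universe u
open Par

namespace Groth.Agent.S2994

open AlgebraicGeometry CategoryTheory in
/-- Let S be a locally Noetherian scheme of dimension ≤ 1 and G a smooth S-group scheme of finite type
whose geometric fibres are affine, connected and semisimple. Then G is affine over S, hence a
semisimple S-group. -/
theorem result {S : Scheme.{u}} [IsLocallyNoetherian S] (hS : topologicalKrullDim S ≤ 1)
    (G : Over S) [GrpObj G] [Smooth G.hom] [QuasiCompact G.hom]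
    (hfib : ∀ s : S, Red.IsSemisimpleOver (AlgebraicClosure (S.residueField s)) (Red.geomFibre s G)) :
    IsAffineHom G.hom ∧ Red.IsSemisimple G := by
  have hconn : ∀ s : S, _root_.IsConnected (G.hom.base ⁻¹' {s}) := fun s => by
    haveI : ConnectedSpace ↥(Limits.pullback G.hom (Red.geomPt s)) := (hfib s).1.2.2.1
    have h : Set.range (Limits.pullback.fst G.hom (Red.geomPt s)) = G.hom.base ⁻¹' {s} := by
      rw [Scheme.Pullback.range_fst]
      refine congrArg (G.hom.base ⁻¹' ·) (Set.eq_singleton_iff_nonempty_unique_mem.2 ⟨Set.range_nonempty _, ?_⟩)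
      rintro _ ⟨x, rfl⟩
      have hx : (S.fromSpecResidueField s) (Spec.map (CommRingCat.ofHom (algebraMap (S.residueField s)
          (AlgebraicClosure (S.residueField s)))) x) ∈ Set.range (S.fromSpecResidueField s) := ⟨_, rfl⟩
      rw [Scheme.range_fromSpecResidueField] at hx
      exact hx
    exact h ▸ isConnected_range (Limits.pullback.fst G.hom (Red.geomPt s)).continuous
  haveI : UniversallyOpen G.hom := inferInstance
  haveI : IsSeparated G.hom := (Groth.Agent.S3025.result S G hconn).1
  have hA : IsAffineHom G.hom := ParLib.GrpDimOne.isAffineHom hS G fun s => by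
    haveI : IsAffine (Limits.pullback G.hom (Red.geomPt s)) := (hfib s).1.1
    exact isAffineHom_of_isAffine _
  exact ⟨hA, hA, inferInstance, hfib⟩

end Groth.Agent.S2994
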