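import Groth.Statements.S3016
import Groth.Agent.GrpSchLib.HomDim
import Groth.Agent.GrpSchLib.ArtinTop

set_option autoImplicit false
universe u
open CategoryTheory MonoidalCategory CartesianMonoidalCategory MonObj GrpObj AlgebraicGeometry TensorProduct
open SGA3 Groth.Agent Groth.Agent.GrpSchLib CategoryTheory.Limits
open scoped CategoryTheory.Obj

namespace Groth.Agent.S3016

/-- Let A be a local artinian ring and u : G → H a quasi-compact homomorphism between group schemes
locally of finite type over A. Then the image u(G) is a closed subset of H, and dim G = dim u(G) +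
dim Ker u (dimensions of the underlying topological spaces; Ker u is the fibre of u over the unit
section). -/
theorem result (A : Type u) [CommRing A] [IsArtinianRing A] [IsLocalRing A]
    (G H : Over (Spec (CommRingCat.of A))) [GrpObj G] [GrpObj H] [LocallyOfFiniteType G.hom] [LocallyOfFiniteType H.hom]
    (u : G ⟶ H) [IsMonHom u] [QuasiCompact u.left] :
    IsClosed (Set.range u.left.base) ∧
    topologicalKrullDim G.left =
      topologicalKrullDim (Set.range u.left.base) +
        topologicalKrullDim ↥(Limits.pullback u.left (η[H] : 𝟙_ (Over (Spec (CommRingCat.of A))) ⟶ H).left) := by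
  let F := Over.pullback (clPt A)
  let G' := clFib G
  let H' := clFib H
  let u' : G' ⟶ H' := F.map u
  haveI : LocallyOfFiniteType G'.hom := inferInstanceAs (LocallyOfFiniteType (pullback.snd G.hom _))
  haveI : LocallyOfFiniteType H'.hom := inferInstanceAs (LocallyOfFiniteType (pullback.snd H.hom _))
  haveI : IsMonHom u' := inferInstanceAs (IsMonHom ((Over.pullback (clPt A)).map u))
  have hsq : IsPullback u'.left (pullback.fst G.hom (clPt A)) (pullback.fst H.hom (clPt A)) u.left := by
    refine IsPullback.of_right ?_ (pullback.lift_fst _ _ _) (IsPullback.of_hasPullback H.hom (clPt A)).flip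
    rw [Over.w u, show u'.left ≫ pullback.snd H.hom (clPt A) = pullback.snd G.hom (clPt A) from Over.w u']
    exact (IsPullback.of_hasPullback G.hom (clPt A)).flip
  haveI : QuasiCompact u'.left := MorphismProperty.of_isPullback hsq.flip ‹QuasiCompact u.left›
  have happ : ∀ t, clHomeo H (u'.left t) = u.left (clHomeo G t) := map_clFib_apply H u
  have hrange : Set.range u.left = clHomeo H '' Set.range u'.left := by
    rw [← Set.range_comp, show (clHomeo H ∘ u'.left) = u.left ∘ clHomeo G from funext happ,
      (clHomeo G).surjective.range_comp]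
  refine ⟨hrange ▸ (clHomeo H).isClosedMap _ (GrpSchLib.HomClosedRange.isClosed_range u'), ?_⟩
  have hpre : u'.left ⁻¹' Set.range η[H'].left = clHomeo G ⁻¹' (u.left ⁻¹' Set.range η[H].left) := by
    ext t
    simp only [Set.mem_preimage, ← happ]
    constructor
    · rintro ⟨pt, hpt⟩
      refine ⟨(clPt A) pt, ?_⟩
      rw [← hpt, @Subsingleton.elim (PrimeSpectrum (IsLocalRing.ResidueField A)) inferInstance pt (IsLocalRing.closedPoint _)]
      exact (clHomeo_one H _).symm
    · rintro ⟨pt, hpt⟩
      refine ⟨IsLocalRing.closedPoint _, (clHomeo H).injective ?_⟩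
      rw [← hpt]
      exact clHomeo_one H pt
  rw [← (clHomeo G).isHomeomorph.topologicalKrullDim_eq, GrpSchLib.HomDim.dim_eq_add u',
    GrpSchLib.HomDim.dim_pullback_one, GrpSchLib.HomDim.dim_pullback_one u]
  congr 1
  · rw [hrange]
    exact ((clHomeo H).image _).isHomeomorph.topologicalKrullDim_eq
  · exact ((Homeomorph.setCongr hpre).trans ((clHomeo G).sets rfl)).isHomeomorph.topologicalKrullDim_eq

end Groth.Agent.S3016
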