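import Groth.Statements.S3035
import Groth.Agent.GrpSchLib.HomProper
import Groth.Agent.GrpSchLib.KernelPair
import Groth.Agent.GrpSchLib.ArtinTop

set_option autoImplicit false
universe u
open CategoryTheory MonoidalCategory CartesianMonoidalCategory MonObj GrpObj AlgebraicGeometry TensorProduct
open SGA3 Groth.Agent
open scoped CategoryTheory.Obj

namespace Groth.Agent.S3035

/-- (i) ⟺ (iii): let A be a local artinian ring and u : G → H a quasi-compact homomorphism between group
schemes locally of finite type over A. Then u is proper if and only if the kernel of u (the fibre of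
u over the unit section) is proper over A. -/
theorem result (A : Type u) [CommRing A] [IsArtinianRing A] [IsLocalRing A]
    (G H : Over (Spec (CommRingCat.of A))) [GrpObj G] [GrpObj H] [LocallyOfFiniteType G.hom] [LocallyOfFiniteType H.hom]
    (u : G ⟶ H) [IsMonHom u] [QuasiCompact u.left] :
    IsProper u.left ↔ IsProper (Limits.pullback.snd u.left (η[H] : 𝟙_ (Over (Spec (CommRingCat.of A))) ⟶ H).left) := by
  constructor
  · intro hu
    exact MorphismProperty.of_isPullback (IsPullback.of_hasPullback u.left η[H].left) hu
  · intro hK
    let N : Over (Spec (CommRingCat.of A)) := Over.mk (Limits.pullback.fst u.left η[H].left ≫ G.hom)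
    let i : N ⟶ G := Over.homMk (Limits.pullback.fst u.left η[H].left) rfl
    have hN : N.hom = Limits.pullback.snd u.left η[H].left := by
      show Limits.pullback.fst _ _ ≫ G.hom = _
      rw [← Over.w u, Limits.pullback.condition_assoc, Over.w η[H]]
      exact Category.comp_id _
    have hk : IsPullback i (toUnit N) u η[H] := by
      refine IsPullback.of_map (Over.forget _) (Over.OverMorphism.ext ?_) ?_
      · show Limits.pullback.fst _ _ ≫ u.left = (toUnit N).left ≫ η[H].left
        rw [show (toUnit N).left = N.hom from rfl, hN, Limits.pullback.condition]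
      · refine (IsPullback.of_hasPullback u.left η[H].left).of_iso (Iso.refl _) (Iso.refl _) (Iso.refl _) (Iso.refl _) ?_ ?_ ?_ ?_
        · exact (Category.comp_id _).trans (Category.id_comp _).symm
        · refine (Category.comp_id _).trans ?_
          show _ = 𝟙 _ ≫ (toUnit N).left
          rw [Category.id_comp]
          exact hN.symm
        · exact (Category.comp_id _).trans (Category.id_comp _).symm
        · exact (Category.comp_id _).trans (Category.id_comp _).symm
    obtain ⟨p, _, hp⟩ := GrpSchLib.exists_kernelPair_iso i u hk
    have hNp : IsProper N.hom := hN ▸ hK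
    have hsn : IsProper (snd N G).left :=
      MorphismProperty.of_isPullback (IsPullback.of_hasPullback N.hom G.hom) hNp
    have hpair : IsProper (Limits.pullback.snd u.left u.left) :=
      (MorphismProperty.cancel_left_of_respectsIso @IsProper p _).1 (hp ▸ hsn)
    -- pass to the closed fibre
    let F := Over.pullback (GrpSchLib.clPt A)
    let G' := F.obj G
    let H' := F.obj H
    let u' : G' ⟶ H' := F.map u
    haveI : LocallyOfFiniteType G'.hom := inferInstanceAs (LocallyOfFiniteType (Limits.pullback.snd G.hom _))
    haveI : LocallyOfFiniteType H'.hom := inferInstanceAs (LocallyOfFiniteType (Limits.pullback.snd H.hom _))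
    haveI : IsMonHom u' := inferInstanceAs (IsMonHom ((Over.pullback (GrpSchLib.clPt A)).map u))
    have hsq : IsPullback u'.left (Limits.pullback.fst G.hom (GrpSchLib.clPt A))
        (Limits.pullback.fst H.hom (GrpSchLib.clPt A)) u.left := by
      refine IsPullback.of_right ?_ (Limits.pullback.lift_fst _ _ _) (IsPullback.of_hasPullback H.hom (GrpSchLib.clPt A)).flip
      rw [Over.w u, show u'.left ≫ Limits.pullback.snd H.hom (GrpSchLib.clPt A) =
        Limits.pullback.snd G.hom (GrpSchLib.clPt A) from Over.w u']
      exact (IsPullback.of_hasPullback G.hom (GrpSchLib.clPt A)).flip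
    haveI : QuasiCompact u'.left := MorphismProperty.of_isPullback hsq.flip ‹QuasiCompact u.left›
    let gG := Limits.pullback.fst G.hom (GrpSchLib.clPt A)
    let c := Limits.pullback.map u'.left u'.left u.left u.left gG gG (Limits.pullback.fst H.hom (GrpSchLib.clPt A)) hsq.w hsq.w
    have hK' : IsProper (Limits.pullback.snd u'.left u'.left) := by
      have hc : IsPullback c (Limits.pullback.snd u'.left u'.left) (Limits.pullback.snd u.left u.left) gG := by
        refine IsPullback.of_right ?_ (Limits.pullback.lift_snd _ _ _) (IsPullback.of_hasPullback u.left u.left)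
        rw [show c ≫ Limits.pullback.fst _ _ = Limits.pullback.fst u'.left u'.left ≫ gG from Limits.pullback.lift_fst _ _ _,
          show gG ≫ u.left = u'.left ≫ Limits.pullback.fst H.hom (GrpSchLib.clPt A) from hsq.w.symm]
        exact (IsPullback.of_hasPullback u'.left u'.left).paste_horiz hsq.flip
      exact MorphismProperty.of_isPullback hc hpair
    haveI : IsProper u'.left := GrpSchLib.HomProper.isProper u' hK'
    haveI : IsClosedImmersion gG := MorphismProperty.of_isPullback (P := @IsClosedImmersion)
      (IsPullback.of_hasPullback G.hom (GrpSchLib.clPt A)).flip inferInstance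
    haveI : IsClosedImmersion (Limits.pullback.fst H.hom (GrpSchLib.clPt A)) := MorphismProperty.of_isPullback
      (P := @IsClosedImmersion) (IsPullback.of_hasPullback H.hom (GrpSchLib.clPt A)).flip inferInstance
    haveI : Surjective gG := MorphismProperty.of_isPullback (P := @Surjective)
      (IsPullback.of_hasPullback G.hom (GrpSchLib.clPt A)).flip inferInstance
    haveI : IsProper (gG ≫ u.left) := by
      rw [← hsq.w]
      infer_instance
    haveI : LocallyOfFiniteType (u.left ≫ H.hom) := by rw [Over.w u]; infer_instance
    haveI : LocallyOfFiniteType u.left := locallyOfFiniteType_of_comp u.left H.hom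
    exact QCoh.isProper_of_comp_surjective gG u.left

end Groth.Agent.S3035
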