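import Groth.Statements.S3105
import Groth.Agent.EtCore73.ConstNormal

set_option autoImplicit false
set_option linter.style.haveILetI false
set_option backward.isDefEq.respectTransparency false
set_option backward.isDefEq.respectTransparency.types false
universe u
open CategoryTheory CategoryTheory.Limits AlgebraicGeometry Opposite
open EtPBC

namespace Groth.Agent.S3105

/-- Let X be a normal integral scheme with generic point η, g : Spec κ(η) → X the canonical morphism and
M an abelian group. Then the unit map from the constant sheaf M_X on X_ét to g_*g^*M_X is an
isomorphism. (The published statement is more general, allowing X geometrically unibranch and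
sheaves of sets. Continuity of the functor of étale sites along g is carried as an instance binder.) -/
theorem result (X : Scheme.{u}) [IsIntegral X] (hX : Pi1.IsNormalScheme X)
    [EtCoh.BCCont (X.fromSpecResidueField (genericPoint X))] (M : Type) [AddCommGroup M] :
    IsIso ((EtCoh.pullPushAdj (X.fromSpecResidueField (genericPoint X))).unit.app (EtCoh.const X M)) := by
  have hN : ∀ x : X, IsIntegrallyClosed (X.presheaf.stalk x) := fun x => (hX x).2
  refine EtCore73.isIso_unit_const_of_irreducible _ _ (fun T hT => ?_) (EtCore73.exists_irreducible_nbhd hN)
  let g := X.fromSpecResidueField (genericPoint X)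
  obtain ⟨v, hv, huniq⟩ := EtCore73.existsUnique_generic hN T
  have hrange : ∀ w, g.base w = genericPoint X := fun w => by
    have h' : g.base w ∈ Set.range g.base := ⟨w, rfl⟩
    rwa [Scheme.range_fromSpecResidueField, Set.mem_singleton_iff] at h'
  obtain ⟨z, -, -⟩ := Scheme.Pullback.exists_preimage_pullback (f := T.hom) (g := g) v default
    (hv.trans (hrange _).symm)
  let p := pullback.fst T.hom g
  show IrreducibleSpace ↥(pullback T.hom g)
  have huv : ∀ a, p.base a = v := fun a => huniq _ (by
    show (p ≫ T.hom).base a = _
    rw [show p ≫ T.hom = pullback.snd T.hom g ≫ g from pullback.condition]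
    exact hrange _)
  haveI : IsPreimmersion p := MorphismProperty.pullback_fst (P := @IsPreimmersion) T.hom g
    (inferInstanceAs (IsPreimmersion (X.fromSpecResidueField (genericPoint X))))
  haveI : Subsingleton ↥(pullback T.hom g) :=
    ⟨fun a b => p.isEmbedding.injective ((huv a).trans (huv b).symm)⟩
  exact { isPreirreducible_univ := Set.Subsingleton.isPreirreducible (Set.subsingleton_of_subsingleton)
          toNonempty := ⟨z⟩ }

end Groth.Agent.S3105
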