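import Groth.Statements.S3211
import Groth.Agent.SGA7X.NeronGrp
import Groth.Agent.ProperNhd.ConnFibre
import Groth.Agent.ProperNhd.Closure
import Groth.Agent.FBaseLib.Basic

set_option autoImplicit false
universe u
open CategoryTheory CategoryTheory.Limits AlgebraicGeometry MonObj
open SGA7

namespace Groth.Agent.S3211

/-- (i) ⟺ (iv): let R be a discrete valuation ring with fraction field K, A an abelian variety over K (a
proper, geometrically integral group scheme) and N a Néron model of A over Spec R. Then A extends to
an abelian scheme over R (a proper smooth group scheme with connected geometric fibres and generic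
fibre K-isomorphic to A) if and only if N is proper over Spec R. -/
theorem result (R : Type u) [CommRing R] [IsDomain R] [IsDiscreteValuationRing R]
    (A : Over (Spec (CommRingCat.of (FractionRing R)))) [GrpObj A] [IsProper A.hom] [GeometricallyIntegral A.hom]
    (N : Over (Spec (CommRingCat.of R))) (e : (Neron.genericFibre R).obj N ≅ A) (hN : Neron.IsNeronModelOf R N A e) :
    (∃ (B : Over (Spec (CommRingCat.of R))) (_ : GrpObj B), IsProper B.hom ∧ Smooth B.hom ∧
        (∀ (k' : Type u) [Field k'] (t : Spec (CommRingCat.of k') ⟶ Spec (CommRingCat.of R)), ConnectedSpace ↑(pullback B.hom t)) ∧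
        Nonempty ((Over.pullback (Spec.map (CommRingCat.ofHom (algebraMap R (FractionRing R))))).obj B ≅ A)) ↔ IsProper N.hom := by
  have : Smooth N.hom := hN.1
  have : IsSeparated N.hom := hN.2.1
  have : QuasiCompact N.hom := hN.2.2.2.1
  let j := Neron.genPt R
  let z : Spec (CommRingCat.of R) := genericPoint _
  have hj : j (IsLocalRing.closedPoint (FractionRing R)) = z := Groth.Agent.ProperNhd.genMap_closedPoint R
  constructor
  · rintro ⟨B, _, hBp, hBs, -, ⟨φ⟩⟩
    obtain ⟨g, hg⟩ := (hN.2.2.2.2 B hBs).2 φ.hom
    have hg' : g.left ≫ N.hom = B.hom := Over.w g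
    have : IsProper (g.left ≫ N.hom) := by rw [hg']; exact hBp
    have : IsProper g.left := IsProper.of_comp g.left N.hom
    have hfst : IsIso ((Neron.genericFibre R).map g).left := by
      have h : (Neron.genericFibre R).map g = φ.hom ≫ e.inv := by rw [← hg, Category.assoc, Iso.hom_inv_id, Category.comp_id]
      rw [h]
      exact (Over.forget (Spec (CommRingCat.of (FractionRing R)))).map_isIso (φ.hom ≫ e.inv)
    have : Surjective g.left := ⟨fun x => by
      obtain ⟨a, ha, haz⟩ := Flat.generalizingMap N.hom ((genericPoint_spec _).specializes (y := N.hom x) trivial)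
      obtain ⟨a', rfl⟩ : a ∈ Set.range (pullback.fst N.hom j) := by
        rw [Scheme.Pullback.range_fst]
        exact ⟨_, hj.trans haz.symm⟩
      obtain ⟨b, rfl⟩ := ((Neron.genericFibre R).map g).left.surjective a'
      have hmem : pullback.fst N.hom j (((Neron.genericFibre R).map g).left b) ∈ Set.range g.left :=
        ⟨pullback.fst B.hom j b, by
          have h0 : ((Neron.genericFibre R).map g).left ≫ pullback.fst N.hom j = pullback.fst B.hom j ≫ g.left :=
            pullback.lift_fst _ _ _
          exact (congrArg (fun m : ((Neron.genericFibre R).obj B).left ⟶ N.left => m b) h0).symm⟩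
      exact ha.mem_closed g.left.isClosedMap.isClosed_range hmem⟩
    have : UniversallyClosed (g.left ≫ N.hom) := inferInstance
    have : UniversallyClosed N.hom := UniversallyClosed.of_comp_surjective g.left N.hom
    exact { }
  · intro hp
    obtain ⟨inst⟩ := Groth.Agent.SGA7X.NeronGrp.exists_grpObj hN
    let := inst
    refine ⟨N, inst, hp, hN.1, fun k' _ t => ?_, ⟨e⟩⟩
    have hgc : GeometricallyConnected N.hom := by
      rw [GeometricallyConnected.iff_geometricallyConnected_fiber]
      intro s
      refine Groth.Agent.ProperNhd.geometricallyConnected_fibre_of_flat_proper N.hom s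
        ⟨η[N].left s, congrArg (fun m : Spec (CommRingCat.of R) ⟶ Spec (CommRingCat.of R) => m s) (Over.w η[N])⟩ ?_
      intro ξ hξ _
      obtain rfl : z = ξ := hξ z ((genericPoint_spec _).specializes trivial)
      obtain ⟨ψ, hψ⟩ := Groth.Agent.ProperNhd.exists_fac_fromSpecResidueField j hj
      have : GeometricallyConnected ((Neron.genericFibre R).obj N).hom := by
        have h : GeometricallyConnected A.hom := ⟨fun L _ y Z fst snd h => by
          have := GeometricallyIntegral.geometrically_isIntegral (f := A.hom) y fst snd h
          infer_instance⟩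
        rw [← Over.w e.hom]
        exact (MorphismProperty.cancel_left_of_respectsIso @GeometricallyConnected e.hom.left A.hom).2 h
      have hs : Surjective (Spec.map ψ) := ⟨fun a => ⟨IsLocalRing.closedPoint _, Subsingleton.elim _ _⟩⟩
      refine ⟨Groth.Agent.FBaseLib.geometrically_of_surjective (P := (ConnectedSpace ·))
        (fun {Z W} q _ _ h => @Groth.Agent.FBaseLib.connectedSpace_of_surjective Z W q inferInstance h)
        (N.hom.fiberToSpecResidueField z) (Spec.map ψ) ?_⟩
      have h2 : GeometricallyConnected (pullback.snd (N.hom.fiberToSpecResidueField z) (Spec.map ψ)) := by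
        show GeometricallyConnected (pullback.snd (pullback.snd N.hom ((Spec (CommRingCat.of R)).fromSpecResidueField z)) (Spec.map ψ))
        rw [← pullbackLeftPullbackSndIso_hom_snd,
          MorphismProperty.cancel_left_of_respectsIso @GeometricallyConnected]
        have h3 : GeometricallyConnected (pullback.snd N.hom j) := ‹GeometricallyConnected ((Neron.genericFibre R).obj N).hom›
        rwa [← hψ] at h3
      exact h2.geometrically_connectedSpace
    exact GeometricallyConnected.geometrically_connectedSpace _ _ _ (IsPullback.of_hasPullback N.hom t)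

end Groth.Agent.S3211
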