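import Groth.Statements.S3246
import Groth.Agent.DixBrauer.Kummer

set_option autoImplicit false
universe u
open CategoryTheory AlgebraicGeometry
open Dix

namespace Groth.Agent.S3246

open CategoryTheory CategoryTheory.Limits CategoryTheory.Abelian Groth.Agent.DixBrauer

/-- Let X be a scheme, ℓ a prime and n an integer with cd_ℓ(X) ≤ n (étale cohomology of ℓ-primary
torsion sheaves vanishes above degree n). Then the ℓ-primary torsion of H^i(X_ét, G_m) is zero for i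
> n + 1; if moreover ℓ is invertible on X, it is zero for i > n. -/
theorem result (X : Scheme.{u}) (ℓ : ℕ) (hℓ : ℓ.Prime) (n : ℕ) (hcd : Dix.CohDimLEAt X ℓ n) : (∀ i : ℕ, n + 1 < i → ∀ ξ : EtCoh.H X (EtCoh.Gm X) i, (∃ k : ℕ, ℓ ^ k • ξ = 0) → ξ = 0) ∧ (Dix.InvertibleOn X ℓ → ∀ i : ℕ, n < i → ∀ ξ : EtCoh.H X (EtCoh.Gm X) i, (∃ k : ℕ, ℓ ^ k • ξ = 0) → ξ = 0) := by
  have hK : Dix.IsPrimaryTorsion ℓ (kernel (EtCoh.powMap X ℓ)) :=
    Kummer.isPrimaryTorsion_of_nsmul_id (by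
      rw [← cancel_mono (kernel.ι (EtCoh.powMap X ℓ)), zero_comp, Kummer.nsmul_id_comp,
        ← Kummer.comp_nsmul_id]
      exact kernel.condition _)
  have hQ : Dix.IsPrimaryTorsion ℓ (cokernel (EtCoh.powMap X ℓ)) :=
    Kummer.isPrimaryTorsion_of_nsmul_id (by
      rw [← cancel_epi (cokernel.π (EtCoh.powMap X ℓ)), comp_zero, Kummer.comp_nsmul_id,
        ← Kummer.nsmul_id_comp]
      exact cokernel.condition _)
  have key : ∀ i : ℕ, n < i + 1 → Subsingleton (EtCoh.H X (cokernel (EtCoh.powMap X ℓ)) i) →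
      ∀ ξ : EtCoh.H X (EtCoh.Gm X) (i + 1), (∃ k : ℕ, ℓ ^ k • ξ = 0) → ξ = 0 := by
    intro i hi hQi ξ ⟨k, hk⟩
    induction k generalizing ξ with
    | zero => simpa using hk
    | succ k ih =>
      refine Kummer.eq_zero_of_nsmul_eq_zero ℓ _ i (hcd _ hK _ hi) hQi ξ (ih _ ?_)
      rwa [← mul_nsmul', ← pow_succ]
  constructor
  · intro i hi
    obtain ⟨i, rfl⟩ : ∃ j, i = j + 1 := ⟨i - 1, by omega⟩
    exact key i (by omega) (hcd _ hQ _ (by omega))
  · intro hℓX i hi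
    obtain ⟨i, rfl⟩ : ∃ j, i = j + 1 := ⟨i - 1, by omega⟩
    refine key i hi ?_
    haveI := Kummer.epi_powMap hℓX
    have hz : IsZero (cokernel (EtCoh.powMap X ℓ)) := isZero_cokernel_of_epi _
    refine subsingleton_of_forall_eq 0 fun y => ?_
    rw [← Ext.comp_mk₀_id y, hz.eq_of_src (𝟙 _) 0, Ext.mk₀_zero, Ext.comp_zero]

end Groth.Agent.S3246
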