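import Groth.Statements.S3253
import Groth.Agent.ArSurfBase.Form

set_option autoImplicit false
universe u
open AlgebraicGeometry CategoryTheory CategoryTheory.Limits
open ArSurf

namespace Groth.Agent.S3253

/-- Let R be a discrete valuation ring, X an arithmetic surface over Spec R (regular, integral,
2-dimensional, flat and projective), Γ_1, …, Γ_r vertical prime divisors of X over the closed point
(integral curves over the residue field, closed in X) and L_1, …, L_r invertible O_X-modules with
L_j ⊗ I(Γ_j) ≅ O_X (L_j = O_X(Γ_j)). Then for all integers a_1, …, a_r, Σ_{i,j} a_i a_j (Γ_i · Γ_j)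
≤ 0, where Γ_i · Γ_j = deg over the residue field of L_j restricted to Γ_i. -/
theorem result (R : Type u) [CommRing R] [IsDomain R] [IsDiscreteValuationRing R]
    (X : Over (Spec (CommRingCat.of R))) (hX : ArSurf.IsArithSurface R X)
    {r : ℕ} (Γ : Fin r → ArSurf.VertComp R X) (L : Fin r → X.left.Modules)
    (hL : ∀ j, ClSub.IsInverseOf (L j) (ClSub.idealMod ((Γ j).ι.ker))) (a : Fin r → ℤ) :
    (Finset.univ : Finset (Fin r × Fin r)).sum
      (fun p => a p.1 * a p.2 * ArSurf.inter R X (L p.2) (Γ p.1)) ≤ 0 := by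
  classical
  haveI := ArSurfBase.isProper_of_isArithSurface hX; haveI := hX.2.1; haveI := hX.2.2.2.1
  haveI := ArSurfBase.isLocallyNoetherian_left (X := X)
  let ι := Set.range fun i => ArSurfBase.supp (Γ i)
  let π : Fin r → ι := fun i => ⟨_, i, rfl⟩
  have hσ : ∀ s : ι, ∃ i, ArSurfBase.supp (Γ i) = s.1 := fun s => s.2
  choose σ hσ using hσ
  haveI : Fintype ι := Fintype.ofFinite _
  let A : ι → ℤ := fun s => ∑ i with π i = s, a i
  let C : ι → ι → ℤ := fun s t => ArSurf.inter R X (L (σ t)) (Γ (σ s))
  have hC : ∀ i j, ArSurf.inter R X (L j) (Γ i) = C (π i) (π j) := fun i j => by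
    have hK := fun j => SurfInt.isInvertible_idealMod (ArSurfBase.isEffCartier_ker (Γ j) hX.2.2.1 hX.1)
    show _ = ArSurf.inter R X (L (σ (π j))) (Γ (σ (π i)))
    rw [ArSurfBase.inter_congr_supp hX.2.2.1 hX.1 (hσ (π i)).symm (Γ j) (hL j),
      ArSurfBase.inter_eq_neg _ (hK j) (hL j), ArSurfBase.inter_eq_neg _ (hK _) (hL _),
      ArSurfBase.ker_congr (Γ (σ (π j))) (hσ (π j))]
  refine le_of_eq_of_le ?_ (ArSurfBase.form_nonpos hX.2.2.1 hX.1 (fun s : ι => Γ (σ s))
    (fun s t h => Subtype.ext ((hσ s).symm.trans (h.trans (hσ t)))) (fun s => L (σ s)) (fun s => hL _) A).1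
  calc _ = ∑ i, ∑ j, a i * a j * C (π i) (π j) := by
        rw [Fintype.sum_prod_type]
        exact Finset.sum_congr rfl fun i _ => Finset.sum_congr rfl fun j _ => by rw [hC]
    _ = ∑ s, ∑ i with π i = s, ∑ t, ∑ j with π j = t, a i * a j * C s t := by
        rw [← Finset.sum_fiberwise Finset.univ π]
        refine Finset.sum_congr rfl fun s _ => Finset.sum_congr rfl fun i hi => ?_
        rw [← Finset.sum_fiberwise Finset.univ π]
        refine Finset.sum_congr rfl fun t _ => Finset.sum_congr rfl fun j hj => ?_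
        rw [(Finset.mem_filter.1 hi).2, (Finset.mem_filter.1 hj).2]
    _ = _ := by
        refine Finset.sum_congr rfl fun s _ => ?_
        rw [Finset.sum_comm]
        refine Finset.sum_congr rfl fun t _ => ?_
        simp only [← Finset.sum_mul, ← Finset.mul_sum, A, C]

end Groth.Agent.S3253
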