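import Groth.Statements.S3257
import Groth.Agent.ArSurfBase.BlowPoint
import Groth.Agent.ArSurfBase.QuadArith

set_option autoImplicit false
universe u
open AlgebraicGeometry CategoryTheory CategoryTheory.Limits
open ArSurf

namespace Groth.Agent.S3257

/-- Let R be a Dedekind domain, X and Y arithmetic surfaces over Spec R, f : X -> Y an R-morphism and y
a closed point of Y such that f restricts to an isomorphism over Y minus y while the fibre of f over
y is irreducible and has more than one point (so the exceptional locus of the birational morphism f
is irreducible). Then f is the blowing-up of Y at y: it has the universal property of the blow-up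
along the ideal of the reduced closed point y (BlowUp.IsBlowUp). (The factorization result of the
source says more generally that every birational morphism of regular fibered surfaces is a finite
sequence of blow-ups of closed points.) -/
theorem result {R : Type u} [CommRing R] [IsDedekindDomain R]
    (X Y : Over (Spec (CommRingCat.of R))) (hX : ArSurf.IsArithSurface R X) (hY : ArSurf.IsArithSurface R Y)
    (f : X ⟶ Y) (y : Y.left) (hy : IsClosed ({y} : Set Y.left))
    (hiso : IsIso (f.left ∣_ (⟨{y}ᶜ, hy.isOpen_compl⟩ : Y.left.Opens)))
    (hirr : IsPreirreducible (f.left.base ⁻¹' {y}))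
    (hbig : ∃ x x' : X.left, x ≠ x' ∧ f.left.base x = y ∧ f.left.base x' = y) :
    BlowUp.IsBlowUp f.left (Scheme.IdealSheafData.vanishingIdeal ⟨{y}, hy⟩) := by
  haveI := hX.2.1; haveI := hY.2.1
  obtain ⟨_, _⟩ := ArSurfBase.noetherian_of_isArithSurface hX
  obtain ⟨_, _⟩ := ArSurfBase.noetherian_of_isArithSurface hY
  haveI := ArSurfBase.isProper_left hX hY f
  exact ArSurfBase.isBlowUp_of_irreducible hX.1 hY.1 hX.2.2.1.le hY.2.2.1.le f.left hy
    (ArSurfBase.ne_genericPoint_of_isClosed hY.2.2.1 hy) hiso hirr hbig

end Groth.Agent.S3257
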