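import Groth.Statements.S3258
import Groth.Agent.ArSurfBase.RelMin

set_option autoImplicit false
universe u
open AlgebraicGeometry CategoryTheory CategoryTheory.Limits
open ArSurf

namespace Groth.Agent.S3258

/-- Let R be a Dedekind domain and X an arithmetic surface over Spec R (a regular, integral scheme of
dimension 2, flat and projective over Spec R) which is smooth over Spec R. Then X is relatively
minimal: every R-morphism from X to a regular, projective, flat R-scheme that is an isomorphism on
generic fibres is an isomorphism. -/
theorem result {R : Type u} [CommRing R] [IsDedekindDomain R]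
    (X : Over (Spec (CommRingCat.of R))) (hX : ArSurf.IsArithSurface R X) [Smooth X.hom] :
    Neron.IsRelMinimalRegularModel R X := by
  haveI := hX.2.1; haveI := hX.2.2.2.1
  refine ArSurfBase.isRelMinimal_of_disjoint hX fun ξ ξ' z hξ hξ' h hne h' hne' => ?_
  have hs := ArSurfBase.eq_of_base_specializes (h.map X.hom.continuous) hξ
  have hs' := ArSurfBase.eq_of_base_specializes (h'.map X.hom.continuous) hξ'
  refine ArSurfBase.disjoint_of_smooth X.hom (fun x hx => ⟨fun hxξ => ?_, fun hxξ' => ?_⟩) (hs'.trans hs.symm) hs.symm h h'
  · exact ArSurfBase.middle_eq_of_chain hX.2.2.1.le (genericPoint_specializes x)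
      (ArSurfBase.ne_genericPoint X.hom (by rw [hx]; exact hξ)) hxξ h hne
  · exact ArSurfBase.middle_eq_of_chain hX.2.2.1.le (genericPoint_specializes x)
      (ArSurfBase.ne_genericPoint X.hom (by rw [hx]; exact hξ)) hxξ' h' hne'

end Groth.Agent.S3258
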