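import Groth.Statements.S3313
import Groth.Agent.MdlSurf.Comp

set_option autoImplicit false
universe u
open CategoryTheory CategoryTheory.Limits AlgebraicGeometry
open Models

namespace Groth.Agent.S3313

/-- Let R be a discrete valuation ring with fraction field K, C a smooth proper curve over K and X a
regular model of C over R (flat, of finite type, all local rings regular, generic fibre C). Let Γ_1,
…, Γ_n be the irreducible components of the closed fibre, each an integral curve over the residue
field closed in X, with multiplicities m_i (length of O_{X,ξ_i}/𝔪_R O_{X,ξ_i} at the generic point).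
Then each Γ_i is an effective Cartier divisor on X and the ideal sheaf 𝔪_R O_X of the closed fibre
is the product of the ideal sheaves of the Γ_i raised to the powers m_i (the closed fibre is the sum
Σ m_i Γ_i of effective Cartier divisors). -/
theorem result (R : Type u) [CommRing R] [IsDomain R] [IsDiscreteValuationRing R]
    (C X : Scheme.{u}) (f : C ⟶ Spec (CommRingCat.of (FractionRing R))) (p : X ⟶ Spec (CommRingCat.of R))
    (hC : Curve.IsSmoothProperCurve (FractionRing R) C f) (hX : Models.IsModel R X p C f)
    (hreg : Models.IsRegularScheme X)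
    {n : ℕ} (Γ : Fin n → ArSurf.VertComp R (Over.mk p)) (hΓ : Models.IsComponentList R (Over.mk p) Γ) :
    (∀ i, BlowUp.IsEffCartierIdeal (Γ i).ι.ker) ∧
      Models.specialFibreIdeal R (Over.mk p) = ∏ i, (Γ i).ι.ker ^ Models.mult R (Over.mk p) (Γ i) := by
  haveI : IsIntegral (Over.mk p).left := MdlSurf.isIntegral hC hX hreg
  haveI : Flat (Over.mk p).hom := hX.1
  haveI : IsLocallyNoetherian (Over.mk p).left := MdlSurf.isLocallyNoetherian hX
  rcases n with _ | n
  · refine ⟨fun i => i.elim0, ?_⟩
    rw [Fin.prod_univ_zero]
    have hemp : (Models.specialFibreIdeal R (Over.mk p)).support = ⊥ := by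
      refine SetLike.coe_injective (Set.eq_empty_of_forall_notMem fun x hx => ?_)
      obtain ⟨i, -⟩ := ArSurfBase.cover_of_isComponentList hΓ (ArSurfBase.mem_support_specialFibreIdeal_iff.1 hx)
      exact i.elim0
    rw [(Scheme.IdealSheafData.support_eq_bot_iff _).1 hemp]
    exact Scheme.IdealSheafData.ext (funext fun U => by simp)
  have hdim : topologicalKrullDim (Over.mk p).left = 2 :=
    haveI : IsIntegral X := MdlSurf.isIntegral hC hX hreg
    MdlSurf.dim_eq_two hC hX (Γ 0)
  exact ⟨fun i => ArSurfBase.isEffCartier_ker (Γ i) hdim hreg,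
    ArSurfBase.specialFibreIdeal_eq_prod hdim hreg Γ hΓ.1 fun x hx => ArSurfBase.cover_of_isComponentList hΓ hx⟩

end Groth.Agent.S3313
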