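import Groth.Statements.S3320
import Groth.Agent.MdlSurf.Comp

set_option autoImplicit false
universe u
open CategoryTheory CategoryTheory.Limits AlgebraicGeometry
open Models

namespace Groth.Agent.S3320

/-- In the following situation (R a discrete valuation ring, C a smooth proper curve over its fraction
field with H^0(C, O_C) = K, X a regular proper model, Γ_1, …, Γ_n the irreducible components of the
closed fibre with multiplicities m_i, L_j ⊗ I(Γ_j) ≅ O_X), for every integer vector a one has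
Σ_{i,j} a_i a_j (Γ_i · Γ_j) ≤ 0, with equality if and only if a is a rational multiple of (m_1, …,
m_n). -/
theorem result (R : Type u) [CommRing R] [IsDomain R] [IsDiscreteValuationRing R]
    (C X : Scheme.{u}) (f : C ⟶ Spec (CommRingCat.of (FractionRing R))) (p : X ⟶ Spec (CommRingCat.of R))
    (hC : Curve.IsSmoothProperCurve (FractionRing R) C f) (hH0 : IsIso f.appTop)
    (hX : Models.IsRegularProperModel R X p C f)
    {n : ℕ} (Γ : Fin n → ArSurf.VertComp R (Over.mk p)) (hΓ : Models.IsComponentList R (Over.mk p) Γ)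
    (L : Fin n → X.Modules) (hL : ∀ i, ClSub.IsInverseOf (L i) (ClSub.idealMod (Γ i).ι.ker)) (a : Fin n → ℤ) :
    (∑ q : Fin n × Fin n, a q.1 * a q.2 * ArSurf.inter R (Over.mk p) (L q.2) (Γ q.1)) ≤ 0 ∧
      ((∑ q : Fin n × Fin n, a q.1 * a q.2 * ArSurf.inter R (Over.mk p) (L q.2) (Γ q.1)) = 0 ↔
        ∃ c : ℚ, ∀ i, (a i : ℚ) = c * (Models.mult R (Over.mk p) (Γ i) : ℚ)) := by
  classical
  obtain ⟨h1, h2, h3, h4, hdim, hreg⟩ := MdlSurf.setup hC hX hΓ
  rw [Fintype.sum_prod_type]
  obtain ⟨hle, heq⟩ := ArSurfBase.form_nonpos hdim hreg Γ hΓ.1 L hL a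
  have hm : ∀ i, (0 : ℚ) < Models.mult R (Over.mk p) (Γ i) := fun i =>
    Nat.cast_pos.2 (ArSurfBase.map_maximalIdeal_genPtOf hdim hreg (Γ i)).2
  refine ⟨hle, fun h0 => ?_, fun ⟨c, hc⟩ => ?_⟩
  · rcases n with _ | n
    · exact ⟨0, fun i => i.elim0⟩
    obtain ⟨-, h5⟩ := heq h0
    refine ⟨(a 0 : ℚ) / Models.mult R (Over.mk p) (Γ 0), fun i => ?_⟩
    refine MdlSurf.connected_induction hC hH0 hX hΓ
      (fun j => (a j : ℚ) = (a 0 : ℚ) / Models.mult R (Over.mk p) (Γ 0) * Models.mult R (Over.mk p) (Γ j))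
      (i₀ := 0) (div_mul_cancel₀ _ (hm 0).ne').symm (fun j k hj hd => ?_) i
    have h6 : (a j : ℚ) * Models.mult R (Over.mk p) (Γ k) = a k * Models.mult R (Over.mk p) (Γ j) := by
      exact_mod_cast h5 j k hd
    rw [hj] at h6
    exact mul_right_cancel₀ (hm j).ne' (by linear_combination -h6)
  · have hz : ∀ i, (∑ j, (a j : ℚ) * (ArSurf.inter R (Over.mk p) (L j) (Γ i) : ℚ)) = 0 := fun i => by
      have h := MdlSurf.row_sum hC hX hΓ L hL i
      have h' : (∑ j, (Models.mult R (Over.mk p) (Γ j) : ℚ) * (ArSurf.inter R (Over.mk p) (L j) (Γ i) : ℚ)) = 0 := by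
        exact_mod_cast h
      calc (∑ j, (a j : ℚ) * (ArSurf.inter R (Over.mk p) (L j) (Γ i) : ℚ))
          = c * ∑ j, (Models.mult R (Over.mk p) (Γ j) : ℚ) * (ArSurf.inter R (Over.mk p) (L j) (Γ i) : ℚ) := by
            rw [Finset.mul_sum]
            exact Finset.sum_congr rfl fun j _ => by rw [hc j]; ring
        _ = 0 := by rw [h', mul_zero]
    have : ((∑ i, ∑ j, a i * a j * ArSurf.inter R (Over.mk p) (L j) (Γ i) : ℤ) : ℚ) = 0 := by
      push_cast
      refine Finset.sum_eq_zero fun i _ => ?_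
      simp only [mul_assoc]
      rw [← Finset.mul_sum, hz i, mul_zero]
    exact_mod_cast this

end Groth.Agent.S3320
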