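import Groth.Statements.S3322
import Groth.Agent.MdlSurf.NumType
-- import your own Groth.Agent.* helpers here

set_option autoImplicit false
universe u
open CategoryTheory CategoryTheory.Limits AlgebraicGeometry
open Models

namespace Groth.Agent.S3322

/-- In the following situation (R a discrete valuation ring with residue field k, C a smooth proper
curve over its fraction field K with H^0(C, O_C) = K, X a regular proper model, Γ_1, …, Γ_n the
irreducible components of the closed fibre with multiplicities m_i, L_i ⊗ I(Γ_i) ≅ O_X) the data n,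
m_i, a_ij = (Γ_i · Γ_j) = deg_k(L_j|Γ_i), w_i = dim_k H^0(Γ_i, O) and g_i with w_i g_i = dim_k
H^1(Γ_i, O) is a numerical type (n > 0, m_i > 0, (a_ij) symmetric with non-negative off-diagonal
entries, connected, killing m, w_i | a_ij, g_i ≥ 0), and its genus is the genus dim_K H^1(C, O_C) of
C. -/
theorem result (R : Type u) [CommRing R] [IsDomain R] [IsDiscreteValuationRing R]
    (C X : Scheme.{u}) (f : C ⟶ Spec (CommRingCat.of (FractionRing R))) (p : X ⟶ Spec (CommRingCat.of R))
    (hC : Curve.IsSmoothProperCurve (FractionRing R) C f) (hH0 : IsIso f.appTop)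
    (hX : Models.IsRegularProperModel R X p C f)
    {n : ℕ} (Γ : Fin n → ArSurf.VertComp R (Over.mk p)) (hΓ : Models.IsComponentList R (Over.mk p) Γ)
    (L : Fin n → X.Modules) (hL : ∀ i, ClSub.IsInverseOf (L i) (ClSub.idealMod (Γ i).ι.ker)) :
    ∃ T : Models.NumericalType n,
      (∀ i, T.m i = (Models.mult R (Over.mk p) (Γ i) : ℤ)) ∧ (∀ i j, T.a i j = ArSurf.inter R (Over.mk p) (L j) (Γ i)) ∧
      (∀ i, T.w i = (Models.wdeg R (Over.mk p) (Γ i) : ℤ)) ∧
      (∀ i, T.w i * T.g i = (Models.h1 R (Over.mk p) (Γ i) : ℤ)) ∧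
      T.genus = (Models.curveGenus (FractionRing R) C f : ℤ) := by
  classical
  obtain ⟨h1, h2, h3, h4, hdim, hreg⟩ := MdlSurf.setup hC hX hΓ
  haveI : IsProper p := h1
  have hg : ∀ i, ∃ g : ℕ, Models.h1 R (Over.mk p) (Γ i) = Models.wdeg R (Over.mk p) (Γ i) * g :=
    fun i => MdlSurf.wdeg_dvd_h1 i
  choose g hg using hg
  let T : Models.NumericalType n :=
    { m := fun i => (Models.mult R (Over.mk p) (Γ i) : ℤ)
      a := Matrix.of fun i j => ArSurf.inter R (Over.mk p) (L j) (Γ i)
      w := fun i => (Models.wdeg R (Over.mk p) (Γ i) : ℤ)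
      g := fun i => (g i : ℤ)
      pos := MdlSurf.n_pos hC hX hΓ
      m_pos := fun i => Int.natCast_pos.2 (MdlSurf.mult_pos hC hX hΓ i)
      w_pos := fun i => Int.natCast_pos.2 (MdlSurf.wdeg_pos i)
      g_nonneg := fun i => Int.natCast_nonneg _
      symm := Matrix.IsSymm.ext fun i j => MdlSurf.inter_symm' hC hX hΓ L hL j i
      offDiag_nonneg := fun i j hij =>
        (ArSurfBase.inter_offDiag_nonneg hdim hreg (fun e => hij (hΓ.1 e)) (hL j)).1
      connected := fun I hI hI' => by
        by_contra hcon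
        simp only [not_exists, not_and, not_not] at hcon
        obtain ⟨i₀, hi₀⟩ := hI
        refine hI' (Finset.eq_univ_of_forall fun i => ?_)
        refine MdlSurf.connected_induction hC hH0 hX hΓ (fun j => j ∈ I) hi₀ (fun i j hi hd => ?_) i
        by_contra hj
        have hne : ArSurfBase.supp (Γ i) ≠ ArSurfBase.supp (Γ j) := fun e => by
          obtain rfl : i = j := hΓ.1 e
          exact hj hi
        exact hd ((ArSurfBase.inter_offDiag_nonneg hdim hreg hne (hL j)).2.1 (hcon i hi j hj))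
      mulVec_m := funext fun i => by
        rw [Matrix.mulVec, dotProduct, Pi.zero_apply]
        refine Eq.trans (Finset.sum_congr rfl fun j _ => mul_comm _ _) ?_
        exact MdlSurf.row_sum hC hX hΓ L hL i
      w_dvd := fun i j => MdlSurf.wdeg_dvd_inter (L j) i }
  refine ⟨T, fun i => rfl, fun i j => rfl, fun i => rfl,
    fun i => by rw [hg i]; push_cast; rfl, ?_⟩
  have hG := MdlSurf.genus_formula hC hH0 hX hΓ L hL
  have hw : ∀ i, (Models.h1 R (Over.mk p) (Γ i) : ℤ) = T.w i * T.g i := fun i => by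
    rw [hg i]; push_cast; rfl
  have key : ∑ i, (Models.mult R (Over.mk p) (Γ i) : ℤ) *
        (2 * ((Models.h1 R (Over.mk p) (Γ i) : ℤ) - (Models.wdeg R (Over.mk p) (Γ i) : ℤ)) -
          ArSurf.inter R (Over.mk p) (L i) (Γ i)) =
      2 * (∑ i, T.m i * T.w i * (T.g i - 1)) - ∑ i, T.m i * T.a i i := by
    rw [Finset.mul_sum, ← Finset.sum_sub_distrib]
    refine Finset.sum_congr rfl fun i _ => ?_
    rw [hw i]
    show (Models.mult R (Over.mk p) (Γ i) : ℤ) * (2 * ((Models.wdeg R (Over.mk p) (Γ i) : ℤ) * g i -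
      Models.wdeg R (Over.mk p) (Γ i)) - ArSurf.inter R (Over.mk p) (L i) (Γ i)) =
      2 * ((Models.mult R (Over.mk p) (Γ i) : ℤ) * Models.wdeg R (Over.mk p) (Γ i) * ((g i : ℤ) - 1)) -
        (Models.mult R (Over.mk p) (Γ i) : ℤ) * ArSurf.inter R (Over.mk p) (L i) (Γ i)
    ring
  rw [key] at hG
  show 1 + (∑ i, T.m i * T.w i * (T.g i - 1)) - (∑ i, T.m i * T.a i i) / 2 = _
  omega

end Groth.Agent.S3322
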