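import Groth.Statements.S3327
import Groth.Agent.MdlSurf.ExcCrit
import Groth.Agent.MdlSurf.MeetPoint
import Groth.Agent.MdlSurf.FibreDivisors
import Groth.Agent.MdlSurf.NumType
-- import your own Groth.Agent.* helpers here

set_option autoImplicit false
universe u
open CategoryTheory CategoryTheory.Limits AlgebraicGeometry
open Models

namespace Groth.Agent.S3327

/-- In the following situation (R a discrete valuation ring with residue field k, C a smooth proper
curve over its fraction field K with H^0(C, O_C) = K, X a regular proper model, Γ_1, …, Γ_n the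
irreducible components of the closed fibre with multiplicities m_l), suppose Γ_i and Γ_j (i ≠ j) are
exceptional curves of the first kind which meet. Then n = 2, all multiplicities are 1, every
component is k-isomorphic to the projective line over k, Γ_i and Γ_j meet in a single point x with
residue field k, scheme-theoretically (I(Γ_i) + I(Γ_j) is the ideal of the reduced point x), and C
has genus zero. -/
theorem result (R : Type u) [CommRing R] [IsDomain R] [IsDiscreteValuationRing R]
    (C X : Scheme.{u}) (f : C ⟶ Spec (CommRingCat.of (FractionRing R))) (p : X ⟶ Spec (CommRingCat.of R))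
    (hC : Curve.IsSmoothProperCurve (FractionRing R) C f) (hH0 : IsIso f.appTop)
    (hX : Models.IsRegularProperModel R X p C f)
    {n : ℕ} (Γ : Fin n → ArSurf.VertComp R (Over.mk p)) (hΓ : Models.IsComponentList R (Over.mk p) Γ)
    (i j : Fin n) (hij : i ≠ j) (hi : Models.IsExcCurve (Γ i).ι) (hj : Models.IsExcCurve (Γ j).ι)
    (hmeet : ¬ Disjoint (Set.range ((Γ i).ι.base : (Γ i).curve.left → X))
      (Set.range ((Γ j).ι.base : (Γ j).curve.left → X))) :
    n = 2 ∧ (∀ l, Models.mult R (Over.mk p) (Γ l) = 1) ∧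
      (∀ l, ∃ e : (Γ l).curve.left ≅ CohB1.ProjSpace 1 (IsLocalRing.ResidueField R),
        e.hom ≫ CohB1.ProjSpace.toSpec 1 (IsLocalRing.ResidueField R) = (Γ l).curve.hom) ∧
      (∃ x : X, Set.range ((Γ i).ι.base : (Γ i).curve.left → X) ∩ Set.range ((Γ j).ι.base : (Γ j).curve.left → X) = {x} ∧
        (Γ i).ι.ker ⊔ (Γ j).ι.ker =
          Scheme.IdealSheafData.vanishingIdeal ⟨closure {x}, isClosed_closure⟩ ∧
        Function.Surjective ((X.residue x).hom.comp (Models.stalkHom R (Over.mk p) x))) ∧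
      Models.curveGenus (FractionRing R) C f = 0 := by
  obtain ⟨hp, hint, hflat, hnoe, hdim, hreg⟩ := MdlSurf.setup hC hX hΓ
  haveI := hint; haveI := hflat; haveI := hnoe; haveI := hp
  haveI : IsProper p := hp
  have hK := fun l => ArSurfBase.isEffCartier_ker (Γ l) hdim hreg
  choose L hLinv hL using fun l => H23.PicInv.exists_inverse (SurfInt.isInvertible_idealMod (hK l))
  have hL' : ∀ l, ClSub.IsInverseOf (L l) (ClSub.idealMod (Γ l).ι.ker) := fun l =>
    ⟨SurfInt.tComm _ _ ≪≫ (hL l).some⟩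
  have hne : ArSurfBase.supp (Γ i) ≠ ArSurfBase.supp (Γ j) := fun e => hij (hΓ.1 e)
  let w : Fin n → ℤ := fun l => Models.wdeg R (Over.mk p) (Γ l)
  let m : Fin n → ℤ := fun l => Models.mult R (Over.mk p) (Γ l)
  let A : Fin n → Fin n → ℤ := fun a b => ArSurf.inter R (Over.mk p) (L b) (Γ a)
  obtain ⟨hi1, hii⟩ := (MdlSurf.isExcCurve_iff (Γ i) (hK i) (hL' i)).1 hi
  obtain ⟨hj1, hjj⟩ := (MdlSurf.isExcCurve_iff (Γ j) (hK j) (hL' j)).1 hj
  have hji : A j i = A i j := (MdlSurf.inter_symm' hC hX hΓ L hL' i j).symm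
  obtain ⟨hpos, hzero⟩ := ArSurfBase.inter_offDiag_nonneg hdim hreg hne (hL' j)
  have ha : 0 < A i j := lt_of_le_of_ne hpos fun e => hmeet (hzero.1 e.symm)
  have hwi : w i ≤ A i j := Int.le_of_dvd ha (MdlSurf.wdeg_dvd_inter (L j) i)
  have hwj : w j ≤ A i j := by
    have h := Int.le_of_dvd (hji.symm ▸ ha) (MdlSurf.wdeg_dvd_inter (L i) j)
    exact h.trans hji.le
  obtain ⟨hq, hq0⟩ := ArSurfBase.form_nonpos hdim hreg ![Γ i, Γ j] (by
      intro a b h
      fin_cases a <;> fin_cases b <;> first | rfl | exact absurd h hne | exact absurd h.symm hne)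
    ![L i, L j] (by intro a; fin_cases a; exacts [hL' i, hL' j]) ![1, 1]
  simp only [Fin.sum_univ_two, Matrix.cons_val_zero, Matrix.cons_val_one, one_mul, mul_one] at hq hq0
  change A i i + A i j + (A j i + A j j) ≤ 0 at hq
  have hii' : A i i = -w i := hii
  have hjj' : A j j = -w j := hjj
  have hwij : w i = A i j ∧ w j = A i j := by omega
  obtain ⟨-, hprop⟩ := hq0 (show A i i + A i j + (A j i + A j j) = 0 by omega)
  have hmij : m i = m j := by
    have h := hprop 0 1 hmeet
    simp only [Matrix.cons_val_zero, Matrix.cons_val_one, one_mul] at h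
    exact h.symm
  have hrow : ∀ a b, a ≠ b → (a = i ∧ b = j ∨ a = j ∧ b = i) → ∀ l, l ≠ a → l ≠ b →
      Disjoint (ArSurfBase.supp (Γ a)) (ArSurfBase.supp (Γ l)) := by
    intro a b hab hcase l hla hlb
    have hs := MdlSurf.row_sum hC hX hΓ L hL' a
    change ∑ x, m x * A a x = 0 at hs
    rw [← Finset.add_sum_erase _ _ (Finset.mem_univ a),
      ← Finset.add_sum_erase _ _ (Finset.mem_erase.2 ⟨hab.symm, Finset.mem_univ b⟩), ← add_assoc] at hs
    have h0 : m a * A a a + m b * A a b = 0 := by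
      rcases hcase with ⟨rfl, rfl⟩ | ⟨rfl, rfl⟩
      · rw [hii', hmij, hwij.1]; ring
      · rw [hjj', hji, hmij, hwij.2]; ring
    rw [h0, zero_add] at hs
    have hnn : ∀ x ∈ (Finset.univ.erase a).erase b, 0 ≤ m x * A a x := fun x hx => by
      obtain ⟨-, hx, -⟩ := Finset.mem_erase.1 hx |>.imp id Finset.mem_erase.1
      exact mul_nonneg (Int.natCast_nonneg _)
        (ArSurfBase.inter_offDiag_nonneg hdim hreg (fun e => hx (hΓ.1 e).symm) (hL' x)).1
    have hl := (Finset.sum_eq_zero_iff_of_nonneg hnn).1 hs l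
      (Finset.mem_erase.2 ⟨hlb, Finset.mem_erase.2 ⟨hla, Finset.mem_univ l⟩⟩)
    have hml : m l ≠ 0 := by
      show (Models.mult R (Over.mk p) (Γ l) : ℤ) ≠ 0
      exact_mod_cast (MdlSurf.mult_pos hC hX hΓ l).ne'
    exact (ArSurfBase.inter_offDiag_nonneg hdim hreg (fun e => hla (hΓ.1 e).symm) (hL' l)).2.1
      ((mul_eq_zero.1 hl).resolve_left hml)
  have hall : ∀ l, l = i ∨ l = j := MdlSurf.connected_induction hC hH0 hX hΓ (fun l => l = i ∨ l = j)
    (Or.inl rfl) fun a l ha' hal => by
      by_contra h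
      rw [not_or] at h
      rcases ha' with rfl | rfl
      · exact hal (hrow a j hij (Or.inl ⟨rfl, rfl⟩) l h.1 h.2)
      · exact hal (hrow a i hij.symm (Or.inr ⟨rfl, rfl⟩) l h.2 h.1)
  have huniv : (Finset.univ : Finset (Fin n)) = {i, j} := by
    ext l
    simp [hall l]
  have hgen := MdlSurf.genus_formula hC hH0 hX hΓ L hL'
  rw [huniv, Finset.sum_pair hij, hii, hjj, hi1, hj1] at hgen
  set g := Models.curveGenus (FractionRing R) C f with hgdef
  have hmi : (1 : ℤ) ≤ m i := by
    show (1 : ℤ) ≤ (Models.mult R (Over.mk p) (Γ i) : ℤ)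
    exact_mod_cast MdlSurf.mult_pos hC hX hΓ i
  have hwi1 : (1 : ℤ) ≤ w i := by
    show (1 : ℤ) ≤ (Models.wdeg R (Over.mk p) (Γ i) : ℤ)
    exact_mod_cast MdlSurf.wdeg_pos (p := p) (Γ := Γ) i
  have hgm : (g : ℤ) + m i * w i = 1 := by
    have e1 : (Models.mult R (Over.mk p) (Γ j) : ℤ) = Models.mult R (Over.mk p) (Γ i) := hmij.symm
    have e2 : (Models.wdeg R (Over.mk p) (Γ j) : ℤ) = Models.wdeg R (Over.mk p) (Γ i) :=
      hwij.2.trans hwij.1.symm
    rw [e1, e2] at hgen
    push_cast at hgen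
    simp only [m, w]
    linarith
  have hmw : (1 : ℤ) ≤ m i * w i := one_le_mul_of_one_le_of_one_le hmi hwi1
  have hg0 : g = 0 := by omega
  have hm1 : m i = 1 := by nlinarith
  have hw1 : w i = 1 := by nlinarith
  have hmult : ∀ l, Models.mult R (Over.mk p) (Γ l) = 1 := fun l => by
    rcases hall l with rfl | rfl
    · exact Nat.cast_eq_one.1 hm1
    · exact Nat.cast_eq_one.1 (hmij.symm.trans hm1)
  have hwl : ∀ l, Models.wdeg R (Over.mk p) (Γ l) = 1 ∧ Models.h1 R (Over.mk p) (Γ l) = 0 ∧ A l l = -1 := fun l => by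
    rcases hall l with rfl | rfl
    · exact ⟨Nat.cast_eq_one.1 hw1, hi1, by omega⟩
    · have : w l = 1 := by omega
      exact ⟨Nat.cast_eq_one.1 this, hj1, by omega⟩
  refine ⟨?_, hmult, fun l => ?_, ?_, hg0⟩
  · rw [← Fintype.card_fin n, ← Finset.card_univ, huniv, Finset.card_pair hij]
  · obtain ⟨hw, h1, hll⟩ := hwl l
    haveI := ArSurfBase.isProper_curve (Γ l)
    haveI := CurveCohLib.isNoetherian_of_proper (k := IsLocalRing.ResidueField R) (X := (Γ l).curve.left)
    haveI := CurveCohLib.finite_HH (k := IsLocalRing.ResidueField R)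
      (QCoh.isCoh_structureModule' (X := (Γ l).curve.left)) 1
    have hinv : PicF.IsInvertible ((Scheme.Modules.pullback (Γ l).ι).obj (ClSub.idealMod (Γ l).ι.ker)) :=
      PicClLib.isInvertible_pullback _ (SurfInt.isInvertible_idealMod (hK l))
    refine CurveEmbed.exists_iso_line (IsLocalRing.ResidueField R) (Γ l).dim_eq (Module.finrank_zero_iff.1 h1) hinv ?_
    rw [← ArSurfBase.curveDeg_eq_deg (Γ l).dim_eq.le (AmpleVan.isCoh_invertible hinv).1]
    have hneg := ArSurfBase.curveDeg_eq_neg_of_inverse (k := IsLocalRing.ResidueField R) (Γ l).dim_eq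
      (PicClLib.isInvertible_pullback (Γ l).ι (hLinv l)) hinv (ArSurfBase.isInverseOf_pullback (Γ l) (hL' l))
    change A l l = _ at hneg
    omega
  · exact MdlSurf.exists_point hdim hreg hne (hL' j) (hwij.1.symm.trans hw1)

end Groth.Agent.S3327
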