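import Groth.Statements.S3341
import Groth.Agent.MdlSurf.PicVert
-- import your own Groth.Agent.* helpers here

set_option autoImplicit false
universe u
open CategoryTheory CategoryTheory.Limits AlgebraicGeometry
open Models
open scoped Groth.Agent.H23.PicMul

namespace Groth.Agent.S3341

/-- In the following situation (R a discrete valuation ring, C a smooth proper curve over its fraction
field K with H^0(C, O_C) = K, X a regular proper model with generic-fibre inclusion g, Γ_1, …, Γ_n
the irreducible components of the closed fibre with multiplicities m_i) let d = gcd(m_1, …, m_n) and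
let h ≥ 1 be prime to d. If M is an invertible O_X-module with M^{⊗h} ≅ O_X whose pullback to C is
trivial, then M ≅ O_X: the map Pic(X)[h] → Pic(C)[h] is injective. -/
theorem result (R : Type u) [CommRing R] [IsDomain R] [IsDiscreteValuationRing R]
    (C X : Scheme.{u}) (f : C ⟶ Spec (CommRingCat.of (FractionRing R))) (p : X ⟶ Spec (CommRingCat.of R))
    (hC : Curve.IsSmoothProperCurve (FractionRing R) C f) (hH0 : IsIso f.appTop)
    (hX : Models.IsRegularProperModel R X p C f)
    {n : ℕ} (Γ : Fin n → ArSurf.VertComp R (Over.mk p)) (hΓ : Models.IsComponentList R (Over.mk p) Γ)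
    (g : C ⟶ X) (hg : IsPullback g f p (Spec.map (CommRingCat.ofHom (algebraMap R (FractionRing R))))) (h : ℕ) (hh : 0 < h) (hcop : Nat.Coprime h (Models.multGcd R (Over.mk p) Γ))
    (M : X.Modules) (hM : PicF.IsInvertible M)
    (htors : Nonempty (CohB1.tensorPow M h ≅ Coh.structureModule X))
    (htriv : Nonempty ((Scheme.Modules.pullback g).obj M ≅ Coh.structureModule C)) :
    Nonempty (M ≅ Coh.structureModule X) := by
  obtain ⟨L, hL⟩ := MdlSurf.exists_inverses hC hX hΓ
  obtain ⟨a, ha⟩ := MdlSurf.exists_cl_eq_vert hC hX hΓ hL hH0 hg hM htriv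
  refine H23.PicMul.cl_eq_iff.1 ?_
  rw [← H23.PicMul.one_def, ha, MdlSurf.cl_vert_eq_one_iff hC hX hΓ hL hH0]
  have h1 := H23.PicMul.cl_eq_iff.2 htors
  rw [H23.PicMul.cl_tensorPow, ← H23.PicMul.one_def, ha, ← MdlSurf.cl_vert_nsmul,
    MdlSurf.cl_vert_eq_one_iff hC hX hΓ hL hH0] at h1
  obtain ⟨c, hc⟩ := h1
  have hdvd : (h : ℤ) ∣ c * Models.multGcd R (Over.mk p) Γ :=
    MdlSurf.dvd_of_dvd_mul_div hC hX hΓ fun i => ⟨a i, by
      have h2 := hc i
      rw [MdlSurf.mult_eq_gcd_mul hC hX hΓ i, Nat.cast_mul, Pi.smul_apply, smul_eq_mul] at h2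
      linear_combination -h2⟩
  obtain ⟨e, he⟩ : (h : ℤ) ∣ c := (Int.isCoprime_iff_nat_coprime.2 (by simpa using hcop)).dvd_of_dvd_mul_right hdvd
  refine ⟨e, fun i => mul_left_cancel₀ (show (h : ℤ) ≠ 0 by exact_mod_cast hh.ne') ?_⟩
  have h2 := hc i
  rw [Pi.smul_apply, smul_eq_mul] at h2
  rw [h2, he, mul_assoc]

end Groth.Agent.S3341
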