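import Groth.Statements.S3342
import Groth.Agent.MdlSurf.PicVert
-- import your own Groth.Agent.* helpers here

set_option autoImplicit false
universe u
open CategoryTheory CategoryTheory.Limits AlgebraicGeometry
open Models
open scoped Groth.Agent.H23.PicMul

namespace Groth.Agent.S3342

/-- In the following situation (R a discrete valuation ring with residue field k, C a smooth proper
curve over its fraction field K with H^0(C, O_C) = K, X a regular proper model with generic-fibre
inclusion g, Γ_1, …, Γ_n the irreducible components of the closed fibre with multiplicities m_i, L_j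
⊗ I(Γ_j) ≅ O_X, a_ij = deg_k(L_j|Γ_i), w_i = dim_k H^0(Γ_i, O)) let d = gcd(m_i) and h ≥ 1 prime to
d. Let N be an invertible O_C-module with N^{⊗h} ≅ O_C which is the restriction of an invertible
O_X-module M whose degree vector (deg_k(M|Γ_i) / w_i)_i lies in the image of the matrix (a_ij / w_i)
(that is, the class of N maps to zero in the Picard group of the numerical type). Then N is the
restriction of an invertible O_X-module M' with M'^{⊗h} ≅ O_X. -/
theorem result (R : Type u) [CommRing R] [IsDomain R] [IsDiscreteValuationRing R]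
    (C X : Scheme.{u}) (f : C ⟶ Spec (CommRingCat.of (FractionRing R))) (p : X ⟶ Spec (CommRingCat.of R))
    (hC : Curve.IsSmoothProperCurve (FractionRing R) C f) (hH0 : IsIso f.appTop)
    (hX : Models.IsRegularProperModel R X p C f)
    {n : ℕ} (Γ : Fin n → ArSurf.VertComp R (Over.mk p)) (hΓ : Models.IsComponentList R (Over.mk p) Γ)
    (g : C ⟶ X) (hg : IsPullback g f p (Spec.map (CommRingCat.ofHom (algebraMap R (FractionRing R))))) (L : Fin n → X.Modules) (hL : ∀ i, ClSub.IsInverseOf (L i) (ClSub.idealMod (Γ i).ι.ker))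
    (h : ℕ) (hh : 0 < h) (hcop : Nat.Coprime h (Models.multGcd R (Over.mk p) Γ))
    (N : C.Modules) (hN : PicF.IsInvertible N) (hNt : Nonempty (CohB1.tensorPow N h ≅ Coh.structureModule C))
    (M : X.Modules) (hM : PicF.IsInvertible M) (hMN : Nonempty ((Scheme.Modules.pullback g).obj M ≅ N))
    (v : Fin n → ℤ)
    (hv : ∀ i, ArSurf.inter R (Over.mk p) M (Γ i) = ∑ j, ArSurf.inter R (Over.mk p) (L j) (Γ i) * v j) :
    ∃ M' : X.Modules, PicF.IsInvertible M' ∧ Nonempty (CohB1.tensorPow M' h ≅ Coh.structureModule X) ∧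
      Nonempty ((Scheme.Modules.pullback g).obj M' ≅ N) := by
  set d := Models.multGcd R (Over.mk p) Γ with hd
  let V := MdlSurf.vert hC hX hΓ hL (-v)
  have hV : PicF.IsInvertible V := MdlSurf.isInvertible_vert hC hX hΓ hL (-v)
  let M₁ := CohB1.tensorPow (CohB1.tensorMod M V) h
  have hM₁ : PicF.IsInvertible M₁ := H23.PicMul.isInvertible_tensorPow (H23.PicMul.isInvertible_tensor hM hV) h
  have hpull : PicF.pullCl g (PicF.cl (CohB1.tensorMod M V)) = PicF.cl N := by
    rw [H23.PicMul.cl_tensor, H23.PicMul.pullCl_mul,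
      show PicF.pullCl g (PicF.cl V) = 1 from MdlSurf.pullCl_vert hC hX hΓ hL hg (-v), mul_one]
    exact H23.PicMul.cl_eq_iff.2 hMN
  have hN1 : PicF.cl N ^ h = 1 := by
    rw [← H23.PicMul.cl_tensorPow, H23.PicMul.one_def]
    exact H23.PicMul.cl_eq_iff.2 hNt
  have htriv : Nonempty ((Scheme.Modules.pullback g).obj M₁ ≅ Coh.structureModule C) := by
    refine H23.PicMul.cl_eq_iff.1 ?_
    show PicF.pullCl g (PicF.cl M₁) = _
    rw [H23.PicMul.cl_tensorPow, H23.PicMul.pullCl_pow, hpull, hN1, H23.PicMul.one_def]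
  haveI : IsProper (Over.mk p).hom := hX.2.1
  have hdeg0 : ∀ i, ArSurf.inter R (Over.mk p) (CohB1.tensorMod M V) (Γ i) = 0 := fun i => by
    rw [ArSurfBase.inter_tensor (X := Over.mk p) (Γ i) hM hV, MdlSurf.inter_vert hC hX hΓ hL, hv i,
      ← Finset.sum_add_distrib]
    exact Finset.sum_eq_zero fun j _ => by simp only [Pi.neg_apply]; ring
  have hdeg : ∀ i, ArSurf.inter R (Over.mk p) M₁ (Γ i) = 0 := fun i => by
    show ArSurf.inter R (Over.mk p) (CohB1.tensorPow (CohB1.tensorMod M V) h) (Γ i) = 0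
    clear hM₁ htriv M₁
    induction h with
    | zero => exact ArSurfBase.inter_structureModule (X := Over.mk p) (Γ i)
    | succ k _ =>
      have hpow : ∀ m : ℕ, ArSurf.inter R (Over.mk p) (CohB1.tensorPow (CohB1.tensorMod M V) m) (Γ i) = 0 := fun m => by
        induction m with
        | zero => exact ArSurfBase.inter_structureModule (X := Over.mk p) (Γ i)
        | succ m ih =>
          show ArSurf.inter R (Over.mk p) (CohB1.tensorMod (CohB1.tensorPow (CohB1.tensorMod M V) m) (CohB1.tensorMod M V)) (Γ i) = 0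
          rw [ArSurfBase.inter_tensor (X := Over.mk p) (Γ i)
            (H23.PicMul.isInvertible_tensorPow (H23.PicMul.isInvertible_tensor hM hV) m)
            (H23.PicMul.isInvertible_tensor hM hV), ih, hdeg0 i, add_zero]
      exact hpow (k + 1)
  have hkill := MdlSurf.cl_pow_gcd_eq_one hC hX hΓ hL hH0 hg hM₁ htriv hdeg
  obtain ⟨z, hzd, hzh⟩ := Nat.chineseRemainder hcop.symm 0 1
  obtain ⟨y, hy⟩ := (Nat.modEq_zero_iff_dvd.1 hzd)
  refine ⟨CohB1.tensorPow (CohB1.tensorMod M V) z,
    H23.PicMul.isInvertible_tensorPow (H23.PicMul.isInvertible_tensor hM hV) z, H23.PicMul.cl_eq_iff.1 ?_,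
    H23.PicMul.cl_eq_iff.1 ?_⟩
  · rw [H23.PicMul.cl_tensorPow, H23.PicMul.cl_tensorPow, ← H23.PicMul.one_def, ← pow_mul,
      show z * h = h * d * y by rw [hy]; ring, pow_mul, pow_mul, ← H23.PicMul.cl_tensorPow]
    rw [hkill, one_pow]
  · show PicF.pullCl g (PicF.cl (CohB1.tensorPow (CohB1.tensorMod M V) z)) = _
    rw [H23.PicMul.cl_tensorPow, H23.PicMul.pullCl_pow, hpull, pow_eq_pow_mod z hN1,
      show z % h = 1 % h from hzh, ← pow_eq_pow_mod 1 hN1, pow_one]

end Groth.Agent.S3342
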