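import Groth.Statements.S3348
import Groth.Agent.MdlSurf.PicVert
-- import your own Groth.Agent.* helpers here

set_option autoImplicit false
universe u
open CategoryTheory CategoryTheory.Limits AlgebraicGeometry
open Models
open scoped Groth.Agent.H23.PicMul

namespace Groth.Agent.S3348

/-- In the following situation (R a discrete valuation ring with residue field k, C a smooth proper
curve over its fraction field K with H^0(C, O_C) = K, X a regular proper model with generic-fibre
inclusion g, Γ_1, …, Γ_n the irreducible components of the closed fibre, L_j ⊗ I(Γ_j) ≅ O_X, a_ij =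
deg_k(L_j|Γ_i), w_i = dim_k H^0(Γ_i, O)) let N be an invertible O_C-module and M an invertible
O_X-module restricting to N. Then the degree vector (deg_k(M|Γ_i))_i is of the form (Σ_j a_ij v_j)_i
for an integer vector v (the class (deg_k(M|Γ_i)/w_i)_i vanishes in the Picard group of the
numerical type, which does not depend on the choice of M) if and only if N is the restriction of an
invertible O_X-module M' with deg_k(M'|Γ_i) = 0 for all i. -/
theorem result (R : Type u) [CommRing R] [IsDomain R] [IsDiscreteValuationRing R]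
    (C X : Scheme.{u}) (f : C ⟶ Spec (CommRingCat.of (FractionRing R))) (p : X ⟶ Spec (CommRingCat.of R))
    (hC : Curve.IsSmoothProperCurve (FractionRing R) C f) (hH0 : IsIso f.appTop)
    (hX : Models.IsRegularProperModel R X p C f)
    {n : ℕ} (Γ : Fin n → ArSurf.VertComp R (Over.mk p)) (hΓ : Models.IsComponentList R (Over.mk p) Γ)
    (g : C ⟶ X) (hg : IsPullback g f p (Spec.map (CommRingCat.ofHom (algebraMap R (FractionRing R))))) (L : Fin n → X.Modules) (hL : ∀ i, ClSub.IsInverseOf (L i) (ClSub.idealMod (Γ i).ι.ker))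
    (N : C.Modules) (hN : PicF.IsInvertible N)
    (M : X.Modules) (hM : PicF.IsInvertible M) (hMN : Nonempty ((Scheme.Modules.pullback g).obj M ≅ N)) :
    (∃ v : Fin n → ℤ, ∀ i, ArSurf.inter R (Over.mk p) M (Γ i) = ∑ j, ArSurf.inter R (Over.mk p) (L j) (Γ i) * v j) ↔
      ∃ M' : X.Modules, PicF.IsInvertible M' ∧ Nonempty ((Scheme.Modules.pullback g).obj M' ≅ N) ∧
        ∀ i, ArSurf.inter R (Over.mk p) M' (Γ i) = 0 := by
  haveI : IsProper (Over.mk p).hom := hX.2.1
  constructor
  · rintro ⟨v, hv⟩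
    have hV := MdlSurf.isInvertible_vert hC hX hΓ hL (-v)
    refine ⟨CohB1.tensorMod M (MdlSurf.vert hC hX hΓ hL (-v)), H23.PicMul.isInvertible_tensor hM hV,
      H23.PicMul.cl_eq_iff.1 ?_, fun i => ?_⟩
    · show PicF.pullCl g (PicF.cl (CohB1.tensorMod M (MdlSurf.vert hC hX hΓ hL (-v)))) = _
      rw [H23.PicMul.cl_tensor, H23.PicMul.pullCl_mul, MdlSurf.pullCl_vert hC hX hΓ hL hg, mul_one]
      exact H23.PicMul.cl_eq_iff.2 hMN
    · rw [ArSurfBase.inter_tensor (X := Over.mk p) (Γ i) hM hV, MdlSurf.inter_vert hC hX hΓ hL, hv i,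
        ← Finset.sum_add_distrib]
      exact Finset.sum_eq_zero fun j _ => by simp only [Pi.neg_apply]; ring
  · rintro ⟨M', hM', hM'N, hdeg⟩
    obtain ⟨D, hD, ⟨eD⟩⟩ := H23.PicInv.exists_inverse hM'
    have hD1 : PicF.cl M' * PicF.cl D = 1 := by
      rw [← H23.PicMul.cl_tensor, H23.PicMul.one_def]
      exact H23.PicMul.cl_eq_iff.2 ⟨eD⟩
    have htriv : Nonempty ((Scheme.Modules.pullback g).obj (CohB1.tensorMod M D) ≅ Coh.structureModule C) := by
      refine H23.PicMul.cl_eq_iff.1 ?_
      show PicF.pullCl g (PicF.cl (CohB1.tensorMod M D)) = _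
      rw [H23.PicMul.cl_tensor, H23.PicMul.pullCl_mul,
        show PicF.pullCl g (PicF.cl M) = PicF.cl N from H23.PicMul.cl_eq_iff.2 hMN,
        ← show PicF.pullCl g (PicF.cl M') = PicF.cl N from H23.PicMul.cl_eq_iff.2 hM'N,
        ← H23.PicMul.pullCl_mul, hD1, H23.PicMul.pullCl_one, H23.PicMul.one_def]
    obtain ⟨a, ha⟩ := MdlSurf.exists_cl_eq_vert hC hX hΓ hL hH0 hg (H23.PicMul.isInvertible_tensor hM hD) htriv
    refine ⟨a, fun i => ?_⟩
    obtain ⟨e⟩ := H23.PicMul.cl_eq_iff.1 ha
    have h1 := ArSurfBase.inter_congr (X := Over.mk p) (Γ i) e (R := R)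
    have h2 := ArSurfBase.inter_eq_neg (X := Over.mk p) (Γ i) hD ⟨eD⟩
    rw [hdeg i] at h2
    rw [ArSurfBase.inter_tensor (X := Over.mk p) (Γ i) hM hD, MdlSurf.inter_vert hC hX hΓ hL,
      show ArSurf.inter R (Over.mk p) D (Γ i) = 0 by omega, add_zero] at h1
    rw [h1]
    exact Finset.sum_congr rfl fun j _ => mul_comm _ _

end Groth.Agent.S3348
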