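import Groth.Statements.S3354
import Groth.Agent.ParaF2.Formal
import Groth.Agent.ParaF2.GradedPrincipal
-- import your own Groth.Agent.* helpers here

set_option autoImplicit false
universe u
open CategoryTheory CategoryTheory.Limits AlgebraicGeometry
open ParaF

namespace Groth.Agent.S3354

/-- Let A be a Noetherian local ring which is a quotient of a regular local ring, t an A-regular element
of the maximal ideal such that A is complete for the t-adic topology, X the punctured spectrum of A
and Y = V(t) ∩ X (the punctured spectrum of B = A/tA, as the closed subscheme of X cut out by t).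
Assume (a) A_p has depth ≥ 2 for every prime p with dim A/p = 1 (the closed points of X) and (b) B
has depth ≥ 3. Then the map Pic(X) → Pic(Y) has trivial kernel: an invertible O_X-module whose
pull-back to Y is trivial is trivial. In particular, if B is parafactorial then A is parafactorial. -/
theorem result (R : Type u) [CommRing R] [IsRegularLocalRing R] (A : Type u) [CommRing A] [IsLocalRing A] [IsNoetherianRing A] (π : R →+* A) (hπ : Function.Surjective π) (t : A) (ht : t ∈ IsLocalRing.maximalIdeal A) (hreg : IsSMulRegular A t) [IsAdicComplete (Ideal.span {t}) A] (ha : ∀ p : PrimeSpectrum A, ringKrullDim (A ⧸ p.asIdeal) = 1 → (2 : ℕ∞) ≤ LocCoh.depth (Localization.AtPrime p.asIdeal) (Localization.AtPrime p.asIdeal)) [IsLocalRing (A ⧸ Ideal.span {t})] (hb : (3 : ℕ∞) ≤ LocCoh.depth (A ⧸ Ideal.span {t}) (A ⧸ Ideal.span {t})) : Formal2.PicPullbackInjective (((Spec.map (CommRingCat.ofHom (Ideal.Quotient.mk (Ideal.span {t})))).ker.comap (FEt.puncturedSpec A).ι)).subschemeι ∧ (ParaF.IsParafactorialLocalRing (A ⧸ Ideal.span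 {t}) → ParaF.IsParafactorialLocalRing A) := by
  let J := Ideal.span {t}
  have hJ : J ≠ ⊤ := Ideal.Quotient.nontrivial_iff.1 (inferInstance : Nontrivial (A ⧸ J))
  have hgr : ∀ n : ℕ, Module.Free (A ⧸ J) (Groth.Agent.ParaF2.Gr J n) := fun n =>
    Groth.Agent.ParaF2.free_gr_span_singleton t n (Or.inl fun c hc => by
      rw [Ideal.span_singleton_pow, Ideal.mem_span_singleton'] at hc
      obtain ⟨d, hd⟩ := hc
      refine Ideal.mem_span_singleton'.2 ⟨d, (hreg.pow n) ?_⟩
      show t ^ n * (d * t) = t ^ n * c
      rw [mul_comm (t ^ n) c, ← hd]; ring)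
  obtain ⟨g, hg⟩ := Groth.Agent.ParaF2.exists_puncturedMap (A := A) (J := J)
  have hA := Groth.Agent.ParaF2.three_le_depth_of_gr hJ hb hgr
  refine ⟨fun L hL htriv => ?_, fun hB => ?_⟩
  · refine Groth.Agent.ParaF2.triv_of_triv_quotient hJ hb hgr g
      (Coh.toGlobal (FEt.puncturedSpec (A ⧸ J)).ι)
      (Groth.Agent.ParaF2.bijective_toGlobal_punctured (A ⧸ J) (le_trans (by decide) hb))
      (fun c => (Groth.Agent.QCoh.toGlobal_comm (A := A) (B := A ⧸ J) (FEt.puncturedSpec A).ι
        (FEt.puncturedSpec (A ⧸ J)).ι g hg c).symm) hL ?_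
    obtain ⟨h, hh⟩ : ∃ h, h ≫ (((Spec.map (CommRingCat.ofHom (Ideal.Quotient.mk J))).ker.comap
        (FEt.puncturedSpec A).ι)).subschemeι = g :=
      ⟨CategoryTheory.Limits.pullback.lift g ((FEt.puncturedSpec (A ⧸ J)).ι ≫
          (Spec.map (CommRingCat.ofHom (Ideal.Quotient.mk J))).toImage)
        (by rw [Category.assoc, Scheme.Hom.toImage_imageι]; exact hg) ≫
        (Scheme.IdealSheafData.comapIso _ _).inv, by
        rw [Category.assoc, Scheme.IdealSheafData.comapIso_inv_subschemeι,
          CategoryTheory.Limits.pullback.lift_fst]⟩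
    refine (Groth.Agent.H23.TrivBasic.triv_congr hh).1 ?_
    have h2 := Groth.Agent.H23.TrivBasic.Triv.pullback h (show Groth.Agent.H23.TrivBasic.Triv _ from htriv)
    exact (Groth.Agent.H23.TrivBasic.triv_comp_iff h _).1 h2
  · rw [Groth.Agent.ParaFX.isParafactorialLocalRing_iff] at hB ⊢
    exact ⟨Groth.Agent.ParaFX.punctured_bijective A (le_trans (by decide) hA),
      Groth.Agent.ParaF2.picTrivial_of_quotient hJ hb hgr hB.2⟩

end Groth.Agent.S3354
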