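import Groth.Statements.S3413
import Groth.Agent.NGeomPts.Basic
import Groth.Agent.UnibEtale.Chart
import Groth.Agent.UnibEtale.Comp

set_option autoImplicit false
set_option linter.style.haveILetI false
set_option backward.isDefEq.respectTransparency false
set_option backward.isDefEq.respectTransparency.types false

open CategoryTheory CategoryTheory.Limits AlgebraicGeometry Topology Filter
universe u
open EGA43

namespace Groth.Agent.S3413

theorem exists_specializes_of_isOpenMap {T V : Type u} [TopologicalSpace T] [TopologicalSpace V] {p : T → V}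
    (hp : IsOpenMap p) (hfin : ∀ z, (p ⁻¹' {z}).Finite) {τ : T} {z : V} (h : z ⤳ p τ) :
    ∃ s, p s = z ∧ s ⤳ τ := by
  by_contra hc
  push Not at hc
  have h' : ∀ s ∈ p ⁻¹' {z}, ∃ U : Set T, IsOpen U ∧ τ ∈ U ∧ s ∉ U := fun s hs => by
    have := hc s hs
    rw [specializes_iff_forall_open] at this
    push Not at this
    exact this
  choose! U hU hτU hsU using h'
  let W : Set T := ⋂ s ∈ p ⁻¹' {z}, U s
  have hW : IsOpen W := (hfin z).isOpen_biInter hU
  have hτW : τ ∈ W := Set.mem_iInter₂.2 hτU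
  obtain ⟨s, hsW, hs⟩ := h.mem_open (hp W hW) ⟨τ, hτW, rfl⟩
  exact hsU s hs (Set.mem_iInter₂.1 hsW s hs)

theorem result {X Y : Scheme.{u}} [IsLocallyNoetherian Y]
    (hY : ∀ y : Y, CAlg2.IsGeomUnibranch (Y.presheaf.stalk y)) (f : X ⟶ Y)
    [IsSeparated f] [LocallyQuasiFinite f] [LocallyOfFiniteType f] [QuasiCompact f] [UniversallyOpen f]
    (hn : IsLocallyConstant (fun z : Y => MoreMor.nGeomConnComp f z)) :
    ∀ Z ∈ irreducibleComponents (X : Type u), ∀ Z' ∈ irreducibleComponents (X : Type u), Z ≠ Z' → Disjoint Z Z' := by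
  intro Z hZ Z' hZ' hne
  rw [Set.disjoint_left]
  intro x hxZ hxZ'
  have hu : ∀ x : X, EGA43.IsUnivOpenAt f x := fun x Y' g x' _ U hU =>
    (pullback.snd f g).isOpenMap.image_mem_nhds hU
  obtain ⟨T, V, k, π, h, v, ι, _, W, hc, he, hv, hι, -, -, hev⟩ :=
    Groth.Agent.NGeomPts.exists_pieces f (f x) (fun a _ => hu a)
  haveI : UniversallyOpen π := MorphismProperty.of_isPullback hc inferInstance
  haveI : LocallyQuasiFinite π := MorphismProperty.of_isPullback hc inferInstance
  haveI : QuasiCompact π := MorphismProperty.of_isPullback hc inferInstance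
  haveI : Etale k := MorphismProperty.of_isPullback hc.flip he
  haveI := Groth.Agent.UnibEtale.locallyQuasiFinite_of_formallyUnramified k
  have hev' : ∀ᶠ v' in 𝓝 v, (∀ t, π t = v' → ∃ i, t ∈ W i) ∧
      ∀ i, ∀ t ∈ W i, ∀ t' ∈ W i, π t = v' → π t' = v' → t' = t := by
    filter_upwards [hev, h.continuous.continuousAt.eventually ((hn.eventually_eq (h v)))] with v' h1 h2
    exact h1.2 (h2.trans ((congrArg (MoreMor.nGeomConnComp f) hv).trans hι))
  obtain ⟨N, hN, hNo, hvN⟩ := mem_nhds_iff.mp hev'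
  obtain ⟨t, rfl, htv⟩ : ∃ t, k t = x ∧ π t = v := by
    obtain ⟨z, hz1, hz2⟩ := Scheme.Pullback.exists_preimage_pullback x v hv.symm
    refine ⟨hc.isoPullback.inv z, ?_, ?_⟩
    · rw [← Scheme.Hom.comp_apply, hc.isoPullback_inv_fst, hz1]
    · rw [← Scheme.Hom.comp_apply, hc.isoPullback_inv_snd, hz2]
  subst htv
  obtain ⟨i, hi⟩ := (hN hvN).1 t rfl
  have key : ∀ Z ∈ irreducibleComponents (X : Type u), k t ∈ Z → ∃ τ : T, τ ⤳ t ∧
      closure {k τ} = Z ∧ closure {π τ} ∈ irreducibleComponents (V : Type u) := by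
    intro Z hZ hxZ
    have hg := hZ.1.isGenericPoint_genericPoint (isClosed_of_mem_irreducibleComponents _ hZ)
    obtain ⟨τ, hτt, hτ⟩ := Flat.generalizingMap k (hg.specializes hxZ)
    have hmax : ∀ a, a ⤳ hZ.1.genericPoint → a = hZ.1.genericPoint := fun a ha => by
      have h2 : Z ⊆ closure {a} := hg.def ▸ specializes_iff_closure_subset.1 ha
      have h3 : IsGenericPoint a Z := (hZ.2 isIrreducible_singleton.closure h2).antisymm h2
      exact h3.eq hg
    refine ⟨τ, hτt, by rw [hτ]; exact hg.def, ?_⟩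
    obtain ⟨C, hC, hCsub⟩ := exists_mem_irreducibleComponents_subset_of_isIrreducible (closure {π τ})
      isIrreducible_singleton.closure
    have hgC := hC.1.isGenericPoint_genericPoint (isClosed_of_mem_irreducibleComponents _ hC)
    have hsp : hC.1.genericPoint ⤳ π τ := hgC.specializes (hCsub (subset_closure rfl))
    obtain ⟨s, hs, hsτ⟩ := exists_specializes_of_isOpenMap π.isOpenMap
      (fun z => π.finite_preimage_singleton z) hsp
    have hks : k s = k τ := hτ.symm ▸ hmax (k s) (hτ ▸ hsτ.map k.continuous)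
    have hsτ' : s = τ := by
      have hd := k.isDiscrete_preimage_singleton (k τ)
      haveI : DiscreteTopology ↥(k ⁻¹' {k τ}) := hd.to_subtype
      have hs' : (⟨s, hks⟩ : ↥(k ⁻¹' {k τ})) ⤳ ⟨τ, rfl⟩ := (Topology.IsInducing.subtypeVal.specializes_iff).1 hsτ
      exact congrArg Subtype.val hs'.eq
    rw [← hsτ', hs, hgC.def]
    exact hC
  obtain ⟨τ, hτ, hτZ, hτC⟩ := key Z hZ hxZ
  obtain ⟨τ', hτ', hτZ', hτC'⟩ := key Z' hZ' hxZ'
  have hdom : (nilradical (V.presheaf.stalk (π t))).IsPrime := by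
    haveI : Etale ((⊤ : V.Opens).ι ≫ h) := inferInstance
    exact (Ideal.Quotient.isDomain_iff_prime _).1
      (Groth.Agent.UnibEtale.stalk_of_etale h (π t) ⊤ trivial (hY _)).1.1.1
  have heq : closure {π τ} = closure {π τ'} := Groth.Agent.H23.FinCondSch.unique_component hdom hτC hτC'
    (specializes_iff_mem_closure.1 (hτ.map π.continuous)) (specializes_iff_mem_closure.1 (hτ'.map π.continuous))
  have hπ : π τ = π τ' := ((isGenericPoint_closure (x := π τ)).eq (heq ▸ isGenericPoint_closure))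
  have hNτ : π τ ∈ N := (hτ.map π.continuous).mem_open hNo hvN
  have hττ : τ' = τ := (hN hNτ).2 i τ (hτ.mem_open (W i).2 hi) τ' (hτ'.mem_open (W i).2 hi) rfl hπ.symm
  exact hne (by rw [← hτZ, ← hτZ', hττ])

end Groth.Agent.S3413
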