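import Groth.Statements.S3434
import Groth.Agent.ProperNhd.PointMaps

set_option autoImplicit false
open CategoryTheory AlgebraicGeometry
universe u

set_option backward.isDefEq.respectTransparency false
set_option backward.isDefEq.respectTransparency.types false
set_option maxHeartbeats 1000000
open EGA43

namespace Groth.Agent.S3434

/-- Let Y be an integral locally Noetherian scheme, X an integral scheme, f : X ⟶ Y separated, dominant
and of finite type, and y a point of Y; write K for the function field of X (the local ring at its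
generic point ξ), into which O_{Y,y} maps through O_{Y,f ξ}. Then f is proper over some open
neighbourhood of y if and only if every discrete valuation ring of K which dominates (the image of)
O_{Y,y} dominates (the image of) O_{X,x} for some point x of X; such an x lies over y. -/
theorem result {X Y : Scheme.{u}} [IsIntegral X] [IsIntegral Y] [IsLocallyNoetherian Y]
    (f : X ⟶ Y) [IsSeparated f] [IsDominant f] [LocallyOfFiniteType f] [QuasiCompact f] (y : Y)
    (hξ : f.base (genericPoint X) ⤳ y) :
    (∃ U : Y.Opens, y ∈ U ∧ IsProper (f ∣_ U)) ↔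
      ∀ A : ValuationSubring X.functionField, IsDiscreteValuationRing A →
        (∀ r : Y.presheaf.stalk y, A.valuation ((Y.presheaf.stalkSpecializes hξ ≫ f.stalkMap (genericPoint X)) r) ≤ 1) →
        (∀ r ∈ IsLocalRing.maximalIdeal (Y.presheaf.stalk y),
            A.valuation ((Y.presheaf.stalkSpecializes hξ ≫ f.stalkMap (genericPoint X)) r) < 1) →
        ∃ x : X, f.base x = y ∧
          (∀ r : X.presheaf.stalk x, A.valuation (X.presheaf.stalkSpecializes (genericPoint_specializes x) r) ≤ 1) ∧
          (∀ r ∈ IsLocalRing.maximalIdeal (X.presheaf.stalk x),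
            A.valuation (X.presheaf.stalkSpecializes (genericPoint_specializes x) r) < 1) := by
  let ξ := genericPoint X
  let θ : Y.presheaf.stalk y ⟶ X.functionField := Y.presheaf.stalkSpecializes hξ ≫ f.stalkMap ξ
  constructor
  · rintro ⟨U, hyU, hU⟩ V hV hle hlt
    let ψ : Y.presheaf.stalk y ⟶ CommRingCat.of V :=
      CommRingCat.ofHom (θ.hom.codRestrict V.toSubring fun r => (V.valuation_le_one_iff _).1 (hle r))
    have hψ : IsLocalHom ψ.hom := by
      refine ⟨fun a ha => ?_⟩
      by_contra hn
      have h1 : (ψ.hom a) ∈ IsLocalRing.maximalIdeal V :=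
        (V.valuation_lt_one_iff _).2 (hlt a ((IsLocalRing.mem_maximalIdeal a).2 hn))
      exact ((IsLocalRing.mem_maximalIdeal _).1 h1) ha
    let g : Spec (CommRingCat.of V) ⟶ Y := Spec.map ψ ≫ Y.fromSpecStalk y
    let ι : CommRingCat.of V ⟶ X.functionField := CommRingCat.ofHom V.subtype
    let x : Spec X.functionField ⟶ X := X.fromSpecStalk ξ
    have hgy : g (IsLocalRing.closedPoint V) = y := ProperNhd.specMap_fromSpecStalk_closedPoint ψ
    have hxg : x ≫ f = Spec.map ι ≫ g := by
      rw [← Category.assoc, ← Spec.map_comp, show ψ ≫ ι = θ from rfl, Spec.map_comp, Category.assoc,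
        Scheme.SpecMap_stalkSpecializes_fromSpecStalk]
      exact (Scheme.SpecMap_stalkMap_fromSpecStalk f).symm
    have hgU : Set.range g ⊆ Set.range U.ι := by
      rintro _ ⟨t, rfl⟩
      rw [Scheme.Opens.range_ι]
      exact ((IsLocalRing.specializes_closedPoint t).map g.continuous).mem_open U.2 (by rw [hgy]; exact hyU)
    let g' := IsOpenImmersion.lift U.ι g hgU
    let x' := (isPullback_morphismRestrict f U).lift (Spec.map ι ≫ g') x
      (by rw [Category.assoc, IsOpenImmersion.lift_fac, hxg])
    have hE : ValuativeCriterion.Existence (f ∣_ U) :=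
      (UniversallyClosed.eq_valuativeCriterion.le _ _ (f ∣_ U) inferInstance).1
    obtain ⟨ls⟩ := (hE
      { R := V
        K := X.functionField
        i₁ := x'
        i₂ := g'
        commSq := ⟨IsPullback.lift_fst _ _ _ _⟩ }).exists_lift
    let l : Spec (CommRingCat.of V) ⟶ f ⁻¹ᵁ U := ls.l
    have hl1 : Spec.map ι ≫ l = x' := ls.fac_left
    have hl2 : l ≫ (f ∣_ U) = g' := ls.fac_right
    let l0 := l ≫ (f ⁻¹ᵁ U).ι
    have hl0 : l0 ≫ f = g :=
      calc l0 ≫ f = l ≫ (f ∣_ U) ≫ U.ι := by rw [Category.assoc, morphismRestrict_ι]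
        _ = g := by rw [reassoc_of% hl2]; exact IsOpenImmersion.lift_fac _ _ _
    have hl0x : Spec.map ι ≫ l0 = x :=
      calc Spec.map ι ≫ l0 = x' ≫ (f ⁻¹ᵁ U).ι := by rw [← hl1, Category.assoc]
        _ = x := IsPullback.lift_snd _ _ _ _
    let x₀ := l0 (IsLocalRing.closedPoint V)
    have hkey : Scheme.stalkClosedPointTo l0 ≫ ι = X.presheaf.stalkSpecializes (genericPoint_specializes x₀) := by
      apply Spec.map_injective
      rw [← cancel_mono (X.fromSpecStalk x₀), Spec.map_comp, Category.assoc,
        Scheme.Spec_stalkClosedPointTo_fromSpecStalk, Scheme.SpecMap_stalkSpecializes_fromSpecStalk, hl0x]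
    refine ⟨x₀, ?_, fun r => ?_, fun r hr => ?_⟩
    · rw [← Scheme.Hom.comp_apply, hl0, hgy]
    · rw [V.valuation_le_one_iff, ← hkey]
      exact (Scheme.stalkClosedPointTo l0 r).2
    · rw [← hkey]
      refine (V.valuation_lt_one_iff _).1 ((IsLocalRing.mem_maximalIdeal _).2 fun hu => ?_)
      exact (IsLocalRing.mem_maximalIdeal _).1 hr
        (IsUnit.of_map (Scheme.stalkClosedPointTo l0).hom r hu)
  · intro H
    refine ProperNhd.exists_isProper_nhd f y fun A _ _ _ x g hg hx hmax hsurj => ?_
    let c : Spec (CommRingCat.of (FractionRing A)) := IsLocalRing.closedPoint (FractionRing A)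
    have hxc : ξ = x c := (ProperNhd.maximal_of_isDominant_generic hmax).symm
    let e : X.functionField ⟶ CommRingCat.of (FractionRing A) :=
      X.presheaf.stalkSpecializes (specializes_of_eq hxc.symm) ≫ Scheme.stalkClosedPointTo x
    have he : Spec.map e ≫ X.fromSpecStalk ξ = x := by
      rw [Spec.map_comp, Category.assoc, Scheme.SpecMap_stalkSpecializes_fromSpecStalk]
      exact Scheme.Spec_stalkClosedPointTo_fromSpecStalk x
    have hinj : Function.Injective e.hom := e.hom.injective
    have hes : Function.Surjective e.hom := by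
      have h1 : IsIso (X.presheaf.stalkSpecializes (specializes_of_eq hxc.symm)) :=
        ⟨X.presheaf.stalkSpecializes (specializes_of_eq hxc),
          by rw [TopCat.Presheaf.stalkSpecializes_comp, TopCat.Presheaf.stalkSpecializes_refl],
          by rw [TopCat.Presheaf.stalkSpecializes_comp, TopCat.Presheaf.stalkSpecializes_refl]⟩
      have h2 : Function.Surjective (Scheme.stalkClosedPointTo x) := by
        rw [Scheme.stalkClosedPointTo]
        simpa using (ConcreteCategory.bijective_of_isIso
          (stalkClosedPointIso (CommRingCat.of (FractionRing A))).hom).2.comp hsurj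
      exact h2.comp (ConcreteCategory.bijective_of_isIso _).2
    let V : ValuationSubring X.functionField := (ProperNhd.rangeValuationSubring A).comap e.hom
    let α : A →+* V :=
      ((RingEquiv.ofBijective e.hom ⟨hinj, hes⟩).symm.toRingHom.comp (algebraMap A (FractionRing A))).codRestrict
        V.toSubring fun a => by
          show e.hom _ ∈ (algebraMap A (FractionRing A)).range
          exact ⟨a, ((RingEquiv.ofBijective e.hom ⟨hinj, hes⟩).apply_symm_apply _).symm⟩
    have hα : ∀ a : A, e.hom (α a : X.functionField) = algebraMap A (FractionRing A) a :=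
      fun a => (RingEquiv.ofBijective e.hom ⟨hinj, hes⟩).apply_symm_apply _
    have hαb : Function.Bijective α := by
      refine ⟨fun a b hab => IsFractionRing.injective A (FractionRing A) (by rw [← hα, ← hα, hab]), fun v => ?_⟩
      obtain ⟨a, ha⟩ := (show e.hom v.1 ∈ (algebraMap A (FractionRing A)).range from v.2)
      exact ⟨a, Subtype.ext (hinj ((hα a).trans ha))⟩
    let αe := RingEquiv.ofBijective α hαb
    have hV : IsDiscreteValuationRing V := IsDiscreteValuationRing.RingEquivClass.isDiscreteValuationRing αe
    obtain ⟨φ, hφl, hφ⟩ := ProperNhd.exists_localHom g hg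
    have h3 : Spec.map θ ≫ Y.fromSpecStalk y = X.fromSpecStalk ξ ≫ f := by
      rw [Spec.map_comp, Category.assoc, Scheme.SpecMap_stalkSpecializes_fromSpecStalk,
        Scheme.SpecMap_stalkMap_fromSpecStalk]
    have hθ : θ ≫ e = φ ≫ CommRingCat.ofHom (algebraMap A (FractionRing A)) := by
      apply Spec.map_injective
      rw [← cancel_mono (Y.fromSpecStalk y), Spec.map_comp θ e, Spec.map_comp φ, Category.assoc, Category.assoc, h3, hφ,
        reassoc_of% he]
      exact hx
    have hθV : ∀ r, θ r = (α (φ r) : X.functionField) := fun r => by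
      refine hinj ?_
      rw [hα]
      exact ConcreteCategory.congr_hom hθ r
    obtain ⟨x₀, hfx₀, hle, hlt⟩ := H V hV
      (fun r => by
        rw [V.valuation_le_one_iff]
        exact (hθV r).symm ▸ (α (φ r)).2)
      (fun r hr => by
        show V.valuation (θ r) < 1
        rw [hθV]
        refine (V.valuation_lt_one_iff _).1 ((IsLocalRing.mem_maximalIdeal _).2 fun hu => ?_)
        exact (IsLocalRing.mem_maximalIdeal _).1 hr (IsUnit.of_map φ.hom r (IsUnit.of_map αe _ hu)))
    let ω : X.presheaf.stalk x₀ ⟶ CommRingCat.of A := CommRingCat.ofHom (αe.symm.toRingHom.comp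
      ((X.presheaf.stalkSpecializes (genericPoint_specializes x₀)).hom.codRestrict V.toSubring
        fun r => (V.valuation_le_one_iff _).1 (hle r)))
    have hω : ω ≫ CommRingCat.ofHom (algebraMap A (FractionRing A)) =
        X.presheaf.stalkSpecializes (genericPoint_specializes x₀) ≫ e := by
      refine CommRingCat.hom_ext (RingHom.ext fun r => ?_)
      show algebraMap A (FractionRing A) (αe.symm _) = e.hom _
      exact (hα _).symm.trans (congrArg e.hom (congrArg Subtype.val (αe.apply_symm_apply _)))
    have hωl : IsLocalHom ω.hom := ⟨fun r hr => by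
      by_contra hn
      have h1 : V.valuation (X.presheaf.stalkSpecializes (genericPoint_specializes x₀) r) < 1 :=
        hlt r ((IsLocalRing.mem_maximalIdeal r).2 hn)
      exact (IsLocalRing.mem_maximalIdeal _).1 ((V.valuation_lt_one_iff
        ⟨_, (V.valuation_le_one_iff _).1 (hle r)⟩).2 h1) (IsUnit.of_map αe.symm _ hr)⟩
    let l := Spec.map ω ≫ X.fromSpecStalk x₀
    have hlx : ProperNhd.genMap A ≫ l = x := by
      rw [← Category.assoc, ← Spec.map_comp, hω, Spec.map_comp, Category.assoc,
        Scheme.SpecMap_stalkSpecializes_fromSpecStalk]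
      exact he
    refine ⟨l, ?_, hlx⟩
    have hly : (l ≫ f) (IsLocalRing.closedPoint A) = y := by
      rw [Scheme.Hom.comp_apply, ProperNhd.specMap_fromSpecStalk_closedPoint, hfx₀]
    obtain ⟨φ', hφ'l, hφ'⟩ := ProperNhd.exists_localHom (l ≫ f) hly
    rw [← hφ', ← hφ]
    congr 2
    refine CommRingCat.hom_ext (RingHom.ext fun r => IsFractionRing.injective A (FractionRing A) ?_)
    suffices hh : φ' ≫ CommRingCat.ofHom (algebraMap A (FractionRing A)) =
        φ ≫ CommRingCat.ofHom (algebraMap A (FractionRing A)) from ConcreteCategory.congr_hom hh r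
    apply Spec.map_injective
    rw [← cancel_mono (Y.fromSpecStalk y), Spec.map_comp, Spec.map_comp, Category.assoc, Category.assoc, hφ', hφ,
      reassoc_of% hlx]
    exact hx

end Groth.Agent.S3434
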