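import Groth.Statements.S3460


set_option autoImplicit false
open CategoryTheory AlgebraicGeometry
universe u
open EGA43

namespace Groth.Agent.S3460

/-- Let Y be locally Noetherian and f : X ⟶ Y of finite type. Then there exist a scheme Z, a proper
morphism g : X ⟶ Z and an immersion h : Z ⟶ Y with f = g ≫ h if and only if f is proper at every
point of f(X), i.e. every point of f(X) has an open neighbourhood U in Y over which the restriction
of f is proper. -/
theorem result {X Y : Scheme.{u}} [IsLocallyNoetherian Y]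
    (f : X ⟶ Y) [LocallyOfFiniteType f] [QuasiCompact f] :
    (∃ (Z : Scheme.{u}) (g : X ⟶ Z) (h : Z ⟶ Y), IsProper g ∧ IsImmersion h ∧ g ≫ h = f) ↔
      ∀ x : X, ∃ U : Y.Opens, f.base x ∈ U ∧ IsProper (f ∣_ U) := by
  constructor
  · rintro ⟨Z, g, h, hg, hh, rfl⟩ x
    refine ⟨h.coborderRange, subset_coborder ⟨g.base x, rfl⟩, ?_⟩
    have e : g ≫ h = (g ≫ h.liftCoborder) ≫ h.coborderRange.ι := by
      rw [Category.assoc, Scheme.Hom.liftCoborder_ι]
    rw [e]
    have sq : IsPullback ((g ≫ h.liftCoborder)) (𝟙 X) h.coborderRange.ι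
        ((g ≫ h.liftCoborder) ≫ h.coborderRange.ι) :=
      IsPullback.of_vert_isIso_mono ⟨by simp⟩
    have hp : IsProper (g ≫ h.liftCoborder) := inferInstance
    have hiso := (isPullback_morphismRestrict ((g ≫ h.liftCoborder) ≫ h.coborderRange.ι) h.coborderRange)
    refine (MorphismProperty.arrow_mk_iso_iff @IsProper ?_).1 hp
    exact Arrow.isoMk (sq.flip.isoIsPullback _ _ hiso.flip) (Iso.refl _)
      (by rw [Iso.refl_hom]; simp only [Arrow.mk_hom, Category.comp_id]; exact IsPullback.isoIsPullback_hom_snd _ _ _ _)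
  · intro hx
    choose U hfx hU using hx
    let W : Y.Opens := ⨆ x, U x
    have hW : IsProper (f ∣_ W) := by
      refine IsZariskiLocalAtTarget.of_iSup_eq_top (P := @IsProper) (fun x : X => W.ι ⁻¹ᵁ U x) ?_ fun x => ?_
      · rw [← Scheme.Hom.preimage_iSup, Scheme.Opens.ι_preimage_self]
      · refine (MorphismProperty.arrow_mk_iso_iff @IsProper ?_).2 (hU x)
        refine morphismRestrictRestrict f W (W.ι ⁻¹ᵁ U x) ≪≫ morphismRestrictEq f ?_
        rw [Scheme.Hom.image_preimage_eq_opensRange_inf, Scheme.Opens.opensRange_ι]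
        exact inf_eq_right.2 (le_iSup U x)
    have htop : f ⁻¹ᵁ W = ⊤ := top_unique fun x _ => TopologicalSpace.Opens.mem_iSup.2 ⟨x, hfx x⟩
    refine ⟨W, (X.topIso.inv ≫ X.homOfLE htop.ge) ≫ f ∣_ W, W.ι, ?_, inferInstance, ?_⟩
    · have : IsIso (X.homOfLE htop.ge) := by
        rw [← X.isoOfEq_hom htop.symm]; infer_instance
      infer_instance
    · rw [Category.assoc, Category.assoc, morphismRestrict_ι, Scheme.homOfLE_ι_assoc, Scheme.toIso_inv_ι_assoc]

end Groth.Agent.S3460
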