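import Groth.Statements.S3484
import Groth.Agent.Cd58.Main

set_option autoImplicit false
universe u
open CategoryTheory CategoryTheory.Limits AlgebraicGeometry Opposite
open EtCd

namespace Groth.Agent.S3484

/-- Let R be a henselian discrete valuation ring with fraction field K and residue field k, and ℓ a
prime. Assume either (i) ℓ is nonzero in k, or (ii) ℓ is nonzero in K, k is perfect and cd_ℓ(k) is
finite. Then cd_ℓ(K) = cd_ℓ(k) + 1: for every d, cd_ℓ(k) ≤ d if and only if cd_ℓ(K) ≤ d + 1, and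
cd_ℓ(K) is not ≤ 0 (cd_ℓ meaning vanishing of etale cohomology of ℓ-primary torsion sheaves above
the given degree). -/
theorem result (R K : Type u) [CommRing R] [IsDomain R] [IsDiscreteValuationRing R]
    [HenselianLocalRing R] [Field K] [Algebra R K] [IsFractionRing R K] (ℓ : ℕ) (hℓ : ℓ.Prime)
    (h : (ℓ : IsLocalRing.ResidueField R) ≠ 0 ∨
      ((ℓ : K) ≠ 0 ∧ PerfectField (IsLocalRing.ResidueField R) ∧
        ∃ d : ℕ, Dix.CohDimLEAt (Spec (CommRingCat.of (IsLocalRing.ResidueField R))) ℓ d)) :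
    (∀ d : ℕ, Dix.CohDimLEAt (Spec (CommRingCat.of (IsLocalRing.ResidueField R))) ℓ d ↔
        Dix.CohDimLEAt (Spec (CommRingCat.of K)) ℓ (d + 1)) ∧
      ¬ Dix.CohDimLEAt (Spec (CommRingCat.of K)) ℓ 0 := by
  haveI : Fact ℓ.Prime := ⟨hℓ⟩
  have hℓK : (ℓ : K) ≠ 0 := by
    rcases h with h | ⟨h, -, -⟩
    · intro h0
      exact h (by
        have h1 : (ℓ : R) = 0 := IsFractionRing.injective R K (by rw [map_natCast, h0, map_zero])
        rw [← map_natCast (IsLocalRing.residue R), h1, map_zero])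
    · exact h
  refine ⟨fun d => ⟨fun hd => Groth.Agent.Cd58.cohDimLEAt_succ R K ℓ hℓK (h.imp_right fun h => h.2.1) d hd,
    fun hd => Groth.Agent.Cd58.cohDimLEAt_residue R K ℓ hℓK d hd⟩, ?_⟩
  exact Groth.Agent.Cd58.not_cohDimLEAt_zero K R ℓ hℓK

end Groth.Agent.S3484
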