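import Groth.Statements.S3488
import Groth.Agent.Cd58.Points

set_option autoImplicit false
universe u
open CategoryTheory CategoryTheory.Limits AlgebraicGeometry Opposite
open EtCd

namespace Groth.Agent.S3488

/-- Let X be a Noetherian scheme and ℓ a prime invertible on X. Then cd_ℓ(R(X)) ≥ dim X, where R(X) is
the ring of rational functions (the product of the local rings at the maximal points): if for some d
the cohomology of ℓ-primary torsion sheaves on Spec κ(x) vanishes above degree d for every maximal
point x of X (generic point of an irreducible component), then dim X ≤ d. -/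
theorem result (X : Scheme.{u}) [IsNoetherian X] (ℓ : ℕ) (hℓ : ℓ.Prime)
    (hℓX : Dix.InvertibleOn X ℓ) (d : ℕ)
    (hd : ∀ x : X, closure {x} ∈ irreducibleComponents (X : Type u) →
      Dix.CohDimLEAt (Spec (X.residueField x)) ℓ d) :
    topologicalKrullDim X ≤ d := by
  haveI : Fact ℓ.Prime := ⟨hℓ⟩
  rw [topologicalKrullDim, Order.krullDim_eq_of_orderIso (irreducibleSetEquivPoints (α := X)),
    Order.krullDim_eq_iSup_coheight]
  refine iSup_le fun y => ?_
  rw [← ringKrullDim_stalk_eq_coheight]
  have hℓy : IsUnit (ℓ : X.presheaf.stalk y) := by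
    rw [← IsLocalRing.notMem_maximalIdeal]
    intro h
    refine hℓX y ?_
    rw [← map_natCast (X.residue y).hom]
    exact (IsLocalRing.residue_eq_zero_iff _).2 h
  refine Groth.Agent.Cd58.ringKrullDim_le_of_cd _ ℓ hℓy d fun P _ hP => ?_
  obtain ⟨x, hxy, hx, hker⟩ := Groth.Agent.Cd58.exists_point_ker y ⟨P, inferInstance⟩
  have hmax := Groth.Agent.Cd58.closure_mem_irreducibleComponents y ⟨P, inferInstance⟩ hP
  rw [hx] at hmax
  obtain ⟨alg, hfrac⟩ := Groth.Agent.Cd58.exists_isFractionRing hxy
  obtain rfl : RingHom.ker (Cyc.specMap y x hxy) = P := hker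
  exact ⟨X.residueField x, inferInstance, alg, hfrac, hd x hmax⟩

end Groth.Agent.S3488
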