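import Groth.Statements.S3489
import Groth.Agent.Cd58.Points

set_option autoImplicit false
universe u
open CategoryTheory CategoryTheory.Limits AlgebraicGeometry Opposite
open EtCd

namespace Groth.Agent.S3489

/-- Let X be a scheme of finite type over a field k, ℓ a prime nonzero in k, x a point of X and A a
strict henselization of the local ring of X at x. Then cd_ℓ(R(A)) = dim A, where R(A) is the product
of the local rings of A at its minimal primes: for every d, the cohomology of ℓ-primary torsion
sheaves on Spec Frac(A/P) vanishes above degree d for all minimal primes P of A if and only if dim A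
≤ d. -/
theorem result (k : Type u) [Field k] (X : Scheme.{u})
    (f : X ⟶ Spec (CommRingCat.of k)) [LocallyOfFiniteType f] [QuasiCompact f] (ℓ : ℕ) (hℓ : ℓ.Prime) (hℓk : (ℓ : k) ≠ 0)
    (x : X) (R : Type u) [CommRing R] [IsLocalRing R] [Algebra (X.presheaf.stalk x) R]
      [IsLocalHom (algebraMap (X.presheaf.stalk x) R)] [Hensel.IsStrictHenselization (X.presheaf.stalk x) R] (d : ℕ) :
    (∀ P ∈ minimalPrimes R, Dix.CohDimLEAt (Spec (CommRingCat.of (FractionRing (R ⧸ P)))) ℓ d) ↔
      ringKrullDim R ≤ d := by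
  haveI : Fact ℓ.Prime := ⟨hℓ⟩
  haveI := LocallyOfFiniteType.isLocallyNoetherian f
  let A := X.presheaf.stalk x
  have hlike := Groth.Agent.Hensel.isHenzLike_of_isStrictHenselization A R
  haveI : IsNoetherianRing R := hlike.isNoetherianRing_iff.mp inferInstance
  constructor
  · intro h
    have hℓR : IsUnit (ℓ : R) := by
      have hA : IsUnit (ℓ : A) := by
        have := (IsUnit.mk0 (ℓ : k) hℓk).map
          ((X.presheaf.germ ⊤ x trivial).hom.comp (VarDim.baseMap f))
        rwa [map_natCast] at this
      have := hA.map (algebraMap A R)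
      rwa [map_natCast] at this
    exact Groth.Agent.Cd58.ringKrullDim_le_of_cd R ℓ hℓR d fun P _ hP =>
      ⟨FractionRing (R ⧸ P), inferInstance, inferInstance, inferInstance, h P hP⟩
  · intro hd P hP
    haveI : P.IsPrime := hP.1.1
    haveI := hlike.faithfullyFlat
    obtain ⟨y, hyx, -, hker⟩ := Groth.Agent.Cd58.exists_point_ker x ⟨P.comap (algebraMap A R), inferInstance⟩
    let p : Ideal A := RingHom.ker (Cyc.specMap x y hyx)
    have hpP : p.map (algebraMap A R) ≤ P := Ideal.map_le_iff_le_comap.2 hker.le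
    have hP' : P ∈ (p.map (algebraMap A R)).minimalPrimes :=
      ⟨⟨inferInstance, hpP⟩, fun Q hQ hQP => hP.2 ⟨hQ.1, bot_le⟩ hQP⟩
    have hle : ringKrullDim (R ⧸ p.map (algebraMap A R)) ≤ d :=
      (ringKrullDim_quotient_le _).trans hd
    haveI : Nontrivial (R ⧸ p.map (algebraMap A R)) := Ideal.Quotient.nontrivial_iff.2
      (ne_top_of_le_ne_top Ideal.IsPrime.ne_top' hpP)
    obtain ⟨e, he, hed⟩ : ∃ e : ℕ, ringKrullDim (R ⧸ p.map (algebraMap A R)) = e ∧ e ≤ d := by
      have h0 := ringKrullDim_nonneg_of_nontrivial (R := R ⧸ p.map (algebraMap A R))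
      obtain ⟨E, hE⟩ := (WithBot.ne_bot_iff_exists (x := ringKrullDim (R ⧸ p.map (algebraMap A R)))).1
        (fun hb => by rw [hb] at h0; exact absurd h0 (by simp))
      rw [← hE] at hle
      have hle' : E ≤ (d : ℕ∞) := by exact_mod_cast hle
      obtain ⟨e, rfl⟩ := ENat.ne_top_iff_exists.1 (ne_top_of_le_ne_top (ENat.coe_ne_top d) hle')
      exact ⟨e, hE.symm, by exact_mod_cast hle'⟩
    intro F hF q hq
    exact Groth.Agent.CdField.cohDimLEAt_strictLocal k f ℓ hyx R P hP' e he F hF q (by omega)

end Groth.Agent.S3489
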