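import Groth.Statements.S3490
import Groth.Agent.Cd58.FiniteTypeDvr

set_option autoImplicit false
universe u
open CategoryTheory CategoryTheory.Limits AlgebraicGeometry Opposite
open EtCd

namespace Groth.Agent.S3490

/-- Case of a discrete valuation ring as base: let V be a discrete valuation ring, X a scheme of finite
type over Spec V, ℓ a prime invertible in V, x a point of X and A a strict henselization of the
local ring of X at x. Then cd_ℓ(R(A)) = dim A in the sense of the field case: for every d, the
cohomology of ℓ-primary torsion sheaves on Spec Frac(A/P) vanishes above degree d for all minimal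
primes P of A if and only if dim A ≤ d. -/
theorem result (V : Type u) [CommRing V] [IsDomain V] [IsDiscreteValuationRing V]
    (X : Scheme.{u}) (f : X ⟶ Spec (CommRingCat.of V)) [LocallyOfFiniteType f] [QuasiCompact f]
    (ℓ : ℕ) (hℓ : ℓ.Prime) (hℓV : IsUnit (ℓ : V))
    (x : X) (R : Type u) [CommRing R] [IsLocalRing R] [Algebra (X.presheaf.stalk x) R]
      [IsLocalHom (algebraMap (X.presheaf.stalk x) R)] [Hensel.IsStrictHenselization (X.presheaf.stalk x) R] (d : ℕ) :
    (∀ P ∈ minimalPrimes R, Dix.CohDimLEAt (Spec (CommRingCat.of (FractionRing (R ⧸ P)))) ℓ d) ↔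
      ringKrullDim R ≤ d := by
  haveI : Fact ℓ.Prime := ⟨hℓ⟩
  haveI := LocallyOfFiniteType.isLocallyNoetherian f
  let A := X.presheaf.stalk x
  have hlike := Groth.Agent.Hensel.isHenzLike_of_isStrictHenselization A R
  haveI : IsNoetherianRing R := hlike.isNoetherianRing_iff.mp inferInstance
  constructor
  · intro h
    have hℓR : IsUnit (ℓ : R) := by
      have := (hℓV.map (Groth.Agent.Cd58.stalkHom f x)).map (algebraMap A R)
      rwa [map_natCast, map_natCast] at this
    exact Groth.Agent.Cd58.ringKrullDim_le_of_cd R ℓ hℓR d fun P _ hP =>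
      ⟨FractionRing (R ⧸ P), inferInstance, inferInstance, inferInstance, h P hP⟩
  · intro hd P hP
    haveI : P.IsPrime := hP.1.1
    obtain ⟨y, hyx, hy, hker⟩ :=
      Groth.Agent.Cd58.exists_point_ker x ⟨P.comap (algebraMap A R), inferInstance⟩
    let p : Ideal A := RingHom.ker (Cyc.specMap x y hyx)
    haveI : p.IsPrime := RingHom.ker_isPrime _
    have hpP : p.map (algebraMap A R) ≤ P := Ideal.map_le_iff_le_comap.2 hker.le
    have hP' : P ∈ (p.map (algebraMap A R)).minimalPrimes :=
      ⟨⟨inferInstance, hpP⟩, fun Q hQ hQP => hP.2 ⟨hQ.1, bot_le⟩ hQP⟩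
    refine Groth.Agent.Cd58.cohDimLEAt_strictLocal_dvr f ℓ hℓV hyx R P hP' d ?_
    have h1 := Groth.Agent.DimFormula.ringKrullDim_stalk_quotient x
      (⟨P.comap (algebraMap A R), inferInstance⟩ : PrimeSpectrum A)
    rw [hy] at h1
    have h2 : ringKrullDim (A ⧸ p) ≤ d :=
      ((Groth.Agent.CdField.le_ringKrullDim_quotient hlike p).trans (ringKrullDim_quotient_le _)).trans hd
    rw [show p = P.comap (algebraMap A R) from hker, h1] at h2
    exact_mod_cast h2

end Groth.Agent.S3490
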