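import Groth.Statements.S3493
import Groth.Agent.S3492
import Groth.Agent.CdField.StrictLocal
-- import your own Groth.Agent.* helpers here

set_option autoImplicit false
universe u
open CategoryTheory CategoryTheory.Limits AlgebraicGeometry Opposite
open EtCd

namespace Groth.Agent.S3493

/-- Let X be a scheme of finite type over a field k, of dimension at most n, and ℓ a prime nonzero in k.
Then cd_ℓ(X) ≤ 2n + cd_ℓ(k): if the cohomology of ℓ-primary torsion sheaves on Spec k vanishes above
degree e, then that of ℓ-primary torsion abelian sheaves on X vanishes above degree 2n + e. -/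
theorem result (k : Type u) [Field k] (X : Scheme.{u}) (f : X ⟶ Spec (CommRingCat.of k))
    [LocallyOfFiniteType f] [QuasiCompact f] (n : ℕ) (hn : topologicalKrullDim X ≤ n)
    (ℓ : ℕ) (hℓ : ℓ.Prime) (hℓk : (ℓ : k) ≠ 0) (e : ℕ) (he : Dix.CohDimLEAt (Spec (CommRingCat.of k)) ℓ e) :
    Dix.CohDimLEAt X ℓ (2 * n + e) := by
  haveI := Fact.mk hℓ
  haveI : IsNoetherian X :=
    { toIsLocallyNoetherian := LocallyOfFiniteType.isLocallyNoetherian f
      toCompactSpace := QuasiCompact.compactSpace_of_compactSpace f }
  have hbound : ∀ y : X, VarDim.deg f y + DimFormula.codim y ≤ n := fun y => by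
    haveI : Nonempty X := ⟨y⟩
    have h : ((Order.height y + Order.coheight y : ℕ∞) : WithBot ℕ∞) ≤ (n : WithBot ℕ∞) := by
      refine le_trans ?_ hn
      rw [show topologicalKrullDim (X : Type u) = Order.krullDim (X : Type u) from
        Order.krullDim_eq_of_orderIso irreducibleSetEquivPoints, Order.krullDim_eq_iSup_height_add_coheight_of_nonempty]
      exact WithBot.coe_le_coe.2 (le_iSup (fun a : X => Order.height a + Order.coheight a) y)
    rw [VarDim.height_eq_deg f y, ← DimFormula.coe_codim y] at h
    exact_mod_cast h
  intro F hF q hq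
  refine Groth.Agent.S3492.result X ℓ hℓ (2 * n + e) (fun y c hc => ?_)
    (fun x y hxy R => ?_) 0 F hF (fun y _ => ?_) q (by omega)
  · rw [DimFormula.ringKrullDim_stalk] at hc
    have hc' : DimFormula.codim y = c := by exact_mod_cast hc
    have := hbound y
    refine ⟨by omega, ?_⟩
    letI : Algebra k (X.residueField y) := (VarDim.resHom f y).toAlgebra
    intro G hG m hm
    exact CdField.cohDimLEAt_add ℓ (VarDim.deg f y) k (X.residueField y)
      (CdField.trdeg_residueField k f y).le e he G hG m (by omega)
  · intro _ _ _ _ _ P hP d hd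
    exact CdField.cohDimLEAt_strictLocal k f ℓ hxy R P hP d hd
  · rw [DimFormula.ringKrullDim_stalk]
    exact_mod_cast Nat.zero_le _

end Groth.Agent.S3493
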