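import Groth.Statements.S3520
import Groth.Agent.CdField.Curve
import Groth.Agent.DixBrauer.CurveArtin
import Groth.Agent.DixBrauer.Kummer


set_option autoImplicit false
universe u
open CategoryTheory CategoryTheory.Limits AlgebraicGeometry Opposite
open EtCd

namespace Groth.Agent.S3520

open Groth.Agent.DixBrauer in
/-- A torsion class of degree `i + 1` is zero when multiplication by `n` is epi and the kernel has no
cohomology in that degree. -/
theorem eq_zero_of_epi {Y : Scheme.{u}} (M : EtCoh.Ab Y) (n ℓ k d : ℕ) (hn : n = ℓ ^ k)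
    [Epi (n • 𝟙 M)] (hcd : Dix.CohDimLEAt Y ℓ d) (i : ℕ) (hi : d < i + 1) (ξ : EtCoh.H Y M (i + 1))
    (hξ : n • ξ = 0) : ξ = 0 := by
  refine Kummer.eq_zero_of_nsmul_eq_zero n (EtCoh.const Y ℤ) i (hcd _ ?_ (i + 1) hi) ?_ ξ hξ
  · refine CdField.isPrimaryTorsion_of_nsmul_eq_zero ℓ k ?_
    rw [← hn, ← cancel_mono (kernel.ι (n • 𝟙 M)), zero_comp, Kummer.nsmul_id_comp]
    exact (Kummer.comp_nsmul_id _ n).symm.trans (kernel.condition _)
  · exact CdLib.Devissage.subsingleton_H_of_isZero _ (isZero_cokernel_of_epi _) i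

/-- Let X be a Noetherian scheme of dimension at most 1 and ℓ a prime invertible on X such that
cd_ℓ(κ(x)) ≤ 1 for every maximal point x of X (so the ring of rational functions has ℓ-cohomological
dimension ≤ 1), and assume the residue field of every closed point is separably closed. Then H^i(X,
G_m) has no ℓ-primary torsion for i ≥ 2. (In the published statement the subscript ℓ on these groups
means 'no ℓ-torsion', and the result is stated in that sense: every element of H^i(X, G_m), i ≥ 2,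
killed by a power of ℓ is zero.) -/
theorem result (X : Scheme.{u}) [IsNoetherian X] (hdim : topologicalKrullDim X ≤ 1)
    (ℓ : ℕ) (hℓ : ℓ.Prime) (hinv : Dix.InvertibleOn X ℓ)
    (hcd : ∀ x : X, closure {x} ∈ irreducibleComponents (X : Type u) → Dix.CohDimLEAt (Spec (X.residueField x)) ℓ 1)
    (hcl : ∀ x : X, IsClosed ({x} : Set X) → IsSepClosed (X.residueField x))
    (i : ℕ) (hi : 2 ≤ i) (ξ : EtCoh.H X (EtCoh.Gm X) i) (hξ : ∃ k : ℕ, ℓ ^ k • ξ = 0) : ξ = 0 := by
  obtain ⟨k, hk⟩ := hξ
  let n := ℓ ^ k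
  have hn : Dix.InvertibleOn X n := fun x => by
    rw [Nat.cast_pow]
    exact pow_ne_zero _ (hinv x)
  haveI : Epi (n • 𝟙 (EtCoh.Gm X)) := DixBrauer.Kummer.epi_powMap hn
  obtain ⟨j, rfl⟩ : ∃ j, i = j + 1 := ⟨i - 1, by omega⟩
  rcases Nat.lt_or_ge 2 (j + 1) with hj | hj
  · exact eq_zero_of_epi (EtCoh.Gm X) n ℓ k 2 rfl (CdField.cohDimLEAt_curve ℓ hℓ hdim hcd hcl) j hj ξ hk
  obtain rfl : j = 1 := by omega
  have hd : topologicalKrullDim X ≤ (1 : ℕ) := hdim
  refine DixBrauer.CurveH2.eq_zero_of_Hpull hdim hcl (EtCoh.Gm X) (fun x hx =>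
    DixBrauer.CurveArtin.isZero_rpush_max (DixBrauer.CurveReduced.maximal_of_phi_eq hd hx)) ξ
    fun x hx => ?_
  have hmax := DixBrauer.CurveReduced.maximal_of_phi_eq hd hx
  have hcomp : closure {x} ∈ irreducibleComponents (X : Type u) := by
    refine ⟨isIrreducible_singleton.closure, fun T hT hle => ?_⟩
    have hg := hT.closure.isGenericPoint_genericPoint isClosed_closure
    have := hmax _ (hg.specializes (subset_closure (hle (subset_closure rfl))))
    intro y hy
    have hy' := hg.specializes (subset_closure hy)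
    rw [this] at hy'
    exact specializes_iff_mem_closure.1 hy'
  let P := EtCoh.pull (CdLib.PointPush.ι x)
  haveI : Epi (n • 𝟙 (P.obj (EtCoh.Gm X))) := by
    rw [← P.map_id, ← P.map_nsmul]
    haveI : P.IsLeftAdjoint := (EtCoh.pullPushAdj (CdLib.PointPush.ι x)).isLeftAdjoint
    exact P.map_epi _
  refine eq_zero_of_epi (P.obj (EtCoh.Gm X)) n ℓ k 1 rfl (hcd x hcomp) 1 (by omega) _ ?_
  rw [← map_nsmul, hk, map_zero]

end Groth.Agent.S3520
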