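import Groth.Statements.S3544
import Groth.Agent.DSites.EulerUp
import Mathlib.Algebra.Homology.ShortComplex.ModuleCat
import Mathlib.Tactic.Ring
-- import your own Groth.Agent.* helpers here

set_option autoImplicit false
universe u
open HomAlg3

namespace Groth.Agent.S3544

open CategoryTheory CategoryTheory.Limits in
/-- Let E be a cohomological spectral sequence of modules over a ring A, starting at page 2, such that
the E₂ terms have finite length and only finitely many of them (all inside the finite set s of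
bidegrees) are nonzero. Then for every r ≥ 2 the Euler–Poincaré characteristic of page r, the
alternating sum over s of (-1)^{p+q} times the length of E_r^{pq}, equals that of page 2. -/
theorem result {A : Type u} [Ring A]
    (E : E₂CohomologicalSpectralSequence (ModuleCat.{u} A)) (s : Finset (ℤ × ℤ))
    (hs : ∀ pq : ℤ × ℤ, pq ∉ s → IsZero ((E.page 2).X pq))
    (hfl : ∀ pq : ℤ × ℤ, IsFiniteLength A ((E.page 2).X pq)) (r : ℤ) (hr : 2 ≤ r) :
    (s.sum fun pq => (((pq.1 + pq.2).negOnePow : ℤˣ) : ℤ) * ((Module.length A ((E.page r hr).X pq)).toNat : ℤ)) =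
      s.sum fun pq => (((pq.1 + pq.2).negOnePow : ℤˣ) : ℤ) * ((Module.length A ((E.page 2).X pq)).toNat : ℤ) := by
  have hadd : ∀ S : ShortComplex (ModuleCat.{u} A), S.ShortExact → IsFiniteLength A S.X₂ →
      ((Module.length A S.X₂).toNat : ℤ) =
        (Module.length A S.X₁).toNat + (Module.length A S.X₃).toNat ∧
      IsFiniteLength A S.X₁ ∧ IsFiniteLength A S.X₃ := fun S hS h2 => by
    have hl := Module.length_eq_add_of_exact S.f.hom S.g.hom hS.moduleCat_injective_f
      hS.moduleCat_surjective_g
      ((ShortComplex.ShortExact.moduleCat_exact_iff_function_exact _).1 hS.exact)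
    have hne := Module.length_ne_top_iff.2 h2
    rw [hl] at hne
    obtain ⟨n1, n3⟩ := WithTop.add_ne_top.1 hne
    refine ⟨?_, Module.length_ne_top_iff.1 n1, Module.length_ne_top_iff.1 n3⟩
    rw [hl, ENat.toNat_add n1 n3]
    push_cast
    rfl
  have h0 : ∀ X : ModuleCat.{u} A, IsZero X → ((Module.length A X).toNat : ℤ) = 0 := fun X hX => by
    have : Subsingleton X := ModuleCat.subsingleton_of_isZero hX
    simp [Module.length_eq_zero]
  suffices key : ∀ (m : ℤ) (hm : 2 ≤ m), (∀ pq, IsFiniteLength A ((E.page m hm).X pq)) ∧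
      (∀ pq, pq ∉ s → IsZero ((E.page m hm).X pq)) ∧
      (s.sum fun pq => (((pq.1 + pq.2).negOnePow : ℤˣ) : ℤ) *
          ((Module.length A ((E.page m hm).X pq)).toNat : ℤ)) =
        s.sum fun pq => (((pq.1 + pq.2).negOnePow : ℤˣ) : ℤ) *
          ((Module.length A ((E.page 2).X pq)).toNat : ℤ) from (key r hr).2.2
  intro m hm
  induction m, hm using Int.le_induction with
  | base => exact ⟨hfl, hs, rfl⟩
  | succ n hn ih =>
    obtain ⟨ih₁, ih₂, ih₃⟩ := ih
    obtain ⟨hH, hE⟩ := DSites.EulerUp.euler ((n, 1 - n) : ℤ × ℤ)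
      (fun X : ModuleCat.{u} A => ((Module.length A X).toNat : ℤ))
      (fun X => IsFiniteLength A X) hadd h0 (E.page n hn) ih₁
    let e := fun pq => (E.iso n (n + 1) pq rfl hn).toLinearEquiv
    refine ⟨fun pq => (e pq).isFiniteLength (hH pq), fun pq hpq => ?_, ?_⟩
    · exact ((HomologicalComplex.exactAt_iff_isZero_homology _ _).1
          (ShortComplex.exact_of_isZero_X₂ ((E.page n hn).sc pq) (ih₂ pq hpq))).of_iso
        (E.iso n (n + 1) pq rfl hn).symm
    · refine Eq.trans ?_ ih₃
      have := hE s ih₂ (fun pq => (((pq.1 + pq.2).negOnePow : ℤˣ) : ℤ)) (fun pq => by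
        have : (pq + ((n, 1 - n) : ℤ × ℤ)).1 + (pq + ((n, 1 - n) : ℤ × ℤ)).2 = pq.1 + pq.2 + 1 := by
          simp only [Prod.fst_add, Prod.snd_add]
          ring
        simp only [this, Int.negOnePow_succ, Units.val_neg])
      simp only [smul_eq_mul] at this
      rw [this]
      exact Finset.sum_congr rfl fun pq _ => by rw [(e pq).length_eq]

end Groth.Agent.S3544
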