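import Groth.Statements.S3670
import Groth.Agent.Dual3Lib.GorAffine

set_option autoImplicit false
universe u
open CategoryTheory CategoryTheory.Limits AlgebraicGeometry
attribute [local instance] HasDerivedCategory.standard
open Dual3

namespace Groth.Agent.S3670

/-- (1) ⇔ (2) ⇔ (3) ⇔ (4): Let f : X → S be flat and locally of finite presentation, x a point of X and
d = dim_x(X_{f(x)}) the local dimension of its fibre. Then the following are equivalent: (1) f is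
Gorenstein at x; (2) there are an open neighbourhood U of x and a locally quasi-finite morphism g :
U → A^d_S over S which is Gorenstein at x; (3) there are an open neighbourhood U of x and a locally
quasi-finite Gorenstein morphism g : U → A^d_S over S; (4) for every open neighbourhood U of x and
every morphism g : U → A^d_S over S, if x is isolated in its fibre under g (g is quasi-finite at x)
then g is Gorenstein at x. -/
theorem result (X S : Scheme.{u}) (f : X ⟶ S) [Flat f] [LocallyOfFinitePresentation f] (x : X) (d : ℕ) (hd : Dual3.localFibreDim f x = (d : WithBot ℕ∞)) : (Dual3.IsGorensteinAt f x ↔ ∃ (U : X.Opens) (hx : x ∈ U) (g : (U : Scheme.{u}) ⟶ AffineSpace (ULift.{u} (Fin d)) S), g ≫ (AffineSpace (ULift.{u} (Fin d)) S ↘ S) = U.ι ≫ f ∧ LocallyQuasiFinite g ∧ Dual3.IsGorensteinAt g ⟨x, hx⟩) ∧ (Dual3.IsGorensteinAt f x ↔ ∃ (U : X.Opens) (_ : x ∈ U) (g : (U : Scheme.{u}) ⟶ AffineSpace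 (ULift.{u} (Fin d)) S), g ≫ (AffineSpace (ULift.{u} (Fin d)) S ↘ S) = U.ι ≫ f ∧ LocallyQuasiFinite g ∧ Dual3.IsGorensteinMor g) ∧ (Dual3.IsGorensteinAt f x ↔ ∀ (U : X.Opens) (hx : x ∈ U) (g : (U : Scheme.{u}) ⟶ AffineSpace (ULift.{u} (Fin d)) S), g ≫ (AffineSpace (ULift.{u} (Fin d)) S ↘ S) = U.ι ≫ f → Dual3.QuasiFiniteAt g ⟨x, hx⟩ → Dual3.IsGorensteinAt g ⟨x, hx⟩) := by
  have hd' : FlatMor.fibreDimAt f x = (d : WithBot ℕ∞) := by
    rw [← hd, FlatMor.fibreDimAt, FlatMor.localDim, Dual3.localFibreDim, iInf_subtype]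
    rfl
  have h4 : Dual3.IsGorensteinAt f x → ∀ (U : X.Opens) (hx : x ∈ U)
      (g : (U : Scheme.{u}) ⟶ AffineSpace (ULift.{u} (Fin d)) S),
      g ≫ (AffineSpace (ULift.{u} (Fin d)) S ↘ S) = U.ι ≫ f → Dual3.QuasiFiniteAt g ⟨x, hx⟩ →
        Dual3.IsGorensteinAt g ⟨x, hx⟩ := fun h U hx g hg hq => by
    haveI := Dual3Lib.GorAffine.locallyOfFinitePresentation_chart f g hg
    exact Dual3Lib.GorAffine.chart_of_gor f hd' h hx g hg
      ((Scheme.Hom.quasiFiniteAt_iff_isOpen_singleton_asFiber).2 hq)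
  have hqAt : ∀ (U : X.Opens) (hx : x ∈ U) (g : (U : Scheme.{u}) ⟶ AffineSpace (ULift.{u} (Fin d)) S),
      g ≫ (AffineSpace (ULift.{u} (Fin d)) S ↘ S) = U.ι ≫ f → LocallyQuasiFinite g →
        Dual3.QuasiFiniteAt g ⟨x, hx⟩ := fun U hx g hg hqf => by
    haveI := Dual3Lib.GorAffine.locallyOfFinitePresentation_chart f g hg
    exact (Scheme.Hom.quasiFiniteAt_iff_isOpen_singleton_asFiber).1 (g.quasiFiniteAt _)
  obtain ⟨U₀, hx₀, g₀, hg₀, hqf₀⟩ := Dual3Lib.GorAffine.exists_chart f hd'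
  have h12 : Dual3.IsGorensteinAt f x → ∃ (U : X.Opens) (hx : x ∈ U)
      (g : (U : Scheme.{u}) ⟶ AffineSpace (ULift.{u} (Fin d)) S),
      g ≫ (AffineSpace (ULift.{u} (Fin d)) S ↘ S) = U.ι ≫ f ∧ LocallyQuasiFinite g ∧
        Dual3.IsGorensteinAt g ⟨x, hx⟩ := fun h =>
    ⟨U₀, hx₀, g₀, hg₀, hqf₀, h4 h U₀ hx₀ g₀ hg₀ (hqAt U₀ hx₀ g₀ hg₀ hqf₀)⟩
  refine ⟨⟨h12, fun ⟨U, hx, g, hg, _, hG⟩ => Dual3Lib.GorAffine.gor_of_chart f hx g hg hG⟩, ⟨fun h => ?_,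
    fun ⟨U, hx, g, hg, _, hG⟩ => Dual3Lib.GorAffine.gor_of_chart f hx g hg (hG ⟨x, hx⟩)⟩, h4,
    fun h => Dual3Lib.GorAffine.gor_of_chart f hx₀ g₀ hg₀ (h U₀ hx₀ g₀ hg₀ (hqAt U₀ hx₀ g₀ hg₀ hqf₀))⟩
  obtain ⟨U, hx, g, hg, hqf, hG⟩ := h12 h
  haveI := Dual3Lib.GorAffine.locallyOfFinitePresentation_chart f g hg
  haveI : LocallyQuasiFinite g := hqf
  let V : (U : Scheme.{u}).Opens := ⟨_, CurvOpenLib.Gor.isOpen_gorensteinAt g⟩
  refine ⟨U.ι ''ᵁ V, ⟨⟨x, hx⟩, hG, rfl⟩, (U.ι.isoImage V).inv ≫ V.ι ≫ g, ?_, inferInstance, fun z => ?_⟩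
  · rw [Category.assoc, Category.assoc, hg, ← Category.assoc, ← Category.assoc, Category.assoc _ V.ι,
      Scheme.Hom.isoImage_inv_ι]
  · rw [← Category.assoc, CurvOpenLib.Gor.precomp ((U.ι.isoImage V).inv ≫ V.ι) g z, Scheme.Hom.comp_apply]
    exact ((U.ι.isoImage V).inv z).2

end Groth.Agent.S3670
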