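import Groth.Statements.S3720
import Mathlib
import Groth.Agent.SchDesc82.Principal

set_option autoImplicit false
open CategoryTheory CategoryTheory.Limits AlgebraicGeometry
universe u
open SGA1t

namespace Groth.Agent.S3720

/-- An eigenvector with unit value for a Galois algebra over a local ring. -/
theorem exists_eigenvector {A B G : Type u} [CommRing A] [IsLocalRing A] [CommRing B] [Algebra A B]
    [CommGroup G] [Finite G] [MulSemiringAction G B] [SMulCommClass G A B]
    [Algebra.FormallyUnramified A B] [Algebra.EssFiniteType A B] [Module.FaithfullyFlat A B]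
    (hfree : SchDesc82.Galois.Free G B) (htr : SchDesc82.Galois.Trans G A B) (n : ℕ) (χ : G →* A)
    (hpow : ∀ g, χ g ^ n = 1) :
    ∃ (θ : B) (a : Aˣ), IsUnit θ ∧ algebraMap A B a = θ ^ n ∧ ∀ g, g • θ = χ g • θ := by
  classical
  cases nonempty_fintype G
  haveI := SchDesc82.Galois.isInvariant hfree htr
  haveI : Algebra.IsIntegral A B := Algebra.IsInvariant.isIntegral A B G
  haveI : Nontrivial B := (FaithfulSMul.algebraMap_injective A B).nontrivial
  obtain ⟨M₀, hM₀⟩ := Ideal.exists_maximal B
  haveI := hM₀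
  let θ' : B → B := fun c => ∑ h : G, χ h⁻¹ • h • c
  have heig : ∀ c (g : G), g • θ' c = χ g • θ' c := by
    intro c g
    simp only [θ', Finset.smul_sum]
    refine Fintype.sum_equiv (Equiv.mulLeft g) _ _ fun h => ?_
    simp only [Equiv.coe_mulLeft]
    rw [smul_comm, smul_smul g h, smul_smul (χ g), ← map_mul, mul_inv_rev, mul_comm h⁻¹,
      ← mul_assoc, mul_inv_cancel, one_mul]
  obtain ⟨c, hc⟩ : ∃ c, θ' c ∉ M₀ := by
    by_contra! hall
    obtain ⟨S, -, hS1, hS⟩ := SchDesc82.Galois.exists_basis A hfree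
    have h1 : ∑ q ∈ S, q.1 * θ' q.2 = 1 := by
      simp only [θ', Finset.mul_sum]
      rw [Finset.sum_comm, Finset.sum_eq_single (1 : G)
        (fun h _ hh => by simp_rw [mul_smul_comm, ← Finset.smul_sum, hS h hh, smul_zero]) (by simp)]
      simpa using hS1
    exact hM₀.ne_top ((Ideal.eq_top_iff_one _).mpr
      (h1 ▸ M₀.sum_mem fun q _ => M₀.mul_mem_left _ (hall q.2)))
  have hover : ∀ M : Ideal B, M.IsMaximal → M.under A = IsLocalRing.maximalIdeal A := fun M hM =>
    IsLocalRing.eq_maximalIdeal (Ideal.isMaximal_comap_of_isIntegral_of_isMaximal M)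
  have hθu : IsUnit (θ' c) := by
    by_contra hnu
    obtain ⟨M, hM, hθM⟩ := exists_max_ideal_of_mem_nonunits hnu
    haveI := hM
    obtain ⟨g, hg⟩ := Algebra.IsInvariant.exists_smul_of_under_eq A B G M₀ M
      (by rw [hover M₀ hM₀, hover M hM])
    rw [hg] at hθM
    have h2 : g⁻¹ • θ' c ∈ M₀ := Ideal.mem_pointwise_smul_iff_inv_smul_mem.mp hθM
    rw [heig] at h2
    refine hc ?_
    have := M₀.smul_of_tower_mem (χ g) h2
    rwa [smul_smul, ← map_mul, mul_inv_cancel, map_one, one_smul] at this
  obtain ⟨a, ha⟩ := Algebra.IsInvariant.isInvariant (A := A) (G := G) (θ' c ^ n) (fun g => by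
    rw [smul_pow', heig, smul_pow, hpow, one_smul])
  have hau : IsUnit a := by
    by_contra hnu
    have : algebraMap A B a ∈ M₀ := by
      rw [← Ideal.mem_comap, ← Ideal.under_def, hover M₀ hM₀]
      exact hnu
    rw [ha] at this
    exact hM₀.ne_top (Ideal.eq_top_of_isUnit_mem _ this (hθu.pow n))
  exact ⟨θ' c, hau.unit, hθu, ha, heig c⟩

/-- Kummer theory over a local ring: let A be a local ring, n ≥ 1 an integer invertible in A, and
suppose A contains a primitive n-th root of unity (so that the group μ_n(A) of n-th roots of unity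
in A is cyclic of order n). Then every principal μ_n(A)-cover P of Spec A is isomorphic over Spec A
to a Kummer cover Spec A[T]/(Tⁿ − a) for some unit a of A, compatibly with the actions: the given
action of a root of unity ζ on P corresponds to the automorphism of A[T]/(Tⁿ − a) induced by T ↦ ζT. -/
theorem result (A : Type u) [CommRing A] [IsLocalRing A] (n : ℕ) (hn1 : 1 ≤ n)
    (hn : IsUnit ((n : ℕ) : A)) (ζ₀ : A) (hζ₀ : IsPrimitiveRoot ζ₀ n)
    (P : FEt.Cat (Spec (CommRingCat.of A))) (ρ : ↥(rootsOfUnity n A) →* Aut P)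
    (hP : SGA1t.IsPrincipal ↥(rootsOfUnity n A) P ρ) :
    ∃ (a : Aˣ) (e : P.left ≅ Spec (CommRingCat.of (SGA1t.kummer A (fun _ : Unit => (a : A)) (fun _ => n)))),
      e.hom ≫ Spec.map (CommRingCat.ofHom (algebraMap A (SGA1t.kummer A (fun _ : Unit => (a : A)) (fun _ => n)))) = P.hom ∧
      ∀ ζ : ↥(rootsOfUnity n A), (ρ ζ).hom.left ≫ e.hom =
        e.hom ≫ Spec.map (CommRingCat.ofHom (SGA1t.kummerTwist A (fun _ : Unit => (a : A)) (fun _ => n) (fun _ => ζ))) := by
  classical
  obtain ⟨D⟩ := SchDesc82.exists_principalData hP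
  let G : Type u := ↥(rootsOfUnity n A)
  haveI : NeZero n := ⟨by omega⟩
  have hone : ∀ u : A, u ^ n = 1 → IsLocalRing.residue A u = 1 → u = 1 := by
    intro u hu hr
    have hs : IsUnit (∑ j ∈ Finset.range n, u ^ j) := by
      rw [← IsLocalRing.residue_ne_zero_iff_isUnit]
      simp only [map_sum, map_pow, hr, one_pow, Finset.sum_const, Finset.card_range, nsmul_one]
      rw [← map_natCast (IsLocalRing.residue A)]
      exact (IsLocalRing.residue_ne_zero_iff_isUnit _).mpr hn
    have := mul_geom_sum u n
    rw [hu, sub_self] at this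
    exact sub_eq_zero.mp (hs.mul_left_eq_zero.mp this)
  let val : G → A := fun g => (((g : Aˣ)) : A)
  have hval : ∀ g h : G, val (g * h) = val g * val h := fun g h => rfl
  have hpow : ∀ g : G, val g ^ n = 1 := fun g => by
    rw [← Units.val_pow_eq_pow_val, (mem_rootsOfUnity n (g : Aˣ)).mp g.2, Units.val_one]
  have hdiff : ∀ g h : G, g ≠ h → IsUnit (val g - val h) := by
    intro g h hne
    rw [← IsLocalRing.residue_ne_zero_iff_isUnit, map_sub, sub_ne_zero]
    intro he
    apply hne
    have h1 : val (g * h⁻¹) = 1 := by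
      refine hone _ (hpow _) ?_
      rw [hval, map_mul, he, ← map_mul, ← hval, mul_inv_cancel]
      exact map_one _
    have h2 : g * h⁻¹ = 1 := Subtype.ext (Units.ext h1)
    exact mul_inv_eq_one.mp h2
  let res : G → ↥(rootsOfUnity n (IsLocalRing.ResidueField A)) :=
    restrictRootsOfUnity (IsLocalRing.residue A) n
  have hres : Function.Injective res := by
    intro g h e
    by_contra hne
    have := (hdiff g h hne).map (IsLocalRing.residue A)
    rw [map_sub, show IsLocalRing.residue A (val g) = IsLocalRing.residue A (val h) from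
      congrArg (fun x : ↥(rootsOfUnity n (IsLocalRing.ResidueField A)) =>
        ((x : (IsLocalRing.ResidueField A)ˣ) : IsLocalRing.ResidueField A)) e, sub_self] at this
    exact not_isUnit_zero this
  haveI : Finite G := Finite.of_injective res hres
  have hcard : Nat.card G = n := by
    refine le_antisymm ?_ ?_
    · refine (Nat.card_le_card_of_injective res hres).trans ?_
      exact card_rootsOfUnity _ n
    · have hinj : Function.Injective fun k : Fin n => (hζ₀.toRootsOfUnity ^ (k : ℕ) : G) := by
        intro i j e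
        exact Fin.ext (hζ₀.pow_inj i.2 j.2 (congrArg val e))
      exact (Nat.card_fin n).symm.le.trans (Nat.card_le_card_of_injective _ hinj)
  haveI := SchDesc82.Galois.isInvariant D.free D.trans
  let χ : G →* A := ⟨⟨val, rfl⟩, hval⟩
  obtain ⟨θ, au, hθu, ha, heig⟩ := exists_eigenvector D.free D.trans n χ hpow
  let act : G → D.B →+* D.B := fun g => MulSemiringAction.toRingHom G D.B g
  have heig' : ∀ g : G, act g θ = val g • θ := heig
  -- the Kummer algebra
  let R := SGA1t.kummer A (fun _ : Unit => (au : A)) (fun _ => n)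
  let t : R := Ideal.Quotient.mk _ (MvPolynomial.X ())
  let f : Polynomial A := Polynomial.X ^ n - Polynomial.C (au : A)
  have hgen : Function.Surjective (Polynomial.aeval (R := A) t) := by
    intro r
    obtain ⟨q, rfl⟩ := Ideal.Quotient.mk_surjective r
    induction q using MvPolynomial.induction_on with
    | C b => exact ⟨Polynomial.C b, Polynomial.aeval_C _ _⟩
    | add q q' hq hq' =>
      obtain ⟨y, hy⟩ := hq; obtain ⟨y', hy'⟩ := hq'
      exact ⟨y + y', by rw [map_add, hy, hy', map_add]⟩
    | mul_X q i hq =>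
      obtain ⟨y, hy⟩ := hq
      exact ⟨y * Polynomial.X, by rw [map_mul, hy, Polynomial.aeval_X, map_mul]⟩
  have hroot : Polynomial.aeval t f = 0 := by
    rw [map_sub, map_pow, Polynomial.aeval_X, Polynomial.aeval_C]
    exact Ideal.Quotient.eq_zero_iff_mem.mpr (Ideal.subset_span ⟨(), rfl⟩)
  have hφ₀ : ∀ q ∈ Ideal.span (Set.range fun _ : Unit =>
      (MvPolynomial.X () : MvPolynomial Unit A) ^ n - MvPolynomial.C (au : A)),
      MvPolynomial.aeval (R := A) (fun _ : Unit => θ) q = 0 := by
    intro q hq
    induction hq using Submodule.span_induction with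
    | mem x hx => obtain ⟨i, rfl⟩ := hx; simp [ha]
    | zero => exact map_zero _
    | add x y _ _ hx hy => rw [map_add, hx, hy, add_zero]
    | smul b x _ hx => rw [smul_eq_mul, map_mul, hx, mul_zero]
  let φ : R →ₐ[A] D.B := Ideal.Quotient.liftₐ _ (MvPolynomial.aeval (R := A) (fun _ : Unit => θ)) hφ₀
  have hφt : φ t = θ := MvPolynomial.aeval_X _ _
  have hbij : Function.Bijective φ := by
    refine SchDesc82.Galois.bijective_of_generator (G := G) (FaithfulSMul.algebraMap_injective A D.B)
      θ ?_ t f (Polynomial.monic_X_pow_sub_C (au : A) (by omega))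
      (by rw [Polynomial.natDegree_X_pow_sub_C, hcard]) hroot hgen φ hφt
    intro g h hne
    show IsUnit (act g θ - act h θ)
    rw [heig', heig', ← sub_smul, Algebra.smul_def]
    exact ((hdiff g h hne).map _).mul hθu
  let E : CommRingCat.of R ≅ CommRingCat.of D.B :=
    (RingEquiv.ofBijective φ hbij).toCommRingCatIso
  refine ⟨au, D.iso ≪≫ Scheme.Spec.mapIso E.op, ?_, fun ζ => ?_⟩
  · show (D.iso.hom ≫ Spec.map E.hom) ≫ _ = P.hom
    rw [Category.assoc, ← Spec.map_comp]
    refine Eq.trans ?_ D.iso_hom
    congr 2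
    exact CommRingCat.hom_ext φ.comp_algebraMap
  · show (ρ ζ).hom.left ≫ D.iso.hom ≫ Spec.map E.hom = (D.iso.hom ≫ Spec.map E.hom) ≫ _
    rw [Category.assoc, ← Category.assoc, D.iso_equiv ζ]
    rw [Category.assoc, ← Spec.map_comp, ← Spec.map_comp]
    congr 2
    refine CommRingCat.hom_ext (Ideal.Quotient.ringHom_ext (MvPolynomial.ringHom_ext (fun r => ?_) fun i => ?_))
    · show act ζ (φ (algebraMap A R r)) = MvPolynomial.aeval (fun _ : Unit => θ) (MvPolynomial.aeval
        (fun _ : Unit => MvPolynomial.C (val ζ) * MvPolynomial.X ()) (MvPolynomial.C r))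
      rw [φ.commutes]
      refine (smul_algebraMap (α := G) ζ r).trans ?_
      simp
    · show act ζ (φ t) = MvPolynomial.aeval (fun _ : Unit => θ) (MvPolynomial.aeval
        (fun _ : Unit => MvPolynomial.C (val ζ) * MvPolynomial.X ()) (MvPolynomial.X i))
      rw [hφt, heig']
      simp [Algebra.smul_def]

end Groth.Agent.S3720
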