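import Groth.Statements.S3721
import Mathlib
import Groth.Agent.SchDesc82.Principal

set_option autoImplicit false
open CategoryTheory CategoryTheory.Limits AlgebraicGeometry
universe u
open SGA1t

namespace Groth.Agent.S3721

/-- Let p be a prime and A a commutative ring of characteristic p. Then every principal ℤ/p-cover P of
Spec A (a finite étale cover with an action of ℤ/p making it a torsor) is isomorphic over Spec A to
an Artin–Schreier cover Spec A[T]/(T^p − T − a) for some a ∈ A, compatibly with the actions: under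
the isomorphism the given action of j ∈ ℤ/p on P corresponds to the automorphism of the
Artin–Schreier cover induced by T ↦ T + j. The published statement is for any base S of
characteristic p on which Frobenius fixes no nonzero element of H¹(S, O_S); it is stated here for S
= Spec A affine. -/
theorem result (A : Type u) [CommRing A] (p : ℕ) [Fact p.Prime] [CharP A p]
    (P : FEt.Cat (Spec (CommRingCat.of A))) (ρ : Multiplicative (ZMod p) →* Aut P)
    (hP : SGA1t.IsPrincipal (Multiplicative (ZMod p)) P ρ) :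
    ∃ (a : A) (e : P.left ≅ Spec (CommRingCat.of (SGA1t.artinSchreier A p a))),
      e.hom ≫ Spec.map (CommRingCat.ofHom (algebraMap A (SGA1t.artinSchreier A p a))) = P.hom ∧
      ∀ j : ZMod p, (ρ (Multiplicative.ofAdd j)).hom.left ≫ e.hom =
        e.hom ≫ Spec.map (CommRingCat.ofHom (SGA1t.artinSchreierShift A p a j)) := by
  classical
  let G : Type u := ULift.{u} (Multiplicative (ZMod p))
  let e : G ≃* Multiplicative (ZMod p) := MulEquiv.ulift
  obtain ⟨D⟩ := SchDesc82.exists_principalData (SchDesc82.isPrincipal_comp e hP)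
  obtain ⟨c, hc⟩ := SchDesc82.Galois.exists_sum_smul_eq_one D.free D.trans
  haveI := SchDesc82.Galois.isInvariant D.free D.trans
  let ψ : ZMod p →+* A := ZMod.castHom (dvd_refl p) A
  let χ : ZMod p →+* D.B := (algebraMap A D.B).comp ψ
  let g : ZMod p → G := fun j => ULift.up (Multiplicative.ofAdd j)
  have hg : ∀ i j, g (i + j) = g i * g j := fun i j => rfl
  let θ : D.B := - ∑ i : ZMod p, χ i * (g i • c)
  have hχ : ∀ (h : G) (i : ZMod p), h • χ i = χ i := fun h i => smul_algebraMap h _
  have hθ : ∀ j, g j • θ = θ + χ j := by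
    intro j
    have h1 : ∑ i : ZMod p, g i • c = 1 := by
      rw [← hc]
      exact Fintype.sum_equiv (Multiplicative.ofAdd.trans Equiv.ulift.symm) _ _ (fun _ => rfl)
    have h2 : ∑ i : ZMod p, χ i * (g (j + i) • c) = ∑ i : ZMod p, χ (i - j) * (g i • c) :=
      Fintype.sum_equiv (Equiv.addLeft j) _ _ fun i => by simp
    have h4 : ∀ i, g j • g i • c = g (j + i) • c := fun i => by rw [hg, mul_smul]
    simp only [θ, smul_neg, Finset.smul_sum, smul_mul', hχ, h4, h2, map_sub, sub_mul,
      Finset.sum_sub_distrib, ← Finset.mul_sum, h1]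
    ring
  have hadd : ∀ i j, χ i + χ j = χ (i + j) := fun i j => (map_add χ i j).symm
  have hpB : (p : D.B) = 0 := by rw [← map_natCast (algebraMap A D.B), CharP.cast_eq_zero, map_zero]
  have hfrob : ∀ x y : D.B, (x + y) ^ p = x ^ p + y ^ p := by
    intro x y
    obtain ⟨r, hr⟩ := exists_add_pow_prime_eq (Fact.out : p.Prime) x y
    rw [hr, hpB]; ring
  have hχp : ∀ j, χ j ^ p = χ j := fun j => by rw [← map_pow, ZMod.pow_card]
  obtain ⟨a, ha⟩ := Algebra.IsInvariant.isInvariant (A := A) (G := G) (θ ^ p - θ) (fun h => by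
    obtain ⟨j, rfl⟩ : ∃ j, g j = h := ⟨Multiplicative.toAdd h.down, rfl⟩
    rw [smul_sub, smul_pow', hθ, hfrob, hχp]
    ring)
  let R := SGA1t.artinSchreier A p a
  let f : Polynomial A := Polynomial.X ^ p - Polynomial.X - Polynomial.C a
  let t : R := Ideal.Quotient.mk _ Polynomial.X
  have haeval : Polynomial.aeval (R := A) t = Ideal.Quotient.mkₐ A _ :=
    Polynomial.algHom_ext (by simp [t]; rfl)
  have hφ₀ : ∀ q ∈ Ideal.span {f}, Polynomial.aeval (R := A) θ q = 0 := by
    intro q hq
    obtain ⟨r, rfl⟩ := Ideal.mem_span_singleton'.mp hq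
    simp [f, ← ha]
  let φ : R →ₐ[A] D.B := Ideal.Quotient.liftₐ _ (Polynomial.aeval (R := A) θ) hφ₀
  have hφt : φ t = θ := Polynomial.aeval_X θ
  have hp1 : 1 < p := (Fact.out : p.Prime).one_lt
  have hbij : Function.Bijective φ := by
    rcases subsingleton_or_nontrivial A with hA | hA
    · exact absurd hp1 (by rw [Nat.dvd_one.mp ((CharP.cast_eq_zero_iff A p 1).mp (Subsingleton.elim _ _))]; exact lt_irrefl 1)
    refine SchDesc82.Galois.bijective_of_generator (G := G)
      (FaithfulSMul.algebraMap_injective A D.B) θ ?_ t f ?_ ?_ ?_ ?_ φ hφt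
    · intro h h' hne
      obtain ⟨i, rfl⟩ : ∃ i, g i = h := ⟨Multiplicative.toAdd h.down, rfl⟩
      obtain ⟨j, rfl⟩ : ∃ j, g j = h' := ⟨Multiplicative.toAdd h'.down, rfl⟩
      rw [hθ, hθ, show θ + χ i - (θ + χ j) = χ (i - j) by rw [map_sub]; ring]
      exact (isUnit_iff_ne_zero.mpr (sub_ne_zero.mpr fun e => hne (congrArg g e))).map χ
    · rw [show f = Polynomial.X ^ p - (Polynomial.X + Polynomial.C a) by ring]
      exact Polynomial.monic_X_pow_sub (lt_of_le_of_lt (Polynomial.degree_X_add_C a).le (by exact_mod_cast hp1))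
    · rw [show f = Polynomial.X ^ p - (Polynomial.X + Polynomial.C a) by ring,
        Polynomial.natDegree_sub_eq_left_of_natDegree_lt
          (by rw [Polynomial.natDegree_X_add_C, Polynomial.natDegree_X_pow]; exact hp1),
        Polynomial.natDegree_X_pow, Nat.card_congr Equiv.ulift,
        Nat.card_congr Multiplicative.toAdd, Nat.card_zmod]
    · rw [haeval]
      exact Ideal.Quotient.eq_zero_iff_mem.mpr (Ideal.subset_span rfl)
    · rw [haeval]
      exact Ideal.Quotient.mkₐ_surjective A _
  let E : CommRingCat.of R ≅ CommRingCat.of D.B :=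
    (RingEquiv.ofBijective φ hbij).toCommRingCatIso
  have hE : E.hom = CommRingCat.ofHom φ.toRingHom := rfl
  refine ⟨a, D.iso ≪≫ Scheme.Spec.mapIso E.op, ?_, fun j => ?_⟩
  · show (D.iso.hom ≫ Spec.map E.hom) ≫ _ = P.hom
    rw [Category.assoc, ← Spec.map_comp, hE]
    refine Eq.trans ?_ D.iso_hom
    congr 2
    exact CommRingCat.hom_ext φ.comp_algebraMap
  · show (ρ _).hom.left ≫ D.iso.hom ≫ Spec.map E.hom = (D.iso.hom ≫ Spec.map E.hom) ≫ _
    rw [Category.assoc, ← Category.assoc]
    rw [show (ρ (Multiplicative.ofAdd j)).hom.left ≫ D.iso.hom = D.iso.hom ≫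
      Spec.map (CommRingCat.ofHom (MulSemiringAction.toRingHom G D.B (g j))) from D.iso_equiv (g j)]
    rw [Category.assoc, ← Spec.map_comp, ← Spec.map_comp]
    congr 2
    refine CommRingCat.hom_ext (Ideal.Quotient.ringHom_ext (Polynomial.ringHom_ext (fun r => ?_) ?_))
    · show g j • φ (algebraMap A R r) = φ (SGA1t.artinSchreierShift A p a j (Ideal.Quotient.mk _ (Polynomial.C r)))
      rw [φ.commutes, smul_algebraMap]
      show _ = Polynomial.aeval θ (Polynomial.aeval (Polynomial.X + Polynomial.C (ψ j)) (Polynomial.C r))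
      simp
    · show g j • φ t = φ (SGA1t.artinSchreierShift A p a j (Ideal.Quotient.mk _ Polynomial.X))
      rw [hφt, hθ]
      show _ = Polynomial.aeval θ (Polynomial.aeval (Polynomial.X + Polynomial.C (ψ j)) Polynomial.X)
      simp [χ]

end Groth.Agent.S3721
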