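import Groth.Statements.S3724
import Groth.Agent.CdLib.InjAmplitude
-- import your own Groth.Agent.* helpers here

set_option autoImplicit false
universe u
open CategoryTheory CategoryTheory.Limits AlgebraicGeometry Opposite
attribute [local instance] HasDerivedCategory.standard
open EtDl

namespace Groth.Agent.S3724

/-- Let f : X -> S be a morphism of quasi-compact quasi-separated schemes with a compactification c, Λ a
commutative ring with n·1 = 0 for some n ≥ 1, and Rf^! any right adjoint of Rf_! : D^+(X_et, Λ) ->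
D^+(S_et, Λ). Let L in D^b(S_et, Λ) have injective dimension at most m, in the sense that Hom(F,
L[i]) = 0 for every sheaf of Λ-modules F on S_et and every i > m. Then Rf^! L has injective
dimension at most m in the same sense on X_et. -/
theorem result {X S : Scheme.{u}} [CompactSpace ↥X] [QuasiSeparatedSpace ↥X] [CompactSpace ↥S] [QuasiSeparatedSpace ↥S]
    {f : X ⟶ S} (c : DEt.Compactification f)
    (Λ : Type (u + 1)) [CommRing Λ] (n : ℕ) (hn : 0 < n) (hΛ : (n : Λ) = 0)
    (G : DerivedCategory.Plus (EtModW.Mod Λ S) ⥤ DerivedCategory.Plus (EtModW.Mod Λ X))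
    (adj : EtDl.RshriekPlus Λ c ⊣ G) (L : DerivedCategory.Plus (EtModW.Mod Λ S)) (a b : ℤ)
    (ha : L.IsGE a) (hb : L.IsLE b) (m : ℤ)
    (hL : ∀ (F : EtModW.Mod Λ S) (i : ℤ), m < i →
      Subsingleton ((DerivedCategory.Plus.singleFunctor (EtModW.Mod Λ S) 0).obj F ⟶ L⟦i⟧))
    (F : EtModW.Mod Λ X) (i : ℤ) (hi : m < i) :
    Subsingleton ((DerivedCategory.Plus.singleFunctor (EtModW.Mod Λ X) 0).obj F ⟶ (G.obj L)⟦i⟧) := by
  let T := (DerivedCategory.Plus.singleFunctor (EtModW.Mod Λ X) 0).obj F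
  have hS : DerivedCategory.Plus.IsGE ((EtDl.extZeroPlus Λ c.j).obj T) 0 :=
    CdLib.InjAmplitude.isGE_rightDerivedFunctorPlus (EtDl.extZeroMod Λ c.j) T 0
  have hR : DerivedCategory.Plus.IsGE ((EtDl.RshriekPlus Λ c).obj T) 0 :=
    CdLib.InjAmplitude.isGE_rightDerivedFunctorPlus (EtModW.push Λ c.fbar) _ 0
  have h := CdLib.InjAmplitude.plus_subsingleton_hom L a m hL ((EtDl.RshriekPlus Λ c).obj T) i hi
  let sh : (EtDl.RshriekPlus Λ c).obj (T⟦-i⟧) ≅ ((EtDl.RshriekPlus Λ c).obj T)⟦-i⟧ :=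
    (EtDl.pushPlus Λ c.fbar).mapIso (SpObjSS.rightDerivedShiftIso (EtDl.extZeroMod Λ c.j) T (-i)) ≪≫
      SpObjSS.rightDerivedShiftIso (EtModW.push Λ c.fbar) _ (-i)
  let eX := (shiftEquiv' (DerivedCategory.Plus (EtModW.Mod Λ X)) (-i) i (by omega)).toAdjunction.homEquiv
    T (G.obj L)
  let eS := (shiftEquiv' (DerivedCategory.Plus (EtModW.Mod Λ S)) (-i) i (by omega)).toAdjunction.homEquiv
    ((EtDl.RshriekPlus Λ c).obj T) L
  exact (eX.symm.trans ((adj.homEquiv (T⟦-i⟧) L).symm.trans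
    ((Iso.homCongr sh (Iso.refl _)).trans eS))).injective.subsingleton (β := (EtDl.RshriekPlus Λ c).obj T ⟶ L⟦i⟧)

end Groth.Agent.S3724
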