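import Groth.Statements.S3726
import Groth.Agent.CdLib.ClosedSupp
import Groth.Agent.CdLib.PlusFun
-- import your own Groth.Agent.* helpers here

set_option autoImplicit false
set_option backward.isDefEq.respectTransparency false
set_option backward.isDefEq.respectTransparency.types false
universe u
open CategoryTheory CategoryTheory.Limits AlgebraicGeometry Opposite
attribute [local instance] HasDerivedCategory.standard
open EtDl

namespace Groth.Agent.S3726

/-- Constant torsion coefficients, stated as the resulting adjunction: let i : Z -> X be a closed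
immersion of quasi-compact quasi-separated schemes with a compactification c, j : U -> X an open
immersion whose image is the complement of the image of i, and Λ a commutative ring with n·1 = 0 for
some n ≥ 1. Then the functor L ↦ i^* RΓ_Z(L), where Γ_Z(F) = ker(F -> j_* j^* F) is the sheaf of
sections supported in Z, from D^+(X_et, Λ) to D^+(Z_et, Λ), is right adjoint to Ri_! = R(ibar)_* ∘
j'_! computed through c. -/
theorem result {Z X U : Scheme.{u}} [CompactSpace ↥Z] [QuasiSeparatedSpace ↥Z]
    [CompactSpace ↥X] [QuasiSeparatedSpace ↥X]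
    {i : Z ⟶ X} [IsClosedImmersion i] (c : DEt.Compactification i) (j : U ⟶ X) [IsOpenImmersion j]
    (hij : Set.range j.base = (Set.range i.base)ᶜ)
    (Λ : Type (u + 1)) [CommRing Λ] (n : ℕ) (hn : 0 < n) (hΛ : (n : Λ) = 0) :
    Nonempty (EtDl.RshriekPlus Λ c ⊣ EtDl.secSuppPlus Λ j ⋙ EtDl.pullPlus Λ i) := by
  have : IsClosedImmersion (c.j ≫ c.fbar) := by rw [c.fac]; infer_instance
  have : IsClosedImmersion c.j := IsClosedImmersion.of_comp c.j c.fbar
  let e₁ : EtDl.extZeroMod Λ c.j ≅ EtModW.push Λ c.j := CdLib.ClosedSupp.extZeroModIsoPush Λ c.j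
  have : PreservesFiniteLimits (EtModW.pull Λ c.j) :=
    EtLC12.ModPullExact.pull_preservesFiniteLimits Λ c.j
  have : (EtModW.pull Λ c.j).PreservesMonomorphisms := inferInstance
  have : (EtModW.push Λ c.j).PreservesInjectiveObjects :=
    Functor.preservesInjectiveObjects_of_adjunction_of_preservesMonomorphisms
      (EtDl.pullPushModAdj Λ c.j)
  have : (EtDl.extZeroMod Λ c.j).PreservesInjectiveObjects :=
    ⟨fun {I} _ => Injective.of_iso (e₁.app I).symm (Functor.PreservesInjectiveObjects.injective_obj (F := EtModW.push Λ c.j) inferInstance)⟩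
  have : (EtModW.push Λ c.fbar).IsRightAdjoint := (EtDl.pullPushModAdj Λ c.fbar).isRightAdjoint
  have : PreservesFiniteLimits (EtModW.push Λ c.fbar) := inferInstance
  let θ : EtModW.push Λ i ≅ EtDl.extZeroMod Λ c.j ⋙ EtModW.push Λ c.fbar :=
    EtSix.pushModCongr Λ c.fac.symm ≪≫ (EtSix.pushModComp Λ c.fbar c.j).symm ≪≫
      Functor.isoWhiskerRight e₁.symm _
  obtain ⟨eL⟩ := CdLib.PlusFun.nonempty_compIso (EtDl.extZeroMod Λ c.j) (EtModW.push Λ c.fbar)
    (EtModW.push Λ i) θ
  have : PreservesFiniteLimits (EtModW.pull Λ i) :=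
    EtLC12.ModPullExact.pull_preservesFiniteLimits Λ i
  have : (EtModW.pull Λ i).IsLeftAdjoint := (EtDl.pullPushModAdj Λ i).isLeftAdjoint
  have : PreservesFiniteColimits (EtModW.pull Λ i) :=
    haveI : PreservesColimitsOfSize.{0, 0} (EtModW.pull Λ i) :=
      (EtDl.pullPushModAdj Λ i).leftAdjoint_preservesColimits
    PreservesColimitsOfSize.preservesFiniteColimits _
  obtain ⟨eR⟩ := CdLib.PlusFun.nonempty_compIso_exact (EtDl.secSuppMod Λ j) (EtModW.pull Λ i)
  let adj := CdLib.ClosedSupp.adj Λ i j hij
  have : PreservesFiniteColimits (EtModW.push Λ i) :=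
    haveI : PreservesColimitsOfSize.{0, 0} (EtModW.push Λ i) := adj.leftAdjoint_preservesColimits
    PreservesColimitsOfSize.preservesFiniteColimits _
  have : (EtModW.push Λ i).IsRightAdjoint := (EtDl.pullPushModAdj Λ i).isRightAdjoint
  have : PreservesFiniteLimits (EtModW.push Λ i) := inferInstance
  obtain ⟨a⟩ := H9Misc.PlusRB.nonempty_adj adj
  exact ⟨(a.ofNatIsoLeft eL).ofNatIsoRight eR⟩

end Groth.Agent.S3726
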