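import Groth.Statements.S3731
import Groth.Agent.H9Misc.TFactor
-- import your own Groth.Agent.* helpers here

set_option autoImplicit false
universe u v
open CategoryTheory CategoryTheory.Limits
open CategoryTheory.Pretriangulated
attribute [local instance] HasDerivedCategory.standard
open EtDl

namespace Groth.Agent.S3731

/-- Let A be an abelian category, k ≥ 0, and K_0 -> K_1 -> ... -> K_{2k} a chain of 2k morphisms in the
derived category of A such that every K_i has H^p(K_i) = 0 for p outside [0, k] and every morphism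
K_i -> K_{i+1} induces the zero map on H^p for all p < k. Let π : K_0 -> H^k(K_0)[-k] be the
morphism to the top cohomology object placed in degree k that induces the identity on H^k. Then the
composite K_0 -> K_{2k} factors through π. -/
theorem result {A : Type u} [Category.{v} A] [Abelian A] (k : ℕ)
    (K : ComposableArrows (DerivedCategory A) (2 * k))
    (hK : ∀ (i : ℕ) (hi : i ≤ 2 * k) (p : ℤ), p < 0 ∨ (k : ℤ) < p →
      IsZero ((DerivedCategory.homologyFunctor A p).obj (K.obj' i)))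
    (hf : ∀ (i : ℕ) (hi : i < 2 * k) (p : ℤ), p < (k : ℤ) →
      (DerivedCategory.homologyFunctor A p).map (K.map' i (i + 1)) = 0)
    (π : K.obj' 0 ⟶ (DerivedCategory.singleFunctor A (k : ℤ)).obj
      ((DerivedCategory.homologyFunctor A (k : ℤ)).obj (K.obj' 0)))
    (hπ : (DerivedCategory.homologyFunctor A (k : ℤ)).map π ≫
      (DerivedCategory.singleFunctorCompHomologyFunctorIso A (k : ℤ)).hom.app
        ((DerivedCategory.homologyFunctor A (k : ℤ)).obj (K.obj' 0)) = 𝟙 _) :
    ∃ φ : (DerivedCategory.singleFunctor A (k : ℤ)).obj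
        ((DerivedCategory.homologyFunctor A (k : ℤ)).obj (K.obj' 0)) ⟶ K.obj' (2 * k),
      K.map' 0 (2 * k) = π ≫ φ := by
  let tS := DerivedCategory.TStructure.t (C := A)
  have hGE : ∀ (i : ℕ) (hi : i ≤ 2 * k), (K.obj' i).IsGE 0 := fun i hi =>
    (DerivedCategory.isGE_iff _ _).2 fun p hp => hK i hi p (Or.inl hp)
  have hLE : ∀ (i : ℕ) (hi : i ≤ 2 * k), (K.obj' i).IsLE (k : ℤ) := fun i hi =>
    (DerivedCategory.isLE_iff _ _).2 fun p hp => hK i hi p (Or.inr hp)
  have key : ∀ (m : ℕ), m ≤ k → ∀ (i j : ℕ) (hij : i + m ≤ j) (hj : j ≤ 2 * k) (X : DerivedCategory A),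
      X.IsLE ((m : ℤ) - 1) → ∀ a : X ⟶ K.obj' i, a ≫ K.map' i j = 0 := by
    intro m
    induction m with
    | zero =>
      intro _ i j hij hj X hX a
      have := hGE i (by omega)
      have h0 : a = 0 := tS.zero_of_isLE_of_isGE a ((0 : ℕ) - 1 : ℤ) 0 (by omega) hX this
      rw [h0, zero_comp]
    | succ m ih =>
      intro hm i j hij hj X hX a
      have : X.IsLE (m : ℤ) := by
        have h1 : ((m + 1 : ℕ) : ℤ) - 1 = (m : ℤ) := by omega
        exact h1 ▸ hX
      obtain ⟨g, hg⟩ := Groth.Agent.H9Misc.exists_lift_truncLT (m : ℤ) (a ≫ K.map' i (i + 1))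
        (by rw [Functor.map_comp, hf i (by omega) (m : ℤ) (by omega), comp_zero])
      have hT : DerivedCategory.IsLE ((tS.truncLT (m : ℤ)).obj (K.obj' (i + 1))) ((m : ℤ) - 1) :=
        tS.isLE_truncLT_obj ..
      have h2 := ih (by omega) (i + 1) j (by omega) hj _ hT ((tS.truncLTι (m : ℤ)).app _)
      rw [K.map'_comp i (i + 1) j (by omega) (by omega) (by omega), ← Category.assoc, ← hg]
      exact (Category.assoc _ _ _).trans (by erw [h2]; exact comp_zero)
  have := hLE 0 (by omega)
  let T := (tS.truncLT (k : ℤ)).obj (K.obj' 0)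
  let ι : T ⟶ K.obj' 0 := (tS.truncLTι (k : ℤ)).app _
  let p : K.obj' 0 ⟶ (tS.truncGE (k : ℤ)).obj (K.obj' 0) := (tS.truncGEπ (k : ℤ)).app _
  have hT : DerivedCategory.IsLE T ((k : ℤ) - 1) := tS.isLE_truncLT_obj ..
  have h0 : ι ≫ K.map' 0 (2 * k) = 0 := key k le_rfl 0 (2 * k) (by omega) le_rfl T hT ι
  let S := (DerivedCategory.singleFunctor A (k : ℤ)).obj
    ((DerivedCategory.homologyFunctor A (k : ℤ)).obj (K.obj' 0))
  obtain ⟨g, hg⟩ := Triangle.yoneda_exact₂ _ (tS.triangleLTGE_distinguished (k : ℤ) (K.obj' 0))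
    (K.map' 0 (2 * k)) h0
  obtain ⟨q, hq⟩ := Triangle.yoneda_exact₂ _ (tS.triangleLTGE_distinguished (k : ℤ) (K.obj' 0))
    π (tS.zero_of_isLE_of_isGE (ι ≫ π) ((k : ℤ) - 1) (k : ℤ) (by omega) hT inferInstance)
  have hq' : π = p ≫ q := hq
  let Q' := (tS.truncGE (k : ℤ)).obj (K.obj' 0)
  have : DerivedCategory.IsGE Q' (k : ℤ) := tS.isGE_truncGE_obj ..
  have hQLE : DerivedCategory.IsLE Q' (k : ℤ) := inferInstanceAs
    (DerivedCategory.IsLE ((tS.truncGE (k : ℤ)).obj (K.obj' 0)) (k : ℤ))
  have hπiso : IsIso ((DerivedCategory.homologyFunctor A (k : ℤ)).map π) := by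
    have e := (Iso.comp_hom_eq_id ((DerivedCategory.singleFunctorCompHomologyFunctorIso A (k : ℤ)).app _)).1 hπ
    rw [e]
    exact inferInstance
  have hq2 : IsIso q := by
    rw [DerivedCategory.isIso_iff]
    intro n
    rcases lt_trichotomy n (k : ℤ) with h | h | h
    · exact isIso_of_source_target_iso_zero _ (DerivedCategory.isZero_of_isGE Q' k n h).isoZero (DerivedCategory.isZero_of_isGE S k n h).isoZero
    · subst h
      have hp := Groth.Agent.H9Misc.isIso_map_truncGEπ (k : ℤ) (k : ℤ) le_rfl (K.obj' 0)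
      rw [hq'] at hπiso
      erw [Functor.map_comp] at hπiso
      exact @IsIso.of_isIso_comp_left _ _ _ _ _ _ _ hp hπiso
    · exact isIso_of_source_target_iso_zero _ (DerivedCategory.isZero_of_isLE Q' k n h).isoZero (DerivedCategory.isZero_of_isLE S k n h).isoZero
  refine ⟨inv q ≫ g, hg.trans ?_⟩
  rw [hq']
  exact ((Category.assoc _ _ _).trans (congrArg (fun t => p ≫ t) (IsIso.hom_inv_id_assoc q g))).symm

end Groth.Agent.S3731
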