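import Groth.Statements.S3822
import Groth.Agent.Calg46.DiffPoly
import Groth.Agent.CAlgUI.DescentProj
import Mathlib

set_option autoImplicit false
universe u
open scoped TensorProduct
open PP16

namespace Groth.Agent.S3822

/-- Let B be an A-algebra, A → A' a faithfully flat ring map and B' = B ⊗_A A'. If B' is differentially
smooth over A' and its module of differentials is finitely generated, then B is differentially
smooth over A and its module of differentials is finitely generated. -/
theorem result (A B A' B' : Type u) [CommRing A] [CommRing B] [Algebra A B]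
    [CommRing A'] [CommRing B'] [Algebra A' B'] [Algebra A A'] [Algebra B B'] [Algebra A B']
    [IsScalarTower A A' B'] [IsScalarTower A B B'] [Algebra.IsPushout A B A' B'] [Module.FaithfullyFlat A A']
    (h : PP16.IsDiffSmooth A' B') (hfin : Module.Finite B' (KaehlerDifferential A' B')) :
    PP16.IsDiffSmooth A B ∧ Module.Finite B (KaehlerDifferential A B) := by
  classical
  haveI : Algebra.IsPushout A A' B B' := Algebra.IsPushout.symm inferInstance
  haveI : Module.FaithfullyFlat B B' :=
    Module.FaithfullyFlat.of_linearEquiv B (B ⊗[A] A') (Algebra.IsPushout.equiv A B A' B').symm.toLinearEquiv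
  let e := KaehlerDifferential.tensorKaehlerEquiv A A' B B'
  haveI := h.1
  haveI : Module.Finite B' (B' ⊗[B] KaehlerDifferential A B) := Module.Finite.equiv e.symm
  haveI : Module.Projective B' (B' ⊗[B] KaehlerDifferential A B) := Module.Projective.of_equiv e.symm
  haveI hproj : Module.Projective B (KaehlerDifferential A B) := Groth.Agent.CAlgUI.projective_descent (S := B')
  refine ⟨⟨hproj, fun ι _ => ⟨Groth.Agent.PPLib.phi A B, Groth.Agent.PPLib.phi_tprod_D A B, ?_,
    Groth.Agent.PPLib.phi_surjective A B⟩⟩, Module.Finite.of_finite_tensorProduct_of_faithfullyFlat B'⟩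
  obtain ⟨j, hj⟩ := Module.projective_def'.1 hproj
  let x : B → KaehlerDifferential.ideal A B := fun b =>
    ⟨(1 : B) ⊗ₜ[A] b - b ⊗ₜ[A] (1 : B), KaehlerDifferential.one_smul_sub_smul_one_mem_ideal A b⟩
  let x' : B → KaehlerDifferential.ideal A' B' := fun b =>
    ⟨(1 : B') ⊗ₜ[A'] algebraMap B B' b - algebraMap B B' b ⊗ₜ[A'] (1 : B'),
      KaehlerDifferential.one_smul_sub_smul_one_mem_ideal A' _⟩
  have hxD : Groth.Agent.Calg46.DiffPoly.dcls x = KaehlerDifferential.D A B :=
    funext fun b => (KaehlerDifferential.D_apply A B b).symm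
  refine Groth.Agent.Calg46.DiffPoly.injective_of_coords x
    (by rw [hxD]; exact KaehlerDifferential.span_range_derivation A B) j
    (Finsupp.linearCombination B id) hj fun P hP hev => ?_
  let σ := KaehlerDifferential A B
  let eσ : B' ⊗[B] (σ →₀ B) ≃ₗ[B'] (σ →₀ B') := TensorProduct.finsuppScalarRight B B' B' σ
  let j' : KaehlerDifferential A' B' →ₗ[B'] σ →₀ B' := eσ.toLinearMap ∘ₗ j.baseChange B' ∘ₗ e.symm.toLinearMap
  have hj' : ∀ b : B, j' (KaehlerDifferential.D A' B' (algebraMap B B' b)) =
      (j (KaehlerDifferential.D A B b)).mapRange (algebraMap B B') (map_zero _) := by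
    intro b
    have he : e ((1 : B') ⊗ₜ[B] KaehlerDifferential.D A B b) =
        KaehlerDifferential.D A' B' (algebraMap B B' b) := by simp [e]
    rw [← he]
    simp only [j', LinearMap.comp_apply, LinearEquiv.coe_coe, LinearEquiv.symm_apply_apply,
      LinearMap.baseChange_tmul]
    ext i
    simp [eσ, Algebra.smul_def]
  let P' := MvPolynomial.map (algebraMap B B') P
  have hev' : MvPolynomial.aeval (fun s => (x' s : B' ⊗[A'] B')) P' ∈
      KaehlerDifferential.ideal A' B' ^ (Fintype.card ι + 1) := by
    have h1 : MvPolynomial.aeval (fun s => (x' s : B' ⊗[A'] B')) P' =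
        PP16.tensorMap A B A' B' (MvPolynomial.aeval (fun s => (x s : B ⊗[A] B)) P) := by
      show _ = ((PP16.tensorMap A B A' B').toRingHom) _
      rw [MvPolynomial.aeval_def, MvPolynomial.eval₂_map, MvPolynomial.aeval_def, MvPolynomial.eval₂_comp_left]
      refine congrArg₂ (fun f g => MvPolynomial.eval₂ f g P) (RingHom.ext fun b => ?_) (funext fun s => ?_)
      · show _ = PP16.tensorMap A B A' B' (algebraMap B (B ⊗[A] B) b)
        rw [Algebra.TensorProduct.algebraMap_apply, PP16.tensorMap_tmul, map_one]
        rfl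
      · show _ = PP16.tensorMap A B A' B' (x s : B ⊗[A] B)
        simp only [x, x', map_sub, PP16.tensorMap_tmul, map_one]
    rw [h1]
    exact Ideal.pow_right_mono (PP16.ideal_map_tensorMap_le A B A' B') _
      (Ideal.map_pow (PP16.tensorMap A B A' B') (KaehlerDifferential.ideal A B) _ ▸ Ideal.mem_map_of_mem _ hev)
  have h1 := Groth.Agent.Calg46.DiffPoly.coords_eq_zero x'
    (Groth.Agent.PPLib.phi_bijective_of_isDiffSmooth A' B' h ι).1 (hP.map _) hev' j'
  refine MvPolynomial.map_injective (algebraMap B B') (FaithfulSMul.algebraMap_injective B B') ?_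
  rw [map_zero, ← h1]
  rw [MvPolynomial.aeval_def, MvPolynomial.eval₂_comp_left, MvPolynomial.aeval_def, MvPolynomial.eval₂_map]
  refine congrArg₂ (fun f g => MvPolynomial.eval₂ f g P) (RingHom.ext fun b => ?_) (funext fun s => ?_)
  · simp [MvPolynomial.algebraMap_eq]
  · show MvPolynomial.map (algebraMap B B') (Groth.Agent.PPLib.linForm (j (Groth.Agent.Calg46.DiffPoly.dcls x s))) = _
    rw [hxD, ← Groth.Agent.PPLib.map_linForm_mapRange, ← hj' s]
    exact congrArg (fun w => Groth.Agent.PPLib.linForm (j' w)) (KaehlerDifferential.D_apply A' B' (algebraMap B B' s))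

end Groth.Agent.S3822
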