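import Groth.Statements.S3825
import Groth.Agent.Calg46.QRLocal


set_option autoImplicit false
universe u
open QReg16

namespace Groth.Agent.S3825

/-- a) iff c) (affine local form): let A be a local ring and I a proper ideal generated by some
quasi-regular sequence. For a finite family (f_i) of elements of I, the following are equivalent:
(a) (f_i) is a quasi-regular sequence generating I; (c) the classes of the f_i form a basis of the
A/I-module I/I² (equivalently, b): (f_i) is a minimal system of generators of I). -/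
theorem result {A : Type u} [CommRing A] [IsLocalRing A]
    (I : Ideal A) (hI : I ≤ IsLocalRing.maximalIdeal A)
    (hq : ∃ (r : ℕ) (g : Fin r → A), CAlgX.IsQuasiRegular g ∧ Ideal.span (Set.range g) = I)
    {m : ℕ} (f : Fin m → I) :
    (CAlgX.IsQuasiRegular (fun i => (f i : A)) ∧ Ideal.span (Set.range fun i => (f i : A)) = I) ↔
      (LinearIndependent (A ⧸ I) (fun i => I.toCotangent (f i)) ∧
        Submodule.span (A ⧸ I) (Set.range fun i => I.toCotangent (f i)) = ⊤) := by
  classical
  obtain ⟨r, g, hg, hgI⟩ := hq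
  have hli : ∀ {n : ℕ} (e : Fin n → I), CAlgX.IsQuasiRegular (fun i => (e i : A)) →
      Ideal.span (Set.range fun i => (e i : A)) = I →
      LinearIndependent (A ⧸ I) (fun i => I.toCotangent (e i)) ∧
        Submodule.span (A ⧸ I) (Set.range fun i => I.toCotangent (e i)) = ⊤ := by
    intro n e hqr hspan
    refine ⟨Fintype.linearIndependent_iff.2 fun c hc i => ?_, ?_⟩
    · choose a ha using fun i => Ideal.Quotient.mk_surjective (c i)
      have h0 : I.toCotangent (∑ i, a i • e i) = 0 := by
        rw [map_sum, ← hc]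
        refine Finset.sum_congr rfl fun i _ => ?_
        rw [map_smul, ← ha i]
        rfl
      rw [Ideal.toCotangent_eq_zero, Submodule.coe_sum] at h0
      have hmem := hqr 1 (∑ j, MvPolynomial.C (a j) * MvPolynomial.X j)
        (MvPolynomial.IsHomogeneous.sum _ _ _ fun j _ => (MvPolynomial.isHomogeneous_X A j).C_mul _)
        (by simpa [hspan] using h0) (Finsupp.single i 1)
      rw [MvPolynomial.coeff_sum, Finset.sum_eq_single i, MvPolynomial.coeff_C_mul, MvPolynomial.coeff_X i,
        if_pos rfl, mul_one, hspan] at hmem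
      · rw [← ha i, Ideal.Quotient.eq_zero_iff_mem]
        exact hmem
      · intro j _ hj
        rw [MvPolynomial.coeff_C_mul, MvPolynomial.coeff_X, if_neg fun e => hj (Finsupp.single_left_injective one_ne_zero e),
          mul_zero]
      · simp
    · have h := Calg46.QR.span_toCotangent I e hspan
      rw [← top_le_iff, ← Submodule.restrictScalars_le A, Submodule.restrictScalars_top, ← h, Submodule.span_le]
      exact Submodule.subset_span
  refine ⟨fun ⟨h1, h2⟩ => hli f h1 h2, fun ⟨h1, h2⟩ => ?_⟩
  have hspan : Ideal.span (Set.range fun i => (f i : A)) = I := by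
    refine le_antisymm (Ideal.span_le.2 fun _ ⟨i, hi⟩ => hi ▸ (f i).2) ?_
    refine Submodule.le_of_le_smul_of_le_jacobson_bot (I := I) ?_
      ((IsLocalRing.jacobson_eq_maximalIdeal (⊥ : Ideal A) bot_ne_top).symm ▸ hI) fun a ha => ?_
    · exact hgI ▸ Submodule.fg_span (Set.finite_range g)
    obtain ⟨c, hc⟩ := (Submodule.mem_span_range_iff_exists_fun (A ⧸ I)).1
      (h2 ▸ Submodule.mem_top : I.toCotangent ⟨a, ha⟩ ∈ Submodule.span (A ⧸ I) _)
    choose b hb using fun i => Ideal.Quotient.mk_surjective (c i)
    have h0 : I.toCotangent (⟨a, ha⟩ - ∑ i, b i • f i) = 0 := by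
      rw [map_sub, map_sum, ← hc, sub_eq_zero]
      refine Finset.sum_congr rfl fun i _ => ?_
      rw [map_smul, ← hb i]
      rfl
    rw [Ideal.toCotangent_eq_zero, Submodule.coe_sub, Submodule.coe_sum, pow_two] at h0
    rw [← sub_add_cancel a (∑ i, b i * (f i : A)), add_comm, smul_eq_mul]
    exact Submodule.add_mem_sup (Submodule.sum_mem _ fun i _ => Ideal.mul_mem_left _ _ (Ideal.subset_span ⟨i, rfl⟩)) h0
  refine ⟨?_, hspan⟩
  haveI : Nontrivial (A ⧸ I) := Ideal.Quotient.nontrivial_iff.2 fun h => (IsLocalRing.maximalIdeal.isMaximal A).ne_top (top_le_iff.1 (h ▸ hI))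
  let e : Fin r → I := fun i => ⟨g i, hgI ▸ Ideal.subset_span ⟨i, rfl⟩⟩
  obtain ⟨hg1, hg2⟩ := hli e hg hgI
  obtain rfl : r = m := by
    have h := Nat.card_congr ((Module.Basis.mk hg1 hg2.ge).indexEquiv (Module.Basis.mk h1 h2.ge))
    simpa using h
  exact LinType.isQuasiRegular_of_span_eq g _ hg (hspan.trans hgI.symm)


end Groth.Agent.S3825
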