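import Groth.Statements.S3889
import Groth.Agent.EtLimCore.OfSystem

set_option autoImplicit false
open CategoryTheory CategoryTheory.Limits AlgebraicGeometry Opposite
universe u
open EtLim

set_option backward.isDefEq.respectTransparency false
set_option backward.isDefEq.respectTransparency.types false
set_option maxHeartbeats 1200000

namespace Groth.Agent.S3889

theorem HpullThen_eq_zero_of_isSplitMono {X Y : Scheme.{u}} (f : X ⟶ Y)
    [PreservesFiniteLimits (EtCoh.pull f)] {A : EtCoh.Ab Y} {M M' : EtCoh.Ab X}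
    (θ : (EtCoh.pull f).obj A ⟶ M) [IsSplitMono θ] (α : (EtCoh.pull f).obj A ⟶ M') (n : ℕ)
    (ξ : EtCoh.H Y A n) (h : EtLim.HpullThen f A θ n ξ = 0) : EtLim.HpullThen f A α n ξ = 0 := by
  have e := EtLimCore.HpullThen_comp f θ (retraction θ ≫ α) n ξ
  rw [h, Abelian.Ext.zero_comp, IsSplitMono.id_assoc] at e
  exact e.symm

/-- Let ι be a nonempty directed preordered set, (X_i) an inverse system of quasi-compact
quasi-separated schemes indexed by ι with affine transition morphisms u_ij : X_j -> X_i, and X a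
limit with projections u_i. Let (F_i) be abelian sheaves on the small etale sites of the X_i
together with maps φ_ij : u_ij^{-1} F_i -> F_j for i ≤ j satisfying the cocycle condition φ_ik =
φ_jk ∘ u_jk^{-1}(φ_ij) (a sheaf on the fibred etale site of the system), and let F_∞ be the colimit
on X of the sheaves u_i^{-1} F_i along the maps induced by the φ_ij; here F_∞ is presented as the
colimit of any diagram G identified with (u_i^{-1} F_i) compatibly with the φ_ij. Then the canonical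
maps H^n(X_i, F_i) -> H^n(X, F_∞) identify H^n(X, F_∞) with the directed colimit of the H^n(X_i,
F_i) (transition maps: pull back along u_ij, then apply φ_ij), in the concrete sense: every class on
X comes from some stage, and a class at stage j mapping to zero on X already maps to zero at some
stage k ≥ j. (Exactness of pullback of abelian sheaves, which always holds, is carried as an
instance hypothesis.) -/
theorem result {ι : Type u} [Preorder ι] [Nonempty ι] [IsDirected ι (· ≤ ·)]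
    (Xs : ιᵒᵖ ⥤ Scheme.{u}) (haff : ∀ ⦃a b : ιᵒᵖ⦄ (h : a ⟶ b), IsAffineHom (Xs.map h))
    (hqc : ∀ a, CompactSpace ↥(Xs.obj a)) (hqs : ∀ a, QuasiSeparatedSpace ↥(Xs.obj a))
    (c : Cone Xs) (hc : IsLimit c)
    [∀ a, PreservesFiniteLimits (EtCoh.pull (c.π.app a))]
    [∀ ⦃a b : ιᵒᵖ⦄ (h : a ⟶ b), PreservesFiniteLimits (EtCoh.pull (Xs.map h))]
    (F : ∀ i : ι, EtCoh.Ab (Xs.obj (op i)))
    (φ : ∀ ⦃i j : ι⦄ (h : i ≤ j), (EtCoh.pull (Xs.map (homOfLE h).op)).obj (F i) ⟶ F j)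
    (hφ : ∀ ⦃i j k : ι⦄ (hij : i ≤ j) (hjk : j ≤ k),
      φ (hij.trans hjk) = (EtLim.pullTrans Xs hij hjk).hom.app (F i) ≫
        (EtCoh.pull (Xs.map (homOfLE hjk).op)).map (φ hij) ≫ φ hjk)
    (G : ι ⥤ EtCoh.Ab c.pt) (ψ : ∀ i : ι, (EtCoh.pull (c.π.app (op i))).obj (F i) ≅ G.obj i)
    (hψ : ∀ ⦃i j : ι⦄ (hij : i ≤ j), (ψ i).hom ≫ G.map (homOfLE hij) =
      (EtLim.pullTransCone Xs c hij).hom.app (F i) ≫ (EtCoh.pull (c.π.app (op j))).map (φ hij) ≫ (ψ j).hom)
    (n : ℕ) :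
    (∀ ξ : EtCoh.H c.pt (colimit G) n, ∃ (j : ι) (ξj : EtCoh.H (Xs.obj (op j)) (F j) n),
        EtLim.HpullThen (c.π.app (op j)) (F j) ((ψ j).hom ≫ colimit.ι G j) n ξj = ξ) ∧
    (∀ (j : ι) (ξj : EtCoh.H (Xs.obj (op j)) (F j) n),
      EtLim.HpullThen (c.π.app (op j)) (F j) ((ψ j).hom ≫ colimit.ι G j) n ξj = 0 →
        ∃ (k : ι) (hk : j ≤ k), EtLim.HpullThen (Xs.map (homOfLE hk).op) (F j) (φ hk) n ξj = 0) := by
  have hc' : IsLimit (EtLimCore.lvlCone Xs c) :=
    (Functor.Initial.isLimitWhiskerEquiv (EtLimCore.Lvl.monotone_i (ι := ι)).functor.op c).symm hc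
  have h1 : ∀ {k l : (EtLimCore.Lvl ι)ᵒᵖ} (a : k ⟶ l), IsAffineHom ((EtLimCore.lvlSys Xs).map a) :=
    fun a => haff _
  have h2 : ∀ k, CompactSpace ↥((EtLimCore.lvlSys Xs).obj k) := fun k => hqc _
  have h3 : ∀ k, QuasiSeparatedSpace ↥((EtLimCore.lvlSys Xs).obj k) := fun k => hqs _
  have h4 : ∀ k, PreservesFiniteLimits (EtCoh.pull ((EtLimCore.lvlCone Xs c).π.app k)) := fun k =>
    inferInstanceAs (PreservesFiniteLimits (EtCoh.pull (c.π.app (op k.unop.i))))
  have h5 : ∀ {k l : (EtLimCore.Lvl ι)ᵒᵖ} (a : k ⟶ l),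
      PreservesFiniteLimits (EtCoh.pull ((EtLimCore.lvlSys Xs).map a)) := fun a =>
    inferInstanceAs (PreservesFiniteLimits (EtCoh.pull (Xs.map _)))
  let D := EtLimCore.sysData Xs c F φ hφ G ψ hψ
  have hD : D.sys.IsColim := EtLimCore.sysData_isColim Xs c F φ hφ G ψ hψ
  refine ⟨fun ξ => ?_, fun j ξj h => ?_⟩
  · obtain ⟨k, -, ξ', hξ⟩ := D.exists_H hc' hD n ξ (op ⟨Classical.arbitrary ι, 0⟩)
    rw [EtLimCore.sysData_ψt] at hξ
    exact ⟨k.unop.i, ξ', hξ⟩
  · have h' : EtLim.HpullThen ((EtLimCore.lvlCone Xs c).π.app (op ⟨j, 0⟩)) (D.G _) (D.ψt _) n ξj = 0 := by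
      rw [EtLimCore.sysData_ψt]
      exact h
    obtain ⟨l, a, ha⟩ := D.exists_H_eq_zero hc' hD n (op ⟨j, 0⟩) ξj h'
    have ha' : EtLim.HpullThen ((EtLimCore.lvlSys Xs).map a) (F j)
        (((EtCoh.pullPushAdj ((EtLimCore.lvlSys Xs).map a)).homEquiv _ _).symm (EtLimCore.lvlφ Xs F φ a)) n ξj = 0 := ha
    by_cases e : (op ⟨j, 0⟩ : (EtLimCore.Lvl ι)ᵒᵖ) = l
    · subst e
      refine ⟨j, le_rfl, ?_⟩
      rw [EtLimCore.lvlφ_self] at ha'
      have h6 := EtLimCore.isSplitMono_adjunct_idPushIso _ (EtLimCore.lvl_map_eq_id Xs a) (F j)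
      exact @HpullThen_eq_zero_of_isSplitMono _ _ _ _ _ _ _ _ h6 (φ (le_refl j)) n ξj ha'
    · refine ⟨l.unop.i, EtLimCore.Lvl.le_i a.unop.le, ?_⟩
      rw [EtLimCore.lvlφ_ne Xs F φ a e, EtLimCore.adjφ] at ha'
      have e2 := ((EtCoh.pullPushAdj (Xs.map (homOfLE (EtLimCore.Lvl.le_i a.unop.le)).op)).homEquiv
        (F j) (F l.unop.i)).symm_apply_apply (φ (EtLimCore.Lvl.le_i a.unop.le))
      exact (congrArg (fun q => EtLim.HpullThen _ (F j) q n ξj) e2).symm.trans ha'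

end Groth.Agent.S3889
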