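import Groth.Statements.S3957
import Groth.Agent.RedRk29.LocalGen

set_option autoImplicit false
open CategoryTheory MonoidalCategory CartesianMonoidalCategory MonObj GrpObj AlgebraicGeometry
universe u
open RedSub

namespace Groth.Agent.S3957

/-- Let A be a local ring, S = Spec A, and G a split reductive S-group with a pinning D which is simply
connected (the coroots span the coweight lattice). Then G(S) is generated by the sections of the
root groups u_a(G_a(S)) for a a simple root or the negative of a simple root. -/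
theorem result {A : Type u} [CommRing A] [IsLocalRing A]
    {G : Over (Spec (CommRingCat.of A))} [GrpObj G] (D : Red.Pinning G)
    (hsc : Submodule.span ℤ (Set.range D.P.coroot) = ⊤) :
    Subgroup.closure
        {g : 𝟙_ (Over (Spec (CommRingCat.of A))) ⟶ G | ∃ a : D.idx, (a ∈ D.base.support ∨ D.P.reflectionPerm a a ∈ D.base.support) ∧
            ∃ x : 𝟙_ _ ⟶ Red.Ga (Spec (CommRingCat.of A)), g = x ≫ D.u a} = ⊤ := by
  have hH : ∀ a : D.idx, a ∈ D.base.support ∨ D.P.reflectionPerm a a ∈ D.base.support →
      ∀ x : 𝟙_ _ ⟶ Red.Ga (Spec (CommRingCat.of A)), x ≫ D.u a ∈ Subgroup.closure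
        {g : 𝟙_ (Over (Spec (CommRingCat.of A))) ⟶ G | ∃ a : D.idx, (a ∈ D.base.support ∨ D.P.reflectionPerm a a ∈ D.base.support) ∧
            ∃ x : 𝟙_ _ ⟶ Red.Ga (Spec (CommRingCat.of A)), g = x ≫ D.u a} :=
    fun a ha x => Subgroup.subset_closure ⟨a, ha, x, rfl⟩
  exact eq_top_iff.mpr fun g _ =>
    Groth.Agent.RedRk29.mem_of_local D _ (Groth.Agent.RedRk29.torus_mem D hH hsc) hH g

end Groth.Agent.S3957
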