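import Groth.Statements.S3958
import Groth.Agent.RedRk29.DualPinning

set_option autoImplicit false
open CategoryTheory MonoidalCategory CartesianMonoidalCategory MonObj GrpObj AlgebraicGeometry
universe u
open RedSub

namespace Groth.Agent.S3958

/-- Let G be pinned, H a group over S, and f, g : G → H two homomorphisms which agree on T and on U_α
and U_{-α} for every simple root α. Then f = g. -/
theorem result {S : Scheme.{u}} {G H : Over S} [GrpObj G] [GrpObj H]
    (D : Red.Pinning G) (f g : G ⟶ H) [IsMonHom f] [IsMonHom g] (hT : D.i ≫ f = D.i ≫ g)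
    (hU : ∀ a : D.idx, a ∈ D.base.support → D.u a ≫ f = D.u a ≫ g ∧
      D.u (D.P.reflectionPerm a a) ≫ f = D.u (D.P.reflectionPerm a a) ≫ g) :
    f = g :=
  Groth.Agent.RedRk29.hom_ext_simple D f g hT hU

end Groth.Agent.S3958
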