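import Groth.Statements.S4007
import Groth.Agent.HensMorse.Fibre

set_option autoImplicit false
universe u
open VanCyc IsLocalRing Groth.Agent.HensMorse Matrix

namespace Groth.Agent.S4007

/-- The table of `x₀² + Q'(x₁, …)`. -/
def coneTable {k : Type u} [Field k] {n : ℕ} (a' : Fin n → Fin n → k) :
    Fin (n + 1) → Fin (n + 1) → k :=
  Fin.cons (Fin.cons 1 0) fun i => Fin.cons 0 (a' i)

theorem quadOrd_coneTable {k : Type u} [Field k] {n : ℕ} (a' : Fin n → Fin n → k)
    (ha' : VanCyc.QuadNondeg a') : VanCyc.QuadOrd (coneTable a') := by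
  intro v h1 h2
  have hw : (fun i : Fin n => v i.succ) = 0 := by
    have h3 : VanCyc.polarMatrix a' *ᵥ (fun i : Fin n => v i.succ) = 0 := funext fun i => by
      have := congrFun h2 i.succ
      simpa [mulVec, dotProduct, Fin.sum_univ_succ, VanCyc.polarMatrix, coneTable,
        Fin.succ_ne_zero, Fin.succ_lt_succ_iff] using this
    have := congrArg ((VanCyc.polarMatrix a')⁻¹ *ᵥ ·) h3
    simpa [Matrix.mulVec_mulVec, Matrix.nonsing_inv_mul _ ha'] using this
  have hw' : ∀ i : Fin n, v i.succ = 0 := fun i => congrFun hw i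
  have h0 : v 0 = 0 := by
    simp only [VanCyc.quadEval, Fin.sum_univ_succ, coneTable] at h1
    simpa [hw'] using h1
  exact funext (Fin.cases h0 hw')

theorem aeval_coneTable {k : Type u} [Field k] {H : Type u} [CommRing H] [Algebra k H] {n : ℕ}
    (a' : Fin n → Fin n → k) (x : Fin (n + 1) → H) :
    MvPolynomial.aeval x (VanCyc.quadPoly (coneTable a')) =
      x 0 ^ 2 + MvPolynomial.aeval (x ∘ Fin.succ) (VanCyc.quadPoly a') := by
  simp only [VanCyc.quadPoly, map_sum, Fin.sum_univ_succ, coneTable]
  simp [Fin.succ_ne_zero, pow_two, apply_ite (MvPolynomial.aeval (R := k) _)]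

/-- Case of an algebraically closed ground field k: let O be a local k-algebra essentially of finite
type whose residue field is k (the local ring of a scheme of finite type over k at a closed point)
having an ordinary quadratic singularity of dimension n (that is, the completion of O is
k-isomorphic to k[[x_0, …, x_n]]/(f) with f congruent modulo terms of order at least 3 to an
ordinary quadratic form). Then there is an ordinary quadratic form Q in n + 1 variables over k such
that the henselisation of O is k-isomorphic to the henselisation of k[x_0, …, x_n]/(Q) at the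
origin. (The binder asserting that the origin ideal is prime is always satisfiable.) -/
theorem result (k : Type u) [Field k] [IsAlgClosed k]
    (O : Type u) [CommRing O] [IsLocalRing O] [Algebra k O] [Algebra.EssFiniteType k O]
    (hk : ∀ y : O, ∃ c : k, y - algebraMap k O c ∈ IsLocalRing.maximalIdeal O)
    (n : ℕ) (hq : VanCyc.IsOrdQuadSing k O n)
    (Oh : Type u) [CommRing Oh] [IsLocalRing Oh] [Algebra O Oh] [IsLocalHom (algebraMap O Oh)]
    [Hensel.IsHenselization O Oh] [Algebra k Oh] [IsScalarTower k O Oh] :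
    ∃ a : Fin (n + 1) → Fin (n + 1) → k, VanCyc.QuadOrd a ∧
      ∀ [(VanCyc.originQuot k a 0).IsPrime] (C : Type u) [CommRing C] [IsLocalRing C]
        [Algebra (Localization.AtPrime (VanCyc.originQuot k a 0)) C]
        [IsLocalHom (algebraMap (Localization.AtPrime (VanCyc.originQuot k a 0)) C)]
        [Hensel.IsHenselization (Localization.AtPrime (VanCyc.originQuot k a 0)) C]
        [Algebra k C] [IsScalarTower k (Localization.AtPrime (VanCyc.originQuot k a 0)) C],
        Nonempty (Oh ≃ₐ[k] C) := by
  -- a model of `O` as a local ring of a finitely presented algebra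
  let B₀ := Algebra.EssFiniteType.subalgebra k O
  haveI : Algebra.FinitePresentation k B₀ :=
    Algebra.FinitePresentation.of_finiteType.1 inferInstance
  set P : Ideal B₀ := (maximalIdeal O).comap (algebraMap B₀ O) with hPdef
  haveI : IsLocalization.AtPrime O P := by
    show IsLocalization P.primeCompl O
    have : P.primeCompl = Algebra.EssFiniteType.submonoid k O := by
      ext b
      simp [P, Ideal.primeCompl, Algebra.EssFiniteType.submonoid, IsUnit.mem_submonoid_iff]
    rw [this]
    infer_instance
  haveI : P.IsMaximal := by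
    refine Ideal.isMaximal_iff.2 ⟨fun h => (maximalIdeal.isMaximal O).ne_top
      ((Ideal.eq_top_iff_one _).2 (by simpa [P] using h)), fun J b hJ hb hbJ => ?_⟩
    obtain ⟨c, hc⟩ := hk (algebraMap B₀ O b)
    have h1 : b - algebraMap k B₀ c ∈ P := by
      refine Ideal.mem_comap.2 ?_
      rw [map_sub, ← IsScalarTower.algebraMap_apply]
      exact hc
    have hc0 : c ≠ 0 := fun h => hb (by simpa [h] using h1)
    have h2 := Ideal.mul_mem_left J (algebraMap k B₀ c⁻¹) (sub_mem hbJ (hJ h1))
    rwa [sub_sub_cancel, ← map_mul, inv_mul_cancel₀ hc0, map_one] at h2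
  let BP := Localization.AtPrime P
  let e₀ : BP ≃ₐ[B₀] O := IsLocalization.algEquiv P.primeCompl BP O
  let q : BP →+* O := e₀.toRingEquiv.toRingHom
  have hm : maximalIdeal k = ⊥ := IsLocalRing.maximalIdeal_eq_bot
  -- the residue field of the base
  let er : k ≃+* ResidueField k := RingEquiv.ofBijective (residue k)
    ⟨(residue k).injective, residue_surjective⟩
  letI : Algebra (ResidueField k) k := er.symm.toRingHom.toAlgebra
  letI : Algebra (ResidueField k) O := ((algebraMap k O).comp er.symm.toRingHom).toAlgebra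
  have hrO : ∀ a : k, algebraMap (ResidueField k) O (residue k a) = algebraMap k O a := fun a =>
    congrArg (algebraMap k O) (er.symm_apply_apply a)
  haveI : IsNoetherianRing O := Algebra.EssFiniteType.isNoetherianRing k O
  obtain ⟨f, hf, ⟨e⟩⟩ := hq
  have hfv : f ∈ PSLib.vars (n + 1) k :=
    Ideal.pow_le_self two_ne_zero ((noLowTerms_iff_mem_sq f).1 hf.1)
  obtain ⟨ρ, hρ₁, hρ₂, -⟩ := exists_rho_local hfv e
  let rk : k →ₗ[ResidueField k] ResidueField k :=
    { toFun := residue k
      map_add' := map_add _
      map_smul' := fun c a => by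
        obtain ⟨c, rfl⟩ := residue_surjective c
        show residue k (er.symm (er c) * a) = residue k c * residue k a
        rw [er.symm_apply_apply, map_mul] }
  let D : Point (ResidueField k) k O f :=
    { T := O
      ι := RingHom.id O
      r := rk
      r_one := map_one (residue k)
      rT := AddMonoidHom.id O
      rT_smul := fun a o => by
        show algebraMap k O a * o = o * algebraMap (ResidueField k) O (residue k a)
        rw [hrO, mul_comm]
      rT_mul := fun _ _ => rfl
      ι_alg := fun c => rfl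
      ρ := ρ
      map_eq := by rw [Ideal.map_id]; exact hρ₁
      mem_pow := fun i t ht => by rw [Ideal.map_id]; exact hρ₂ i t ht }
  -- `Oh` as a henselization of `BP`
  letI : Algebra BP Oh := ((algebraMap O Oh).comp q).toAlgebra
  haveI : IsLocalHom (algebraMap BP Oh) := ⟨fun b hb => by
    have h1 : IsUnit (q b) := IsUnit.of_map (algebraMap O Oh) _ hb
    exact (isUnit_map_iff e₀.toRingEquiv b).1 h1⟩
  haveI : Hensel.IsHenselization BP Oh := by
    refine ⟨Hensel.IsHenselization.henselian O, fun T _ _ g hg => ?_⟩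
    let g' : O →+* T := g.comp e₀.symm.toRingEquiv.toRingHom
    have hg' : IsLocalHom g' := ⟨fun z hz => (isUnit_map_iff e₀.symm.toRingEquiv z).1
      (hg.map_nonunit _ hz)⟩
    obtain ⟨h, hh, hu⟩ := Hensel.IsHenselization.universal (R := O) (S := Oh) T g' hg'
    refine ⟨h, RingHom.ext fun b => ?_, fun h' hh' => hu h' (RingHom.ext fun z => ?_)⟩
    · show h (algebraMap O Oh (q b)) = g b
      refine (DFunLike.congr_fun hh (q b)).trans ?_
      show g (e₀.symm (e₀ b)) = g b
      rw [e₀.symm_apply_apply]
    · show h' (algebraMap O Oh z) = g (e₀.symm z)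
      rw [← hh']
      show _ = h' (algebraMap O Oh (e₀ (e₀.symm z)))
      rw [e₀.apply_symm_apply]
  have hqk : ∀ a : k, q (algebraMap k BP a) = algebraMap k O a := fun a => by
    rw [IsScalarTower.algebraMap_apply k B₀ BP, IsScalarTower.algebraMap_apply k B₀ O]
    exact e₀.commutes _
  haveI : IsScalarTower k BP Oh := .of_algebraMap_eq fun a => by
    show _ = algebraMap O Oh (q _)
    rw [hqk, ← IsScalarTower.algebraMap_apply]
  have hresB : ∀ b : B₀, ∃ a : k, b - algebraMap k B₀ a ∈ P := fun b => by
    obtain ⟨c, hc⟩ := hk (algebraMap B₀ O b)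
    refine ⟨c, ?_⟩
    refine Ideal.mem_comap.2 ?_
    rw [map_sub, ← IsScalarTower.algebraMap_apply]
    exact hc
  obtain ⟨H, _, _, _, x, hH, F, j, Z, ⟨e₁⟩, hQ, hOrd, hiff⟩ :=
    exists_presentation B₀ P (fun a ha => by
      rw [show a = 0 by rw [hm] at ha; exact ha, map_zero]; exact zero_mem _) hresB O q
      e₀.surjective (fun a => (hqk a).trans (hrO a).symm)
      (by rw [(RingHom.injective_iff_ker_eq_bot q).1 e₀.injective]; exact bot_le)
      (Nat.succ_pos n) hf D Oh
  have hzero : ∀ {b : k}, b ∈ maximalIdeal k → b = 0 := fun {b} hb => by rw [hm] at hb; exact hb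
  by_cases hdet : (Z + Zᵀ).det = 0
  · obtain ⟨a', b, c, φ, v, ha', hb, hc, hv, hφ⟩ := hQ.exists_normalForm hOrd hdet
    refine ⟨coneTable a', quadOrd_coneTable a' ha', ?_⟩
    intro _ C _ _ _ _ _ _ _
    rw [hzero hb, hzero hc, map_zero, zero_mul, add_zero, add_zero, ← aeval_coneTable a' x] at hφ
    obtain ⟨e₂⟩ := nonempty_quotient_algEquiv F φ v _ hv hφ
    obtain ⟨e₃⟩ := nonempty_algEquiv_quadModel hH (coneTable a') 0 C
    rw [map_zero, sub_zero] at e₃
    exact ⟨e₁.symm.trans (e₂.trans e₃)⟩
  · obtain ⟨a, b, φ, ha, hb, hφ⟩ :=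
      hH.exists_normalForm_nondeg F hQ.1 hQ.2.1 (hQ.isUnit_jac hdet)
    obtain rfl := hzero hb
    refine ⟨a, fun v _ h => ?_, ?_⟩
    · have := congrArg ((VanCyc.polarMatrix a)⁻¹ *ᵥ ·) h
      simpa [Matrix.mulVec_mulVec, Matrix.nonsing_inv_mul _ ha] using this
    intro _ C _ _ _ _ _ _ _
    obtain ⟨e₂⟩ := nonempty_quotient_algEquiv F φ 1 _ isUnit_one (hφ.trans (one_mul _).symm)
    obtain ⟨e₃⟩ := nonempty_algEquiv_quadModel hH a 0 C
    exact ⟨e₁.symm.trans (e₂.trans e₃)⟩

end Groth.Agent.S4007
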