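import Groth.Statements.S4008
import Groth.Agent.HensMorse.Fibre
import Groth.Agent.HensMorse.Radicial

set_option autoImplicit false
universe u
open VanCyc IsLocalRing Groth.Agent.HensMorse

namespace Groth.Agent.S4008

/-- Let A be a henselian local ring with residue field k, B₀ a finitely presented A-algebra and P a
maximal ideal of B₀ above the maximal ideal of A, with B = (B₀)_P flat over A and residue field B₀/P
purely inseparable over k (a closed point x of the closed fibre of X = Spec B₀ -> S = Spec A with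
k(x) radicial over k). Suppose the closed fibre B/𝔪_A B has at its closed point a non-degenerate
quadratic singularity of dimension n. Then there are a non-degenerate quadratic form Q in n + 1
variables with coefficients in A (coefficient matrix a) and an element b of the maximal ideal of A
such that the henselisation of B is A-isomorphic to the henselisation of A[x_0, …, x_n]/(Q - b) at
the origin of its closed fibre. -/
theorem result (A : Type u) [CommRing A] [HenselianLocalRing A]
    (B₀ : Type u) [CommRing B₀] [Algebra A B₀] [Algebra.FinitePresentation A B₀]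
    (P : Ideal B₀) [P.IsMaximal] (hP : (IsLocalRing.maximalIdeal A).map (algebraMap A B₀) ≤ P)
    (hPi : ∀ y : B₀, ∃ (e : ℕ) (c : A),
      y ^ ringExpChar (IsLocalRing.ResidueField A) ^ e - algebraMap A B₀ c ∈ P)
    [Module.Flat A (Localization.AtPrime P)] (n : ℕ)
    (hq : VanCyc.IsNondegQuadPt (VanCyc.fibHom A (Localization.AtPrime P)) n)
    (Bh : Type u) [CommRing Bh] [IsLocalRing Bh] [Algebra (Localization.AtPrime P) Bh]
    [IsLocalHom (algebraMap (Localization.AtPrime P) Bh)] [Hensel.IsHenselization (Localization.AtPrime P) Bh]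
    [Algebra A Bh] [IsScalarTower A (Localization.AtPrime P) Bh] :
    ∃ (a : Fin (n + 1) → Fin (n + 1) → A) (b : A), VanCyc.QuadNondeg a ∧ b ∈ IsLocalRing.maximalIdeal A ∧
      ∀ [(VanCyc.originQuot A a b).IsPrime] (C : Type u) [CommRing C] [IsLocalRing C]
        [Algebra (Localization.AtPrime (VanCyc.originQuot A a b)) C]
        [IsLocalHom (algebraMap (Localization.AtPrime (VanCyc.originQuot A a b)) C)]
        [Hensel.IsHenselization (Localization.AtPrime (VanCyc.originQuot A a b)) C]
        [Algebra A C] [IsScalarTower A (Localization.AtPrime (VanCyc.originQuot A a b)) C],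
        Nonempty (Bh ≃ₐ[A] C) := by
  let BP := Localization.AtPrime P
  let k := ResidueField A
  let L := AlgebraicClosure k
  let O := VanCyc.fibQuot A BP
  letI : Algebra k O := (VanCyc.fibHom A BP).toAlgebra
  haveI : IsLocalRing O := isLocalRing_fibQuot B₀ P hP
  haveI : Algebra.EssFiniteType k O := essFiniteType_fibQuot B₀ P
  haveI : IsNoetherianRing O := Algebra.EssFiniteType.isNoetherianRing k O
  let q : BP →+* O := Ideal.Quotient.mk _
  have hqm : ∀ z, q z ∈ maximalIdeal O ↔ z ∈ maximalIdeal BP := fun z => by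
    haveI : IsLocalHom q := IsLocalHom.of_surjective q Ideal.Quotient.mk_surjective
    rw [mem_maximalIdeal, mem_nonunits_iff, isUnit_map_iff, mem_maximalIdeal, mem_nonunits_iff]
  have hqa : ∀ a : A, algebraMap k O (residue A a) = q (algebraMap A BP a) := fun a => rfl
  have hpi : ∀ o : O, ∃ (e : ℕ) (c : k),
      o ^ ringExpChar k ^ e - algebraMap k O c ∈ maximalIdeal O := by
    intro o
    obtain ⟨z, rfl⟩ := Ideal.Quotient.mk_surjective o
    obtain ⟨y, hy⟩ := exists_sub_mem_maximalIdeal B₀ P z
    obtain ⟨e, c, hc⟩ := hPi y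
    refine ⟨e, residue A c, ?_⟩
    show q z ^ _ - _ ∈ _
    rw [hqa, ← map_pow, ← map_sub, hqm]
    set N := ringExpChar k ^ e
    have h1 : algebraMap B₀ BP (y ^ N - algebraMap A B₀ c) ∈ maximalIdeal BP :=
      (IsLocalization.AtPrime.to_map_mem_maximal_iff BP P _).2 hc
    rw [map_sub, map_pow, ← IsScalarTower.algebraMap_apply A B₀ BP] at h1
    obtain ⟨w, hw⟩ := sub_dvd_pow_sub_pow z (algebraMap B₀ BP y) N
    have h2 := add_mem (Ideal.mul_mem_right w _ hy) h1
    rw [← hw] at h2
    rwa [sub_add_sub_cancel] at h2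
  obtain ⟨M, hM⟩ := Ideal.exists_maximal (TensorProduct k L O)
  have hn : VanCyc.IsNondegQuadSing L (Localization.AtPrime M) n := hq M
  have hres : ∀ o : O, ∃ c : k, o - algebraMap k O c ∈ maximalIdeal O :=
    rational_of_nondeg hpi M hn
  obtain ⟨f, hf, ⟨e⟩⟩ := hn
  have hfv : f ∈ PSLib.vars (n + 1) L :=
    Ideal.pow_le_self two_ne_zero ((noLowTerms_iff_mem_sq f).1 hf.1)
  obtain ⟨D⟩ := exists_point_of_rational hres M hfv e
  have hresB : ∀ b : B₀, ∃ a : A, b - algebraMap A B₀ a ∈ P := fun b => by
    obtain ⟨c, hc⟩ := hres (q (algebraMap B₀ BP b))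
    obtain ⟨a, rfl⟩ := residue_surjective c
    refine ⟨a, ?_⟩
    rw [hqa, ← map_sub, hqm, IsScalarTower.algebraMap_apply A B₀ BP, ← map_sub] at hc
    exact (IsLocalization.AtPrime.to_map_mem_maximal_iff BP P _).1 hc
  obtain ⟨H, _, _, _, x, hH, F, j, Z, ⟨e₁⟩, hQ, hOrd, hiff⟩ :=
    exists_presentation B₀ P (fun a ha => hP (Ideal.mem_map_of_mem _ ha)) hresB O q
      Ideal.Quotient.mk_surjective (fun a => rfl) (by rw [Ideal.mk_ker]) (Nat.succ_pos n)
      (ordQuadSeries_of_nondeg hf) D Bh
  obtain ⟨a, b, φ, ha, hb, hφ⟩ :=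
    hH.exists_normalForm_nondeg F hQ.1 hQ.2.1 (hQ.isUnit_jac (hiff.1 hf))
  refine ⟨a, b, ha, hb, ?_⟩
  intro _ C _ _ _ _ _ _ _
  obtain ⟨e₂⟩ := nonempty_quotient_algEquiv F φ 1 _ isUnit_one (hφ.trans (one_mul _).symm)
  obtain ⟨e₃⟩ := nonempty_algEquiv_quadModel hH a b C
  exact ⟨e₁.symm.trans (e₂.trans e₃)⟩

end Groth.Agent.S4008
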