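import Groth.Statements.S4014
import Groth.Agent.HensMorse.Fibre

set_option autoImplicit false
universe u
open VanCyc IsLocalRing Groth.Agent.HensMorse Matrix

namespace Groth.Agent.S4014

/-- Let A be a henselian local ring whose residue field k has characteristic 2, B₀ a finitely presented
A-algebra and P a maximal ideal of B₀ above the maximal ideal of A, with B = (B₀)_P flat over A and
B₀/P = k (a k-rational point). Suppose the closed fibre B/𝔪_A B has at its closed point an ordinary
quadratic singularity of even dimension 2m which is degenerate, i.e. not non-degenerate (in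
characteristic 2 and even dimension every ordinary quadratic point is degenerate). Then there are a
non-degenerate quadratic form Q' in 2m variables over A (coefficient matrix a'), b in the maximal
ideal of A and c in A such that the henselisation of B is A-isomorphic to the henselisation of
A[x_0, …, x_{2m}]/(x_0² + b x_0 + c + Q'(x_1, …, x_{2m})) at the point of its closed fibre where
x_1, …, x_{2m} vanish (the unique maximal ideal containing 𝔪_A and x_1, …, x_{2m}). (The published
statement allows a residue field purely inseparable over k; there it fails, because the quadratic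
form of the model has its coefficients in A, so the rational case is taken here.) -/
theorem result (A : Type u) [CommRing A] [HenselianLocalRing A]
    (hA : CharP (IsLocalRing.ResidueField A) 2)
    (B₀ : Type u) [CommRing B₀] [Algebra A B₀] [Algebra.FinitePresentation A B₀]
    (P : Ideal B₀) [P.IsMaximal] (hP : (IsLocalRing.maximalIdeal A).map (algebraMap A B₀) ≤ P)
    (hPi : ∀ y : B₀, ∃ c : A, y - algebraMap A B₀ c ∈ P)
    [Module.Flat A (Localization.AtPrime P)] (m : ℕ)
    (hq : VanCyc.IsOrdQuadPt (VanCyc.fibHom A (Localization.AtPrime P)) (2 * m))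
    (hq' : ¬ VanCyc.IsNondegQuadPt (VanCyc.fibHom A (Localization.AtPrime P)) (2 * m))
    (Bh : Type u) [CommRing Bh] [IsLocalRing Bh] [Algebra (Localization.AtPrime P) Bh]
    [IsLocalHom (algebraMap (Localization.AtPrime P) Bh)] [Hensel.IsHenselization (Localization.AtPrime P) Bh]
    [Algebra A Bh] [IsScalarTower A (Localization.AtPrime P) Bh] :
    ∃ (a' : Fin (2 * m) → Fin (2 * m) → A) (b c : A), VanCyc.QuadNondeg a' ∧ b ∈ IsLocalRing.maximalIdeal A ∧
      ∀ (Q : Ideal (VanCyc.degQuadRing A a' b c)) [Q.IsMaximal], VanCyc.sideIdeal A a' b c ≤ Q →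
        ∀ (C : Type u) [CommRing C] [IsLocalRing C] [Algebra (Localization.AtPrime Q) C]
          [IsLocalHom (algebraMap (Localization.AtPrime Q) C)] [Hensel.IsHenselization (Localization.AtPrime Q) C]
          [Algebra A C] [IsScalarTower A (Localization.AtPrime Q) C],
          Nonempty (Bh ≃ₐ[A] C) := by
  let BP := Localization.AtPrime P
  let k := ResidueField A
  let L := AlgebraicClosure k
  let O := VanCyc.fibQuot A BP
  letI : Algebra k O := (VanCyc.fibHom A BP).toAlgebra
  haveI : IsLocalRing O := isLocalRing_fibQuot B₀ P hP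
  haveI : Algebra.EssFiniteType k O := essFiniteType_fibQuot B₀ P
  haveI : IsNoetherianRing O := Algebra.EssFiniteType.isNoetherianRing k O
  let q : BP →+* O := Ideal.Quotient.mk _
  have hqm : ∀ z, q z ∈ maximalIdeal O ↔ z ∈ maximalIdeal BP := fun z => by
    haveI : IsLocalHom q := IsLocalHom.of_surjective q Ideal.Quotient.mk_surjective
    rw [mem_maximalIdeal, mem_nonunits_iff, isUnit_map_iff, mem_maximalIdeal, mem_nonunits_iff]
  have hqa : ∀ a : A, algebraMap k O (residue A a) = q (algebraMap A BP a) := fun a => rfl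
  have hres : ∀ o : O, ∃ c : k, o - algebraMap k O c ∈ maximalIdeal O := by
    intro o
    obtain ⟨z, rfl⟩ := Ideal.Quotient.mk_surjective o
    obtain ⟨y, hy⟩ := exists_sub_mem_maximalIdeal B₀ P z
    obtain ⟨c, hc⟩ := hPi y
    refine ⟨residue A c, ?_⟩
    show q z - _ ∈ _
    rw [hqa, ← map_sub, hqm]
    have h1 : algebraMap B₀ BP (y - algebraMap A B₀ c) ∈ maximalIdeal BP :=
      (IsLocalization.AtPrime.to_map_mem_maximal_iff BP P _).2 hc
    rw [map_sub, ← IsScalarTower.algebraMap_apply A B₀ BP] at h1
    have h2 := add_mem hy h1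
    rwa [sub_add_sub_cancel] at h2
  obtain ⟨M, hM, hMn⟩ : ∃ (M : Ideal (TensorProduct k L O)) (_ : M.IsMaximal),
      ¬ VanCyc.IsNondegQuadSing L (Localization.AtPrime M) (2 * m) := by
    by_contra hall
    push_neg at hall
    exact hq' fun M hM => hall M hM
  obtain ⟨f, hf, ⟨e⟩⟩ := (hq M : VanCyc.IsOrdQuadSing L (Localization.AtPrime M) (2 * m))
  have hnd : ¬ VanCyc.NondegQuadSeries f := fun h => hMn ⟨f, h, ⟨e⟩⟩
  have hfv : f ∈ PSLib.vars (2 * m + 1) L :=
    Ideal.pow_le_self two_ne_zero ((noLowTerms_iff_mem_sq f).1 hf.1)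
  obtain ⟨D⟩ := exists_point_of_rational hres M hfv e
  obtain ⟨H, _, _, _, x, hH, F, j, Z, ⟨e₁⟩, hQ, hOrd, hiff⟩ :=
    exists_presentation B₀ P (fun a ha => hP (Ideal.mem_map_of_mem _ ha)) hPi O q
      Ideal.Quotient.mk_surjective (fun a => rfl) (by rw [Ideal.mk_ker]) (Nat.succ_pos (2 * m))
      hf D Bh
  have hdet : (Z + Zᵀ).det = 0 := by
    by_contra h
    exact hnd (hiff.2 h)
  obtain ⟨a', b, c, φ, v, ha', hb, hc, hv, hφ⟩ := hQ.exists_normalForm hOrd hdet
  refine ⟨a', b, c, ha', hb, ?_⟩
  intro Q _ hside C _ _ _ _ _ _ _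
  obtain ⟨e₂⟩ := nonempty_quotient_algEquiv F φ v _ hv hφ
  obtain ⟨e₃⟩ := nonempty_algEquiv_degModel hH a' b c hb hc Q hside C
  exact ⟨e₁.symm.trans (e₂.trans e₃)⟩

end Groth.Agent.S4014
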