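import Groth.Statements.S4023
import Groth.Agent.LefPenLib.OrdExists
import Groth.Agent.LefPenLib.ClosedPt

set_option autoImplicit false
universe u
open CategoryTheory CategoryTheory.Limits AlgebraicGeometry
open LefPen TopologicalSpace

namespace Groth.Agent.S4023

/-- Let k be an algebraically closed field and X an irreducible smooth proper k-scheme of dimension n ≥
1 embedded in projective r-space by a closed immersion i. For every closed point x₀ of X and every d
≥ 2 there is a degree-d form H such that x₀ lies on X ∩ V(H) and is an ordinary quadratic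
singularity of it. -/
theorem result (k : Type u) [Field k] [IsAlgClosed k] (r n : ℕ) (hn : 1 ≤ n)
    {X : Scheme.{u}} (i : X ⟶ CohB1.ProjSpace r k) [IsClosedImmersion i] [IrreducibleSpace X]
    [SmoothOfRelativeDimension n (i ≫ CohB1.ProjSpace.toSpec r k)]
    (x₀ : X) (hx₀ : IsClosed ({x₀} : Set X)) (d : ℕ) (hd : 2 ≤ d) :
    ∃ (H : LefPen.Form r k d) (y : LefPen.Sec i ({H} : Set (LefPen.Form r k d))),
      LefPen.secι i ({H} : Set (LefPen.Form r k d)) y = x₀ ∧
      LefPen.IsOrdQuadSing k (n - 1) (LefPen.secToSpec i ({H} : Set (LefPen.Form r k d))) y := by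
  haveI : IrreducibleSpace X := ‹_›
  obtain ⟨j, hj⟩ := Opens.mem_iSup.1 ((Groth.Agent.LefPenLib.iSup_chartX i).symm ▸ Opens.mem_top x₀)
  obtain ⟨ev, hev⟩ := Groth.Agent.LefPenLib.exists_ev_of_isClosed i x₀ hx₀ j hj
  obtain ⟨H, hH, hord⟩ := Groth.Agent.LefPenLib.exists_form_ordAt (n := n) i hd j ev
  have h0 : ev (Groth.Agent.LefPenLib.psi i j H.1) = 0 := RingHom.mem_ker.1 (Ideal.pow_le_self two_ne_zero hH)
  refine ⟨H, Groth.Agent.LefPenLib.secPoint i H j ev h0, ?_, (Groth.Agent.LefPenLib.isOrdQuadSing_iff (n := n) i hn H j ev h0).2 ⟨hH, hord⟩⟩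
  rw [Groth.Agent.LefPenLib.secι_secPoint]
  exact hev

end Groth.Agent.S4023
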