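import Groth.Statements.S4058
import Groth.Agent.SGA7X.SectionOpen
import Groth.Agent.S4976
import Groth.Agent.ProperNhd.Closure

set_option autoImplicit false
universe u
open CategoryTheory CategoryTheory.Limits AlgebraicGeometry MonObj
open SGA7

namespace Groth.Agent.S4058

/-- (iii) ⇒ (iv): let R be a discrete valuation ring with fraction field K and residue field k, and N a
group scheme over Spec R which is a Néron model of its generic fibre, an abelian variety over K. If
the special fibre N ×_R k is proper over k, then N is proper over Spec R. (In (iii) as published the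
special fibre is an abelian variety; connectedness of the special fibre is not assumed here.) -/
theorem result (R K : Type u) [CommRing R] [IsDomain R] [IsDiscreteValuationRing R] [Field K]
    [Algebra R K] [IsFractionRing R K]
    (N : Over (Spec (CommRingCat.of R))) [GrpObj N] (hN : SGA7.IsNeron R K N)
    [IsProper ((SGA7.genFib R K).obj N).hom] [GeometricallyIntegral ((SGA7.genFib R K).obj N).hom]
    [IsProper (Red.bc (Spec.map (CommRingCat.ofHom (IsLocalRing.residue R))) N).hom] :
    IsProper N.hom := by
  let f := N.hom
  let B := Spec (CommRingCat.of R)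
  have : Smooth f := hN.1
  have : IsSeparated f := hN.2.1
  have : QuasiCompact f := hN.2.2.1
  let e : B ⟶ N.left := η[N].left
  have he : e ≫ f = 𝟙 _ := Over.w η[N]
  have hfe : ∀ t, f (e t) = t := fun t => congrArg (fun m : B ⟶ B => m t) he
  let C := MoreMor.sectionComponents f e
  have hC : IsOpen C := Groth.Agent.SGA7X.SectionOpen.isOpen_sectionComponents f e he
  let y : B := IsLocalRing.closedPoint R
  let r : Spec (CommRingCat.of (IsLocalRing.ResidueField R)) ⟶ B :=
    Spec.map (CommRingCat.ofHom (IsLocalRing.residue R))
  have hr : r (IsLocalRing.closedPoint (IsLocalRing.ResidueField R)) = y :=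
    IsLocalRing.comap_closedPoint (IsLocalRing.residue R)
  obtain ⟨φ, hφ⟩ := Groth.Agent.ProperNhd.exists_fac_fromSpecResidueField r hr
  have : IsIso φ := by
    have : IsClosedImmersion r := IsClosedImmersion.spec_of_surjective _ IsLocalRing.residue_surjective
    have : IsClosedImmersion (Spec.map φ ≫ B.fromSpecResidueField y) := by rw [hφ]; infer_instance
    have : IsClosedImmersion (Spec.map φ) := IsClosedImmersion.of_comp (Spec.map φ) (B.fromSpecResidueField y)
    obtain ⟨-, h⟩ := IsClosedImmersion.isAffine_surjective_of_isAffine (Spec.map φ)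
    refine (ConcreteCategory.isIso_iff_bijective φ).2 ⟨φ.hom.injective, ?_⟩
    have h2 : φ = (Scheme.ΓSpecIso _).inv ≫ (Spec.map φ).appTop ≫ (Scheme.ΓSpecIso _).hom := by
      rw [Scheme.ΓSpecIso_naturality, Iso.inv_hom_id_assoc]
    rw [h2]
    show Function.Surjective ((fun a => (Scheme.ΓSpecIso _).hom a) ∘ (fun a => (Spec.map φ).appTop a) ∘ (fun a => (Scheme.ΓSpecIso _).inv a))
    exact (ConcreteCategory.bijective_of_isIso _).2.comp (h.comp (ConcreteCategory.bijective_of_isIso _).2)
  have hy : IsProper (f.fiberToSpecResidueField y) := by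
    have h1 : IsProper (pullback.snd f r) := inferInstanceAs
      (IsProper (Red.bc (Spec.map (CommRingCat.ofHom (IsLocalRing.residue R))) N).hom)
    have e1 : B.fromSpecResidueField y = inv (Spec.map φ) ≫ r := by rw [IsIso.eq_inv_comp, hφ]
    show IsProper (pullback.snd f (B.fromSpecResidueField y))
    rw [e1, ← MorphismProperty.cancel_left_of_respectsIso @IsProper (pullbackLeftPullbackSndIso f r (inv (Spec.map φ))).hom,
      pullbackLeftPullbackSndIso_hom_snd]
    infer_instance
  let D : (f.fiber y).Opens := ⟨(f.fiberι y) ⁻¹' connectedComponentIn (f ⁻¹' {y}) (e y), by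
    have h : (f.fiberι y) ⁻¹' connectedComponentIn (f ⁻¹' {y}) (e y) = (f.fiberι y) ⁻¹' C := by
      ext w
      have hw : f.fiberι y w ∈ f ⁻¹' {y} := by rw [← f.range_fiberι]; exact ⟨w, rfl⟩
      exact ⟨fun h => Groth.Agent.SGA7X.SectionOpen.connectedComponentIn_subset_sectionComponents _ _ _ h,
        fun h => Groth.Agent.SGA7X.SectionOpen.mem_component f h hw⟩
    rw [h]
    exact hC.preimage (f.fiberι y).continuous⟩
  have hD : IsProper (D.ι ≫ f.fiberToSpecResidueField y) := by
    have : IsClosedImmersion D.ι := by
      refine IsClosedImmersion.of_isPreimmersion _ ?_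
      rw [Scheme.Opens.range_ι]
      obtain ⟨w, hw⟩ : e y ∈ Set.range (f.fiberι y) := by rw [f.range_fiberι]; exact hfe y
      have h : (D : Set (f.fiber y)) = connectedComponent w := by
        refine Set.Subset.antisymm ?_ ?_
        · refine IsPreconnected.subset_connectedComponent ?_
            (show f.fiberι y w ∈ connectedComponentIn (f ⁻¹' {y}) (e y) by rw [hw]; exact mem_connectedComponentIn (hfe y))
          refine (f.fiberι y).isEmbedding.isInducing.isPreconnected_image.1 ?_
          show _root_.IsPreconnected (_ '' (f.fiberι y ⁻¹' _))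
          rw [Set.image_preimage_eq_of_subset (by rw [f.range_fiberι]; exact connectedComponentIn_subset _ _)]
          exact isPreconnected_connectedComponentIn
        · show connectedComponent w ⊆ f.fiberι y ⁻¹' connectedComponentIn (f ⁻¹' {y}) (e y)
          refine Set.image_subset_iff.1 ?_
          rw [← hw]
          exact (isPreconnected_connectedComponent.image _ (f.fiberι y).continuous.continuousOn).subset_connectedComponentIn
            ⟨w, mem_connectedComponent, rfl⟩ (by rw [← f.range_fiberι]; exact Set.image_subset_range _ _)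
      rw [h]
      exact isClosed_connectedComponent
    infer_instance
  obtain ⟨U, hyU, hC', hP⟩ := Groth.Agent.S4976.result f e he y D.2 hD
  have hU : U = ⊤ := top_unique fun t _ => (IsLocalRing.specializes_closedPoint t).mem_open U.2 hyU
  subst hU
  have huniv : ((f ⁻¹ᵁ (⊤ : B.Opens)).ι.base ⁻¹' C) = Set.univ := by
    refine Set.eq_univ_of_forall fun x => ?_
    let z : B := genericPoint B
    obtain ⟨a, ha, haz⟩ := Flat.generalizingMap f ((genericPoint_spec B).specializes (y := f x.1) trivial)
    have haC : a ∈ C := by
      have hA : ConnectedSpace ↥(pullback f (Spec.map (CommRingCat.ofHom (algebraMap R K)))) := by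
        have : Subsingleton ↥(Spec (CommRingCat.of K)) := inferInstance
        have := GeometricallyIntegral.isIntegral_of_subsingleton ((SGA7.genFib R K).obj N).hom
        exact inferInstanceAs (ConnectedSpace ↥((SGA7.genFib R K).obj N).left)
      let j : Spec (CommRingCat.of K) ⟶ B := Spec.map (CommRingCat.ofHom (algebraMap R K))
      have hj : j (IsLocalRing.closedPoint K) = z := by
        show j (IsLocalRing.closedPoint K) = genericPoint (Spec (CommRingCat.of R))
        rw [genericPoint_eq_bot_of_affine]
        refine PrimeSpectrum.ext ?_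
        change (IsLocalRing.maximalIdeal K).comap (algebraMap R K) = ⊥
        rw [IsLocalRing.isField_iff_maximalIdeal_eq.1 (Field.toIsField _), ← RingHom.ker]
        exact (RingHom.injective_iff_ker_eq_bot _).1 (IsFractionRing.injective R _)
      have hrg : f ⁻¹' {z} = Set.range (pullback.fst f j) := by
        rw [Scheme.Pullback.range_fst]
        congr 1
        have h : Set.range j = {z} := Set.eq_singleton_iff_unique_mem.2
          ⟨⟨_, hj⟩, by rintro _ ⟨w, rfl⟩; rw [← hj]; congr 1; exact Subsingleton.elim _ _⟩
        exact h.symm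
      have hpc : _root_.IsPreconnected (f ⁻¹' {z}) := by
        rw [hrg]
        exact isPreconnected_range (pullback.fst f _).continuous
      exact Groth.Agent.SGA7X.SectionOpen.connectedComponentIn_subset_sectionComponents _ _ z
        (hpc.subset_connectedComponentIn (hfe z) subset_rfl haz)
    exact (hC'.stableUnderSpecialization (x := (⟨a, trivial⟩ : f ⁻¹ᵁ (⊤ : B.Opens))) (y := x)
      ((subtype_specializes_iff _ _).2 ha) haC)
  let i := (Scheme.IdealSheafData.vanishingIdeal (X := (f ⁻¹ᵁ (⊤ : B.Opens)).toScheme)
    (⟨(f ⁻¹ᵁ (⊤ : B.Opens)).ι.base ⁻¹' C, hC'⟩ : TopologicalSpace.Closeds ↥(f ⁻¹ᵁ (⊤ : B.Opens)))).subschemeι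
  have : Surjective i := ⟨fun x => by
    have h : x ∈ Set.range i := by
      rw [Scheme.IdealSheafData.range_subschemeι]
      refine Scheme.IdealSheafData.le_support_iff_le_vanishingIdeal.2 le_rfl ?_
      show x ∈ ((f ⁻¹ᵁ (⊤ : B.Opens)).ι.base ⁻¹' C)
      rw [huniv]
      trivial
    exact h⟩
  have : UniversallyClosed (f ∣_ ⊤) := UniversallyClosed.of_comp_surjective i _
  have : IsProper (f ∣_ ⊤) := { }
  exact (MorphismProperty.arrow_mk_iso_iff @IsProper (morphismRestrictEq f (rfl : (⊤ : B.Opens) = ⊤))).1 this |> fun h =>
    IsZariskiLocalAtTarget.of_iSup_eq_top (P := @IsProper) (fun _ : PUnit.{1} => (⊤ : B.Opens)) (by simp) fun _ => h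

end Groth.Agent.S4058
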