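import Groth.Statements.S4062
import Groth.Agent.SGA7X.InertiaTame
import Groth.Agent.SGA7X.PadicPow
import Groth.Agent.SGA7X.PadicGamma

set_option autoImplicit false
universe u
open CategoryTheory CategoryTheory.Limits AlgebraicGeometry MonObj
open SGA7

namespace Groth.Agent.S4062

/-- Let R be a henselian discrete valuation ring with fraction field K and residue field k, λ a prime
invertible in k, Ω a separable closure of K (Aut_K(Ω) carries the Krull topology), W a valuation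
subring of Ω lying over R, and ρ a continuous homomorphism from Aut_K(Ω) to GL_n(ℚ_λ). Assume that
no finite extension of k contains all roots of unity of λ-power order (for every finite extension k'
there is some λ^m such that k' has no primitive λ^m-th root of unity). Then there is an open
subgroup I₁ of Aut_K(Ω) such that ρ(σ) is unipotent for every σ in I₁ lying in the inertia group at
W. -/
theorem result (R K Ω : Type u) [CommRing R] [IsDomain R]
    [IsDiscreteValuationRing R] [HenselianLocalRing R] [Field K] [Algebra R K] [IsFractionRing R K]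
    [Field Ω] [Algebra K Ω] [IsSepClosure K Ω] (W : ValuationSubring Ω) (hW : SGA7.LiesOver K R W)
    (lam : ℕ) [Fact lam.Prime] (hlam : (lam : IsLocalRing.ResidueField R) ≠ 0)
    (hstar : ∀ (k' : Type u) [Field k'] [Algebra (IsLocalRing.ResidueField R) k'],
      FiniteDimensional (IsLocalRing.ResidueField R) k' → ∃ m : ℕ, ∀ ζ : k', ¬ IsPrimitiveRoot ζ (lam ^ m))
    (n : ℕ) (ρ : (Ω ≃ₐ[K] Ω) →* Matrix.GeneralLinearGroup (Fin n) (Padic lam)) (hρ : Continuous ρ) :
    ∃ I₁ : OpenSubgroup (Ω ≃ₐ[K] Ω), ∀ σ : Ω ≃ₐ[K] Ω, σ ∈ I₁ → SGA7.IsInertia W σ →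
      IsNilpotent ((ρ σ : Matrix (Fin n) (Fin n) (Padic lam)) - 1) := by
  classical
  let _ : Algebra R Ω := ((algebraMap K Ω).comp (algebraMap R K)).toAlgebra
  have : IsScalarTower R K Ω := IsScalarTower.of_algebraMap_eq fun _ => rfl
  have : IsSepClosed Ω := IsSepClosure.sep_closed K
  have : IsGalois K Ω := IsSepClosure.isGalois
  have hne : ∀ m : ℕ, ((lam ^ m : ℕ) : IsLocalRing.ResidueField R) ≠ 0 := fun m => by
    rw [Nat.cast_pow]; exact pow_ne_zero _ hlam
  have hlp : lam.Prime := Fact.out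
  -- the open normal subgroup on which the representation is congruent to one
  let Γ := Groth.Agent.SGA7X.PadicGamma.Γ lam n
  obtain ⟨N, hN⟩ := ProfiniteGrp.exist_openNormalSubgroup_sub_open_nhds_of_one
    ((Groth.Agent.SGA7X.PadicGamma.isOpen_Γ (p := lam) (n := n) 2).preimage hρ) (by
      show ρ 1 ∈ Γ 2
      rw [map_one]; exact one_mem _)
  have hNΓ : ∀ g ∈ N, ρ g ∈ Γ 2 := fun g hg => hN hg
  refine ⟨N.toOpenSubgroup, fun τ hτN hτ => ?_⟩
  obtain ⟨g, hgN, hg2, a, ζa, hζa, hga⟩ :=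
    Groth.Agent.SGA7X.InertiaTame.exists_moving W hW hlam hstar N.toOpenSubgroup
  obtain ⟨π, hπ⟩ := IsDiscreteValuationRing.exists_irreducible R
  have hπ0 : algebraMap K Ω (algebraMap R K π) ≠ 0 := fun h => hπ.ne_zero
    ((IsFractionRing.injective R K) ((algebraMap K Ω).injective (by rw [h, map_zero, map_zero])))
  -- for each level, an exponent
  have key : ∀ m : ℕ, ∃ c : ℕ, (lam : ℤ) ^ 2 ∣ (c : ℤ) - 1 ∧ ¬ (lam : ℤ) ^ a ∣ (c : ℤ) - 1 ∧
      ∃ s ∈ Γ m, ρ g * ρ τ * (ρ g)⁻¹ = ρ τ ^ c * s := by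
    intro m
    have hv := Groth.Agent.SGA7X.KummerInertia.valuation_natCast W hW (hne m)
    have : NeZero ((lam ^ m : ℕ) : Ω) := ⟨fun h => by rw [h, map_zero] at hv; exact zero_ne_one hv⟩
    obtain ⟨ζm, hζm⟩ := HasEnoughRootsOfUnity.exists_primitiveRoot Ω (lam ^ m)
    obtain ⟨V, hV⟩ := ProfiniteGrp.exist_openNormalSubgroup_sub_open_nhds_of_one
      (((Groth.Agent.SGA7X.PadicGamma.isOpen_Γ (p := lam) (n := n) m).preimage hρ).inter
        (stabilizer_isOpen_of_isIntegral (K := K) ζm)) ⟨by show ρ 1 ∈ Γ m; rw [map_one]; exact one_mem _, one_mem _⟩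
    -- the largest normal subgroup
    let C : Subgroup (Ω ≃ₐ[K] Ω) := ((Γ m).comap ρ ⊓ MulAction.stabilizer (Ω ≃ₐ[K] Ω) ζm).normalCore
    have hVC : V.toSubgroup ≤ C := Subgroup.normal_le_normalCore.2 fun x hx => hV hx
    have hCo : IsOpen (C : Set (Ω ≃ₐ[K] Ω)) := Subgroup.isOpen_mono hVC V.isOpen
    let H : ClosedSubgroup (Ω ≃ₐ[K] Ω) := ⟨C, Subgroup.isClosed_of_isOpen C hCo⟩
    let E := IntermediateField.fixedField C
    have hEC : E.fixingSubgroup = C := InfiniteGalois.fixingSubgroup_fixedField H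
    have : FiniteDimensional K E := by
      refine (InfiniteGalois.isOpen_iff_finite E).1 ?_
      show IsOpen (E.fixingSubgroup : Set (Ω ≃ₐ[K] Ω))
      rw [hEC]; exact hCo
    have : IsGalois K E := (InfiniteGalois.normal_iff_isGalois E).1 (by rw [hEC]; exact Subgroup.normalCore_normal _)
    obtain ⟨j, hj, hj2, hja, hjm⟩ : ∃ j, (∀ b : ℕ, lam ^ b ∣ Module.finrank K E → b ≤ j) ∧ 2 ≤ j ∧ a ≤ j ∧ m ≤ j := by
      refine ⟨Module.finrank K E + 2 + a + m, fun b hb => ?_, by omega, by omega, by omega⟩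
      have h1 := Nat.le_of_dvd Module.finrank_pos hb
      have h2 := Nat.lt_pow_self hlp.one_lt (n := b)
      omega
    have hvj := Groth.Agent.SGA7X.KummerInertia.valuation_natCast W hW (hne j)
    have hj0 : ((lam ^ j : ℕ) : Ω) ≠ 0 := fun h => by rw [h, map_zero] at hvj; exact zero_ne_one hvj
    have : NeZero ((lam ^ j : ℕ) : Ω) := ⟨hj0⟩
    have : NeZero (lam ^ j) := ⟨pow_ne_zero _ hlp.ne_zero⟩
    obtain ⟨ζ, hζ⟩ := HasEnoughRootsOfUnity.exists_primitiveRoot Ω (lam ^ j)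
    obtain ⟨y, hy⟩ := IsSepClosed.exists_pow_nat_eq (algebraMap K Ω (algebraMap R K π)) (lam ^ j)
    have hy0 : y ≠ 0 := fun h => hπ0 (by rw [← hy, h, zero_pow (pow_ne_zero j hlp.ne_zero)])
    have hroot : ∀ f : Ω ≃ₐ[K] Ω, ∃ i : ℕ, f y = ζ ^ i * y := by
      intro f
      obtain ⟨i, -, hi⟩ := hζ.eq_pow_of_pow_eq_one (ξ := f y / y) (by
        rw [div_pow, ← map_pow, hy, AlgEquiv.commutes, div_self hπ0])
      exact ⟨i, by rw [hi, div_mul_cancel₀ _ hy0]⟩
    obtain ⟨c, -, hc⟩ := hζ.eq_pow_of_pow_eq_one (ξ := g ζ) (by rw [← map_pow, hζ.pow_eq_one, map_one])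
    refine ⟨c, ?_, ?_, ?_⟩
    · obtain ⟨i, hi⟩ := Nat.exists_eq_add_of_le hj2
      have hp : IsPrimitiveRoot (ζ ^ lam ^ i) (lam ^ 2) := hζ.pow (pow_pos hlp.pos _) (by rw [hi, ← pow_add]; congr 1; omega)
      have h := hg2 _ hp.pow_eq_one
      rw [map_pow, ← hc, ← pow_mul, _root_.mul_comm, pow_mul] at h
      have h' : (ζ ^ lam ^ i) ^ (c : ℤ) = (ζ ^ lam ^ i) ^ (1 : ℤ) := by rw [zpow_natCast, zpow_one]; exact h
      have h0 := hp.ne_zero (pow_ne_zero _ hlp.ne_zero)
      have := (hp.zpow_eq_one_iff_dvd ((c : ℤ) - 1)).1 (by rw [zpow_sub₀ h0, h', div_self (zpow_ne_zero _ h0)])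
      exact_mod_cast this
    · intro hdvd
      obtain ⟨i, hi⟩ := Nat.exists_eq_add_of_le hja
      have hp : IsPrimitiveRoot (ζ ^ lam ^ i) (lam ^ a) := hζ.pow (pow_pos hlp.pos _) (by rw [hi, ← pow_add]; congr 1; omega)
      have : NeZero (lam ^ a) := ⟨pow_ne_zero _ hlp.ne_zero⟩
      obtain ⟨l, -, hl⟩ := hp.eq_pow_of_pow_eq_one hζa
      refine hga ?_
      have h0 := hp.ne_zero (pow_ne_zero _ hlp.ne_zero)
      have h1 : (ζ ^ lam ^ i) ^ ((c : ℤ) - 1) = 1 := (hp.zpow_eq_one_iff_dvd _).2 (by exact_mod_cast hdvd)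
      rw [zpow_sub₀ h0, zpow_natCast, zpow_one, div_eq_one_iff_eq h0] at h1
      rw [← hl, map_pow, map_pow, ← hc, ← pow_mul ζ c, _root_.mul_comm c, pow_mul ζ (lam ^ i) c, h1]
    · -- conjugation
      obtain ⟨t, ht⟩ := hroot τ
      obtain ⟨e, he⟩ := hroot g⁻¹
      have hτζ : τ ζ = ζ :=
        Groth.Agent.SGA7X.KummerInertia.map_root_of_unity_of_isInertia W hW (hne j) hτ hζ.pow_eq_one
      have hτc : ∀ k : ℕ, (τ ^ k) y = ζ ^ (t * k) * y := by
        intro k
        induction k with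
        | zero => simp
        | succ k ih =>
          rw [pow_succ', AlgEquiv.mul_apply, ih, map_mul, map_pow, hτζ, ht, ← _root_.mul_assoc, ← pow_add, Nat.mul_succ]
      have hconj : (g * τ * g⁻¹) y = ζ ^ (t * c) * y := by
        rw [AlgEquiv.mul_apply, AlgEquiv.mul_apply, he, map_mul, map_pow, hτζ, ht, ← _root_.mul_assoc, _root_.mul_comm (ζ ^ e),
          _root_.mul_assoc, ← he, map_mul, map_pow, ← hc, ← pow_mul, _root_.mul_comm c, show g (g⁻¹ y) = y by
            rw [← AlgEquiv.mul_apply, mul_inv_cancel, AlgEquiv.one_apply]]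
      let σ := (τ ^ c)⁻¹ * (g * τ * g⁻¹)
      have hσy : σ y = y := by
        show ((τ ^ c)⁻¹ * (g * τ * g⁻¹)) y = y
        rw [AlgEquiv.mul_apply, hconj, ← hτc c, ← AlgEquiv.mul_apply, inv_mul_cancel, AlgEquiv.one_apply]
      have hσI : SGA7.IsInertia W σ := Groth.Agent.SGA7X.InertiaTame.inertia_mul W hW
        (Groth.Agent.SGA7X.InertiaTame.inertia_inv W hW (Groth.Agent.SGA7X.InertiaTame.inertia_pow W hW hτ c))
        (Groth.Agent.SGA7X.InertiaTame.inertia_conj W hW g hτ)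
      have hσN : σ ∈ N.toSubgroup :=
        mul_mem (inv_mem (pow_mem hτN c)) (N.isNormal'.conj_mem τ hτN g)
      have hfix := Groth.Agent.SGA7X.InertiaTame.fixes_of_pow W hW hlam hσI E m (fun x hx f => ?_) (fun x hx => ?_)
        hπ hy hj hσy
      · refine ⟨ρ σ, ?_, ?_⟩
        · have hσC : σ ∈ C := by
            rw [← hEC, IntermediateField.mem_fixingSubgroup_iff]
            exact hfix
          exact ((Subgroup.normalCore_le _) hσC).1
        · rw [← map_pow, ← map_mul, ← map_inv, ← map_mul, ← map_mul, mul_inv_cancel_left]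
      · -- roots of unity in E
        have hf : f.1 ζm = ζm := ((Subgroup.normalCore_le _) f.2).2
        have : NeZero (lam ^ m) := ⟨pow_ne_zero _ hlp.ne_zero⟩
        obtain ⟨i, -, rfl⟩ := hζm.eq_pow_of_pow_eq_one hx
        show f.1 (ζm ^ i) = ζm ^ i
        rw [map_pow, hf]
      · have hσC : σ ^ lam ^ m ∈ C := by
          intro b
          have hb : b * σ * b⁻¹ ∈ N.toSubgroup := N.isNormal'.conj_mem σ hσN b
          refine Subgroup.mem_inf.2 ⟨?_, ?_⟩
          · show ρ (b * σ ^ lam ^ m * b⁻¹) ∈ Γ m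
            rw [← conj_pow, map_pow]
            exact Groth.Agent.SGA7X.PadicGamma.Γ_anti (Nat.le_add_left m 2)
              (Groth.Agent.SGA7X.PadicGamma.pow_mem_Γ (hNΓ _ hb) m)
          · exact Groth.Agent.SGA7X.KummerInertia.map_root_of_unity_of_isInertia W hW (hne m)
              (Groth.Agent.SGA7X.InertiaTame.inertia_conj W hW b
                (Groth.Agent.SGA7X.InertiaTame.inertia_pow W hW hσI _)) hζm.pow_eq_one
        exact hx ⟨_, hσC⟩
  choose c hc1 hca s hs hconj using key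
  obtain ⟨A, hA⟩ := Groth.Agent.SGA7X.PadicGamma.exists_lift (hNΓ τ hτN).1
  have hX : (1 + (lam : ℤ_[lam]) ^ 2 • A).map PadicInt.Coe.ringHom = (ρ τ : Matrix (Fin n) (Fin n) (Padic lam)) := by
    rw [Matrix.map_add _ (map_add _), hA, Matrix.map_one _ (map_zero _) (map_one _), add_sub_cancel]
  have hnil := Groth.Agent.SGA7X.PadicPow.isNilpotent_sub_one lam A c hc1 a (fun m _ => hca m) fun m _ =>
    Groth.Agent.SGA7X.PadicGamma.charpoly_congr
      (Groth.Agent.SGA7X.PadicGamma.Γ_anti (Nat.zero_le 2) (hNΓ g hgN)) hX (hconj m) (hs m)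
  rw [hX] at hnil
  exact hnil

end Groth.Agent.S4062
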