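import Groth.Statements.S4064
import Groth.Agent.SGA7X.ExtRealize
import Mathlib.Algebra.Homology.DerivedCategory.Ext.ExactSequences

set_option autoImplicit false
universe w v v'
open CategoryTheory CategoryTheory.Abelian
open CategoryTheory.Limits
open SGA7

namespace Groth.Agent.S4064

/-- Let P -> F -> R and R -> E -> Q be short exact sequences in an abelian category (F an extension of R
by P, E an extension of Q by R). A blended extension of E by F is an object X with a monomorphism i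
: F -> X and an epimorphism p : X -> E such that P -> X -> E (via i) and F -> X -> Q (via p) are
short exact and F -> X -> E is the composite F -> R -> E. Such an X exists if and only if the
composite of the two extension classes, an element of Ext^2(Q, P), is zero. -/
theorem result {C : Type w} [Category.{v} C] [Abelian C]
    [HasExt.{v'} C] {P F R E Q : C} (a : P ⟶ F) (b : F ⟶ R) (wF : a ≫ b = 0)
    (hF : (ShortComplex.mk a b wF).ShortExact) (c : R ⟶ E) (d : E ⟶ Q) (wE : c ≫ d = 0)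
    (hE : (ShortComplex.mk c d wE).ShortExact) :
    (∃ (X : C) (i : F ⟶ X) (p : X ⟶ E), i ≫ p = b ≫ c ∧
        (∃ w : (a ≫ i) ≫ p = 0, (ShortComplex.mk (a ≫ i) p w).ShortExact) ∧
        (∃ w : i ≫ (p ≫ d) = 0, (ShortComplex.mk i (p ≫ d) w).ShortExact)) ↔
      hE.extClass.comp hF.extClass (rfl : 1 + 1 = 2) = 0 := by
  constructor
  · rintro ⟨X, i, p, hip, ⟨w₁, h₁⟩, w₂, h₂⟩
    let φ : ShortComplex.mk i (p ≫ d) w₂ ⟶ ShortComplex.mk c d wE :=
      { τ₁ := b
        τ₂ := p
        τ₃ := 𝟙 Q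
        comm₁₂ := hip.symm
        comm₂₃ := (Category.comp_id _).symm }
    have h := ShortComplex.ShortExact.extClass_naturality h₂ hE φ
    have h' : h₂.extClass.comp (Ext.mk₀ b) (add_zero 1) = hE.extClass :=
      h.trans (Ext.mk₀_id_comp _)
    have e0 : (Ext.mk₀ b).comp hF.extClass (zero_add 1) = 0 := hF.comp_extClass
    rw [← h', Ext.comp_assoc_of_second_deg_zero, e0, Ext.comp_zero]
  · intro h0
    obtain ⟨x, hx⟩ : ∃ x : Ext.{v'} Q F 1, x.comp (Ext.mk₀ b) (add_zero 1) = hE.extClass :=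
      Ext.covariant_sequence_exact₃ _ hF hE.extClass (n₁ := 2) rfl h0
    obtain ⟨X, i, π, hiπ, hX, rfl⟩ := Groth.Agent.SGA7X.exists_shortExact_extClass_eq x
    have hz : hX.extClass.comp (Ext.mk₀ (b ≫ c)) (add_zero 1) = 0 := by
      rw [← Ext.mk₀_comp_mk₀, ← Ext.comp_assoc_of_third_deg_zero, hx]
      exact hE.extClass_comp
    obtain ⟨y, hy⟩ := Ext.contravariant_sequence_exact₁ hX E (Ext.mk₀ (b ≫ c)) (n₁ := 1) rfl hz
    obtain ⟨p₀, rfl⟩ := (Ext.mk₀_bijective X E).2 y
    have hp₀ : i ≫ p₀ = b ≫ c := (Ext.mk₀_bijective F E).1 ((Ext.mk₀_comp_mk₀ _ _).symm.trans hy)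
    have hp₀d : i ≫ p₀ ≫ d = 0 := by
      rw [← Category.assoc, hp₀, Category.assoc, wE, comp_zero]
    let φ : Q ⟶ Q := hX.gIsCokernel.desc (CokernelCofork.ofπ (p₀ ≫ d) hp₀d)
    have hφ : π ≫ φ = p₀ ≫ d := hX.gIsCokernel.fac _ WalkingParallelPair.one
    let Φ : ShortComplex.mk i π hiπ ⟶ ShortComplex.mk c d wE :=
      { τ₁ := b
        τ₂ := p₀
        τ₃ := φ
        comm₁₂ := hp₀.symm ▸ rfl
        comm₂₃ := hφ.symm }
    have hn : hE.extClass = (Ext.mk₀ φ).comp hE.extClass (zero_add 1) :=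
      hx.symm.trans (ShortComplex.ShortExact.extClass_naturality hX hE Φ)
    have hzero : (Ext.mk₀ (𝟙 Q - φ)).comp hE.extClass (zero_add 1) = 0 := by
      have h1 : Ext.mk₀ (𝟙 Q) = Ext.mk₀ (𝟙 Q - φ) + Ext.mk₀ φ := by
        rw [← Ext.mk₀_add, sub_add_cancel]
      have h2 := congrArg (fun z => z.comp hE.extClass (zero_add 1)) h1
      simp only [Ext.add_comp, Ext.mk₀_id_comp, ← hn] at h2
      exact add_eq_right.1 h2.symm
    obtain ⟨ψ', hψ'⟩ := Ext.covariant_sequence_exact₃ _ hE (Ext.mk₀ (𝟙 Q - φ)) (n₁ := 1) rfl hzero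
    obtain ⟨ψ, rfl⟩ := (Ext.mk₀_bijective Q E).2 ψ'
    have hψ : ψ ≫ d = 𝟙 Q - φ := (Ext.mk₀_bijective Q Q).1 ((Ext.mk₀_comp_mk₀ _ _).symm.trans hψ')
    let p := p₀ + π ≫ ψ
    have hip : i ≫ p = b ≫ c := by
      simp [p, Preadditive.comp_add, hp₀, reassoc_of% hiπ]
    have hpd : p ≫ d = π := by
      simp [p, hψ, Preadditive.add_comp, Preadditive.comp_sub, hφ]
    have : Mono a := hF.mono_f
    have : Epi b := hF.epi_g
    have : Mono c := hE.mono_f
    have : Mono i := hX.mono_f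
    have : Epi π := hX.epi_g
    have w₁ : (a ≫ i) ≫ p = 0 := by
      rw [Category.assoc, hip, reassoc_of% wF, zero_comp]
    refine ⟨X, i, p, hip, ⟨w₁, ?_⟩, by rw [hpd]; exact hiπ, ?_⟩
    · refine { exact := ?_, mono_f := mono_comp a i, epi_g := ?_ }
      · refine ShortComplex.exact_of_f_is_kernel _ (KernelFork.IsLimit.ofι' _ w₁ fun {T} t ht => ?_)
        have ht2 : t ≫ π = 0 := by rw [← hpd, reassoc_of% ht, zero_comp]
        let s : T ⟶ F := hX.fIsKernel.lift (KernelFork.ofι t ht2)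
        have hs : s ≫ i = t := hX.fIsKernel.fac _ WalkingParallelPair.zero
        have hsb : s ≫ b = 0 := by
          rw [← cancel_mono c, zero_comp, Category.assoc, ← hip, reassoc_of% hs, ht]
        let r : T ⟶ P := hF.fIsKernel.lift (KernelFork.ofι s hsb)
        have hr : r ≫ a = s := hF.fIsKernel.fac _ WalkingParallelPair.zero
        exact ⟨r, by rw [reassoc_of% hr, hs]⟩
      · refine Preadditive.epi_of_cancel_zero p fun {T} z hz => ?_
        have hcz : c ≫ z = 0 := by
          rw [← cancel_epi b, comp_zero, ← reassoc_of% hip, hz, comp_zero]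
        let w : Q ⟶ T := hE.gIsCokernel.desc (CokernelCofork.ofπ z hcz)
        have hw : d ≫ w = z := hE.gIsCokernel.fac _ WalkingParallelPair.one
        have hπw : π ≫ w = 0 := by rw [← hpd, Category.assoc, hw, hz]
        rw [← hw, zero_of_epi_comp π hπw, comp_zero]
    · simp only [hpd]
      exact hX

end Groth.Agent.S4064
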