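import Groth.Statements.S4075
import Groth.Agent.SGA7X.InertiaSpecialise
-- import your own Groth.Agent.* helpers here

set_option autoImplicit false
universe u
open CategoryTheory CategoryTheory.Limits AlgebraicGeometry MonObj
open SGA7

namespace Groth.Agent.S4075

/-- Let R be a henselian discrete valuation ring with fraction field K, Ω a separable closure of K, W a
valuation subring of Ω lying over R, N a group scheme over Spec R which is a Néron model of its
generic fibre A = N_K, an abelian variety, and m an integer invertible in the residue field. For an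
m-torsion Ω-point x of A, the inertia group at W fixes x if and only if the point of N underlying x
specialises to a point of the special fibre of N (x factors through the finite part of the m-torsion
of N): the fixed part of the m-torsion is the inertia invariants. -/
theorem result (R K Ω : Type u) [CommRing R] [IsDomain R]
    [IsDiscreteValuationRing R] [HenselianLocalRing R] [Field K] [Algebra R K] [IsFractionRing R K]
    [Field Ω] [Algebra K Ω] [IsSepClosure K Ω] (W : ValuationSubring Ω) (hW : SGA7.LiesOver K R W)
    (N : Over (Spec (CommRingCat.of R))) [GrpObj N] (hN : SGA7.IsNeron R K N)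
    [IsProper ((SGA7.genFib R K).obj N).hom] [GeometricallyIntegral ((SGA7.genFib R K).obj N).hom]
    (m : ℕ) (hm : (m : IsLocalRing.ResidueField R) ≠ 0)
    (x : SGA7.Pts Ω ((SGA7.genFib R K).obj N)) (hx : x ^ m = 1) :
    (∀ σ : Ω ≃ₐ[K] Ω, SGA7.IsInertia W σ → SGA7.galAct σ x = x) ↔
      ∃ z ∈ SGA7.specialFibreSet R N,
        (x.left ≫ pullback.fst N.hom (Spec.map (CommRingCat.ofHom (algebraMap R K)))).base
          (IsLocalRing.closedPoint Ω) ⤳ z := by
  have := hN.1
  have := hN.2.1
  have : Algebra.IsAlgebraic K Ω := by
    have : IsGalois K Ω := IsSepClosure.isGalois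
    infer_instance
  have := Groth.Agent.SGA7X.isCommMonObj_of_isNeron (K := K) N hN
  refine ⟨fun h => Groth.Agent.SGA7X.exists_specializes_of_fixed W hW N hN x h, ?_⟩
  rintro ⟨z, hz, hsp⟩ σ hσ
  have hu : IsUnit (m : R) := by
    rw [← IsLocalRing.residue_ne_zero_iff_isUnit, map_natCast]
    exact hm
  have hnu : IsUnit (m : Γ(Spec (CommRingCat.of R), ⊤)) := by
    have h := hu.map (Scheme.ΓSpecIso (CommRingCat.of R)).inv.hom
    rwa [map_natCast] at h
  have hy : (x.left ≫ pullback.fst N.hom (Spec.map (CommRingCat.ofHom (algebraMap R K)))) ≫ N.hom =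
      Spec.map (CommRingCat.ofHom ((algebraMap K Ω).comp (algebraMap R K))) := by
    rw [Category.assoc, pullback.condition, ← Category.assoc]
    erw [Over.w x]
    exact (Spec.map_comp _ _).symm
  obtain ⟨l, hl₁, hl₂⟩ := Groth.Agent.SGA7X.exists_lift_of_specializes (K := K) W hW N.hom _ hy hz hsp
  exact Groth.Agent.SGA7X.galAct_eq_self_of_lift W hW N m
    (Groth.Agent.SGA7X.formallyUnramified_pow_of_comm N m hnu) σ hσ x hx l hl₁ hl₂

end Groth.Agent.S4075
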