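import Groth.Statements.S4099
import Groth.Agent.GrpSchLib.NeutralSub
import Groth.Agent.GrpSchLib.SmoothUnit

set_option autoImplicit false
universe u
open CategoryTheory MonoidalCategory CartesianMonoidalCategory MonObj GrpObj AlgebraicGeometry CategoryTheory.Limits
open SGA3 Groth.Agent
open scoped CategoryTheory.Obj

namespace Groth.Agent.S4099

/-- (ii) ⟹ (iv): let S be a reduced scheme and G an S-group scheme locally of finite presentation over S
such that every fibre G_s is smooth over κ(s) and s ↦ dim G_s is locally constant on S. Then G⁰ (the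
union of the neutral components of the fibres) is open, underlies an open subgroup scheme smooth
over S, and G is smooth over S at every point of the unit section. (Without 'S reduced' the last two
conclusions fail.) -/
theorem result (S : Scheme.{u}) [IsReduced S] (G : Over S) [GrpObj G]
    [LocallyOfFinitePresentation G.hom]
    (hfib : ∀ s : S, Smooth (pullback.snd G.hom (S.fromSpecResidueField s)))
    (hdim : IsLocallyConstant (fun s : S => topologicalKrullDim ↥(G.hom.base ⁻¹' {s}))) :
    IsOpen (SGA3x.neutralSet G) ∧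
    (∃ (G0 : Over S) (_ : GrpObj G0) (i : G0 ⟶ G), IsMonHom i ∧ IsOpenImmersion i.left ∧
      Set.range i.left.base = SGA3x.neutralSet G ∧ Smooth G0.hom) ∧
    ∃ U : G.left.Opens, Smooth (U.ι ≫ G.hom) ∧ ∀ p : ↥(𝟙_ (Over S)).left, η[G].left.base p ∈ U := by
  let V : G.left.Opens := ⟨GrpSchLib.Loci.loc @Smooth G.hom, GrpSchLib.Loci.isOpen_loc _ _⟩
  have hV : Smooth (V.ι ≫ G.hom) := GrpSchLib.Loci.of_forall_mem @Smooth _ fun x => by
    obtain ⟨U, hxU, hU⟩ := x.2
    refine ⟨V.ι ⁻¹ᵁ U, hxU, ?_⟩
    rw [← Category.assoc]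
    haveI := hU
    rw [← morphismRestrict_ι V.ι U, Category.assoc]
    infer_instance
  have hsm : ∃ U : G.left.Opens, Smooth (U.ι ≫ G.hom) ∧ ∀ p : ↥(𝟙_ (Over S)).left, η[G].left p ∈ U :=
    ⟨V, hV, fun p => GrpSchLib.SmoothUnit.exists_smooth_nhd G hfib hdim p⟩
  obtain ⟨G0, str, i, hi, hoi, hr, hs0, -⟩ := GrpSchLib.NeutralSub.exists_smooth_openSubgroup hsm
  exact ⟨(GrpSchLib.NeutralSub.main hsm).1, ⟨G0, str, i, hi, hoi, hr, hs0⟩, hsm⟩

end Groth.Agent.S4099
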