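import Groth.Statements.S4115
import Groth.Agent.MaxTorusLib.MaxEtale

set_option autoImplicit false
universe u
open CategoryTheory MonoidalCategory CartesianMonoidalCategory MonObj GrpObj AlgebraicGeometry CategoryTheory.Limits
open SGA3x

set_option backward.isDefEq.respectTransparency false
set_option backward.isDefEq.respectTransparency.types false
set_option linter.style.haveILetI false
set_option synthInstance.maxHeartbeats 200000
set_option maxHeartbeats 1000000

namespace Groth.Agent.S4115

/-- Let G be an S-group scheme which is affine and smooth over S. The following are equivalent: (i) the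
reductive rank of the geometric fibres of G is a locally constant function on S; (ii) G acquires a
maximal torus after an etale surjective base change. -/
theorem result (S : Scheme.{u}) (G : Over S) [GrpObj G]
    [IsAffineHom G.hom] [Smooth G.hom] :
    SGA3x.RedRankLocallyConstant G ↔ SGA3x.HasMaxTorusEtaleLocally G := by
  constructor
  · intro hr
    have key : ∀ s : S, ∃ (V : Scheme.{u}) (f : V ⟶ S), Etale f ∧ s ∈ Set.range f.base ∧
        ∃ (T : Over V) (_ : GrpObj T) (i : T ⟶ Red.bc f G), Red.IsMaximalTorus i := by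
      intro s
      obtain ⟨U, hsU, r, hU⟩ := hr s
      obtain ⟨T₀, _, i₀, hi₀, hd₀⟩ := hU s hsU
      haveI := hi₀.1
      haveI := hi₀.2.1
      obtain ⟨H, _, hH, hdim, V, f, hf, ⟨v₀, hv₀⟩, u, hu, hu'⟩ := MaxTorusLib.exists_etale_torus s hi₀.2.2.1 i₀
      haveI := hf
      haveI := hu
      haveI := hu'
      let W : V.Opens := f ⁻¹ᵁ U
      let g := W.ι ≫ f
      haveI : (Over.pullback W.ι).PreservesMonomorphisms :=
        Functor.preservesMonomorphisms_of_adjunction (Over.mapPullbackAdj W.ι)
      let cH := GrpLimLib.cmp (rfl : W.ι ≫ f = g) H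
      let cG := GrpLimLib.cmp (rfl : W.ι ≫ f = g) G
      let u' : Red.bc g H ⟶ Red.bc g G := cH.inv ≫ (Over.pullback W.ι).map u ≫ cG.hom
      haveI : IsMonHom u' :=
        SgaFix20.isMonHom_comp cH.inv _ inferInstance (SgaFix20.isMonHom_comp _ _ inferInstance inferInstance)
      haveI : Mono u' := mono_comp _ _
      have hsW : v₀ ∈ W := by show f.base v₀ ∈ U; rw [hv₀]; exact hsU
      refine ⟨W, g, inferInstanceAs (Etale (W.ι ≫ f)), ⟨⟨v₀, hsW⟩, ?_⟩, Red.bc g H, inferInstance, u',
        MaxTorusLib.isMaximalTorus_of_rank g hH u' r (fun v => hU _ ?_) fun v => (hdim _ _).trans hd₀⟩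
      · show (W.ι ≫ f) _ = s
        rw [Scheme.Hom.comp_apply]
        exact hv₀
      · show (W.ι ≫ f) v ∈ U
        rw [Scheme.Hom.comp_apply]
        exact v.2
    choose V f hf hs h using key
    exact MaxTorusLib.hasMaxTorusEtaleLocally_of_family f hf (fun s => ⟨s, hs s⟩) G h
  · rintro ⟨S', f, hf, hsurj, T, _, i, hi⟩ s
    haveI := hf
    obtain ⟨s', rfl⟩ := hsurj.surj s
    obtain ⟨B, b, n, hb, ⟨y, hy⟩, hn⟩ := MaxTorusLib.exists_etale_rank hi.2.2.1 s'
    haveI := hb
    refine ⟨⟨Set.range (b ≫ f).base, (b ≫ f).isOpenMap.isOpen_range⟩, ⟨y, ?_⟩, (n : WithBot ℕ∞), ?_⟩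
    · show (b ≫ f) y = f s'
      rw [Scheme.Hom.comp_apply, hy]
    rintro _ ⟨z, rfl⟩
    let gz := Red.geomPt z
    haveI : QuasiCompact (Red.bc f G).hom := inferInstanceAs (QuasiCompact (pullback.snd G.hom f))
    haveI : LocallyOfFiniteType (Red.bc f G).hom := inferInstanceAs (LocallyOfFiniteType (pullback.snd G.hom f))
    have h := MaxTorusLib.isMaximalTorus_comp_iso (MaxTorusLib.isMaximalTorus_bc (gz ≫ b) hi)
      (GrpLimLib.cmp (Category.assoc gz b f : (gz ≫ b) ≫ f = gz ≫ b ≫ f) G)
    have h' := MaxTorusLib.hasRedRank_of_pt (b ≫ f) z h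
    rwa [hn gz] at h'

end Groth.Agent.S4115
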