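import Groth.Statements.S4118
import Groth.Agent.MaxTorusLib.Basic
import Groth.Agent.RedSub30.Centre
import Groth.Agent.SgaFix20.SplitRank
import Groth.Agent.GrpSchLib.MultTypeComm
import Groth.Agent.SgaFix20.Centralizer

set_option backward.isDefEq.respectTransparency false
set_option linter.style.haveILetI false

set_option autoImplicit false
universe u
open CategoryTheory MonoidalCategory CartesianMonoidalCategory MonObj GrpObj AlgebraicGeometry CategoryTheory.Limits
open SGA3x

namespace Groth.Agent.S4118

/-- Let G be an S-group scheme, smooth, separated and of finite type over S, and i : T → G a maximal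
torus. Then the centralizer of T is represented by a closed subgroup scheme c : C → G which is a
Cartan subgroup of G (smooth over S with Cartan geometric fibres); T factors through C as a maximal
torus of C, and every maximal torus of C coincides with T (as a subgroup of C). -/
theorem result (S : Scheme.{u}) (G : Over S) [GrpObj G]
    [Smooth G.hom] [IsSeparated G.hom] [QuasiCompact G.hom]
    (T : Over S) [GrpObj T] (i : T ⟶ G) (hT : Red.IsMaximalTorus i) :
    ∃ (C : Over S) (_ : GrpObj C) (c : C ⟶ G), Red.IsCentralizerOf i c ∧ IsClosedImmersion c.left ∧ SGA3x.IsCartan c ∧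
      ∃ i' : T ⟶ C, i' ≫ c = i ∧ Red.IsMaximalTorus i' ∧
        ∀ (T' : Over S) [GrpObj T'] (j : T' ⟶ C), Red.IsMaximalTorus j → ∃ φ : T' ≅ T, φ.hom ≫ i' = j := by
  haveI := hT.1
  haveI := hT.2.1
  haveI : LocallyOfFiniteType G.hom := inferInstance
  have hFT := GrpSchLib.RankOne.isMultTypeFT_of_isTorus hT.2.2.1
  obtain ⟨C, iC, c, hc, hcl, hsm⟩ := SgaFix20.exists_centralizer_smooth (MaxTorusLib.locally_of_isMultTypeFT hFT) i
  haveI := hc.1
  haveI := hc.2.1
  haveI := hcl
  haveI := hsm
  haveI : IsSeparated C.hom := by rw [← Over.w c]; infer_instance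
  haveI : QuasiCompact C.hom := by rw [← Over.w c]; infer_instance
  haveI : LocallyOfFiniteType C.hom := inferInstance
  have hTc : ∀ (X : Over S) (a b : X ⟶ T), a * b = b * a := fun X a b =>
    GrpSchLib.MultTypeComm.points_comm hFT a b
  obtain ⟨i', hi'⟩ := RedSub30.exists_lift_centralizer_self hc hTc
  haveI : IsMonHom i' := SgaFix20.isMonHom_of_comp_mono hi'
  haveI : Mono (i' ≫ c) := by rw [hi']; infer_instance
  haveI : Mono i' := mono_of_mono i' c
  have hmax : Red.IsMaximalTorus i' := by
    refine ⟨inferInstance, inferInstance, hT.2.2.1, fun s T' _ j _ _ f hT' hf => ?_⟩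
    haveI : (Over.pullback (Red.geomPt s)).PreservesMonomorphisms :=
      Functor.preservesMonomorphisms_of_adjunction (Over.mapPullbackAdj (Red.geomPt s))
    haveI : IsMonHom (j ≫ (Over.pullback (Red.geomPt s)).map c) :=
      SgaFix20.isMonHom_comp _ _ inferInstance inferInstance
    refine hT.2.2.2 s T' (j ≫ (Over.pullback (Red.geomPt s)).map c) f hT' ?_
    rw [← Category.assoc, hf, ← Functor.map_comp, hi']
  refine ⟨C, iC, c, hc, hcl, ⟨hc.1, hc.2.1, hsm, fun s => ?_⟩, i', hi', hmax, fun T' _ j hj => ?_⟩
  · haveI : (Over.pullback (Red.geomPt s)).PreservesMonomorphisms :=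
      Functor.preservesMonomorphisms_of_adjunction (Over.mapPullbackAdj (Red.geomPt s))
    exact ⟨inferInstance, inferInstance, Red.geomFibre s T, inferInstance, (Over.pullback (Red.geomPt s)).map i,
      MaxTorusLib.isMaximalTorus_geomFibre hT s, MaxTorusLib.isCentralizerOf_bc _ hc⟩
  · haveI := hj.1
    haveI := hj.2.1
    obtain ⟨l, hl⟩ := MaxTorusLib.exists_factor_central hj.2.2.1 j hmax (Or.inl fun X g y => by
      rw [← cancel_mono c, MonObj.mul_comp, MonObj.mul_comp, Category.assoc, hi']
      exact RedSub30.centralizer_comm hc g y)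
    haveI : IsMonHom l := SgaFix20.isMonHom_of_comp_mono hl
    haveI : IsIso l := MaxTorusLib.isIso_of_geomFibres (GrpSchLib.RankOne.isMultTypeFT_of_isTorus hj.2.2.1) hFT l
      fun s => by
        haveI : (Over.pullback (Red.geomPt s)).PreservesMonomorphisms :=
          Functor.preservesMonomorphisms_of_adjunction (Over.mapPullbackAdj (Red.geomPt s))
        exact hj.2.2.2 s (Red.geomFibre s T) ((Over.pullback (Red.geomPt s)).map i')
          ((Over.pullback (Red.geomPt s)).map l) (RedSub30.TorusAbsorb.isTorus_bc _ hT.2.2.1)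
          (by rw [← Functor.map_comp, hl])
    exact ⟨asIso l, hl⟩

end Groth.Agent.S4118
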