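import Groth.Statements.S4136
import Groth.Agent.MaxTorusLib.RankFun

set_option autoImplicit false
universe u
open CategoryTheory MonoidalCategory CartesianMonoidalCategory MonObj GrpObj AlgebraicGeometry CategoryTheory.Limits
open SGA3x

set_option backward.isDefEq.respectTransparency false
set_option backward.isDefEq.respectTransparency.types false
set_option linter.style.haveILetI false
set_option synthInstance.maxHeartbeats 200000
set_option maxHeartbeats 1000000

namespace Groth.Agent.S4136

/-- First assertion: let G be an S-group scheme which is affine and smooth over S. Then the reductive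
rank of the geometric fibres (the dimension of their maximal tori) is a lower semicontinuous
function on S: for every n the set of points whose geometric fibre has a maximal torus of dimension
≥ n is open. (The source also proves that the nilpotent rank is upper semicontinuous.) -/
theorem result (S : Scheme.{u}) (G : Over S) [GrpObj G] [IsAffineHom G.hom] [Smooth G.hom] (n : ℕ) :
    IsOpen {s : S | ∃ r : WithBot ℕ∞, SGA3x.HasRedRank G s r ∧ (n : WithBot ℕ∞) ≤ r} := by
  rw [isOpen_iff_forall_mem_open]
  rintro s ⟨r, ⟨T, _, i, hi, hd⟩, hr⟩
  haveI := hi.1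
  haveI := hi.2.1
  obtain ⟨H, _, hH, hdim, V, f, hf, hs, u, hu, hu'⟩ := MaxTorusLib.exists_etale_torus s hi.2.2.1 i
  haveI := hf
  haveI := hu
  haveI := hu'
  refine ⟨Set.range f.base, ?_, f.isOpenMap.isOpen_range, hs⟩
  rintro _ ⟨v, rfl⟩
  obtain ⟨r', h1, h2⟩ := MaxTorusLib.exists_hasRedRank_ge f hH u v
  exact ⟨r', h1, hr.trans (by rw [← hd, ← hdim _ (Red.geomPt v ≫ f)]; exact h2)⟩

end Groth.Agent.S4136
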