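import Groth.Statements.S4139
import Groth.Agent.MaxTorusLib.CentralFamily
import Groth.Agent.MaxTorusLib.TorusNbhd

set_option autoImplicit false
universe u
open CategoryTheory MonoidalCategory CartesianMonoidalCategory MonObj GrpObj AlgebraicGeometry CategoryTheory.Limits
open SGA3x

set_option backward.isDefEq.respectTransparency false
set_option backward.isDefEq.respectTransparency.types false
set_option linter.style.haveILetI false
set_option synthInstance.maxHeartbeats 200000
set_option maxHeartbeats 1000000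

namespace Groth.Agent.S4139

theorem comm_bc {S U : Scheme.{u}} (g : U ⟶ S) {G : Over S} [GrpObj G] [IsCommMonObj G] {Y : Over U}
    (a b : Y ⟶ Red.bc g G) : Commute a b :=
  (DSPtsLib.theta_bijective g).1 (by rw [DSPtsLib.theta_mul, DSPtsLib.theta_mul]; exact mul_comm _ _)


/-- Let G be a commutative S-group scheme, smooth and affine over S, whose geometric fibres have locally
constant reductive rank. Then G has a maximal torus T, and every subtorus of G is contained in T (in
particular T is the unique maximal torus). -/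
theorem result (S : Scheme.{u}) (G : Over S) [GrpObj G] [IsCommMonObj G]
    [IsAffineHom G.hom] [Smooth G.hom] (hr : SGA3x.RedRankLocallyConstant G) :
    ∃ (T : Over S) (_ : GrpObj T) (i : T ⟶ G), Red.IsMaximalTorus i ∧
      ∀ (R : Over S) [GrpObj R] (j : R ⟶ G) [IsMonHom j] [Mono j], Red.IsTorus R → ∃ f : R ⟶ T, f ≫ i = j := by
  haveI : LocallyOfFiniteType G.hom := inferInstance
  have key : ∀ s : S, ∃ (V : Scheme.{u}) (f : V ⟶ S), Etale f ∧ s ∈ Set.range f.base ∧
      ∃ (T' : Over V) (_ : GrpObj T') (i' : T' ⟶ Red.bc f G), Red.IsMaximalTorus i' := by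
    intro s
    obtain ⟨U, hsU, r, hU⟩ := hr s
    obtain ⟨T₀, _, i₀, hi₀, hd₀⟩ := hU s hsU
    haveI := hi₀.1
    haveI := hi₀.2.1
    obtain ⟨H, _, hH, hdim, V, f, hf, ⟨v₀, hv₀⟩, u, hu, hu'⟩ := MaxTorusLib.exists_etale_torus s hi₀.2.2.1 i₀
    haveI := hf
    haveI := hu
    haveI := hu'
    let W : V.Opens := f ⁻¹ᵁ U
    let g := W.ι ≫ f
    haveI : (Over.pullback W.ι).PreservesMonomorphisms :=
      Functor.preservesMonomorphisms_of_adjunction (Over.mapPullbackAdj W.ι)
    let cH := GrpLimLib.cmp (rfl : W.ι ≫ f = g) H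
    let cG := GrpLimLib.cmp (rfl : W.ι ≫ f = g) G
    let u' : Red.bc g H ⟶ Red.bc g G := cH.inv ≫ (Over.pullback W.ι).map u ≫ cG.hom
    haveI : IsMonHom cH.inv := inferInstance
    haveI : IsMonHom u' :=
      SgaFix20.isMonHom_comp cH.inv _ inferInstance (SgaFix20.isMonHom_comp _ _ inferInstance inferInstance)
    haveI : Mono u' := mono_comp _ _
    have hsW : v₀ ∈ W := by show f.base v₀ ∈ U; rw [hv₀]; exact hsU
    refine ⟨W, g, inferInstanceAs (Etale (W.ι ≫ f)), ⟨⟨v₀, hsW⟩, ?_⟩, Red.bc g H, inferInstance, u', inferInstance,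
      inferInstance, RedSub30.TorusAbsorb.isTorus_bc g hH, fun v R _ j _ _ φ hR hφ => ?_⟩
    · show (W.ι ≫ f) _ = s
      rw [Scheme.Hom.comp_apply]
      exact hv₀
    have hvU : g.base v ∈ U := by
      show (W.ι ≫ f) v ∈ U
      rw [Scheme.Hom.comp_apply]
      exact v.2
    obtain ⟨T₁, _, i₁, hi₁, hd₁⟩ := hU (g.base v) hvU
    obtain ⟨m, hm⟩ := ConjEtale19.exists_geomPt_lift g v
    let gv := Red.geomPt v
    let gt := Red.geomPt (g.base v)
    haveI : QuasiCompact (Red.geomFibre (g.base v) G).hom := inferInstanceAs (QuasiCompact (pullback.snd G.hom gt))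
    haveI : LocallyOfFiniteType (Red.geomFibre (g.base v) G).hom :=
      inferInstanceAs (LocallyOfFiniteType (pullback.snd G.hom gt))
    let ΦG := GrpLimLib.cmp (rfl : gv ≫ g = gv ≫ g) G ≪≫ (GrpLimLib.cmp hm G).symm
    haveI : IsMonHom ΦG.hom :=
      SgaFix20.isMonHom_comp _ _ inferInstance (inferInstanceAs (IsMonHom (GrpLimLib.cmp hm G).inv))
    haveI : QuasiCompact (Red.bc m (Red.geomFibre (g.base v) G)).hom :=
      inferInstanceAs (QuasiCompact (pullback.snd _ m))
    haveI : QuasiSeparated (Red.bc m (Red.geomFibre (g.base v) G)).hom := by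
      haveI : QuasiSeparated (Red.geomFibre (g.base v) G).hom := inferInstanceAs (QuasiSeparated (pullback.snd G.hom gt))
      exact inferInstanceAs (QuasiSeparated (pullback.snd _ m))
    haveI : LocallyOfFiniteType (Red.bc m (Red.geomFibre (g.base v) G)).hom :=
      inferInstanceAs (LocallyOfFiniteType (pullback.snd _ m))
    have hmax := MaxTorusLib.isMaximalTorus_bc m hi₁
    haveI := hmax.1
    haveI := hmax.2.1
    haveI : IsMonHom (j ≫ ΦG.hom) := SgaFix20.isMonHom_comp _ _ inferInstance inferInstance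
    obtain ⟨l, hl⟩ := MaxTorusLib.exists_factor_commute _ hmax (j ≫ ΦG.hom) hR fun X a b => by
      refine (DSPtsLib.theta_bijective m).1 ?_
      rw [DSPtsLib.theta_mul, DSPtsLib.theta_mul]
      exact comm_bc gt _ _
    haveI : IsMonHom l := SgaFix20.isMonHom_of_comp_mono hl
    haveI : Mono (j ≫ ΦG.hom) := mono_comp _ _
    haveI : Mono l := mono_of_mono_fac hl
    haveI : (Over.pullback gv).PreservesMonomorphisms :=
      Functor.preservesMonomorphisms_of_adjunction (Over.mapPullbackAdj gv)
    haveI : Mono (φ ≫ j) := by rw [hφ]; infer_instance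
    haveI : Mono φ := mono_of_mono φ j
    haveI : IsMonHom φ := SgaFix20.isMonHom_of_comp_mono hφ
    haveI : IsMonHom (φ ≫ l) := SgaFix20.isMonHom_comp _ _ inferInstance inferInstance
    obtain ⟨n, -, hn, hn'⟩ := MaxTorusLib.exists_rank_torus hi₁.2.2.1
    haveI : IsIso (φ ≫ l) := by
      haveI : Mono (φ ≫ l) := mono_comp _ _
      refine MaxTorusLib.isIso_of_dim_eq (RedSub30.TorusAbsorb.isTorus_bc gv (RedSub30.TorusAbsorb.isTorus_bc g hH))
        (RedSub30.TorusAbsorb.isTorus_bc m hi₁.2.2.1) _ ?_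
      let e := GrpLimLib.cmp (rfl : gv ≫ g = gv ≫ g) H
      refine (IsHomeomorph.topologicalKrullDim_eq _
        ((Over.forget _).mapIso e).hom.homeomorph.isHomeomorph).trans ?_
      refine (hdim _ (gv ≫ g)).trans ?_
      rw [hd₀, ← hd₁, hn]
      exact (hn' m).symm
    haveI : IsSplitEpi l := IsSplitEpi.mk' ⟨inv (φ ≫ l) ≫ φ, by rw [Category.assoc, IsIso.inv_hom_id]⟩
    haveI : IsIso l := isIso_of_mono_of_isSplitEpi l
    exact IsIso.of_isIso_comp_right φ l
  choose V f hf hs T' iT' i' hmax using key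
  letI := iT'
  haveI := hf
  obtain ⟨T, iT, i, hi, -, hbig⟩ := MaxTorusLib.exists_central_maximal_family f (fun s => inferInstance)
    (fun s => inferInstance) (fun s => ⟨s, hs s⟩) G hmax (fun s X t g => comm_bc (f s) _ _)
  exact ⟨T, iT, i, hi, hbig⟩

end Groth.Agent.S4139
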