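import Groth.Statements.S4149
import Groth.Agent.RedCentre19.Nilp
import Groth.Agent.RedSub30.TorusClosed

set_option autoImplicit false
set_option linter.style.haveILetI false
universe u
open CategoryTheory MonoidalCategory CartesianMonoidalCategory MonObj GrpObj AlgebraicGeometry CategoryTheory.Limits
open SGA3x

namespace Groth.Agent.S4149

/-- Let G be an affine, connected algebraic group over a field k which is nilpotent (for some n the n-th
term of the lower central series of G(X) is trivial for every k-scheme X). Then G has a largest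
subgroup of multiplicative type M — a closed subgroup scheme of multiplicative type and of finite
type through which every such subgroup factors — and M is central in G. (The source adds that M is
characteristic and G/M unipotent.) -/
theorem result (k : Type u) [Field k] (G : Over (Spec (CommRingCat.of k)))
    [GrpObj G] [IsAffine G.left] [LocallyOfFiniteType G.hom] [ConnectedSpace ↥G.left]
    (hnil : ∃ n : ℕ, ∀ X : Over (Spec (CommRingCat.of k)), (⊤ : Subgroup (X ⟶ G)).lowerCentralSeries n = ⊥) :
    ∃ (M : Over (Spec (CommRingCat.of k))) (_ : GrpObj M) (m : M ⟶ G), IsMonHom m ∧ IsClosedImmersion m.left ∧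
      SGA3x.IsMultTypeFT M ∧
      (∀ (M' : Over (Spec (CommRingCat.of k))) [GrpObj M'] (m' : M' ⟶ G) [IsMonHom m'] [Mono m'],
        SGA3x.IsMultTypeFT M' → ∃ f : M' ⟶ M, f ≫ m = m') ∧
      ∀ (X : Over (Spec (CommRingCat.of k))) (x : X ⟶ M) (g : X ⟶ G), (x ≫ m) * g = g * (x ≫ m) := by
  haveI : IsAffineHom G.hom := inferInstance
  haveI : QuasiCompact G.hom := inferInstance
  obtain ⟨Z, hZg, z, hz, hzm, hZm, hZc, hZu⟩ := RedCentre19.exists_reductiveCentre G
  haveI := hz
  haveI := hzm
  refine ⟨Z, hZg, z, hz, Groth.Agent.RedSub30.TorusClosed.isClosedImmersion_of_mono z hZm, hZm, ?_, hZc⟩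
  intro M' _ m' _ _ hM'
  have hcen : ∀ (X : Over (Spec (CommRingCat.of k))) (x : X ⟶ M') (g : X ⟶ G), (x ≫ m') * g = g * (x ≫ m') :=
    RedCentre19.central_of_nilpotent hnil hM' m'
  let F := Over.pullback (𝟙 (Spec (CommRingCat.of k)))
  let η' : F ≅ 𝟭 _ := Over.pullbackId
  haveI : IsMonHom (F.map m') := inferInstance
  obtain ⟨w, hw⟩ := hZu _ (𝟙 _) (Red.bc (𝟙 _) M') (F.map m')
    (Groth.Agent.GrpSchLib.MultTypeBC.isMultTypeFT_bc _ hM') (fun X x g => by
      apply (Groth.Agent.DSPtsLib.theta_bijective (H := G) (Y := X) (𝟙 _)).1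
      rw [Groth.Agent.DSPtsLib.theta_mul, Groth.Agent.DSPtsLib.theta_mul, Groth.Agent.MultDefLib.theta_map]
      exact hcen _ _ _)
  refine ⟨η'.inv.app M' ≫ w ≫ η'.hom.app Z, ?_⟩
  rw [Category.assoc, Category.assoc, ← show F.map z ≫ η'.hom.app G = η'.hom.app Z ≫ z from η'.hom.naturality z,
    reassoc_of% hw, show F.map m' ≫ η'.hom.app G = η'.hom.app M' ≫ m' from η'.hom.naturality m',
    Iso.inv_hom_id_app_assoc]

end Groth.Agent.S4149
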