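import Groth.Statements.S4213
import Groth.Agent.DRHyp.EpsUnit

set_option autoImplicit false
open CategoryTheory AlgebraicGeometry Topology TopologicalSpace
open An

namespace Groth.Agent.S4213

/-- Let X be smooth over ℂ and F a finite locally constant (that is, locally constant constructible
torsion) abelian sheaf on X_et. Then ε^* F is locally constant with finite fibres on the classical
site of X(ℂ), and the unit F → ε_* ε^* F is an isomorphism. -/
theorem result (X : Scheme.{0}) [X.Over An.SC] [LocallyOfFiniteType (X ↘ An.SC)]
    [Fact An.EtaleLH] [An.EpsCont X] [Smooth (X ↘ An.SC)]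
    (F : EtCoh.Ab X) (hF : EtCoh.IsFiniteLocallyConstant F) :
    IsIso ((An.epsAdj X).unit.app F) ∧ An.Cl.IsFiniteLocallyConstant ((An.epsPull X).obj F) := by
  exact Groth.Agent.DRHyp.EpsUnit.main F hF

end Groth.Agent.S4213
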