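import Groth.Statements.S4260
import Groth.Agent.Trace051.LinAlg
import Groth.Agent.Trace051.Lam
import Groth.Agent.Trace051.Points

set_option autoImplicit false
universe u
open CategoryTheory CategoryTheory.Limits AlgebraicGeometry Opposite
open scoped BigOperators
open SGA4h

namespace Groth.Agent.S4260

set_option backward.isDefEq.respectTransparency.types false
set_option linter.style.haveILetI false

open Groth.Agent.Trace051

theorem mem_range_of_pow_card {k K : Type u} [Field k] [Fintype k] [Field K] [Algebra k K] (x : K)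
    (hx : x ^ Fintype.card k = x) : x ∈ Set.range (algebraMap k K) := by
  classical
  have hq := Fintype.one_lt_card (α := k)
  have hroots : ((Polynomial.X ^ Fintype.card k - Polynomial.X : Polynomial k).map (algebraMap k K)).roots =
      (Finset.univ.val : Multiset k).map (algebraMap k K) := by
    rw [← FiniteField.roots_X_pow_card_sub_X k]
    refine (Polynomial.roots_map_of_injective_of_card_eq_natDegree (algebraMap k K).injective ?_).symm
    rw [FiniteField.roots_X_pow_card_sub_X, FiniteField.X_pow_card_sub_X_natDegree_eq k hq]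
    simp
  have hmem : x ∈ ((Polynomial.X ^ Fintype.card k - Polynomial.X : Polynomial k).map (algebraMap k K)).roots := by
    rw [Polynomial.map_sub, Polynomial.map_pow, Polynomial.map_X, Polynomial.mem_roots, Polynomial.IsRoot]
    · simp [hx]
    · exact FiniteField.X_pow_card_sub_X_ne_zero _ hq
  rw [hroots, Multiset.mem_map] at hmem
  obtain ⟨c, -, hc⟩ := hmem
  exact ⟨c, hc⟩

theorem cancel_specι {k K : Type u} [Field k] [Field K] [Algebra k K] {X₀ : Scheme.{u}} [IsAffine X₀]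
    {x x' : Spec (CommRingCat.of k) ⟶ X₀} (h : FinFr.specι k K ≫ x = FinFr.specι k K ≫ x') : x = x' := by
  rw [← cancel_mono X₀.isoSpec.hom]
  obtain ⟨φ, hφ⟩ := Spec.map_surjective (x ≫ X₀.isoSpec.hom)
  obtain ⟨φ', hφ'⟩ := Spec.map_surjective (x' ≫ X₀.isoSpec.hom)
  have h' := congrArg (· ≫ X₀.isoSpec.hom) h
  simp only [Category.assoc, ← hφ, ← hφ', ← Spec.map_comp] at h'
  rw [← hφ, ← hφ']
  congr 1
  ext s
  exact (algebraMap k K).injective (congrArg (fun m => m.hom s) (Spec.map_injective h'))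

/-- a geometric point fixed by Frobenius is rational -/
theorem exists_descent {k K : Type u} [Field k] [Fintype k] [Field K] [Algebra k K] [Algebra.IsAlgebraic k K]
    {X₀ : Scheme.{u}} [IsAffine X₀] (y : Spec (CommRingCat.of K) ⟶ X₀)
    (h : Spec.map (CommRingCat.ofHom (FinFr.arith k K : K →+* K)) ≫ y = y) :
    ∃ x : Spec (CommRingCat.of k) ⟶ X₀, FinFr.specι k K ≫ x = y := by
  obtain ⟨ψ, hψ⟩ := Spec.map_surjective (y ≫ X₀.isoSpec.hom)
  have hfix : ∀ s, (ψ.hom s) ^ Fintype.card k = ψ.hom s := fun s => by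
    have h' := congrArg (· ≫ X₀.isoSpec.hom) h
    simp only [Category.assoc, ← hψ, ← Spec.map_comp] at h'
    exact congrArg (fun m => m.hom s) (Spec.map_injective h')
  choose c hc using fun s => mem_range_of_pow_card (ψ.hom s) (hfix s)
  have hinj := (algebraMap k K).injective
  let ψ₀ : Γ(X₀, ⊤) →+* k :=
    { toFun := c
      map_one' := hinj (by rw [hc, map_one, map_one])
      map_mul' := fun a b => hinj (by rw [map_mul (algebraMap k K), hc, hc, hc, map_mul])
      map_zero' := hinj (by rw [hc, map_zero, map_zero])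
      map_add' := fun a b => hinj (by rw [map_add (algebraMap k K), hc, hc, hc, map_add]) }
  refine ⟨Spec.map (CommRingCat.ofHom ψ₀) ≫ X₀.isoSpec.inv, ?_⟩
  rw [← cancel_mono X₀.isoSpec.hom, Category.assoc, Category.assoc, Iso.inv_hom_id, Category.comp_id, ← hψ,
    ← Spec.map_comp]
  congr 1
  ext s
  exact hc s


theorem fixed_calc {Λ : Type} [CommRing Λ] [Fact FinFr.PullExact.{u}] {T X X₀ Y : Scheme.{u}}
    (s : T ⟶ X) (G : X ⟶ X) (GT : T ⟶ T) (π : X ⟶ X₀) (πT : T ⟶ Y) (x : Y ⟶ X₀) (hG : G ≫ π = π)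
    (hGT : GT ≫ πT = πT) (hs : s ≫ G = GT ≫ s) (ht : s ≫ π = πT ≫ x) (L : EtLam.Sheaf Λ X₀)
    (y : EtCoh.H X (EtLam.pullback π L).carrier 0) :
    (congrEquiv ht L 0).trans (compEquiv πT x L 0) (viaLin s π _ rfl L 0 (Via G π π hG L.carrier 0 y)) =
      Via GT πT πT hGT ((EtCoh.pull x).obj L.carrier) 0
        ((congrEquiv ht L 0).trans (compEquiv πT x L 0) (viaLin s π _ rfl L 0 y)) := by
  rw [LinearEquiv.trans_apply, LinearEquiv.trans_apply]
  refine (compEquiv_apply πT x L 0 _).trans ?_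
  rw [congrEquiv_apply, viaLin_apply, viaLin_apply]
  refine Eq.trans ?_ (congrArg (Via GT πT πT hGT ((EtCoh.pull x).obj L.carrier) 0)
    ((compEquiv_apply πT x L 0 _).trans (congrArg _ (congrEquiv_apply ht L 0 _)))).symm
  exact via_fixed s G GT π πT x hG hGT hs ht L.carrier 0 y

theorem ker_calc {Λ : Type} [CommRing Λ] [Fact FinFr.PullExact.{u}] {T X X₀ : Scheme.{u}}
    (s s' : T ⟶ X) (G : X ⟶ X) (GT : T ⟶ T) (π : X ⟶ X₀) (hG : G ≫ π = π) (hs : s ≫ G = GT ≫ s')
    (L : EtLam.Sheaf Λ X₀) (y : EtCoh.H X (EtLam.pullback π L).carrier 0)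
    (hy : viaLin s' π _ rfl L 0 y = 0) : viaLin s π _ rfl L 0 (Via G π π hG L.carrier 0 y) = 0 := by
  rw [viaLin_apply] at hy ⊢
  have hb : (s ≫ G) ≫ π = s ≫ π := by rw [Category.assoc, hG]
  have hc : (GT ≫ s') ≫ π = s ≫ π := hs ▸ hb
  rw [via_comp s G π π (s ≫ π) _ _ hb, via_congr hs π _ hb hc,
    ← via_comp GT s' π (s' ≫ π) _ rfl ((Category.assoc _ _ _).symm.trans hc) hc]
  exact (congrArg _ hy).trans (map_zero _)

/-- the trace of Frobenius on the sections of a sheaf over a finite scheme -/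
theorem trace_frob_finite {k K : Type u} [Field k] [Fintype k] [Field K] [Algebra k K]
    [IsAlgClosed K] [Algebra.IsAlgebraic k K] {Λ : Type} [Field Λ] [Finite Λ]
    [Fact FinFr.PullExact.{u}] {X₀ : Scheme.{u}} (a : X₀ ⟶ Spec (CommRingCat.of k)) [IsFinite a]
    (L : EtLam.Sheaf Λ X₀) (hL : EtLam.IsConstructible L) :
    LinearMap.trace Λ _ (FinFr.frob (K := K) a L 0) =
      ∑ᶠ x : FinFr.RatPt a, FinFr.locTrace (K := K) x.1 L := by
  classical
  haveI : IsAffine X₀ := isAffine_of_isAffineHom a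
  let g := FinFr.extStr K a
  haveI : IsFinite g := MorphismProperty.pullback_snd _ _ ‹IsFinite a›
  let idk := 𝟙 (Spec (CommRingCat.of k))
  let T := FinFr.ext K idk
  let j : T ⟶ Spec (CommRingCat.of K) := FinFr.extStr K idk
  haveI : IsIso j := inferInstanceAs (IsIso (pullback.snd idk (FinFr.specι k K)))
  let π := FinFr.extπ K a
  let πT := FinFr.extπ K idk
  have hπT : j ≫ FinFr.specι k K = πT := pullback.condition.symm.trans (Category.comp_id _)
  let σ := (FinFr.arith k K).symm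
  let G := FinFr.galAct a σ
  let GT := FinFr.galAct idk σ
  let Sσ := Spec.map (CommRingCat.ofHom (σ : K →+* K))
  let Sφ := Spec.map (CommRingCat.ofHom (FinFr.arith k K : K →+* K))
  have hSS : Sφ ≫ Sσ = 𝟙 _ := by
    rw [← Spec.map_comp, ← Spec.map_id]
    congr 1
    ext r
    exact (FinFr.arith k K).apply_symm_apply r
  have hSS' : Sσ ≫ Sφ = 𝟙 _ := by
    rw [← Spec.map_comp, ← Spec.map_id]
    congr 1
    ext r
    exact (FinFr.arith k K).symm_apply_apply r
  haveI : Finite (Pts g) := EtFound.finite_points (f := g) (𝟙 _)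
  letI := Fintype.ofFinite (Pts g)
  -- the permutation
  let P : Pts g → Pts g := fun ξ => ⟨Sφ ≫ ξ.1 ≫ G, by
    show (Sφ ≫ ξ.1 ≫ G) ≫ FinFr.extStr K a = _
    rw [Category.assoc, Category.assoc, FinFr.galAct_snd, ← Category.assoc ξ.1, ξ.2, Category.id_comp]
    exact hSS⟩
  have hP : ∀ ξ, (j ≫ ξ.1) ≫ G = GT ≫ j ≫ (P ξ).1 := fun ξ => by
    show _ = GT ≫ FinFr.extStr K idk ≫ Sφ ≫ ξ.1 ≫ G
    rw [← Category.assoc GT, FinFr.galAct_snd]
    show (j ≫ ξ.1) ≫ G = (j ≫ Sσ) ≫ Sφ ≫ ξ.1 ≫ G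
    simp only [Category.assoc]
    rw [reassoc_of% hSS']
  have hPπ : ∀ ξ, (P ξ).1 ≫ π = Sφ ≫ ξ.1 ≫ π := fun ξ => by
    show (Sφ ≫ ξ.1 ≫ G) ≫ FinFr.extπ K a = _
    rw [Category.assoc, Category.assoc, FinFr.galAct_fst]
  -- rational points
  let ι : FinFr.RatPt a → Pts g := fun x => ⟨inv j ≫ FinFr.extHom K idk x.1 x.2, by
    show (inv j ≫ FinFr.extHom K idk x.1 x.2) ≫ pullback.snd _ _ = _
    rw [Category.assoc, FinFr.extHom, pullback.map, pullback.lift_snd, Category.comp_id]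
    exact IsIso.inv_hom_id j⟩
  have hιπ : ∀ x, (ι x).1 ≫ π = FinFr.specι k K ≫ x.1 := fun x => by
    show (inv j ≫ FinFr.extHom K idk x.1 x.2) ≫ FinFr.extπ K a = _
    rw [Category.assoc, FinFr.extHom_fst, IsIso.inv_comp_eq, ← Category.assoc, hπT]
  have hιinj : Function.Injective ι := fun x x' h => Subtype.ext (cancel_specι (K := K) (by
    rw [← hιπ, ← hιπ, h]))
  have hext : ∀ ξ ξ' : Pts g, ξ.1 ≫ π = ξ'.1 ≫ π → ξ = ξ' := fun ξ ξ' h =>
    Subtype.ext (pullback.hom_ext h (ξ.2.trans ξ'.2.symm))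
  have hfix : ∀ x, P (ι x) = ι x := fun x => hext _ _ (by
    rw [hPπ, hιπ, ← Category.assoc, FinFr.specMap_algEquiv_comp_specι])
  have hfix' : ∀ ξ, P ξ = ξ → ∃ x, ι x = ξ := fun ξ h => by
    obtain ⟨x, hx⟩ := exists_descent (k := k) (ξ.1 ≫ π) ((hPπ ξ).symm.trans (by rw [h]))
    refine ⟨⟨x, cancel_specι (K := K) ?_⟩, hext _ _ ((hιπ ⟨x, _⟩).trans hx)⟩
    rw [← Category.assoc, hx, Category.assoc, Category.comp_id]
    show ξ.1 ≫ FinFr.extπ K a ≫ a = _
    rw [pullback.condition, ← Category.assoc]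
    exact (congrArg (· ≫ _) ξ.2).trans (Category.id_comp _)
  haveI : Finite (FinFr.RatPt a) := Finite.of_injective ι hιinj
  letI := Fintype.ofFinite (FinFr.RatPt a)
  -- the local factors
  haveI : ∀ ξ : Pts g, Module.Finite Λ (EtCoh.H T (EtLam.pullback ((j ≫ ξ.1) ≫ π) L).carrier 0) := fun ξ => by
    haveI : Subsingleton T := (asIso j).hom.homeomorph.injective.subsingleton
    haveI : Finite ((EtCoh.stalk (inv j)).obj (EtLam.pullback ((j ≫ ξ.1) ≫ π) L).carrier) :=
      @Finite.of_equiv _ _ (EtFound.finite_stalk_of_isConstructible (isConstructible_carrier hL) _)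
        (((EtFound.stalkPullIso ((j ≫ ξ.1) ≫ π) (inv j)).app L.carrier).addCommGroupIsoToAddEquiv.toEquiv.symm)
    haveI := finite_H_zero ((EtLam.pullback ((j ≫ ξ.1) ≫ π) L).carrier) (inv j)
    exact Module.Finite.of_finite
  let R : ∀ ξ : Pts g, _ →ₗ[Λ] EtCoh.H T (EtLam.pullback ((j ≫ ξ.1) ≫ π) L).carrier 0 :=
    fun ξ => viaLin (j ≫ ξ.1) π _ rfl L 0
  have hR : Function.Bijective fun x ξ => R ξ x := by
    haveI := fun ξ : Pts g => FinFr.pullExact_out (j ≫ ξ.1)
    exact ((Equiv.piCongrRight fun ξ : Pts g => ((EtCoh.HF T 0).mapIso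
      (((EtCore.pullComp (j ≫ ξ.1) π).symm ≪≫ EtCore.pullCongr rfl).app L.carrier)).addCommGroupIsoToAddEquiv.toEquiv).bijective).comp
      (bijective_Hpull_points g j ((EtCoh.pull π).obj L.carrier))
  refine (trace_of_jointly_bijective R hR _ (Function.extend ι (fun x => FinFr.locTrace (K := K) x.1 L) 0)
    fun ξ => ?_).trans ?_
  swap
  · rw [finsum_eq_sum_of_fintype]
    exact (Fintype.sum_of_injective ι hιinj (fun x => FinFr.locTrace (K := K) x.1 L)
      (Function.extend ι (fun x => FinFr.locTrace (K := K) x.1 L) 0)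
      (fun ξ hξ => Function.extend_apply' _ _ _ hξ) (fun x => by rw [hιinj.extend_apply])).symm
  by_cases hξ : P ξ = ξ
  · left
    obtain ⟨x, rfl⟩ := hfix' ξ hξ
    have ht : (j ≫ (ι x).1) ≫ π = πT ≫ x.1 := by
      rw [Category.assoc, hιπ, ← Category.assoc, hπT]
    let e := (congrEquiv ht L 0).trans (compEquiv πT x.1 L 0)
    refine ⟨e.symm.conj (FinFr.locFrob (K := K) x.1 L), ?_, ?_⟩
    · refine LinearMap.ext fun y => e.injective ?_
      show e (R (ι x) (FinFr.frob (K := K) a L 0 y)) = e (e.symm (FinFr.locFrob (K := K) x.1 L (e (R (ι x) y))))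
      rw [e.apply_symm_apply]
      have hGT : GT ≫ πT = πT := FinFr.galAct_fst _ _
      exact fixed_calc (j ≫ (ι x).1) G GT π πT x.1 (FinFr.galAct_fst _ _) hGT
        ((hP (ι x)).trans (by rw [hfix])) ht L y
    · rw [LinearMap.trace_conj', hιinj.extend_apply]
      rfl
  · right
    refine ⟨P ξ, hξ, fun y hy => ?_, Function.extend_apply' _ _ _ ?_⟩
    · exact ker_calc (j ≫ ξ.1) (j ≫ (P ξ).1) G GT π (FinFr.galAct_fst _ _) (hP ξ) L y hy
    · rintro ⟨x, rfl⟩
      exact hξ (hfix x)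

/-- Stated with coefficients a finite field Λ of characteristic invertible in k and a single sheaf: let
k be a finite field, K an algebraic closure, a : X₀ → Spec k finite, and L an etale sheaf of
Λ-modules on X₀ which is constructible. Then Σ_{x ∈ X₀(k)} Tr(F_x, L_x̄) = Σ_i (-1)^i Tr(F^*, H^i(X₀
⊗_k K, L)), where the right side is computed through the trivial compactification (X₀ is proper over
k). -/
theorem result (k K : Type u) [Field k] [Fintype k] [Field K] [Algebra k K]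
    [IsAlgClosed K] [Algebra.IsAlgebraic k K] (Λ : Type) [Field Λ] [Finite Λ] (hΛ : (ringChar Λ : k) ≠ 0)
    [Fact FinFr.PullExact.{u}] {X₀ : Scheme.{u}} (a : X₀ ⟶ Spec (CommRingCat.of k)) [IsFinite a]
    (L : EtLam.Sheaf Λ X₀) (hL : EtLam.IsConstructible L) :
    ∑ᶠ x : FinFr.RatPt a, FinFr.locTrace (K := K) x.1 L =
      ∑ᶠ i : ℕ, (-1 : Λ) ^ i * LinearMap.trace Λ _ (FinFr.frobC (K := K) (𝟙 X₀) a L i) := by
  haveI : IsAffine X₀ := isAffine_of_isAffineHom a
  let g := FinFr.extStr K a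
  haveI : IsFinite g := MorphismProperty.pullback_snd _ _ ‹IsFinite a›
  refine Eq.trans ?_ (finsum_eq_single _ 0 fun i hi => ?_).symm
  · obtain ⟨φ, hφ⟩ := exists_extZeroId_iso (Λ := Λ) L
    rw [pow_zero, one_mul]
    exact (trace_frob_finite (K := K) a L hL).symm.trans (trace_frob_eq_of_iso (K := K) a φ hφ 0)
  · haveI := Trace051.subsingleton_H g
      ((EtLam.pullback (FinFr.extπ K a) (FinFr.extZeroLam (𝟙 X₀) L)).carrier) i (Nat.one_le_iff_ne_zero.2 hi)
    have hz : FinFr.frobC (K := K) (𝟙 X₀) a L i = 0 := LinearMap.ext fun _ => Subsingleton.elim _ _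
    rw [hz, map_zero, mul_zero]

end Groth.Agent.S4260
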