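import Groth.Statements.S4263
import Groth.Agent.FrobTriv51.Basic

set_option autoImplicit false
universe u
open CategoryTheory CategoryTheory.Limits AlgebraicGeometry Opposite
open scoped BigOperators
open SGA4h

namespace Groth.Agent.S4263

/-- For an affine scheme and constant coefficients, pullback along the Frobenius endomorphism equals the
geometric Frobenius on cohomology: let k be a finite field with q elements, K an algebraic
extension, R a k-algebra, X₀ = Spec R, φ_R : R → R the ring endomorphism r ↦ r^q (the Frobenius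
endomorphism F of X₀ is Spec φ_R, a k-morphism), and Λ a coefficient ring. Then for every n the
endomorphism of H^n(X₀ ⊗_k K, Λ) induced by pullback along F × id (using the identifications of the
inverse images of the constant sheaf Λ with Λ) coincides with the geometric Frobenius F^* defined as
transport of structure by the inverse of the arithmetic Frobenius x ↦ x^q of K. -/
theorem result (k K : Type u) [Field k] [Fintype k] [Field K] [Algebra k K]
    [Algebra.IsAlgebraic k K] (Λ : Type) [CommRing Λ] [Fact FinFr.PullExact.{u}]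
    (R : Type u) [CommRing R] [Algebra k R] (φ : R →+* R) (hφ : ∀ r : R, φ r = r ^ Fintype.card k)
    (hw : Spec.map (CommRingCat.ofHom φ) ≫ Spec.map (CommRingCat.ofHom (algebraMap k R)) =
      Spec.map (CommRingCat.ofHom (algebraMap k R))) (n : ℕ)
    (x : EtCoh.H (FinFr.ext K (Spec.map (CommRingCat.ofHom (algebraMap k R))))
      (EtLam.pullback (FinFr.extπ K (Spec.map (CommRingCat.ofHom (algebraMap k R)))) (FinFr.constLam Λ (Spec (CommRingCat.of R)))).carrier n) :
    FinFr.frob (K := K) (Spec.map (CommRingCat.ofHom (algebraMap k R))) (FinFr.constLam Λ (Spec (CommRingCat.of R))) n x =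
      Sheaf.H.map (EtCore.pullConst (FinFr.extπ K (Spec.map (CommRingCat.ofHom (algebraMap k R)))) Λ).inv n
        (FinFr.endConstAdd (Λ := Λ) (FinFr.extHom K (Spec.map (CommRingCat.ofHom (algebraMap k R))) (Spec.map (CommRingCat.ofHom φ)) hw) n
          (Sheaf.H.map (EtCore.pullConst (FinFr.extπ K (Spec.map (CommRingCat.ofHom (algebraMap k R)))) Λ).hom n x)) := by
  obtain ⟨p, hp⟩ := CharP.exists k
  obtain ⟨e, hprime, hq⟩ := FiniteField.card k p
  haveI : Fact p.Prime := ⟨hprime⟩
  let a := Spec.map (CommRingCat.ofHom (algebraMap k R))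
  let g := FinFr.galAct a (FinFr.arith k K).symm
  let Φ := FinFr.extHom K a (Spec.map (CommRingCat.ofHom φ)) hw
  haveI : FrobSch.IsCharP (Spec (CommRingCat.of R)) p := FrobSch.IsCharP.of_hom a p
  haveI : FrobSch.IsCharP (Spec (CommRingCat.of K)) p := FrobSch.IsCharP.of_hom (FinFr.specι k K) p
  haveI : FrobSch.IsCharP (FinFr.ext K a) p := FrobSch.IsCharP.of_hom (FinFr.extπ K a) p
  have hK := FrobTriv51.frobPow_spec p K e ((FinFr.arith k K : K ≃ₐ[k] K) : K →+* K) (fun r => by rw [← hq]; rfl)
  have hR := FrobTriv51.frobPow_spec p R e φ (fun r => by rw [← hq]; exact hφ r)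
  have hΦ : FrobTriv51.frobPow p (FinFr.ext K a) e ≫ g = Φ := by
    refine pullback.hom_ext ?_ ?_
    · show (_ ≫ g) ≫ FinFr.extπ K a = Φ ≫ FinFr.extπ K a
      rw [Category.assoc, FinFr.galAct_fst, FinFr.extHom_fst, FrobTriv51.frobPow_comp, hR]
    · show (_ ≫ g) ≫ FinFr.extStr K a = Φ ≫ FinFr.extStr K a
      rw [Category.assoc, FinFr.galAct_snd, ← Category.assoc, FrobTriv51.frobPow_comp, hK, Category.assoc,
        ← Spec.map_comp]
      refine Eq.trans ?_ ((pullback.lift_snd _ _ _).trans (Category.comp_id _)).symm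
      refine (congrArg (fun m => FinFr.extStr K a ≫ Spec.map m) ?_).trans
        ((congrArg (FinFr.extStr K a ≫ ·) (Spec.map_id _)).trans (Category.comp_id _))
      ext r
      exact (FinFr.arith k K).apply_symm_apply r
  haveI := FinFr.pullExact_out g
  let c := EtCore.pullConst (FinFr.extπ K a) Λ
  let π := FinFr.extπ K a
  let C := EtCoh.const (Spec (CommRingCat.of R)) Λ
  have key : ∀ y : EtCoh.H (FinFr.ext K a) ((EtCoh.pull π).obj C) n,
      EtCore.HpullVia g π π (FinFr.galAct_fst a _) C n y =
        (EtCoh.HF _ n).map c.inv (FinFr.endConstAdd (Λ := Λ) Φ n ((EtCoh.HF _ n).map c.hom y)) := fun y => by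
    refine Eq.symm ?_
    refine (congrArg ((EtCoh.HF _ n).map c.inv) (((congrArg (fun m => FinFr.endConstAdd (Λ := Λ) m n ((EtCoh.HF _ n).map c.hom y))
      hΦ.symm).trans ((FrobTriv51.endConstAdd_comp Λ _ g n _).trans (FrobTriv51.endConstAdd_frobPow p _ Λ n _))).trans
      (FrobTriv51.HpullVia_const Λ g π (FinFr.galAct_fst a _) n y).symm)).trans ?_
    exact (ConcreteCategory.comp_apply _ _ _).symm.trans (ConcreteCategory.congr_hom
      (((EtCoh.HF _ n).map_comp c.hom c.inv).symm.trans ((congrArg ((EtCoh.HF _ n).map ·) c.hom_inv_id).trans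
        ((EtCoh.HF _ n).map_id _))) _)
  exact key x

end Groth.Agent.S4263
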