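import Groth.Statements.S4271
import Groth.Agent.DEqLib.Sib.RegResProp
import Groth.Agent.RLPsi35.VAProj

set_option autoImplicit false
universe u
set_option backward.isDefEq.respectTransparency false
set_option linter.style.haveILetI false
open CategoryTheory CategoryTheory.Limits AlgebraicGeometry
attribute [local instance] HasDerivedCategory.standard
open KSix

namespace Groth.Agent.S4271

/-- The published statement asserts that a separated regular Noetherian scheme is divisorial; stated
here in the following form: a quasi-compact locally Noetherian scheme all of whose local rings are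
regular and whose affine opens have pairwise affine intersections (affine diagonal) admits an ample
family of invertible modules. -/
theorem result (X : Scheme.{u}) [CompactSpace X] [IsLocallyNoetherian X]
    (hreg : ∀ x : X, IsRegularLocalRing (X.presheaf.stalk x))
    (hdiag : ∀ U V : X.Opens, IsAffineOpen U → IsAffineOpen V → IsAffineOpen (U ⊓ V)) : MoreMor.HasAmpleFamily X := by
  classical
  refine ⟨inferInstance, fun x => ?_⟩
  haveI : IsNoetherian X := {}
  have hufd : ∀ x : X, IsDomain (X.presheaf.stalk x) ∧ UniqueFactorizationMonoid (X.presheaf.stalk x) :=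
    fun x => by haveI := hreg x; exact Groth.Agent.RegUFD.ufd _
  obtain ⟨U, hU, hxU, hd⟩ := Groth.Agent.DEqLib.Sib.RegResProp.exists_dense_affine x
  obtain ⟨D, hD, hDU⟩ := Groth.Agent.EffCompl.exists_effCartier_compl X hdiag U hU hd fun y _ => hufd y
  obtain ⟨L, hL, ⟨e₀⟩⟩ := Groth.Agent.H23.PicInv.exists_inverse (Groth.Agent.SurfInt.isInvertible_idealMod hD)
  obtain ⟨c₀⟩ := Groth.Agent.H23.PicMul.comm L (ClSub.idealMod D)
  obtain ⟨σ, hσ⟩ := Groth.Agent.SurfInt.exists_divisor_section D hD hL ⟨c₀ ≪≫ e₀⟩
  let s := Groth.Agent.InvX.ofSect σ ≫ (Groth.Agent.RLPsi35.tensorPowOneIso L).inv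
  have hG : CohB1.genLocus (CohB1.tensorPow L 1) s = U := by
    refine (Groth.Agent.InvX.genLocus_comp_iso (Groth.Agent.InvX.ofSect σ) (Groth.Agent.RLPsi35.tensorPowOneIso L).symm).trans ?_
    rw [Groth.Agent.AmpleX.genLocus_eq_locus, Groth.Agent.InvX.one_ofSect]
    refine TopologicalSpace.Opens.ext (Set.ext fun y => (hσ y).trans ?_)
    rw [← SetLike.mem_coe, hDU]
    exact not_not
  exact ⟨L, 1, s, hL, le_rfl, hG ▸ hxU, hG ▸ hU⟩

end Groth.Agent.S4271
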