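import Groth.Statements.S4285
import Groth.Agent.Pic13Lib.BddReg
-- import your own Groth.Agent.* helpers here

set_option autoImplicit false
set_option linter.style.haveILetI false
set_option backward.isDefEq.respectTransparency false
set_option backward.isDefEq.respectTransparency.types false
universe u
open CategoryTheory CategoryTheory.Limits AlgebraicGeometry
open Pic13

namespace Groth.Agent.S4285

/-- (iii) implies (i), over the base S = Spec k with k algebraically closed: let X ⊆ P^n_k be a closed
subscheme, m an integer and φ a polynomial. The family of coherent O_X-modules F which are m-regular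
(H^q(X, F(m - q)) = 0 for q ≥ 1) and have Hilbert polynomial φ (χ(F(d)) = φ(d) for all integers d)
is bounded. (The source allows a finite set of Hilbert polynomials and a projective X over a
Noetherian base with O_X(1) generated by global sections on the fibres.) -/
theorem result (k : Type u) [Field k] [IsAlgClosed k] (n : ℕ) (X : Scheme.{u}) [X.Over (Spec (CommRingCat.of k))]
    (i : X ⟶ CohB1.ProjSpace n k) [IsClosedImmersion i] (hi : i ≫ CohB1.ProjSpace.toSpec n k = X ↘ Spec (CommRingCat.of k))
    (m : ℤ) (φ : Polynomial ℚ) :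
    Pic13.IsBounded k X (fun F : X.Modules => Coh.IsCoh F ∧ Pic13.IsMRegular k i F m ∧
      ∀ d : ℤ, (FGA.eulerCharLE k X (Pic13.twistOn k i F d) n : ℚ) = φ.eval (d : ℚ)) := by
  haveI := Pic13Lib.isProper i hi
  refine Pic13Lib.isBounded_mono k X ?_ (Pic13Lib.isBounded_mRegular_le i hi m (φ.eval (m : ℚ)).num.toNat)
  rintro F ⟨hF, hm, hχ⟩
  refine ⟨hF, hm, ?_⟩
  have hv := S3224.result k n _ (Pic13Lib.isCoh_push i hF) m fun q hq =>
    (Pic13Lib.subsingleton_twistOn_iff i hi hF (m - q) q).1 (hm q hq)
  have h0 : ∀ q : ℕ, 1 ≤ q → Module.finrank k (Coh.HH X (Pic13.twistOn k i F m) q) = 0 := fun q hq => by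
    haveI := (Pic13Lib.subsingleton_twistOn_iff i hi hF m q).2 (hv q m hq (by omega))
    exact Module.finrank_zero_of_subsingleton
  have hE : FGA.eulerCharLE k X (Pic13.twistOn k i F m) n =
      (Module.finrank k (Coh.HH X (Pic13.twistOn k i F m) 0) : ℤ) := by
    rw [FGA.eulerCharLE, Finset.sum_eq_single 0 (fun q _ hq => by rw [h0 q (by omega)]; simp) (by simp)]
    simp
  rw [← hχ m, Rat.num_intCast, hE]
  exact le_rfl

end Groth.Agent.S4285
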