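import Groth.Statements.S4290
import Groth.Agent.Pic13Lib.OrthMain
set_option linter.style.haveILetI false
set_option backward.isDefEq.respectTransparency false
set_option backward.isDefEq.respectTransparency.types false

set_option autoImplicit false
universe u
open CategoryTheory CategoryTheory.Limits AlgebraicGeometry
open Pic13

namespace Groth.Agent.S4290

/-- Let k be an algebraically closed field, X an irreducible proper k-scheme of dimension r = s + 2 ≥ 2
carrying an ample invertible module H, and L an invertible module with (c₁(L)·c₁(H)^{r-1}) = 0 and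
(c₁(L)²·c₁(H)^{r-2}) ≥ 0. Then L is numerically equivalent to zero. Intersection numbers are those
of FGA.intNum, which takes inverses H', L' of H, L as arguments. -/
theorem result (k : Type u) [Field k] [IsAlgClosed k] (X : Scheme.{u}) [X.Over (Spec (CommRingCat.of k))]
    [IsProper (X ↘ Spec (CommRingCat.of k))] [IrreducibleSpace X] (s : ℕ) (hdim : topologicalKrullDim X = (s + 2 : ℕ))
    (H H' L L' : X.Modules) (hH : CohB1.IsAmple H) (hL : PicF.IsInvertible L)
    (hHH' : Nonempty (CohB1.tensorMod H H' ≅ Coh.structureModule X)) (hLL' : Nonempty (CohB1.tensorMod L L' ≅ Coh.structureModule X))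
    (horth : FGA.intNum k X (s + 2) (Matrix.vecCons L' (fun _ : Fin (s + 1) => H')) (Coh.structureModule X) = 0)
    (hsq : 0 ≤ FGA.intNum k X (s + 2) (Matrix.vecCons L' (Matrix.vecCons L' (fun _ : Fin s => H'))) (Coh.structureModule X)) :
    Pic13.IsNumEquivZero k X L := by
  open Groth.Agent in
  · obtain ⟨eH⟩ := hHH'
    obtain ⟨eL⟩ := hLL'
    have hH' := IntNum47.isInvertible_of_inverse hH.1 eH
    have hL' := IntNum47.isInvertible_of_inverse hL eL
    refine Pic13Lib.isNumEquivZero_of_orth k hdim hH hL ⟨?_, ?_⟩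
    · rw [← horth]
      refine (Pic13Lib.intNum_inverses k hdim ?_).symm
      rw [Pic13Lib.ofFn_vecCons]
      exact List.Forall₂.cons ⟨hL, hL', ⟨eL⟩⟩ (Pic13Lib.forall₂_replicate ⟨hH.1, hH', ⟨eH⟩⟩ _)
    · refine hsq.trans (le_of_eq (Pic13Lib.intNum_inverses k hdim ?_))
      rw [List.ofFn_succ]
      refine List.Forall₂.cons ⟨by simpa using hL, by simpa using hL', ⟨by simpa using eL⟩⟩ ?_
      rw [show (fun i : Fin (s + 1) => Matrix.vecCons L' (Matrix.vecCons L' (fun _ : Fin s => H')) i.succ) =
        Matrix.vecCons L' (fun _ : Fin s => H') from funext fun i => Matrix.cons_val_succ _ _ i, Pic13Lib.ofFn_vecCons]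
      exact List.Forall₂.cons ⟨hL, hL', ⟨eL⟩⟩ (Pic13Lib.forall₂_replicate ⟨hH.1, hH', ⟨eH⟩⟩ _)

end Groth.Agent.S4290
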