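import Groth.Statements.S4303
import Groth.Agent.Pic13Lib.FamEuler

set_option autoImplicit false
set_option linter.style.haveILetI false
set_option backward.isDefEq.respectTransparency false
set_option backward.isDefEq.respectTransparency.types false
universe u
open CategoryTheory CategoryTheory.Limits AlgebraicGeometry
open Pic13 Groth.Agent.H23.PicMul

namespace Groth.Agent.S4303

open Groth.Agent.Pic13Lib

/-- (i) implies (iii), over S = Spec k with k algebraically closed: let X be a proper integral k-scheme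
of dimension r = s + 2 ≥ 2 carrying an ample invertible module H with inverse H', and P a family of
invertible O_X-modules. Condition (iii): as L runs through P (with inverse L'), the degree
(c₁(L)·c₁(H)^{r-1}) stays bounded and (c₁(L)²·c₁(H)^{r-2}) stays bounded below; condition (i): P is
bounded. Intersection numbers are those of FGA.intNum, taking the inverse modules as arguments. -/
theorem result (k : Type u) [Field k] [IsAlgClosed k] (X : Scheme.{u})
    [X.Over (Spec (CommRingCat.of k))] [IsProper (X ↘ Spec (CommRingCat.of k))] [IsIntegral X] (s : ℕ)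
    (hdim : topologicalKrullDim X = (s + 2 : ℕ)) (H H' : X.Modules) (hH : CohB1.IsAmple H)
    (hHH' : Nonempty (CohB1.tensorMod H H' ≅ Coh.structureModule X))
    (P : X.Modules → Prop) (hP : ∀ L, P L → PicF.IsInvertible L)
    (hb : Pic13.IsBounded k X P) :
    ∃ B : ℤ, ∀ L L' : X.Modules, P L → Nonempty (CohB1.tensorMod L L' ≅ Coh.structureModule X) →
      |FGA.intNum k X (s + 2) (Matrix.vecCons L' (fun _ : Fin (s + 1) => H')) (Coh.structureModule X)| ≤ B ∧
      -B ≤ FGA.intNum k X (s + 2) (Matrix.vecCons L' (Matrix.vecCons L' (fun _ : Fin s => H'))) (Coh.structureModule X) := by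
  classical
  haveI := CurveCohLib.isNoetherian_of_proper (k := k) (X := X)
  obtain ⟨T, q, hq, hq', F, hF, hb⟩ := hb
  haveI := hq; haveI := hq'
  have hH' : PicF.IsInvertible H' := IntNum47.isInvertible_of_inverse hH.1 hHH'.some
  obtain ⟨l, hl⟩ := exists_invFam_affine q hF
  let a₁ : X.Modules → ℤ := fun L' =>
    FGA.intNum k X (s + 2) (Matrix.vecCons L' (fun _ : Fin (s + 1) => H')) (Coh.structureModule X)
  let a₂ : X.Modules → ℤ := fun L' =>
    FGA.intNum k X (s + 2) (Matrix.vecCons L' (Matrix.vecCons L' (fun _ : Fin s => H'))) (Coh.structureModule X)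
  have key : ∀ φ : InvFam k X, ∃ b : ℤ, ∀ L L' : X.Modules, φ.Mem L →
      Nonempty (CohB1.tensorMod L L' ≅ Coh.structureModule X) → |a₁ L'| ≤ b ∧ -b ≤ a₂ L' := by
    intro φ
    haveI := φ.conn; haveI := φ.lft; haveI := φ.qc
    obtain ⟨M', hM', hMM'⟩ := H23.PicInv.exists_inverse φ.inv
    let Hp := (Scheme.Modules.pullback (pullback.fst (X ↘ Spec (CommRingCat.of k)) φ.q)).obj H'
    have hHp : PicF.IsInvertible Hp := PicClLib.isInvertible_pullback _ hH'
    let v₁ := fun (t : Spec (CommRingCat.of k) ⟶ φ.T) (ht : t ≫ φ.q = 𝟙 _) =>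
      FGA.intNum k X (s + 2) (fun i => Pic13.fibreMod k X φ.q t ht
        (Matrix.vecCons M' (fun _ : Fin (s + 1) => Hp) i)) (Coh.structureModule X)
    let v₂ := fun (t : Spec (CommRingCat.of k) ⟶ φ.T) (ht : t ≫ φ.q = 𝟙 _) =>
      FGA.intNum k X (s + 2) (fun i => Pic13.fibreMod k X φ.q t ht
        (Matrix.vecCons M' (Matrix.vecCons M' (fun _ : Fin s => Hp)) i)) (Coh.structureModule X)
    have heq : ∀ (L L' : X.Modules) t ht, Nonempty (Pic13.fibreMod k X φ.q t ht φ.M ≅ L) →
        Nonempty (CohB1.tensorMod L L' ≅ Coh.structureModule X) → a₁ L' = v₁ t ht ∧ a₂ L' = v₂ t ht := by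
      intro L L' t ht ⟨e⟩ hLL'
      have hL : PicF.IsInvertible L :=
        H23.PicMul.isInvertible_of_iso e (PicClLib.isInvertible_pullback _ φ.inv)
      have hL' := IntNum47.isInvertible_of_inverse hL hLL'.some
      have e' : Nonempty (L' ≅ Pic13.fibreMod k X φ.q t ht M') := by
        refine cl_eq_iff.1 ?_
        have h1 : PicF.cl L * PicF.cl L' = 1 := cl_eq_iff.2 hLL'
        have h2 : PicF.cl L * PicF.cl (Pic13.fibreMod k X φ.q t ht M') = 1 := by
          rw [← show PicF.cl (Pic13.fibreMod k X φ.q t ht φ.M) = PicF.cl L from cl_eq_iff.2 ⟨e⟩]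
          show pullHom _ (PicF.cl φ.M) * pullHom _ (PicF.cl M') = 1
          rw [← map_mul, show PicF.cl φ.M * PicF.cl M' = 1 from cl_eq_iff.2 hMM', map_one]
        exact (isUnit_cl hL).mul_left_cancel (h1.trans h2.symm)
      have eH : Nonempty (H' ≅ Pic13.fibreMod k X φ.q t ht Hp) := ⟨(fibreFstIso k X φ.q t ht).symm.app H'⟩
      refine ⟨IntNum47.intNum_congr k hdim.le ?_ ?_ ?_ QCoh.isCoh_structureModule',
        IntNum47.intNum_congr k hdim.le ?_ ?_ ?_ QCoh.isCoh_structureModule'⟩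
      · exact Fin.forall_fin_succ.2 ⟨hL', fun _ => hH'⟩
      · exact Fin.forall_fin_succ.2 ⟨PicClLib.isInvertible_pullback _ hM',
          fun _ => PicClLib.isInvertible_pullback _ hHp⟩
      · exact Fin.forall_fin_succ.2 ⟨e', fun _ => eH⟩
      · exact Fin.forall_fin_succ.2 ⟨hL', Fin.forall_fin_succ.2 ⟨hL', fun _ => hH'⟩⟩
      · exact Fin.forall_fin_succ.2 ⟨PicClLib.isInvertible_pullback _ hM', Fin.forall_fin_succ.2
          ⟨PicClLib.isInvertible_pullback _ hM', fun _ => PicClLib.isInvertible_pullback _ hHp⟩⟩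
      · exact Fin.forall_fin_succ.2 ⟨e', Fin.forall_fin_succ.2 ⟨e', fun _ => eH⟩⟩
    by_cases hne : ∃ t : Spec (CommRingCat.of k) ⟶ φ.T, t ≫ φ.q = 𝟙 _
    · obtain ⟨t₀, ht₀⟩ := hne
      refine ⟨max |v₁ t₀ ht₀| |v₂ t₀ ht₀|, ?_⟩
      rintro L L' ⟨t, ht, he⟩ hLL'
      obtain ⟨h1, h2⟩ := heq L L' t ht he hLL'
      have e1 : v₁ t ht = v₁ t₀ ht₀ := intNum_fibre_eq φ.q hdim.le (Matrix.vecCons M' (fun _ : Fin (s + 1) => Hp))
        (Fin.cases hM' fun _ => hHp) t t₀ ht ht₀
      have e2 : v₂ t ht = v₂ t₀ ht₀ := intNum_fibre_eq φ.q hdim.le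
        (Matrix.vecCons M' (Matrix.vecCons M' (fun _ : Fin s => Hp)))
        (Fin.cases hM' (Fin.cases hM' fun _ => hHp)) t t₀ ht ht₀
      rw [h1, h2, e1, e2]
      exact ⟨le_max_left _ _, (neg_le_neg (le_max_right _ _)).trans (neg_abs_le _)⟩
    · exact ⟨0, fun L L' ⟨t, ht, _⟩ => (hne ⟨t, ht⟩).elim⟩
  choose b hb' using key
  refine ⟨(l.map fun φ => |b φ|).sum, fun L L' hL hLL' => ?_⟩
  obtain ⟨t, ht, ⟨e⟩⟩ := hb L hL
  obtain ⟨φ, hφ, hm⟩ := hl t ht (H23.PicMul.isInvertible_of_iso e.symm (hP L hL))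
  obtain ⟨s', hs', ⟨e'⟩⟩ := hm
  obtain ⟨h1, h2⟩ := hb' φ L L' ⟨s', hs', ⟨e' ≪≫ e⟩⟩ hLL'
  have hle : b φ ≤ (l.map fun φ => |b φ|).sum :=
    (le_abs_self _).trans (List.single_le_sum (by simp) _ (List.mem_map_of_mem hφ))
  exact ⟨h1.trans hle, (neg_le_neg hle).trans h2⟩

end Groth.Agent.S4303
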