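import Groth.Statements.S4308
import Groth.Agent.DRHyp.AnStalk

set_option autoImplicit false
open CategoryTheory AlgebraicGeometry Topology TopologicalSpace
open An

namespace Groth.Agent.S4308

/-- For X reduced, where the associated analytic space is X(ℂ) with the sheaf of holomorphic functions:
the functor M ↦ M^an from O_X-modules to O_{X^an}-modules is exact, faithful and conservative (right
exactness being automatic for this left adjoint, the content is left exactness, faithfulness and
conservativity). -/
theorem result (X : Scheme.{0}) [X.Over An.SC] [LocallyOfFiniteType (X ↘ An.SC)] [IsReduced X] :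
    Limits.PreservesFiniteLimits (An.analytify X) ∧ Limits.PreservesFiniteColimits (An.analytify X) ∧
      (An.analytify X).Faithful ∧ (An.analytify X).ReflectsIsomorphisms := by
  obtain ⟨h1, h2⟩ := Groth.Agent.DRHyp.AnStalk.analytify_exact X
  have h3 := Groth.Agent.DRHyp.AnStalk.faithful_analytify X
  exact ⟨h1, h2, h3, reflectsIsomorphisms_of_reflectsMonomorphisms_of_reflectsEpimorphisms _⟩

end Groth.Agent.S4308
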