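import Groth.Statements.S4416
import Groth.Agent.RelProj34.ChowTop

set_option autoImplicit false
universe u
open CategoryTheory CategoryTheory.Limits AlgebraicGeometry
open EGA2

namespace Groth.Agent.S4416

/-- Let r : X → S be separated of finite type, and assume either S Noetherian, or S quasi-compact and
separated with X having finitely many irreducible components. Then r is proper if and only if there
are a scheme X' and a surjective morphism f : X' → X with f ≫ r projective. Moreover, when r is
proper, f can be chosen so that in addition there is a dense open U of X with f⁻¹(U) dense in X'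
over which f is an isomorphism, and with X' irreducible (resp. reduced) if X is. (The published
statement also remarks that f is then projective; that is not stated here.) -/
theorem result {X S : Scheme.{u}} (r : X ⟶ S) [IsSeparated r] [LocallyOfFiniteType r] [QuasiCompact r]
    (h : IsNoetherian S ∨ (CompactSpace S ∧ S.IsSeparated ∧ (irreducibleComponents X).Finite)) :
    (IsProper r ↔ ∃ (X' : Scheme.{u}) (f : X' ⟶ X), Surjective f ∧ RelProj.IsProjective (f ≫ r)) ∧
    (IsProper r → ∃ (X' : Scheme.{u}) (f : X' ⟶ X), Surjective f ∧ RelProj.IsProjective (f ≫ r) ∧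
        (∃ U : X.Opens, Dense (U : Set X) ∧ Dense ((f ⁻¹ᵁ U : X'.Opens) : Set X') ∧ IsIso (f ∣_ U)) ∧
        (IrreducibleSpace X → IrreducibleSpace X') ∧ (IsReduced X → IsReduced X')) := by
  obtain ⟨hc, hq, hfin⟩ := RelProj34.chow_hyp r h
  obtain ⟨X', f, h1, h2, h3, hU, h4, h5⟩ := RelProj34.exists_chow_dense r hfin
  have key : IsProper r → RelProj.IsProjective (f ≫ r) := fun hr => by
    have := RelProj34.isProper_of_isProjective h2
    exact RelProj34.isProjective_of_isProper_of_isQuasiProjective h1
  refine ⟨⟨fun hr => ⟨_, f, h3, key hr⟩, ?_⟩, fun hr => ⟨_, f, h3, key hr, hU, h5, h4⟩⟩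
  rintro ⟨Y, g, hg, hgp⟩
  have := RelProj34.isProper_of_isProjective hgp
  have : IsProper g := IsProper.of_comp g r
  exact QCoh.isProper_of_comp_surjective g r

end Groth.Agent.S4416
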