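import Groth.Statements.S4508
import Groth.Agent.CohCore23.FibreRankBC
import Groth.Agent.AlgStLib.Noetherian
import Groth.Agent.FlatLimHx.Flat
import Groth.Agent.QCoh.Support

set_option autoImplicit false
universe u
open Coherent

namespace Groth.Agent.S4508

open AlgebraicGeometry CategoryTheory CategoryTheory.Limits in
/-- For a single sheaf placed in degree 0 (the published statement is for a finite complex of such
sheaves). Let Y and Y' be locally Noetherian schemes, f : X ⟶ Y proper, g : Y' ⟶ Y any morphism, F a
coherent O_X-module flat over Y; let X' = X ×_Y Y' with projections f' : X' ⟶ Y' and X' ⟶ X, and F'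
the pullback of F to X'. Then F' is flat over Y', and for every point y' of Y' the Euler–Poincaré
characteristic of the fibre, Σ_i (−1)^i dim_{k(y')} H^i(X'_{y'}, F'_{y'}), equals Σ_i (−1)^i
dim_{k(g(y'))} H^i(X_{g(y')}, F_{g(y')}). -/
theorem result {X Y Y' : Scheme.{u}} (f : X ⟶ Y) (g : Y' ⟶ Y) [IsProper f]
    [IsLocallyNoetherian Y] [IsLocallyNoetherian Y'] (F : X.Modules) (hF : Coh.IsCoh F)
    (hfl : FlatMod.IsFlatOver f F) :
    FlatMod.IsFlatOver (pullback.snd f g) ((Scheme.Modules.pullback (pullback.fst f g)).obj F) ∧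
      ∀ y' : Y', PerfAux.eulerChar (pullback.snd f g) ((Scheme.Modules.pullback (pullback.fst f g)).obj F) y' =
        PerfAux.eulerChar f F (g.base y') := by
  haveI : LocallyOfFinitePresentation f :=
    Groth.Agent.AlgStLib.locallyOfFinitePresentation_of_isLocallyNoetherian f inferInstance
  haveI : IsLocallyNoetherian X := LocallyOfFiniteType.isLocallyNoetherian f
  have hfp : CohB1.IsFP F := Groth.Agent.QCoh.isCoh_iff_isFP.1 hF
  refine ⟨?_, fun y' => ?_⟩
  · refine (Groth.Agent.FlatLimHx.isFlatOver_congr (pullback.snd f g)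
      ((Scheme.Modules.pullbackComp (pullback.fst f g) (𝟙 X)).symm.app F ≪≫
        (Scheme.Modules.pullback (pullback.fst f g)).mapIso ((Scheme.Modules.pullbackId X).app F))).1 ?_
    exact Groth.Agent.FlatLimHx.isFlatOver_baseChange (IsPullback.of_hasPullback f g) (𝟙 X) F
      ((Groth.Agent.FlatLimHx.isFlatOver_congr f ((Scheme.Modules.pullbackId X).app F)).2 hfl)
  · refine finsum_congr fun i => ?_
    rw [show PerfAux.betti (pullback.snd f g) ((Scheme.Modules.pullback (pullback.fst f g)).obj F) y' i =
        CohIII.fiberRank (pullback.snd f g) ((Scheme.Modules.pullback (pullback.fst f g)).obj F) i y' from rfl,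
      Groth.Agent.CohCore23.fiberRank_baseChange (CExt24.hasModels f hF.1 hfp hfl)
        (IsPullback.of_hasPullback f g) hF.1 i y']
    rfl

end Groth.Agent.S4508
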