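import Groth.Statements.S4523
import Groth.Agent.Ega41H93.FSExistence
import Groth.Agent.EGA41Lib.FieldFS
import Groth.Agent.PBasisLib.Extend

set_option autoImplicit false
universe u
open EGA41

open scoped TensorProduct
open IsLocalRing
set_option linter.style.haveILetI false
attribute [local instance 10000] Ring.toIntAlgebra
namespace Groth.Agent.S4523

/-- Let k ⊆ K be fields. Then K is a separable extension of k if and only if the imperfection module
Υ_{K/k} vanishes, i.e. the canonical map Ω_{k/ℤ} ⊗_k K → Ω_{K/ℤ} is injective, and if and only if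
every derivation of k into K extends to a derivation of K into itself. (No hypothesis on the
characteristic.) -/
theorem result {k K : Type u} [Field k] [Field K] [Algebra k K] :
    (Algebra.IsGeometricallyReduced k K ↔ EGA41.imperfection ℤ k K = ⊥) ∧
    (Algebra.IsGeometricallyReduced k K ↔
      ∀ D : Derivation ℤ k K, ∃ D' : Derivation ℤ K K, ∀ a : k, D' (algebraMap k K a) = D a) := by
  have hmb : maximalIdeal K = ⊥ := IsLocalRing.isField_iff_maximalIdeal_eq.1 (Field.toIsField K)
  have hinj : EGA41.imperfection ℤ k K = ⊥ ↔ Function.Injective (KaehlerDifferential.mapBaseChange ℤ k K) :=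
    LinearMap.ker_eq_bot
  have hK : Function.Surjective (algebraMap K K) := fun y => ⟨y, rfl⟩
  have h1 : Algebra.IsGeometricallyReduced k K ↔ Function.Injective (KaehlerDifferential.mapBaseChange ℤ k K) := by
    constructor
    · intro h
      haveI := EGA41Lib.FieldFS.formallySmooth_of_isGeometricallyReduced k K
      have hfs : CAlgX.IsAdicFormallySmooth k K (maximalIdeal K) := fun A _ _ J hJ ψ _ =>
        ⟨Algebra.FormallySmooth.lift J ⟨2, hJ⟩ ψ, Algebra.FormallySmooth.comp_lift J ⟨2, hJ⟩ ψ⟩
      have hb := (Ega41H93.injective_baseDiffMap_iff k K K hK).2 (S2471.result.1 hfs).2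
      intro x y hxy
      refine hb ((?_ : Function.Injective (KaehlerDifferential.mapBaseChange ℤ K K)) ?_)
      · intro a b hab
        have hinv : ∀ z : K ⊗[K] Ω[K⁄ℤ], KaehlerDifferential.mapBaseChange ℤ K K z = TensorProduct.lid K _ z := by
          intro z
          induction z using TensorProduct.induction_on with
          | zero => simp
          | add a b ha hb => simp only [map_add, ha, hb]
          | tmul c ω =>
            rw [KaehlerDifferential.mapBaseChange_tmul, TensorProduct.lid_tmul]
            congr 1
            have hω : ω ∈ Submodule.span K (Set.range (KaehlerDifferential.D ℤ K)) := by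
              rw [KaehlerDifferential.span_range_derivation]; trivial
            induction hω using Submodule.span_induction with
            | mem w hw =>
              obtain ⟨w, rfl⟩ := hw
              rw [KaehlerDifferential.map_D, Algebra.algebraMap_self, RingHom.id_apply]
            | zero => simp
            | add v w _ _ hv hw => rw [map_add, hv, hw]
            | smul a w _ hw => rw [map_smul, hw]
        exact (TensorProduct.lid K _).injective ((hinv a).symm.trans (hab.trans (hinv b)))
      · rw [Ega41H93.mapBaseChange_baseDiffMap, Ega41H93.mapBaseChange_baseDiffMap, hxy]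
    · intro h
      have hb : Function.Injective (Ega41H93.baseDiffMap k K K) := fun x y hxy => h (by
        rw [← Ega41H93.mapBaseChange_baseDiffMap k K K x, ← Ega41H93.mapBaseChange_baseDiffMap k K K y, hxy])
      have hfs : CAlgX.IsAdicFormallySmooth k K (maximalIdeal K) :=
        S2471.result.2 ⟨inferInstance, (Ega41H93.injective_baseDiffMap_iff k K K hK).1 hb⟩
      haveI : Algebra.FormallySmooth k K := .of_comp_surjective fun A _ _ J hJ ψ => by
        obtain ⟨χ, hχ⟩ := hfs A J hJ ψ ⟨1, fun x hx => by
          rw [pow_one, hmb, Ideal.mem_bot] at hx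
          rw [hx, map_zero]⟩
        exact ⟨χ, hχ⟩
      exact EGA41Lib.FieldFS.isGeometricallyReduced_of_formallySmooth k K
  refine ⟨h1.trans hinj.symm, h1.trans ⟨fun h D => ?_, PBasisLib.injective_mapBaseChange_of_extends⟩⟩
  obtain ⟨r, hr⟩ := (KaehlerDifferential.mapBaseChange ℤ k K).exists_leftInverse_of_injective (LinearMap.ker_eq_bot.2 h)
  let l : K ⊗[k] Ω[k⁄ℤ] →ₗ[K] K := LinearMap.liftBaseChange K D.liftKaehlerDifferential
  refine ⟨(l.comp r).compDer (KaehlerDifferential.D ℤ K), fun a => ?_⟩
  show l (r (KaehlerDifferential.D ℤ K (algebraMap k K a))) = D a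
  have h2 : KaehlerDifferential.D ℤ K (algebraMap k K a) =
      KaehlerDifferential.mapBaseChange ℤ k K ((1 : K) ⊗ₜ KaehlerDifferential.D ℤ k a) := by
    rw [KaehlerDifferential.mapBaseChange_tmul, one_smul, KaehlerDifferential.map_D]
  rw [h2, ← LinearMap.comp_apply r, hr]
  simp [l]

end Groth.Agent.S4523
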