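import Groth.Statements.S4527
import Mathlib.RingTheory.MvPowerSeries.Basic
import Mathlib.LinearAlgebra.Basis.VectorSpace

set_option autoImplicit false
universe u
open EGA41

namespace Groth.Agent.S4527

/-- Let k ⊆ k' be fields and r ≥ 0. Inside k'((T_1, …, T_r)) one has k'[[T_1, …, T_r]] ∩ k((T_1, …,
T_r)) = k[[T_1, …, T_r]]; stated as: for a, b ∈ k[[T]], if b divides a in k'[[T]] then b divides a
in k[[T]]. -/
theorem result {k k' : Type u} [Field k] [Field k'] [Algebra k k'] (r : ℕ)
    (a b : MvPowerSeries (Fin r) k)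
    (h : MvPowerSeries.map (algebraMap k k') b ∣ MvPowerSeries.map (algebraMap k k') a) :
    b ∣ a := by
  classical
  obtain ⟨c, hc⟩ := h
  obtain ⟨π, hπ⟩ := (Algebra.linearMap k k').exists_leftInverse_of_injective
    (LinearMap.ker_eq_bot.2 (algebraMap k k').injective)
  refine ⟨(show MvPowerSeries (Fin r) k from fun i => π (MvPowerSeries.coeff i c)), ?_⟩
  ext n
  have h1 : algebraMap k k' (MvPowerSeries.coeff n a) =
      ∑ p ∈ Finset.HasAntidiagonal.antidiagonal n, MvPowerSeries.coeff p.1 b • MvPowerSeries.coeff p.2 c := by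
    rw [← MvPowerSeries.coeff_map, hc, MvPowerSeries.coeff_mul]
    exact Finset.sum_congr rfl fun p _ => by rw [MvPowerSeries.coeff_map, Algebra.smul_def]
  have h2 : π (algebraMap k k' (MvPowerSeries.coeff n a)) = MvPowerSeries.coeff n a :=
    LinearMap.congr_fun hπ (MvPowerSeries.coeff n a)
  rw [← h2, h1, map_sum, MvPowerSeries.coeff_mul]
  exact Finset.sum_congr rfl fun p _ => by rw [map_smul]; rfl

end Groth.Agent.S4527
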