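import Groth.Statements.S4533
import Groth.Agent.Ega41H93.PSEval

set_option autoImplicit false
universe u
open EGA41

namespace Groth.Agent.S4533

/-- Let A carry the 𝔞-adic topology and let B = A[[T_1, …, T_n]] carry the product topology, i.e. the
adic topology of the ideal 𝔞B + (T_1, …, T_n) (the kernel of the constant-coefficient map added to
the extension of 𝔞). Then B is a formally smooth A-algebra for these topologies. (The published
statement allows any linearly topologized base ring and any set of indeterminates with the product
topology; this row takes an adic base and finitely many indeterminates, where the product topology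
is adic.) -/
theorem result (A : Type u) [CommRing A] (𝔞 : Ideal A) (n : ℕ) :
    EGA41.IsFormallySmoothAdic A 𝔞 (MvPowerSeries (Fin n) A)
      (𝔞.map (MvPowerSeries.C : A →+* MvPowerSeries (Fin n) A) ⊔
        RingHom.ker (MvPowerSeries.constantCoeff : MvPowerSeries (Fin n) A →+* A)) := by
  intro C _ _ J hJ hC u hu
  choose z hz using fun i : Fin n => Ideal.Quotient.mk_surjective (u (MvPowerSeries.X i))
  have hznil : ∀ i, IsNilpotent (z i) := fun i => by
    obtain ⟨t, ht⟩ := hJ
    obtain ⟨j, hj⟩ := Ega41H93.isNilpotent_apply_X hu i
    rw [← hz i, ← map_pow, Ideal.Quotient.eq_zero_iff_mem] at hj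
    refine ⟨j * t, ?_⟩
    rw [pow_mul]
    have h := Ideal.pow_mem_pow hj t
    rw [ht] at h
    exact (Submodule.mem_bot C).1 h
  obtain ⟨v, hv, hvX⟩ := Ega41H93.exists_eval_nilpotent hC z hznil
  refine ⟨v, Ega41H93.algHom_eq_of_X (hv.imp fun m hm x hx => ?_) hu fun i => ?_⟩
  · show Ideal.Quotient.mk J (v x) = 0
    rw [hm x hx, map_zero]
  · show Ideal.Quotient.mk J (v (MvPowerSeries.X i)) = _
    rw [hvX i, hz i]

end Groth.Agent.S4533
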