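import Groth.Statements.S4548
import Groth.Agent.Ega41H93.PSPBasis
import Groth.Agent.PSLib.Regular

set_option autoImplicit false
universe u
open EGA41

set_option linter.style.haveILetI false
set_option maxHeartbeats 1000000
namespace Groth.Agent.S4548

/-- Let k be a field of characteristic p > 0, A = k[[T_1, …, T_r]] and K its field of fractions. Then
there is a decreasing filtered family (A_α) of Noetherian subrings of A (rendered: a nonempty
family, directed downwards for inclusion) such that A is a free A_α-module of finite type for every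
α and, K_α denoting the subfield of K generated by A_α (its field of fractions inside K), ⋂_α K_α =
K^p. -/
theorem result (p : ℕ) [Fact p.Prime] (k : Type u) [Field k] [CharP k p]
    (r : ℕ) :
    ∃ (ι : Type u) (_ : Nonempty ι) (S : ι → Subring (MvPowerSeries (Fin r) k)),
      (∀ a b : ι, ∃ c, S c ≤ S a ⊓ S b) ∧
      (∀ i, IsNoetherianRing (S i) ∧ Module.Free (S i) (MvPowerSeries (Fin r) k) ∧ Module.Finite (S i) (MvPowerSeries (Fin r) k)) ∧
      ((⨅ i, Subfield.closure (algebraMap (MvPowerSeries (Fin r) k) (FractionRing (MvPowerSeries (Fin r) k)) '' (S i)) :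
          Set (FractionRing (MvPowerSeries (Fin r) k)))) =
        Set.range fun x : FractionRing (MvPowerSeries (Fin r) k) => x ^ p := by
  classical
  obtain ⟨T, bas, hbas, hgen⟩ := Ega41H93.exists_pBasis p (K := k)
  let A := MvPowerSeries (Fin r) k
  haveI : IsDomain A := NoZeroDivisors.to_isDomain _
  let E := FractionRing A
  haveI : CharP A p := charP_of_injective_algebraMap (algebraMap k A).injective p
  haveI : CharP E p := charP_of_injective_algebraMap (algebraMap k E).injective p
  refine ⟨Finset T, inferInstance, fun S => Ega41H93.psSub p (Ega41H93.coSub p T S) r, fun a b => ⟨a ∪ b,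
    le_inf (Ega41H93.psSub_mono p (Ega41H93.coSub_anti p T Finset.subset_union_left))
      (Ega41H93.psSub_mono p (Ega41H93.coSub_anti p T Finset.subset_union_right))⟩, fun S => ?_, ?_⟩
  · let F := Ega41H93.coSub p T S
    let x : S → k := fun b => ((b : T) : k)
    have hspan : Submodule.span F (Set.range fun e : S → Fin p => ∏ i, x i ^ (e i : ℕ)) = ⊤ := by
      refine Ega41H93.span_monomials_eq_top p F (Ega41H93.pow_mem_coSub p T S) x
        (eq_top_iff.2 (hgen ▸ Subfield.closure_le.2 ?_))
      rintro z (hz | hz)
      · exact Subfield.subset_closure (Or.inl (Subfield.subset_closure (Or.inl hz)))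
      · by_cases h : (⟨z, hz⟩ : T) ∈ S
        · exact Subfield.subset_closure (Or.inr ⟨⟨⟨z, hz⟩, h⟩, rfl⟩)
        · exact Subfield.subset_closure (Or.inl (Subfield.subset_closure (Or.inr ⟨⟨z, hz⟩, h, rfl⟩)))
    haveI : Module.Finite F k := ⟨Submodule.fg_def.2 ⟨_, Set.finite_range _, hspan⟩⟩
    let β := Module.finBasis F k
    let φ : MvPowerSeries (Fin r) F →+* A :=
      (MvPowerSeries.expand p (Fact.out : p.Prime).ne_zero).toRingHom.comp (MvPowerSeries.map (σ := Fin r) F.subtype)
    haveI : IsRegularLocalRing (MvPowerSeries (Fin r) F) := PSLib.isRegularLocalRing (K := F) (n := r)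
    let I := (Fin r → Fin p) × Fin (Module.finrank F k)
    let e : (Fin r → Fin p) → (Fin r →₀ ℕ) := fun α => Finsupp.equivFunOnFinite.symm fun j => (α j : ℕ)
    let m₀ : (Fin r →₀ ℕ) → (Fin r → Fin p) := fun m j => ⟨m j % p, Nat.mod_lt _ (Fact.out : p.Prime).pos⟩
    have hcoef : ∀ (g : I → MvPowerSeries (Fin r) F) (α : Fin r → Fin p) (q : Fin r →₀ ℕ),
        MvPowerSeries.coeff (e α + p • q) (∑ i : I, φ (g i) * MvPowerSeries.monomial (e i.1) (β i.2)) =
          ∑ j, MvPowerSeries.coeff q (g (α, j)) • β j := by
      intro g α q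
      rw [map_sum, Fintype.sum_prod_type, Finset.sum_eq_single α]
      · refine Finset.sum_congr rfl fun j _ => ?_
        rw [mul_comm, MvPowerSeries.coeff_monomial_mul, if_pos le_self_add, add_tsub_cancel_left]
        show _ * MvPowerSeries.coeff (p • q) (MvPowerSeries.expand p (Fact.out : p.Prime).ne_zero (MvPowerSeries.map F.subtype _)) = _
        rw [MvPowerSeries.coeff_expand_smul, MvPowerSeries.coeff_map, Subfield.smul_def, smul_eq_mul, mul_comm]
        rfl
      · intro α' _ hα
        refine Finset.sum_eq_zero fun j _ => ?_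
        rw [mul_comm, MvPowerSeries.coeff_monomial_mul]
        split_ifs with hle
        · obtain ⟨l, hl⟩ : ∃ l, α' l ≠ α l := by by_contra! h; exact hα (funext h)
          show _ * MvPowerSeries.coeff _ (MvPowerSeries.expand p (Fact.out : p.Prime).ne_zero _) = _
          rw [MvPowerSeries.coeff_expand_of_not_dvd p (Fact.out : p.Prime).ne_zero _ (i := l), mul_zero]
          intro hdvd
          refine hl (Fin.ext ?_)
          have h1 : (α' l : ℕ) ≤ α l + p * q l := by simpa [e] using hle l
          have h2 : p ∣ α l + p * q l - α' l := by simpa [e] using hdvd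
          obtain ⟨t, ht⟩ := h2
          have h3 : (α l : ℕ) + p * q l = α' l + p * t := by omega
          have h4 := congrArg (· % p) h3
          simpa [Nat.add_mul_mod_self_left, Nat.mod_eq_of_lt (α l).2, Nat.mod_eq_of_lt (α' l).2] using h4.symm
        · rfl
      · exact fun h => absurd (Finset.mem_univ α) h
    have hcover : ∀ m : Fin r →₀ ℕ, ∃ α q, m = e α + p • q := fun m =>
      ⟨m₀ m, Finsupp.equivFunOnFinite.symm fun j => m j / p,
        by ext j; simp [e, m₀, Nat.mod_add_div]⟩
    let R := Ega41H93.psSub p F r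
    let Θ : (I → R) →ₗ[R] A := Fintype.linearCombination R fun i => MvPowerSeries.monomial (e i.1) (β i.2)
    have hΘ : ∀ g : I → MvPowerSeries (Fin r) F, Θ (fun i => ⟨φ (g i), g i, rfl⟩) =
        ∑ i : I, φ (g i) * MvPowerSeries.monomial (e i.1) (β i.2) := fun g => by
      rw [Fintype.linearCombination_apply]
      rfl
    have hbij : Function.Bijective Θ := by
      refine ⟨(injective_iff_map_eq_zero Θ).2 fun c hc => ?_, fun f => ?_⟩
      · choose g hg using fun i => (c i).2
        obtain rfl : c = fun i => ⟨φ (g i), g i, rfl⟩ := funext fun i => Subtype.ext (hg i).symm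
        have hg0 : ∀ i, g i = 0 := fun ⟨α, j⟩ => MvPowerSeries.ext fun q => by
          have h := hcoef g α q
          rw [← hΘ, hc, map_zero] at h
          rw [map_zero]
          exact Fintype.linearIndependent_iff.1 β.linearIndependent _ h.symm j
        funext i
        exact Subtype.ext (by show φ (g i) = 0; rw [hg0, map_zero])
      · let g : I → MvPowerSeries (Fin r) F := fun i q => β.repr (MvPowerSeries.coeff (e i.1 + p • q) f) i.2
        refine ⟨fun i => ⟨φ (g i), g i, rfl⟩, ?_⟩
        ext m
        obtain ⟨α, q, rfl⟩ := hcover m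
        rw [hΘ g, hcoef g α q]
        refine Eq.trans (Finset.sum_congr rfl fun j _ => ?_) (β.sum_repr (MvPowerSeries.coeff (e α + p • q) f))
        rfl
    refine ⟨inferInstanceAs (IsNoetherianRing φ.range), ?_, ?_⟩
    · exact Module.Free.of_equiv (LinearEquiv.ofBijective Θ hbij)
    · exact Module.Finite.equiv (LinearEquiv.ofBijective Θ hbij)
  · ext z
    constructor
    · intro hz
      obtain ⟨w, hw⟩ := Ega41H93.mem_frobenius_of_forall_frac p T bas hbas fun S => Set.mem_iInter.1 (Set.iInf_eq_iInter _ ▸ hz) S
      exact ⟨w, hw⟩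
    · rintro ⟨w, rfl⟩
      rw [Set.iInf_eq_iInter]
      refine Set.mem_iInter.2 fun S => ?_
      show w ^ p ∈ _
      obtain ⟨a, b, -, rfl⟩ := IsFractionRing.div_surjective (A := A) w
      rw [div_pow, ← map_pow, ← map_pow]
      exact div_mem (Subfield.subset_closure ⟨_, Ega41H93.pow_mem_psSub p T S a, rfl⟩)
        (Subfield.subset_closure ⟨_, Ega41H93.pow_mem_psSub p T S b, rfl⟩)

end Groth.Agent.S4548
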