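import Groth.Statements.S4550
import Mathlib.RingTheory.MvPowerSeries.Expand
import Mathlib.RingTheory.MvPowerSeries.NoZeroDivisors
import Mathlib.LinearAlgebra.Basis.VectorSpace
import Mathlib.FieldTheory.IntermediateField.Basic

set_option autoImplicit false
universe u
open EGA41

set_option linter.style.haveILetI false
namespace Groth.Agent.S4550

/-- Let k be a field, (k_α) a decreasing filtered family of subfields of k with intersection k₀, and
suppose there is a power q of the characteristic exponent of k with k^q ⊆ k₀. Then, inside k((T_1,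
…, T_r)), one has ⋂_α k_α((T_1, …, T_r)) = k₀((T_1, …, T_r)); here F((T)) is the subfield of the
fraction field of k[[T]] generated by the power series with all coefficients in F. -/
theorem result {k : Type u} [Field k] {ι : Type u} [Nonempty ι] (F : ι → Subfield k)
    (hdir : ∀ a b : ι, ∃ c, F c ≤ F a ⊓ F b) (e : ℕ) (hq : ∀ x : k, x ^ ringExpChar k ^ e ∈ ⨅ i, F i) (r : ℕ) :
    (⨅ i, Subfield.closure (algebraMap (MvPowerSeries (Fin r) k) (FractionRing (MvPowerSeries (Fin r) k)) ''
        {f | ∀ n, MvPowerSeries.coeff n f ∈ F i})) =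
      Subfield.closure (algebraMap (MvPowerSeries (Fin r) k) (FractionRing (MvPowerSeries (Fin r) k)) ''
        {f | ∀ n, MvPowerSeries.coeff n f ∈ ⨅ i, F i}) := by
  classical
  let A := MvPowerSeries (Fin r) k
  let E := FractionRing A
  haveI : IsDomain A := NoZeroDivisors.to_isDomain _
  let PS : Subfield k → Subring A := fun G => (MvPowerSeries.map (σ := Fin r) G.subtype).range
  have hPS : ∀ G : Subfield k, {f : A | ∀ n, MvPowerSeries.coeff n f ∈ G} = (PS G : Set A) := fun G => by
    ext f
    constructor
    · exact fun h => ⟨fun n => ⟨MvPowerSeries.coeff n f, h n⟩, MvPowerSeries.ext fun n => rfl⟩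
    · rintro ⟨g, rfl⟩ n
      rw [MvPowerSeries.coeff_map]
      exact SetLike.coe_mem _
  let k₀ : Subfield k := ⨅ i, F i
  let p := ringExpChar k
  haveI : ExpChar k p := inferInstance
  let q := p ^ e
  have hq0 : q ≠ 0 := pow_ne_zero _ (expChar_ne_zero k p)
  have hpow : ∀ g : A, ∀ n, MvPowerSeries.coeff n (g ^ q) ∈ k₀ := fun g n => by
    rw [← MvPowerSeries.map_iterateFrobenius_expand p (expChar_ne_zero k p) g e, MvPowerSeries.coeff_map,
      iterateFrobenius_def]
    exact hq _
  refine le_antisymm (fun z hz => ?_) (le_iInf fun i => Subfield.closure_mono (Set.image_mono fun f hf n =>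
    (iInf_le F i : _ ≤ F i) (hf n)))
  obtain ⟨f, g, hg, rfl⟩ := IsFractionRing.div_surjective (A := A) z
  have hg0 : algebraMap A E g ≠ 0 := IsLocalization.to_map_ne_zero_of_mem_nonZeroDivisors E le_rfl hg
  let f' := f * g ^ (q - 1)
  have hz' : algebraMap A E f / algebraMap A E g = algebraMap A E f' / algebraMap A E (g ^ q) := by
    have : q = (q - 1) + 1 := by omega
    rw [map_mul, map_pow, map_pow]
    rw [show algebraMap A E g ^ q = algebraMap A E g * algebraMap A E g ^ (q - 1) by rw [← pow_succ', ← this],
      mul_div_mul_right _ _ (pow_ne_zero _ hg0)]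
  have hf' : ∀ i, ∀ n, MvPowerSeries.coeff n f' ∈ F i := by
    intro i
    have hzi := Subfield.mem_iInf.1 hz i
    rw [hPS] at hzi
    obtain ⟨a, ha, b, hb, hab⟩ := Subfield.mem_closure_iff.1 hzi
    rw [← RingHom.map_closure, Subring.closure_eq] at ha hb
    obtain ⟨a, ⟨a₀, rfl⟩, rfl⟩ := ha
    obtain ⟨b, ⟨b₀, rfl⟩, rfl⟩ := hb
    set a := MvPowerSeries.map (σ := Fin r) (F i).subtype a₀
    set b := MvPowerSeries.map (σ := Fin r) (F i).subtype b₀ with hbdef
    rcases eq_or_ne b 0 with hb0 | hb0
    · rw [hb0, map_zero, div_zero] at hab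
      have h0 : f' = 0 := IsFractionRing.injective A E (by
        rw [hz'] at hab
        rw [map_zero]
        exact (div_eq_zero_iff.1 hab.symm).resolve_right (by rw [map_pow]; exact pow_ne_zero _ hg0))
      intro n
      rw [h0, map_zero]
      exact zero_mem _
    · have hbE : algebraMap A E b ≠ 0 := fun h => hb0 (IsFractionRing.injective A E (h.trans (map_zero _).symm))
      have h1 : f' * b = a * g ^ q := IsFractionRing.injective A E (by
        rw [map_mul _ f' b, map_mul _ a]
        rw [hz'] at hab
        exact ((div_eq_div_iff hbE (by rw [map_pow]; exact pow_ne_zero _ hg0)).1 hab).symm)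
      obtain ⟨φ, hφ⟩ := LinearMap.exists_leftInverse_of_injective (Algebra.linearMap (F i) k)
        (LinearMap.ker_eq_bot.2 (algebraMap (F i) k).injective)
      let φ' : k →ₗ[F i] k := (Algebra.linearMap (F i) k).comp φ
      have hφ' : ∀ c : F i, φ' (c : k) = (c : k) := fun c => congrArg Subtype.val (LinearMap.congr_fun hφ c)
      let f'' : A := fun n => φ' (MvPowerSeries.coeff n f')
      have h2 : f'' * b = a * g ^ q := by
        ext n
        rw [← h1]
        have h3 : ∀ (u : A), MvPowerSeries.coeff n (u * b) = ∑ x ∈ Finset.antidiagonal n,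
            (MvPowerSeries.coeff x.2 b₀) • MvPowerSeries.coeff x.1 u := fun u => by
          rw [MvPowerSeries.coeff_mul]
          exact Finset.sum_congr rfl fun x _ => by rw [hbdef, MvPowerSeries.coeff_map, Subfield.smul_def, smul_eq_mul, mul_comm]; rfl
        rw [h3, h3]
        have h4 : φ' (MvPowerSeries.coeff n (f' * b)) = MvPowerSeries.coeff n (f' * b) := by
          rw [h1]
          have hmem : MvPowerSeries.coeff n (a * g ^ q) ∈ F i := by
            rw [MvPowerSeries.coeff_mul]
            refine sum_mem fun x _ => mul_mem ?_ ((iInf_le F i : _ ≤ F i) (hpow g _))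
            rw [MvPowerSeries.coeff_map]
            exact SetLike.coe_mem _
          exact hφ' ⟨_, hmem⟩
        rw [h3] at h4
        refine Eq.trans ?_ h4
        rw [map_sum]
        refine Finset.sum_congr rfl fun x _ => ?_
        rw [map_smul]
        rfl
      intro n
      rw [← mul_right_cancel₀ hb0 (h2.trans h1.symm)]
      exact (φ (MvPowerSeries.coeff n f')).2
  rw [hz']
  exact div_mem (Subfield.subset_closure ⟨_, fun n => Subfield.mem_iInf.2 fun i => hf' i n, rfl⟩)
    (Subfield.subset_closure ⟨_, hpow g, rfl⟩)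

end Groth.Agent.S4550
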