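import Groth.Statements.S4551
import Groth.Agent.Ega41H93.CplKaehlerEtale
import Groth.Agent.EGA41Lib.FieldFS
import Groth.Agent.RegFS6.Field

set_option autoImplicit false
universe u
open EGA41

open IsLocalRing
set_option linter.style.haveILetI false
namespace Groth.Agent.S4551

/-- For every field k (any characteristic) the field of fractions k((T_1, …, T_r)) of the power series
ring k[[T_1, …, T_r]] is a separable extension of k, i.e. it is geometrically reduced over k. -/
theorem result (k : Type u) [Field k] (r : ℕ) :
    Algebra.IsGeometricallyReduced k (FractionRing (MvPowerSeries (Fin r) k)) := by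
  let A := MvPowerSeries (Fin r) k
  haveI : IsDomain A := NoZeroDivisors.to_isDomain _
  haveI : IsRegularLocalRing A := PSLib.isRegularLocalRing (K := k) (n := r)
  haveI : IsNoetherianRing A := inferInstance
  let E := FractionRing A
  haveI : IsNoetherianRing E := IsLocalization.isNoetherianRing (nonZeroDivisors A) _ inferInstance
  have hfs := RegFS6.fs_iff_geometricallyRegular.2 (SmoothingLib.GeomDiff.isGeometricallyRegular_of_isLocalization
    (Ega41H93.isGeometricallyRegular_powerSeries k r) (nonZeroDivisors A) E)
  haveI : Algebra.FormallySmooth k E := .of_comp_surjective fun R _ _ J hJ ψ => by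
    obtain ⟨χ, hχ⟩ := hfs R J hJ ψ ⟨1, fun x hx => by
      rw [pow_one, IsLocalRing.isField_iff_maximalIdeal_eq.1 (Field.toIsField E), Ideal.mem_bot] at hx
      rw [hx, map_zero]⟩
    exact ⟨χ, hχ⟩
  exact EGA41Lib.FieldFS.isGeometricallyReduced_of_formallySmooth k E

end Groth.Agent.S4551
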