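import Groth.Statements.S4579
import Groth.Agent.S4577
import Groth.Agent.S4578
import Groth.Agent.RegFS6.Field
import Groth.Agent.SmoothingLib.GeomRegDiff

set_option autoImplicit false
universe u
open EGA41

set_option linter.style.haveILetI false
open scoped TensorProduct
namespace Groth.Agent.S4579

/-- Let k₀ be a field, k a separable (formally smooth) extension field of k₀ and C a k-algebra of finite
type. The following are equivalent: C is formally smooth over k₀ (discrete topologies); every C_p, p
prime, is formally smooth over k₀; every C_m, m maximal, is; C is geometrically regular over k₀.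
(Geometric regularity is tested on finite extensions of k₀. The published statement quantifies the
last condition over all extensions k' of k₀; for infinite ones the base change need not be
Noetherian, so it need not be regular in the Noetherian sense, and the printed proof passes through
the local rings as here.) -/
theorem result {k₀ k C : Type u} [Field k₀] [Field k] [Algebra k₀ k]
    [Algebra.FormallySmooth k₀ k] [CommRing C] [Algebra k C] [Algebra k₀ C] [IsScalarTower k₀ k C]
    [Algebra.FiniteType k C] :
    [Algebra.FormallySmooth k₀ C,
     ∀ (p : Ideal C) [p.IsPrime], Algebra.FormallySmooth k₀ (Localization.AtPrime p),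
     ∀ (m : Ideal C) [m.IsMaximal], Algebra.FormallySmooth k₀ (Localization.AtPrime m),
     CAlg.IsGeometricallyRegular k₀ C].TFAE := by
  haveI : IsNoetherianRing C := Algebra.FiniteType.isNoetherianRing k C
  tfae_have 1 → 2 := fun h p _ => inferInstance
  tfae_have 2 → 3 := fun h m hm => h m
  tfae_have 3 → 4 := by
    intro h k' _ _ hf
    letI : Algebra C (k' ⊗[k₀] C) := Algebra.TensorProduct.rightAlgebra
    haveI : Module.Finite C (k' ⊗[k₀] C) := Module.Finite.equiv (Algebra.TensorProduct.commRight k₀ C k').toLinearEquiv
    haveI : IsNoetherianRing (k' ⊗[k₀] C) := IsNoetherianRing.of_finite C (k' ⊗[k₀] C)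
    refine RegFS6.isRegularRing_of_maximal _ fun n hn => ?_
    haveI : Algebra.IsIntegral C (k' ⊗[k₀] C) := Algebra.IsIntegral.of_finite C _
    let m : Ideal C := n.comap (algebraMap C (k' ⊗[k₀] C))
    haveI : m.IsMaximal := Ideal.isMaximal_comap_of_isIntegral_of_isMaximal n
    haveI := h m
    have hgr : CAlg.IsGeometricallyRegular k₀ (Localization.AtPrime m) :=
      ((S4578.result (k₀ := k₀) (k := k) m).out 0 3).1 (h m)
    haveI : IsRegularRing (k' ⊗[k₀] Localization.AtPrime m) := hgr k' hf
    let L := k' ⊗[k₀] Localization.AtPrime m
    letI : Algebra (k' ⊗[k₀] C) L :=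
      (Algebra.TensorProduct.map (AlgHom.id k' k') (IsScalarTower.toAlgHom k₀ C (Localization.AtPrime m))).toRingHom.toAlgebra
    haveI : IsScalarTower k' (k' ⊗[k₀] C) L := IsScalarTower.of_algebraMap_eq fun c => by
      show algebraMap k' (k' ⊗[k₀] Localization.AtPrime m) c = Algebra.TensorProduct.map (AlgHom.id k' k') (IsScalarTower.toAlgHom k₀ C (Localization.AtPrime m)) (c ⊗ₜ 1)
      simp
    haveI := IsLocalization.tensorProduct_tensorProduct_right (A := C) k₀ k' m.primeCompl (Localization.AtPrime m)
      (RingHom.ext fun x => by
        show Algebra.TensorProduct.map (AlgHom.id k' k') (IsScalarTower.toAlgHom k₀ C (Localization.AtPrime m)) (1 ⊗ₜ x) = _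
        simp)
    let M := m.primeCompl.map (Algebra.TensorProduct.includeRight (R := k₀) (A := k'))
    haveI : IsLocalization M L := inferInstance
    have hd : Disjoint (M : Set (k' ⊗[k₀] C)) n := Set.disjoint_left.2 fun x hx hxn => by
      obtain ⟨c, hc, rfl⟩ := hx
      exact hc hxn
    let n' := n.map (algebraMap (k' ⊗[k₀] C) L)
    haveI : n'.IsPrime := IsLocalization.isPrime_of_isPrime_disjoint M L n inferInstance hd
    have hn' : n'.comap (algebraMap (k' ⊗[k₀] C) L) = n :=
      IsLocalization.under_map_of_isPrime_disjoint M L inferInstance hd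
    haveI := IsLocalization.isLocalization_isLocalization_atPrime_isLocalization M (Localization.AtPrime n') n'
    haveI : IsLocalization.AtPrime (Localization.AtPrime n') n := by
      have := this
      simp only [hn'] at this
      exact this
    haveI : IsRegularLocalRing (Localization.AtPrime n') := IsRegularRing.isRegularLocalRing_localization n'
    exact IsRegularLocalRing.of_ringEquiv (R := Localization.AtPrime n')
      (IsLocalization.algEquiv n.primeCompl (Localization.AtPrime n') (Localization.AtPrime n)).toRingEquiv
  tfae_have 4 → 1 := by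
    intro h
    obtain ⟨N, f, hf⟩ := Algebra.FiniteType.iff_quotient_mvPolynomial''.1 ‹Algebra.FiniteType k C›
    letI : Algebra (MvPolynomial (Fin N) k) C := f.toRingHom.toAlgebra
    haveI : IsScalarTower k₀ (MvPolynomial (Fin N) k) C := IsScalarTower.of_algebraMap_eq fun c => by
      show _ = f (algebraMap k₀ (MvPolynomial (Fin N) k) c)
      rw [IsScalarTower.algebraMap_apply k₀ k (MvPolynomial (Fin N) k), AlgHom.commutes, ← IsScalarTower.algebraMap_apply]
    haveI : Algebra.FormallySmooth k₀ (MvPolynomial (Fin N) k) := Algebra.FormallySmooth.comp k₀ k _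
    haveI : Module.Finite (MvPolynomial (Fin N) k) (RingHom.ker (algebraMap (MvPolynomial (Fin N) k) C)).Cotangent :=
      haveI : Module.Finite (MvPolynomial (Fin N) k) (RingHom.ker (algebraMap (MvPolynomial (Fin N) k) C)) :=
        Module.Finite.iff_fg.2 (IsNoetherian.noetherian _)
      Module.Finite.of_surjective _ (Ideal.toCotangent_surjective _)
    refine (S4577.result (A := k₀) (B := MvPolynomial (Fin N) k) hf).2 fun m _ => ?_
    exact ((S4578.result (k₀ := k₀) (k := k) m).out 0 3).2
      (SmoothingLib.GeomDiff.isGeometricallyRegular_of_isLocalization h m.primeCompl _)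
  tfae_finish

end Groth.Agent.S4579
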