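import Groth.Statements.S4581
import Groth.Agent.CplFib6.SemiLocal
import Groth.Agent.FormalFib6.Cplt
import Mathlib.RingTheory.AdicCompletion.AsTensorProduct

set_option autoImplicit false
universe u
open EGA41

open scoped TensorProduct
set_option linter.style.haveILetI false
set_option maxHeartbeats 800000
namespace Groth.Agent.S4581

/-- Let A₀ be a semi-local Noetherian ring, A a module-finite A₀-algebra and Â the completion of A for
the adic topology of its Jacobson radical. For the discrete topologies, Â is a formally smooth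
A-algebra relative to A₀. -/
theorem result {A₀ A : Type u} [CommRing A₀]
    [IsNoetherianRing A₀] [Finite (MaximalSpectrum A₀)] [CommRing A] [Algebra A₀ A] [Module.Finite A₀ A] :
    EGA41.IsFormallySmoothRel A₀ A (AdicCompletion (Ideal.jacobson (⊥ : Ideal A)) A) := by
  classical
  let J₀ : Ideal A₀ := (⊥ : Ideal A₀).jacobson
  let J : Ideal A := (⊥ : Ideal A).jacobson
  let R₀ := AdicCompletion J₀ A₀
  letI : Algebra R₀ (A ⊗[A₀] R₀) := Algebra.TensorProduct.rightAlgebra
  haveI : IsNoetherianRing R₀ := FormalFib6.isNoetherianRing_adicCompletion A₀ J₀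
  haveI : IsNoetherianRing A := IsNoetherianRing.of_finite A₀ A
  have fg : J₀.FG := IsNoetherian.noetherian _
  haveI : Module.Flat A₀ R₀ := AdicCompletion.flat_of_isNoetherian J₀
  haveI : Module.FaithfullyFlat A₀ R₀ := ⟨fun m hm h => by
    have h1 : (1 : R₀) ∈ (m • ⊤ : Submodule A₀ R₀) := by rw [h]; trivial
    have hle : J₀ ≤ m := sInf_le ⟨bot_le, hm⟩
    have h2 : AdicCompletion.evalOneₐ J₀ 1 ∈ m.map (Ideal.Quotient.mk J₀) := by
      refine Submodule.smul_induction_on h1 (fun a ha x _ => ?_) fun x y hx hy => by rw [map_add]; exact add_mem hx hy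
      rw [Algebra.smul_def, map_mul, AlgHom.commutes]
      exact Ideal.mul_mem_right _ _ (Ideal.mem_map_of_mem _ ha)
    rw [map_one, ← map_one (Ideal.Quotient.mk J₀), Ideal.mem_quotient_iff_mem hle] at h2
    exact hm.ne_top ((Ideal.eq_top_iff_one m).2 h2)⟩
  haveI : Module.Finite R₀ (A ⊗[A₀] R₀) :=
    Module.Finite.equiv (Algebra.TensorProduct.commRight A₀ R₀ A).toLinearEquiv
  haveI hC : IsAdicComplete J₀ R₀ := AdicCompletion.isAdicComplete fg
  haveI : IsAdicComplete (J₀.map (algebraMap A₀ R₀)) R₀ := (IsAdicComplete.map_algebraMap_iff _ _).mpr hC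
  haveI : IsAdicComplete (J₀.map (algebraMap A₀ R₀)) (A ⊗[A₀] R₀) := Adic7.isAdicComplete_of_finite (A := R₀) _ _
  haveI : IsScalarTower A₀ R₀ (A ⊗[A₀] R₀) := IsScalarTower.of_algebraMap_eq fun r => by
    show algebraMap A₀ (A ⊗[A₀] R₀) r = (1 : A) ⊗ₜ[A₀] algebraMap A₀ R₀ r
    rw [Algebra.TensorProduct.algebraMap_apply, Algebra.algebraMap_eq_smul_one, Algebra.algebraMap_eq_smul_one,
      TensorProduct.smul_tmul]
  haveI : IsAdicComplete J₀ (A ⊗[A₀] R₀) :=
    (IsAdicComplete.map_algebraMap_iff (S := R₀) J₀ (A ⊗[A₀] R₀)).mp inferInstance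
  haveI : IsAdicComplete (J₀.map (algebraMap A₀ (A ⊗[A₀] R₀))) (A ⊗[A₀] R₀) :=
    (IsAdicComplete.map_algebraMap_iff _ _).mpr inferInstance
  have hmJ : J₀.map (algebraMap A₀ A) ≤ J := Ideal.map_le_iff_le_comap.2 fun a ha => by
    refine Ideal.mem_sInf.2 ?_
    rintro M ⟨-, hM⟩
    have h : (M.comap (algebraMap A₀ A)).IsMaximal :=
      Ideal.isMaximal_comap_of_isIntegral_of_isMaximal' _ (algebraMap_isIntegral_iff.mpr (Algebra.IsIntegral.of_finite A₀ A)) M
    exact Ideal.mem_sInf.1 ha ⟨bot_le, h⟩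
  obtain ⟨N, hN⟩ := Ideal.exists_pow_le_of_le_radical_of_fg (I := J) (J := J₀.map (algebraMap A₀ A)) (by
    rw [Ideal.radical_eq_sInf]
    refine le_sInf fun q ⟨hle, hq⟩ => ?_
    haveI := hq
    obtain ⟨M₀, hM₀⟩ : ∃ M₀ : MaximalSpectrum A₀, M₀.asIdeal ≤ q.comap (algebraMap A₀ A) := by
      haveI := Fintype.ofFinite (MaximalSpectrum A₀)
      have hJ₀ : J₀ = Finset.univ.inf fun M₀ : MaximalSpectrum A₀ => M₀.asIdeal := by
        refine le_antisymm (Finset.le_inf fun M₀ _ => sInf_le ⟨bot_le, M₀.isMaximal⟩) (le_sInf ?_)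
        rintro M ⟨-, hM⟩
        exact Finset.inf_le (Finset.mem_univ (⟨M, hM⟩ : MaximalSpectrum A₀))
      have h := Ideal.map_le_iff_le_comap.1 hle
      rw [hJ₀] at h
      obtain ⟨M₀, -, h'⟩ := (hq.comap (algebraMap A₀ A)).inf_le'.1 h
      exact ⟨M₀, h'⟩
    have h1 : q.comap (algebraMap A₀ A) = M₀.asIdeal :=
      (M₀.isMaximal.eq_of_le (hq.comap _).ne_top hM₀).symm
    exact sInf_le ⟨bot_le, Ideal.isMaximal_of_isIntegral_of_isMaximal_comap q
      (show (q.comap (algebraMap A₀ A)).IsMaximal by rw [h1]; exact M₀.isMaximal)⟩)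
    (IsNoetherian.noetherian _)
  have e : J₀.map (algebraMap A₀ (A ⊗[A₀] R₀)) = (J₀.map (algebraMap A₀ A)).map (algebraMap A (A ⊗[A₀] R₀)) := by
    rw [Ideal.map_map, ← IsScalarTower.algebraMap_eq]
  let K := J.map (algebraMap A (A ⊗[A₀] R₀))
  haveI : IsAdicComplete K (A ⊗[A₀] R₀) :=
    CplFib6.isAdicComplete_of_sandwich _ (J₀.map (algebraMap A₀ (A ⊗[A₀] R₀))) (N := N)
      (by rw [← Ideal.map_pow, e]; exact Ideal.map_mono hN) (e ▸ Ideal.map_mono hmJ)
  have hdense : ∀ (n : ℕ) (r : A ⊗[A₀] R₀), ∃ c, r - algebraMap A (A ⊗[A₀] R₀) c ∈ (J ^ n).map (algebraMap A (A ⊗[A₀] R₀)) := by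
    intro n r
    have hle : (J₀ ^ n).map (algebraMap A₀ (A ⊗[A₀] R₀)) ≤ (J ^ n).map (algebraMap A (A ⊗[A₀] R₀)) := by
      rw [IsScalarTower.algebraMap_eq A₀ A (A ⊗[A₀] R₀), ← Ideal.map_map, Ideal.map_pow]
      exact Ideal.map_mono (Ideal.pow_right_mono hmJ n)
    induction r using TensorProduct.induction_on with
    | zero => exact ⟨0, by simp⟩
    | add x y hx hy =>
      obtain ⟨a, ha⟩ := hx; obtain ⟨b, hb⟩ := hy
      refine ⟨a + b, ?_⟩
      rw [map_add, add_sub_add_comm]
      exact add_mem ha hb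
    | tmul c x =>
      obtain ⟨a, ha⟩ := Submodule.mkQ_surjective _ (AdicCompletion.eval J₀ A₀ n x)
      refine ⟨c * algebraMap A₀ A a, hle ?_⟩
      have h1 : x - algebraMap A₀ R₀ a ∈ (J₀ ^ n).map (algebraMap A₀ R₀) := by
        rw [CplFib6.map_pow_eq_ker J₀ fg, map_sub, ← ha, sub_eq_zero]
        exact (AdicCompletion.eval_of J₀ A₀ n a).symm
      have h2 := Ideal.mem_map_of_mem (Algebra.TensorProduct.includeRight (R := A₀) (A := A) (B := R₀)).toRingHom h1
      rw [Ideal.map_map, show (Algebra.TensorProduct.includeRight (R := A₀) (A := A) (B := R₀)).toRingHom.comp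
        (algebraMap A₀ R₀) = algebraMap A₀ (A ⊗[A₀] R₀) from
        (Algebra.TensorProduct.includeRight (R := A₀) (A := A) (B := R₀)).comp_algebraMap] at h2
      have h4 : c ⊗ₜ[A₀] x - algebraMap A (A ⊗[A₀] R₀) (c * algebraMap A₀ A a) =
          (c ⊗ₜ[A₀] (1 : R₀)) *
            (Algebra.TensorProduct.includeRight (R := A₀) (A := A) (B := R₀)).toRingHom (x - algebraMap A₀ R₀ a) := by
        rw [Algebra.TensorProduct.algebraMap_apply, Algebra.algebraMap_self, RingHom.id_apply]
        simp [mul_sub, Algebra.TensorProduct.tmul_mul_tmul, Algebra.algebraMap_eq_smul_one]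
        rw [TensorProduct.tmul_sub, TensorProduct.smul_tmul]
      rw [h4]
      exact Ideal.mul_mem_left _ _ h2
  -- the completion is the base change, as algebras
  have h1 : ∀ n, J ^ n ≤ (K ^ n).comap (algebraMap A (A ⊗[A₀] R₀)) := fun n => by
    rw [← Ideal.map_le_iff_le_comap, Ideal.map_pow]
  have hinv : ∀ n c, algebraMap A (A ⊗[A₀] R₀) c ∈ K ^ n → c ∈ J ^ n := fun n c hc => by
    rw [← Ideal.map_pow, ← Ideal.mem_comap, Ideal.comap_map_eq_self_of_faithfullyFlat] at hc
    exact hc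
  have hcompat : ∀ {i n : ℕ} (hle : i ≤ n), (Ideal.Quotient.factorPow K hle).comp
      ((Ideal.quotientMap (K ^ n) (algebraMap A _) (h1 n)).comp (AdicCompletion.evalₐ J n).toRingHom) =
      (Ideal.quotientMap (K ^ i) (algebraMap A _) (h1 i)).comp (AdicCompletion.evalₐ J i).toRingHom := by
    intro i n hle
    refine RingHom.ext fun x => ?_
    obtain ⟨g, rfl⟩ := AdicCompletion.mk_surjective J A x
    simp only [RingHom.comp_apply, AlgHom.toRingHom_eq_coe, RingHom.coe_coe, AdicCompletion.evalₐ_mk,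
      Ideal.quotientMap_mk]
    show Ideal.Quotient.mk _ (algebraMap A _ (g n)) = Ideal.Quotient.mk _ (algebraMap A _ (g i))
    rw [Ideal.Quotient.eq, ← map_sub]
    refine h1 i ?_
    simpa using neg_mem (SModEq.sub_mem.1 (g.property hle))
  let Φ : AdicCompletion J A →+* A ⊗[A₀] R₀ := IsAdicComplete.liftRingHom K _ hcompat
  have hΦ : ∀ n x, Ideal.Quotient.mk (K ^ n) (Φ x) =
      Ideal.quotientMap (K ^ n) (algebraMap A _) (h1 n) (AdicCompletion.evalₐ J n x) := fun n x =>
    IsAdicComplete.mk_liftRingHom _ _ _ _ _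
  let ΦA : AdicCompletion J A →ₐ[A] A ⊗[A₀] R₀ :=
    { Φ with
      commutes' := fun c => sub_eq_zero.mp ((IsHausdorff.haus' (I := K) _) fun n => by
        rw [SModEq.zero, smul_eq_mul, Ideal.mul_top, ← Ideal.Quotient.eq]
        exact (hΦ n _).trans (by rw [AlgHom.commutes]; rfl)) }
  have hbij : Function.Bijective ΦA := ⟨(injective_iff_map_eq_zero Φ).2 fun x hx => AdicCompletion.ext_evalₐ fun n => by
      obtain ⟨c, hc⟩ := Ideal.Quotient.mk_surjective (AdicCompletion.evalₐ J n x)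
      have h := hΦ n x
      rw [hx, map_zero, ← hc, Ideal.quotientMap_mk, eq_comm, Ideal.Quotient.eq_zero_iff_mem] at h
      rw [map_zero, ← hc, Ideal.Quotient.eq_zero_iff_mem]
      exact hinv n c h, fun r => by
      choose c hc using fun n => hdense n r
      let g : AdicCompletion.AdicCauchySequence J A := ⟨c, fun {i n} hin => by
        rw [SModEq.sub_mem, smul_eq_mul, Ideal.mul_top]
        refine hinv i _ ?_
        rw [← Ideal.map_pow, map_sub,
          show algebraMap A _ (c i) - algebraMap A _ (c n) = (r - algebraMap A _ (c n)) - (r - algebraMap A _ (c i)) by ring]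
        exact sub_mem (Ideal.map_mono (Ideal.pow_le_pow_right hin) (hc n)) (hc i)⟩
      refine ⟨AdicCompletion.mk J A g, sub_eq_zero.mp ((IsHausdorff.haus' (I := K) _) fun n => ?_)⟩
      rw [SModEq.zero, smul_eq_mul, Ideal.mul_top, ← Ideal.Quotient.eq]
      refine (hΦ n _).trans ?_
      rw [AdicCompletion.evalₐ_mk, Ideal.quotientMap_mk, eq_comm, Ideal.Quotient.eq, ← Ideal.map_pow]
      exact hc n⟩
  let e' := AlgEquiv.ofBijective ΦA hbij
  -- the lift
  intro C _ _ _ _ I hI u₀ ⟨u, hu⟩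
  let h : A ⊗[A₀] R₀ →ₐ[A] C := Algebra.TensorProduct.lift (Algebra.ofId A C)
    ((u.comp (e'.symm.toAlgHom.restrictScalars A₀)).comp Algebra.TensorProduct.includeRight) fun _ _ => Commute.all _ _
  refine ⟨h.comp e'.toAlgHom, ?_⟩
  have key : (Ideal.Quotient.mkₐ A I).comp h = u₀.comp e'.symm.toAlgHom := by
    refine Algebra.TensorProduct.ext (AlgHom.ext fun a => (AlgHom.commutes _ a).trans (AlgHom.commutes _ a).symm)
      (AlgHom.ext fun x => ?_)
    have := AlgHom.congr_fun hu (e'.symm ((1 : A) ⊗ₜ[A₀] x))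
    simpa [h] using this
  refine AlgHom.ext fun z => ?_
  have := AlgHom.congr_fun key (e' z)
  simpa using this

end Groth.Agent.S4581
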