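import Groth.Statements.S4589
import Groth.Agent.S2480

set_option autoImplicit false
universe u
open IsLocalRing
open EGA41

set_option linter.style.haveILetI false
namespace Groth.Agent.S4589

/-- Under the hypotheses of Nagata's Jacobian criterion — k a field of characteristic exponent p with k
finite over k^p, A a complete Noetherian local ring with residue field finite over a separable
extension K₀ of k, A a K₀-algebra formally smooth for its adic topology, q an ideal of A and B = A/q
— the set of primes n of B with B_n formally smooth over k for the adic topology of its maximal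
ideal is open in Spec B. -/
theorem result (p : ℕ) {k K₀ A : Type u} [Field k] [ExpChar k p]
    (hk : p = 1 ∨ Module.Finite (frobenius k p).fieldRange k)
    [Field K₀] [Algebra k K₀] [Algebra.IsGeometricallyReduced k K₀]
    [CommRing A] [IsLocalRing A] [IsNoetherianRing A] [IsAdicComplete (maximalIdeal A) A]
    [Algebra k A] [Algebra K₀ A] [IsScalarTower k K₀ A] [Module.Finite K₀ (ResidueField A)]
    (hA : CAlgX.IsAdicFormallySmooth K₀ A (maximalIdeal A))
    (q : Ideal A) :
    IsOpen {n : PrimeSpectrum (A ⧸ q) |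
      CAlgX.IsAdicFormallySmooth k (Localization.AtPrime n.asIdeal) (maximalIdeal (Localization.AtPrime n.asIdeal))} := by
  classical
  haveI : IsNoetherianRing A := inferInstance
  rw [isOpen_iff_forall_mem_open]
  intro n hn
  let P : Ideal A := n.asIdeal.comap (Ideal.Quotient.mk q)
  have hqP : ∀ (n' : PrimeSpectrum (A ⧸ q)), q ≤ n'.asIdeal.comap (Ideal.Quotient.mk q) := fun n' x hx => by
    rw [Ideal.mem_comap, Ideal.Quotient.eq_zero_iff_mem.2 hx]
    exact zero_mem _
  have key : ∀ (n' : PrimeSpectrum (A ⧸ q)),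
      CAlgX.IsAdicFormallySmooth k (Localization.AtPrime n'.asIdeal) (maximalIdeal (Localization.AtPrime n'.asIdeal)) ↔
      ∃ (m : ℕ) (D : Fin m → Derivation k A A) (f : Fin m → A), (∀ i, f i ∈ q) ∧
        q.map (algebraMap A (Localization.AtPrime (n'.asIdeal.comap (Ideal.Quotient.mk q)))) =
          Ideal.span (Set.range fun i => algebraMap A (Localization.AtPrime (n'.asIdeal.comap (Ideal.Quotient.mk q))) (f i)) ∧
        Matrix.det (Matrix.of fun i j => D i (f j)) ∉ n'.asIdeal.comap (Ideal.Quotient.mk q) := by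
    intro n'
    have e : (n'.asIdeal.comap (Ideal.Quotient.mk q)).map (Ideal.Quotient.mk q) = n'.asIdeal :=
      Ideal.map_comap_of_surjective _ Ideal.Quotient.mk_surjective _
    haveI hp : ((n'.asIdeal.comap (Ideal.Quotient.mk q)).map (Ideal.Quotient.mk q)).IsPrime := e.symm ▸ n'.2
    have h := S2480.result p hk hA q (n'.asIdeal.comap (Ideal.Quotient.mk q)) (hqP n')
    revert h hp
    rw [e]
    intro _ h
    exact h
  obtain ⟨m, D, f, hfq, hspan, hdet⟩ := (key n).1 hn
  obtain ⟨N, g, hg⟩ := Submodule.fg_iff_exists_fin_generating_family.1 (IsNoetherian.noetherian q)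
  have hloc : ∀ l, ∃ c ∉ P, c * g l ∈ Ideal.span (Set.range f) := fun l => by
    have h1 : algebraMap A (Localization.AtPrime P) (g l) ∈ (Ideal.span (Set.range f)).map (algebraMap A (Localization.AtPrime P)) := by
      rw [Ideal.map_span, ← Set.range_comp]
      exact hspan.le (Ideal.mem_map_of_mem _ (hg ▸ Submodule.subset_span ⟨l, rfl⟩))
    obtain ⟨⟨a, t⟩, ht⟩ := (IsLocalization.mem_map_algebraMap_iff P.primeCompl _).1 h1
    rw [← map_mul] at ht
    obtain ⟨c, hc⟩ := IsLocalization.exists_of_eq (M := P.primeCompl) ht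
    refine ⟨(c : A) * t, Submonoid.mul_mem _ c.2 t.2, ?_⟩
    rw [mul_assoc, mul_comm (t : A) (g l), hc]
    exact Ideal.mul_mem_left _ _ a.2
  choose c hc hcg using hloc
  let d : A := (∏ l, c l) * Matrix.det (Matrix.of fun i j => D i (f j))
  have hd : d ∉ P := fun h => by
    rcases (Ideal.IsPrime.comap _ : P.IsPrime).mem_or_mem h with h1 | h1
    · obtain ⟨l, -, hl⟩ := (Ideal.IsPrime.prod_mem_iff).1 h1
      exact hc l hl
    · exact hdet h1
  refine ⟨PrimeSpectrum.basicOpen (Ideal.Quotient.mk q d), fun n' hn' => ?_, PrimeSpectrum.isOpen_basicOpen, hd⟩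
  refine (key n').2 ⟨m, D, f, hfq, le_antisymm ?_ ?_, fun h => hn' (Ideal.mul_mem_left _ _ h : d ∈ n'.asIdeal.comap (Ideal.Quotient.mk q))⟩
  · refine Ideal.map_le_iff_le_comap.2 (hg.ge.trans (Submodule.span_le.2 ?_))
    rintro _ ⟨l, rfl⟩
    show algebraMap A _ (g l) ∈ Ideal.span (Set.range _)
    have hu : c l ∉ n'.asIdeal.comap (Ideal.Quotient.mk q) := fun h =>
      hn' (Ideal.mul_mem_right _ _ (Ideal.prod_mem (f := c) _ (Finset.mem_univ l) h) : d ∈ n'.asIdeal.comap (Ideal.Quotient.mk q))
    refine (Ideal.unit_mul_mem_iff_mem _ (IsLocalization.map_units (Localization.AtPrime (n'.asIdeal.comap (Ideal.Quotient.mk q))) (⟨c l, hu⟩ : (n'.asIdeal.comap (Ideal.Quotient.mk q)).primeCompl))).1 ?_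
    rw [← map_mul]
    have := Ideal.mem_map_of_mem (algebraMap A (Localization.AtPrime (n'.asIdeal.comap (Ideal.Quotient.mk q)))) (hcg l)
    rwa [Ideal.map_span, ← Set.range_comp] at this
  · rw [Ideal.span_le]
    rintro _ ⟨i, rfl⟩
    exact Ideal.mem_map_of_mem _ (hfq i)

end Groth.Agent.S4589
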