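import Groth.Statements.S4610
import Mathlib.RingTheory.AdjoinRoot
import Mathlib.RingTheory.MvPolynomial.Basic
import Mathlib.LinearAlgebra.Dimension.Free

set_option autoImplicit false
universe u
open EGA41

namespace Groth.Agent.S4610

/-- Let A be a nonzero ring and F_1, …, F_r monic one-variable polynomials of degrees d_1, …, d_r; then
A[T_1, …, T_r]/(F_1(T_1), …, F_r(T_r)) is a free A-module of rank ∏ d_i. (The published statement
assumes A local with maximal ideal of square zero and A' local, which this assertion does not use;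
its bound [K' : K] ≤ d and part (ii) are not stated.) -/
theorem result {A : Type u} [CommRing A] [Nontrivial A]
    {r : ℕ} (F : Fin r → Polynomial A) (hF : ∀ i, (F i).Monic) :
    Module.Free A (MvPolynomial (Fin r) A ⧸ Ideal.span (Set.range fun i => Polynomial.aeval (MvPolynomial.X i : MvPolynomial (Fin r) A) (F i))) ∧
      Module.finrank A (MvPolynomial (Fin r) A ⧸ Ideal.span (Set.range fun i => Polynomial.aeval (MvPolynomial.X i : MvPolynomial (Fin r) A) (F i))) =
        Finset.univ.prod fun i => (F i).natDegree := by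
  classical
  let Q : ∀ {r : ℕ}, (Fin r → Polynomial A) → Type u := fun {r} F =>
    MvPolynomial (Fin r) A ⧸ Ideal.span (Set.range fun i => Polynomial.aeval (MvPolynomial.X i : MvPolynomial (Fin r) A) (F i))
  suffices key : ∀ (r : ℕ) (F : Fin r → Polynomial A), (∀ i, (F i).Monic) →
      Nonempty (Module.Basis ((i : Fin r) → Fin (F i).natDegree) A
        (MvPolynomial (Fin r) A ⧸ Ideal.span (Set.range fun i => Polynomial.aeval (MvPolynomial.X i : MvPolynomial (Fin r) A) (F i)))) by
    obtain ⟨b⟩ := key r F hF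
    refine ⟨Module.Free.of_basis b, ?_⟩
    rw [Module.finrank_eq_card_basis b, Fintype.card_pi]
    simp
  intro r
  induction r with
  | zero =>
    intro F _
    have h : Ideal.span (Set.range fun i => Polynomial.aeval (MvPolynomial.X i : MvPolynomial (Fin 0) A) (F i)) = ⊥ := by
      rw [Set.range_eq_empty, Ideal.span_empty]
    exact ⟨(Module.Basis.singleton _ A).map
      (((MvPolynomial.isEmptyAlgEquiv A (Fin 0)).symm.trans (AlgEquiv.quotientBot A (MvPolynomial (Fin 0) A)).symm).trans
        (Ideal.quotientEquivAlgOfEq A h.symm)).toLinearEquiv⟩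
  | succ r ih =>
    intro F hF
    obtain ⟨b⟩ := ih (fun i => F i.succ) fun i => hF i.succ
    let I : Ideal (MvPolynomial (Fin r) A) :=
      Ideal.span (Set.range fun i => Polynomial.aeval (MvPolynomial.X i : MvPolynomial (Fin r) A) (F i.succ))
    let I' : Ideal (MvPolynomial (Fin (r + 1)) A) :=
      Ideal.span (Set.range fun i => Polynomial.aeval (MvPolynomial.X i : MvPolynomial (Fin (r + 1)) A) (F i))
    let f : Polynomial (MvPolynomial (Fin r) A ⧸ I) := (F 0).map (algebraMap A _)
    have hf : f.Monic := (hF 0).map _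
    let R := MvPolynomial (Fin r) A ⧸ I
    let g0 : MvPolynomial (Fin (r + 1)) A →ₐ[A] AdjoinRoot f :=
      MvPolynomial.aeval (Fin.cons (AdjoinRoot.root f)
        (fun i => algebraMap R (AdjoinRoot f) (Ideal.Quotient.mk I (MvPolynomial.X i))) : Fin (r + 1) → AdjoinRoot f)
    have hg0 : I' ≤ RingHom.ker g0 := by
      refine Ideal.span_le.2 ?_
      rintro _ ⟨i, rfl⟩
      rw [SetLike.mem_coe, RingHom.mem_ker, ← Polynomial.aeval_algHom_apply, MvPolynomial.aeval_X]
      induction i using Fin.cases with
      | zero =>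
        rw [Fin.cons_zero, ← Polynomial.aeval_map_algebraMap R]
        exact (AdjoinRoot.aeval_eq f).trans AdjoinRoot.mk_self
      | succ i =>
        rw [Fin.cons_succ]
        show Polynomial.aeval ((IsScalarTower.toAlgHom A R (AdjoinRoot f))
          (Ideal.Quotient.mkₐ A I (MvPolynomial.X i))) (F i.succ) = 0
        rw [Polynomial.aeval_algHom_apply, Polynomial.aeval_algHom_apply,
          show Ideal.Quotient.mkₐ A I (Polynomial.aeval (MvPolynomial.X i) (F i.succ)) = 0 from
            Ideal.Quotient.eq_zero_iff_mem.2 (Ideal.subset_span ⟨i, rfl⟩), map_zero]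
    let fwd : MvPolynomial (Fin (r + 1)) A ⧸ I' →ₐ[A] AdjoinRoot f :=
      Ideal.Quotient.liftₐ I' g0 fun x hx => hg0 hx
    let j0 : MvPolynomial (Fin r) A →ₐ[A] MvPolynomial (Fin (r + 1)) A ⧸ I' :=
      (Ideal.Quotient.mkₐ A I').comp (MvPolynomial.rename Fin.succ)
    have hj0 : I ≤ RingHom.ker j0 := by
      refine Ideal.span_le.2 ?_
      rintro _ ⟨i, rfl⟩
      rw [SetLike.mem_coe, RingHom.mem_ker, AlgHom.comp_apply, ← Polynomial.aeval_algHom_apply,
        MvPolynomial.rename_X]
      exact Ideal.Quotient.eq_zero_iff_mem.2 (Ideal.subset_span ⟨i.succ, rfl⟩)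
    let j : R →ₐ[A] MvPolynomial (Fin (r + 1)) A ⧸ I' := Ideal.Quotient.liftₐ I j0 fun x hx => hj0 hx
    let inv : AdjoinRoot f →ₐ[A] MvPolynomial (Fin (r + 1)) A ⧸ I' :=
      AdjoinRoot.liftAlgHom f j (Ideal.Quotient.mkₐ A I' (MvPolynomial.X 0)) (by
        rw [Polynomial.eval₂_map, AlgHom.comp_algebraMap, ← Polynomial.aeval_def, Polynomial.aeval_algHom_apply]
        exact Ideal.Quotient.eq_zero_iff_mem.2 (Ideal.subset_span ⟨0, rfl⟩))
    have hfwd : ∀ x, fwd (Ideal.Quotient.mk I' x) = g0 x := fun x => rfl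
    have hj : ∀ x, j (Ideal.Quotient.mk I x) = j0 x := fun x => rfl
    have hroot : inv (AdjoinRoot.root f) = Ideal.Quotient.mk I' (MvPolynomial.X 0) := AdjoinRoot.liftAlgHom_root ..
    have hof : ∀ x, inv (AdjoinRoot.of f x) = j x := fun x => AdjoinRoot.liftAlgHom_of ..
    have h1 : fwd.comp inv = AlgHom.id A _ := by
      refine AdjoinRoot.algHom_ext' ?_ ?_
      · refine Ideal.Quotient.algHom_ext A (MvPolynomial.algHom_ext fun i => ?_)
        show fwd (inv (AdjoinRoot.of f (Ideal.Quotient.mk I (MvPolynomial.X i)))) =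
          AdjoinRoot.of f (Ideal.Quotient.mk I (MvPolynomial.X i))
        rw [hof, hj]
        show fwd (Ideal.Quotient.mk I' (MvPolynomial.rename Fin.succ (MvPolynomial.X i))) = _
        rw [hfwd, MvPolynomial.rename_X, MvPolynomial.aeval_X, Fin.cons_succ]
        rfl
      · show fwd (inv (AdjoinRoot.root f)) = AdjoinRoot.root f
        rw [hroot, hfwd, MvPolynomial.aeval_X, Fin.cons_zero]
    have h2 : inv.comp fwd = AlgHom.id A _ := by
      refine Ideal.Quotient.algHom_ext A (MvPolynomial.algHom_ext fun i => ?_)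
      show inv (fwd (Ideal.Quotient.mk I' (MvPolynomial.X i))) = Ideal.Quotient.mk I' (MvPolynomial.X i)
      rw [hfwd, MvPolynomial.aeval_X]
      induction i using Fin.cases with
      | zero => rw [Fin.cons_zero, hroot]
      | succ i =>
        rw [Fin.cons_succ, AdjoinRoot.algebraMap_eq, hof, hj]
        show Ideal.Quotient.mk I' (MvPolynomial.rename Fin.succ (MvPolynomial.X i)) = _
        rw [MvPolynomial.rename_X]
    let e := AlgEquiv.ofAlgHom inv fwd h2 h1
    rcases subsingleton_or_nontrivial R with hR | hR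
    · haveI : IsEmpty ((i : Fin r) → Fin (F i.succ).natDegree) :=
        ⟨fun x => b.ne_zero x (Subsingleton.elim _ _)⟩
      haveI : IsEmpty ((i : Fin (r + 1)) → Fin (F i).natDegree) :=
        ⟨fun x => isEmptyElim (fun (i : Fin r) => x i.succ : (i : Fin r) → Fin (F i.succ).natDegree)⟩
      haveI : Subsingleton (AdjoinRoot f) := (AdjoinRoot.of f).codomain_trivial
      haveI : Subsingleton (MvPolynomial (Fin (r + 1)) A ⧸ I') := e.symm.injective.subsingleton
      exact ⟨Module.Basis.empty _⟩
    refine ⟨(((b.smulTower (AdjoinRoot.powerBasis' hf).basis).map e.toLinearEquiv).reindex ?_)⟩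
    refine (Equiv.prodComm _ _).trans ((Equiv.prodCongr ?_ (Equiv.refl _)).trans (Fin.consEquiv fun i => Fin (F i).natDegree))
    exact finCongr (by
      rw [AdjoinRoot.powerBasis'_dim]
      exact (hF 0).natDegree_map _)

end Groth.Agent.S4610
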