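import Groth.Statements.S4658
import Groth.Agent.AssLib.OpenRestrict
import Groth.Agent.AssLib.Push
import Groth.Agent.AssLib.FlatFibre
import Groth.Agent.AssLib2.Filtration
import Groth.Agent.QCoh.Devissage
import Groth.Agent.QCoh.SubCompare
import Groth.Agent.QCoh.Qcqs
import Groth.Agent.QCoh.Pullback

set_option autoImplicit false
set_option linter.style.haveILetI false
set_option backward.isDefEq.respectTransparency false
set_option backward.isDefEq.respectTransparency.types false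

open CategoryTheory AlgebraicGeometry CategoryTheory.Limits TopologicalSpace
universe u
open AssSch

namespace Groth.Agent.S4658

open Groth.Agent

theorem mono_of_top {V : Scheme.{u}} [IsAffine V] {M N : V.Modules} (hM : Coh.IsQCoh M) (hN : Coh.IsQCoh N)
    (φ : M ⟶ N) (h : ∀ m, φ.app ⊤ m = 0 → m = 0) : Mono φ := by
  refine Preadditive.mono_of_kernel_zero ?_
  have hz : IsZero (kernel φ) := QCoh.isZero_of_cover (QCoh.isQCoh_kernel hM hN φ) (fun _ : PUnit.{1} => ⊤)
    (fun _ => isAffineOpen_top V) (fun _ => ⟨⟨⟩, trivial⟩) fun _ => by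
      refine subsingleton_of_forall_eq 0 fun k => ?_
      refine QCoh.app_injective (kernel.ι φ) ⊤ ((h _ ?_).trans (map_zero _).symm)
      exact congr(($(kernel.condition φ)).app ⊤ k)
  exact hz.eq_of_src _ _

theorem epi_of_top {V : Scheme.{u}} [IsAffine V] {M : V.Modules} (hM : Coh.IsQCoh M) (t : Γ(M, ⊤))
    (h : ∀ m : Γ(M, ⊤), ∃ a : Γ(V, ⊤), m = a • t) : Epi (QCoh.homOfTop t) := by
  refine Preadditive.epi_of_cokernel_zero ?_
  have hQ := QCoh.isQCoh_cokernel QCoh.isQCoh_structureModule hM (QCoh.homOfTop t)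
  have hz : IsZero (cokernel (QCoh.homOfTop t)) := QCoh.isZero_of_cover hQ (fun _ : PUnit.{1} => ⊤)
    (fun _ => isAffineOpen_top V) (fun _ => ⟨⟨⟩, trivial⟩) fun _ => by
      refine subsingleton_of_forall_eq 0 fun k => ?_
      obtain ⟨m, rfl⟩ := QCoh.app_surjective_of_epi hM hQ (cokernel.π (QCoh.homOfTop t)) (isAffineOpen_top V) k
      obtain ⟨a, rfl⟩ := h m
      have ha : (QCoh.homOfTop t).app ⊤ a = a • t := by
        rw [QCoh.homOfTop_app]
        exact congrArg (a • ·) (QCoh.map_id' _ _)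
      rw [← ha]
      exact congr(($(cokernel.condition (QCoh.homOfTop t))).app ⊤ a)
  exact hz.eq_of_tgt _ _

/-- If `t` generates the sections and every scalar killing it kills `s`, there is a morphism sending `t` to `s`;
it is a monomorphism if conversely every scalar killing `s` kills `t`. -/
theorem exists_mono_of_top {V : Scheme.{u}} [IsAffine V] {M N : V.Modules} (hM : Coh.IsQCoh M) (hN : Coh.IsQCoh N)
    (t : Γ(M, ⊤)) (s : Γ(N, ⊤)) (hgen : ∀ m : Γ(M, ⊤), ∃ a : Γ(V, ⊤), m = a • t)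
    (hiff : ∀ a : Γ(V, ⊤), a • t = 0 ↔ a • s = 0) : ∃ φ : M ⟶ N, Mono φ := by
  have happ : ∀ {P : V.Modules} (p : Γ(P, ⊤)) (a : Γ(V, ⊤)), (QCoh.homOfTop p).app ⊤ a = a • p := fun p a => by
    rw [QCoh.homOfTop_app]
    exact congrArg (a • ·) (QCoh.map_id' _ _)
  haveI := epi_of_top hM t hgen
  have h0 : kernel.ι (QCoh.homOfTop t) ≫ QCoh.homOfTop s = 0 := by
    refine QCoh.hom_eq_zero_of_cover (QCoh.isQCoh_kernel QCoh.isQCoh_structureModule hM _) hN _
      (fun _ : PUnit.{1} => ⊤) (fun _ => isAffineOpen_top V) (fun _ => ⟨⟨⟩, trivial⟩) fun _ k => ?_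
    show (QCoh.homOfTop s).app ⊤ ((kernel.ι (QCoh.homOfTop t)).app ⊤ k) = 0
    rw [happ, ← hiff, ← happ]
    exact congr(($(kernel.condition (QCoh.homOfTop t))).app ⊤ k)
  obtain ⟨φ, hφ⟩ : ∃ φ : M ⟶ N, QCoh.homOfTop t ≫ φ = QCoh.homOfTop s :=
    ⟨(Abelian.epiIsCokernelOfKernel _ (kernelIsKernel (QCoh.homOfTop t))).desc (CokernelCofork.ofπ _ h0),
      (Abelian.epiIsCokernelOfKernel _ (kernelIsKernel (QCoh.homOfTop t))).fac (CokernelCofork.ofπ _ h0)
        WalkingParallelPair.one⟩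
  refine ⟨φ, mono_of_top hM hN φ fun m hm => ?_⟩
  obtain ⟨a, rfl⟩ := hgen m
  refine (hiff a).2 ?_
  rw [← happ s a, ← hφ]
  show φ.app ⊤ ((QCoh.homOfTop t).app ⊤ a) = 0
  rw [happ]
  exact hm

theorem result {X : Scheme.{u}} [IsLocallyNoetherian X] (F : X.Modules)
    (hF : Coh.IsQCoh F) (x : X) :
    x ∈ AssSch.Ass F ↔ ∃ (U : X.Opens), x ∈ U ∧
      ∃ φ : (Scheme.Modules.pullback U.ι).obj
              ((Scheme.Modules.pushforward (Scheme.IdealSheafData.vanishingIdeal ⟨closure {x}, isClosed_closure⟩).subschemeι).obj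
                (Coh.structureModule (Scheme.IdealSheafData.vanishingIdeal ⟨closure {x}, isClosed_closure⟩).subscheme)) ⟶
            (Scheme.Modules.pullback U.ι).obj F, Mono φ := by
  let J : X.IdealSheafData := Scheme.IdealSheafData.vanishingIdeal ⟨closure {x}, isClosed_closure⟩
  let i := J.subschemeι
  let O : X.Modules := (Scheme.Modules.pushforward i).obj (Coh.structureModule J.subscheme)
  have hO : Coh.IsQCoh O := QCoh.isQCoh_pushforward i QCoh.isQCoh_structureModule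
  constructor
  · intro hx
    obtain ⟨V, hV, hxV, -⟩ := exists_isAffineOpen_mem_and_subset (x := x) (U := ⊤) trivial
    let W : X.Opens := V.ι ''ᵁ ⊤
    have hWV : W = V := by simp [W]
    have hW : IsAffineOpen W := hWV ▸ hV
    have hxW : x ∈ W := hWV ▸ hxV
    haveI : IsAffine V.toScheme := hV
    haveI : IsNoetherianRing Γ(X, W) := IsLocallyNoetherian.component_noetherian ⟨W, hW⟩
    obtain ⟨hp, s, hs⟩ := Submodule.isAssociatedPrime_iff.1 ((AssLib.mem_ass_iff hF hW hxW).1 hx)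
    have hs' : ∀ a : Γ(X, W), a • s = 0 ↔ a ∈ J.ideal ⟨W, hW⟩ := fun a => by
      have : a ∈ (⊥ : Submodule Γ(X, W) Γ(F, W)).colon {s} ↔ a • s = 0 := by
        rw [Submodule.mem_colon_singleton, Submodule.mem_bot]
      rw [← this, ← hs]
      refine Iff.trans ?_ (QCoh.mem_vanishing_closure_iff x (V := ⟨W, hW⟩) a).symm
      exact ⟨fun h h' => (QCoh.mem_basicOpen_iff_notMem hW hxW a).1 h' h,
        fun h => not_not.1 fun h' => h ((QCoh.mem_basicOpen_iff_notMem hW hxW a).2 h')⟩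
    let e := (V.ι.appIso ⊤).commRingCatIsoToRingEquiv
    let t : Γ(O.restrict V.ι, ⊤) := (1 : Γ(J.subscheme, i ⁻¹ᵁ W))
    have hsm : ∀ (a : Γ(V, ⊤)) {P : X.Modules} (p : Γ(P, W)),
        (a • (show Γ(P.restrict V.ι, ⊤) from p)) =
          (show Γ(P.restrict V.ι, ⊤) from ((V.ι.appIso ⊤).inv a : Γ(X, W)) • p) := fun a P p =>
      ConcreteCategory.congr_hom (Scheme.Modules.smul_restrictAppIso_hom V.ι P ⊤ a) p
    have hgen : ∀ m : Γ(O.restrict V.ι, ⊤), ∃ a : Γ(V, ⊤), m = a • t := fun m => by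
      obtain ⟨a, ha⟩ := J.subschemeι_app_surjective ⟨W, hW⟩ m
      refine ⟨(V.ι.appIso ⊤).hom a, ?_⟩
      rw [hsm _ (P := O) (1 : Γ(J.subscheme, i ⁻¹ᵁ W)), Iso.hom_inv_id_apply]
      exact ha.symm.trans (mul_one (M := Γ(J.subscheme, i ⁻¹ᵁ W)) _).symm
    have hiff : ∀ a : Γ(V, ⊤), a • t = 0 ↔ a • (show Γ(F.restrict V.ι, ⊤) from s) = 0 := fun a => by
      rw [hsm a (P := O) (1 : Γ(J.subscheme, i ⁻¹ᵁ W)), hsm a (P := F) s]
      refine Iff.trans ?_ (hs' _).symm
      rw [← J.ker_subschemeι_app ⟨W, hW⟩, RingHom.mem_ker]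
      exact ⟨fun h => (mul_one (M := Γ(J.subscheme, i ⁻¹ᵁ W)) _).symm.trans h,
        fun h => (mul_one (M := Γ(J.subscheme, i ⁻¹ᵁ W)) _).trans h⟩
    obtain ⟨φ, hφ⟩ := exists_mono_of_top (QCoh.isQCoh_restrict V.ι hO) (QCoh.isQCoh_restrict V.ι hF) t
      (show Γ(F.restrict V.ι, ⊤) from s) hgen hiff
    exact ⟨V, hxV, ((Scheme.Modules.restrictFunctorIsoPullback V.ι).app O).inv ≫ φ ≫
      ((Scheme.Modules.restrictFunctorIsoPullback V.ι).app F).hom, inferInstance⟩
  · rintro ⟨U, hxU, φ, hφ⟩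
    haveI : IsLocallyNoetherian J.subscheme := LocallyOfFiniteType.isLocallyNoetherian i
    have hx' : (⟨x, hxU⟩ : U.toScheme) ∈ AssSch.Ass ((Scheme.Modules.pullback U.ι).obj O) := by
      rw [AssLib.mem_ass_pullback_iff U.ι O]
      show x ∈ AssSch.Ass O
      have hr : x ∈ Set.range i.base := by
        rw [Scheme.IdealSheafData.range_subschemeι, Scheme.IdealSheafData.coe_support_vanishingIdeal]
        exact subset_closure rfl
      obtain ⟨z, hz⟩ := hr
      have hmax : ∀ y, y ⤳ z → y = z := fun y hy => by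
        refine i.isClosedEmbedding.injective ((hy.map i.continuous).antisymm ?_).eq
        rw [hz, specializes_iff_mem_closure]
        have : i.base y ∈ Set.range i.base := ⟨y, rfl⟩
        rwa [Scheme.IdealSheafData.range_subschemeι, Scheme.IdealSheafData.coe_support_vanishingIdeal] at this
      have hOass := @AssLib.ass_push_eq_of_isAffineHom J.subscheme X i _ _ (Coh.structureModule J.subscheme) _
        QCoh.isQCoh_structureModule
      exact hOass.symm ▸ ⟨z, AssLib.mem_ass_of_maximal hmax, hz⟩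
    exact (AssLib.mem_ass_pullback_iff U.ι F ⟨x, hxU⟩).1 (@AssLib2.ass_subset_of_mono _ _ _ φ hφ _ hx')

end Groth.Agent.S4658
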