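import Groth.Statements.S4677
import Groth.Agent.Ega41H93.InsepModel

set_option autoImplicit false
open scoped TensorProduct
universe u
open FBase

open scoped TensorProduct
set_option linter.style.haveILetI false
namespace Groth.Agent.S4677

/-- Let K be a finitely generated extension field of a field k. Then there exists a finite purely
inseparable extension k' of k such that, for every maximal ideal m of the ring k' ⊗_k K, the residue
field (k' ⊗_k K)/m is geometrically reduced over k' (a separable, not necessarily algebraic,
extension of k'). -/
theorem result {k K : Type u} [Field k] [Field K] [Algebra k K]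
    [Algebra.EssFiniteType k K] :
    ∃ (k' : Type u) (_ : Field k') (_ : Algebra k k'), FiniteDimensional k k' ∧ IsPurelyInseparable k k' ∧
      ∀ (m : Ideal (k' ⊗[k] K)), m.IsMaximal → Algebra.IsGeometricallyReduced k' ((k' ⊗[k] K) ⧸ m) := by
  obtain ⟨k', _, _, K', _, _, _, _, _, _, hfin, hins, hgr⟩ := Ega41H93.exists_insep_geomReduced k K
  refine ⟨k', inferInstance, inferInstance, hfin, hins, fun m hm => ?_⟩
  haveI := hm
  let φ : k' ⊗[k] K →ₐ[k'] K' :=
    Algebra.TensorProduct.lift (Algebra.ofId k' K') (IsScalarTower.toAlgHom k K K') fun _ _ => Commute.all _ _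
  have hker : RingHom.ker φ = m := by
    rw [Ega41H93.eq_nilradical_of_isMaximal k' K m]
    refine Ega41H93.ker_eq_nilradical k' K φ.toRingHom fun a ha => ?_
    have : algebraMap K K' a = 0 := by simpa [φ] using ha
    rw [(map_eq_zero_iff _ (algebraMap K K').injective).1 this]
    exact IsNilpotent.zero
  subst hker
  exact Algebra.IsGeometricallyReduced.of_injective (Ideal.kerLiftAlg φ) (Ideal.kerLiftAlg_injective φ)

end Groth.Agent.S4677
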