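import Groth.Statements.S4693
import Groth.Agent.FlatLoc6.DimEq
import Mathlib.LinearAlgebra.TensorProduct.Quotient
import Mathlib.RingTheory.Ideal.AssociatedPrime.Localization

set_option autoImplicit false
universe u
open EGA4

namespace Groth.Agent.S4693

/-- Let A → B be a local homomorphism of Noetherian local rings such that the closed fibre ring B/m_A B
has Krull dimension 0 (that is, m_A B is an ideal of definition of B). Then dim B ≤ dim A. If
moreover some finite B-module which is flat over A has support equal to all of Spec B (for instance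
if B is flat over A), then dim B = dim A. -/
theorem result (A B : Type u) [CommRing A] [CommRing B] [IsNoetherianRing A]
    [IsNoetherianRing B] [IsLocalRing A] [IsLocalRing B] [Algebra A B] [IsLocalHom (algebraMap A B)]
    (h0 : ringKrullDim (EGA4.FibRing A B) = 0) :
    ringKrullDim B ≤ ringKrullDim A ∧
      (∀ (N : Type u) [AddCommGroup N] [Module B N] [Module A N] [IsScalarTower A B N] [Module.Finite B N]
          [Module.Flat A N], Module.support B N = Set.univ → ringKrullDim B = ringKrullDim A) := by
  classical
  have hle : ringKrullDim B ≤ ringKrullDim A := by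
    have h := FlatLoc6.ringKrullDim_le_add_fibre (A := A) (B := B)
    rwa [h0, add_zero] at h
  refine ⟨hle, fun N _ _ _ _ _ _ hsupp => le_antisymm hle ?_⟩
  have key : ∀ (n : ℕ) (P : PrimeSpectrum B), Order.height P ≤ n →
      Order.height (PrimeSpectrum.comap (algebraMap A B) P) ≤ n := by
    have hlift : ∀ (P : PrimeSpectrum B) (p' : PrimeSpectrum A), p' < PrimeSpectrum.comap (algebraMap A B) P →
        ∃ P' : PrimeSpectrum B, P' < P ∧ PrimeSpectrum.comap (algebraMap A B) P' = p' := by
      intro P p' hlt
      let I : Ideal B := p'.asIdeal.map (algebraMap A B)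
      let Q := N ⧸ (I • (⊤ : Submodule B N))
      obtain ⟨P', hP', hle'⟩ := Ideal.exists_minimalPrimes_le (J := P.asIdeal) (I := I) (Ideal.map_le_iff_le_comap.2 hlt.le)
      haveI := hP'.1.1
      have hmin : P' ∈ (Module.annihilator B Q).minimalPrimes := by
        have hs : ∀ R : PrimeSpectrum B, Module.annihilator B Q ≤ R.asIdeal ↔ I ≤ R.asIdeal := by
          intro R
          rw [← Module.mem_support_iff_of_finite (M := Q), Module.support_quotient, hsupp, Set.univ_inter]
          exact PrimeSpectrum.mem_zeroLocus _ _
        exact ⟨⟨hP'.1.1, (hs ⟨P', hP'.1.1⟩).2 hP'.1.2⟩, fun R hR hRle => hP'.2 ⟨hR.1, (hs ⟨R, hR.1⟩).1 hR.2⟩ hRle⟩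
      have hass : P' ∈ associatedPrimes B Q :=
        Module.associatedPrimes.minimalPrimes_annihilator_subset_associatedPrimes (R := B) (M := Q) hmin
      obtain ⟨-, z, hz⟩ := isAssociatedPrime_iff.1 hass
      have hcomap : P'.comap (algebraMap A B) = p'.asIdeal := by
        refine le_antisymm (fun a ha => ?_) (Ideal.map_le_iff_le_comap.1 hP'.1.2)
        by_contra hap
        have haz : algebraMap A B a • z = 0 := by
          have := ha
          rw [Ideal.mem_comap, hz, Submodule.mem_colon_singleton, Submodule.mem_bot] at this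
          exact this
        have hreg : IsSMulRegular (TensorProduct A N (A ⧸ p'.asIdeal)) a := by
          have hA : IsSMulRegular (A ⧸ p'.asIdeal) a := fun u v e => by
            simp only [Algebra.smul_def] at e
            exact mul_left_cancel₀ (fun e' => hap (Ideal.Quotient.eq_zero_iff_mem.1 e')) e
          exact hA.lTensor N
        let e1 := TensorProduct.tensorQuotEquivQuotSMul N p'.asIdeal
        let e2 : (N ⧸ (p'.asIdeal • (⊤ : Submodule A N))) ≃ₗ[A] Q :=
          (Submodule.quotEquivOfEq _ _ (Ideal.smul_restrictScalars p'.asIdeal ⊤).symm).trans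
            (Submodule.Quotient.restrictScalarsEquiv A (I • (⊤ : Submodule B N)))
        have hregQ : IsSMulRegular Q a := ((e1.trans e2).isSMulRegular_congr a).1 hreg
        have hz0 : z = 0 := hregQ (by
          show a • z = a • (0 : Q)
          rw [smul_zero, ← algebraMap_smul B a z, haz])
        refine hP'.1.1.ne_top ?_
        rw [hz, hz0, Ideal.eq_top_iff_one, Submodule.mem_colon_singleton, smul_zero]
        exact Submodule.zero_mem _
      refine ⟨⟨P', hP'.1.1⟩, lt_of_le_of_ne hle' fun e => hlt.ne ?_, PrimeSpectrum.ext hcomap⟩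
      rw [← e]
      exact (PrimeSpectrum.ext hcomap).symm
    intro n
    induction n using Nat.strong_induction_on with
    | _ n ih =>
      intro P hP
      refine Order.height_le_coe_iff.2 fun p' hp' => ?_
      obtain ⟨P', hP', rfl⟩ := hlift P p' hp'
      have hlt : Order.height P' < n := Order.height_le_coe_iff.1 hP P' hP'
      obtain ⟨m, hm⟩ := ENat.ne_top_iff_exists.1 hlt.ne_top
      rw [← hm, ENat.natCast_lt_natCast] at hlt
      exact (ih m hlt P' hm.ge).trans_lt (ENat.natCast_lt_natCast.2 hlt)
  rw [← IsLocalRing.maximalIdeal_height_eq_ringKrullDim, ← IsLocalRing.maximalIdeal_height_eq_ringKrullDim,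
    WithBot.coe_le_coe]
  obtain ⟨n, hn⟩ := ENat.ne_top_iff_exists.1 (Ideal.height_ne_top (I := IsLocalRing.maximalIdeal B)
    (IsLocalRing.maximalIdeal.isMaximal B).ne_top)
  have h := key n ⟨IsLocalRing.maximalIdeal B, inferInstance⟩ (by
    rw [← PrimeSpectrum.height_eq_orderHeight, ← hn])
  rw [← PrimeSpectrum.height_eq_orderHeight, PrimeSpectrum.comap_asIdeal] at h
  rw [← hn]
  simpa [IsLocalRing.maximalIdeal_comap] using h

end Groth.Agent.S4693
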