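import Groth.Statements.S4694
import Groth.Agent.FlatLoc6.Depth
import Groth.Agent.FlatLoc6.NormFlat
import Groth.Agent.S16234

set_option autoImplicit false
universe u
open EGA4

namespace Groth.Agent.S4694

open TensorProduct in
/-- Let A → B be a local homomorphism of Noetherian local rings, M a finite A-module and N a nonzero
finite B-module, flat over A, whose closed-fibre module N/m_A N has finite length. Then the depth of
the B-module N ⊗_A M equals the depth of the A-module M. (The companion equality of codepths in the
published item is not restated.) -/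
theorem result {A B M N : Type u} [CommRing A] [CommRing B]
    [IsNoetherianRing A] [IsNoetherianRing B] [IsLocalRing A] [IsLocalRing B] [Algebra A B]
    [IsLocalHom (algebraMap A B)] [AddCommGroup M] [Module A M] [Module.Finite A M]
    [AddCommGroup N] [Module B N] [Module A N] [IsScalarTower A B N] [Module.Finite B N] [Nontrivial N]
    [Module.Flat A N] (hN : IsFiniteLength B (EGA4.FibMod A B N)) :
    LocCoh.depth B (N ⊗[A] M) = LocCoh.depth A M := by
  rcases subsingleton_or_nontrivial M with hM | hM
  · haveI : Subsingleton (N ⊗[A] M) := subsingleton_of_forall_eq 0 fun x => by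
      induction x using TensorProduct.induction_on with
      | zero => rfl
      | tmul n m => rw [Subsingleton.elim m 0, TensorProduct.tmul_zero]
      | add x y hx hy => rw [hx, hy, add_zero]
    rw [Groth.Agent.FlatLoc6.depth_top_of_subsingleton, Groth.Agent.FlatLoc6.depth_top_of_subsingleton]
  rw [Groth.Agent.FlatLoc6.depth_tensor (A := A) (B := B) (N := N) M, Groth.Agent.FlatLoc6.depth_fibMod]
  haveI : Nontrivial (EGA4.FibMod A B N) := Groth.Agent.FlatLoc6.nontrivial_quot_mN (A := A) (B := B) N
  suffices h0 : LocCoh.depth B (EGA4.FibMod A B N) = 0 by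
    rw [h0, add_zero]
  obtain ⟨p, hp⟩ := associatedPrimes.nonempty B (EGA4.FibMod A B N)
  haveI := hp.isPrime
  have hmax := (Groth.Agent.S16234.result B (EGA4.FibMod A B N)).2 hN ⟨p, inferInstance⟩
    (Module.mem_support_iff_of_finite.2 (Submodule.annihilator_top.symm.trans_le (IsAssociatedPrime.annihilator_le hp)))
  refine nonpos_iff_eq_zero.1 ((Groth.Agent.LC.depth_le_coheight_of_ass (p := ⟨p, inferInstance⟩) _ hp).trans
    (le_of_eq ?_))
  rw [Order.coheight_eq_zero]
  exact fun q hq => (hmax.eq_of_le q.isPrime.ne_top hq).ge

end Groth.Agent.S4694
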