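import Groth.Statements.S4699
import Groth.Agent.Ega41H93.GenericDepth

set_option autoImplicit false
universe u
open EGA4

namespace Groth.Agent.S4699

/-- Let A be a Noetherian ring, M a finite A-module and I an ideal of A whose radical p is a prime ideal
lying in the support of M (so V(I) is an irreducible closed subset whose generic point is in Supp
M). Then there is an element f outside p such that, for every prime q containing I with f outside q,
the dimension of M_q is the dimension of M_p plus the dimension of (A/I)_q, and the depth of M_q is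
the depth of M_p plus the depth of (A/I)_q (the module (A/I)_q = A_q / I A_q being regarded over
A_q). -/
theorem result (A : Type u) [CommRing A] [IsNoetherianRing A]
    (M : Type u) [AddCommGroup M] [Module A M] [Module.Finite A M] (I : Ideal A) [I.radical.IsPrime]
    (hp : (⟨I.radical, inferInstance⟩ : PrimeSpectrum A) ∈ Module.support A M) :
    ∃ f : A, f ∉ I.radical ∧ ∀ (q : Ideal A) [q.IsPrime], I ≤ q → f ∉ q →
      Module.supportDim (Localization.AtPrime q) (LocalizedModule q.primeCompl M) =
          Module.supportDim (Localization.AtPrime I.radical) (LocalizedModule I.radical.primeCompl M) +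
            Module.supportDim (Localization.AtPrime q)
              (Localization.AtPrime q ⧸ I.map (algebraMap A (Localization.AtPrime q))) ∧
        LocCoh.depth (Localization.AtPrime q) (LocalizedModule q.primeCompl M) =
          LocCoh.depth (Localization.AtPrime I.radical) (LocalizedModule I.radical.primeCompl M) +
            LocCoh.depth (Localization.AtPrime q)
              (Localization.AtPrime q ⧸ I.map (algebraMap A (Localization.AtPrime q))) := by
  have hIsupp : (⟨I.radical, inferInstance⟩ : PrimeSpectrum A) ∈ Module.support A (A ⧸ I) := by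
    rw [Module.mem_support_iff_of_finite, Ideal.annihilator_quotient]
    exact Ideal.le_radical
  obtain ⟨f, hf, h⟩ := (Ega41H93.near_dim_depth (M := M) hp).and
    (Ega41H93.near_dim_depth (M := A ⧸ I) hIsupp)
  refine ⟨f, hf, fun q _ hIq hfq => ?_⟩
  obtain ⟨⟨hMd, hMe⟩, hId, hIe⟩ := h ⟨q, inferInstance⟩ ((Ideal.IsPrime.radical_le_iff inferInstance).2 hIq) hfq
  obtain ⟨e1, e2⟩ := Ega41H93.depAt_dimAt_quotient I q
  rw [e1, e2]
  have hmin : I.radical ∈ (Module.annihilator A (A ⧸ I)).minimalPrimes := by
    rw [Ideal.annihilator_quotient]
    exact ⟨⟨inferInstance, Ideal.le_radical⟩, fun P hP _ => (Ideal.IsPrime.radical_le_iff hP.1).2 hP.2⟩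
  have hI0 : Ega41H93.dimAt (A ⧸ I) I.radical = 0 := LC.supportDim_localized_minimalPrimes _ hmin
  have hI0e : Ega41H93.depAt (A ⧸ I) I.radical = 0 := by
    haveI := Module.mem_support_iff.1 hIsupp
    haveI := Ega41H93.finite_loc (M := A ⧸ I) I.radical
    have h := LC.depth_le_supportDim (R := Localization.AtPrime I.radical)
      (LocalizedModule I.radical.primeCompl (A ⧸ I))
    change ((Ega41H93.depAt (A ⧸ I) I.radical : ℕ∞) : WithBot ℕ∞) ≤ Ega41H93.dimAt (A ⧸ I) I.radical at h
    rw [hI0] at h
    exact nonpos_iff_eq_zero.1 (by exact_mod_cast h)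
  rw [hI0, zero_add] at hId
  rw [hI0e, zero_add] at hIe
  exact ⟨hMd.trans (congrArg (_ + ·) hId.symm), hMe.trans (congrArg (_ + ·) hIe.symm)⟩

end Groth.Agent.S4699
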