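import Groth.Statements.S4712
import Groth.Agent.S2160
import Groth.Agent.VarDim.Top

set_option autoImplicit false
universe u
open EGA4

namespace Groth.Agent.S4712

open AlgebraicGeometry in
/-- Let X be a locally Noetherian scheme and x a point such that {x} is locally closed in X. Then the
closure of {x} has dimension at most 1, and every point of that closure other than x is a closed
point of X. -/
theorem result (X : Scheme.{u}) [IsLocallyNoetherian X] (x : X)
    (hx : IsLocallyClosed ({x} : Set X)) :
    topologicalKrullDim (closure ({x} : Set X)) ≤ 1 ∧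
      ∀ y ∈ closure ({x} : Set X), y ≠ x → IsClosed ({y} : Set X) := by
  have key : ∀ y ∈ closure ({x} : Set X), y ≠ x → ∀ z, y ⤳ z → z = y := by
    intro y hy hyx z hyz
    by_contra hzy
    have hxy : x ⤳ y := specializes_iff_mem_closure.2 hy
    let R := X.presheaf.stalk z
    let j : PrimeSpectrum R → X := fun a => X.fromSpecStalk z a
    have hj : Topology.IsEmbedding j := (X.fromSpecStalk z).isEmbedding
    obtain ⟨P, hP⟩ : x ∈ Set.range j := by
      show x ∈ Set.range (X.fromSpecStalk z).base
      rw [Scheme.range_fromSpecStalk]; exact hxy.trans hyz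
    obtain ⟨Q, hQ⟩ : y ∈ Set.range j := by
      show y ∈ Set.range (X.fromSpecStalk z).base
      rw [Scheme.range_fromSpecStalk]; exact hyz
    have hm : j (IsLocalRing.closedPoint R) = z := Scheme.fromSpecStalk_closedPoint
    have hPQ : P < Q := lt_of_le_of_ne
      ((PrimeSpectrum.le_iff_specializes P Q).2 (hj.specializes_iff.1 (by rw [hP, hQ]; exact hxy)))
      fun h => hyx (by rw [← hQ, ← h, hP])
    have hQm : Q < IsLocalRing.closedPoint R := lt_of_le_of_ne (IsLocalRing.le_maximalIdeal Q.2.ne_top)
      fun h => hzy (by rw [← hm, ← h, hQ])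
    let π := Ideal.Quotient.mk P.asIdeal
    have hπs : Function.Surjective π := Ideal.Quotient.mk_surjective
    let c := PrimeSpectrum.comap π
    have hc : Topology.IsClosedEmbedding c := PrimeSpectrum.isClosedEmbedding_comap_of_surjective _ π hπs
    have hcr : Set.range c = PrimeSpectrum.zeroLocus (P.asIdeal : Set R) := by
      rw [range_comap_of_surjective _ π hπs, Ideal.mk_ker]
    obtain ⟨Q', hQ'⟩ : Q ∈ Set.range c := by rw [hcr]; exact hPQ.le
    obtain ⟨M', hM'⟩ : IsLocalRing.closedPoint R ∈ Set.range c := by rw [hcr]; exact (hPQ.trans hQm).le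
    haveI : IsLocalRing (R ⧸ P.asIdeal) := IsLocalRing.of_surjective' π hπs
    have hcmono : ∀ a b, c a < c b → a < b := fun a b h =>
      lt_of_le_of_ne ((PrimeSpectrum.le_iff_specializes a b).2
        (hc.isEmbedding.specializes_iff.1 ((PrimeSpectrum.le_iff_specializes _ _).1 h.le)))
        fun e => h.ne (congrArg c e)
    have hbot : c ⊥ = P := PrimeSpectrum.ext (by
      show Ideal.comap π ⊥ = _
      rw [← RingHom.ker_eq_comap_bot, Ideal.mk_ker])
    have h1 : (⊥ : PrimeSpectrum (R ⧸ P.asIdeal)) < Q' := hcmono _ _ (by rw [hbot, hQ']; exact hPQ)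
    have h2 : Q' < M' := hcmono _ _ (by rw [hQ', hM']; exact hQm)
    have hdim : 2 ≤ ringKrullDim (R ⧸ P.asIdeal) := by
      let l0 : LTSeries (PrimeSpectrum (R ⧸ P.asIdeal)) := RelSeries.singleton _ ⊥
      let l1 := l0.snoc Q' h1
      have hl : l1.last = Q' := RelSeries.last_snoc _ _ _
      exact Order.LTSeries.length_le_krullDim (l1.snoc M' (hl ▸ h2))
    have hloc : IsLocallyClosed ({(⊥ : PrimeSpectrum (R ⧸ P.asIdeal))} : Set _) := by
      have e : j ∘ c ⁻¹' {x} = {(⊥ : PrimeSpectrum (R ⧸ P.asIdeal))} := by
        ext a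
        constructor
        · intro h
          refine hc.injective (hj.injective ?_)
          rw [hbot, hP]
          exact h
        · rintro rfl
          show j (c ⊥) = x
          rw [hbot, hP]
      rw [← e]
      exact hx.preimage (hj.comp hc.isEmbedding).continuous
    obtain ⟨U, Z, hU, hZ, hUZ⟩ := hloc
    have hZ' : Z = Set.univ := Set.eq_univ_of_forall fun a => by
      refine Specializes.mem_closed ?_ hZ ((Set.ext_iff.1 hUZ ⊥).1 rfl).2
      exact (PrimeSpectrum.le_iff_specializes _ _).1 bot_le
    rw [hZ', Set.inter_univ] at hUZ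
    exact Groth.Agent.S2160.result hdim U hU ⟨⊥, hUZ ▸ rfl⟩ (hUZ ▸ Set.finite_singleton _)
  refine ⟨?_, fun y hy hyx => ?_⟩
  · rw [Groth.Agent.VarDim.topologicalKrullDim_isClosed isClosed_closure]
    refine iSup_le fun y => ?_
    letI := specializationPreorder X
    have : Order.height (y : X) ≤ 1 := by
      refine Order.height_le fun l hl => ?_
      by_contra hlen
      rw [not_le, Nat.one_lt_cast] at hlen
      have ha := l.strictMono (show (⟨0, by omega⟩ : Fin (l.length + 1)) < ⟨1, by omega⟩ from by simp [Fin.lt_def])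
      have hb := l.strictMono (show (⟨1, by omega⟩ : Fin (l.length + 1)) < ⟨2, by omega⟩ from by simp [Fin.lt_def])
      have hbx : x ⤳ l ⟨2, by omega⟩ := by
        have h := l.monotone (Fin.le_last (⟨2, by omega⟩ : Fin (l.length + 1)))
        rw [show l (Fin.last _) = l.last from rfl, hl] at h
        exact (specializes_iff_mem_closure.2 y.2).trans h
      rw [lt_iff_le_not_ge] at ha hb
      have hmid : x ⤳ l ⟨1, by omega⟩ := hbx.trans hb.1
      by_cases h : l ⟨1, by omega⟩ = x
      · exact hb.2 (h ▸ hbx : l ⟨1, by omega⟩ ⤳ l ⟨2, by omega⟩)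
      · exact ha.2 (key _ (specializes_iff_mem_closure.1 hmid) h _ ha.1 ▸ le_rfl)
    exact_mod_cast this
  · rw [← closure_subset_iff_isClosed]
    exact fun z hz => key y hy hyx z (specializes_iff_mem_closure.2 hz)

end Groth.Agent.S4712
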