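import Groth.Statements.S4718
import Groth.Agent.Ega41H93.DimDepthRes

set_option autoImplicit false
universe u
open EGA4

namespace Groth.Agent.S4718

/-- Let A be a Noetherian local ring, B a Noetherian ring, A → B a ring homomorphism and M a nonzero
B-module which is finite as an A-module. Then M is a Cohen–Macaulay A-module if and only if, for all
primes q of B lying over the maximal ideal of A and belonging to the support of M, the B_q-module
M_q is Cohen–Macaulay and all these modules M_q have the same dimension. -/
theorem result (A B : Type u) [CommRing A] [CommRing B]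
    [IsNoetherianRing A] [IsLocalRing A] [IsNoetherianRing B] [Algebra A B]
    (M : Type u) [AddCommGroup M] [Module B M] [Module A M] [IsScalarTower A B M] [Module.Finite A M]
    [Nontrivial M] :
    LocCoh.IsCohenMacaulayModule A M ↔
      (∀ q ∈ {q : PrimeSpectrum B | q.asIdeal.comap (algebraMap A B) = IsLocalRing.maximalIdeal A ∧
          q ∈ Module.support B M},
        LocCoh.IsCohenMacaulayModule (Localization.AtPrime q.asIdeal) (LocalizedModule q.asIdeal.primeCompl M)) ∧
      (∀ q ∈ {q : PrimeSpectrum B | q.asIdeal.comap (algebraMap A B) = IsLocalRing.maximalIdeal A ∧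
          q ∈ Module.support B M},
        ∀ q' ∈ {q : PrimeSpectrum B | q.asIdeal.comap (algebraMap A B) = IsLocalRing.maximalIdeal A ∧
          q ∈ Module.support B M},
          Module.supportDim (Localization.AtPrime q.asIdeal) (LocalizedModule q.asIdeal.primeCompl M) =
            Module.supportDim (Localization.AtPrime q'.asIdeal) (LocalizedModule q'.asIdeal.primeCompl M)) := by
  classical
  have hdim := Ega41H93.supportDim_eq_iSup (A := A) (B := B) (M := M)
  have hdep := Ega41H93.depth_eq_iInf (A := A) (B := B) (M := M)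
  haveI : Module.Finite B M := Module.Finite.of_restrictScalars_finite A B M
  obtain ⟨q₀, hq₀⟩ : (Ega41H93.overSupp A B M (IsLocalRing.maximalIdeal A)).Nonempty := by
    obtain ⟨P, hP⟩ := Module.nonempty_support_of_nontrivial (R := B) (M := M)
    obtain ⟨Q, hQ, hle⟩ := Ideal.exists_le_maximal P.asIdeal P.isPrime.ne_top
    exact ⟨⟨Q, hQ.isPrime⟩,
      Ega41H93.mem_overSupp_of_isMaximal (Module.mem_support_mono (show P ≤ ⟨Q, hQ.isPrime⟩ from hle) hP) hQ⟩
  let d := fun q : PrimeSpectrum B =>
    Module.supportDim (Localization.AtPrime q.asIdeal) (LocalizedModule q.asIdeal.primeCompl M)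
  let e := fun q : PrimeSpectrum B =>
    ((LocCoh.depth (Localization.AtPrime q.asIdeal) (LocalizedModule q.asIdeal.primeCompl M) : ℕ∞) : WithBot ℕ∞)
  have hle : ∀ q ∈ Ega41H93.overSupp A B M (IsLocalRing.maximalIdeal A), e q ≤ d q := by
    intro q hq
    haveI : Nontrivial (LocalizedModule q.asIdeal.primeCompl M) := Module.mem_support_iff.1 hq.2
    exact Groth.Agent.LC.depth_le_supportDim (R := Localization.AtPrime q.asIdeal) _
  constructor
  · intro hCM
    unfold LocCoh.IsCohenMacaulayModule at hCM
    have h1 : ∀ q ∈ Ega41H93.overSupp A B M (IsLocalRing.maximalIdeal A),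
        d q ≤ Module.supportDim A M ∧ Module.supportDim A M ≤ e q := by
      intro q hq
      refine ⟨hdim ▸ le_iSup₂_of_le q hq le_rfl, ?_⟩
      rw [hCM, hdep]
      exact WithBot.coe_le_coe.2 (iInf₂_le q hq)
    refine ⟨fun q hq => le_antisymm ((h1 q hq).1.trans (h1 q hq).2) (hle q hq), fun q hq q' hq' => ?_⟩
    exact le_antisymm ((h1 q hq).1.trans ((h1 q' hq').2.trans (hle q' hq')))
      ((h1 q' hq').1.trans ((h1 q hq).2.trans (hle q hq)))
  · rintro ⟨hCM, heq⟩
    unfold LocCoh.IsCohenMacaulayModule
    have hA : Module.supportDim A M = d q₀ := by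
      rw [hdim]
      exact le_antisymm (iSup₂_le fun q hq => (heq q hq q₀ hq₀).le) (le_iSup₂_of_le q₀ hq₀ le_rfl)
    have hdq : LocCoh.depth A M =
        LocCoh.depth (Localization.AtPrime q₀.asIdeal) (LocalizedModule q₀.asIdeal.primeCompl M) := by
      rw [hdep]
      refine le_antisymm (iInf₂_le q₀ hq₀) (le_iInf₂ fun q hq => ?_)
      have h := heq q₀ hq₀ q hq
      rw [hCM q₀ hq₀, hCM q hq] at h
      exact (WithBot.coe_injective h).le
    rw [hA, hdq]
    exact hCM q₀ hq₀

end Groth.Agent.S4718
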