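import Groth.Statements.S4719
import Groth.Agent.Ega41H93.DimDepthRes

set_option autoImplicit false
universe u
open EGA4

namespace Groth.Agent.S4719

/-- Let A → B be a homomorphism of Noetherian rings and M a B-module which is finite as an A-module. (i)
If M satisfies (S_k) as an A-module, it satisfies (S_k) as a B-module. (ii) If for every two primes
q, q' of B in the support of M having the same contraction to A the modules M_q and M_{q'} have the
same dimension, then (S_k) for M as a B-module implies (S_k) for M as an A-module. (The published
statement asks the equal-dimension condition for all pairs of primes of B with the same contraction;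
this row asks it only for primes in the support of M, which is all its proof uses.) -/
theorem result (k : ℕ) (A B : Type u) [CommRing A] [CommRing B] [IsNoetherianRing A]
    [IsNoetherianRing B] [Algebra A B] (M : Type u) [AddCommGroup M] [Module B M] [Module A M]
    [IsScalarTower A B M] [Module.Finite A M] :
    (LocCoh.HasSk k A M → LocCoh.HasSk k B M) ∧
      ((∀ q ∈ Module.support B M, ∀ q' ∈ Module.support B M,
          q.asIdeal.comap (algebraMap A B) = q'.asIdeal.comap (algebraMap A B) →
            Module.supportDim (Localization.AtPrime q.asIdeal) (LocalizedModule q.asIdeal.primeCompl M) =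
              Module.supportDim (Localization.AtPrime q'.asIdeal) (LocalizedModule q'.asIdeal.primeCompl M)) →
        LocCoh.HasSk k B M → LocCoh.HasSk k A M) := by
  classical
  have key := fun (p : Ideal A) [p.IsPrime] => Ega41H93.supportDim_depth_at (B := B) (M := M) p
  constructor
  · intro h q _
    by_cases hq : (⟨q, inferInstance⟩ : PrimeSpectrum B) ∈ Module.support B M
    · exact (min_le_min le_rfl (Ega41H93.supportDim_le_at (A := A) (B := B) (M := M) (p := q.comap (algebraMap A B))
        (q := ⟨q, inferInstance⟩) ⟨rfl, hq⟩)).trans ((h (q.comap (algebraMap A B))).trans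
        (WithBot.coe_le_coe.2 (Ega41H93.depth_at_le (A := A) (B := B) (M := M) (p := q.comap (algebraMap A B))
        (q := ⟨q, inferInstance⟩) ⟨rfl, hq⟩)))
    · haveI : Subsingleton (LocalizedModule q.primeCompl M) := Ega41H93.subsingleton_loc_of_not_mem_support hq
      rw [Module.supportDim_eq_bot_of_subsingleton]
      exact (min_le_right _ _).trans bot_le
  · intro heq h p _
    obtain ⟨hdim, hdep⟩ := key p
    rcases Set.eq_empty_or_nonempty (Ega41H93.overSupp A B M p) with he | ⟨q₀, hq₀⟩
    · rw [hdim, he]
      exact (min_le_right _ _).trans (by simp)
    · rw [hdim, hdep]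
      have hall : ∀ q ∈ Ega41H93.overSupp A B M p, min (k : WithBot ℕ∞) (⨆ q ∈ Ega41H93.overSupp A B M p,
          Module.supportDim (Localization.AtPrime q.asIdeal) (LocalizedModule q.asIdeal.primeCompl M)) ≤
          ((LocCoh.depth (Localization.AtPrime q.asIdeal) (LocalizedModule q.asIdeal.primeCompl M) : ℕ∞) :
            WithBot ℕ∞) := fun q hq =>
        (min_le_min le_rfl (iSup₂_le fun q' hq' => (heq q' hq'.2 q hq.2 (hq'.1.trans hq.1.symm)).le)).trans
          (h q.asIdeal)
      generalize min (k : WithBot ℕ∞) _ = a at hall ⊢
      induction a using WithBot.recBotCoe with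
      | bot => exact bot_le
      | coe a => exact WithBot.coe_le_coe.2 (le_iInf₂ fun q hq => WithBot.coe_le_coe.1 (hall q hq))

end Groth.Agent.S4719
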