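import Groth.Statements.S4721
import Groth.Agent.LC.PuncturedConn

set_option autoImplicit false
universe u
open EGA4

namespace Groth.Agent.S4721

/-- Let A be a Noetherian ring whose spectrum is connected and d a natural number such that for every
prime p of height at least d the local ring A_p has depth at least 2. Then for any two distinct
minimal primes p', p'' of A there is a finite chain of minimal primes starting at p' and ending at
p'' such that any two consecutive members are both contained in a prime ideal of height at most d −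
1 (the spectrum is connected in codimension at most d − 1). -/
theorem result (A : Type u) [CommRing A] [IsNoetherianRing A]
    [ConnectedSpace (PrimeSpectrum A)] (d : ℕ)
    (h : ∀ (p : Ideal A) [p.IsPrime], (d : ℕ∞) ≤ p.height →
      (2 : ℕ∞) ≤ LocCoh.depth (Localization.AtPrime p) (Localization.AtPrime p))
    (p' p'' : Ideal A) (hp' : p' ∈ minimalPrimes A) (hp'' : p'' ∈ minimalPrimes A) (hne : p' ≠ p'') :
    ∃ (n : ℕ) (c : Fin (n + 1) → Ideal A), c 0 = p' ∧ c (Fin.last n) = p'' ∧ (∀ i, c i ∈ minimalPrimes A) ∧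
      ∀ i : Fin n, ∃ (q : Ideal A) (_ : q.IsPrime),
        c i.castSucc ≤ q ∧ c i.succ ≤ q ∧ q.height + 1 ≤ (d : ℕ∞) := by
  classical
  let R : Ideal A → Ideal A → Prop := fun a b => b ∈ minimalPrimes A ∧
    ∃ (q : Ideal A) (_ : q.IsPrime), a ≤ q ∧ b ≤ q ∧ q.height + 1 ≤ (d : ℕ∞)
  have conv : ∀ b, Relation.ReflTransGen R p' b → ∃ (n : ℕ) (c : Fin (n + 1) → Ideal A), c 0 = p' ∧
      c (Fin.last n) = b ∧ (∀ i, c i ∈ minimalPrimes A) ∧
      ∀ i : Fin n, ∃ (q : Ideal A) (_ : q.IsPrime),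
        c i.castSucc ≤ q ∧ c i.succ ≤ q ∧ q.height + 1 ≤ (d : ℕ∞) := by
    intro b hb
    induction hb with
    | refl => exact ⟨0, fun _ => p', rfl, rfl, fun _ => hp', fun i => i.elim0⟩
    | @tail b b' _ hbb' ih =>
      obtain ⟨n, c, h0, hl, hmem, hlink⟩ := ih
      refine ⟨n + 1, Fin.snoc c b', ?_, Fin.snoc_last _ _, fun i => ?_, fun i => ?_⟩
      · rw [← Fin.castSucc_zero, Fin.snoc_castSucc, h0]
      · induction i using Fin.lastCases with
        | last => rw [Fin.snoc_last]; exact hbb'.1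
        | cast i => rw [Fin.snoc_castSucc]; exact hmem i
      · induction i using Fin.lastCases with
        | last => rw [Fin.succ_last, Fin.snoc_last, Fin.snoc_castSucc, hl]; exact hbb'.2
        | cast i => rw [Fin.succ_castSucc, Fin.snoc_castSucc, Fin.snoc_castSucc]; exact hlink i
  apply conv
  by_contra hcon
  let M := minimalPrimes A
  have hMfin : M.Finite := minimalPrimes.finite_of_isNoetherianRing A
  let U1 : Set (PrimeSpectrum A) :=
    ⋃ p ∈ {p ∈ M | Relation.ReflTransGen R p' p}, PrimeSpectrum.zeroLocus (p : Set A)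
  let U2 : Set (PrimeSpectrum A) :=
    ⋃ p ∈ {p ∈ M | ¬ Relation.ReflTransGen R p' p}, PrimeSpectrum.zeroLocus (p : Set A)
  have h1c : IsClosed U1 := (hMfin.subset (fun _ hp => hp.1)).isClosed_biUnion
    fun p _ => PrimeSpectrum.isClosed_zeroLocus _
  have h2c : IsClosed U2 := (hMfin.subset (fun _ hp => hp.1)).isClosed_biUnion
    fun p _ => PrimeSpectrum.isClosed_zeroLocus _
  have hcov : ∀ x, x ∈ U1 ∪ U2 := fun x => by
    obtain ⟨p, hp, hpx⟩ := Ideal.exists_minimalPrimes_le (show (⊥ : Ideal A) ≤ x.asIdeal from bot_le)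
    by_cases hr : Relation.ReflTransGen R p' p
    · exact Or.inl (Set.mem_biUnion (show p ∈ {p ∈ M | _} from ⟨hp, hr⟩) hpx)
    · exact Or.inr (Set.mem_biUnion (show p ∈ {p ∈ M | _} from ⟨hp, hr⟩) hpx)
  have hx1 : (⟨p', hp'.1.1⟩ : PrimeSpectrum A) ∈ U1 :=
    Set.mem_biUnion (show p' ∈ {p ∈ M | _} from ⟨hp', .refl⟩) (le_refl p')
  have hx2 : (⟨p'', hp''.1.1⟩ : PrimeSpectrum A) ∈ U2 :=
    Set.mem_biUnion (show p'' ∈ {p ∈ M | _} from ⟨hp'', hcon⟩) (le_refl p'')
  obtain ⟨x, -, hx⟩ := isPreconnected_closed_iff.1 isPreconnected_univ U1 U2 h1c h2c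
    (fun y _ => hcov y) ⟨_, trivial, hx1⟩ ⟨_, trivial, hx2⟩
  obtain ⟨J, hJ⟩ := (PrimeSpectrum.isClosed_iff_zeroLocus_ideal _).1 (h1c.inter h2c)
  have hJx : J ≤ x.asIdeal := by rw [hJ] at hx; exact hx
  obtain ⟨q, hq, -⟩ := Ideal.exists_minimalPrimes_le hJx
  haveI := hq.1.1
  have hqU : (⟨q, hq.1.1⟩ : PrimeSpectrum A) ∈ U1 ∩ U2 := by rw [hJ]; exact hq.1.2
  have hqmin : ∀ y ∈ U1 ∩ U2, y.asIdeal ≤ q → y.asIdeal = q := fun y hy hle => by
    rw [hJ] at hy
    exact le_antisymm hle (hq.2 ⟨y.isPrime, hy⟩ hle)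
  simp only [U1, U2, Set.mem_inter_iff, Set.mem_iUnion₂] at hqU
  obtain ⟨⟨p1, ⟨hp1, hr1⟩, hle1⟩, ⟨p2, ⟨hp2, hr2⟩, hle2⟩⟩ := hqU
  haveI := hp1.1.1
  haveI := hp2.1.1
  have hne12 : p1 ≠ p2 := fun e => hr2 (e ▸ hr1)
  have hht : (d : ℕ∞) ≤ q.height := by
    by_contra hlt
    rw [not_le] at hlt
    exact hr2 (hr1.tail ⟨hp2, q, hq.1.1, hle1, hle2, Order.add_one_le_of_lt hlt⟩)
  have hP := Groth.Agent.LC.isConnected_punctured (h q hht)
  let F := PrimeSpectrum.comap (algebraMap A (Localization.AtPrime q))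
  have hF : Continuous F := PrimeSpectrum.continuous_comap _
  have hFinj : Function.Injective F :=
    PrimeSpectrum.localization_comap_injective (Localization.AtPrime q) q.primeCompl
  have hFm : F ⟨IsLocalRing.maximalIdeal (Localization.AtPrime q), inferInstance⟩ = ⟨q, hq.1.1⟩ :=
    PrimeSpectrum.ext (Localization.AtPrime.comap_maximalIdeal)
  have lift : ∀ p : Ideal A, ∀ _ : p.IsPrime, p ≤ q → p ≠ q → ∀ U : Set (PrimeSpectrum A),
      (⟨p, ‹_›⟩ : PrimeSpectrum A) ∈ U →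
      ({z : PrimeSpectrum (Localization.AtPrime q) |
        z.asIdeal ≠ IsLocalRing.maximalIdeal (Localization.AtPrime q)} ∩ F ⁻¹' U).Nonempty := by
    intro p hp hle hne U hU
    obtain ⟨z, hz⟩ : (⟨p, hp⟩ : PrimeSpectrum A) ∈ Set.range F := by
      rw [PrimeSpectrum.localization_comap_range (Localization.AtPrime q) q.primeCompl]
      exact Set.disjoint_left.2 fun a ha ha' => ha (hle ha')
    refine ⟨z, fun hz' => hne ?_, by rw [Set.mem_preimage, hz]; exact hU⟩
    have : z = ⟨IsLocalRing.maximalIdeal (Localization.AtPrime q), inferInstance⟩ :=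
      PrimeSpectrum.ext hz'
    rw [this, hFm] at hz
    exact (congrArg PrimeSpectrum.asIdeal hz).symm
  have hn1 : p1 ≠ q := fun e => hne12 (le_antisymm (hp1.2 ⟨hp2.1.1, bot_le⟩ (e ▸ hle2)) (e ▸ hle2))
  have hn2 : p2 ≠ q := fun e => hne12 (le_antisymm (e ▸ hle1) (hp2.2 ⟨hp1.1.1, bot_le⟩ (e ▸ hle1)))
  obtain ⟨z, hz, hz12⟩ := isPreconnected_closed_iff.1 hP.isPreconnected _ _ (h1c.preimage hF)
    (h2c.preimage hF) (fun z _ => hcov (F z))
    (lift p1 hp1.1.1 hle1 hn1 U1 (Set.mem_biUnion (show p1 ∈ {p ∈ M | _} from ⟨hp1, hr1⟩) (le_refl p1)))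
    (lift p2 hp2.1.1 hle2 hn2 U2 (Set.mem_biUnion (show p2 ∈ {p ∈ M | _} from ⟨hp2, hr2⟩) (le_refl p2)))
  refine hz ?_
  have hle : (F z).asIdeal ≤ q := by
    conv_rhs => rw [← Localization.AtPrime.comap_maximalIdeal (I := q)]
    exact Ideal.comap_mono (IsLocalRing.le_maximalIdeal z.isPrime.ne_top)
  have hzq : F z = F ⟨IsLocalRing.maximalIdeal (Localization.AtPrime q), inferInstance⟩ :=
    (PrimeSpectrum.ext (hqmin (F z) hz12 hle)).trans hFm.symm
  exact congrArg PrimeSpectrum.asIdeal (hFinj hzq)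

end Groth.Agent.S4721
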