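import Groth.Statements.S4726

set_option autoImplicit false
universe u
open EGA4

namespace Groth.Agent.S4726

open TensorProduct in
theorem descend {R A : Type u} [CommRing R] [CommRing A] [Algebra R A] (n : ℕ) (K : Submodule A (Fin n → A))
    {m : ℕ} (v : Fin m → Fin n → A) (hv : Submodule.span A (Set.range v) = K) (w : Fin m → Fin n → R)
    (hw : ∀ l j, algebraMap R A (w l j) = v l j) :
    Nonempty (((Fin n → A) ⧸ K) ≃ₗ[A] A ⊗[R] ((Fin n → R) ⧸ Submodule.span R (Set.range w))) := by
  classical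
  let Ki : Submodule R (Fin n → R) := Submodule.span R (Set.range w)
  let ι' : (Fin n → R) →ₗ[R] (Fin n → A) := LinearMap.pi fun j => (Algebra.linearMap R A).comp (LinearMap.proj j)
  have hι' : ∀ x j, ι' x j = algebraMap R A (x j) := fun x j => rfl
  let q : (Fin n → R) →ₗ[R] ((Fin n → A) ⧸ K) := (K.mkQ.restrictScalars R).comp ι'
  have hq : Ki ≤ LinearMap.ker q := by
    rw [Submodule.span_le]
    rintro _ ⟨l, rfl⟩
    refine (Submodule.Quotient.mk_eq_zero K).2 ?_
    rw [show ι' (w l) = v l from funext fun j => (hι' _ j).trans (hw l j), ← hv]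
    exact Submodule.subset_span ⟨l, rfl⟩
  let ψ : A ⊗[R] ((Fin n → R) ⧸ Ki) →ₗ[A] ((Fin n → A) ⧸ K) := LinearMap.liftBaseChange A (Ki.liftQ q hq)
  have hψ : ∀ (a : A) (x : Fin n → R), ψ (a ⊗ₜ Ki.mkQ x) = a • K.mkQ (ι' x) := fun a x => by
    simp only [ψ, LinearMap.liftBaseChange_tmul]
    rfl
  let φ : (Fin n → A) →ₗ[A] A ⊗[R] ((Fin n → R) ⧸ Ki) :=
    Fintype.linearCombination A fun j => (1 : A) ⊗ₜ[R] Ki.mkQ (Pi.single j 1)
  have hsum : ∀ x : Fin n → R, φ (ι' x) = (1 : A) ⊗ₜ[R] Ki.mkQ x := by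
    intro x
    conv_rhs => rw [pi_eq_sum_univ' x, map_sum, TensorProduct.tmul_sum]
    rw [Fintype.linearCombination_apply]
    refine Finset.sum_congr rfl fun j _ => ?_
    rw [map_smul, TensorProduct.tmul_smul, hι']
    exact algebraMap_smul A (x j) _
  have hφ : K ≤ LinearMap.ker φ := by
    rw [← hv, Submodule.span_le]
    rintro _ ⟨l, rfl⟩
    rw [SetLike.mem_coe, LinearMap.mem_ker, show v l = ι' (w l) from funext fun j => ((hι' _ j).trans (hw l j)).symm,
      hsum, show Ki.mkQ (w l) = 0 from (Submodule.Quotient.mk_eq_zero Ki).2 (Submodule.subset_span ⟨_, rfl⟩),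
      TensorProduct.tmul_zero]
  refine ⟨LinearEquiv.ofLinear (K.liftQ φ hφ) ψ ?_ ?_⟩
  · refine TensorProduct.AlgebraTensorModule.ext fun a z => ?_
    obtain ⟨x, rfl⟩ := Ki.mkQ_surjective z
    show K.liftQ φ hφ (ψ (a ⊗ₜ Ki.mkQ x)) = _
    rw [hψ, map_smul]
    show a • φ (ι' x) = _
    rw [hsum, TensorProduct.smul_tmul', smul_eq_mul, mul_one]
    rfl
  · refine Submodule.linearMap_qext K (LinearMap.pi_ext' fun j => LinearMap.ext_ring ?_)
    show ψ (φ (Pi.single j 1)) = K.mkQ (Pi.single j 1)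
    rw [show φ (Pi.single j 1) = (1 : A) • ((1 : A) ⊗ₜ[R] Ki.mkQ (Pi.single j 1)) from
      Fintype.linearCombination_apply_single A _ j 1, one_smul, hψ, one_smul]
    refine congrArg K.mkQ (funext fun l => ?_)
    rw [hι']
    rcases eq_or_ne l j with rfl | hl
    · simp
    · simp [hl]

open TensorProduct in
/-- Let (A_i) be a directed system of commutative rings with direct limit A and M a finitely presented
A-module. Then there exist an index i and a finitely presented A_i-module M_i such that M is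
isomorphic, as an A-module, to A ⊗_{A_i} M_i (A being an A_i-algebra through the canonical map). -/
theorem result (ι : Type u) [Preorder ι] [Nonempty ι] [IsDirectedOrder ι]
    (G : ι → Type u) [∀ i, CommRing (G i)] (f : ∀ i j, i ≤ j → G i →+* G j)
    [DirectedSystem G (fun i j h ↦ f i j h)] (M : Type u) [AddCommGroup M]
    [Module (Ring.DirectLimit G (fun i j h ↦ f i j h)) M]
    [Module.FinitePresentation (Ring.DirectLimit G (fun i j h ↦ f i j h)) M] :
    ∃ (i : ι) (Mi : Type u) (_ : AddCommGroup Mi) (_ : Module (G i) Mi), Module.FinitePresentation (G i) Mi ∧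
      letI : Algebra (G i) (Ring.DirectLimit G (fun i j h ↦ f i j h)) :=
        (Ring.DirectLimit.of G (fun i j h ↦ f i j h) i).toAlgebra
      Nonempty (M ≃ₗ[Ring.DirectLimit G (fun i j h ↦ f i j h)] (Ring.DirectLimit G (fun i j h ↦ f i j h)) ⊗[G i] Mi) := by
  classical
  let A := Ring.DirectLimit G (fun i j h ↦ f i j h)
  let of := Ring.DirectLimit.of G (fun i j h ↦ f i j h)
  obtain ⟨n, K, e, hK⟩ := Module.FinitePresentation.exists_fin A M
  obtain ⟨s, hs⟩ := hK
  have hlift : ∀ t : Finset A, ∃ i, ∀ a ∈ t, ∃ x : G i, of i x = a := by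
    intro t
    induction t using Finset.induction with
    | empty => exact ⟨Classical.arbitrary ι, by simp⟩
    | insert a t _ ih =>
      obtain ⟨i, hi⟩ := ih
      obtain ⟨i', x, hx⟩ := Ring.DirectLimit.exists_of a
      obtain ⟨k, hik, hi'k⟩ := exists_ge_ge i i'
      refine ⟨k, fun b hb => ?_⟩
      rcases Finset.mem_insert.1 hb with rfl | hb
      · exact ⟨f i' k hi'k x, by rw [Ring.DirectLimit.of_f]; exact hx⟩
      · obtain ⟨y, hy⟩ := hi b hb
        exact ⟨f i k hik y, by rw [Ring.DirectLimit.of_f]; exact hy⟩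
  obtain ⟨i, hi⟩ := hlift (s.biUnion fun v => Finset.univ.image v)
  have hi' : ∀ (l : Fin s.card) j, ∃ x : G i, of i x = (s.equivFin.symm l).1 j := fun l j =>
    hi _ (Finset.mem_biUnion.2 ⟨_, (s.equivFin.symm l).2, Finset.mem_image_of_mem _ (Finset.mem_univ j)⟩)
  choose w hw using hi'
  let Ki : Submodule (G i) (Fin n → G i) := Submodule.span (G i) (Set.range w)
  refine ⟨i, (Fin n → G i) ⧸ Ki, inferInstance, inferInstance,
    Module.finitePresentation_of_surjective Ki.mkQ Ki.mkQ_surjective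
      (by rw [Submodule.ker_mkQ]; exact Submodule.fg_span (Set.finite_range w)), ?_⟩
  letI : Algebra (G i) A := (of i).toAlgebra
  have hspan : Submodule.span A (Set.range fun l => (s.equivFin.symm l).1) = K := by
    rw [← hs]
    refine congrArg _ (Set.ext fun x => ⟨?_, fun hx => ⟨s.equivFin ⟨x, hx⟩, by simp⟩⟩)
    rintro ⟨l, rfl⟩
    exact (s.equivFin.symm l).2
  obtain ⟨d⟩ := descend (R := G i) n K _ hspan w hw
  exact ⟨e.trans d⟩

end Groth.Agent.S4726
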