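import Groth.Statements.S4730
import Groth.Agent.DimFormula.Trdeg
import Mathlib.Algebra.MvPolynomial.Equiv

set_option autoImplicit false
universe u
open EGA4

namespace Groth.Agent.S4730

open Polynomial in
/-- Let A be a Noetherian ring, p a prime ideal of A and q a prime ideal of the polynomial ring A[T]
lying over p. Then ht(p) + 1 = ht(q) + deg.tr_{κ(p)} κ(q), the transcendence degree being that of
the domain A[T]/q over the domain A/p. -/
theorem result (A : Type u) [CommRing A] [IsNoetherianRing A]
    (p : Ideal A) [p.IsPrime] (q : Ideal A[X]) [q.IsPrime] [q.LiesOver p] :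
    (p.height : Cardinal.{u}) + 1 = (q.height : Cardinal.{u}) + Algebra.trdeg (A ⧸ p) (A[X] ⧸ q) := by
  let e := MvPolynomial.uniqueAlgEquiv A (Fin 1)
  let P : Ideal (MvPolynomial (Fin 1) A) := q.comap e.toAlgHom.toRingHom
  have hP : P.comap (algebraMap A (MvPolynomial (Fin 1) A)) = p := by
    rw [Ideal.comap_comap, AlgHom.toRingHom_eq_coe, AlgHom.comp_algebraMap]
    exact (Ideal.LiesOver.over (P := q) (p := p)).symm
  let φ : MvPolynomial (Fin 1) A →ₐ[A] Polynomial A ⧸ q := (Ideal.Quotient.mkₐ A q).comp e.toAlgHom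
  have h1 := Groth.Agent.DimFormula.height_add_fd_mvPolynomial A (⟨P, inferInstance⟩ : PrimeSpectrum (MvPolynomial (Fin 1) A))
  have h2 := Groth.Agent.DimFormula.fd_eq_trdeg A (B := MvPolynomial (Fin 1) A) p φ
    (Ideal.Quotient.mk_surjective.comp e.surjective) P (by
      ext x
      exact Ideal.Quotient.eq_zero_iff_mem) hP
  have hPh : P.height = q.height := RingEquiv.height_comap e.toRingEquiv q
  rw [← h2]
  have h3 : q.height + (Groth.Agent.DimFormula.fd A P : ℕ∞) = p.height + 1 := by
    rw [← hPh, ← PrimeSpectrum.height_eq_orderHeight, ← PrimeSpectrum.height_eq_orderHeight] at *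
    rw [MvPolynomial.algebraMap_eq] at hP
    simpa [PrimeSpectrum.comap_asIdeal, hP] using h1
  have h4 := congrArg Cardinal.ofENat h3
  simpa [Cardinal.ofENat_add] using h4.symm

end Groth.Agent.S4730
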