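import Groth.Statements.S4731
import Mathlib.RingTheory.Noetherian.Basic
import Mathlib.RingTheory.Ideal.Quotient.Operations
import Mathlib.RingTheory.Finiteness.Basic

set_option autoImplicit false
universe u
open EGA4

namespace Groth.Agent.S4731

/-- Let S → R be an injective homomorphism of commutative rings making R a finite S-module, with R
Noetherian; let c be the conductor of S in R, the ideal of those s in S with s R contained in (the
image of) S. If S/c is Noetherian, then every increasing sequence of ideals of S contained in c is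
eventually constant. -/
theorem result (S R : Type u) [CommRing S] [CommRing R] [Algebra S R]
    [FaithfulSMul S R] [IsNoetherianRing R] [Module.Finite S R] (c : Ideal S)
    (hc : ∀ s : S, s ∈ c ↔ ∀ r : R, ∃ s' : S, algebraMap S R s' = algebraMap S R s * r)
    [IsNoetherianRing (S ⧸ c)] (a : ℕ →o Ideal S) (ha : ∀ n, a n ≤ c) :
    ∃ N : ℕ, ∀ n, N ≤ n → a n = a N := by
  classical
  let b : ℕ →o Ideal R := ⟨fun n => (a n).map (algebraMap S R), fun _ _ h => Ideal.map_mono (a.monotone h)⟩
  obtain ⟨N₀, hN₀⟩ := monotone_stabilizes_iff_noetherian.mpr (inferInstance : IsNoetherian R R) b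
  let B : Submodule R R := b N₀
  haveI : Module.Finite R B := Module.Finite.iff_fg.2 (IsNoetherian.noetherian _)
  haveI : Module.Finite S B := Module.Finite.trans R B
  let P : Submodule S B := c • ⊤
  haveI : IsNoetherian S (B ⧸ P) := by
    have htors : Module.IsTorsionBySet S (B ⧸ P) c := Module.isTorsionBySet_quotient_ideal_smul B c
    letI : Module (S ⧸ c) (B ⧸ P) := htors.module
    haveI : IsScalarTower S (S ⧸ c) (B ⧸ P) := htors.isScalarTower
    haveI : Module.Finite (S ⧸ c) (B ⧸ P) := Module.Finite.of_restrictScalars_finite S (S ⧸ c) _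
    refine ⟨fun N => ?_⟩
    let N' : Submodule (S ⧸ c) (B ⧸ P) :=
      { carrier := N
        add_mem' := N.add_mem
        zero_mem' := N.zero_mem
        smul_mem' := fun r x hx => by
          obtain ⟨s, rfl⟩ := Ideal.Quotient.mk_surjective r
          show Ideal.Quotient.mk c s • x ∈ N
          rw [← Ideal.Quotient.algebraMap_eq, algebraMap_smul]
          exact N.smul_mem s hx }
    have hN' : N'.restrictScalars S = N := by ext; rfl
    rw [← hN']
    exact Submodule.FG.restrictScalars_of_surjective (IsNoetherian.noetherian N') Ideal.Quotient.mk_surjective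
  let im : ℕ → Submodule S B := fun n =>
    (Submodule.map (Algebra.linearMap S R) (a n)).comap (B.subtype.restrictScalars S)
  have hmono : Monotone im := fun _ _ h => Submodule.comap_mono (Submodule.map_mono (a.monotone h))
  obtain ⟨N₁, hN₁⟩ := monotone_stabilizes_iff_noetherian.mpr (inferInstance : IsNoetherian S (B ⧸ P))
    ⟨fun n => (im n).map P.mkQ, fun _ _ h => Submodule.map_mono (hmono h)⟩
  refine ⟨max N₀ N₁, fun n hn => le_antisymm (fun x hx => ?_) (a.monotone hn)⟩
  set N := max N₀ N₁
  have hBN : B = b N := hN₀ N (le_max_left _ _)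
  have hBn : B = b n := hN₀ n ((le_max_left _ _).trans hn)
  have hPle : P ≤ im N := by
    refine Submodule.smul_le.2 fun t ht z _ => ?_
    refine Submodule.mem_comap.2 ?_
    have key : ∀ w ∈ Ideal.map (algebraMap S R) (a N),
        ∀ u, (∀ r : R, ∃ s' : S, algebraMap S R s' = u * r) → u * w ∈ Submodule.map (Algebra.linearMap S R) (a N) := by
      intro w hw
      refine Submodule.span_induction ?_ ?_ ?_ ?_ hw
      · rintro _ ⟨y, hy, rfl⟩ u hu
        obtain ⟨s', hs'⟩ := hu 1
        refine ⟨s' * y, (a N).mul_mem_left s' hy, ?_⟩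
        rw [Algebra.linearMap_apply, map_mul, hs', mul_one]
      · intro u _
        rw [mul_zero]
        exact Submodule.zero_mem _
      · intro y y' _ _ hy hy' u hu
        rw [mul_add]
        exact Submodule.add_mem _ (hy u hu) (hy' u hu)
      · intro r y _ hy u hu
        rw [smul_eq_mul, ← mul_assoc]
        refine hy (u * r) fun r' => ?_
        obtain ⟨s', hs'⟩ := hu (r * r')
        exact ⟨s', by rw [hs', mul_assoc]⟩
    have := key z.1 (hBN.le z.2) (algebraMap S R t) ((hc t).1 ht)
    show t • (z : R) ∈ _
    rwa [Algebra.smul_def]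
  have hxB : algebraMap S R x ∈ B := hBn ▸ Ideal.mem_map_of_mem _ hx
  have h1 : P.mkQ ⟨algebraMap S R x, hxB⟩ ∈ (im n).map P.mkQ :=
    Submodule.mem_map_of_mem ⟨x, hx, rfl⟩
  have heq : (im N).map P.mkQ = (im n).map P.mkQ :=
    ((hN₁ N (le_max_right _ _)).symm.trans (hN₁ n ((le_max_right _ _).trans hn)))
  rw [← heq, ← Submodule.mem_comap, Submodule.comap_map_mkQ, sup_eq_right.2 hPle] at h1
  obtain ⟨y, hy, hyx⟩ := h1
  have : y = x := FaithfulSMul.algebraMap_injective S R hyx
  exact this ▸ hy

end Groth.Agent.S4731
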