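import Groth.Statements.S4734
import Groth.Agent.Ega41H93.NormFlat
import Groth.Agent.Ega41H93.GenericDepth

set_option autoImplicit false
universe u
open EGA4

namespace Groth.Agent.S4734

/-- Let A be a Noetherian ring, I a nilpotent ideal of A and M a finite A-module whose support is all of
Spec A and which is normally flat along I. Then for every prime p of A: M satisfies Serre's
condition (S_n) at p if and only if the A-module A/I does; and the codepth of M_p is at most n if
and only if the codepth of the A_p-module (A/I)_p is at most n (codepth written additively as dim ≤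
depth + n). -/
theorem result (n : ℕ) (A : Type u) [CommRing A] [IsNoetherianRing A]
    (I : Ideal A) (hI : IsNilpotent I) (M : Type u) [AddCommGroup M] [Module A M] [Module.Finite A M]
    (hsupp : Module.support A M = Set.univ) (hM : EGA4.IsNormallyFlat I M) (p : Ideal A) [p.IsPrime] :
    (EGA4.HasSkAt n A M p ↔ EGA4.HasSkAt n A (A ⧸ I) p) ∧
      (Module.supportDim (Localization.AtPrime p) (LocalizedModule p.primeCompl M) ≤
          ((LocCoh.depth (Localization.AtPrime p) (LocalizedModule p.primeCompl M) : ℕ∞) : WithBot ℕ∞) + n ↔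
        Module.supportDim (Localization.AtPrime p) (LocalizedModule p.primeCompl (A ⧸ I)) ≤
          ((LocCoh.depth (Localization.AtPrime p) (LocalizedModule p.primeCompl (A ⧸ I)) : ℕ∞) : WithBot ℕ∞) + n) := by
  have key : ∀ (q : Ideal A) [q.IsPrime],
      Ega41H93.dimAt M q = Ega41H93.dimAt (A ⧸ I) q ∧ Ega41H93.depAt M q = Ega41H93.depAt (A ⧸ I) q := by
    intro q _
    have hq : (⟨q, inferInstance⟩ : PrimeSpectrum A) ∈ Module.support A M := hsupp ▸ Set.mem_univ _
    haveI := Module.mem_support_iff.1 hq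
    haveI := Ega41H93.finite_loc (M := M) q
    have hI' : IsNilpotent (I.map (algebraMap A (Localization.AtPrime q))) := by
      obtain ⟨N, hN⟩ := hI
      exact ⟨N, by rw [← Ideal.map_pow, hN, Ideal.zero_eq_bot, Ideal.map_bot]; rfl⟩
    obtain ⟨h1, h2⟩ := S2612.result (Localization.AtPrime q) _ hI' (LocalizedModule q.primeCompl M)
      (Ega41H93.isNormallyFlat_localized q.primeCompl _ (LocalizedModule.mkLinearMap q.primeCompl M) hM)
    obtain ⟨e1, e2⟩ := Ega41H93.depAt_dimAt_quotient I q
    exact ⟨h1.trans ((Module.supportDim_quotient_eq_ringKrullDim _).symm.trans e2), h2.trans e1⟩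
  refine ⟨?_, ?_⟩
  · unfold EGA4.HasSkAt
    erw [Alg6.hasSk_localization_iff, Alg6.hasSk_localization_iff]
    refine forall_congr' fun q => forall_congr' fun hq => forall_congr' fun _ => ?_
    haveI := hq
    change min _ (Ega41H93.dimAt M q) ≤ ((Ega41H93.depAt M q : ℕ∞) : WithBot ℕ∞) ↔
      min _ (Ega41H93.dimAt (A ⧸ I) q) ≤ ((Ega41H93.depAt (A ⧸ I) q : ℕ∞) : WithBot ℕ∞)
    rw [(key q).1, (key q).2]
  · change Ega41H93.dimAt M p ≤ ((Ega41H93.depAt M p : ℕ∞) : WithBot ℕ∞) + n ↔
      Ega41H93.dimAt (A ⧸ I) p ≤ ((Ega41H93.depAt (A ⧸ I) p : ℕ∞) : WithBot ℕ∞) + n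
    rw [(key p).1, (key p).2]

end Groth.Agent.S4734
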