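import Groth.Statements.S4735
import Groth.Agent.Ega41H93.StrictCat

set_option autoImplicit false
universe u
open EGA4

namespace Groth.Agent.S4735

/-- Let A be a strictly formally catenary Noetherian local ring. Then every Noetherian local ring B
which is an A-algebra essentially of finite type is strictly formally catenary. -/
theorem result (A : Type u) [CommRing A] [IsNoetherianRing A] [IsLocalRing A]
    (hA : EGA4.IsFormallyStrictlyCatenary A) (B : Type u) [CommRing B] [IsNoetherianRing B] [IsLocalRing B]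
    [Algebra A B] [Algebra.EssFiniteType A B] : EGA4.IsFormallyStrictlyCatenary B := by
  intro q hq
  haveI : IsLocalRing (B ⧸ q) := .of_surjective' _ Ideal.Quotient.mk_surjective
  obtain ⟨s, hs⟩ := (Algebra.essFiniteType_iff A B).1 inferInstance
  have hloc := (Algebra.essFiniteType_cond_iff (R := A) (S := B) s).2 hs
  let B₀ := Algebra.adjoin A (s : Set B)
  haveI hft : Algebra.FiniteType A B₀ := (Subalgebra.fg_iff_finiteType _).1 (Subalgebra.fg_adjoin_finset s)
  obtain ⟨m, π, hπ⟩ := Algebra.FiniteType.iff_quotient_mvPolynomial''.1 hft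
  letI : Algebra (MvPolynomial (Fin m) A) (B ⧸ q) :=
    ((Ideal.Quotient.mk q).comp ((algebraMap B₀ B).comp π.toRingHom)).toAlgebra
  refine Ega41H93.isStrictlyEquidim_cpl_of_isFracs A (m := m) hA (B ⧸ q) (fun b => ?_)
  haveI := hloc
  obtain ⟨b, rfl⟩ := Ideal.Quotient.mk_surjective b
  obtain ⟨⟨r, u⟩, he⟩ := IsLocalization.surj ((IsUnit.submonoid B).comap (algebraMap B₀ B)) b
  obtain ⟨r', rfl⟩ := hπ r
  obtain ⟨u', hu'⟩ := hπ (u : B₀)
  refine ⟨r', u', ?_, ?_⟩
  · show IsUnit (Ideal.Quotient.mk q (algebraMap B₀ B (π u')))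
    rw [hu']
    exact IsUnit.map _ u.2
  · show Ideal.Quotient.mk q b * Ideal.Quotient.mk q (algebraMap B₀ B (π u')) = Ideal.Quotient.mk q (algebraMap B₀ B (π r'))
    rw [hu', ← map_mul]
    exact congrArg _ he

end Groth.Agent.S4735
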