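import Groth.Statements.S4739
import Groth.Agent.AnLocal.Formal
import Groth.Agent.FlatLoc6.Cpl

set_option autoImplicit false
universe u
open EGA4

namespace Groth.Agent.S4739

theorem sub_mk'_mem {B B' D : Type u} [CommRing B] [CommRing B'] [CommRing D] [Algebra B B'] [Algebra B' D] [Algebra B D]
    [IsScalarTower B B' D] (S : Submonoid B') [IsLocalization S D] (x : B') (s : S) (bx : B) (v : Bˣ) (J : Ideal B')
    (hx : x - algebraMap B B' bx ∈ J) (hs : (s : B') - algebraMap B B' v ∈ J) :
    IsLocalization.mk' D x s - algebraMap B D (bx * (↑v⁻¹ : B)) ∈ J.map (algebraMap B' D) := by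
  have e1 := Ideal.mem_map_of_mem (algebraMap B' D) hx
  have e2 := Ideal.mem_map_of_mem (algebraMap B' D) hs
  rw [map_sub, ← IsScalarTower.algebraMap_apply] at e1 e2
  refine (Ideal.mul_unit_mem_iff_mem _ (IsLocalization.map_units D s)).1 ?_
  have e3 : algebraMap B D (↑v⁻¹ : B) * algebraMap B D (v : B) = 1 := by
    rw [← map_mul, Units.inv_mul, map_one]
  have e4 : (IsLocalization.mk' D x s - algebraMap B D (bx * (↑v⁻¹ : B))) * algebraMap B' D s =
      (algebraMap B' D x - algebraMap B D bx) -
        algebraMap B D (bx * (↑v⁻¹ : B)) * (algebraMap B' D s - algebraMap B D v) := by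
    rw [sub_mul, IsLocalization.mk'_spec, mul_sub, map_mul, mul_assoc (algebraMap B D bx) _ (algebraMap B D (v : B)),
      e3, mul_one]
    abel
  rw [e4]
  exact Ideal.sub_mem _ e1 (Ideal.mul_mem_left _ _ e2)

open TensorProduct in
/-- Let A → B be a local homomorphism of Noetherian local rings and Â the completion of A, and suppose
B' = B ⊗_A Â is Noetherian. Then for every prime ideal n' of B' lying over the maximal ideal of B
and containing the image of the maximal ideal of A through Â (that is, lying over the maximal ideal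
m_A Â of Â), the completion of B and the completion of the local ring B'_{n'} are isomorphic
(existence of a ring isomorphism only). -/
theorem result (A B : Type u) [CommRing A] [CommRing B] [IsNoetherianRing A]
    [IsNoetherianRing B] [IsLocalRing A] [IsLocalRing B] [Algebra A B] [IsLocalHom (algebraMap A B)]
    [IsNoetherianRing (B ⊗[A] EGA4.Cpl A)] (n' : Ideal (B ⊗[A] EGA4.Cpl A)) [n'.IsPrime]
    (h1 : n'.comap (algebraMap B (B ⊗[A] EGA4.Cpl A)) = IsLocalRing.maximalIdeal B)
    (h2 : (IsLocalRing.maximalIdeal A).map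
        ((Algebra.TensorProduct.includeRight.toRingHom : EGA4.Cpl A →+* B ⊗[A] EGA4.Cpl A).comp
          (algebraMap A (EGA4.Cpl A))) ≤ n') :
    Nonempty (EGA4.Cpl B ≃+* EGA4.Cpl (Localization.AtPrime n')) := by
  let C := EGA4.Cpl A
  let B' := B ⊗[A] C
  let mA := IsLocalRing.maximalIdeal A
  let mB := IsLocalRing.maximalIdeal B
  haveI := Groth.Agent.FlatLoc6.faithfullyFlat_cpl A
  have hmA : mA.map (algebraMap A B) ≤ mB :=
    ((IsLocalRing.local_hom_TFAE (algebraMap A B)).out 0 2).mp (by infer_instance)
  -- density of `B` in `B ⊗ Â`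
  have dense : ∀ (k : ℕ) (x : B'), ∃ b : B, x - algebraMap B B' b ∈ (mB ^ k).map (algebraMap B B') := by
    intro k x
    induction x using TensorProduct.induction_on with
    | zero => exact ⟨0, by simp⟩
    | add x y hx hy =>
      obtain ⟨⟨b, hb⟩, ⟨c, hc⟩⟩ := hx, hy
      refine ⟨b + c, ?_⟩
      rw [map_add, add_sub_add_comm]
      exact add_mem hb hc
    | tmul b r =>
      obtain ⟨a, ha⟩ := Submodule.mkQ_surjective _ (AdicCompletion.eval mA A k r)
      have hr : r - algebraMap A C a ∈ (mA ^ k).map (algebraMap A C) := by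
        rw [← Groth.Agent.LocalCrit.smul_top_eq_map, AdicCompletion.pow_smul_top_eq_ker_eval (IsNoetherian.noetherian mA),
          LinearMap.mem_ker, map_sub, ← ha, sub_eq_zero]
        exact (AdicCompletion.eval_of _ _ k a).symm
      refine ⟨b * algebraMap A B a, ?_⟩
      have h3 : (Algebra.TensorProduct.includeRight (R := A) (A := B) (B := C)).toRingHom (r - algebraMap A C a) ∈
          (mB ^ k).map (algebraMap B B') := by
        have h4 := Ideal.mem_map_of_mem (Algebra.TensorProduct.includeRight (R := A) (A := B) (B := C)).toRingHom hr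
        rw [Ideal.map_map, show ((Algebra.TensorProduct.includeRight (R := A) (A := B) (B := C)).toRingHom).comp (algebraMap A C) =
          algebraMap A B' from (Algebra.TensorProduct.includeRight (R := A) (A := B) (B := C)).comp_algebraMap,
          IsScalarTower.algebraMap_eq A B B', ← Ideal.map_map,
          Ideal.map_pow] at h4
        exact Ideal.map_mono (Ideal.pow_right_mono hmA k) h4
      have h5 : (b ⊗ₜ[A] r : B') - algebraMap B B' (b * algebraMap A B a) =
          algebraMap B B' b * (Algebra.TensorProduct.includeRight (R := A) (A := B) (B := C)).toRingHom (r - algebraMap A C a) := by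
        show _ = (b ⊗ₜ[A] (1 : C)) * ((1 : B) ⊗ₜ[A] (r - algebraMap A C a))
        rw [Algebra.TensorProduct.tmul_mul_tmul, mul_one, one_mul, TensorProduct.tmul_sub,
          Algebra.algebraMap_eq_smul_one (R := A) (A := C), TensorProduct.tmul_smul, TensorProduct.smul_tmul',
          mul_comm b, ← Algebra.smul_def]
        rfl
      rw [h5]
      exact Ideal.mul_mem_left _ _ h3
  have hcomap : ∀ k, ((mB ^ k).map (algebraMap B B')).comap (algebraMap B B') = mB ^ k := fun k =>
    Ideal.comap_map_eq_self_of_faithfullyFlat _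
  let N₀ := mB.map (algebraMap B B')
  have hN₀le : N₀ ≤ n' := Ideal.map_le_iff_le_comap.2 h1.ge
  have hn : n' = N₀ := by
    refine le_antisymm (fun x hx => ?_) hN₀le
    obtain ⟨b, hb⟩ := dense 1 x
    rw [pow_one] at hb
    have hbm : algebraMap B B' b ∈ n' := by
      have := n'.sub_mem hx (hN₀le hb)
      rwa [sub_sub_cancel] at this
    have : b ∈ mB := h1.le hbm
    have := N₀.add_mem hb (Ideal.mem_map_of_mem (algebraMap B B') this)
    rwa [sub_add_cancel] at this
  have hunit : ∀ b : B, algebraMap B B' b ∉ n' → IsUnit b := fun b hb => by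
    by_contra h
    exact hb (h1.ge h)
  let D := Localization.AtPrime n'
  haveI : IsNoetherianRing D := IsLocalization.isNoetherianRing n'.primeCompl D inferInstance
  have hmD : mB.map (algebraMap B D) = IsLocalRing.maximalIdeal D := by
    rw [IsScalarTower.algebraMap_eq B B' D, ← Ideal.map_map, ← Localization.AtPrime.map_eq_maximalIdeal]
    exact congrArg _ hn.symm
  have hpow : ∀ k, IsLocalRing.maximalIdeal D ^ k = ((mB ^ k).map (algebraMap B B')).map (algebraMap B' D) := fun k => by
    rw [← hmD, ← Ideal.map_pow, Ideal.map_map, ← IsScalarTower.algebraMap_eq]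
  refine (Groth.Agent.AnLocal.exists_cplEquiv (A := B) (B := D) hmD (fun d k => ?_) (fun a k ha => ?_)).map
    fun e => e.toRingEquiv
  · rw [hpow]
    rcases Nat.eq_zero_or_pos k with rfl | hk
    · exact ⟨0, by rw [pow_zero, Ideal.one_eq_top, Ideal.map_top, Ideal.map_top]; trivial⟩
    obtain ⟨x, s, rfl⟩ := IsLocalization.exists_mk'_eq n'.primeCompl d
    obtain ⟨bx, hbx⟩ := dense k x
    obtain ⟨bs, hbs⟩ := dense k (s : B')
    have hle : (mB ^ k).map (algebraMap B B') ≤ n' :=
      (Ideal.map_mono (Ideal.pow_le_self (by omega))).trans hN₀le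
    obtain ⟨v, hv⟩ := hunit bs fun h => s.2 (by
      have := n'.add_mem (hle hbs) h
      rwa [sub_add_cancel] at this)
    refine ⟨bx * (↑v⁻¹ : B), ?_⟩
    let I := ((mB ^ k).map (algebraMap B B')).map (algebraMap B' D)
    show IsLocalization.mk' D x s - algebraMap B D (bx * (↑v⁻¹ : B)) ∈ I
    exact sub_mk'_mem (B := B) (B' := B ⊗[A] EGA4.Cpl A) (D := Localization.AtPrime n') n'.primeCompl x s bx v ((mB ^ k).map (algebraMap B B')) hbx (by rw [hv]; exact hbs)
  · rw [hpow, IsScalarTower.algebraMap_apply B B' D,
      IsLocalization.algebraMap_mem_map_algebraMap_iff n'.primeCompl] at ha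
    obtain ⟨s, hs, hsa⟩ := ha
    rcases Nat.eq_zero_or_pos k with rfl | hk
    · simp
    obtain ⟨c, hc⟩ := dense k s
    have hle : (mB ^ k).map (algebraMap B B') ≤ n' :=
      (Ideal.map_mono (Ideal.pow_le_self (by omega))).trans hN₀le
    obtain ⟨v, hv⟩ := hunit c fun h => hs (by
      have := n'.add_mem (hle hc) h
      rwa [sub_add_cancel] at this)
    have h6 : algebraMap B B' (c * a) ∈ (mB ^ k).map (algebraMap B B') := by
      have h7 := Ideal.sub_mem _ hsa (Ideal.mul_mem_right (algebraMap B B' a) _ hc)
      rwa [sub_mul, sub_sub_cancel, ← map_mul] at h7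
    rw [← Ideal.mem_comap, hcomap, ← hv] at h6
    exact (Ideal.unit_mul_mem_iff_mem _ v.isUnit).1 h6

end Groth.Agent.S4739
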