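import Groth.Statements.S4790
import Groth.Agent.LimMor.HomStage

set_option autoImplicit false
universe u
open CategoryTheory AlgebraicGeometry
open Lim8

namespace Groth.Agent.S4790

set_option backward.isDefEq.respectTransparency false
set_option backward.isDefEq.respectTransparency.types false

/-- Let S = lim S_i be a cofiltered limit of schemes with affine transition maps and S_{i₀} a
quasi-compact quasi-separated stage; let F₀ and G₀ be quasi-coherent O-modules of finite
presentation on S_{i₀}. Then the pullbacks of F₀ and G₀ along S ⟶ S_{i₀} are isomorphic if and only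
if, for some index j over i₀, their pullbacks along S_j ⟶ S_{i₀} are isomorphic. -/
theorem result {I : Type u} [SmallCategory I] [IsCofiltered I]
    (D : I ⥤ Scheme.{u}) (c : Limits.Cone D) (hc : Limits.IsLimit c)
    [∀ (i j : I) (f : i ⟶ j), IsAffineHom (D.map f)] (i₀ : I) [CompactSpace (D.obj i₀)]
    [QuasiSeparatedSpace (D.obj i₀)] (F₀ G₀ : (D.obj i₀).Modules)
    [Coh.IsQCoh F₀] (hF₀fp : CohB1.IsFP F₀)
    [Coh.IsQCoh G₀] (hG₀fp : CohB1.IsFP G₀) :
    Nonempty ((Scheme.Modules.pullback (c.π.app i₀)).obj F₀ ≅ (Scheme.Modules.pullback (c.π.app i₀)).obj G₀) ↔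
      ∃ (j : I) (φ : j ⟶ i₀),
        Nonempty ((Scheme.Modules.pullback (D.map φ)).obj F₀ ≅ (Scheme.Modules.pullback (D.map φ)).obj G₀) := by
  haveI : ∀ {a b : I} (f : a ⟶ b), IsAffineHom (D.map f) := fun {a b} f => inferInstance
  constructor
  · rintro ⟨e⟩
    have hqF : Coh.IsQCoh F₀ := ‹_›
    have hqG : Coh.IsQCoh G₀ := ‹_›
    obtain ⟨j, φ, g, hg⟩ := LimMor.exists_hom_stage_eq hc hqF hF₀fp hqG e.hom
    haveI := LimMor.compactSpace_stage (D := D) φ
    haveI hgi : IsIso ((Scheme.Modules.pullback (c.π.app j)).map g) := by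
      have : (Scheme.Modules.pullback (c.π.app j)).map g =
          (LimMor.limCompIso (c := c) φ).hom.app F₀ ≫ e.hom ≫ (LimMor.limCompIso (c := c) φ).inv.app G₀ := by
        exact LimMor.eq_conj ((LimMor.limCompIso (c := c) φ).app F₀) ((LimMor.limCompIso (c := c) φ).app G₀) hg
      rw [this]
      infer_instance
    have hqFj := QCoh.isQCoh_pullback (D.map φ) hqF
    have hqGj := QCoh.isQCoh_pullback (D.map φ) hqG
    have hGj := ModStLib.isFP_pullback (D.map φ) hG₀fp
    have hFj := ModStLib.isFP_pullback (D.map φ) hF₀fp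
    obtain ⟨k, ψ, hk⟩ := (LimMor.isIso_iff_eventually hc hqFj (QCoh.isFT_of_isFP hFj) hqGj hGj g).1 hgi
    haveI := hk
    exact ⟨k, ψ ≫ φ, ⟨((LimMor.stageCompIso φ ψ).app F₀).symm ≪≫ asIso ((Scheme.Modules.pullback (D.map ψ)).map g) ≪≫
      (LimMor.stageCompIso φ ψ).app G₀⟩⟩
  · rintro ⟨j, φ, ⟨e⟩⟩
    exact ⟨((LimMor.limCompIso (c := c) φ).app F₀).symm ≪≫ (Scheme.Modules.pullback (c.π.app j)).mapIso e ≪≫
      (LimMor.limCompIso φ).app G₀⟩

end Groth.Agent.S4790
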