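import Groth.Statements.S4794
import Groth.Agent.LimMor.ModEventually

set_option autoImplicit false
universe u
open CategoryTheory AlgebraicGeometry
open CategoryTheory.Limits
open Lim8

namespace Groth.Agent.S4794

/-- Let S = lim S_i be a cofiltered limit of schemes whose transition maps are affine and flat, and
S_{i₀} a quasi-compact stage; let f₀ : F₀ ⟶ G₀ be a homomorphism of quasi-coherent O-modules on
S_{i₀} whose kernel is an O-module of finite type. Then the pullback of f₀ along S ⟶ S_{i₀} is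
injective (a monomorphism of O_S-modules) if and only if, for some index j over i₀, the pullback of
f₀ along S_j ⟶ S_{i₀} is injective. -/
theorem result {I : Type u} [SmallCategory I] [IsCofiltered I]
    (D : I ⥤ Scheme.{u}) (c : Limits.Cone D) (hc : Limits.IsLimit c)
    [∀ (i j : I) (f : i ⟶ j), IsAffineHom (D.map f)] (i₀ : I) [CompactSpace (D.obj i₀)]
    (hfl : ∀ (i j : I) (φ : i ⟶ j), Flat (D.map φ))
    {F₀ G₀ : (D.obj i₀).Modules} [Coh.IsQCoh F₀]
    [Coh.IsQCoh G₀] (f₀ : F₀ ⟶ G₀)
    (hker : CohB1.IsFT (Limits.kernel f₀)) :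
    Mono ((Scheme.Modules.pullback (c.π.app i₀)).map f₀) ↔
      ∃ (j : I) (φ : j ⟶ i₀), Mono ((Scheme.Modules.pullback (D.map φ)).map f₀) := by
  haveI : ∀ {a b : I} (f : a ⟶ b), IsAffineHom (D.map f) := fun f => inferInstance
  haveI := Groth.Agent.LimMor.preservesFiniteLimits_pullback_π hc i₀ hfl
  rw [Groth.Agent.LimMor.mono_map_iff, Groth.Agent.LimMor.map_eq_zero_iff_eventually hc
    (Groth.Agent.QCoh.isQCoh_kernel ‹Coh.IsQCoh F₀› ‹Coh.IsQCoh G₀› f₀) hker ‹Coh.IsQCoh F₀› (kernel.ι f₀)]
  refine exists_congr fun j => exists_congr fun φ => ?_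
  haveI := Groth.Agent.LimMor.preservesFiniteLimits_pullback_map hfl φ
  exact (Groth.Agent.LimMor.mono_map_iff _ f₀).symm

end Groth.Agent.S4794
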