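import Groth.Statements.S4814
import Groth.Agent.LimMor.HomStage

set_option autoImplicit false
universe u
open CategoryTheory AlgebraicGeometry
open Lim8

namespace Groth.Agent.S4814

set_option backward.isDefEq.respectTransparency false
set_option backward.isDefEq.respectTransparency.types false

/-- Let S = lim S_i be a cofiltered limit of schemes with affine transition maps and S_{i₀} a
quasi-compact quasi-separated stage; let F₀ be a quasi-coherent O-module of finite presentation on
S_{i₀}, F its pullback to S, and p : F ⟶ G a surjective homomorphism onto a quasi-coherent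
O_S-module of finite presentation. Then for some index j over i₀ there are a quasi-coherent O-module
of finite presentation G_j on S_j and a surjective homomorphism p_j : F_j ⟶ G_j from the pullback
F_j of F₀, together with an isomorphism from the pullback of G_j to S onto G which carries the
pullback of p_j (transported along the canonical identification of the pullback of F_j with F) to p.
Every quotient of finite presentation of F thus comes from a quotient of finite presentation of some
F_j. -/
theorem result {I : Type u} [SmallCategory I] [IsCofiltered I]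
    (D : I ⥤ Scheme.{u}) (c : Limits.Cone D) (hc : Limits.IsLimit c)
    [∀ (i j : I) (f : i ⟶ j), IsAffineHom (D.map f)] (i₀ : I)
    [CompactSpace (D.obj i₀)] [QuasiSeparatedSpace (D.obj i₀)]
    (F₀ : (D.obj i₀).Modules) [Coh.IsQCoh F₀] (hF₀ : CohB1.IsFP F₀)
    {G : c.pt.Modules} [Coh.IsQCoh G] (hG : CohB1.IsFP G) (p : (Scheme.Modules.pullback (c.π.app i₀)).obj F₀ ⟶ G) [Epi p] :
    ∃ (j : I) (φ : j ⟶ i₀) (Gj : (D.obj j).Modules) (_ : Coh.IsQCoh Gj) (pj : (Scheme.Modules.pullback (D.map φ)).obj F₀ ⟶ Gj)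
      (e : (Scheme.Modules.pullback (c.π.app j)).obj Gj ≅ G),
      CohB1.IsFP Gj ∧ Epi pj ∧
        ((Scheme.Modules.pullbackComp (c.π.app j) (D.map φ) ≪≫ Scheme.Modules.pullbackCongr (c.w φ)).app F₀).inv ≫
          (Scheme.Modules.pullback (c.π.app j)).map pj ≫ e.hom = p := by
  haveI : ∀ {a b : I} (f : a ⟶ b), IsAffineHom (D.map f) := fun {a b} f => inferInstance
  have hqF : Coh.IsQCoh F₀ := ‹_›
  obtain ⟨i, m, Gi, hGi, hGifp, ⟨e⟩⟩ := ModDescent24.exists_descent hc i₀ ‹Coh.IsQCoh G› hG
  haveI := LimMor.compactSpace_stage (D := D) m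
  haveI : QuasiSeparatedSpace (D.obj i) := quasiSeparatedSpace_of_quasiSeparated (D.map m)
  have hqFi := QCoh.isQCoh_pullback (D.map m) hqF
  obtain ⟨j, φ, g, hg⟩ := LimMor.exists_hom_stage_eq hc hqFi (ModStLib.isFP_pullback (D.map m) hF₀) hGi
    ((LimMor.limCompIso (c := c) m).hom.app F₀ ≫ p ≫ e.inv)
  haveI := LimMor.compactSpace_stage (D := D) φ
  have hgeq : (Scheme.Modules.pullback (c.π.app j)).map g =
      (LimMor.limCompIso (c := c) φ).hom.app _ ≫ ((LimMor.limCompIso (c := c) m).hom.app F₀ ≫ p ≫ e.inv) ≫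
        (LimMor.limCompIso (c := c) φ).inv.app Gi := by
    exact LimMor.eq_conj ((LimMor.limCompIso (c := c) φ).app _) ((LimMor.limCompIso (c := c) φ).app Gi) hg
  have hge : Epi ((Scheme.Modules.pullback (c.π.app j)).map g) := by
    rw [hgeq]
    infer_instance
  have hqFj := QCoh.isQCoh_pullback (D.map φ) hqFi
  have hqGj := QCoh.isQCoh_pullback (D.map φ) hGi
  have hGj := ModStLib.isFP_pullback (D.map φ) hGifp
  obtain ⟨k, ψ, hk⟩ := (LimMor.epi_iff_eventually hc hqFj hqGj (QCoh.isFT_of_isFP hGj) g).1 hge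
  haveI := hk
  let g' := (LimMor.stageCompIso m φ).inv.app F₀ ≫ g
  refine ⟨k, ψ ≫ φ ≫ m, (Scheme.Modules.pullback (D.map ψ)).obj ((Scheme.Modules.pullback (D.map φ)).obj Gi),
    QCoh.isQCoh_pullback _ hqGj,
    (LimMor.stageCompIso (φ ≫ m) ψ).inv.app F₀ ≫ (Scheme.Modules.pullback (D.map ψ)).map g',
    (LimMor.limCompIso (c := c) ψ).app _ ≪≫ (LimMor.limCompIso (c := c) φ).app Gi ≪≫ e,
    ModStLib.isFP_pullback _ hGj, ?_, ?_⟩
  · haveI : Epi ((Scheme.Modules.pullback (D.map ψ)).map g') := by
      simp only [g', Functor.map_comp]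
      infer_instance
    infer_instance
  show (LimMor.limCompIso (c := c) (ψ ≫ φ ≫ m)).inv.app F₀ ≫
      (Scheme.Modules.pullback (c.π.app k)).map
        ((LimMor.stageCompIso (φ ≫ m) ψ).inv.app F₀ ≫ (Scheme.Modules.pullback (D.map ψ)).map g') ≫
      (LimMor.limCompIso (c := c) ψ).hom.app _ ≫ (LimMor.limCompIso (c := c) φ).hom.app Gi ≫ e.hom = p
  rw [(Scheme.Modules.pullback (c.π.app k)).map_comp, Category.assoc]
  erw [(LimMor.limCompIso (c := c) ψ).hom.naturality_assoc g']
  have h2 := LimMor.limCompIso_comp_inv (c := c) (φ ≫ m) ψ F₀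
  have h3 := LimMor.limCompIso_comp_inv (c := c) m φ F₀
  rw [reassoc_of% h2]
  erw [Iso.inv_hom_id_app_assoc]
  rw [(Scheme.Modules.pullback (c.π.app j)).map_comp, Category.assoc, reassoc_of% h3, hgeq]
  simp

end Groth.Agent.S4814
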