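import Groth.Statements.S4840
import Groth.Agent.LimMor.ModEventually

set_option autoImplicit false
universe u
open CategoryTheory AlgebraicGeometry
open CategoryTheory.Limits
open Lim8

namespace Groth.Agent.S4840

/-- Let S = lim S_i be a cofiltered limit of schemes whose transition maps are affine and flat, and
S_{i₀} a quasi-compact stage; let f₀ : F₀ ⟶ G₀ and g₀ : G₀ ⟶ H₀ be homomorphisms of quasi-coherent
O-modules on S_{i₀} such that the image of f₀ and the kernel of g₀ are O-modules of finite type.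
Then the pulled-back sequence F ⟶ G ⟶ H on S is exact (the composite is zero and the sequence is
exact at G) if and only if, for some index j over i₀, the pulled-back sequence F_j ⟶ G_j ⟶ H_j on
S_j is exact. -/
theorem result {I : Type u} [SmallCategory I] [IsCofiltered I]
    (D : I ⥤ Scheme.{u}) (c : Limits.Cone D) (hc : Limits.IsLimit c)
    [∀ (i j : I) (f : i ⟶ j), IsAffineHom (D.map f)] (i₀ : I) [CompactSpace (D.obj i₀)]
    [∀ (i j : I) (f : i ⟶ j), Flat (D.map f)]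
    {F₀ G₀ H₀ : (D.obj i₀).Modules} [Coh.IsQCoh F₀] [Coh.IsQCoh G₀] [Coh.IsQCoh H₀]
    (f₀ : F₀ ⟶ G₀) (g₀ : G₀ ⟶ H₀)
    (hIm : CohB1.IsFT (Limits.image f₀)) (hKer : CohB1.IsFT (Limits.kernel g₀)) :
    (∃ w : (Scheme.Modules.pullback (c.π.app i₀)).map f₀ ≫ (Scheme.Modules.pullback (c.π.app i₀)).map g₀ = 0, (ShortComplex.mk _ _ w).Exact) ↔
      ∃ (j : I) (φ : j ⟶ i₀) (w : (Scheme.Modules.pullback (D.map φ)).map f₀ ≫ (Scheme.Modules.pullback (D.map φ)).map g₀ = 0),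
        (ShortComplex.mk _ _ w).Exact := by
  haveI : ∀ {a b : I} (f : a ⟶ b), IsAffineHom (D.map f) := fun f => inferInstance
  have hfl : ∀ (a b : I) (φ : a ⟶ b), Flat (D.map φ) := fun _ _ _ => inferInstance
  have hqF : Coh.IsQCoh F₀ := ‹_›
  have hqG : Coh.IsQCoh G₀ := ‹_›
  have hqH : Coh.IsQCoh H₀ := ‹_›
  have hqI : Coh.IsQCoh (Limits.image f₀) :=
    (Groth.Agent.QCoh.isQCoh_iff_iso (Abelian.imageIsoImage f₀)).1
      (Groth.Agent.QCoh.isQCoh_kernel hqG (Groth.Agent.QCoh.isQCoh_cokernel hqF hqG f₀) _)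
  have hw : ∀ {B : Scheme.{u}} (Φ : (D.obj i₀).Modules ⥤ B.Modules) [Φ.Additive] [PreservesFiniteColimits Φ],
      Φ.map f₀ ≫ Φ.map g₀ = 0 ↔ Φ.map (image.ι f₀ ≫ g₀) = 0 := fun {B} Φ _ _ => by
    rw [show Φ.map f₀ = Φ.map (factorThruImage f₀) ≫ Φ.map (image.ι f₀) by rw [← Φ.map_comp, image.fac],
      Category.assoc, ← Φ.map_comp (image.ι f₀) g₀]
    exact ⟨fun h => by rw [← cancel_epi (Φ.map (factorThruImage f₀)), h, comp_zero], fun h => by rw [h, comp_zero]⟩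
  have key₁ := Groth.Agent.LimMor.map_eq_zero_iff_eventually hc hqI hIm hqH (image.ι f₀ ≫ g₀)
  have key₂ := Groth.Agent.LimMor.map_eq_zero_iff_eventually hc
    (Groth.Agent.QCoh.isQCoh_kernel hqG hqH g₀) hKer (Groth.Agent.QCoh.isQCoh_cokernel hqF hqG f₀)
    (kernel.ι g₀ ≫ cokernel.π f₀)
  haveI := Groth.Agent.LimMor.preservesFiniteLimits_pullback_π hc i₀ hfl
  constructor
  · rintro ⟨w, hex⟩
    obtain ⟨j₁, φ₁, h₁⟩ := key₁.1 ((hw _).1 w)
    obtain ⟨j₂, φ₂, h₂⟩ := key₂.1 ((Groth.Agent.LimMor.exact_map_iff _ f₀ g₀ w).1 hex)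
    obtain ⟨k, ψ₁, ψ₂, he⟩ := IsCofiltered.cospan φ₁ φ₂
    haveI := Groth.Agent.LimMor.preservesFiniteLimits_pullback_map hfl (ψ₁ ≫ φ₁)
    have w' := (hw _).2 (Groth.Agent.LimMor.map_eq_zero_of_le (image.ι f₀ ≫ g₀) φ₁ ψ₁ h₁)
    refine ⟨k, ψ₁ ≫ φ₁, w', (Groth.Agent.LimMor.exact_map_iff _ f₀ g₀ w').2 ?_⟩
    rw [he]
    exact Groth.Agent.LimMor.map_eq_zero_of_le _ φ₂ ψ₂ h₂
  · rintro ⟨j, φ, w', hex⟩
    haveI := Groth.Agent.LimMor.preservesFiniteLimits_pullback_map hfl φ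
    have w := (hw _).2 (key₁.2 ⟨j, φ, (hw _).1 w'⟩)
    exact ⟨w, (Groth.Agent.LimMor.exact_map_iff _ f₀ g₀ w).2
      (key₂.2 ⟨j, φ, (Groth.Agent.LimMor.exact_map_iff _ f₀ g₀ w').1 hex⟩)⟩

end Groth.Agent.S4840
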