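import Groth.Statements.S4847
import Groth.Agent.S0392
import Groth.Agent.QCoh.Stalk
import Mathlib.AlgebraicGeometry.Noetherian
-- import your own Groth.Agent.* helpers here

set_option autoImplicit false
set_option linter.style.haveILetI false
universe u
open EGA43 TensorProduct

namespace Groth.Agent.S4847

set_option maxHeartbeats 1000000

open AlgebraicGeometry CategoryTheory in
theorem alg {A B C M : Type u} [CommRing A] [CommRing B] [CommRing C] [IsLocalRing A] [IsLocalRing B] [IsLocalRing C]
    [IsNoetherianRing A] [IsNoetherianRing B] [IsNoetherianRing C] [Algebra A B] [Algebra B C] [Algebra A C]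
    [IsScalarTower A B C] [IsLocalHom (algebraMap A B)] [IsLocalHom (algebraMap B C)]
    [AddCommGroup M] [Module C M] [Module B M] [Module A M] [IsScalarTower B C M] [IsScalarTower A B M]
    [Module.Finite C M] [Nontrivial M] :
    (Module.Flat A M ∧ Module.Flat (B ⧸ (IsLocalRing.maximalIdeal A).map (algebraMap A B))
      (M ⧸ ((IsLocalRing.maximalIdeal A).map (algebraMap A B) • (⊤ : Submodule B M)))) ↔
      (Module.Flat A B ∧ Module.Flat B M) := by
  let I := (IsLocalRing.maximalIdeal A).map (algebraMap A B)
  let e : (B ⧸ I) ⊗[B] M ≃ₗ[B ⧸ I] M ⧸ (I • (⊤ : Submodule B M)) :=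
    { TensorProduct.quotTensorEquivQuotSMul M I with
      map_smul' := fun c z => by
        obtain ⟨c, rfl⟩ := Ideal.Quotient.mk_surjective c
        exact (TensorProduct.quotTensorEquivQuotSMul M I).map_smul c z }
  constructor
  · rintro ⟨h1, h2⟩
    have : Module.Flat (B ⧸ I) ((B ⧸ I) ⊗[B] M) := Module.Flat.of_linearEquiv e
    exact Groth.Agent.S0392.result (R := A) (S := B) (S' := C) (M := M) this
  · rintro ⟨h1, h2⟩
    exact ⟨Module.Flat.trans A B M, Module.Flat.of_linearEquiv e.symm⟩

open AlgebraicGeometry CategoryTheory Limits in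
/-- Case 1° (fibrewise flatness criterion for locally Noetherian schemes): let S, X and Y be locally
Noetherian schemes, f : X ⟶ Y and h : Y ⟶ S arbitrary morphisms, F a coherent O_X-module and x a
point of X with images y in Y and s in S, such that the stalk F_x is nonzero. Then F is flat over S
at x and F_x / m_s F_x is flat over O_{Y,y} / m_s O_{Y,y} (that is, the fibre module F_s is flat
over the fibre Y_s at x) if and only if h is flat at y and F is flat over Y at x. No finiteness
hypothesis on f or h is required in this case. -/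
theorem result {X Y S : Scheme.{u}}
    [IsLocallyNoetherian X] [IsLocallyNoetherian Y] [IsLocallyNoetherian S]
    (f : X ⟶ Y) (h : Y ⟶ S) (F : X.Modules) (hF : Coh.IsCoh F) (x : X)
    (hx : Nontrivial ↑(F.presheaf.stalk x)) :
    letI := FlatMod.moduleStalkOver f F x
    (FlatMod.IsFlatOverAt (f ≫ h) F x ∧
      Module.Flat (↑(Y.presheaf.stalk (f x)) ⧸ Ideal.map (h.stalkMap (f x)).hom (IsLocalRing.maximalIdeal ↑(S.presheaf.stalk (h (f x)))))
        (↑(F.presheaf.stalk x) ⧸ (Ideal.map (h.stalkMap (f x)).hom (IsLocalRing.maximalIdeal ↑(S.presheaf.stalk (h (f x)))) •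
          (⊤ : Submodule ↑(Y.presheaf.stalk (f x)) ↑(F.presheaf.stalk x))))) ↔
    ((h.stalkMap (f x)).hom.Flat ∧ FlatMod.IsFlatOverAt f F x) := by
  let A := S.presheaf.stalk (h (f x))
  let B := Y.presheaf.stalk (f x)
  let C := X.presheaf.stalk x
  letI : Algebra A B := (h.stalkMap (f x)).hom.toAlgebra
  letI : Algebra B C := (f.stalkMap x).hom.toAlgebra
  letI : Algebra A C := ((f.stalkMap x).hom.comp (h.stalkMap (f x)).hom).toAlgebra
  haveI : IsScalarTower A B C := .of_algebraMap_eq fun _ => rfl
  letI : Module B (F.presheaf.stalk x) := FlatMod.moduleStalkOver f F x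
  letI : Module A (F.presheaf.stalk x) := FlatMod.moduleStalkOver (f ≫ h) F x
  haveI : IsScalarTower B C (F.presheaf.stalk x) := .of_algebraMap_smul fun _ _ => rfl
  haveI : IsScalarTower A B (F.presheaf.stalk x) := .of_algebraMap_smul fun a m => by
    show f.stalkMap x (h.stalkMap (f x) a) • m = (f ≫ h).stalkMap x a • m
    rw [Scheme.Hom.stalkMap_comp]; rfl
  haveI : IsLocalHom (algebraMap A B) := inferInstanceAs (IsLocalHom (h.stalkMap (f x)).hom)
  haveI : IsLocalHom (algebraMap B C) := inferInstanceAs (IsLocalHom (f.stalkMap x).hom)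
  haveI : Module.Finite C (F.presheaf.stalk x) := Groth.Agent.QCoh.finite_stalk_of_isFT hF.1 hF.2 x
  exact @alg A B C (F.presheaf.stalk x) _ _ _ _ _ _ _ _ _ _ _ _ _ _ _ _ _ _ _ _ _ _ _

end Groth.Agent.S4847
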