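import Groth.Statements.S4849
import Groth.Agent.FibInj.Zero
import Groth.Agent.S12442
-- import your own Groth.Agent.* helpers here

set_option autoImplicit false
set_option linter.style.haveILetI false
universe u
open CategoryTheory AlgebraicGeometry
open EGA43

namespace Groth.Agent.S4849

/-- Let S be the limit of a cofiltered system (S_i) of schemes with affine transition morphisms, S_{i₀}
a quasi-compact stage, f₀ : X₀ ⟶ Y₀ an S_{i₀}-morphism between schemes of finite presentation over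
S_{i₀}, and F₀ a quasi-coherent O_{X₀}-module of finite presentation. Let f : X ⟶ Y and F be
obtained by base change to S. Then F is f-flat if and only if there are an index i over i₀ and base
changes f_i : X_i ⟶ Y_i, F_i of f₀, F₀ to S_i with F_i f_i-flat. (Base changes are expressed by
pullback squares; the stage S_{i₀} is only assumed quasi-compact.) -/
theorem result {I : Type u} [SmallCategory I] [IsCofiltered I]
    (D : I ⥤ Scheme.{u}) (c : Limits.Cone D) (hc : Limits.IsLimit c)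
    [∀ (i j : I) (φ : i ⟶ j), IsAffineHom (D.map φ)] (i₀ : I) [CompactSpace (D.obj i₀)]
    {X₀ Y₀ : Scheme.{u}} (f₀ : X₀ ⟶ Y₀) (g₀ : Y₀ ⟶ D.obj i₀)
    [LocallyOfFinitePresentation g₀] [QuasiCompact g₀] [QuasiSeparated g₀]
    [LocallyOfFinitePresentation (f₀ ≫ g₀)] [QuasiCompact (f₀ ≫ g₀)] [QuasiSeparated (f₀ ≫ g₀)]
    (F₀ : X₀.Modules) [Coh.IsQCoh F₀] (hF₀ : CohB1.IsFP F₀)
    {X Y : Scheme.{u}} (f : X ⟶ Y) (g : Y ⟶ c.pt) (qY : Y ⟶ Y₀) (qX : X ⟶ X₀)
    (hY : IsPullback qY g g₀ (c.π.app i₀)) (hX : IsPullback qX f f₀ qY) :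
    FlatMod.IsFlatOver f ((Scheme.Modules.pullback qX).obj F₀) ↔
      ∃ (i : I) (φ : i ⟶ i₀) (Xi Yi : Scheme.{u}) (fi : Xi ⟶ Yi) (gi : Yi ⟶ D.obj i)
        (pY : Yi ⟶ Y₀) (pX : Xi ⟶ X₀),
        IsPullback pY gi g₀ (D.map φ) ∧ IsPullback pX fi f₀ pY ∧
          FlatMod.IsFlatOver fi ((Scheme.Modules.pullback pX).obj F₀) := by
  haveI : ∀ {i j : I} (φ : i ⟶ j), IsAffineHom (D.map φ) := fun φ => inferInstance
  haveI : LocallyOfFinitePresentation f₀ := Groth.Agent.S12442.result f₀ g₀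
  constructor
  · intro hflat
    classical
    obtain ⟨Z, hZ⟩ := Limits.HasZeroObject.zero (C := X₀.Modules)
    haveI : CompactSpace X₀ := QuasiCompact.compactSpace_of_compactSpace (f₀ ≫ g₀)
    have hX' : IsPullback qX (f ≫ g) (f₀ ≫ g₀) (c.π.app i₀) := hX.paste_vert hY
    let E := Groth.Agent.MorLib.BC.diag D (f₀ ≫ g₀)
    let cE := Groth.Agent.MorLib.BC.cone D (f₀ ≫ g₀) hX'
    have hcE : Limits.IsLimit cE := Groth.Agent.MorLib.BC.isLimitCone D (f₀ ≫ g₀) hX' hc
    have hi : ∀ j : Over i₀, IsPullback (Limits.pullback.fst g₀ (D.map j.hom)) (Limits.pullback.snd g₀ (D.map j.hom))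
        g₀ (D.map j.hom) := fun j => IsPullback.of_hasPullback _ _
    let fi : ∀ j : Over i₀, Limits.pullback (f₀ ≫ g₀) (D.map j.hom) ⟶ Limits.pullback g₀ (D.map j.hom) := fun j =>
      (hi j).lift (Limits.pullback.fst (f₀ ≫ g₀) (D.map j.hom) ≫ f₀) (Limits.pullback.snd (f₀ ≫ g₀) (D.map j.hom))
        (by rw [Category.assoc]; exact Limits.pullback.condition)
    have hfi2 : ∀ j, fi j ≫ Limits.pullback.snd g₀ (D.map j.hom) = Limits.pullback.snd (f₀ ≫ g₀) (D.map j.hom) :=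
      fun j => (hi j).lift_snd _ _ _
    have hXi : ∀ j, IsPullback (Limits.pullback.fst (f₀ ≫ g₀) (D.map j.hom)) (fi j) f₀
        (Limits.pullback.fst g₀ (D.map j.hom)) := fun j =>
      IsPullback.of_bot (by rw [hfi2]; exact IsPullback.of_hasPullback _ _) ((hi j).lift_fst _ _ _).symm (hi j)
    haveI : ∀ j, LocallyOfFinitePresentation (fi j) := fun j =>
      MorphismProperty.of_isPullback (hXi j) inferInstance
    let W : ∀ j : Over i₀, (Limits.pullback (f₀ ≫ g₀) (D.map j.hom)).Opens := fun j =>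
      ⟨{y | FlatMod.IsFlatOverAt (fi j) ((Scheme.Modules.pullback (Limits.pullback.fst (f₀ ≫ g₀) (D.map j.hom))).obj F₀) y},
        Groth.Agent.FibInj.isOpen_isFlatOverAt (fi j) (Groth.Agent.ModStLib.isFP_pullback _ hF₀)⟩
    -- every point is flat at some stage
    have hpt : ∀ x : X, ∃ j : Over i₀, Groth.Agent.MorLib.BC.proj D (f₀ ≫ g₀) hX' j x ∈ W j := by
      intro x
      obtain ⟨i, φ, hk⟩ := Groth.Agent.FibInj.descends_of_good_limit hY hX (0 : Z ⟶ F₀) hc
        (Groth.Agent.FibInj.isFP_of_isZero hZ) hF₀ x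
        ((Groth.Agent.FibInj.good_iff_isFlatOverAt f _ (Groth.Agent.FibInj.isZero_pullback qX hZ) x).2 (hflat x))
      let j : Over i₀ := Over.mk φ
      have hv3 : Groth.Agent.MorLib.BC.proj D (f₀ ≫ g₀) hX' j ≫ Limits.pullback.fst (f₀ ≫ g₀) (D.map j.hom) = qX :=
        Groth.Agent.MorLib.BC.proj_fst D (f₀ ≫ g₀) hX' j
      let vY := Groth.Agent.FibInj.liftY hY (hi j)
      have hv4 : Groth.Agent.MorLib.BC.proj D (f₀ ≫ g₀) hX' j ≫ fi j = f ≫ vY := (hi j).hom_ext
        (by rw [Category.assoc, ← (hXi j).w, ← Category.assoc, hv3, Category.assoc]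
            exact hX.w.trans (congrArg (f ≫ ·) ((hi j).lift_fst _ _ _).symm))
        (by rw [Category.assoc, hfi2, Category.assoc]
            exact (Groth.Agent.MorLib.BC.proj_snd D (f₀ ≫ g₀) hX' j).trans
              ((Category.assoc _ _ _).trans (congrArg (f ≫ ·) ((hi j).lift_snd _ _ _).symm)))
      exact ⟨j, (Groth.Agent.FibInj.good_iff_isFlatOverAt (fi j) _ (Groth.Agent.FibInj.isZero_pullback _ hZ) _).1
        (hk _ _ (fi j) _ _ _ vY _ (hi j) (hXi j) ((hi j).lift_fst _ _ _) ((hi j).lift_snd _ _ _) hv3 hv4)⟩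
    choose js hjs using hpt
    haveI : IsAffineHom (c.π.app i₀) := isAffineHom_π_app D c hc i₀
    haveI : IsAffineHom qX := MorphismProperty.of_isPullback hX'.flip inferInstance
    haveI : CompactSpace X := QuasiCompact.compactSpace_of_compactSpace qX
    obtain ⟨t, ht⟩ := isCompact_univ.elim_finite_subcover (fun x => Groth.Agent.MorLib.BC.proj D (f₀ ≫ g₀) hX' (js x) ⁻¹' (W (js x) : Set ↥(Limits.pullback (f₀ ≫ g₀) (D.map (js x).hom))))
      (fun x => (W (js x)).2.preimage (Groth.Agent.MorLib.BC.proj D (f₀ ≫ g₀) hX' (js x)).continuous) fun x _ => Set.mem_iUnion.2 ⟨x, hjs x⟩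
    obtain ⟨k, hk⟩ := IsCofiltered.inf_objs_exists (t.image js)
    choose m hm using fun x : t => (⟨(hk (Finset.mem_image_of_mem js x.2)).some, trivial⟩ : ∃ _ : k ⟶ js x, True)
    let U : (E.obj k).Opens := ⨆ x : t, E.map (m x) ⁻¹ᵁ W (js x)
    have hU : cE.π.app k ⁻¹ᵁ U = ⊤ := top_unique fun y _ => by
      obtain ⟨x, hxt, hx⟩ := Set.mem_iUnion₂.1 (ht (Set.mem_univ y))
      refine TopologicalSpace.Opens.mem_iSup.2 ⟨⟨x, hxt⟩, ?_⟩
      show E.map (m ⟨x, hxt⟩) (cE.π.app k y) ∈ W (js x)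
      have e : cE.π.app k ≫ E.map (m ⟨x, hxt⟩) = cE.π.app (js x) := cE.w _
      have h' : cE.π.app (js x) y ∈ W (js x) := hx
      rw [← e] at h'
      exact h'
    obtain ⟨k', n, hn⟩ := exists_map_eq_top E cE hcE U hU
    refine ⟨k'.left, k'.hom, _, _, fi k', _, _, _, hi k', hXi k', fun y => ?_⟩
    obtain ⟨x, hx⟩ := TopologicalSpace.Opens.mem_iSup.1 (show E.map n y ∈ U from hn.ge trivial)
    let l : k' ⟶ js x := n ≫ m x
    have hy : E.map l y ∈ W (js x) := by
      show E.map (n ≫ m x) y ∈ _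
      rw [E.map_comp]; exact hx
    let b : Limits.pullback g₀ (D.map k'.hom) ⟶ Limits.pullback g₀ (D.map (js x).hom) :=
      (Groth.Agent.MorLib.BC.diag D g₀).map l
    have hb1 : b ≫ Limits.pullback.fst g₀ (D.map (js x).hom) = Limits.pullback.fst g₀ (D.map k'.hom) :=
      Groth.Agent.MorLib.BC.map_fst D g₀ l
    have hb2 : b ≫ Limits.pullback.snd g₀ (D.map (js x).hom) =
        Limits.pullback.snd g₀ (D.map k'.hom) ≫ D.map l.left :=
      Groth.Agent.MorLib.BC.map_snd D g₀ l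
    let a : Limits.pullback (f₀ ≫ g₀) (D.map k'.hom) ⟶ Limits.pullback (f₀ ≫ g₀) (D.map (js x).hom) := E.map l
    have ha1 : a ≫ Limits.pullback.fst (f₀ ≫ g₀) (D.map (js x).hom) = Limits.pullback.fst (f₀ ≫ g₀) (D.map k'.hom) :=
      Groth.Agent.MorLib.BC.map_fst D (f₀ ≫ g₀) l
    have ha3 : a ≫ Limits.pullback.snd (f₀ ≫ g₀) (D.map (js x).hom) =
        Limits.pullback.snd (f₀ ≫ g₀) (D.map k'.hom) ≫ D.map l.left :=
      Groth.Agent.MorLib.BC.map_snd D (f₀ ≫ g₀) l
    have ha2 : a ≫ fi (js x) = fi k' ≫ b := (hi (js x)).hom_ext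
      (by rw [Category.assoc, ← (hXi (js x)).w, ← Category.assoc, ha1, Category.assoc, hb1]; exact (hXi k').w)
      (by rw [Category.assoc, hfi2, Category.assoc, ha3, hb2, ← Category.assoc, hfi2])
    have hsq : IsPullback a (fi k') (fi (js x)) b :=
      IsPullback.of_right (by rw [ha1, hb1]; exact hXi k') ha2 (hXi (js x))
    exact Groth.Agent.GrFlat5.isFlatOverAt_of_iso _
      ((Scheme.Modules.pullbackComp a _).app F₀ ≪≫ (Scheme.Modules.pullbackCongr ha1).app F₀) y
      (Groth.Agent.MorLib.FlatBC.isFlatOverAt_baseChange (fi (js x)) (fi k') a b hsq _ y hy)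
  · rintro ⟨i, φ, Xi, Yi, fi, gi, pY, pX, hi, hXi, hflat⟩
    have h1 := hi.lift_fst qY (g ≫ c.π.app i) (by rw [Category.assoc, c.w]; exact hY.w)
    let vY := Groth.Agent.FibInj.liftY hY hi
    let vX := Groth.Agent.FibInj.liftX hY hX hi hXi
    have h3 : vX ≫ pX = qX := hXi.lift_fst _ _ _
    have hX' : IsPullback vX f fi vY :=
      IsPullback.of_right (by rw [h3, show vY ≫ pY = qY from h1]; exact hX) (hXi.lift_snd _ _ _) hXi
    exact fun x => Groth.Agent.GrFlat5.isFlatOverAt_of_iso _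
      ((Scheme.Modules.pullbackComp vX pX).app F₀ ≪≫ (Scheme.Modules.pullbackCongr h3).app F₀) x
      (Groth.Agent.MorLib.FlatBC.isFlatOverAt_baseChange fi f vX vY hX' _ x (hflat (vX x)))

end Groth.Agent.S4849
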