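import Groth.Statements.S4850
import Groth.Agent.FibInj.Sheaf
-- import your own Groth.Agent.* helpers here

set_option autoImplicit false
set_option linter.style.haveILetI false
universe u
open EGA43

namespace Groth.Agent.S4850

open AlgebraicGeometry CategoryTheory Limits in
/-- Equivalence of a: and b)): let f : X ⟶ Y be locally of finite presentation, F and F' quasi-coherent
O_X-modules of finite presentation, u : F' ⟶ F a homomorphism and x a point with y = f x, such that
F is f-flat at x. Then the stalk map u_x is injective and Coker u is f-flat at x, if and only if u_x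
induces an injective map F'_x / m_y F'_x → F_x / m_y F_x. The second condition is written out: an
element of F'_x whose image under u_x lies in m_y F_x already lies in m_y F'_x. (The vanishing of
the stalk (Ker u)_x is expressed as injectivity of u_x.) -/
theorem result {X Y : Scheme.{u}} (f : X ⟶ Y)
    [LocallyOfFinitePresentation f] (F F' : X.Modules) [Coh.IsQCoh F] [Coh.IsQCoh F']
    (hF : CohB1.IsFP F) (hF' : CohB1.IsFP F') (u : F' ⟶ F) (x : X) (hflat : FlatMod.IsFlatOverAt f F x) :
    letI J : Ideal ↑(X.presheaf.stalk x) :=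
      Ideal.map (f.stalkMap x).hom (IsLocalRing.maximalIdeal ↑(Y.presheaf.stalk (f x)))
    letI ux := (TopCat.Presheaf.stalkFunctor Ab x).map (Scheme.Modules.Hom.mapPresheaf u)
    (Function.Injective ux ∧ FlatMod.IsFlatOverAt f (cokernel u) x) ↔
      ∀ m : ↑(F'.presheaf.stalk x),
        ux m ∈ (J • (⊤ : Submodule ↑(X.presheaf.stalk x) ↑(F.presheaf.stalk x))) →
          m ∈ (J • (⊤ : Submodule ↑(X.presheaf.stalk x) ↑(F'.presheaf.stalk x))) := by
  obtain ⟨_, ⟨V, hV, rfl⟩, hxV, -⟩ :=
    Y.isBasis_affineOpens.exists_subset_of_mem_open (Set.mem_univ (f.base x)) isOpen_univ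
  have hV : IsAffineOpen V := hV
  obtain ⟨_, ⟨U, hU, rfl⟩, hxU, hle⟩ :=
    X.isBasis_affineOpens.exists_subset_of_mem_open (show x ∈ f ⁻¹ᵁ V from hxV) (f ⁻¹ᵁ V).2
  have hU : IsAffineOpen U := hU
  letI : Algebra Γ(Y, V) Γ(X, U) := (f.appLE V U hle).hom.toAlgebra
  letI : Module Γ(Y, V) Γ(F, U) := Module.compHom _ (f.appLE V U hle).hom
  haveI : IsScalarTower Γ(Y, V) Γ(X, U) Γ(F, U) := IsScalarTower.of_algebraMap_smul fun _ _ => rfl
  haveI : Algebra.FinitePresentation Γ(Y, V) Γ(X, U) := f.finitePresentation_appLE hV hU hle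
  haveI : Module.FinitePresentation Γ(X, U) Γ(F, U) := Groth.Agent.QCoh.finitePresentation_of_isFP hF hU
  haveI : Module.FinitePresentation Γ(X, U) Γ(F', U) := Groth.Agent.QCoh.finitePresentation_of_isFP hF' hU
  letI : Module Γ(Y, V) Γ(F', U) := Module.compHom _ (f.appLE V U hle).hom
  haveI : IsScalarTower Γ(Y, V) Γ(X, U) Γ(F', U) := IsScalarTower.of_algebraMap_smul fun _ _ => rfl
  have hflat' : Module.Flat Γ(Y, V) (LocalizedModule (hU.primeIdealOf ⟨x, hxU⟩).asIdeal.primeCompl Γ(F, U)) := by
    have h := (Groth.Agent.QCoh.isFlatOverAt_iff f hV hle hxU).1 hflat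
    letI := Groth.Agent.QCoh.stalkModule F hxU
    letI : Module Γ(Y, V) (F.presheaf.stalk x) :=
      Module.compHom _ ((f.appLE V U hle) ≫ X.presheaf.germ U x hxU).hom
    haveI : IsScalarTower Γ(Y, V) Γ(X, U) (F.presheaf.stalk x) :=
      IsScalarTower.of_algebraMap_smul fun _ _ => rfl
    haveI := Groth.Agent.QCoh.isLocalizedModule_germLin ‹Coh.IsQCoh F› hU hxU
    haveI := h
    exact Module.Flat.of_linearEquiv ((IsLocalizedModule.iso (hU.primeIdealOf ⟨x, hxU⟩).asIdeal.primeCompl
      (Groth.Agent.QCoh.germLin F hxU)).restrictScalars Γ(Y, V))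
  constructor
  · rintro ⟨h1, h2⟩
    exact (Groth.Agent.FibInj.fibre_iff f u x hU hV hle hxU inferInstance inferInstance).2
      (Groth.Agent.FibInj.fibreInjective_of_flat_coker _ _
        ((Groth.Agent.FibInj.injective_iff u x hU hxU inferInstance inferInstance).1 h1)
        ((Groth.Agent.FibInj.flat_coker_iff f u x hU hV hle hxU inferInstance inferInstance).1 h2) _)
  · intro h
    obtain ⟨g, hg, hk, hf⟩ := Groth.Agent.FibInj.exists_flat_coker (A := Γ(Y, V))
      (Groth.Agent.FibInj.uU (U := U) u) (hU.primeIdealOf ⟨x, hxU⟩).asIdeal hflat'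
      ((Groth.Agent.FibInj.fibre_iff f u x hU hV hle hxU inferInstance inferInstance).1 h)
    refine ⟨(Groth.Agent.FibInj.injective_iff u x hU hxU inferInstance inferInstance).2 fun m hm => ?_,
      (Groth.Agent.FibInj.flat_coker_iff f u x hU hV hle hxU inferInstance inferInstance).2 ?_⟩
    · obtain ⟨k, hk⟩ := hk m hm
      exact ⟨g ^ k, fun hc => hg (Ideal.IsPrime.mem_of_pow_mem inferInstance k hc), hk⟩
    · rw [Groth.Agent.FlatModel.flat_localized_iff (hU.primeIdealOf ⟨x, hxU⟩).asIdeal.primeCompl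
        (LocalizedModule.mkLinearMap (hU.primeIdealOf ⟨x, hxU⟩).asIdeal.primeCompl _)]
      intro J y hy
      obtain ⟨s, hs, hsy⟩ :=
        (Groth.Agent.FlatModel.flat_localized_iff (Submonoid.powers g) (LocalizedModule.mkLinearMap (Submonoid.powers g) _)).1 hf J y hy
      exact ⟨s, Submonoid.powers_le.2 (show g ∈ (hU.primeIdealOf ⟨x, hxU⟩).asIdeal.primeCompl from hg) hs, hsy⟩

end Groth.Agent.S4850
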