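import Groth.Statements.S4864
import Groth.Agent.S4863
import Groth.Agent.FDescent.QuasiFlat
import Mathlib.AlgebraicGeometry.IdealSheaf.Subscheme

set_option autoImplicit false
universe u
open EGA43

namespace Groth.Agent.S4864

open AlgebraicGeometry CategoryTheory Limits in
/-- Let f : X ⟶ Y and g : Y ⟶ Z be morphisms of finite presentation and F a quasi-coherent O_X-module of
finite presentation. Then the set U of points y of Y such that, for every generization y' of y, F is
(f ≫ g)-flat at every point of X above y', is open in Y. -/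
theorem result {X Y Z : Scheme.{u}} (f : X ⟶ Y) (g : Y ⟶ Z)
    [LocallyOfFinitePresentation f] [QuasiCompact f] [QuasiSeparated f]
    [LocallyOfFinitePresentation g] [QuasiCompact g] [QuasiSeparated g]
    (F : X.Modules) [Coh.IsQCoh F] (hF : CohB1.IsFP F) :
    IsOpen {y : Y | ∀ y' : Y, y' ⤳ y → ∀ x : X, f x = y' → FlatMod.IsFlatOverAt (f ≫ g) F x} := by
  let Z : TopologicalSpace.Closeds X :=
    ⟨{x : X | FlatMod.IsFlatOverAt (f ≫ g) F x}ᶜ, (S4863.result (f ≫ g) F hF).isClosed_compl⟩
  let h : (Scheme.IdealSheafData.vanishingIdeal Z).subscheme ⟶ Y :=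
    (Scheme.IdealSheafData.vanishingIdeal Z).subschemeι ≫ f
  have hrange : Set.range (Scheme.IdealSheafData.vanishingIdeal Z).subschemeι.base = (Z : Set X) :=
    (Scheme.IdealSheafData.range_subschemeι _).trans (Scheme.IdealSheafData.coe_support_vanishingIdeal Z)
  suffices heq : {y : Y | ∀ y' : Y, y' ⤳ y → ∀ x : X, f x = y' → FlatMod.IsFlatOverAt (f ≫ g) F x} =
      (closure (Set.range h.base))ᶜ by
    rw [heq]
    exact isClosed_closure.isOpen_compl
  ext y
  refine ⟨fun hy hc => ?_, fun hy y' hy' x hx => ?_⟩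
  · obtain ⟨z, hz⟩ := FDescent.exists_specializes_of_mem_closure_range h hc
    have hzZ : (Scheme.IdealSheafData.vanishingIdeal Z).subschemeι.base z ∈ (Z : Set X) :=
      hrange ▸ Set.mem_range_self z
    exact hzZ (hy _ hz _ rfl)
  · by_contra hne
    have hxZ : x ∈ Set.range (Scheme.IdealSheafData.vanishingIdeal Z).subschemeι.base := by
      rw [hrange]
      exact hne
    obtain ⟨z, rfl⟩ := hxZ
    subst hx
    exact hy (hy'.mem_closed isClosed_closure (subset_closure ⟨z, rfl⟩))

end Groth.Agent.S4864
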