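import Groth.Statements.S4866
import Groth.Agent.FibInj.RegularSheaf
-- import your own Groth.Agent.* helpers here

set_option autoImplicit false
set_option linter.style.haveILetI false
universe u
open EGA43

namespace Groth.Agent.S4866

open AlgebraicGeometry CategoryTheory Limits in
/-- Let Y be a locally Noetherian scheme, f : X ⟶ Y locally of finite type, F a coherent f-flat
O_X-module and g₁, …, gₙ sections of O_X over X. Then the set of points x of X, with y = f x, such
that the germs (gᵢ)_x form a weakly regular sequence on the fibre module F_x / m_y F_x (each gᵢ is a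
non-zero-divisor on the quotient by the preceding ones; the quotient by all of them may be zero) is
open in X. -/
theorem result {X Y : Scheme.{u}} [IsLocallyNoetherian Y] (f : X ⟶ Y)
    [LocallyOfFiniteType f] (F : X.Modules) (hF : Coh.IsCoh F) (hflat : FlatMod.IsFlatOver f F)
    (n : ℕ) (g : Fin n → Γ(X, ⊤)) :
    IsOpen {x : X |
      RingTheory.Sequence.IsWeaklyRegular
        (↑(F.presheaf.stalk x) ⧸ (Ideal.map (f.stalkMap x).hom (IsLocalRing.maximalIdeal ↑(Y.presheaf.stalk (f x))) •
          (⊤ : Submodule ↑(X.presheaf.stalk x) ↑(F.presheaf.stalk x))))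
        (List.ofFn fun i => (X.presheaf.germ ⊤ x trivial) (g i))} := by
  classical
  rw [isOpen_iff_forall_mem_open]
  intro x hx
  obtain ⟨_, ⟨V, hV, rfl⟩, hxV, -⟩ :=
    Y.isBasis_affineOpens.exists_subset_of_mem_open (Set.mem_univ (f.base x)) isOpen_univ
  have hV : IsAffineOpen V := hV
  obtain ⟨_, ⟨U, hU, rfl⟩, hxU, hle⟩ :=
    X.isBasis_affineOpens.exists_subset_of_mem_open (show x ∈ f ⁻¹ᵁ V from hxV) (f ⁻¹ᵁ V).2
  have hU : IsAffineOpen U := hU
  haveI : IsLocallyNoetherian X := LocallyOfFiniteType.isLocallyNoetherian f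
  haveI := IsLocallyNoetherian.component_noetherian (X := Y) ⟨V, hV⟩
  haveI := IsLocallyNoetherian.component_noetherian (X := X) ⟨U, hU⟩
  letI : Algebra Γ(Y, V) Γ(X, U) := (f.appLE V U hle).hom.toAlgebra
  letI : Module Γ(Y, V) Γ(F, U) := Module.compHom _ (f.appLE V U hle).hom
  haveI : IsScalarTower Γ(Y, V) Γ(X, U) Γ(F, U) := IsScalarTower.of_algebraMap_smul fun _ _ => rfl
  haveI : Algebra.FiniteType Γ(Y, V) Γ(X, U) := f.finiteType_appLE hV hU hle
  haveI : Algebra.FinitePresentation Γ(Y, V) Γ(X, U) := Algebra.FinitePresentation.of_finiteType.1 inferInstance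
  haveI : Module.Finite Γ(X, U) Γ(F, U) := Groth.Agent.QCoh.finite_of_isFT hF.1 hF.2 hU
  haveI : Module.FinitePresentation Γ(X, U) Γ(F, U) := Module.finitePresentation_of_finite _ _
  let gU : List Γ(X, U) := List.ofFn fun i => X.presheaf.map (homOfLE (le_top : U ≤ ⊤)).op (g i)
  have key := fun (y : X) (hy : y ∈ U) =>
    Groth.Agent.FibInj.isWeaklyRegular_fibre_iff f F hF.1 y hU hV hle hy g
  obtain ⟨c, hc, hnhd⟩ := Groth.Agent.FibInj.exists_nhd_fibreInjective (A := Γ(Y, V))
    (hU.primeIdealOf ⟨x, hxU⟩).asIdeal gU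
    (Groth.Agent.FibInj.flat_localized_of_isFlatOverAt f F hF.1 x hU hV hle hxU (hflat x))
    ((key x hxU).1 hx)
  refine ⟨X.basicOpen c, fun y hy => ?_, (X.basicOpen c).2,
    (Groth.Agent.QCoh.mem_basicOpen_iff_notMem hU hxU c).2 hc⟩
  have hyU : y ∈ U := X.basicOpen_le c hy
  exact (key y hyU).2 (hnhd _ inferInstance ((Groth.Agent.QCoh.mem_basicOpen_iff_notMem hU hyU c).1 hy))

end Groth.Agent.S4866
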