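import Groth.Statements.S4886
import Groth.Agent.ZetaLib.SchemeCount
import Groth.Agent.FtPts6.Basic

set_option autoImplicit false
universe u
open CategoryTheory AlgebraicGeometry
open EGA43

namespace Groth.Agent.S4886

/-- Let Y be a scheme of finite type over ℤ. (i) A point y of Y is closed if and only if the residue
field k(y) is finite. (ii) For every prime number p and every integer d ≥ 1, the set of points y of
Y such that k(y) is an extension of 𝔽_p of degree dividing d, i.e. admits a ring homomorphism into
the field with p^d elements, is finite. -/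
theorem result (Y : Scheme.{u}) [CompactSpace Y]
    [LocallyOfFiniteType (Limits.IsTerminal.from specULiftZIsTerminal Y)] :
    (∀ y : Y, IsClosed ({y} : Set Y) ↔ Finite ↑(Y.residueField y)) ∧
    ∀ (p d : ℕ) [Fact p.Prime], 0 < d →
      {y : Y | Nonempty (↑(Y.residueField y) →+* GaloisField p d)}.Finite := by
  have : QuasiCompact (Limits.IsTerminal.from specULiftZIsTerminal Y) :=
    quasiCompact_of_compactSpace _
  let f := Limits.IsTerminal.from specULiftZIsTerminal Y
  have hJ : IsJacobsonRing (ULift.{u} ℤ) := by
    have := ZetaLib.isJacobsonRing_int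
    exact isJacobsonRing_of_surjective ⟨(ULift.ringEquiv (R := ℤ)).symm.toRingHom,
      (ULift.ringEquiv (R := ℤ)).symm.surjective⟩
  have : JacobsonSpace Y := LocallyOfFiniteType.jacobsonSpace f
  refine ⟨fun y => ⟨fun hy => ZetaLib.finite_residueField f hy, fun hy => ?_⟩, fun p d _ hd => ?_⟩
  · have h1 : LocallyOfFiniteType (Y.fromSpecResidueField y ≫ f) := by
      rw [← Spec.map_preimage (Y.fromSpecResidueField y ≫ f), HasRingHomProperty.Spec_iff (P := @LocallyOfFiniteType)]
      exact ZetaLib.finiteType_of_finite _
    have h2 : LocallyOfFiniteType (Y.fromSpecResidueField y) := locallyOfFiniteType_of_comp _ f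
    obtain ⟨z, hz, hzc⟩ := nonempty_inter_closedPoints (Set.singleton_nonempty y)
      (FtPts6.isLocallyClosed_singleton_of_locallyOfFiniteType h2)
    rwa [Set.mem_singleton_iff.1 hz, mem_closedPoints_iff] at hzc
  · obtain ⟨n, A, j, hj, hA, -, hcov⟩ := ZetaLib.exists_affine_cover f
    have : Finite (GaloisField p d) :=
      Nat.finite_of_card_ne_zero (by rw [GaloisField.card p d hd.ne']; exact pow_ne_zero _ (Fact.out : p.Prime).ne_zero)
    have : ∀ i, Finite ((A i : Type u) →+* GaloisField p d) := fun i => ZetaLib.finite_ringHom _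
    refine (Set.finite_range (fun t : Σ i, ((A i : Type u) →+* GaloisField p d) =>
      j t.1 ⟨RingHom.ker t.2, RingHom.ker_isPrime _⟩)).subset ?_
    rintro y ⟨φ⟩
    obtain ⟨i, q, rfl⟩ := hcov y
    let q : PrimeSpectrum (A i) := q
    let ψ : (A i).carrier →+* GaloisField p d :=
      (φ.comp ((inv ((j i).residueFieldMap q)).hom.comp (Scheme.Spec.residueFieldIso (A i) q).inv.hom)).comp
        (algebraMap (A i) q.asIdeal.ResidueField)
    refine ⟨⟨i, ψ⟩, congrArg (j i) (PrimeSpectrum.ext ?_)⟩
    change RingHom.ker ψ = q.asIdeal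
    ext a
    simp only [ψ, RingHom.mem_ker, RingHom.comp_apply, map_eq_zero]
    exact Ideal.algebraMap_residueField_eq_zero

end Groth.Agent.S4886
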