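import Groth.Statements.S4896
import Groth.Agent.RegBiequi.Jacobson

set_option autoImplicit false
universe u
open CategoryTheory AlgebraicGeometry
open EGA43

namespace Groth.Agent.S4896

/-- Let S be locally Noetherian, Jacobson and regular with equidimensional irreducible components, g : X
⟶ S locally of finite type and F a coherent O_X-module. For every point x of X the rectified depth
prof*_x(F) = prof(F_x) + dim cl{x} is the unique n (a natural number or ∞) such that, for some open
neighbourhood U of x, prof(F_{x'}) = n for every point x' of U ∩ cl{x} which is closed in U. -/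
theorem result {X S : Scheme.{u}} [IsLocallyNoetherian S] [JacobsonSpace S]
    (hreg : ∀ s : S, IsRegularLocalRing ↑(S.presheaf.stalk s))
    (h3 : ∀ S' ∈ irreducibleComponents (S : Type u), ∀ s ∈ S', IsClosed ({s} : Set S) →
      topologicalKrullDim (↥S' : Type u) = topologicalKrullDim ↥{t : S | t ∈ S' ∧ t ⤳ s})
    (g : X ⟶ S) [LocallyOfFiniteType g] (F : X.Modules) (hF : Coh.IsCoh F) (x : X) :
    letI pstar : WithBot ℕ∞ :=
      ((LocCoh.depth ↑(X.presheaf.stalk x) ↑(F.presheaf.stalk x) : ℕ∞) : WithBot ℕ∞) +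
        topologicalKrullDim ↥(closure ({x} : Set X))
    ∀ n : ℕ∞,
      (∃ U : X.Opens, x ∈ U ∧ ∀ x' : ↥U, (x' : X) ∈ closure ({x} : Set X) → IsClosed ({x'} : Set ↥U) →
        LocCoh.depth ↑(X.presheaf.stalk (x' : X)) ↑(F.presheaf.stalk (x' : X)) = n) ↔
      ((n : WithBot ℕ∞) = pstar) := by
  haveI := LocallyOfFiniteType.isLocallyNoetherian g
  haveI : JacobsonSpace X := LocallyOfFiniteType.jacobsonSpace g
  have hcat : ∀ s : S, CAlg.IsUniversallyCatenary (S.presheaf.stalk s) := fun s => by
    haveI := hreg s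
    exact Groth.Agent.RegBiequi.catenary_of_regular _
  have hS := Groth.Agent.DimFormula.dimGood_of hcat h3
  have hX := (Groth.Agent.DimFormula.dimGood_of_locallyOfFiniteType g hS hcat).1
  have hopen := Groth.Agent.RegBiequi.isOpen_le_pstar hreg hS g F hF
  -- a neighbourhood on which the rectified depth is constant along the closure
  obtain ⟨U₀, hxU₀, hU₀⟩ : ∃ U₀ : X.Opens, x ∈ U₀ ∧ ∀ y ∈ U₀, x ⤳ y →
      Groth.Agent.RegBiequi.pstar F y = Groth.Agent.RegBiequi.pstar F x := by
    generalize hv : Groth.Agent.RegBiequi.pstar F x = v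
    induction v using ENat.recTopCoe with
    | top =>
      have hsub : x ∉ CohB1.support F := fun hx => by
        haveI : Nontrivial ↑(F.presheaf.stalk x) := not_subsingleton_iff_nontrivial.1 hx
        haveI := Groth.Agent.QCoh.finite_stalk_of_isFT hF.1 hF.2 x
        haveI : IsNoetherianRing ↑(X.presheaf.stalk x) := inferInstance
        obtain ⟨a, ha⟩ := Groth.Agent.LC.exists_depth_eq_nat (R := ↑(X.presheaf.stalk x)) ↑(F.presheaf.stalk x)
        rw [Groth.Agent.RegBiequi.pstar, ha, ← Nat.cast_add] at hv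
        exact ENat.natCast_ne_top _ hv
      refine ⟨⟨_, (Groth.Agent.QCoh.isClosed_support_of_isFT hF.1 hF.2).isOpen_compl⟩, hsub, fun y hy _ => ?_⟩
      haveI : Subsingleton ↑(F.presheaf.stalk y) := not_not.1 hy
      rw [Groth.Agent.RegBiequi.pstar, LocCoh.depth, LocCoh.idealDepth, if_pos (Subsingleton.elim _ _), top_add]
    | coe m =>
      refine ⟨⟨_, hopen m⟩, hv.ge, fun y hy hxy => le_antisymm ?_ hy⟩
      by_contra hlt
      have h1 : ((m + 1 : ℕ) : ℕ∞) ≤ Groth.Agent.RegBiequi.pstar F x := hxy.mem_open (hopen (m + 1))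
        (show ((m + 1 : ℕ) : ℕ∞) ≤ _ by
          rw [Nat.cast_add, Nat.cast_one]
          exact (ENat.add_one_le_iff (ENat.natCast_ne_top m)).2 (not_le.1 hlt))
      rw [hv] at h1
      have h2 : m + 1 ≤ m := by exact_mod_cast h1
      omega
  intro n
  have hzero : ∀ y : X, IsClosed ({y} : Set X) →
      Groth.Agent.RegBiequi.pstar F y = LocCoh.depth ↑(X.presheaf.stalk y) ↑(F.presheaf.stalk y) := by
    intro y hy
    rw [Groth.Agent.RegBiequi.pstar, hX.dd_eq specializes_rfl hy, Groth.Agent.DimFormula.cd_self, Nat.cast_zero,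
      add_zero]
  rw [Groth.Agent.RegBiequi.coe_pstar hX F x, WithBot.coe_inj]
  constructor
  · rintro ⟨U, hxU, hU⟩
    obtain ⟨y, ⟨hyx, hyU, hyU₀⟩, hy⟩ := nonempty_inter_closedPoints
      (Z := closure ({x} : Set X) ∩ ((U : Set X) ∩ U₀)) ⟨x, subset_closure rfl, hxU, hxU₀⟩
      (isClosed_closure.isLocallyClosed.inter (U.isOpen.inter U₀.isOpen).isLocallyClosed)
    have hc : IsClosed ({(⟨y, hyU⟩ : ↥U)} : Set ↥U) := by
      convert IsClosed.preimage continuous_subtype_val hy using 1
      ext z
      simp [Subtype.ext_iff]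
    rw [← hU ⟨y, hyU⟩ hyx hc, ← hzero y hy]
    exact hU₀ y hyU₀ (specializes_iff_mem_closure.2 hyx)
  · intro hn
    refine ⟨U₀, hxU₀, fun y hy hc => ?_⟩
    have hcl : IsClosed ({(y : X)} : Set X) := by
      apply isClosed_singleton_of_isLocallyClosed_singleton
      rw [← Set.image_singleton]
      exact hc.isLocallyClosed.image Topology.IsInducing.subtypeVal (by
        rw [Subtype.range_coe]
        exact U₀.isOpen.isLocallyClosed)
    rw [← hzero y hcl, hn]
    exact hU₀ y y.2 (specializes_iff_mem_closure.2 hy)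

end Groth.Agent.S4896
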