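import Groth.Statements.S4901
import Groth.Agent.FibInj.BaseChange
-- import your own Groth.Agent.* helpers here

set_option autoImplicit false
set_option linter.style.haveILetI false
universe u
open CategoryTheory AlgebraicGeometry
open EGA43

namespace Groth.Agent.S4901

open CategoryTheory.Limits in
/-- Let S be the limit of a cofiltered system (S_i) of schemes with affine transition morphisms, i₀ an
index, f₀ : X₀ ⟶ Y₀ a morphism locally of finite presentation of S_{i₀}-schemes, F₀ and G₀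
quasi-coherent O_{X₀}-modules of finite presentation and h₀ : F₀ ⟶ G₀ a homomorphism; let f : X ⟶ Y
and h = q^*h₀ be the base changes to S and x a point of X. Then the stalk map h_x is injective and
Coker h is f-flat at x if and only if there are an index i over i₀ and base changes f_i : X_i ⟶ Y_i,
h_i = p^*h₀ to S_i (pullback squares with the compatible morphisms X ⟶ X_i, Y ⟶ Y_i) such that
(h_i)_{x_i} is injective and Coker h_i is f_i-flat at the image x_i of x. -/
theorem result {I : Type u} [SmallCategory I] [IsCofiltered I]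
    (D : I ⥤ Scheme.{u}) (c : Limits.Cone D) (hc : Limits.IsLimit c)
    [∀ (i j : I) (φ : i ⟶ j), IsAffineHom (D.map φ)] (i₀ : I)
    {X₀ Y₀ : Scheme.{u}} (f₀ : X₀ ⟶ Y₀) (g₀ : Y₀ ⟶ D.obj i₀) [LocallyOfFinitePresentation f₀]
    (F₀ G₀ : X₀.Modules) [Coh.IsQCoh F₀] [Coh.IsQCoh G₀] (hF₀ : CohB1.IsFP F₀) (hG₀ : CohB1.IsFP G₀)
    (h₀ : F₀ ⟶ G₀)
    {X Y : Scheme.{u}} (f : X ⟶ Y) (g : Y ⟶ c.pt) (qY : Y ⟶ Y₀) (qX : X ⟶ X₀)
    (hY : IsPullback qY g g₀ (c.π.app i₀)) (hX : IsPullback qX f f₀ qY) (x : X) :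
    (Function.Injective ((TopCat.Presheaf.stalkFunctor Ab x).map
        (Scheme.Modules.Hom.mapPresheaf ((Scheme.Modules.pullback qX).map h₀))) ∧
      FlatMod.IsFlatOverAt f (cokernel ((Scheme.Modules.pullback qX).map h₀)) x) ↔
      ∃ (i : I) (φ : i ⟶ i₀) (Xi Yi : Scheme.{u}) (fi : Xi ⟶ Yi) (gi : Yi ⟶ D.obj i)
        (pY : Yi ⟶ Y₀) (pX : Xi ⟶ X₀) (vY : Y ⟶ Yi) (vX : X ⟶ Xi),
        IsPullback pY gi g₀ (D.map φ) ∧ IsPullback pX fi f₀ pY ∧
          vY ≫ pY = qY ∧ vY ≫ gi = g ≫ c.π.app i ∧ vX ≫ pX = qX ∧ vX ≫ fi = f ≫ vY ∧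
          Function.Injective ((TopCat.Presheaf.stalkFunctor Ab (vX x)).map
            (Scheme.Modules.Hom.mapPresheaf ((Scheme.Modules.pullback pX).map h₀))) ∧
          FlatMod.IsFlatOverAt fi (cokernel ((Scheme.Modules.pullback pX).map h₀)) (vX x) := by
  constructor
  · intro hg
    obtain ⟨i, φ, hk⟩ := Groth.Agent.FibInj.descends_of_good_limit hY hX h₀ hc hF₀ hG₀ x hg
    have hi := IsPullback.of_hasPullback g₀ (D.map φ)
    have hXi := IsPullback.of_hasPullback f₀ (pullback.fst g₀ (D.map φ))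
    exact ⟨i, φ, _, _, _, _, _, _, Groth.Agent.FibInj.liftY hY hi, Groth.Agent.FibInj.liftX hY hX hi hXi, hi, hXi,
      hi.lift_fst _ _ _, hi.lift_snd _ _ _, hXi.lift_fst _ _ _, hXi.lift_snd _ _ _,
      hk _ _ _ _ _ _ _ _ hi hXi (hi.lift_fst _ _ _) (hi.lift_snd _ _ _) (hXi.lift_fst _ _ _) (hXi.lift_snd _ _ _)⟩
  · rintro ⟨i, φ, Xi, Yi, fi, gi, pY, pX, vY, vX, hi, hXi, h1, h2, h3, h4, hg⟩
    haveI : ∀ {i j : I} (φ : i ⟶ j), IsAffineHom (D.map φ) := fun φ => inferInstance
    haveI := isAffineHom_π_app D c hc i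
    have hY' : IsPullback vY g gi (c.π.app i) := IsPullback.of_right (by rw [h1, c.w]; exact hY) h2 hi
    have hX' : IsPullback vX f fi vY := IsPullback.of_right (by rw [h3, h1]; exact hX) h4 hXi
    haveI : IsAffineHom vY := MorphismProperty.of_isPullback hY'.flip inferInstance
    haveI : LocallyOfFinitePresentation fi := MorphismProperty.of_isPullback hXi inferInstance
    exact (Groth.Agent.FibInj.good_iff_of_arrowIso f (Groth.Agent.FlatLimHx.pullbackCompArrow vX pX h₀ ≪≫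
      Groth.Agent.FlatLimHx.pullbackEqArrow h3 h₀) x).1
      (Groth.Agent.FibInj.good_baseChange hX' (Groth.Agent.ModStLib.isFP_pullback pX hF₀)
        (Groth.Agent.ModStLib.isFP_pullback pX hG₀) _ x hg)

end Groth.Agent.S4901
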