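import Groth.Statements.S4900
import Groth.Agent.S4901
import Groth.Agent.QCoh.Serre
import Groth.Agent.S12442
-- import your own Groth.Agent.* helpers here

set_option autoImplicit false
universe u
open CategoryTheory AlgebraicGeometry
open EGA43
open CategoryTheory.Limits

namespace Groth.Agent.S4900

/-- Let S be the limit of a cofiltered system (S_i) of schemes with affine transition morphisms, S_{i₀}
a quasi-compact stage, f₀ : X₀ ⟶ Y₀ an S_{i₀}-morphism between schemes of finite presentation over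
S_{i₀}, F₀ a quasi-coherent O_{X₀}-module of finite presentation, f : X ⟶ Y and F the base changes
to S, and x a point of X. Then F is f-flat at x if and only if there are an index i over i₀ and base
changes f_i : X_i ⟶ Y_i, F_i of f₀, F₀ to S_i (pullback squares, with the induced compatible
morphisms X ⟶ X_i, Y ⟶ Y_i) such that F_i is f_i-flat at the image x_i of x in X_i. -/
theorem result {I : Type u} [SmallCategory I] [IsCofiltered I]
    (D : I ⥤ Scheme.{u}) (c : Limits.Cone D) (hc : Limits.IsLimit c)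
    [∀ (i j : I) (φ : i ⟶ j), IsAffineHom (D.map φ)] (i₀ : I) [CompactSpace (D.obj i₀)]
    {X₀ Y₀ : Scheme.{u}} (f₀ : X₀ ⟶ Y₀) (g₀ : Y₀ ⟶ D.obj i₀)
    [LocallyOfFinitePresentation g₀] [QuasiCompact g₀] [QuasiSeparated g₀]
    [LocallyOfFinitePresentation (f₀ ≫ g₀)] [QuasiCompact (f₀ ≫ g₀)] [QuasiSeparated (f₀ ≫ g₀)]
    (F₀ : X₀.Modules) [Coh.IsQCoh F₀] (hF₀ : CohB1.IsFP F₀)
    {X Y : Scheme.{u}} (f : X ⟶ Y) (g : Y ⟶ c.pt) (qY : Y ⟶ Y₀) (qX : X ⟶ X₀)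
    (hY : IsPullback qY g g₀ (c.π.app i₀)) (hX : IsPullback qX f f₀ qY) (x : X) :
    FlatMod.IsFlatOverAt f ((Scheme.Modules.pullback qX).obj F₀) x ↔
      ∃ (i : I) (φ : i ⟶ i₀) (Xi Yi : Scheme.{u}) (fi : Xi ⟶ Yi) (gi : Yi ⟶ D.obj i)
        (pY : Yi ⟶ Y₀) (pX : Xi ⟶ X₀) (vY : Y ⟶ Yi) (vX : X ⟶ Xi),
        IsPullback pY gi g₀ (D.map φ) ∧ IsPullback pX fi f₀ pY ∧
          vY ≫ pY = qY ∧ vY ≫ gi = g ≫ c.π.app i ∧ vX ≫ pX = qX ∧ vX ≫ fi = f ≫ vY ∧
          FlatMod.IsFlatOverAt fi ((Scheme.Modules.pullback pX).obj F₀) (vX x) := by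
  have key : ∀ {Z W : Scheme.{u}} (q : Z ⟶ W) {N M : Z.Modules} (h : N ⟶ M) (_ : IsZero N) (z : Z),
      Groth.Agent.FibInj.Good q h z ↔ FlatMod.IsFlatOverAt q M z := by
    intro Z W q N M h hN z
    obtain rfl : h = 0 := hN.eq_of_src _ _
    let e : cokernel (0 : N ⟶ M) ≅ M := cokernelZeroIsoTarget
    refine ⟨fun hg => Groth.Agent.GrFlat5.isFlatOverAt_of_iso q e z hg.2,
      fun hf => ⟨(Groth.Agent.FibInj.injective_iff_mono _ z).2 ?_,
        Groth.Agent.GrFlat5.isFlatOverAt_of_iso q e.symm z hf⟩⟩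
    exact ((DerSch.stalkFunctor Z z).map_isZero hN).mono _
  obtain ⟨Z₀, hZ⟩ := HasZeroObject.zero (C := X₀.Modules)
  have hpb : ∀ {Z : Scheme.{u}} (q : Z ⟶ X₀), IsZero ((Scheme.Modules.pullback q).obj Z₀) := fun q => by
    haveI : (Scheme.Modules.pullback q).IsLeftAdjoint :=
      (Scheme.Modules.pullbackPushforwardAdjunction q).isLeftAdjoint
    exact (Scheme.Modules.pullback q).map_isZero hZ
  haveI : Coh.IsQCoh Z₀ := Groth.Agent.QCoh.isQCoh_of_isZero hZ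
  have hZfp : CohB1.IsFP Z₀ := by
    refine Groth.Agent.QCoh.isFP_of_finitePresentation inferInstance (fun U : X₀.affineOpens => (U : X₀.Opens))
      (iSup_affineOpens_eq_top _) (fun U => U.2) fun U => ?_
    haveI : Subsingleton Γ(Z₀, (U : X₀.Opens)) := subsingleton_of_forall_eq 0 fun x => by
      have := congrArg (fun φ : Z₀ ⟶ Z₀ => φ.app U x) (hZ.eq_of_src (𝟙 Z₀) 0)
      simpa using this
    infer_instance
  haveI : LocallyOfFinitePresentation f₀ := Groth.Agent.S12442.result f₀ g₀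
  have h := Groth.Agent.S4901.result D c hc i₀ f₀ g₀ Z₀ F₀ hZfp hF₀ (0 : Z₀ ⟶ F₀) f g qY qX hY hX x
  constructor
  · intro hf
    obtain ⟨i, φ, Xi, Yi, fi, gi, pY, pX, vY, vX, h1, h2, h3, h4, h5, h6, h7, h8⟩ :=
      h.1 ((key f _ (hpb qX) x).2 hf)
    exact ⟨i, φ, Xi, Yi, fi, gi, pY, pX, vY, vX, h1, h2, h3, h4, h5, h6, (key fi _ (hpb pX) _).1 ⟨h7, h8⟩⟩
  · rintro ⟨i, φ, Xi, Yi, fi, gi, pY, pX, vY, vX, h1, h2, h3, h4, h5, h6, hf⟩
    exact (key f _ (hpb qX) x).1 (h.2 ⟨i, φ, Xi, Yi, fi, gi, pY, pX, vY, vX, h1, h2, h3, h4, h5, h6,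
      (key fi _ (hpb pX) _).2 hf⟩)

end Groth.Agent.S4900
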