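import Groth.Statements.S4906
import Groth.Agent.RegBiequi.Basic
import Groth.Agent.S0563
import Groth.Agent.S0604

set_option autoImplicit false
universe u
open CategoryTheory AlgebraicGeometry
open EGA43

namespace Groth.Agent.S4906

/-- Let X be a regular biequidimensional scheme — Noetherian, with regular local rings, of finite
dimension, with all irreducible components of dimension dim X and with dim T = dim cl{y} +
codim(cl{y}, T) for every closed irreducible T and point y of T — and F a coherent O_X-module. Then
for every point x of the support of F one has prof(F_x) + dim cl{x} + proj.dim(F_x) = dim X, that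
is, the rectified depth prof*_x(F) equals dim X − proj.dim_{O_{X,x}}(F_x). -/
theorem result (X : Scheme.{u}) [IsNoetherian X]
    (hreg : ∀ x : X, IsRegularLocalRing ↑(X.presheaf.stalk x))
    (hfin : topologicalKrullDim X < ⊤)
    (hcomp : ∀ C ∈ irreducibleComponents (X : Type u), topologicalKrullDim ↥C = topologicalKrullDim X)
    (hchain : ∀ (y : X) (T : Set X), IsClosed T → IsIrreducible T → y ∈ T →
      topologicalKrullDim ↥T = topologicalKrullDim ↥(closure ({y} : Set X)) + topologicalKrullDim ↥{t : X | t ∈ T ∧ t ⤳ y})
    (F : X.Modules) (hF : Coh.IsCoh F) (x : X) (hx : x ∈ CohB1.support F) :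
    ((LocCoh.depth ↑(X.presheaf.stalk x) ↑(F.presheaf.stalk x) : ℕ∞) : WithBot ℕ∞) +
        topologicalKrullDim ↥(closure ({x} : Set X)) +
        projectiveDimension (ModuleCat.of ↑(X.presheaf.stalk x) ↑(F.presheaf.stalk x)) =
      topologicalKrullDim X := by
  haveI := hreg x
  obtain ⟨c, d, D, hc, hd, hdd, hD, hsum⟩ := Groth.Agent.RegBiequi.exists_dims hreg hfin hcomp hchain x
  haveI : Nontrivial ↑(F.presheaf.stalk x) := not_subsingleton_iff_nontrivial.1 hx
  haveI := Groth.Agent.QCoh.finite_stalk_of_isFT hF.1 hF.2 x
  set M := ModuleCat.of ↑(X.presheaf.stalk x) ↑(F.presheaf.stalk x) with hM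
  have hle : projectiveDimension M ≤ (d : WithBot ℕ∞) :=
    (projectiveDimension_le_iff _ _).2
      (Groth.Agent.S0563.result ↑(X.presheaf.stalk x) d hd ↑(F.presheaf.stalk x))
  have hne : projectiveDimension M ≠ ⊥ := by
    rw [ne_eq, projectiveDimension_eq_bot_iff, ModuleCat.isZero_iff_subsingleton]
    exact hx
  obtain ⟨e, he⟩ : ∃ e : ℕ, projectiveDimension M = e := by
    generalize projectiveDimension M = p at hle hne
    induction p with
    | bot => exact absurd rfl hne
    | coe p =>
      have hp : p ≤ (d : ℕ∞) := by exact_mod_cast hle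
      obtain ⟨m, rfl⟩ := ENat.ne_top_iff_exists.mp (hp.trans_lt (ENat.natCast_lt_top d)).ne
      exact ⟨m, rfl⟩
  have hab := Groth.Agent.S0604.result ↑(X.presheaf.stalk x) ↑(F.presheaf.stalk x) e he
  rw [hdd] at hab
  rw [he, hc, hD]
  generalize LocCoh.depth ↑(X.presheaf.stalk x) ↑(F.presheaf.stalk x) = a at hab
  induction a using ENat.recTopCoe with
  | top => simp at hab
  | coe a =>
    have h : d = e + a := by exact_mod_cast hab
    exact_mod_cast (show a + c + e = D by omega)

end Groth.Agent.S4906
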