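import Groth.Statements.S4907
import Groth.Agent.RegBiequi.Basic

set_option autoImplicit false
universe u
open CategoryTheory AlgebraicGeometry
open EGA43

namespace Groth.Agent.S4907

/-- Let X be a regular biequidimensional scheme (Noetherian, regular local rings, finite dimension, all
irreducible components of dimension dim X, and dim T = dim cl{y} + codim(cl{y}, T) for every closed
irreducible T and point y of T) and F a coherent O_X-module. Then the rectified depth x ↦ prof(F_x)
+ dim cl{x} is lower semicontinuous: for every integer n the set of x with prof(F_x) + dim cl{x} ≥ n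
is open. -/
theorem result (X : Scheme.{u}) [IsNoetherian X]
    (hreg : ∀ x : X, IsRegularLocalRing ↑(X.presheaf.stalk x))
    (hfin : topologicalKrullDim X < ⊤)
    (hcomp : ∀ C ∈ irreducibleComponents (X : Type u), topologicalKrullDim ↥C = topologicalKrullDim X)
    (hchain : ∀ (y : X) (T : Set X), IsClosed T → IsIrreducible T → y ∈ T →
      topologicalKrullDim ↥T = topologicalKrullDim ↥(closure ({y} : Set X)) + topologicalKrullDim ↥{t : X | t ∈ T ∧ t ⤳ y})
    (F : X.Modules) (hF : Coh.IsCoh F) (n : ℕ) :
    IsOpen {x : X | (n : WithBot ℕ∞) ≤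
      ((LocCoh.depth ↑(X.presheaf.stalk x) ↑(F.presheaf.stalk x) : ℕ∞) : WithBot ℕ∞) +
        topologicalKrullDim ↥(closure ({x} : Set X))} := by
  rcases isEmpty_or_nonempty X with hX | hX
  · convert isOpen_empty
    exact Subsingleton.elim _ _
  obtain ⟨x₀⟩ := hX
  obtain ⟨-, -, D, -, -, -, hD, -⟩ := Groth.Agent.RegBiequi.exists_dims hreg hfin hcomp hchain x₀
  rcases le_or_gt n D with hn | hn
  · convert Groth.Agent.RegBiequi.isOpen_defect hreg F hF (D - n) using 1
    ext x
    obtain ⟨c, d, D', hc, hd, -, hD', hsum⟩ := Groth.Agent.RegBiequi.exists_dims hreg hfin hcomp hchain x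
    rw [hD] at hD'
    obtain rfl : D = D' := by exact_mod_cast hD'
    rw [Set.mem_setOf_eq, Set.mem_setOf_eq, Groth.Agent.RegBiequi.Defect, hc, hd,
      Groth.Agent.RegBiequi.cast_le_iff, Groth.Agent.RegBiequi.cast_le_iff]
    generalize LocCoh.depth ↑(X.presheaf.stalk x) ↑(F.presheaf.stalk x) = a
    induction a using ENat.recTopCoe with
    | top =>
      constructor <;> intro _ <;> simp
    | coe a =>
      constructor <;> intro h
      · have h' : n ≤ a + c := by exact_mod_cast h
        exact_mod_cast (show d ≤ a + (D - n) by omega)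
      · have h' : d ≤ a + (D - n) := by exact_mod_cast h
        exact_mod_cast (show n ≤ a + c by omega)
  · convert (Groth.Agent.QCoh.isClosed_support_of_isFT hF.1 hF.2).isOpen_compl using 1
    ext x
    obtain ⟨c, d, D', hc, hd, hdd, hD', hsum⟩ := Groth.Agent.RegBiequi.exists_dims hreg hfin hcomp hchain x
    rw [hD] at hD'
    obtain rfl : D = D' := by exact_mod_cast hD'
    rw [Set.mem_setOf_eq, hc, Groth.Agent.RegBiequi.cast_le_iff]
    constructor
    · intro h hx
      haveI := hreg x
      haveI : Nontrivial ↑(F.presheaf.stalk x) := not_subsingleton_iff_nontrivial.1 hx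
      haveI := Groth.Agent.QCoh.finite_stalk_of_isFT hF.1 hF.2 x
      have hle := (Groth.Agent.LC.depth_le_supportDim (R := ↑(X.presheaf.stalk x)) ↑(F.presheaf.stalk x)).trans
        ((Module.supportDim_le_ringKrullDim _ _).trans_eq hd)
      generalize LocCoh.depth ↑(X.presheaf.stalk x) ↑(F.presheaf.stalk x) = a at hle h
      induction a using ENat.recTopCoe with
      | top =>
        rw [← WithBot.coe_natCast, WithBot.coe_le_coe] at hle
        exact absurd (le_antisymm le_top hle) (ENat.natCast_ne_top d)
      | coe a =>
        have h' : n ≤ a + c := by exact_mod_cast h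
        have h'' : a ≤ d := by exact_mod_cast hle
        omega
    · intro hx
      haveI : Subsingleton ↑(F.presheaf.stalk x) := not_not.1 hx
      rw [LocCoh.depth, LocCoh.idealDepth, if_pos (Subsingleton.elim _ _)]
      simp

end Groth.Agent.S4907
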