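import Groth.Statements.S4947
import Groth.Agent.LinType.Basic
import Groth.Agent.CAlgGlobalDim.RegSeq
import Groth.Agent.RegLoc6.Basic

set_option autoImplicit false
set_option linter.style.haveILetI false
set_option backward.isDefEq.respectTransparency false
set_option backward.isDefEq.respectTransparency.types false

open CategoryTheory AlgebraicGeometry IsLocalRing
universe u
open EGA43

namespace Groth.Agent.S4947

open MvPolynomial in
/-- The affine chart of the blow-up of the closed point and its exceptional divisor. -/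
theorem exists_chart (A : Type u) [CommRing A] [IsRegularLocalRing A] [IsDomain A] (hA : ¬ IsField A) :
    ∃ (B : Subalgebra A (FractionRing A)) (x : B) (n : ℕ) (χ : B →+* MvPolynomial (Fin n) (ResidueField A)),
      IsNoetherianRing B ∧ x ≠ 0 ∧ Function.Surjective χ ∧ RingHom.ker χ = Ideal.span {x} ∧
      ∀ a : A, χ (algebraMap A B a) = C (residue A a) := by
  classical
  let m := maximalIdeal A
  have hm0 : m ≠ ⊥ := fun h => hA (IsLocalRing.isField_iff_maximalIdeal_eq.2 h)
  have hfg : m.FG := m.fg_of_isNoetherianRing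
  have fin := Submodule.FG.finite_generators hfg
  have hcard : fin.toFinset.card = m.spanFinrank := by
    rw [← Set.ncard_eq_toFinset_card _ fin, Submodule.FG.generators_ncard hfg]
  obtain ⟨n, hn⟩ : ∃ n, fin.toFinset.card = n + 1 := by
    refine Nat.exists_eq_succ_of_ne_zero fun h => hm0 ?_
    have h1 := m.span_generators
    rw [← fin.coe_toFinset, Finset.card_eq_zero.1 h, Finset.coe_empty] at h1
    exact h1.symm.trans Submodule.span_empty
  let e := fin.toFinset.equivFinOfCardEq hn
  let a : Fin (n + 1) → A := fun i => (e.symm i).1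
  have hspan : Ideal.span (Set.range a) = m := by
    rw [← m.span_generators]
    congr 1
    ext z
    refine ⟨?_, fun hz => ⟨e ⟨z, fin.mem_toFinset.2 hz⟩, by simp [a]⟩⟩
    rintro ⟨i, rfl⟩
    exact fin.mem_toFinset.1 (e.symm i).2
  have hreg : RingTheory.Sequence.IsWeaklyRegular A (List.ofFn a) :=
    CAlgGlobalDim.isWeaklyRegular_of_generators (n + 1) A (List.ofFn a) (List.length_ofFn)
      ((CAlgGlobalDim.ofList_ofFn a).trans hspan) (by rw [← hn, hcard])
  have ha0 : a 0 ≠ 0 := by
    have h := hreg
    rw [List.ofFn_succ, RingTheory.Sequence.isWeaklyRegular_cons_iff] at h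
    intro h0
    exact one_ne_zero (h.1 (show a 0 • (1 : A) = a 0 • (0 : A) by simp [h0]))
  let K := FractionRing A
  let L := Localization.Away (a 0)
  let ι : L →+* K := IsLocalization.lift (M := Submonoid.powers (a 0)) (g := algebraMap A K) fun y =>
    (IsLocalization.map_units K (⟨y.1, (Submonoid.powers_le.2 (mem_nonZeroDivisors_of_ne_zero ha0)) y.2⟩ : nonZeroDivisors A))
  have hι : Function.Injective ι := by
    refine (IsLocalization.lift_injective_iff (M := Submonoid.powers (a 0)) _).2 fun x y => ?_
    rw [(IsFractionRing.injective A K).eq_iff,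
      (IsLocalization.injective L (Submonoid.powers_le.2 (mem_nonZeroDivisors_of_ne_zero ha0))).eq_iff]
  let t : Fin n → L := fun i => IsLocalization.mk' L (a i.succ) (⟨a 0, Submonoid.mem_powers (a 0)⟩ : Submonoid.powers (a 0))
  let ιa : L →ₐ[A] K := ⟨ι, fun r => IsLocalization.lift_eq _ r⟩
  let ψ : MvPolynomial (Fin n) A →ₐ[A] K := ιa.comp (aeval t)
  let I := Ideal.span (Set.range fun i : Fin n => C (a 0) * X i - C (a i.succ))
  have hker : RingHom.ker ψ.toRingHom = I := by
    rw [show I = _ from (LinType.ker_toAffineBlowup a hreg).symm]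
    ext F
    exact ⟨fun h => hι (by rw [map_zero]; exact h), fun h => (congrArg ι h).trans (map_zero ι)⟩
  let B := ψ.range
  let ψ' : MvPolynomial (Fin n) A →ₐ[A] B := ψ.rangeRestrict
  have hψ' : Function.Surjective ψ' := ψ.rangeRestrict_surjective
  have hker' : RingHom.ker ψ'.toRingHom = I := by
    rw [← hker]
    ext F
    exact ⟨fun h => congrArg Subtype.val h, fun h => Subtype.ext h⟩
  let red : MvPolynomial (Fin n) A →+* MvPolynomial (Fin n) (ResidueField A) := MvPolynomial.map (residue A)
  have hred : Function.Surjective red := MvPolynomial.map_surjective _ residue_surjective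
  have hredker : RingHom.ker red = Ideal.map C m := by
    rw [MvPolynomial.ker_map, IsLocalRing.ker_residue]
  have ham : ∀ i, a i ∈ m := fun i => hspan ▸ Ideal.subset_span (Set.mem_range_self i)
  have hsup : Ideal.map C m = I ⊔ Ideal.span {C (a 0)} := by
    refine le_antisymm (Ideal.map_le_iff_le_comap.2 (hspan.symm.trans_le (Ideal.span_le.2 ?_)))
      (sup_le (Ideal.span_le.2 ?_) ?_)
    · rintro _ ⟨i, rfl⟩
      show C (a i) ∈ I ⊔ Ideal.span {C (a 0)}
      induction i using Fin.cases with
      | zero => exact Ideal.mem_sup_right (Ideal.mem_span_singleton_self _)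
      | succ i =>
        rw [show C (a i.succ) = C (a 0) * X i - (C (a 0) * X i - C (a i.succ)) by ring]
        exact sub_mem (Ideal.mem_sup_right (Ideal.mem_span_singleton.2 (Dvd.intro _ rfl)))
          (Ideal.mem_sup_left (Ideal.subset_span ⟨i, rfl⟩))
    · rintro _ ⟨i, rfl⟩
      exact sub_mem (Ideal.mul_mem_right _ _ (Ideal.mem_map_of_mem _ (ham 0)))
        (Ideal.mem_map_of_mem _ (ham _))
    · exact (Ideal.span_singleton_le_iff_mem _).2 (Ideal.mem_map_of_mem _ (ham 0))
  have hle : RingHom.ker ψ'.toRingHom ≤ RingHom.ker red := by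
    rw [hker', hredker, hsup]; exact le_sup_left
  let χ : B →+* MvPolynomial (Fin n) (ResidueField A) := ψ'.toRingHom.liftOfSurjective hψ' ⟨red, hle⟩
  have hχ : ∀ F, χ (ψ' F) = red F := RingHom.liftOfRightInverse_comp_apply ψ'.toRingHom _ _ ⟨red, hle⟩
  refine ⟨B, ψ' (C (a 0)), n, χ, isNoetherianRing_of_surjective _ _ ψ'.toRingHom hψ', fun h => ha0 ?_,
    fun y => ?_, le_antisymm (fun b hb => ?_) ((Ideal.span_singleton_le_iff_mem _).2 ?_), fun r => ?_⟩
  · have h' : ψ (C (a 0)) = 0 := congrArg Subtype.val h
    rw [show C (a 0) = algebraMap A (MvPolynomial (Fin n) A) (a 0) from rfl, AlgHom.commutes] at h'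
    exact IsFractionRing.injective A K (h'.trans (map_zero _).symm)
  · obtain ⟨F, rfl⟩ := hred y
    exact ⟨ψ' F, hχ F⟩
  · obtain ⟨F, rfl⟩ := hψ' b
    rw [RingHom.mem_ker, hχ] at hb
    have h1 : F ∈ I ⊔ Ideal.span {C (a 0)} := hsup ▸ hredker ▸ hb
    obtain ⟨u, hu, v, hv, rfl⟩ := Submodule.mem_sup.1 h1
    obtain ⟨c, rfl⟩ := Ideal.mem_span_singleton.1 hv
    rw [map_add, show ψ' u = 0 from (hker'.symm ▸ hu : u ∈ RingHom.ker ψ'.toRingHom), zero_add, map_mul]
    exact Ideal.mul_mem_right _ _ (Ideal.mem_span_singleton_self _)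
  · rw [RingHom.mem_ker, hχ, show red (C (a 0)) = C (residue A (a 0)) from MvPolynomial.map_C _ _,
      (residue_eq_zero_iff _).2 (ham 0), map_zero]
  · rw [← AlgHom.commutes ψ', hχ]
    exact MvPolynomial.map_C _ _

/-- A residue field generated by the images of the variables. -/
theorem exists_residue_generators {k B W : Type u} [Field k] [CommRing B] [CommRing W] [IsLocalRing W] [Algebra B W]
    (P : Ideal B) [P.IsPrime] [IsLocalization.AtPrime W P] {n : ℕ}
    (χ : B →+* MvPolynomial (Fin n) k) (hχ : Function.Surjective χ) (hker : RingHom.ker χ = P) :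
    ∃ φ : k →+* ResidueField W, (∀ b c, χ b = MvPolynomial.C c → φ c = residue W (algebraMap B W b)) ∧
      letI := φ.toAlgebra
      ∃ t : ULift.{u} (Fin n) → ResidueField W, AlgebraicIndependent k t ∧
        IntermediateField.adjoin k (Set.range t) = ⊤ := by
  subst hker
  have hmem : ∀ b : B, algebraMap B W b ∈ maximalIdeal W ↔ χ b = 0 := fun b =>
    IsLocalization.AtPrime.to_map_mem_maximal_iff W (RingHom.ker χ) b
  let ρ : B →+* ResidueField W := (residue W).comp (algebraMap B W)
  have hρker : RingHom.ker χ ≤ RingHom.ker ρ := fun b hb => (residue_eq_zero_iff _).2 ((hmem b).2 hb)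
  let σ : MvPolynomial (Fin n) k →+* ResidueField W := χ.liftOfSurjective hχ ⟨ρ, hρker⟩
  have hσ : ∀ b, σ (χ b) = ρ b := RingHom.liftOfRightInverse_comp_apply χ _ _ ⟨ρ, hρker⟩
  have hσinj : Function.Injective σ := by
    refine (injective_iff_map_eq_zero σ).2 fun G hG => ?_
    obtain ⟨b, rfl⟩ := hχ G
    rw [hσ] at hG
    exact (hmem b).1 ((residue_eq_zero_iff _).1 hG)
  refine ⟨σ.comp MvPolynomial.C, fun b c h => ?_, ?_⟩
  · show σ (MvPolynomial.C c) = ρ b
    rw [← h, hσ]
  letI : Algebra k (ResidueField W) := (σ.comp MvPolynomial.C).toAlgebra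
  let t : ULift.{u} (Fin n) → ResidueField W := fun i => σ (MvPolynomial.X i.down)
  have haev : ∀ G : MvPolynomial (Fin n) k, MvPolynomial.aeval (fun i => σ (MvPolynomial.X i)) G = σ G :=
    fun G => by
      induction G using MvPolynomial.induction_on with
      | C c => rw [MvPolynomial.aeval_C]; rfl
      | add p q hp hq => rw [map_add, map_add, hp, hq]
      | mul_X p i hp => rw [map_mul, map_mul, hp, MvPolynomial.aeval_X]
  have hind : AlgebraicIndependent k fun i => σ (MvPolynomial.X i : MvPolynomial (Fin n) k) :=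
    fun p q h => hσinj (by rw [← haev, ← haev]; exact h)
  refine ⟨t, hind.comp ULift.down ULift.down_injective, eq_top_iff.2 fun z _ => ?_⟩
  obtain ⟨w, rfl⟩ := residue_surjective (R := W) z
  obtain ⟨b, s, rfl⟩ := IsLocalization.exists_mk'_eq (RingHom.ker χ).primeCompl w
  have hrange : ∀ c : B, ρ c ∈ IntermediateField.adjoin k (Set.range t) := fun c => by
    rw [← hσ, ← haev]
    refine IntermediateField.algebra_adjoin_le_adjoin _ _ ?_
    rw [show Set.range t = Set.range (fun i => σ (MvPolynomial.X i : MvPolynomial (Fin n) k)) from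
      Set.ext fun v => ⟨fun ⟨i, hi⟩ => ⟨i.down, hi⟩, fun ⟨i, hi⟩ => ⟨⟨i⟩, hi⟩⟩, Algebra.adjoin_range_eq_range_aeval]
    exact ⟨_, rfl⟩
  have hs : ρ s ≠ 0 := fun h => s.2 ((hmem s).1 ((residue_eq_zero_iff _).1 h))
  have heq : residue W (IsLocalization.mk' W b s) = ρ b / ρ s := by
    rw [eq_div_iff hs]
    show _ * residue W (algebraMap B W s) = residue W (algebraMap B W b)
    rw [← map_mul, IsLocalization.mk'_spec]
  exact heq ▸ div_mem (hrange b) (hrange s)

theorem result (A : Type u) [CommRing A] [IsRegularLocalRing A]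
    (hA : ¬ IsField A) :
    ∃ (V : Subalgebra A (FractionRing A)) (_ : IsDomain V) (_ : IsDiscreteValuationRing V), IsFractionRing V (FractionRing A) ∧
      (IsLocalRing.maximalIdeal V).comap (algebraMap A V) = IsLocalRing.maximalIdeal A ∧
      ∃ (φ : IsLocalRing.ResidueField A →+* IsLocalRing.ResidueField V),
        φ.comp (IsLocalRing.residue A) = (IsLocalRing.residue V).comp (algebraMap A V) ∧
        letI := φ.toAlgebra
        ∃ (ι : Type u) (t : ι → IsLocalRing.ResidueField V), AlgebraicIndependent (IsLocalRing.ResidueField A) t ∧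
          IntermediateField.adjoin (IsLocalRing.ResidueField A) (Set.range t) = ⊤ := by
  haveI : IsDomain A := RegLoc6.isDomain_of_isRegularLocalRing A
  obtain ⟨B, x, n, χ, hnoeth, hx0, hχ, hker, hC⟩ := exists_chart A hA
  let K := FractionRing A
  haveI : IsFractionRing B K := IsFractionRing.of_field B K fun z => by
    obtain ⟨a, s, -, rfl⟩ := IsFractionRing.div_surjective (A := A) z
    exact ⟨algebraMap A B a, algebraMap A B s, by rw [← IsScalarTower.algebraMap_apply, ← IsScalarTower.algebraMap_apply]⟩
  let P : Ideal B := RingHom.ker χ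
  haveI : P.IsPrime := RingHom.ker_isPrime χ
  have hP : P.primeCompl ≤ nonZeroDivisors B := P.primeCompl_le_nonZeroDivisors
  let W := Localization.subalgebra.ofField K P.primeCompl hP
  let V : Subalgebra A K := W.restrictScalars A
  haveI hVd : IsDomain W := inferInstance
  haveI : IsLocalRing W := IsLocalization.AtPrime.isLocalRing W P
  haveI : IsNoetherianRing W := IsLocalization.isNoetherianRing P.primeCompl W hnoeth
  have hinj : Function.Injective (algebraMap B W) := IsLocalization.injective W hP
  have hmax : maximalIdeal W = Ideal.span {algebraMap B W x} := by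
    rw [← IsLocalization.AtPrime.map_eq_maximalIdeal P W, show P = Ideal.span {x} from hker, Ideal.map_span,
      Set.image_singleton]
  have hWf : ¬ IsField W := fun h => hx0 (hinj (by
    rw [IsLocalRing.isField_iff_maximalIdeal_eq.1 h, eq_comm, Ideal.span_singleton_eq_bot] at hmax
    rw [hmax, map_zero]))
  haveI hWdvr : IsDiscreteValuationRing W :=
    ((IsDiscreteValuationRing.TFAE W hWf).out 0 4 rfl rfl).2 ⟨⟨algebraMap B W x, hmax⟩⟩
  haveI : IsDomain V := hVd
  haveI : IsDiscreteValuationRing V := hWdvr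
  have hmem : ∀ b : B, algebraMap B W b ∈ maximalIdeal W ↔ χ b = 0 := fun b =>
    IsLocalization.AtPrime.to_map_mem_maximal_iff W P b
  refine ⟨V, inferInstance, inferInstance, (inferInstance : IsFractionRing W K), ?_, ?_⟩
  · ext a
    rw [Ideal.mem_comap, show (algebraMap A V a ∈ maximalIdeal V) ↔ algebraMap B W (algebraMap A B a) ∈ maximalIdeal W
      from Iff.rfl, hmem, hC, map_eq_zero_iff _ (MvPolynomial.C_injective _ _), residue_eq_zero_iff]
  obtain ⟨φ, hφ, t, ht, htop⟩ := exists_residue_generators (W := W) P χ hχ rfl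
  exact ⟨φ, RingHom.ext fun a => hφ (algebraMap A B a) _ (hC a), ULift.{u} (Fin n), t, ht, htop⟩

end Groth.Agent.S4947
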