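import Groth.Statements.S4950
import Groth.Agent.NGeomPts.Split
import Groth.Agent.NGeomPts.DvrExt
import Groth.Agent.UnivOpen.Criterion

set_option autoImplicit false
set_option linter.style.haveILetI false
set_option backward.isDefEq.respectTransparency false
set_option backward.isDefEq.respectTransparency.types false

open CategoryTheory AlgebraicGeometry CategoryTheory.Limits IsLocalRing
open scoped TensorProduct
universe u
open EGA43

namespace Groth.Agent.S4950

theorem exists_compositum {k : CommRingCat.{u}} (k₀ K' : Type u) [Field k₀] [Field K'] (hk : IsField k)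
    (φ₀ : k ⟶ CommRingCat.of k₀) (φ : k ⟶ CommRingCat.of K') (hφ : φ.hom.Finite) :
    ∃ (k'' : Type u) (_ : Field k'') (_ : Algebra k₀ k'') (_ : FiniteDimensional k₀ k'') (ψ : K' →+* k''),
      ψ.comp φ.hom = (algebraMap k₀ k'').comp φ₀.hom := by
  letI := hk.toField
  letI : Algebra k k₀ := φ₀.hom.toAlgebra
  letI : Algebra k K' := φ.hom.toAlgebra
  haveI : Module.Finite k K' := hφ
  haveI : Nontrivial (k₀ ⊗[k] K') := inferInstance
  obtain ⟨M, hM⟩ := Ideal.exists_maximal (k₀ ⊗[k] K')
  letI := Ideal.Quotient.field M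
  haveI : Module.Finite k₀ ((k₀ ⊗[k] K') ⧸ M) :=
    Module.Finite.of_surjective ((Ideal.Quotient.mkₐ k₀ M).toLinearMap) Ideal.Quotient.mk_surjective
  refine ⟨(k₀ ⊗[k] K') ⧸ M, inferInstance, inferInstance, inferInstance,
    (Ideal.Quotient.mk M).comp (Algebra.TensorProduct.includeRight : K' →ₐ[k] k₀ ⊗[k] K').toRingHom, ?_⟩
  refine RingHom.ext fun a => congrArg (Ideal.Quotient.mk M) ?_
  show (1 : k₀) ⊗ₜ[k] algebraMap k K' a = algebraMap k k₀ a ⊗ₜ[k] (1 : K')
  rw [Algebra.algebraMap_eq_smul_one, Algebra.algebraMap_eq_smul_one, TensorProduct.smul_tmul]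

theorem card_fibre_eq {A : Type u} [CommRing A] {X Y : Scheme.{u}} (f : X ⟶ Y)
    (g : Spec (CommRingCat.of A) ⟶ Y) {F : Type u} [Field F] (ψ : A →+* F)
    (hgen : Subfield.closure (Set.range ψ) = ⊤) (p : Spec (CommRingCat.of A))
    (hp : Spec.map (CommRingCat.ofHom ψ) (closedPoint F) = p) :
    ENat.card ↥((pullback.snd f g).fiber p) =
      ENat.card ↥(pullback f (Spec.map (CommRingCat.ofHom ψ) ≫ g)) := by
  obtain ⟨φ, hφ⟩ := NGeomPts.exists_residueHom (Spec.map (CommRingCat.ofHom ψ)) p hp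
  obtain ⟨χ, hχ⟩ := Spec.map_surjective ((Spec (CommRingCat.of A)).fromSpecResidueField p)
  have hcomp : χ ≫ φ = CommRingCat.ofHom ψ := Spec.map_inj.1 (by rw [Spec.map_comp, hχ, ← hφ])
  haveI : IsIso φ := by
    refine (ConcreteCategory.isIso_iff_bijective φ).2 ⟨φ.hom.injective, fun x => ?_⟩
    have h1 : Set.range ψ ⊆ φ.hom.fieldRange := by
      rintro _ ⟨a, rfl⟩
      exact ⟨χ.hom a, ConcreteCategory.congr_hom hcomp a⟩
    have h2 : (⊤ : Subfield F) ≤ φ.hom.fieldRange := hgen ▸ Subfield.closure_le.2 h1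
    exact h2 (Subfield.mem_top x)
  rw [hφ]
  refine ENat.card_congr ((Scheme.homeoOfIso
    (pullbackLeftPullbackSndIso f g ((Spec (CommRingCat.of A)).fromSpecResidueField p))).toEquiv.trans ?_)
  rw [Category.assoc]
  let m : pullback f (Spec.map φ ≫ (Spec (CommRingCat.of A)).fromSpecResidueField p ≫ g) ⟶
      pullback f ((Spec (CommRingCat.of A)).fromSpecResidueField p ≫ g) :=
    pullback.map _ _ _ _ (𝟙 X) (Spec.map φ) (𝟙 Y) (by simp) (by simp)
  haveI : IsIso m := inferInstance
  exact (Scheme.homeoOfIso (asIso m)).toEquiv.symm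

open CategoryTheory.Limits in
theorem result {X Y : Scheme.{u}} [IsLocallyNoetherian Y] (f : X ⟶ Y)
    [IsSeparated f] [LocallyQuasiFinite f] [LocallyOfFiniteType f] [QuasiCompact f] (y y' : Y) (hne : y' ≠ y)
    (hgen : y' ⤳ y) :
    ∃ (A : Type u) (_ : CommRing A) (_ : IsDomain A) (_ : IsDiscreteValuationRing A) (g : Spec (CommRingCat.of A) ⟶ Y),
      g.base (IsLocalRing.closedPoint A) = y ∧ g.base (genericPoint (Spec (CommRingCat.of A))) = y' ∧
      MoreMor.nGeomConnComp f y = ENat.card ↥((pullback.snd f g).fiber (IsLocalRing.closedPoint A)) ∧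
      MoreMor.nGeomConnComp f y' = ENat.card ↥((pullback.snd f g).fiber (genericPoint (Spec (CommRingCat.of A)))) := by
  obtain ⟨A₀, _, _, _, τ, hτc, hτg⟩ := UnivOpen.exists_dvr_lift hgen (Ne.symm hne)
  obtain ⟨K', _, φ, hφ, hK'⟩ := NGeomPts.exists_splitting f y
  obtain ⟨K'', _, φ', hφ', hK''⟩ := NGeomPts.exists_splitting f y'
  let k₀ := ResidueField A₀
  let K₀ := FractionRing A₀
  obtain ⟨φ₀, hφ₀⟩ := NGeomPts.exists_residueHom (Spec.map (CommRingCat.ofHom (residue A₀)) ≫ τ) y (by
    rw [Scheme.Hom.comp_apply]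
    refine (congrArg _ ?_).trans hτc
    exact IsLocalRing.comap_closedPoint (residue A₀))
  obtain ⟨φ₀', hφ₀'⟩ := NGeomPts.exists_residueHom (Spec.map (CommRingCat.ofHom (algebraMap A₀ K₀)) ≫ τ) y' (by
    rw [Scheme.Hom.comp_apply]
    refine hτg _ fun h => IsDiscreteValuationRing.not_a_field A₀ ?_
    have h' : (maximalIdeal K₀).comap (algebraMap A₀ K₀) = maximalIdeal A₀ := congrArg PrimeSpectrum.asIdeal h
    rw [← h', IsLocalRing.maximalIdeal_eq_bot]
    exact Ideal.comap_bot_of_injective _ (IsFractionRing.injective A₀ K₀))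
  obtain ⟨k'', _, _, _, ψ, hψ⟩ := exists_compositum k₀ K' (Field.toIsField _) φ₀ φ hφ
  obtain ⟨L', _, _, _, ψ', hψ'⟩ := exists_compositum K₀ K'' (Field.toIsField _) φ₀' φ' hφ'
  letI : Algebra A₀ L' := ((algebraMap K₀ L').comp (algebraMap A₀ K₀)).toAlgebra
  haveI : IsScalarTower A₀ K₀ L' := IsScalarTower.of_algebraMap_eq' rfl
  obtain ⟨A, _, _, _, L, _, _, _, j, _, ν, μ, hν, hμ⟩ := NGeomPts.exists_dvr_ext A₀ k'' L'
  let g : Spec (CommRingCat.of A) ⟶ Y := Spec.map (CommRingCat.ofHom j) ≫ τ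
  have hj : Function.Injective j := fun a b h => IsFractionRing.injective A₀ K₀ ((algebraMap K₀ L').injective
    (μ.injective (by
      have ha := RingHom.congr_fun hμ a
      have hb := RingHom.congr_fun hμ b
      simp only [RingHom.comp_apply] at ha hb
      change μ (algebraMap A₀ L' a) = μ (algebraMap A₀ L' b)
      rw [ha, hb, h])))
  have hgc : g (closedPoint A) = y := by
    rw [Scheme.Hom.comp_apply]
    exact (congrArg _ (IsLocalRing.comap_closedPoint j)).trans hτc
  have hbot : (genericPoint (Spec (CommRingCat.of A)) : PrimeSpectrum A).asIdeal = ⊥ := by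
    rw [genericPoint_eq_bot_of_affine]; rfl
  have hgg : g (genericPoint (Spec (CommRingCat.of A))) = y' := by
    rw [Scheme.Hom.comp_apply]
    refine hτg _ fun h => IsDiscreteValuationRing.not_a_field A₀ ?_
    have h' : ((genericPoint (Spec (CommRingCat.of A)) : PrimeSpectrum A).asIdeal).comap j = maximalIdeal A₀ :=
      congrArg PrimeSpectrum.asIdeal h
    rw [← h', hbot]
    exact Ideal.comap_bot_of_injective _ hj
  refine ⟨A, inferInstance, inferInstance, inferInstance, g, hgc, hgg, ?_, ?_⟩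
  · rw [card_fibre_eq f g (residue A) (by
        rw [Set.range_eq_univ.2 residue_surjective]
        exact eq_top_iff.2 fun x _ => Subfield.subset_closure (Set.mem_univ x)) (closedPoint A)
      (IsLocalRing.comap_closedPoint (residue A)),
      ← hK' (ResidueField A) (Spec.map (CommRingCat.ofHom (ν.comp ψ)))]
    congr 3
    rw [← Spec.map_comp_assoc, show φ ≫ CommRingCat.ofHom (ν.comp ψ) =
      φ₀ ≫ CommRingCat.ofHom (ν.comp (algebraMap k₀ k'')) from CommRingCat.hom_ext (by
        rw [CommRingCat.hom_comp, CommRingCat.hom_comp, CommRingCat.hom_ofHom, CommRingCat.hom_ofHom,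
          RingHom.comp_assoc, hψ, ← RingHom.comp_assoc]), Spec.map_comp, Category.assoc, ← hφ₀, hν]
    rw [← Spec.map_comp_assoc, ← Spec.map_comp_assoc]
    rfl
  · rw [card_fibre_eq f g (algebraMap A L) (by
        refine eq_top_iff.2 fun x _ => ?_
        obtain ⟨a, b, -, rfl⟩ := IsFractionRing.div_surjective (A := A) x
        exact div_mem (Subfield.subset_closure ⟨a, rfl⟩) (Subfield.subset_closure ⟨b, rfl⟩))
      (genericPoint (Spec (CommRingCat.of A))) (PrimeSpectrum.ext (by
        rw [hbot]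
        show (maximalIdeal L).comap (algebraMap A L) = ⊥
        rw [IsLocalRing.maximalIdeal_eq_bot]
        exact Ideal.comap_bot_of_injective _ (IsFractionRing.injective A L))),
      ← hK'' L (Spec.map (CommRingCat.ofHom (μ.comp ψ')))]
    congr 3
    rw [← Spec.map_comp_assoc, show φ' ≫ CommRingCat.ofHom (μ.comp ψ') =
      φ₀' ≫ CommRingCat.ofHom (μ.comp (algebraMap K₀ L')) from CommRingCat.hom_ext (by
        rw [CommRingCat.hom_comp, CommRingCat.hom_comp, CommRingCat.hom_ofHom, CommRingCat.hom_ofHom,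
          RingHom.comp_assoc, hψ', ← RingHom.comp_assoc]), Spec.map_comp, Category.assoc, ← hφ₀']
    rw [← Spec.map_comp_assoc, ← Spec.map_comp_assoc]
    rw [← CommRingCat.ofHom_comp, ← CommRingCat.ofHom_comp, ← hμ]
    rfl

end Groth.Agent.S4950
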