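import Groth.Statements.S4951
import Mathlib.Topology.Sober
import Mathlib.Topology.NoetherianSpace

set_option autoImplicit false
universe u
open EGA43

namespace Groth.Agent.S4951

theorem exists_specializes_of_mem_closure {X : Type u} [TopologicalSpace X] [QuasiSober X]
    (hloc : ∀ x : X, ∃ U ∈ nhds x, TopologicalSpace.NoetherianSpace ↥U) {A : Set X} (hA : IsOpen A)
    {x : X} (hx : x ∈ closure A) : ∃ a ∈ A, a ⤳ x := by
  obtain ⟨N, hN, hNn⟩ := hloc x
  obtain ⟨U, hUN, hUo, hxU⟩ := mem_nhds_iff.1 hN
  have hx' : x ∈ closure (U ∩ A) := by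
    rw [mem_closure_iff] at hx ⊢
    intro o ho hxo
    obtain ⟨z, hz, hzA⟩ := hx (o ∩ U) (ho.inter hUo) ⟨hxo, hxU⟩
    exact ⟨z, hz.1, hz.2, hzA⟩
  have : TopologicalSpace.NoetherianSpace ↥N := hNn
  have hi : Topology.IsInducing (Set.inclusion (Set.inter_subset_left.trans hUN : U ∩ A ⊆ N)) :=
    (Topology.IsEmbedding.inclusion _).isInducing
  have : TopologicalSpace.NoetherianSpace ↥(U ∩ A) := hi.noetherianSpace
  have hfin := TopologicalSpace.NoetherianSpace.finite_irreducibleComponents (α := ↥(U ∩ A))
  have hcov : U ∩ A ⊆ ⋃ C ∈ irreducibleComponents ↥(U ∩ A), closure (Subtype.val '' C) := by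
    intro z hz
    refine Set.mem_iUnion₂.2 ⟨irreducibleComponent ⟨z, hz⟩, irreducibleComponent_mem_irreducibleComponents _, ?_⟩
    exact subset_closure ⟨⟨z, hz⟩, mem_irreducibleComponent, rfl⟩
  have hcl := closure_minimal hcov (hfin.isClosed_biUnion fun C _ => isClosed_closure) hx'
  obtain ⟨C, hC, hxC⟩ := Set.mem_iUnion₂.1 hcl
  have hirr : IsIrreducible (closure (Subtype.val '' C)) :=
    (hC.1.image Subtype.val continuous_subtype_val.continuousOn).closure
  obtain ⟨c, hc⟩ := hC.1.1
  exact ⟨hirr.genericPoint, (hirr.isGenericPoint_genericPoint_closure).mem_open_set_iff hA |>.2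
    ⟨c.1, subset_closure (subset_closure ⟨c, hc, rfl⟩), c.2.2⟩,
    hirr.isGenericPoint_genericPoint_closure.specializes (subset_closure hxC)⟩

/-- Let X be a locally Noetherian topological space in which every irreducible closed subset has a
unique generic point (X quasi-sober and T₀), and Z a closed nowhere dense subset of X such that for
every point x of Z the set of generizations of x distinct from x is connected (possibly empty). If X
is connected, then X − Z is connected. (Uniqueness of generic points, automatic for the underlying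
space of a scheme, is needed: in the four-point space {u, v, z₁, z₂} whose open sets are ∅, {u},
{v}, {u, v} and the whole space, the closed nowhere dense set Z = {z₁, z₂} satisfies the hypothesis,
since z₂ is a generization of z₁ and conversely, yet X − Z = {u, v} is not connected.) -/
theorem result {X : Type u} [TopologicalSpace X]
    [QuasiSober X] [T0Space X] (hloc : ∀ x : X, ∃ U ∈ nhds x, TopologicalSpace.NoetherianSpace ↥U) [ConnectedSpace X]
    (Z : Set X) (hZ : IsClosed Z) (hZn : IsNowhereDense Z)
    (hgen : ∀ x ∈ Z, IsPreconnected ({x' : X | x' ⤳ x} \ {x})) :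
    IsConnected Zᶜ := by
  have hdense : Dense Zᶜ := by
    rw [← interior_eq_empty_iff_dense_compl]
    rw [IsNowhereDense, hZ.closure_eq] at hZn
    exact hZn
  refine ⟨hdense.nonempty, ?_⟩
  intro u v hu hv hsub ⟨a, haZ, hau⟩ ⟨b, hbZ, hbv⟩
  by_contra hne
  rw [Set.not_nonempty_iff_eq_empty] at hne
  let A := Zᶜ ∩ u
  let B := Zᶜ ∩ v
  have hA : IsOpen A := hZ.isOpen_compl.inter hu
  have hB : IsOpen B := hZ.isOpen_compl.inter hv
  have hAB : Disjoint A B := Set.disjoint_left.2 fun z hz hz' => hne.le ⟨hz.1, hz.2, hz'.2⟩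
  have hcov : closure A ∪ closure B = Set.univ := by
    rw [← closure_union, ← Set.inter_union_distrib_left, Set.inter_eq_left.2 hsub, hdense.closure_eq]
  have hCne : (closure A ∩ closure B).Nonempty := by
    have := isPreconnected_closed_iff.1 isPreconnected_univ (closure A) (closure B) isClosed_closure
      isClosed_closure hcov.ge ⟨a, trivial, subset_closure ⟨haZ, hau⟩⟩ ⟨b, trivial, subset_closure ⟨hbZ, hbv⟩⟩
    rwa [Set.univ_inter] at this
  let C := closure A ∩ closure B
  have hC : IsClosed C := isClosed_closure.inter isClosed_closure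
  obtain ⟨z, hz⟩ := hCne
  let T : Set ↥C := irreducibleComponent ⟨z, hz⟩
  have hT : IsIrreducible T := isIrreducible_irreducibleComponent
  have hTc : IsClosed T := isClosed_irreducibleComponent
  have : QuasiSober ↥C := hC.isClosedEmbedding_subtypeVal.quasiSober
  let w := hT.genericPoint
  have hw : IsGenericPoint w T := by
    have := hT.isGenericPoint_genericPoint_closure
    rwa [hTc.closure_eq] at this
  have hmax : ∀ x' ∈ C, x' ⤳ w.1 → x' = w.1 := fun x' hx' hs => by
    have hs' : (⟨x', hx'⟩ : ↥C) ⤳ w := Topology.IsInducing.subtypeVal.specializes_iff.1 hs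
    have hle : T ≤ closure {(⟨x', hx'⟩ : ↥C)} := by
      rw [← hw.def]
      exact closure_minimal (Set.singleton_subset_iff.2 hs'.mem_closure) isClosed_closure
    have heq := (irreducibleComponent_mem_irreducibleComponents (⟨z, hz⟩ : ↥C)).2
      isIrreducible_singleton.closure hle
    have hx'T : (⟨x', hx'⟩ : ↥C) ∈ T := heq (subset_closure rfl)
    exact (hs'.antisymm (hw.specializes hx'T)).eq ▸ rfl
  have hwC : (w : X) ∈ C := w.2
  have hwZ : (w : X) ∈ Z := by
    by_contra hwZ
    rcases hsub hwZ with h | h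
    · exact Set.disjoint_left.1 (hAB.closure_right hA) ⟨hwZ, h⟩ hwC.2
    · exact Set.disjoint_left.1 (hAB.closure_left hB) hwC.1 ⟨hwZ, h⟩
  obtain ⟨a', ha', hsa⟩ := exists_specializes_of_mem_closure hloc hA hwC.1
  obtain ⟨b', hb', hsb⟩ := exists_specializes_of_mem_closure hloc hB hwC.2
  have hS := hgen _ hwZ
  have key := hS (closure B)ᶜ (closure A)ᶜ isClosed_closure.isOpen_compl isClosed_closure.isOpen_compl
    (fun x' hx' => by
      by_contra hn
      simp only [Set.mem_union, Set.mem_compl_iff, not_or, not_not] at hn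
      exact hx'.2 (hmax x' ⟨hn.2, hn.1⟩ hx'.1))
    ⟨a', ⟨hsa, fun h => ha'.1 (Set.mem_singleton_iff.1 h ▸ hwZ)⟩, Set.disjoint_left.1 (hAB.closure_right hA) ha'⟩
    ⟨b', ⟨hsb, fun h => hb'.1 (Set.mem_singleton_iff.1 h ▸ hwZ)⟩, Set.disjoint_right.1 (hAB.closure_left hB) hb'⟩
  obtain ⟨q, -, hqB, hqA⟩ := key
  rcases hcov.ge (Set.mem_univ q) with h | h
  · exact hqA h
  · exact hqB h

end Groth.Agent.S4951
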