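import Groth.Statements.S4964
import Groth.Agent.FibreAss.Proper

set_option autoImplicit false
open CategoryTheory AlgebraicGeometry
universe u v w
open EGA43

namespace Groth.Agent.S4964

/-- Let f : X ⟶ Y be a proper morphism of finite presentation and F a finitely presented O_X-module
which is f-flat; for y in Y write F_y for the restriction of F to the fibre X_y. Let Φ be a finite
set of natural numbers. Then the set of points y of Y such that the closure in X_y of every
associated point of F_y has dimension in Φ is open in Y. In particular (Φ = {k}), the set of y such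
that every associated point of F_y has closure of dimension k is open. -/
theorem result {X Y : Scheme.{u}} (f : X ⟶ Y) [IsProper f]
    [LocallyOfFinitePresentation f] (F : X.Modules) (hF : CohB1.IsFP F) (hflat : FlatMod.IsFlatOver f F) (Φ : Finset ℕ) :
    IsOpen {y : Y | ∀ z ∈ AssSch.Ass ((Scheme.Modules.pullback (f.fiberι y)).obj F), ∃ n ∈ Φ,
      topologicalKrullDim ↥(closure ({z} : Set ↥(f.fiber y))) = (n : WithBot ℕ∞)} := by
  convert Groth.Agent.FibreAss.isOpen_forall_fibre_PD f (fun _ b => b ∈ Φ) hF hflat using 1
  ext y
  refine Iff.trans ?_ (Groth.Agent.FibreAss.forall_fibre_PD_iff f _ y).symm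
  constructor
  · intro h z hz z' _ _
    obtain ⟨n, hn, e⟩ := h z hz
    rwa [(Groth.Agent.FibreAss.dim_closure_eq_natCast f _ z n).1 e]
  · intro h z hz
    exact ⟨_, h z hz z hz specializes_rfl, Groth.Agent.FibreAss.dim_closure_fiber f _ z⟩

end Groth.Agent.S4964
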