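import Groth.Statements.S4966
import Groth.Agent.FibreAss.Proper

set_option autoImplicit false
open CategoryTheory AlgebraicGeometry
universe u v w
open EGA43

namespace Groth.Agent.S4966

/-- Let f : X ⟶ Y be a proper morphism of finite presentation and F a finitely presented O_X-module
which is f-flat; for y in Y write F_y for the restriction of F to the fibre X_y. Let Φ be a finite
set of natural numbers. Then the set of points y of Y such that F_y has no embedded associated point
and the set of dimensions of the irreducible components of Supp(F_y) is exactly Φ is open in Y. -/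
theorem result {X Y : Scheme.{u}} (f : X ⟶ Y) [IsProper f]
    [LocallyOfFinitePresentation f] (F : X.Modules) (hF : CohB1.IsFP F) (hflat : FlatMod.IsFlatOver f F) (Φ : Finset ℕ) :
    IsOpen {y : Y | AssSch.NoEmbedded ((Scheme.Modules.pullback (f.fiberι y)).obj F) ∧
      (fun Z : Set ↥{z : ↥(f.fiber y) | Nontrivial (((Scheme.Modules.pullback (f.fiberι y)).obj F).presheaf.stalk z)} => topologicalKrullDim ↥Z) '' irreducibleComponents ↥{z : ↥(f.fiber y) | Nontrivial (((Scheme.Modules.pullback (f.fiberι y)).obj F).presheaf.stalk z)} =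
        (fun n : ℕ => (n : WithBot ℕ∞)) '' (Φ : Set ℕ)} := by
  have hc := Groth.Agent.FibreAss.isCoh_of_isFP' hF
  haveI : ∀ y, IsLocallyNoetherian (f.fiber y) := fun y =>
    LocallyOfFiniteType.isLocallyNoetherian (f.fiberToSpecResidueField y)
  convert ((Groth.Agent.FibreAss.isOpen_forall_fibre_PD f (fun a b => a = b) hF hflat).inter
    (Groth.Agent.FibreAss.isOpen_forall_fibre_PD f (fun _ b => b ∈ Φ) hF hflat)).inter
    (isOpen_biInter_finset (fun n (_ : n ∈ Φ) => Groth.Agent.FibreAss.isOpen_exists_component f n hF hflat)) using 1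
  ext y
  simp only [Set.mem_inter_iff, Set.mem_iInter]
  let G := (Scheme.Modules.pullback (f.fiberι y)).obj F
  constructor
  · rintro ⟨hne, hdims⟩
    refine ⟨⟨?_, ?_⟩, fun n hn => ?_⟩
    · refine (Groth.Agent.FibreAss.forall_fibre_PD_iff f _ y).2 fun z hz z' hz' h => ?_
      rw [hne z hz z' hz' h]
    · refine (Groth.Agent.FibreAss.forall_fibre_PD_iff f _ y).2 fun z hz _ _ _ => ?_
      have hmax : ∀ w ∈ CohB1.support G, w ⤳ z → w = z := fun w hw hwz => by
        obtain ⟨a, ha, haw⟩ := Groth.Agent.FibreAss.exists_ass_over f hc hw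
        exact (hwz.antisymm ((hne z hz a ha (haw.trans hwz)).symm ▸ haw)).eq
      obtain ⟨Z, hZ, hd⟩ := (Groth.Agent.FibreAss.component_dims_iff f hc y (Groth.Agent.FibDim.rd f (f.fiberι y z))).2
        ⟨z, Groth.Agent.AssLib.mem_support_of_mem_ass hz, hmax, rfl⟩
      obtain ⟨n, hn, he⟩ := hdims.le ⟨Z, hZ, rfl⟩
      have he' : ((n : ℕ) : WithBot ℕ∞) = (Groth.Agent.FibDim.rd f (f.fiberι y z) : ℕ) := he.trans hd
      exact (show n = Groth.Agent.FibDim.rd f (f.fiberι y z) by exact_mod_cast he') ▸ hn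
    · obtain ⟨Z, hZ, he⟩ := hdims.ge ⟨n, hn, rfl⟩
      exact (Groth.Agent.FibreAss.component_dims_iff f hc y n).1 ⟨Z, hZ, he⟩
  · rintro ⟨⟨hE, hΦ⟩, hall⟩
    have hE' := (Groth.Agent.FibreAss.forall_fibre_PD_iff f _ y).1 hE
    have hΦ' := (Groth.Agent.FibreAss.forall_fibre_PD_iff f _ y).1 hΦ
    refine ⟨fun z hz z' hz' h => (Groth.Agent.FibreAss.eq_of_specializes_of_rd_eq f
      (specializes_iff_mem_closure.1 h) (hE' z hz z' hz' h)).symm, Set.Subset.antisymm ?_ ?_⟩
    · rintro _ ⟨Z, hZ, rfl⟩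
      obtain ⟨n, hn⟩ := Groth.Agent.FibreAss.component_dim_nat f hc y hZ
      obtain ⟨z, hz, hmax, he⟩ := (Groth.Agent.FibreAss.component_dims_iff f hc y n).1 ⟨Z, hZ, hn⟩
      have hass := Groth.Agent.FibreAss.mem_ass_of_maximal f hc hz hmax
      exact ⟨n, he ▸ hΦ' z hass z hass specializes_rfl, hn.symm⟩
    · rintro _ ⟨n, hn, rfl⟩
      obtain ⟨Z, hZ, he⟩ := (Groth.Agent.FibreAss.component_dims_iff f hc y n).2 (hall n hn)
      exact ⟨Z, hZ, he⟩

end Groth.Agent.S4966
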