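import Groth.Statements.S4969
import Groth.Agent.FibreAss.Proper
import Groth.Agent.AssLib2.Filtration

set_option autoImplicit false
open CategoryTheory AlgebraicGeometry
universe u v w
open EGA43

namespace Groth.Agent.S4969

/-- Let f : X ⟶ Y be a proper morphism of finite presentation and F a finitely presented O_X-module
which is f-flat; for y in Y let F_y be the restriction of F to the fibre X_y. Then the function y ↦
dim Supp(F_y) is locally constant on Y. -/
theorem result {X Y : Scheme.{u}} (f : X ⟶ Y) [IsProper f]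
    [LocallyOfFinitePresentation f] (F : X.Modules) (hF : CohB1.IsFP F) (hflat : FlatMod.IsFlatOver f F) :
    IsLocallyConstant (fun y : Y => topologicalKrullDim ↥{z : ↥(f.fiber y) | Nontrivial (((Scheme.Modules.pullback (f.fiberι y)).obj F).presheaf.stalk z)}) := by
  have hc := Groth.Agent.FibreAss.isCoh_of_isFP' hF
  haveI : ∀ y, IsLocallyNoetherian (f.fiber y) := fun y =>
    LocallyOfFiniteType.isLocallyNoetherian (f.fiberToSpecResidueField y)
  let d : Y → WithBot ℕ∞ := fun y => topologicalKrullDim ↥{z : ↥(f.fiber y) | Nontrivial (((Scheme.Modules.pullback (f.fiberι y)).obj F).presheaf.stalk z)}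
  have hsup : ∀ y, d y = ⨆ z : ↥(CohB1.support ((Scheme.Modules.pullback (f.fiberι y)).obj F)),
      ((Groth.Agent.FibDim.rd f (f.fiberι y z.1) : ℕ∞) : WithBot ℕ∞) := fun y => by
    have hG := Groth.Agent.ZClosLib.isCoh_pullback (f.fiberι y) hc
    show topologicalKrullDim ↥{z : ↥(f.fiber y) | Nontrivial (((Scheme.Modules.pullback (f.fiberι y)).obj F).presheaf.stalk z)} = _
    rw [Groth.Agent.FibreAss.setOf_nontrivial]
    rw [Groth.Agent.VarDim.topologicalKrullDim_set_eq_iSup_deg (k := Y.residueField y) (f.fiberToSpecResidueField y)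
      (Groth.Agent.QCoh.isClosed_support_of_isFT hG.1 hG.2)]
    exact iSup_congr fun z => by rw [Groth.Agent.FibDim.deg_fiber]
  have hle : ∀ y (n : ℕ), (∀ z ∈ AssSch.Ass ((Scheme.Modules.pullback (f.fiberι y)).obj F),
      Groth.Agent.FibDim.rd f (f.fiberι y z) ≤ n) → d y ≤ (n : WithBot ℕ∞) := fun y n h => by
    rw [hsup]
    refine iSup_le fun z => ?_
    obtain ⟨a, ha, haz⟩ := Groth.Agent.FibreAss.exists_ass_over f hc z.2
    have h1 := Groth.Agent.FibDim.rd_le_of_specializes f (haz.map (f.fiberι y).continuous)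
      (by rw [Groth.Agent.FibDim.fiber_apply_fiberι, Groth.Agent.FibDim.fiber_apply_fiberι])
    exact_mod_cast h1.trans (h a ha)
  have hge : ∀ y z, z ∈ CohB1.support ((Scheme.Modules.pullback (f.fiberι y)).obj F) →
      (Groth.Agent.FibDim.rd f (f.fiberι y z) : WithBot ℕ∞) ≤ d y := fun y z hz => by
    rw [hsup]
    exact le_iSup_of_le ⟨z, hz⟩ le_rfl
  refine IsLocallyConstant.iff_exists_open _ |>.2 fun y => ?_
  have hfin : (AssSch.Ass ((Scheme.Modules.pullback (f.fiberι y)).obj F)).Finite := by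
    haveI : CompactSpace ↥(f.fiber y) := inferInstance
    exact Groth.Agent.AssLib2.finite_ass _ (Groth.Agent.ZClosLib.isCoh_pullback (f.fiberι y) hc)
  rcases (hfin.toFinset : Finset ↥(f.fiber y)).eq_empty_or_nonempty with he | hne
  · refine ⟨{y' | ∀ x, f x = y' → Groth.Agent.FibreAss.PD (fun _ _ => False) f F x},
      Groth.Agent.FibreAss.isOpen_forall_fibre_PD f _ hF hflat,
      (Groth.Agent.FibreAss.forall_fibre_PD_iff f _ y).2 fun z hz => absurd (hfin.mem_toFinset.2 hz) (by simp [he]),
      fun y' hy' => ?_⟩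
    have hemp : ∀ y'', (∀ z ∈ AssSch.Ass ((Scheme.Modules.pullback (f.fiberι y'')).obj F), False) → d y'' = ⊥ :=
      fun y'' h => by
      rw [hsup, iSup_eq_bot]
      intro z
      obtain ⟨a, ha, -⟩ := Groth.Agent.FibreAss.exists_ass_over f hc z.2
      exact (h a ha).elim
    show d y' = d y
    rw [hemp y' fun z hz => (Groth.Agent.FibreAss.forall_fibre_PD_iff f _ y').1 hy' z hz z hz specializes_rfl,
      hemp y fun z hz => absurd (hfin.mem_toFinset.2 hz) (by simp [he])]
  · obtain ⟨z₀, hz₀, hmaxrd⟩ := hfin.toFinset.exists_max_image (fun z => Groth.Agent.FibDim.rd f (f.fiberι y z)) hne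
    rw [hfin.mem_toFinset] at hz₀
    let n := Groth.Agent.FibDim.rd f (f.fiberι y z₀)
    have hmax : ∀ w ∈ CohB1.support ((Scheme.Modules.pullback (f.fiberι y)).obj F), w ⤳ z₀ → w = z₀ := fun w hw h => by
      obtain ⟨a, ha, haw⟩ := Groth.Agent.FibreAss.exists_ass_over f hc hw
      have h1 : Groth.Agent.FibDim.rd f (f.fiberι y a) ≤ n := hmaxrd a (hfin.mem_toFinset.2 ha)
      have h2 : n ≤ Groth.Agent.FibDim.rd f (f.fiberι y a) :=
        Groth.Agent.FibDim.rd_le_of_specializes f ((haw.trans h).map (f.fiberι y).continuous)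
          (by rw [Groth.Agent.FibDim.fiber_apply_fiberι, Groth.Agent.FibDim.fiber_apply_fiberι])
      have h3 := Groth.Agent.FibreAss.eq_of_specializes_of_rd_eq f (specializes_iff_mem_closure.1 (haw.trans h))
        (le_antisymm h1 h2)
      exact (h.antisymm (h3 ▸ haw)).eq
    refine ⟨_, (Groth.Agent.FibreAss.isOpen_forall_fibre_PD f (fun _ b => b ≤ n) hF hflat).inter
        (Groth.Agent.FibreAss.isOpen_exists_component f n hF hflat),
      ⟨(Groth.Agent.FibreAss.forall_fibre_PD_iff f _ y).2 fun z hz _ _ _ => hmaxrd z (hfin.mem_toFinset.2 hz),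
        z₀, Groth.Agent.AssLib.mem_support_of_mem_ass hz₀, hmax, rfl⟩, fun y' hy' => ?_⟩
    obtain ⟨h1, z, hz, -, hn⟩ := hy'
    show d y' = d y
    have hy : d y = (n : WithBot ℕ∞) := le_antisymm (hle y n fun z hz => hmaxrd z (hfin.mem_toFinset.2 hz))
      (hge y z₀ (Groth.Agent.AssLib.mem_support_of_mem_ass hz₀))
    rw [hy]
    exact le_antisymm (hle y' n fun w hw => (Groth.Agent.FibreAss.forall_fibre_PD_iff f _ y').1 h1 w hw w hw specializes_rfl)
      (hn ▸ hge y' z hz)

end Groth.Agent.S4969
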