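import Groth.Statements.S4978
import Groth.Agent.ProperNhd.Closure

set_option autoImplicit false
open CategoryTheory AlgebraicGeometry
universe u v w
open EGA43

namespace Groth.Agent.S4978

open CategoryTheory.Limits in
/-- Let Y be a Noetherian scheme, f : X ⟶ Y a separated morphism of finite type, Z a subset of X such
that every maximal point of the closure of Z belongs to Z, and y a point of Y. Then the closure of Z
is proper over Y at y (for some open U ∋ y, its trace on f⁻¹(U) is proper over U with the reduced
structure) if and only if: for every discrete valuation ring A' and every morphism g : Spec A' ⟶ Y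
mapping the closed point to y, every point x' of X' = X ×_Y Spec A' which projects into Z, lies over
the generic point η' of Spec A' and is rational over κ(η') is in the image of some section of X' ⟶
Spec A'. -/
theorem result {X Y : Scheme.{u}} [IsNoetherian Y] (f : X ⟶ Y) [IsSeparated f]
    [LocallyOfFiniteType f] [QuasiCompact f] (Z : Set X)
    (hZ : ∀ z ∈ closure Z, (∀ z' ∈ closure Z, z ∈ closure {z'} → z' = z) → z ∈ Z) (y : Y) :
    (∃ U : Y.Opens, y ∈ U ∧ ∃ hC : IsClosed ((f ⁻¹ᵁ U).ι.base ⁻¹' closure Z),
      IsProper ((Scheme.IdealSheafData.vanishingIdeal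
        (⟨(f ⁻¹ᵁ U).ι.base ⁻¹' closure Z, hC⟩ : TopologicalSpace.Closeds ↥(f ⁻¹ᵁ U))).subschemeι ≫ (f ∣_ U))) ↔
      ∀ (A' : Type u) [CommRing A'] [IsDomain A'] [IsDiscreteValuationRing A'] (g : Spec (CommRingCat.of A') ⟶ Y),
        g.base (IsLocalRing.closedPoint A') = y →
        ∀ x' : ↥(pullback f g), (pullback.fst f g).base x' ∈ Z →
          (pullback.snd f g).base x' = genericPoint (Spec (CommRingCat.of A')) →
          Function.Bijective ((pullback.snd f g).residueFieldMap x').hom →
          ∃ s : Spec (CommRingCat.of A') ⟶ pullback f g, s ≫ pullback.snd f g = 𝟙 _ ∧ x' ∈ Set.range s.base := by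
  let Zc : TopologicalSpace.Closeds X := ⟨closure Z, isClosed_closure⟩
  let j := (Scheme.IdealSheafData.vanishingIdeal Zc).subschemeι
  have hj : Set.range j = closure Z := H23.RedSub.range_vanishingIdeal Zc
  have : IsReduced (Scheme.IdealSheafData.vanishingIdeal Zc).subscheme := H23.RedSub.isReduced_vanishingIdeal Zc
  have : IsLocallyNoetherian X := LocallyOfFiniteType.isLocallyNoetherian f
  have : CompactSpace X := QuasiCompact.compactSpace_of_compactSpace f
  constructor
  · rintro ⟨U, hyU, hC, hP⟩ A' _ _ _ g hg x' hx'Z hx'η hrat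
    have hU : IsProper ((j ≫ f) ∣_ U) := (ProperNhd.isProper_vanishingIdeal_iff f U j hj hC).1 hP
    obtain ⟨σ, hσ1, hσ2⟩ := ProperNhd.exists_lift_of_bijective_residueFieldMap (K := FractionRing A')
      (pullback.snd f g) x' hrat ((ProperNhd.genMap_closedPoint A').trans hx'η.symm)
    obtain ⟨σ0, hσ0⟩ := H23.RedSub.exists_lift_closed (σ ≫ pullback.fst f g) j (by
      rintro _ ⟨t, rfl⟩
      rw [hj]
      obtain rfl : t = (IsLocalRing.closedPoint (FractionRing A') : ↥(Spec (CommRingCat.of (FractionRing A')))) :=
        Subsingleton.elim _ _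
      exact subset_closure ((congrArg (pullback.fst f g) hσ2).symm ▸ hx'Z))
    have hgU : Set.range g ⊆ Set.range U.ι := by
      rintro _ ⟨t, rfl⟩
      rw [Scheme.Opens.range_ι]
      exact ((IsLocalRing.specializes_closedPoint t).map g.continuous).mem_open U.2 (by rw [hg]; exact hyU)
    let g' := IsOpenImmersion.lift U.ι g hgU
    let x0 := (isPullback_morphismRestrict (j ≫ f) U).lift (ProperNhd.genMap A' ≫ g') σ0 (by
      rw [Category.assoc, IsOpenImmersion.lift_fac, reassoc_of% hσ0, pullback.condition, reassoc_of% hσ1])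
    obtain ⟨l, hl1, hl2⟩ := Proj16.dvrExistence_of_universallyClosed ((j ≫ f) ∣_ U) A' x0 g'
      (IsPullback.lift_fst _ _ _ _)
    let l0 := l ≫ ((j ≫ f) ⁻¹ᵁ U).ι ≫ j
    have hl0 : l0 ≫ f = g :=
      calc l0 ≫ f = l ≫ ((j ≫ f) ∣_ U) ≫ U.ι := by rw [Category.assoc, Category.assoc, morphismRestrict_ι]
        _ = g := by rw [reassoc_of% hl1]; exact IsOpenImmersion.lift_fac _ _ _
    refine ⟨pullback.lift l0 (𝟙 _) (by rw [hl0, Category.id_comp]), pullback.lift_snd _ _ _,
      ProperNhd.genMap A' (IsLocalRing.closedPoint (FractionRing A')), ?_⟩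
    suffices hh : ProperNhd.genMap A' ≫ pullback.lift l0 (𝟙 _) (by rw [hl0, Category.id_comp]) = σ from
      (congrArg (fun φ : Spec (CommRingCat.of (FractionRing A')) ⟶ pullback f g =>
        φ (IsLocalRing.closedPoint (FractionRing A'))) hh).trans hσ2
    refine pullback.hom_ext ?_ ?_
    · rw [Category.assoc, pullback.lift_fst, ← hσ0, reassoc_of% hl2, IsPullback.lift_snd_assoc]
    · rw [Category.assoc, pullback.lift_snd, Category.comp_id, hσ1]
  · intro H
    have HL : ProperNhd.HasLiftsAt (j ≫ f) y := by
      intro A _ _ _ x g hg hx hmax _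
      let c : ↥(Spec (CommRingCat.of (FractionRing A))) := IsLocalRing.closedPoint (FractionRing A)
      have hzmem : j (x c) ∈ Z := by
        refine hZ _ (hj.subset ⟨_, rfl⟩) fun z' hz' hcl => ?_
        obtain ⟨w, rfl⟩ := hj.ge hz'
        exact congrArg j (hmax w (j.isEmbedding.isInducing.specializes_iff.1 (specializes_iff_mem_closure.2 hcl)))
      let σ := pullback.lift (x ≫ j) (ProperNhd.genMap A) ((Category.assoc _ _ _).trans hx)
      have hσ2 : σ ≫ pullback.snd f g = ProperNhd.genMap A := pullback.lift_snd _ _ _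
      have hsurj := ProperNhd.residueFieldMap_surjective_of_section (pullback.snd f g) σ hσ2
      obtain ⟨s, hs1, t, ht⟩ := H A g hg (σ c)
        (by rw [← Scheme.Hom.comp_apply, pullback.lift_fst]; exact hzmem)
        (by rw [← Scheme.Hom.comp_apply, hσ2]; exact ProperNhd.genMap_closedPoint A)
        ⟨((pullback.snd f g).residueFieldMap (σ c)).hom.injective, hsurj⟩
      have htc : t = ProperNhd.genMap A c := by
        have h1 := congrArg (pullback.snd f g) ht
        rw [← Scheme.Hom.comp_apply, hs1, ← Scheme.Hom.comp_apply, hσ2] at h1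
        exact h1
      have hgs : ProperNhd.genMap A ≫ s = σ := by
        refine ProperNhd.ext_of_residueFieldMap_surjective (pullback.snd f g) hsurj _ _ ?_ rfl ?_
        · exact (congrArg s htc).symm.trans ht
        · rw [Category.assoc, hs1, Category.comp_id, hσ2]
      let l1 := s ≫ pullback.fst f g
      have hl1g : ProperNhd.genMap A ≫ l1 = x ≫ j := by rw [reassoc_of% hgs, pullback.lift_fst]
      obtain ⟨l, hl⟩ := H23.RedSub.exists_lift_closed l1 j (by
        rintro _ ⟨a, rfl⟩
        rw [hj]
        have hga : ProperNhd.genMap A c ⤳ a := by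
          rw [ProperNhd.genMap_closedPoint]
          exact genericPoint_specializes a
        refine (hga.map l1.continuous).mem_closed isClosed_closure ?_
        rw [← Scheme.Hom.comp_apply, hl1g, Scheme.Hom.comp_apply]
        exact subset_closure hzmem)
      refine ⟨l, ?_, ?_⟩
      · rw [reassoc_of% hl, Category.assoc, pullback.condition, reassoc_of% hs1]
      · rw [← cancel_mono j, Category.assoc, hl, hl1g]
    obtain ⟨U, hyU, hU⟩ := ProperNhd.exists_isProper_nhd (j ≫ f) y HL
    refine ⟨U, hyU, isClosed_closure.preimage (f ⁻¹ᵁ U).ι.continuous, ?_⟩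
    exact (ProperNhd.isProper_vanishingIdeal_iff f U j hj _).2 hU

end Groth.Agent.S4978
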