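import Groth.Statements.S4983
import Groth.Agent.FibreAss.Dims

set_option autoImplicit false
open CategoryTheory AlgebraicGeometry
universe u v w
open EGA43

namespace Groth.Agent.S4983

/-- Let f : X ⟶ Y be a morphism locally of finite presentation and F a finitely presented O_X-module
which is f-flat; for x in X write F_{f x} for the restriction of F to the fibre of f through x. Then
the set of points x which lie on no embedded associated cycle of F_{f x} — every associated point of
F_{f x} specializing to x is not a specialization of another associated point — is open in X. -/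
theorem result {X Y : Scheme.{u}} (f : X ⟶ Y) [LocallyOfFinitePresentation f]
    (F : X.Modules) (hF : CohB1.IsFP F) (hflat : FlatMod.IsFlatOver f F) :
    IsOpen {x : X | ∀ z ∈ AssSch.Ass ((Scheme.Modules.pullback (f.fiberι (f.base x))).obj F), f.asFiber x ∈ closure {z} →
      ∀ z' ∈ AssSch.Ass ((Scheme.Modules.pullback (f.fiberι (f.base x))).obj F), z ∈ closure {z'} → z' = z} := by
  convert Groth.Agent.FibreAss.isOpen_PD (fun a b => a = b) f F hF hflat using 1
  ext x
  refine Iff.trans ?_ (Groth.Agent.FibreAss.PD_iff_fiber (fun a b => a = b) f F x).symm
  constructor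
  · intro h z hz hx z' hz' hzz'
    rw [h z hz hx z' hz' hzz']
  · intro h z hz hx z' hz' hzz'
    exact Groth.Agent.FibreAss.eq_of_specializes_of_rd_eq f hzz' (h z hz hx z' hz' hzz')

end Groth.Agent.S4983
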