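import Groth.Statements.S4996
import Groth.Agent.PopescuLib.Field
import Groth.Agent.GeomReg.Basic
import Mathlib.RingTheory.Smooth.Fiber
import Mathlib.RingTheory.Smooth.Flat

set_option autoImplicit false
universe u
open Unram17

namespace Groth.Agent.S4996

open TensorProduct in
/-- Let B be a finitely presented algebra over a commutative ring A. Then B is smooth over A if and only
if B is flat over A and every fibre ring κ(p) ⊗_A B, p a prime of A, is geometrically regular over
the residue field κ(p), i.e. stays a regular ring after base change to any finite extension of κ(p). -/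
theorem result (A B : Type u) [CommRing A] [CommRing B]
    [Algebra A B] [Algebra.FinitePresentation A B] :
    Algebra.Smooth A B ↔
      Module.Flat A B ∧ ∀ (p : Ideal A) [p.IsPrime], CAlg.IsGeometricallyRegular p.ResidueField (p.Fiber B) := by
  constructor
  · intro h
    refine ⟨inferInstance, fun p _ K _ _ _ => ?_⟩
    exact Groth.Agent.GeomReg.isRegularRing_of_smooth K (K ⊗[p.ResidueField] p.Fiber B)
  · rintro ⟨hfl, hreg⟩
    haveI : ∀ (p : Ideal A) [p.IsPrime], Algebra.FormallySmooth p.ResidueField (p.Fiber B) := fun p _ => by
      haveI : IsNoetherianRing (p.Fiber B) := Algebra.FiniteType.isNoetherianRing p.ResidueField _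
      haveI : Algebra.FinitePresentation p.ResidueField (p.Fiber B) :=
        Algebra.FinitePresentation.of_finiteType.1 inferInstance
      obtain ⟨S, _, _, hS, g, h, hgh⟩ := Groth.Agent.PopescuLib.indSmooth_field (hreg p) (p.Fiber B)
        inferInstance (AlgHom.id _ _)
      haveI := hS.formallySmooth
      refine Algebra.FormallySmooth.of_comp_surjective fun T _ _ I hI f => ?_
      obtain ⟨l, hl⟩ := Algebra.FormallySmooth.comp_surjective _ _ I hI (f.comp h)
      exact ⟨l.comp g, by rw [← AlgHom.comp_assoc, hl, AlgHom.comp_assoc, hgh, AlgHom.comp_id]⟩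
    exact Algebra.Smooth.of_formallySmooth_fiber (R := A) (S := B) (fun p _ => inferInstance)

end Groth.Agent.S4996
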