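import Groth.Statements.S5001
import Groth.Agent.CIntLib.EtaleCrit

set_option autoImplicit false
universe u
open Unram17

namespace Groth.Agent.S5001

/-- Let k be a field, A a k-algebra of finite type equipped with a k-algebra map from the polynomial
ring in n variables, with images g_i of the variables, and p a prime of A such that Spec A has local
dimension n at p, the residue field of p is a finite separable extension of k, and every g_i lies in
p. Then A is etale over the polynomial ring at p if and only if the images of the g_i generate the
maximal ideal of the local ring A_p. -/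
theorem result (k A : Type u) [Field k] [CommRing A] [Algebra k A]
    [Algebra.FiniteType k A] (n : ℕ) [Algebra (MvPolynomial (Fin n) k) A]
    [IsScalarTower k (MvPolynomial (Fin n) k) A] (p : Ideal A) [p.IsPrime]
    (hn : FlatMor.localDim (PrimeSpectrum A) ⟨p, inferInstance⟩ = (n : WithBot ℕ∞))
    [Module.Finite k p.ResidueField] [Algebra.IsSeparable k p.ResidueField]
    (hg : ∀ i : Fin n, algebraMap (MvPolynomial (Fin n) k) A (MvPolynomial.X i) ∈ p) :
    Algebra.IsEtaleAt (MvPolynomial (Fin n) k) p ↔
      Ideal.span (Set.range fun i : Fin n =>
        algebraMap A (Localization.AtPrime p) (algebraMap (MvPolynomial (Fin n) k) A (MvPolynomial.X i))) =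
        IsLocalRing.maximalIdeal (Localization.AtPrime p) := by
  obtain ⟨d, -, htr, hco⟩ := Groth.Agent.CIntLib.exists_dim_residueField (k := k) p
  have hd : d = 0 := by
    rw [trdeg_eq_zero (R := k) (A := p.ResidueField)] at htr
    exact_mod_cast htr.symm
  subst hd
  have hr : ringKrullDim (Localization.AtPrime p) = (n : WithBot ℕ∞) := by
    rw [IsLocalization.AtPrime.ringKrullDim_eq_height p, ← hn,
      Groth.Agent.CAlgOdd.LocalDimSpec.localDim_eq_add k, hco, Nat.cast_zero, add_zero,
      ← PrimeSpectrum.height_eq_orderHeight]
  rw [Groth.Agent.CIntLib.isEtaleAt_iff p n hn hr (fun i _ => hg i)]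
  have hset : {i : Fin n | (i : ℕ) < n} = Set.univ := Set.eq_univ_of_forall fun i => i.2
  rw [hset, Set.image_univ]
  refine and_iff_left ?_
  haveI : Subsingleton (Ω[p.ResidueField⁄k]) :=
    (Algebra.FormallyUnramified.of_isSeparable k p.ResidueField).1
  exact Subsingleton.elim _ _

end Groth.Agent.S5001
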