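import Groth.Statements.S5061
import Groth.Agent.Ega41H93.InsepModel
import Groth.Agent.Calg46.GeomNormal

set_option autoImplicit false
open scoped TensorProduct
universe u
open EGA418

open scoped TensorProduct
set_option linter.style.haveILetI false
set_option maxHeartbeats 1000000
set_option synthInstance.maxHeartbeats 200000
namespace Groth.Agent.S5061

section

variable (k k' K P : Type u) [Field k] [Field k'] [Algebra k k'] [Field K] [Algebra k K] [Field P] [Algebra k P]
  [Algebra k' P] [IsScalarTower k k' P]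

/-- `P ⊗ (k' ⊗ K) → P ⊗ (k' ⊗ K)_red`. -/
noncomputable def redMap :
    P ⊗[k'] (k' ⊗[k] K) →ₐ[k'] P ⊗[k'] ((k' ⊗[k] K) ⧸ nilradical (k' ⊗[k] K)) :=
  Algebra.TensorProduct.map (AlgHom.id k' P) (Ideal.Quotient.mkₐ k' _)

theorem ker_redMap : RingHom.ker (redMap k k' K P) =
    (nilradical (k' ⊗[k] K)).map (Algebra.TensorProduct.includeRight :
      k' ⊗[k] K →ₐ[k'] P ⊗[k'] (k' ⊗[k] K)) := by
  rw [redMap, Algebra.TensorProduct.lTensor_ker _ (Ideal.Quotient.mkₐ_surjective k' _), AlgHom.ker_coe,
    Ideal.Quotient.mkₐ_ker]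

theorem ker_redMap_le : RingHom.ker (redMap k k' K P) ≤ nilradical (P ⊗[k'] (k' ⊗[k] K)) := by
  rw [ker_redMap, Ideal.map_le_iff_le_comap]
  intro x hx
  rw [Ideal.mem_comap, mem_nilradical]
  exact (mem_nilradical.1 hx).map _

theorem redMap_surjective : Function.Surjective (redMap k k' K P) :=
  Algebra.TensorProduct.map_surjective _ _ Function.surjective_id (Ideal.Quotient.mkₐ_surjective k' _)

variable [Module.Finite k k'] [IsPurelyInseparable k k'] [IsPurelyInseparable k' P]

/-- A geometrically reduced `(k' ⊗ K)_red` makes `P ⊗ K` Artinian. -/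
theorem isArtinianRing_of_gr
    (hgr : Algebra.IsGeometricallyReduced k' ((k' ⊗[k] K) ⧸ nilradical (k' ⊗[k] K))) :
    IsArtinianRing (P ⊗[k] K) := by
  let Q := k' ⊗[k] K
  haveI : IsArtinianRing (K ⊗[k] k') := IsArtinianRing.of_finite K _
  haveI : IsArtinianRing Q := (Algebra.TensorProduct.comm k K k').surjective.isArtinianRing
  let N := nilradical Q
  obtain ⟨m, hm⟩ := Ideal.exists_maximal Q
  haveI := hm
  haveI : N.IsMaximal := by
    show (nilradical (k' ⊗[k] K)).IsMaximal
    rw [← Ega41H93.eq_nilradical_of_isMaximal k' K m]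
    exact hm
  letI : Field (Q ⧸ N) := Ideal.Quotient.field N
  haveI := hgr
  haveI : IsReduced (P ⊗[k'] (Q ⧸ N)) := inferInstance
  let R := P ⊗[k'] Q
  have hker : RingHom.ker (redMap k k' K P) = nilradical R := by
    refine le_antisymm (ker_redMap_le k k' K P) fun x hx => ?_
    exact RingHom.mem_ker.2 ((mem_nilradical.1 hx).map (redMap k k' K P)).eq_zero
  have hone : ∀ J : Ideal R, J.IsPrime → J = nilradical R := by
    intro J hJ
    refine le_antisymm (fun x hx => ?_) (nilradical_le_prime J)
    obtain ⟨n, hn, a, ha⟩ := Ega41H93.exists_pow_eq_one_tmul P (Q ⧸ N) (redMap k k' K P x)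
    rw [← hker, RingHom.mem_ker]
    by_cases h0 : a = 0
    · exact IsNilpotent.eq_zero ⟨n, by rw [ha, h0, TensorProduct.tmul_zero]⟩
    · exfalso
      obtain ⟨v, hv⟩ := redMap_surjective k k' K P (1 ⊗ₜ a⁻¹)
      have h1 : x ^ n * v - 1 ∈ RingHom.ker (redMap k k' K P) := by
        rw [RingHom.mem_ker, map_sub, map_mul, map_pow, map_one, ha, hv, Algebra.TensorProduct.tmul_mul_tmul,
          mul_inv_cancel₀ h0, one_mul]
        exact sub_self _
      refine hJ.ne_top (J.eq_top_iff_one.2 ?_)
      have h2 : x ^ n * v - 1 ∈ J := nilradical_le_prime J (hker ▸ h1)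
      have h3 := J.sub_mem (J.mul_mem_right v (J.pow_mem_of_mem hx n hn)) h2
      rwa [sub_sub_cancel] at h3
  have hfg : (nilradical R).FG := by
    rw [← hker, ker_redMap]
    exact Ideal.FG.map (IsNoetherian.noetherian N) _
  haveI : IsNoetherianRing R := IsNoetherianRing.of_prime fun J hJ => by rw [hone J hJ]; exact hfg
  haveI : Ring.KrullDimLE 0 R := Ring.krullDimLE_zero_iff.2 fun J hJ => by
    obtain ⟨M, hM, hJM⟩ := J.exists_le_maximal hJ.ne_top
    rwa [hone J hJ, ← hone M hM.isPrime]
  haveI : IsArtinianRing R := isArtinianRing_iff_isNoetherianRing_krullDimLE_zero.2 ⟨inferInstance, inferInstance⟩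
  exact (Algebra.TensorProduct.cancelBaseChange k k' P P K).surjective.isArtinianRing

/-- Generators of the nilradical of `P ⊗ K` defined over `k'` give geometric reducedness. -/
theorem gr_of_gens (G : Set (P ⊗[k'] (k' ⊗[k] K)))
    (hG : Ideal.span G = nilradical (P ⊗[k'] (k' ⊗[k] K)))
    (hGk : ∀ x ∈ G, ∃ y : k' ⊗[k] K, 1 ⊗ₜ y = x) [PerfectField P] :
    Algebra.IsGeometricallyReduced k' ((k' ⊗[k] K) ⧸ nilradical (k' ⊗[k] K)) := by
  let Q := k' ⊗[k] K
  have hker : RingHom.ker (redMap k k' K P) = nilradical (P ⊗[k'] Q) := by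
    refine le_antisymm (ker_redMap_le k k' K P) ?_
    rw [← hG, Ideal.span_le]
    intro x hx
    obtain ⟨y, rfl⟩ := hGk x hx
    have hn : IsNilpotent ((1 : P) ⊗ₜ[k'] y) := mem_nilradical.1 (hG ▸ Ideal.subset_span hx)
    have hy : IsNilpotent y :=
      (IsNilpotent.map_iff (f := (Algebra.TensorProduct.includeRight : Q →ₐ[k'] P ⊗[k'] Q))
        (Algebra.TensorProduct.includeRight_injective (algebraMap k' P).injective)).1 hn
    rw [ker_redMap]
    exact Ideal.mem_map_of_mem _ (mem_nilradical.2 hy)
  haveI : IsReduced (P ⊗[k'] (Q ⧸ nilradical Q)) :=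
    ⟨fun z ⟨n, hn⟩ => by
      obtain ⟨w, rfl⟩ := redMap_surjective k k' K P z
      rw [← map_pow] at hn
      have : IsNilpotent (w ^ n) := mem_nilradical.1 (hker ▸ RingHom.mem_ker.2 hn)
      exact RingHom.mem_ker.1 (hker.symm ▸ mem_nilradical.2 this.of_pow)⟩
  refine GeomField.gr_of_purelyInseparable _ fun k'' _ _ _ _ => ?_
  obtain ⟨τ⟩ : Nonempty (k'' →ₐ[k'] P) := inferInstance
  have h1 : IsReduced (k'' ⊗[k'] (Q ⧸ nilradical Q)) :=
    isReduced_of_injective (Algebra.TensorProduct.map τ (AlgHom.id k' (Q ⧸ nilradical Q)))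
      (Module.Flat.rTensor_preserves_injective_linearMap _ τ.toRingHom.injective)
  exact isReduced_of_injective (Algebra.TensorProduct.comm k' (Q ⧸ nilradical Q) k'')
    (Algebra.TensorProduct.comm k' (Q ⧸ nilradical Q) k'').injective

end

theorem gr_of_stage (k E K : Type u) {P : Type u} [Field k] [Field E] [Field P] [Algebra k E] [Algebra k P]
    [Algebra E P] [IsScalarTower k E P] [Field K] [Algebra k K] [Module.Finite k E] [IsPurelyInseparable k E]
    [IsPurelyInseparable E P] [PerfectField P] (G : Set (P ⊗[k] K)) (hG : Ideal.span G = nilradical (P ⊗[k] K))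
    (hGE : ∀ x ∈ G, x ∈ (Algebra.TensorProduct.map (IsScalarTower.toAlgHom k E P) (AlgHom.id k K)).range) :
    Algebra.IsGeometricallyReduced E ((E ⊗[k] K) ⧸ nilradical (E ⊗[k] K)) := by
  let e := Algebra.TensorProduct.cancelBaseChange k E P P K
  refine gr_of_gens k E K P (e.symm '' G) ?_ ?_
  · refine le_antisymm (Ideal.span_le.2 ?_) fun x hx => ?_
    · rintro _ ⟨y, hy, rfl⟩
      exact mem_nilradical.2 ((mem_nilradical.1 (hG ▸ Ideal.subset_span hy)).map e.symm)
    · have h1 : e x ∈ Ideal.span G := hG ▸ mem_nilradical.2 ((mem_nilradical.1 hx).map e)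
      have h2 := Ideal.mem_map_of_mem e.symm h1
      rwa [e.symm_apply_apply, Ideal.map_span] at h2
  · rintro _ ⟨x, hx, rfl⟩
    obtain ⟨y, rfl⟩ := hGE x hx
    refine ⟨y, e.injective ?_⟩
    rw [e.apply_symm_apply]
    clear hx
    induction y using TensorProduct.induction_on with
    | zero => simp
    | tmul a b => simp [e, Algebra.smul_def]
    | add a b ha hb => rw [TensorProduct.tmul_add, map_add, map_add, ha, hb]

/-- a) iff c): let k be a field of characteristic p > 0, P a perfect closure of k (a perfect field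
purely inseparable over k) and K an extension field of k. Then the ring K ⊗_k P is Artinian if and
only if there exists a finite purely inseparable extension k' of k such that (k' ⊗_k K) modulo its
nilradical is geometrically reduced over k'. -/
theorem result (p : ℕ) [Fact p.Prime]
    (k K : Type u) [Field k] [CharP k p] [Field K] [Algebra k K]
    (P : Type u) [Field P] [Algebra k P] [PerfectRing P p] [IsPRadical (algebraMap k P) p] :
    IsArtinianRing (K ⊗[k] P) ↔
      ∃ (k' : Type u) (_ : Field k') (_ : Algebra k k'), Module.Finite k k' ∧ IsPurelyInseparable k k' ∧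
        Algebra.IsGeometricallyReduced k' ((k' ⊗[k] K) ⧸ nilradical (k' ⊗[k] K)) := by
  classical
  haveI : CharP P p := charP_of_injective_algebraMap (algebraMap k P).injective p
  haveI : ExpChar k p := ExpChar.prime (Fact.out)
  haveI : ExpChar P p := ExpChar.prime (Fact.out)
  haveI : PerfectField P := PerfectRing.toPerfectField P p
  haveI hPk : IsPurelyInseparable k P := IsPRadical.isPurelyInseparable k P p
  constructor
  · intro hA
    haveI : IsArtinianRing (P ⊗[k] K) := (Algebra.TensorProduct.comm k K P).surjective.isArtinianRing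
    obtain ⟨G, hG⟩ := IsNoetherian.noetherian (nilradical (P ⊗[k] K))
    obtain ⟨E, hE, hEG⟩ := Calg46.GeomNormal.exists_fg_stage (k := k) (k' := P) (A := K) G
    haveI := hE
    haveI : IsPurelyInseparable k E := IsPurelyInseparable.tower_bot k E P
    haveI : Algebra.IsAlgebraic k E := inferInstance
    haveI : Module.Finite k E := Algebra.finite_of_essFiniteType_of_isAlgebraic
    haveI : IsPurelyInseparable E P := IsPurelyInseparable.tower_top k E P
    refine ⟨E, inferInstance, inferInstance, inferInstance, inferInstance, ?_⟩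
    exact gr_of_stage k E K G hG fun x hx => hEG x hx
  · rintro ⟨k', _, _, hfin, hins, hgr⟩
    obtain ⟨σ⟩ : Nonempty (k' →ₐ[k] P) := inferInstance
    letI : Algebra k' P := σ.toRingHom.toAlgebra
    haveI : IsScalarTower k k' P := IsScalarTower.of_algebraMap_eq fun c => (σ.commutes c).symm
    haveI : IsPurelyInseparable k' P := IsPurelyInseparable.tower_top k k' P
    haveI := isArtinianRing_of_gr k k' K P hgr
    exact (Algebra.TensorProduct.comm k P K).surjective.isArtinianRing

end Groth.Agent.S5061
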