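import Groth.Statements.S5082
import Groth.Agent.MeroDepth.Basic

set_option autoImplicit false
universe u
open CategoryTheory CategoryTheory.Limits AlgebraicGeometry TopologicalSpace
open Mero

namespace Groth.Agent.S5082

/-- Let A be a Noetherian local ring. Then the group of divisors of Spec A is trivial (every divisor
equals the unit divisor, divisors being written multiplicatively) if and only if A has depth 0, that
is, if and only if every element of the maximal ideal of A is a zero-divisor. -/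
theorem result (A : Type u) [CommRing A] [IsNoetherianRing A] [IsLocalRing A] :
    (∀ D : Mero.Divisor (Spec (CommRingCat.of A)), D = 1) ↔ LocCoh.depth A A = 0 := by
  let X := Spec (CommRingCat.of A)
  let c : X := IsLocalRing.closedPoint A
  let e := Scheme.ΓSpecIso (CommRingCat.of A)
  have hc : ∀ a : Γ(X, ⊤), c ∈ X.basicOpen a ↔ IsUnit (e.hom a) := fun a => by
    rw [basicOpen_eq_of_affine']
    exact IsLocalRing.notMem_maximalIdeal
  have hreg : ∀ a : Γ(X, ⊤), a ∈ Mero.regSub X ⊤ ↔ e.hom a ∈ nonZeroDivisors A := fun a => by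
    rw [MeroX.regSub_eq_nonZeroDivisors (isAffineOpen_top X)]
    exact (MulEquivClass.map_nonZeroDivisors e.commRingCatIsoToRingEquiv ▸
      (Submonoid.mem_map_iff_mem e.commRingCatIsoToRingEquiv.injective).symm :
      a ∈ nonZeroDivisors Γ(X, ⊤) ↔ e.commRingCatIsoToRingEquiv a ∈ nonZeroDivisors A)
  have htop : ∀ W : X.Opens, c ∈ W → ∀ y : X, y ∈ W := fun W hW y =>
    (PrimeSpectrum.le_iff_specializes y c).1 (IsLocalRing.le_maximalIdeal y.2.ne_top) |>.mem_open W.isOpen hW
  constructor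
  · intro H
    by_contra hd
    have hd1 : (1 : ℕ∞) ≤ LocCoh.depth A A := Order.one_le_iff_pos.2 (pos_iff_ne_zero.2 hd)
    obtain ⟨a, ha, hareg⟩ := (Alg6.exists_isSMulRegular_mem_iff (M := A) (IsLocalRing.maximalIdeal A)).2
      fun P hP hle => Alg6.one_le_depth_iff.1 hd1
        ((IsLocalRing.maximalIdeal.isMaximal A).eq_of_le (IsAssociatedPrime.isPrime hP).ne_top hle ▸ hP)
    let t := e.inv a
    have ht : e.hom t = a := e.inv_hom_id_apply a
    have htr : t ∈ Mero.regSub X ⊤ := (hreg t).2 (ht.symm ▸ mem_nonZeroDivisors_iff_right.2 fun z hz =>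
      hareg (show a * z = a * 0 by rw [mul_comm, hz, mul_zero]))
    let g : Γ(Mero.kmod X, ⊤) := ⟨fun x => LocalizedModule.mk 1 (Mero.regGerm x ⟨t, htr⟩),
      fun x => ⟨⊤, x.2, 𝟙 _, 1, ⟨t, htr⟩, fun y => Mero.mk_congr (map_one _).symm rfl⟩⟩
    have hg : Mero.toK X ⊤ t * g = 1 := Subtype.ext (funext fun x => by
      show LocalizedModule.mk (X.presheaf.germ ⊤ x.1 x.2 t) 1 * LocalizedModule.mk 1 (Mero.regGerm x ⟨t, htr⟩) =
        (1 : Mero.KStalk X x.1)
      exact LocalizedModule.mk_mul_mk.trans ((Mero.mk_congr (mul_one _) (by rw [one_mul])).trans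
        (Mero.mk_self_eq_one (Mero.regGerm x ⟨t, htr⟩))))
    let u : (Γ(Mero.kmod X, ⊤))ˣ := ⟨g, Mero.toK X ⊤ t, by rw [mul_comm, hg], hg⟩
    have h1 := ((MeroDepth.mk_eq_one_iff c _).1 (congrFun (congrArg Subtype.val (H (Mero.div u))) c)).1
    obtain ⟨s, hs⟩ := h1
    refine (IsLocalRing.mem_maximalIdeal _).1 ha ?_
    rw [← ht, ← hc, X.mem_basicOpen t c trivial]
    refine IsUnit.of_mul_eq_one s (Mero.algebraMap_KStalk_injective c ?_)
    rw [map_mul, map_one, hs]
    exact congrFun (congrArg Subtype.val hg) ⟨c, trivial⟩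
  · intro hd D
    have hass : IsLocalRing.maximalIdeal A ∈ associatedPrimes A A := by
      by_contra h
      have := Alg6.one_le_depth_iff.2 h
      rw [hd] at this
      exact absurd this (by simp)
    obtain ⟨U, hcU, f, hU⟩ := D.2 c
    obtain rfl : U = ⊤ := eq_top_iff.2 fun y _ => htop U hcU y
    have key : ∀ (f : Γ(Mero.kmod X, ⊤)) (y : X), MeroDepth.Reg y (Mero.evalK X ⊤ ⟨y, trivial⟩ f) := by
      intro f y
      obtain ⟨W, hW, i, a, b, hab⟩ := f.2 ⟨c, trivial⟩
      obtain rfl : W = ⊤ := eq_top_iff.2 fun y _ => htop W hW y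
      have hb : IsUnit (X.presheaf.germ ⊤ y trivial b.1) := by
        refine (X.mem_basicOpen b.1 y trivial).1 (htop _ ((hc b.1).2 ?_) y)
        by_contra hnu
        exact Alg6.isSMulRegular_iff_forall_ass.1
          (fun p q h => (mul_cancel_left_mem_nonZeroDivisors ((hreg b.1).1 b.2)).1 h) _ hass
          ((IsLocalRing.mem_maximalIdeal _).2 hnu)
      obtain ⟨v, hv⟩ := hb
      refine ⟨X.presheaf.germ ⊤ y trivial a * ↑v⁻¹, ?_⟩
      show _ = (f : Γ(Mero.kmod X, ⊤)).1 ⟨y, trivial⟩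
      refine Eq.trans ?_ (hab ⟨y, trivial⟩).symm
      show LocalizedModule.mk _ 1 = _
      refine LocalizedModule.mk_eq.2 ⟨1, ?_⟩
      simp only [one_smul, Submonoid.smul_def, Submonoid.coe_one, smul_eq_mul, one_mul]
      simp only [Algebra.algebraMap_self, RingHom.id_apply]
      exact (mul_left_comm _ _ _).trans ((congrArg (fun w => X.presheaf.germ ⊤ y trivial a * (w * ↑v⁻¹)) hv.symm).trans
        (by rw [Units.mul_inv, mul_one]))
    refine Subtype.ext (funext fun y => ?_)
    rw [hU ⟨y, trivial⟩]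
    exact (MeroDepth.mk_eq_one_iff y _).2 ⟨key _ y, key ((f⁻¹ : (Γ(Mero.kmod X, ⊤))ˣ) : Γ(Mero.kmod X, ⊤)) y⟩

end Groth.Agent.S5082
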