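import Groth.Statements.S5084
import Groth.Agent.AssLib.Apply
import Groth.Agent.AssPtX.Noeth
import Groth.Agent.Alg6.AssDepth
import Groth.Agent.QCoh.Sections
import Groth.Agent.RefX.Reflexive

set_option autoImplicit false
universe u
open CategoryTheory CategoryTheory.Limits AlgebraicGeometry TopologicalSpace
open Mero

namespace Groth.Agent.S5084

/-- Let X be a locally Noetherian scheme and F a quasi-coherent O_X-module. Then F is torsion-free — the
canonical map from F to its sheaf of meromorphic sections K_X(F), m ↦ m/1, is a monomorphism, i.e.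
at every point no germ of a regular function kills a nonzero element of the stalk of F — if and only
if every associated point of F is an associated point of the structure sheaf (a point x such that
the maximal ideal of O_{X,x} is an associated prime of O_{X,x}). -/
theorem result (X : Scheme.{u}) [IsLocallyNoetherian X]
    (F : X.Modules) (hF : Coh.IsQCoh F) :
    Mono (Mero.toMer F) ↔
      ∀ x : ↥X, Curv2.IsAssPoint F x →
        IsAssociatedPrime (IsLocalRing.maximalIdeal ↑(X.presheaf.stalk x)) ↑(X.presheaf.stalk x) := by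
  classical
  constructor
  · intro hmono x hx
    by_contra hna
    obtain ⟨hP, z, hz⟩ := Alg6.mem_ass_iff.1 hx
    have hz0 : z ≠ 0 := fun h0 => hP.ne_top ((Ideal.eq_top_iff_one _).2 ((hz 1).2 (by rw [h0, smul_zero])))
    obtain ⟨s, hs, hsreg⟩ := (Alg6.exists_isSMulRegular_mem_iff (M := X.presheaf.stalk x)
      (IsLocalRing.maximalIdeal (X.presheaf.stalk x))).2 fun P hP hle =>
      hna ((IsLocalRing.maximalIdeal.isMaximal _).eq_of_le (IsAssociatedPrime.isPrime hP).ne_top hle ▸ hP)
    obtain ⟨V, hxV, b, hb, hbs⟩ : s ∈ Mero.regStalk X x := by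
      rw [AssPtX.regStalk_eq]
      exact mem_nonZeroDivisors_iff_right.2 fun w hw => hsreg (show s * w = s * 0 by rw [mul_comm, hw, mul_zero])
    obtain ⟨U, hxU, m, rfl⟩ := TopCat.Presheaf.exists_germ_eq F.presheaf z
    have h0 : F.presheaf.germ (U ⊓ V) x ⟨hxU, hxV⟩ (X.presheaf.map (homOfLE (inf_le_right : U ⊓ V ≤ V)).op b •
        F.presheaf.map (homOfLE (inf_le_left : U ⊓ V ≤ U)).op m) =
        F.presheaf.germ (U ⊓ V) x ⟨hxU, hxV⟩ 0 := by
      rw [Mero.germ_smul, TopCat.Presheaf.germ_res_apply, TopCat.Presheaf.germ_res_apply, hbs, map_zero]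
      exact (hz s).1 hs
    obtain ⟨W, hxW, i₁, i₂, hW⟩ := TopCat.Presheaf.germ_eq F.presheaf x _ _ _ _ h0
    have heq : X.presheaf.map (i₁ ≫ homOfLE (inf_le_right : U ⊓ V ≤ V)).op b •
        F.presheaf.map (i₁ ≫ homOfLE (inf_le_left : U ⊓ V ≤ U)).op m = 0 := by
      rw [map_zero] at hW
      rw [← hW, Scheme.Modules.map_smul, op_comp, op_comp, Functor.map_comp, Functor.map_comp]
      rfl
    have h1 : F.presheaf.map (i₁ ≫ homOfLE (inf_le_left : U ⊓ V ≤ U)).op m = 0 := by
      refine QCoh.app_injective (Mero.toMer F) W ?_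
      rw [map_zero]
      refine Subtype.ext (funext fun y => ?_)
      show LocalizedModule.mk _ 1 = (0 : Mero.MStalk F y.1)
      rw [← LocalizedModule.zero_mk (1 : Mero.regStalk X y.1), LocalizedModule.mk_eq]
      refine ⟨Mero.regGerm y ⟨_, Mero.regSub_res (i₁ ≫ homOfLE (inf_le_right : U ⊓ V ≤ V)) hb⟩, ?_⟩
      simp only [one_smul, smul_zero, Submonoid.smul_def]
      rw [← Mero.germ_smul, heq, map_zero]
    exact hz0 (by rw [← F.presheaf.germ_res_apply (i₁ ≫ homOfLE (inf_le_left : U ⊓ V ≤ U)) x hxW m, h1, map_zero])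
  · intro h
    refine QCoh.mono_of_app_injective _ fun V m₁ m₂ hm => ?_
    rw [← sub_eq_zero]
    refine TopCat.Presheaf.section_ext ⟨F.presheaf, F.isSheaf⟩ V (m₁ - m₂) 0 fun x hx => ?_
    show F.presheaf.germ V x hx (m₁ - m₂) = F.presheaf.germ V x hx 0
    rw [map_zero]
    by_contra hne
    have h2 : (LocalizedModule.mk (F.presheaf.germ V x hx m₁) 1 : Mero.MStalk F x) =
        LocalizedModule.mk (F.presheaf.germ V x hx m₂) 1 := congrFun (congrArg Subtype.val hm) ⟨x, hx⟩
    obtain ⟨⟨s, hs⟩, hst⟩ := LocalizedModule.mk_eq.1 h2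
    simp only [one_smul, Submonoid.smul_def] at hst
    rw [AssPtX.regStalk_eq] at hs
    obtain ⟨q, hq, hle⟩ := Alg6.exists_ass_ge (R := X.presheaf.stalk x) hne
    have hsq : s ∈ q := hle s (by rw [map_sub, smul_sub, hst, sub_self])
    obtain ⟨U, hU, hxU, -⟩ := exists_isAffineOpen_mem_and_subset (x := x) (U := ⊤) trivial
    obtain ⟨y, hyU, hy, -, he⟩ := AssLib.exists_point_of_ass_stalk hF hU hxU hq
    obtain ⟨e⟩ := AssLib.nonempty_stalkUnitEquiv (X := X) y
    obtain ⟨e'⟩ := AssLib.nonempty_stalkUnitEquiv (X := X) x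
    have hy' : y ∈ AssSch.Ass (Coh.structureModule X) := by
      rw [AssLib.mem_ass_def, ← LinearEquiv.AssociatedPrimes.eq e]
      exact h y hy
    have hq' : (hU.primeIdealOf ⟨y, hyU⟩).asIdeal ∈ associatedPrimes Γ(X, U) Γ(Coh.structureModule X, U) :=
      (AssLib.mem_ass_iff (RefX.isCoh_unit (X := X)).1 hU hyU).1 hy'
    letI := QCoh.stalkAlg (X := X) hxU
    letI := QCoh.stalkModule (Coh.structureModule X) hxU
    haveI := QCoh.isScalarTower_stalk (Coh.structureModule X) hxU
    haveI := QCoh.isLocalization_stalk' hU hxU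
    haveI := QCoh.isLocalizedModule_germLin (RefX.isCoh_unit (X := X)).1 hU hxU
    haveI : IsNoetherianRing Γ(X, U) := IsLocallyNoetherian.component_noetherian ⟨U, hU⟩
    rw [he] at hq'
    have hq'' : q ∈ associatedPrimes (X.presheaf.stalk x) ((Coh.structureModule X).presheaf.stalk x) := by
      rw [← Module.associatedPrimes.preimage_comap_associatedPrimes_eq_associatedPrimes_of_isLocalizedModule
        (hU.primeIdealOf ⟨x, hxU⟩).asIdeal.primeCompl (X.presheaf.stalk x) (QCoh.germLin (Coh.structureModule X) hxU)]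
      exact hq'
    rw [← LinearEquiv.AssociatedPrimes.eq e'] at hq''
    exact Alg6.isSMulRegular_iff_forall_ass.1
      (fun u v huv => (mul_cancel_left_mem_nonZeroDivisors hs).1 huv) q hq'' hsq

end Groth.Agent.S5084
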