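import Groth.Statements.S5099
import Groth.Agent.Div57.MeroDepth2

set_option autoImplicit false
universe u
open CategoryTheory CategoryTheory.Limits AlgebraicGeometry TopologicalSpace
open Mero

namespace Groth.Agent.S5099

/-- General form, for divisors on a scheme that need not be integral: let X be a locally Noetherian
scheme, D a divisor on X and x a maximal point of the support of D (a point at which the germ of D
is not trivial and none of whose proper generizations has that property). Then the local ring of X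
at x has depth 1. -/
theorem result (X : Scheme.{u}) [IsLocallyNoetherian X] (D : Mero.Divisor X)
    (x : ↥X) (hx : x ∈ Mero.supp D) (hmax : ∀ z : ↥X, z ∈ Mero.supp D → z ⤳ x → z = x) :
    LocCoh.depth ↑(X.presheaf.stalk x) ↑(X.presheaf.stalk x) = 1 := by
  obtain ⟨U, hxU, f, hU⟩ := D.2 x
  have key : ∀ f : (Γ(Mero.kmod X, U))ˣ, ¬ MeroDepth.Reg x (Mero.evalK X U ⟨x, hxU⟩ f.val) →
      (∀ y : U, Mero.germOf f y ≠ 1 → y.1 ∈ Mero.supp D) →
      LocCoh.depth ↑(X.presheaf.stalk x) ↑(X.presheaf.stalk x) = 1 := by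
    intro f hf hsupp
    obtain ⟨y, hd, hyx, hy⟩ := Div57.MeroDepth2.exists_depth_one_point' f ⟨x, hxU⟩ hf
    have := hmax y.1 (hsupp y fun h => hy ((MeroDepth.mk_eq_one_iff y.1 _).1 h).1) hyx
    rw [← this]
    exact hd
  have hne : D.1 x ≠ 1 := hx
  rw [hU ⟨x, hxU⟩, Ne, Mero.germOf, MeroDepth.mk_eq_one_iff, not_and_or] at hne
  rcases hne with h | h
  · exact key f h fun y hy => by show D.1 y.1 ≠ 1; rw [hU y]; exact hy
  · refine key f⁻¹ h fun y hy => ?_
    show D.1 y.1 ≠ 1
    rw [hU y]
    exact fun h1 => hy (by rw [Mero.germOf, map_inv, QuotientGroup.mk_inv, inv_eq_one]; exact h1)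

end Groth.Agent.S5099
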