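import Groth.Statements.S5100
import Groth.Agent.Div57.Desc.Fibre

set_option autoImplicit false
set_option linter.style.haveILetI false
set_option backward.isDefEq.respectTransparency false
set_option backward.isDefEq.respectTransparency.types false
universe u
open CategoryTheory CategoryTheory.Limits AlgebraicGeometry TopologicalSpace
open Div21

namespace Groth.Agent.S5100

/-- Suppose X and Y are locally Noetherian schemes, and consider a morphism f : X → Y that is flat and
surjective (i.e. faithfully flat) and is either quasi-compact or open. Assume Y is normal, and that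
whenever y ∈ Y has a local ring of dimension 1, the fibre X_y has no embedded associated point (if
one associated point of X_y specializes to another, the two coincide). Given an effective Cartier
divisor D' on X, described by its ideal sheaf 𝓙, D' arises as the inverse image of some effective
Cartier divisor on Y exactly when both of the following hold: (1) at each maximal point η of Y,
pulling D' back to the fibre X_η gives zero (the resulting ideal is the unit ideal); and (2) at each
y ∈ Y with one-dimensional local ring (a discrete valuation ring, because Y is normal) one can find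
an integer n ≥ 0 so that, for any uniformizer t of O_{Y,y} and any maximal point x of f⁻¹(y), the
ideal of D' in O_{X,x} (namely the inverse image of 𝓙 on Spec O_{X,x}) is generated by the image of
t raised to the n-th power. -/
theorem result {X Y : Scheme.{u}}
    [IsLocallyNoetherian X] [IsLocallyNoetherian Y] (f : X ⟶ Y) [Flat f] [Surjective f]
    (hf : QuasiCompact f ∨ IsOpenMap f) (hY : Pi1.IsNormalScheme Y)
    (hfib : ∀ y : ↥Y, ringKrullDim ↑(Y.presheaf.stalk y) = 1 → ∀ z z' : ↥(f.fiber y),
      IsAssociatedPrime (IsLocalRing.maximalIdeal ↑((f.fiber y).presheaf.stalk z)) ↑((f.fiber y).presheaf.stalk z) →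
      IsAssociatedPrime (IsLocalRing.maximalIdeal ↑((f.fiber y).presheaf.stalk z')) ↑((f.fiber y).presheaf.stalk z') →
      z' ⤳ z → z' = z)
    (𝓙 : X.IdealSheafData) (hJ : BlowUp.IsEffCartierIdeal 𝓙) :
    (∃ 𝓘 : Y.IdealSheafData, BlowUp.IsEffCartierIdeal 𝓘 ∧ 𝓘.comap f = 𝓙) ↔
      ((∀ η : ↥Y, (∀ z : ↥Y, z ⤳ η → z = η) → 𝓙.comap (f.fiberι η) = ⊤) ∧
        ∀ y : ↥Y, ringKrullDim ↑(Y.presheaf.stalk y) = 1 → ∃ n : ℕ, ∀ t : ↑(Y.presheaf.stalk y),
          IsLocalRing.maximalIdeal ↑(Y.presheaf.stalk y) = Ideal.span {t} →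
          ∀ (x : ↥X) (hx : f x = y), (∀ z : ↥X, f z = y → z ⤳ x → z = x) →
            (𝓙.comap (X.fromSpecStalk x)).ideal ⟨⊤, isAffineOpen_top _⟩ =
              Ideal.span {(Scheme.ΓSpecIso (X.presheaf.stalk x)).inv
                (((f.stalkMap x).hom ((Y.presheaf.stalkCongr (.of_eq hx.symm)).hom t)) ^ n)}) := by
  have hiso : ∀ (R : CommRingCat.{u}) (I : Ideal R),
      (I.map (Scheme.ΓSpecIso R).inv.hom).map (Scheme.ΓSpecIso R).hom.hom = I := fun R I => by
    rw [Ideal.map_map, ← CommRingCat.hom_comp, Iso.inv_hom_id, CommRingCat.hom_id, Ideal.map_id]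
  refine ⟨fun ⟨I, hI, he⟩ => ⟨fun η hη => (Groth.Agent.Div57.Desc.stI_eq_top_iff f 𝓙).2
    (Groth.Agent.Div57.Desc.top_of_descent f 𝓙 hY hI he η hη), fun y hy => ?_⟩, fun ⟨h, hu⟩ => ?_⟩
  · haveI := (hY y).1
    haveI := (hY y).2
    haveI := Groth.Agent.CDiv6.isDVR_of_dim_eq_one _ hy
    obtain ⟨g, hg, hIg⟩ := Groth.Agent.Div57.stI_of_effCartier I hI y
    obtain ⟨π, hπ⟩ := IsDiscreteValuationRing.exists_irreducible (Y.presheaf.stalk y)
    obtain ⟨n, hn⟩ := IsDiscreteValuationRing.associated_pow_irreducible (nonZeroDivisors.ne_zero hg) hπ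
    refine ⟨n, fun t ht x hx _ => ?_⟩
    have hgt : Ideal.span {g} = Ideal.span {t ^ n} := by
      rw [← Ideal.span_singleton_pow, ← ht, hπ.maximalIdeal_eq, Ideal.span_singleton_pow]
      exact Ideal.span_singleton_eq_span_singleton.2 hn
    subst hx
    rw [Groth.Agent.Div57.Desc.comap_fromSpecStalk_top, ← he, Groth.Agent.Div57.Desc.stI_comap, hIg, hgt,
      Ideal.map_span, Set.image_singleton, Ideal.map_span, Set.image_singleton, map_pow]
    refine congrArg (fun r => Ideal.span {r}) (congrArg _ (congrArg (fun r => r ^ n) (congrArg _ ?_)))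
    obtain ⟨W, hW, t₀, rfl⟩ := TopCat.Presheaf.exists_germ_eq Y.presheaf t
    exact (TopCat.Presheaf.germ_stalkSpecializes_apply Y.presheaf hW specializes_rfl t₀).symm
  · have htriv : ∀ η : Y, (∀ z : Y, z ⤳ η → z = η) → ∀ x, f x = η → Groth.Agent.Div57.stI 𝓙 x = ⊤ :=
      fun η hη => (Groth.Agent.Div57.Desc.stI_eq_top_iff f 𝓙).1 (h η hη)
    refine Groth.Agent.Div57.Desc.exists_descent f 𝓙 hf hJ fun y hy => ?_
    rcases Groth.Agent.Div57.Desc.field_or_dvr hY hy with hmax | ⟨hdim, hgen, V, hyV, p, hp0, hp⟩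
    · exact Groth.Agent.Div57.Desc.goodAt_of_top f 𝓙 (htriv y hmax)
    · obtain ⟨n, hn⟩ := hu y hdim
      refine Groth.Agent.Div57.Desc.goodAt_of_uniform f 𝓙 hyV p hJ hp0 hp hgen htriv (hfib y hdim) n
        fun x hx hmin => ?_
      have h1 := congrArg (Ideal.map (Scheme.ΓSpecIso (X.presheaf.stalk x)).hom.hom) (hn _ hp x hx hmin)
      rw [Groth.Agent.Div57.Desc.comap_fromSpecStalk_top, hiso, Ideal.map_span, Set.image_singleton] at h1
      rw [h1]
      refine congrArg (fun r => Ideal.span {r}) ?_
      refine (ConcreteCategory.congr_hom (Scheme.ΓSpecIso (X.presheaf.stalk x)).inv_hom_id _).trans ?_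
      refine congrArg (fun r : X.presheaf.stalk x => r ^ n) ?_
      subst hx
      refine (congrArg _ (TopCat.Presheaf.germ_stalkSpecializes_apply Y.presheaf hyV specializes_rfl p)).trans ?_
      exact Scheme.Hom.germ_stalkMap_apply f V x _ p

end Groth.Agent.S5100
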