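import Groth.Statements.S5103
import Groth.Agent.Div57.Ref.Inv

set_option autoImplicit false
universe u
open CategoryTheory CategoryTheory.Limits AlgebraicGeometry TopologicalSpace
open Div21

namespace Groth.Agent.S5103

/-- For an integral scheme (the canonical homomorphism Pic(X) → Cl(X) to the group of codimension-1
cycle classes is injective): let X be a normal locally Noetherian integral scheme, L an invertible
O_X-module and s a nonzero rational section of L (a nonzero element of the fibre of L at the generic
point). If the Weil divisor of s is principal — there is a nonzero rational function f whose order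
of vanishing at every point of codimension 1 (coheight 1 in the specialization order) equals the
order of s there — then L is isomorphic to O_X. -/
theorem result (X : Scheme.{u}) [IsIntegral X] [IsLocallyNoetherian X]
    (hX : Pi1.IsNormalScheme X) (L : X.Modules) (hL : PicF.IsInvertible L)
    (s : Cyc.secFibre L (genericPoint ↥X)) (hs : s ≠ 0) (f : ↑X.functionField) (hf : f ≠ 0)
    (h : ∀ x : ↥X, Order.coheight x = 1 →
      Cyc.secOrdAt L (genericPoint ↥X) x (genericPoint_specializes x) s = Scheme.ord f x) :
    Nonempty (L ≅ Coh.structureModule X) := by
  open Div57.Ref in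
  have hF := isRef1_of_isInvertible hL
  let v := (secCls L).symm s
  have hv : v ≠ 0 := fun h0 => hs ((secCls L).symm.map_eq_zero_iff.1 h0)
  have hu : RefX.unitStalk (genericPoint ↥X) (show X.presheaf.stalk (genericPoint ↥X) from f) ≠ 0 :=
    fun h0 => hf ((LinearEquiv.map_eq_zero_iff _).1 h0)
  refine iso_of_secOrd hX hF isRef1_unit hv hu fun y hy => ?_
  have h1 := h y hy
  rw [secOrdAt_eq] at h1
  refine h1.trans ?_
  have h2 : RefX.unitStalk (genericPoint ↥X) (show X.presheaf.stalk (genericPoint ↥X) from f) =
      (show X.presheaf.stalk (genericPoint ↥X) from f) • RefX.unitStalk (genericPoint ↥X) 1 := by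
    rw [← map_smul, smul_eq_mul, mul_one]
  rw [h2, secOrd_smul hX RefX.isCoh_unit (inj_of_isReflexive RefX.isCoh_unit isRef1_unit.2.1) isRef1_unit.2.2 hy hf
      (fun h0 => one_ne_zero (α := X.functionField) ((LinearEquiv.map_eq_zero_iff _).1 h0)), secOrd_unit hX hy, add_zero]

end Groth.Agent.S5103
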