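import Groth.Statements.S5105
import Groth.Agent.Div57.Ref.Frame

set_option autoImplicit false
universe u
open CategoryTheory CategoryTheory.Limits AlgebraicGeometry TopologicalSpace
open Div21

namespace Groth.Agent.S5105

/-- For an integral scheme (X is locally factorial exactly when the canonical map Pic(X) → Cl(X) is a
bijection; in the presence of (i), being bijective means that each codimension-1 cycle arises as the
Weil divisor of some rational section of an invertible module): suppose X is an integral scheme that
is normal and locally Noetherian. Then these two conditions are equivalent: (1) whenever Z is a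
function from the points of X to the integers that is zero away from the points of codimension 1
(coheight 1) and whose support is locally finite, one can find an invertible O_X-module L together
with a nonzero rational section s of L (a nonzero element of the generic fibre of L) such that, at
each point of codimension 1, the order of s equals the value Z takes there; (2) each local ring of X
is a unique factorisation domain. -/
theorem result (X : Scheme.{u}) [IsIntegral X]
    [IsLocallyNoetherian X] (hX : Pi1.IsNormalScheme X) :
    (∀ Z : ↥X → ℤ, (∀ x : ↥X, Order.coheight x ≠ 1 → Z x = 0) →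
        (∀ x : ↥X, ∃ W : X.Opens, x ∈ W ∧ {z : ↥X | z ∈ W ∧ Z z ≠ 0}.Finite) →
        ∃ (L : X.Modules) (_ : PicF.IsInvertible L) (s : Cyc.secFibre L (genericPoint ↥X)), s ≠ 0 ∧
          ∀ x : ↥X, Order.coheight x = 1 →
            Cyc.secOrdAt L (genericPoint ↥X) x (genericPoint_specializes x) s = Z x) ↔
      ∀ x : ↥X, UniqueFactorizationMonoid ↑(X.presheaf.stalk x) := by
  classical
  open Div57.Ref in
  constructor
  · intro H
    refine ufd_of_local_eq hX fun x₀ h₀ x => ?_
    obtain ⟨L, hL, s, hs, hord⟩ := H (fun y => if y = x₀ then 1 else 0)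
      (fun y hy => if_neg fun (h : y = x₀) => hy (by rw [h]; exact h₀))
      (fun y => ⟨⊤, trivial, (Set.finite_singleton x₀).subset fun z hz => by
        by_contra hne
        exact hz.2 (if_neg hne)⟩)
    obtain ⟨U, hxU, e, he⟩ := InvX.exists_frame hL x
    let v := (secCls L).symm s
    have hv : v ≠ 0 := fun h => hs ((secCls L).symm.map_eq_zero_iff.1 h)
    have hge := H23.RatSec.isGen_germ he (genericPoint ↥X) (gp_mem hxU)
    obtain ⟨φ, hφ⟩ := Submodule.mem_span_singleton.1 (hge.1.ge (Submodule.mem_top : v ∈ ⊤))
    have hφ0 : (show X.functionField from φ) ≠ 0 := fun h => hv (by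
      rw [← hφ, show φ = 0 from h, zero_smul])
    refine ⟨U, Units.mk0 _ hφ0, hxU, fun y hy hy1 => ?_⟩
    have h1 : secOrd L y v = Scheme.ord (show X.functionField from φ) y :=
      secOrd_eq hy1 (H23.RatSec.isGen_germ he y hy).1
        (by rw [spec_germ]; exact ne_zero_of_isGen hge) hφ0 (by rw [spec_germ]; exact hφ.symm)
    have h2 := hord y hy1
    rw [secOrdAt_eq, h1] at h2
    exact ⟨fun h => h2.trans (if_pos h), fun h => h2.trans (if_neg h)⟩
  · intro hufd Z _ hfin
    have hD : ∀ V : X.Opens, IsAffineOpen V → {y : ↥X | y ∈ V ∧ Order.coheight y = 1 ∧ Z y ≠ 0}.Finite := by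
      intro V hV
      choose W hxW hW using hfin
      obtain ⟨t, ht⟩ := hV.isCompact.elim_finite_subcover (fun z => (W z : Set ↥X)) (fun z => (W z).isOpen)
        fun z _ => Set.mem_iUnion.2 ⟨z, hxW z⟩
      refine (t.finite_toSet.biUnion fun z _ => hW z).subset ?_
      rintro y ⟨hy, -, hy0⟩
      obtain ⟨z, hz, hyz⟩ := Set.mem_iUnion₂.1 (ht hy)
      exact Set.mem_biUnion hz ⟨hyz, hy0⟩
    obtain ⟨e, he, hord⟩ := exists_secOrd_oD hX hD
    have hF := isRef1_oD hX hD
    refine ⟨oD hX Z, isInvertible_of_local_eq hX hF he fun x => ?_, secCls _ e,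
      fun h => he ((secCls _).map_eq_zero_iff.1 h), fun y hy => by
        rw [secOrdAt_eq, LinearEquiv.symm_apply_apply, hord y hy]⟩
    obtain ⟨V, hV, hxV⟩ := QCoh.exists_affine_mem x
    let φ : ↥X → Additive (CDiv.KUnits X) →+ ℤ := fun y => AddMonoidHom.mk'
      (fun a => Scheme.ord ((Additive.toMul a : CDiv.KUnits X) : X.functionField) y)
      fun a b => by
        show Scheme.ord ((Additive.toMul a * Additive.toMul b : CDiv.KUnits X) : X.functionField) y = _
        rw [Units.val_mul, Scheme.ord_mul (Units.ne_zero _) (Units.ne_zero _)]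
    choose U g hxU hg using fun x₀ (h₀ : Order.coheight x₀ = 1) =>
      CDiv6.exists_local_equation hX hufd x₀ h₀ x
    let S := (hD V hV).toFinset
    have main : ∀ T ⊆ S, ∃ (W : X.Opens) (c : Additive (CDiv.KUnits X)), x ∈ W ∧ ∀ y ∈ W, Order.coheight y = 1 →
        φ y c = if y ∈ T then -Z y else 0 := by
      intro T
      induction T using Finset.induction_on with
      | empty => exact fun _ => ⟨⊤, 0, trivial, fun y _ _ => by simp⟩
      | insert a T haT ih =>
        intro hT
        obtain ⟨W, c, hxW, hW⟩ := ih ((Finset.subset_insert a T).trans hT)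
        have ha : Order.coheight a = 1 := ((hD V hV).mem_toFinset.1 (hT (Finset.mem_insert_self a T))).2.1
        refine ⟨W ⊓ U a ha, c + (-Z a) • Additive.ofMul (g a ha), ⟨hxW, hxU a ha⟩, fun y hy hy1 => ?_⟩
        have h1 := hW y hy.1 hy1
        have h2 := hg a ha y hy.2 hy1
        rw [map_add, map_zsmul, h1]
        show _ + (-Z a) • Scheme.ord ((g a ha : CDiv.KUnits X) : X.functionField) y = _
        by_cases hya : y = a
        · subst hya
          rw [h2.1 rfl]
          simp [haT]
        · rw [h2.2 hya]
          simp [hya]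
    obtain ⟨W, c, hxW, hW⟩ := main S subset_rfl
    refine ⟨V ⊓ W, ((Additive.toMul c : CDiv.KUnits X) : X.functionField), ⟨hxV, hxW⟩, Units.ne_zero _,
      fun y hy hy1 => ?_⟩
    rw [hord y hy1, show Scheme.ord _ y = φ y c from rfl, hW y hy.2 hy1]
    by_cases h : y ∈ S
    · simp [h]
    · have : Z y = 0 := by
        by_contra h0
        exact h ((hD V hV).mem_toFinset.2 ⟨hy.1, hy1, h0⟩)
      simp [h, this]

end Groth.Agent.S5105
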