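import Groth.Statements.S5114
import Groth.Agent.SchDesc82.QuasiFinite

set_option autoImplicit false
universe u
open SGA1

namespace Groth.Agent.S5114

open AlgebraicGeometry CategoryTheory CategoryTheory.Limits in
/-- Let A be a complete Noetherian local ring, S = Spec A, and g : S' ⟶ S a surjective morphism of
finite type whose fibre over the closed point s is finite. If every point of S' specialises to some
point of the fibre over s (equivalently: the disjoint union of the spectra of the local rings of S'
at the points over s maps onto S'), then g is universally submersive. (The published statement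
asserts an equivalence and does not mention surjectivity of g; the converse fails: for A a complete
discrete valuation ring with fraction field K, S' = S ⊔ Spec K ⟶ S has a section, hence is
universally submersive, while the isolated point Spec K specialises to no point over s. This row
states the implication the published proof establishes, with the surjectivity it uses.) -/
theorem result (A : Type u) [CommRing A]
    [IsNoetherianRing A] [IsLocalRing A] [IsAdicComplete (IsLocalRing.maximalIdeal A) A]
    {S' : Scheme.{u}} (g : S' ⟶ Spec (CommRingCat.of A)) [LocallyOfFiniteType g] [QuasiCompact g]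
    [Surjective g]
    (hfin : (g.base ⁻¹' {IsLocalRing.closedPoint A}).Finite)
    (hsp : ∀ t : S', ∃ s' : S', g.base s' = IsLocalRing.closedPoint A ∧ t ⤳ s') :
    SGA1.UnivSubmersive g := by
  have : HenselianLocalRing A := Groth.Agent.SchDesc82.henselianLocalRing_of_complete A
  have : LocallyQuasiFinite g := Groth.Agent.SchDesc82.locallyQuasiFinite_of_specializes g hfin hsp
  obtain ⟨X₁, k, hk, hrange⟩ := Groth.Agent.SchDesc82.exists_finite_refinement g
  have : IsFinite (k ≫ g) := hk
  have : Surjective (k ≫ g) := ⟨fun p => by
    obtain ⟨t, rfl⟩ := g.surjective p
    obtain ⟨x, hx, htx⟩ := hsp t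
    obtain ⟨a, rfl⟩ := hrange x t htx hx
    exact ⟨a, Scheme.Hom.comp_apply _ _ _⟩⟩
  exact Groth.Agent.SchDesc82.univSubmersive_of_comp k g
    (Groth.Agent.SchDesc82.univSubmersive_of_universallyClosed (k ≫ g))

end Groth.Agent.S5114
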