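import Groth.Statements.S5115
import Groth.Agent.EtTopInvFull.Main
import Groth.Agent.MorLib.UnivHomeo
import Mathlib.AlgebraicGeometry.Morphisms.Flat
-- import your own Groth.Agent.* helpers here

set_option autoImplicit false
universe u
open EtBase

namespace Groth.Agent.S5115

open AlgebraicGeometry CategoryTheory CategoryTheory.Limits in
/-- Let g : S' ⟶ S be faithfully flat (flat and surjective), quasi-compact and radicial (universally
injective). Then base change along g is an equivalence from the category of schemes etale over S to
the category of schemes etale over S'. -/
theorem result {S S' : Scheme.{u}} (g : S' ⟶ S)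
    [Flat g] [Surjective g] [QuasiCompact g] [UniversallyInjective g] :
    (EtCoh.bc g).IsEquivalence := by
  have hu : FlatMor.IsUnivHomeo g := by
    intro X' Y' i₁ i₂ f' h
    have : Flat f' := MorphismProperty.of_isPullback (P := @Flat) h.flip ‹_›
    have : QuasiCompact f' := MorphismProperty.of_isPullback (P := @QuasiCompact) h.flip ‹_›
    have : UniversallyInjective f' :=
      MorphismProperty.of_isPullback (P := @UniversallyInjective) h.flip ‹_›
    have : Surjective f' := MorphismProperty.of_isPullback (P := @Surjective) h.flip ‹_›
    have hq : Topology.IsQuotientMap f'.base := Flat.isQuotientMap_of_surjective f'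
    exact ((Homeomorph.mk (Equiv.ofBijective f'.base ⟨f'.injective, f'.surjective⟩) f'.continuous
      (hq.continuous_iff.2 (by
        refine continuous_id.congr fun x => ?_
        exact (Equiv.ofBijective_symm_apply_apply f'.base ⟨f'.injective, f'.surjective⟩ x).symm))).isHomeomorph)
  have := Groth.Agent.MorLib.isIntegralHom_of_isUnivHomeo hu
  have := Groth.Agent.EtFound.bc_full g
  have := Groth.Agent.EtFound.bc_faithful g
  have := Groth.Agent.EtTopInvFull.bc_essSurj g
  exact {}

end Groth.Agent.S5115
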