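import Groth.Statements.S5127
import Groth.Agent.SchDesc82.Completion

set_option autoImplicit false
universe u
open SGA1

namespace Groth.Agent.S5127

open AlgebraicGeometry CategoryTheory CategoryTheory.Limits in
/-- Let S be locally Noetherian, g : S' ⟶ S universally submersive and of finite presentation, and D a
descent datum relative to g (functor-of-points form, for the one-member family g) whose underlying
S'-scheme is etale, separated and of finite presentation over S'. Then D is the canonical datum of
some etale S-scheme if and only if, for every complete Noetherian local ring B with algebraically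
closed residue field and every morphism q : Spec B ⟶ S, the descent datum induced over Spec B
(relative to S' ×_S Spec B ⟶ Spec B) is the canonical datum of some etale B-scheme. -/
theorem result {S S' : Scheme.{u}} [IsLocallyNoetherian S]
    (g : S' ⟶ S) (hg : SGA1.UnivSubmersive g) [LocallyOfFinitePresentation g] [QuasiCompact g] [QuasiSeparated g]
    (D : Desc.SchDDFam (fun _ : PUnit.{1} => g)) [Etale (D.obj PUnit.unit).hom]
    [QuasiCompact (D.obj PUnit.unit).hom] [IsSeparated (D.obj PUnit.unit).hom] :
    (∃ U : Over S, Etale U.hom ∧ Nonempty ((Desc.toDDFam (fun _ : PUnit.{1} => g)).obj U ≅ D)) ↔ ∀ (B : Type u) [CommRing B] [IsNoetherianRing B] [IsLocalRing B]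
      [IsAdicComplete (IsLocalRing.maximalIdeal B) B] [IsAlgClosed (IsLocalRing.ResidueField B)]
      (q : Spec (CommRingCat.of B) ⟶ S), (∃ U : Over (Spec (CommRingCat.of B)), Etale U.hom ∧
        Nonempty ((Desc.toDDFam (fun _ : PUnit.{1} => pullback.snd g q)).obj U ≅
          (Desc.pullDDFam (f := fun _ : PUnit.{1} => g) (f' := fun _ : PUnit.{1} => pullback.snd g q)
        (α := id) (p := q) (p' := fun _ => pullback.fst g q) (fun _ => pullback.condition)).obj D)) := by
  constructor
  · intro ⟨U, hU, I⟩ B _ _ _ _ _ q
    exact ⟨Over.mk (pullback.snd U.hom q), inferInstanceAs (Etale (pullback.snd U.hom q)),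
      Groth.Agent.SchDesc82.effective_pull hg U I q⟩
  · intro h
    have h' : ∀ a : S, ∃ W : S.Opens, a ∈ W ∧ ∃ U : Over (W : Scheme.{u}), Etale U.hom ∧
        Groth.Agent.SchDesc82.RepByOn D W.ι U := fun a => by
      obtain ⟨B, iB, iN, iL, iC, iK, f, hff⟩ :=
        Groth.Agent.SchDesc82.exists_algClosed_extension (S.presheaf.stalk a)
      obtain ⟨hf, hs⟩ := Groth.Agent.SchDesc82.flat_surjective_spec (CommRingCat.ofHom f) hff
      obtain ⟨U₁, hU₁, I⟩ := @h B iB iN iL iC iK (Spec.map (CommRingCat.ofHom f) ≫ S.fromSpecStalk a)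
      obtain ⟨U, hU, hr⟩ := Groth.Agent.SchDesc82.exists_repByOn_of_fpqc hg (S.fromSpecStalk a) _ U₁
        (Groth.Agent.SchDesc82.repByOn_of_effective_pull hg _ U₁ I)
      exact Groth.Agent.SchDesc82.exists_repByOn_nhd hg a U hr
    choose W hW hU using h'
    obtain ⟨U, hU', hr⟩ := Groth.Agent.SchDesc82.exists_repBy_of_opens (D := D) W (fun x => ⟨x, hW x⟩) hU
    exact ⟨U, hU', hr.effective⟩

end Groth.Agent.S5127
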