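import Groth.Statements.S5138
import Groth.Agent.AlgSpLib.EtLocalInst

set_option autoImplicit false
open CategoryTheory AlgebraicGeometry
universe u
open SGA1

namespace Groth.Agent.S5138

/-- For X ⟶ X' ⟶ Y locally of finite type over a locally Noetherian Y and a point x of X, if X ⟶ X' and
the composite X ⟶ Y are both etale near x then X' ⟶ Y is etale near the image of x; 'etale near a
point' is membership in the etale locus, the union of the opens on which the morphism is etale. (The
published statement takes the morphisms of finite type; quasi-compactness plays no role in this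
assertion about single points, so only local finiteness is assumed.) -/
theorem result {X X' Y : Scheme.{u}} (f : X ⟶ X') (g : X' ⟶ Y)
    [IsLocallyNoetherian Y] [LocallyOfFiniteType f] [LocallyOfFiniteType g] (x : X)
    (hf : x ∈ Pi1X.etaleLocus f) (hfg : x ∈ Pi1X.etaleLocus (f ≫ g)) : f.base x ∈ Pi1X.etaleLocus g := by
  obtain ⟨U, hU, hxU⟩ := TopologicalSpace.Opens.mem_sSup.1 hf
  obtain ⟨V, hV, hxV⟩ := TopologicalSpace.Opens.mem_sSup.1 hfg
  have : Etale (Scheme.Opens.ι U ≫ f) := hU
  have : Etale (Scheme.Opens.ι V ≫ f ≫ g) := hV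
  let W : X.Opens := U ⊓ V
  have h₁ : Etale (W.ι ≫ f) := by
    rw [← X.homOfLE_ι (inf_le_left : W ≤ U), Category.assoc]; infer_instance
  have h₂ : Etale (W.ι ≫ f ≫ g) := by
    rw [← X.homOfLE_ι (inf_le_right : W ≤ V), Category.assoc]; infer_instance
  let O : X'.Opens := ⟨Set.range (W.ι ≫ f), (W.ι ≫ f).isOpenMap.isOpen_range⟩
  let h : (W : Scheme.{u}) ⟶ O := IsOpenImmersion.lift O.ι (W.ι ≫ f) (by rw [Scheme.Opens.range_ι]; exact subset_rfl)
  have hh : h ≫ O.ι = W.ι ≫ f := IsOpenImmersion.lift_fac _ _ _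
  have : Etale (h ≫ O.ι) := hh ▸ h₁
  have : Etale h := MorphismProperty.of_postcomp (W := @Etale) (W' := @Etale) h O.ι inferInstance this
  have : Surjective h := ⟨fun o => by
    obtain ⟨w, hw⟩ := o.2
    exact ⟨w, O.ι.isOpenEmbedding.injective (by rw [← Scheme.Hom.comp_apply, hh]; exact hw)⟩⟩
  have h₃ : Etale (h ≫ O.ι ≫ g) := by rw [reassoc_of% hh]; exact h₂
  refine TopologicalSpace.Opens.mem_sSup.2 ⟨O, ?_, ⟨⟨x, hxU, hxV⟩, rfl⟩⟩
  exact Groth.Agent.SrcDescent.etale_of_etale_comp h (O.ι ≫ g) h₃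

end Groth.Agent.S5138
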