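import Groth.Statements.S5159
import Groth.Agent.LC.GorRows
import Groth.Agent.LC.LocalDualityCM
import Groth.Agent.LC.CohTorsion
import Groth.Agent.Dual59.Point
import Groth.Agent.LC.GorHull

set_option autoImplicit false
universe u
open CategoryTheory Opposite
open Dual

namespace Groth.Agent.S5159

/-- Let A be a regular local ring of dimension n and M an A-module of finite length. Then Ext^i_A(M, A)
= 0 for i ≠ n and length Ext^n_A(M, A) = length M (the functor Ext^n_A(−, A) is dualizing). -/
theorem result (A : Type u) [CommRing A] [IsRegularLocalRing A] (n : ℕ) (hn : ringKrullDim A = n) (M : Type u) [AddCommGroup M] [Module A M] (hM : IsFiniteLength A M) : (∀ i : ℕ, i ≠ n → Subsingleton (((Ext A (ModuleCat.{u} A) i).obj (op (ModuleCat.of A M))).obj (ModuleCat.of A A))) ∧ Module.length A (((Ext A (ModuleCat.{u} A) n).obj (op (ModuleCat.of A M))).obj (ModuleCat.of A A)) = Module.length A M := by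
  have := Groth.Agent.LC.gorenstein_of_isRegularLocalRing (R := A)
  obtain ⟨d, hd, -, hv⟩ := Groth.Agent.LC.gorenstein_basic (R := A)
  obtain rfl : n = d := by rw [hn] at hd; exact_mod_cast hd
  obtain ⟨_, _⟩ := isFiniteLength_iff_isNoetherian_isArtinian.1 hM
  haveI : Module.Finite A M := inferInstance
  obtain ⟨E, _, _, f, hf⟩ := Groth.Agent.LC.exists_injectiveHull A (IsLocalRing.ResidueField A)
  obtain ⟨k, hk⟩ := Groth.Agent.Dual59.exists_pow_killed hM
  have htors : LocCoh.IsPowerTorsion (IsLocalRing.maximalIdeal A) M := fun m => ⟨k, fun a ha => hk a ha m⟩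
  have key : ∀ i, i ≤ n → Nonempty ((localCohomology (IsLocalRing.maximalIdeal A) (n - i)).obj (ModuleCat.of A M) ≃ₗ[A]
      ((((Ext A (ModuleCat.{u} A) i).obj (op (ModuleCat.of A M))).obj (ModuleCat.of A A)) →ₗ[A] E)) := fun i hi => by
    obtain ⟨e⟩ := Groth.Agent.LC.exists_localDuality_gorenstein n hn E hf M i (n - i) (by omega)
    obtain ⟨e'⟩ := Groth.Agent.LC.exists_extDual_equiv (R := A) M A E i
    exact ⟨e.trans e'⟩
  refine ⟨fun i hi => ?_, ?_⟩
  · rcases Nat.lt_or_ge n i with hlt | hle
    · haveI := hv M i hlt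
      exact (Groth.Agent.LC.ExtBridge.bridge (projectiveResolution (ModuleCat.of A M)) (ModuleCat.of A A) i).toEquiv.subsingleton
    · obtain ⟨e⟩ := key i hle
      obtain ⟨j, hj⟩ : ∃ j, n - i = j + 1 := ⟨n - i - 1, by omega⟩
      rw [hj] at e
      haveI := Groth.Agent.LC.subsingleton_of_torsion (IsLocalRing.maximalIdeal A) j (ModuleCat.of A M) htors
      exact (Groth.Agent.LC.subsingleton_iff_dual hf _).1 e.symm.toEquiv.subsingleton
  · obtain ⟨e⟩ := key n le_rfl
    rw [Nat.sub_self] at e
    let X := (((Ext A (ModuleCat.{u} A) n).obj (op (ModuleCat.of A M))).obj (ModuleCat.of A A))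
    let eM : (↥X →ₗ[A] E) ≃ₗ[A] M := e.symm.trans
      (((Groth.Agent.LC.H0Equiv (IsLocalRing.maximalIdeal A) (ModuleCat.of A M)).trans
        ((LinearEquiv.ofEq _ _ (Groth.Agent.LC.torsionSub_eq_top (IsLocalRing.maximalIdeal A) (M := M) htors)).trans
          Submodule.topEquiv)))
    have hdual : IsFiniteLength A (↥X →ₗ[A] E) := hM.of_injective (f := eM.toLinearMap) eM.injective
    have hdd : IsFiniteLength A ((↥X →ₗ[A] E) →ₗ[A] E) := by
      rw [← Module.length_ne_top_iff, Groth.Agent.LC.length_dual hf _ hdual]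
      exact Module.length_ne_top_iff.2 hdual
    have hX : IsFiniteLength A ↥X := hdd.of_injective (Groth.Agent.LC.applyₗ_injective hf ↥X)
    rw [← Groth.Agent.LC.length_dual hf ↥X hX, eM.length_eq]

end Groth.Agent.S5159
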