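import Groth.Prelude.Def_ega3
import Groth.Agent.S17778
import Groth.Agent.Koszul70.Colim

set_option autoImplicit false

universe u

open CategoryTheory Limits CochainComplex

namespace Groth.Agent.S5169

open Groth.Agent.Koszul70

variable {A : Type u} [CommRing A] (M : ModuleCat.{u} A)

/-- Cones of commuting isomorphisms. -/
noncomputable def coneIso {K L K' L' : Cx A} (φ : K ⟶ L) (φ' : K' ⟶ L') (a : K ≅ K') (b : L ≅ L')
    (h : φ ≫ b.hom = a.hom ≫ φ') : mappingCone φ ≅ mappingCone φ' where
  hom := mappingCone.map φ φ' a.hom b.hom h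
  inv := mappingCone.map φ' φ a.inv b.inv (by
    rw [Iso.comp_inv_eq, Category.assoc, h, Iso.inv_hom_id_assoc])
  hom_inv_id := by
    rw [← mappingCone.map_comp]
    simp only [Iso.hom_inv_id]
    exact mappingCone.map_id _
  inv_hom_id := by
    rw [← mappingCone.map_comp]
    simp only [Iso.inv_hom_id]
    exact mappingCone.map_id _

/-- The stable Koszul complex is the shifted extended Čech complex. -/
noncomputable def cmpIso : ∀ fs : List A,
    (D fs).obj (zeroCx M) ≅ (DerCA.extCech M fs)⟦(fs.length : ℤ)⟧
  | [] => ((CategoryTheory.shiftFunctorZero' (Cx A) (([] : List A).length : ℤ) (by simp)).app _).symm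
  | f :: fs =>
    let K := DerCA.extCech M fs
    let n : ℤ := fs.length
    let c := ((DerCA.locCx (Submonoid.powers f)).commShiftIso n).app K
    coneIso (locu f _) (locu f (K⟦n⟧)) (cmpIso fs) ((loc f).mapIso (cmpIso fs)) (locu_naturality f _) ≪≫
      coneIso (locu f (K⟦n⟧)) ((DerCA.locCxUnit (Submonoid.powers f) K)⟦n⟧') (Iso.refl _) c (by
        ext i : 1
        simp [c]
        rfl) ≪≫
      (mappingCone.shiftIso (DerCA.locCxUnit (Submonoid.powers f) K) n).symm ≪≫
      (CategoryTheory.shiftFunctorAdd' (Cx A) (-1) (((f :: fs).length : ℕ) : ℤ) n (by simp [n])).app _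

/-- Which holds over a Noetherian ring by Lemmes 8 and 11. Let A be a Noetherian ring, f = (f_1, …, f_r)
elements of A and M an injective A-module. Then colim_n H^i(f^n, M) = 0 for every i > 0, where
H^i(f^n, M) is Koszul cohomology and the colimit is taken along the maps induced between the Koszul
complexes of the powers. -/
theorem result (A : Type u) [CommRing A] [IsNoetherianRing A] (fs : List A) (M : Type u) [AddCommGroup M] [Module A M] (hM : Module.Injective A M) (i : ℕ) (hi : 0 < i) : Subsingleton (CohIII.koszulHLim fs (ModuleCat.of A M) i) := by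
  have : Module.Injective A ↥(ModuleCat.of A M) := hM
  obtain ⟨e⟩ := koszulHLim_equiv (ModuleCat.of A M) fs i
  have h0 : IsZero (((DerCA.extCech (ModuleCat.of A M) fs)⟦(fs.length : ℤ)⟧ : Cx A).homology
      ((i : ℤ) - fs.length)) :=
    S17778.isZero_shift_degree _ _ (S17778.isZero_homology_ne_zero _ fs _ (by omega))
  have h : IsZero (((D fs).obj (zeroCx (ModuleCat.of A M))).homology ((i : ℤ) - fs.length)) :=
    h0.of_iso ((HomologicalComplex.homologyFunctor _ _ _).mapIso (cmpIso (ModuleCat.of A M) fs))
  have := ModuleCat.subsingleton_of_isZero h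
  exact e.toEquiv.subsingleton

end Groth.Agent.S5169
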