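import Groth.Statements.S5178
import Groth.Agent.CIntLib.Defect

set_option autoImplicit false
universe u
open CInt

namespace Groth.Agent.S5178

/-- Let A be a Noetherian local ring of dimension d, and let the completion of A be presented as B/I
with B a regular local ring of dimension e and I an ideal whose minimal number of generators is q,
so that e − q is the geometric depth of A (this number does not depend on the presentation). Then e
− q ≤ d, and equality holds if and only if A is a complete intersection, i.e. its completion is a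
regular local ring modulo an ideal generated by a regular sequence. -/
theorem result (A : Type u) [CommRing A] [IsLocalRing A] [IsNoetherianRing A] (B : Type u) [CommRing B] [IsRegularLocalRing B] (I : Ideal B) (hpres : Nonempty (AdicCompletion (IsLocalRing.maximalIdeal A) A ≃+* B ⧸ I)) (d e : ℕ) (hd : ringKrullDim A = (d : WithBot ℕ∞)) (he : ringKrullDim B = (e : WithBot ℕ∞)) : (e : ℤ) - (I.spanFinrank : ℤ) ≤ (d : ℤ) ∧ ((e : ℤ) - (I.spanFinrank : ℤ) = (d : ℤ) ↔ Pi1.IsCompleteIntersection A) := by
  haveI := Groth.Agent.LC.Canon.isNoetherianRing_completion (R := A)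
  obtain ⟨eI⟩ := hpres
  let σ : B →+* AdicCompletion (IsLocalRing.maximalIdeal A) A :=
    eI.symm.toRingHom.comp (Ideal.Quotient.mk I)
  have hσ : Function.Surjective σ := eI.symm.surjective.comp Ideal.Quotient.mk_surjective
  have hσk : RingHom.ker σ = I := by
    ext x
    rw [RingHom.mem_ker]
    show eI.symm (Ideal.Quotient.mk _ x) = 0 ↔ _
    rw [map_eq_zero_iff eI.symm eI.symm.injective, Ideal.Quotient.eq_zero_iff_mem]
  haveI : IsNoetherianRing B := inferInstance
  have hdc : ringKrullDim (AdicCompletion (IsLocalRing.maximalIdeal A) A) = (d : WithBot ℕ∞) := by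
    rw [Groth.Agent.CILib.ringKrullDim_adicCompletion, hd]
  have hle : (e : ℤ) - (I.spanFinrank : ℤ) ≤ (d : ℤ) := by
    have hIj : I ≤ Ring.jacobson B := by
      rw [IsLocalRing.ringJacobson_eq_maximalIdeal]
      exact hσk ▸ Groth.Agent.Synt29.ker_le_maximalIdeal σ
    have h := ringKrullDim_le_ringKrullDim_quotient_add_spanFinrank I hIj
    rw [he, ← ringKrullDim_eq_of_ringEquiv eI, hdc] at h
    have h' : e ≤ d + I.spanFinrank := by exact_mod_cast h
    omega
  refine ⟨hle, ?_, ?_⟩
  · intro heq
    have hci : Groth.Agent.Synt29.CIKer σ := by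
      obtain ⟨k, hk⟩ := Groth.Agent.CIntLib.exists_span_range I (IsNoetherian.noetherian _)
      refine ⟨I.spanFinrank, k, hσk.trans hk.symm, ?_⟩
      rw [he, hdc]
      have : e = d + I.spanFinrank := by omega
      exact_mod_cast this
    obtain ⟨rs, hreg, hk⟩ := (Groth.Agent.Synt29.ciKer_iff_regular σ hσ).mp hci
    exact ⟨B, inferInstance, inferInstance, rs,
      fun r hr => Groth.Agent.Synt29.ker_le_maximalIdeal σ (hk ▸ Ideal.subset_span hr), hreg,
      ⟨eI.trans (Ideal.quotEquivOfEq (hσk.symm.trans hk))⟩⟩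
  · rintro ⟨B', _, _, rs, -, hreg, ⟨e'⟩⟩
    let σ' : B' →+* AdicCompletion (IsLocalRing.maximalIdeal A) A :=
      e'.symm.toRingHom.comp (Ideal.Quotient.mk _)
    have hσ' : Function.Surjective σ' := e'.symm.surjective.comp Ideal.Quotient.mk_surjective
    have hσk' : RingHom.ker σ' = Ideal.ofList rs := by
      ext x
      rw [RingHom.mem_ker]
      show e'.symm (Ideal.Quotient.mk _ x) = 0 ↔ _
      rw [map_eq_zero_iff e'.symm e'.symm.injective, Ideal.Quotient.eq_zero_iff_mem]
    obtain ⟨r, k, hk, hdim'⟩ :=
      (Groth.Agent.Synt29.ciKer_iff_regular σ' hσ').mpr ⟨rs, hreg, hσk'⟩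
    rw [hdc] at hdim'
    have hz := (Groth.Agent.CIntLib.hasDefect_indep σ hσ σ' hσ' (d : ℤ)).mpr
      ⟨d + r, r, k, hk, by rw [hdim']; norm_cast, by omega⟩
    rw [Groth.Agent.CIntLib.hasDefect_iff σ he, hσk] at hz
    omega

end Groth.Agent.S5178
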