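import Groth.Statements.S5179
import Groth.Agent.CIntLib.Defect
import Groth.Agent.AvramovLib.Factor
import Groth.Agent.S9231

set_option autoImplicit false
universe u
open CInt

namespace Groth.Agent.S5179

/-- Let A → A' be a flat local homomorphism of Noetherian local rings such that m_A A' is the maximal
ideal of A' and the residue field of A' is a separable extension of the residue field k of A
(separable in the sense that it is formally smooth over k; so A' ⊗_A k is a field separable over k).
Present the completions as Â ≅ B/I and Â' ≅ B'/I' with B, B' regular local rings of dimensions e,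
e'. Then e − μ(I) = e' − μ(I'), μ denoting the minimal number of generators: A and A' have the same
geometric depth. -/
theorem result (A A' : Type u) [CommRing A] [IsLocalRing A] [IsNoetherianRing A] [CommRing A'] [IsLocalRing A'] [IsNoetherianRing A'] [Algebra A A'] [IsLocalHom (algebraMap A A')] [Module.Flat A A'] (hmax : Ideal.map (algebraMap A A') (IsLocalRing.maximalIdeal A) = IsLocalRing.maximalIdeal A') (hsep : Algebra.FormallySmooth (IsLocalRing.ResidueField A) (IsLocalRing.ResidueField A')) (B B' : Type u) [CommRing B] [IsRegularLocalRing B] [CommRing B'] [IsRegularLocalRing B'] (I : Ideal B) (I' : Ideal B') (hpres : Nonempty (AdicCompletion (IsLocalRing.maximalIdeal A) A ≃+* B ⧸ I)) (hpres' : Nonempty (AdicCompletion (IsLocalRing.maximalIdeal A') A' ≃+* B' ⧸ I')) (e e' : ℕ) (he : ringKrullDim B = (e : WithBot ℕ∞)) (he' : ringKrullDim B' = (e' : WithBot ℕ∞)) : (e : ℤ) - (I.spanFinrank : ℤ) = (e' : ℤ) - (I'.spanFinrank : ℤ) := by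
  let Ah := AdicCompletion (IsLocalRing.maximalIdeal A) A
  let Bh := AdicCompletion (IsLocalRing.maximalIdeal A') A'
  haveI := Groth.Agent.LC.Canon.isNoetherianRing_completion (R := A)
  haveI := Groth.Agent.LC.Canon.isNoetherianRing_completion (R := A')
  haveI := Groth.Agent.CILib.isAdicComplete_adicCompletion A
  haveI := Groth.Agent.CILib.isAdicComplete_adicCompletion A'
  have hmA : IsLocalRing.maximalIdeal Ah = (IsLocalRing.maximalIdeal A).map (algebraMap A Ah) :=
    AdicCompletion.maximalIdeal_eq_map (R := A)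
  have hmB : IsLocalRing.maximalIdeal Bh = (IsLocalRing.maximalIdeal A').map (algebraMap A' Bh) :=
    AdicCompletion.maximalIdeal_eq_map (R := A')
  have hle : (IsLocalRing.maximalIdeal A).map (algebraMap A Bh) ≤ IsLocalRing.maximalIdeal Bh := by
    rw [IsScalarTower.algebraMap_eq A A' Bh, ← Ideal.map_map, hmB, hmax]
  obtain ⟨F, -⟩ := Groth.Agent.Adic7.exists_lift_completion (R := A) (S := A) (B := Bh)
    (IsLocalRing.maximalIdeal A) (IsLocalRing.maximalIdeal Bh) (Algebra.ofId A Bh) hle
  letI : Algebra Ah Bh := F.toRingHom.toAlgebra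
  have hFA : F.toRingHom.comp (algebraMap A Ah) = algebraMap A Bh := F.comp_algebraMap
  have hmap : (IsLocalRing.maximalIdeal Ah).map (algebraMap Ah Bh) = IsLocalRing.maximalIdeal Bh := by
    rw [hmA, Ideal.map_map, hmB]
    have h2 : (IsLocalRing.maximalIdeal A').map (algebraMap A' Bh) =
        (IsLocalRing.maximalIdeal A).map (algebraMap A Bh) := by
      rw [IsScalarTower.algebraMap_eq A A' Bh, ← Ideal.map_map]
      exact congrArg (Ideal.map (algebraMap A' Bh)) hmax.symm
    exact (congrArg (fun f => Ideal.map f (IsLocalRing.maximalIdeal A)) hFA).trans h2.symm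
  haveI : IsLocalHom (algebraMap Ah Bh) := ((IsLocalRing.local_hom_TFAE _).out 0 2).2 hmap.le
  haveI : Module.Flat Ah Bh := (Groth.Agent.S9231.result A A' F.toRingHom
    (hFA.trans (IsScalarTower.algebraMap_eq A A' Bh))).2 (RingHom.flat_algebraMap_iff.2 inferInstance)
  obtain ⟨R, G, _, _, _, _, _, _, _, _, _, _, π, q, hπ, hq, hc⟩ :=
    Groth.Agent.AvramovLib.exists_regular_cover (IsNoetherian.noetherian _)
      (IsNoetherian.noetherian _) (algebraMap Ah Bh)
  obtain ⟨eI⟩ := hpres
  obtain ⟨eI'⟩ := hpres'
  let σ : B →+* Ah := eI.symm.toRingHom.comp (Ideal.Quotient.mk I)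
  let σ' : B' →+* Bh := eI'.symm.toRingHom.comp (Ideal.Quotient.mk I')
  have hσk : RingHom.ker σ = I := by
    ext x
    rw [RingHom.mem_ker]
    show eI.symm (Ideal.Quotient.mk _ x) = 0 ↔ _
    rw [map_eq_zero_iff eI.symm eI.symm.injective, Ideal.Quotient.eq_zero_iff_mem]
  have hσk' : RingHom.ker σ' = I' := by
    ext x
    rw [RingHom.mem_ker]
    show eI'.symm (Ideal.Quotient.mk _ x) = 0 ↔ _
    rw [map_eq_zero_iff eI'.symm eI'.symm.injective, Ideal.Quotient.eq_zero_iff_mem]
  have h := Groth.Agent.CIntLib.sub_spanFinrank_eq σ σ' he he' (fun z => by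
    rw [Groth.Agent.CIntLib.hasDefect_indep σ
        (eI.symm.surjective.comp Ideal.Quotient.mk_surjective) π hπ,
      Groth.Agent.CIntLib.hasDefect_of_fibre_field hmap π q hπ hq hc,
      Groth.Agent.CIntLib.hasDefect_indep σ'
        (eI'.symm.surjective.comp Ideal.Quotient.mk_surjective) q hq])
  rwa [hσk, hσk'] at h

end Groth.Agent.S5179
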