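import Groth.Statements.S5183
import Groth.Agent.PurX.LiftPurity
import Groth.Agent.PurX.DualHyp
import Groth.Agent.PurX.Bridge
import Groth.Agent.KFlatLib.Ring.DualizingFibreRows
import Groth.Agent.S0239
import Groth.Agent.Pi1Ext.Spread
-- import your own Groth.Agent.* helpers here

set_option autoImplicit false
universe u
open CategoryTheory CategoryTheory.Limits AlgebraicGeometry
open Pi1

namespace Groth.Agent.S5183

/-- Let A be a Noetherian local ring which is a quotient of a regular local ring, t an A-regular element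
of the maximal ideal such that A is separated and complete for the (t)-adic topology, and assume
depth A_p ≥ 2 for every prime ideal p with dim A/p = 1. If B = A/tA is pure, i.e. the pair (Spec B,
closed point) is pure: for every open V of Spec B restriction of finite étale covers from V to V
minus the closed point is an equivalence of categories, then A is pure. -/
theorem result (A : Type u) [CommRing A] [IsLocalRing A] [IsNoetherianRing A] (hq : ∃ (B : Type u) (_ : CommRing B) (_ : IsRegularLocalRing B) (φ : B →+* A), Function.Surjective φ) (t : A) (ht : t ∈ IsLocalRing.maximalIdeal A) (hreg : IsSMulRegular A t) [IsAdicComplete (Ideal.span {t}) A] (hdepth : ∀ p : Ideal A, ∀ _ : p.IsPrime, ringKrullDim (A ⧸ p) = 1 → (2 : ℕ∞) ≤ LocCoh.depth (Localization.AtPrime p) (Localization.AtPrime p)) [IsLocalRing (A ⧸ Ideal.span {t})] (hB : SGA2.IsPurePair (Spec (CommRingCat.of (A ⧸ Ideal.span {t}))) (FEt.puncturedSpec (A ⧸ Ideal.span {t}))) : SGA2.IsPurePair (Spec (CommRingCat.of A)) (FEt.puncturedSpec A) := by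
  have hcl : ∀ (R : Type u) [CommRing R] [IsLocalRing R], FEt.puncturedSpec R ≠ ⊤ := fun R _ _ h => by
    have : IsLocalRing.closedPoint R ∈ FEt.puncturedSpec R := by rw [h]; exact trivial
    exact this rfl
  obtain ⟨S, _, _, φ, hφ⟩ := hq
  haveI : IsNoetherianRing S := inferInstance
  haveI : LocCoh.IsGorensteinLocalRing S := Groth.Agent.LC.gorenstein_of_isRegularLocalRing
  obtain ⟨ω, hω⟩ := Groth.Agent.KFlatLib.exists_isDualizing_of_surjective φ hφ
    ((Groth.Agent.LC.gorenstein_iff_isDualizing S).1 inferInstance)
  obtain ⟨N, hN⟩ := Groth.Agent.PurX.exists_kill_of_depth_add_dim hω t 2 (by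
    intro p hp htp
    exact Groth.Agent.PurX.two_lt_depth_add_dim hdepth p (fun h => htp (h ▸ ht)))
  obtain ⟨k, g, hg⟩ := Groth.Agent.PurX.exists_gens (IsLocalRing.maximalIdeal A)
  haveI : HenselianRing A (Ideal.span {t}) := IsAdicComplete.henselianRing _ _
  obtain ⟨hF, hFa⟩ := Groth.Agent.PurX.restrict_ff_of_killed t ht g hg
    (Groth.Agent.PurX.h0Killed_of_H g hg (ModuleCat.of A A) (t ^ N) (hN 1 one_le_two))
    (Groth.Agent.PurX.h1Killed_of_H g hg (ModuleCat.of A A) (t ^ N) (hN 2 le_rfl))
  exact Groth.Agent.PurX.isPurePair_of_restrict_ff t hF hFa hB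

end Groth.Agent.S5183
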