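import Groth.Statements.S5258
import Groth.Agent.SecGerm.Closed
import Groth.Agent.SecGerm.Irred

set_option backward.isDefEq.respectTransparency false
set_option linter.style.haveILetI false

set_option autoImplicit false
open CategoryTheory MonoidalCategory CartesianMonoidalCategory MonObj GrpObj AlgebraicGeometry
universe u
open SGA3x

namespace Groth.Agent.S5258

/-- Let f : X ⟶ S be a smooth morphism whose geometric fibres are connected and nonempty, and Y a closed
subscheme of X. Then the functor on S-schemes whose value at S' ⟶ S is a point when X ×_S S' ⟶ X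
factors through Y and empty otherwise is representable by a closed subscheme T of S; if moreover Y ⟶
X is of finite presentation, then T ⟶ S is of finite presentation. -/
theorem result {S X Y : Scheme.{u}} (f : X ⟶ S) [Smooth f]
    (hconn : ∀ s : S, ConnectedSpace ↥(Limits.pullback f (Red.geomPt s))) (y : Y ⟶ X) [IsClosedImmersion y] :
    ∃ (T : Scheme.{u}) (t : T ⟶ S), IsClosedImmersion t ∧
      (∀ (S' : Scheme.{u}) (g : S' ⟶ S), (∃ g' : S' ⟶ T, g' ≫ t = g) ↔
        ∃ l : Limits.pullback f g ⟶ Y, l ≫ y = Limits.pullback.fst f g) ∧
      (LocallyOfFinitePresentation y → LocallyOfFinitePresentation t) := by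
  haveI : GeometricallyConnected f := Groth.Agent.SecGerm.geometricallyConnected_of_geomPt f hconn
  haveI : Surjective f := inferInstance
  haveI : Smooth (Limits.pullback.fst f f) := MorphismProperty.pullback_fst _ _ ‹Smooth f›
  haveI : GeometricallyConnected (Limits.pullback.fst f f) := MorphismProperty.pullback_fst _ _ ‹GeometricallyConnected f›
  obtain ⟨T, t, ht, hT, hfp⟩ := Groth.Agent.SecGerm.exists_closed_smooth f y fun {T} g => by
    haveI : Smooth (Limits.pullback.fst g (Limits.pullback.fst f f)) :=
      MorphismProperty.pullback_fst _ _ ‹Smooth (Limits.pullback.fst f f)›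
    haveI : GeometricallyConnected (Limits.pullback.fst g (Limits.pullback.fst f f)) :=
      MorphismProperty.pullback_fst _ _ ‹GeometricallyConnected (Limits.pullback.fst f f)›
    exact Groth.Agent.SecGerm.genFib_of_geometricallyConnected _
  refine ⟨T, t, ht, fun S' g => (hT S' g).trans ?_, hfp⟩
  constructor
  · rintro ⟨l, hl⟩
    exact ⟨(Limits.pullbackSymmetry f g).hom ≫ l, by rw [Category.assoc, hl, Limits.pullbackSymmetry_hom_comp_snd]⟩
  · rintro ⟨l, hl⟩
    exact ⟨(Limits.pullbackSymmetry g f).hom ≫ l, by rw [Category.assoc, hl, Limits.pullbackSymmetry_hom_comp_fst]⟩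

end Groth.Agent.S5258
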