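import Groth.Statements.S5263
-- import your own Groth.Agent.* helpers here
import Groth.Agent.MultDefLib.SplitCover
import Groth.Agent.MultDefLib.DDHom
import Groth.Agent.MultDefLib.HomFamBC
import Groth.Agent.MultDefLib.Descend

set_option autoImplicit false
open CategoryTheory MonoidalCategory CartesianMonoidalCategory MonObj GrpObj AlgebraicGeometry
universe u
open SGA3x

namespace Groth.Agent.S5263

open CategoryTheory.Limits MultDefLib GrpSchLib

set_option linter.style.haveILetI false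

set_option backward.isDefEq.respectTransparency false in
/-- Let G and H be S-groups of multiplicative type which are finite over S. Then the functor of group
homomorphisms from G to H is representable by an S-scheme which is finite and etale over S (with its
universal family of homomorphisms). -/
theorem result {S : Scheme.{u}} (G H : Over S) [GrpObj G] [GrpObj H]
    (hG : SGA3x.IsMultTypeFT G) [IsFinite G.hom] (hH : SGA3x.IsMultTypeFT H) [IsFinite H.hom] :
    ∃ (A : Over S) (υ : G ⊗ A ⟶ H), AutFam.RepresentsHom G H A υ ∧ IsFinite A.hom ∧ Etale A.hom := by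
  obtain ⟨κ, R, q, hmem, hsG⟩ := exists_affine_splitting G hG
  choose κ' R' r hmem' hsH using fun w => exists_affine_splitting (Red.bc (q w) H) (MultTypeBC.isMultTypeFT_bc (q w) hH)
  let X : (Σ w, κ' w) → Scheme.{u} := fun p => Spec (R' p.1 p.2)
  let f : ∀ p : Σ w, κ' w, X p ⟶ S := fun p => r p.1 p.2 ≫ q p.1
  have hf : Presieve.ofArrows X f ∈ Scheme.fpqcPrecoverage S := Precoverage.comp_mem_coverings q hmem r hmem'
  have key : ∀ p : Σ w, κ' w, ∃ (A : Over (X p)) (υ : G ⊗ (Over.map (f p)).obj A ⟶ H),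
      RepOn (f p) A υ ∧ IsFinite A.hom ∧ Etale A.hom := by
    rintro ⟨w, p⟩
    obtain ⟨M, iM, -, ⟨eM⟩⟩ := hsG w
    obtain ⟨N, iN, -, ⟨eN⟩⟩ := hsH w p
    obtain ⟨a₁⟩ := MultTypeBC.bc_bc (r w p) (q w) G
    obtain ⟨a₂⟩ := MultTypeBC.bc_iso (r w p) eM
    obtain ⟨a₃⟩ := MultTypeBC.bc_DS (r w p) M
    obtain ⟨b₁⟩ := MultTypeBC.bc_bc (r w p) (q w) H
    haveI : IsFinite (Red.bc (r w p ≫ q w) G).hom := MorphismProperty.pullback_snd G.hom _ ‹IsFinite G.hom›
    haveI : IsFinite (Red.bc (r w p ≫ q w) H).hom := MorphismProperty.pullback_snd H.hom _ ‹IsFinite H.hom›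
    obtain ⟨Δ₁, _, _, ⟨e₁⟩⟩ := exists_finite_characters (R := R' w p) (a₁.symm ≪≫ a₂ ≪≫ a₃)
    obtain ⟨Δ₂, _, _, ⟨e₂⟩⟩ := exists_finite_characters (R := R' w p) (b₁.symm ≪≫ eN)
    obtain ⟨U, υ', hrep, hfin, het⟩ := SplitHom.exists_representsHom_DD (R' w p) Δ₁ Δ₂
    obtain ⟨υ, hυ⟩ := exists_repOn (r w p ≫ q w) e₁.symm e₂.symm υ' hrep
    exact ⟨U, υ, hυ, hfin, het⟩
  choose A υ hrep hfin het using key
  have hqa : ∀ p, MoreMor.IsIndQuasiAffineHom (A p).hom := fun p => by
    rw [MorLib.IQA.indQA_iff]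
    intro V hV O hO hOV
    haveI := hfin p
    haveI : IsAffine ((A p).hom ⁻¹ᵁ V : Scheme.{u}) := hV.preimage (A p).hom
    exact MorLib.IQA.qa_of_le hOV hO
  obtain ⟨U, υU, hU, hiso⟩ := exists_representsHom_of_cover hf hrep hqa
  haveI : MorphismProperty.DescendsAlong @IsFinite
      (@Surjective ⊓ @Flat ⊓ @QuasiCompact : MorphismProperty Scheme.{u}) := EtFound.fpqc_isFinite
  refine ⟨U, υU, hU, of_fpqc_family (P := @IsFinite) f hf U.hom fun w => ?_,
    of_fpqc_family (P := @Etale) f hf U.hom fun w => ?_⟩ <;>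
    obtain ⟨i⟩ := hiso w <;>
    haveI : IsIso i.hom.left := inferInstanceAs (IsIso ((Over.forget _).map i.hom))
  · haveI := hfin w
    rw [show pullback.fst (f w) U.hom = i.hom.left ≫ (A w).hom from (Over.w i.hom).symm]
    infer_instance
  · haveI := het w
    rw [show pullback.fst (f w) U.hom = i.hom.left ≫ (A w).hom from (Over.w i.hom).symm]
    infer_instance

end Groth.Agent.S5263
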