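import Groth.Statements.S5268
import Groth.Agent.TwLocLib.ConstBC
import Groth.Agent.GalTw.Unibranch
import Groth.Agent.H23.LocNoethTop

set_option autoImplicit false
open CategoryTheory MonoidalCategory CartesianMonoidalCategory MonObj GrpObj AlgebraicGeometry
universe u
open SGA3x

namespace Groth.Agent.S5268

set_option backward.isDefEq.respectTransparency false
set_option backward.isDefEq.respectTransparency.types false

/-- Let S be a locally Noetherian scheme all of whose local rings are geometrically unibranch, and P a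
quasi-isotrivial twisted constant S-scheme (etale-locally on S isomorphic to a constant scheme).
Then every connected component of P is open, and as an open subscheme of P it is finite over S. -/
theorem result {S : Scheme.{u}} [IsLocallyNoetherian S]
    (hS : ∀ s : S, CAlg2.IsGeomUnibranch (S.presheaf.stalk s))
    (P : Over S) (hP : TwC.IsTwConst TwC.Topology.etale P) (x : P.left) :
    ∃ U : P.left.Opens, (U : Set P.left) = connectedComponent x ∧ IsFinite (U.ι ≫ P.hom) := by
  -- the irreducible components of the base are open and closed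
  have hnil : ∀ s : S, (nilradical (S.presheaf.stalk s)).IsPrime := fun s =>
    (Ideal.Quotient.isDomain_iff_prime _).1 (hS s).1.1
  have hnoeth : ∀ s : S, ∃ U ∈ nhds s, TopologicalSpace.NoetherianSpace U := fun s => by
    obtain ⟨W, hW, hsW, -⟩ := exists_isAffineOpen_mem_and_subset (U := ⊤) (x := s) (by trivial)
    haveI : IsNoetherianRing Γ(S, W) := IsLocallyNoetherian.component_noetherian ⟨W, hW⟩
    haveI : IsNoetherian (W : Scheme.{u}) := by
      haveI : IsAffine (W : Scheme.{u}) := hW
      exact { }
    exact ⟨W, W.2.mem_nhds hsW, inferInstanceAs (TopologicalSpace.NoetherianSpace (W : Scheme.{u}))⟩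
  let Z : Set S := irreducibleComponent (P.hom x)
  have hZ : Z ∈ irreducibleComponents S := irreducibleComponent_mem_irreducibleComponents _
  have hZo : IsOpen Z := Groth.Agent.H23.LocNoethTop.isOpen_of_pairwiseDisjoint hnoeth
    (fun A hA B hB hne => Set.disjoint_iff_forall_ne.2 fun a ha b hb hab => hne
      (Groth.Agent.H23.FinCondSch.unique_component (hnil a) hA hB ha (hab ▸ hb))) hZ
  let V : S.Opens := ⟨Z, hZo⟩
  haveI : IrreducibleSpace (V : Scheme.{u}) :=
    { toPreirreducibleSpace := Subtype.preirreducibleSpace hZ.1.2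
      toNonempty := ⟨⟨P.hom x, mem_irreducibleComponent⟩⟩ }
  haveI : IsClosedImmersion V.ι := IsClosedImmersion.of_isPreimmersion _
    (by rw [Scheme.Opens.range_ι]; exact isClosed_irreducibleComponent)
  -- restrict to the component
  have hV : ∀ v : (V : Scheme.{u}), CAlg2.IsGeomUnibranch ((V : Scheme.{u}).presheaf.stalk v) := fun v =>
    Groth.Agent.UnibEtale.isGeomUnibranch_of_ringEquiv
      (CategoryTheory.Iso.commRingCatIsoToRingEquiv (asIso (V.ι.stalkMap v))) (hS (V.ι v))
  have hPV := Groth.Agent.TwLocLib.isTwConst_etale_bc V.ι hP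
  let X : Over (V : Scheme.{u}) := Red.bc V.ι P
  haveI : Etale X.hom := Groth.Agent.GalTw.etale_of_isTwConst hPV
  let j : X.left ⟶ P.left := Limits.pullback.fst P.hom V.ι
  haveI : IsOpenImmersion j := inferInstanceAs (IsOpenImmersion (Limits.pullback.fst P.hom V.ι))
  haveI : IsClosedImmersion j := inferInstanceAs (IsClosedImmersion (Limits.pullback.fst P.hom V.ι))
  obtain ⟨x', hx'⟩ : x ∈ Set.range j := by
    rw [show Set.range j = P.hom ⁻¹' Set.range V.ι from Scheme.Pullback.range_fst _ _, Scheme.Opens.range_ι]
    exact mem_irreducibleComponent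
  obtain ⟨l, ⟨hl, hxl⟩, -⟩ := Groth.Agent.GalTw.existsUnique_closure hV x'
  obtain ⟨U, hU, hUc, hfin, -, -⟩ := Groth.Agent.GalTw.component_finite hPV hV l hl
  refine ⟨j ''ᵁ U, ?_, ?_⟩
  · rw [Scheme.Hom.coe_image]
    have hcl : IsClopen (j '' (U : Set X.left)) :=
      ⟨j.isClosedEmbedding.isClosedMap _ hUc, j.isOpenEmbedding.isOpenMap _ U.2⟩
    have hx : x ∈ j '' (U : Set X.left) := ⟨x', hU ▸ hxl, hx'⟩
    refine (IsPreconnected.subset_connectedComponent ?_ hx).antisymm (hcl.connectedComponent_subset hx)
    rw [hU]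
    exact (isPreirreducible_singleton.closure.isPreconnected).image _ j.continuous.continuousOn
  · haveI := hfin
    let e : ((j ''ᵁ U) : Scheme.{u}) ≅ (U : Scheme.{u}) := (j.isoImage U).symm
    have h : (j ''ᵁ U).ι ≫ P.hom = e.hom ≫ (U.ι ≫ X.hom) ≫ V.ι := by
      rw [Category.assoc, show X.hom ≫ V.ι = j ≫ P.hom from Limits.pullback.condition.symm,
        show e.hom = (j.isoImage U).inv from rfl, Scheme.Hom.isoImage_inv_ι_assoc]
    rw [h]
    infer_instance

end Groth.Agent.S5268
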