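import Groth.Statements.S5283
import Groth.Agent.SecGerm.GroupClosed

set_option backward.isDefEq.respectTransparency false
set_option linter.style.haveILetI false

set_option autoImplicit false
open CategoryTheory MonoidalCategory CartesianMonoidalCategory MonObj GrpObj AlgebraicGeometry
universe u
open SGA3x

namespace Groth.Agent.S5283

/-- Let X be an S-group which is smooth and of finite presentation over S with connected fibres, Y an
S-group of finite presentation over S and i : Y ⟶ X a homomorphism which is a monomorphism. Then the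
functor on S-schemes whose value at S' ⟶ S is a point when X ×_S S' ⟶ X factors through Y and empty
otherwise is representable by a closed subscheme of S whose immersion is of finite presentation. -/
theorem result {S : Scheme.{u}} (X Y : Over S) [GrpObj X] [GrpObj Y]
    [Smooth X.hom] [QuasiCompact X.hom] [QuasiSeparated X.hom]
    (hconn : ∀ s : S, ConnectedSpace ↥(Limits.pullback X.hom (S.fromSpecResidueField s)))
    [LocallyOfFinitePresentation Y.hom] [QuasiCompact Y.hom] [QuasiSeparated Y.hom]
    (i : Y ⟶ X) [IsMonHom i] [Mono i] :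
    ∃ (T : Scheme.{u}) (t : T ⟶ S), IsClosedImmersion t ∧ LocallyOfFinitePresentation t ∧
      ∀ (S' : Scheme.{u}) (g : S' ⟶ S), (∃ g' : S' ⟶ T, g' ≫ t = g) ↔
        ∃ l : Limits.pullback X.hom g ⟶ Y.left, l ≫ i.left = Limits.pullback.fst X.hom g := by
  haveI : GeometricallyConnected X.hom := Groth.Agent.SecGerm.geometricallyConnected_group X hconn
  obtain ⟨Z, z, hz, hfp, hfac⟩ := Groth.Agent.SecGerm.exists_closed_subgroup i
  refine ⟨Z, z, hz, hfp, fun S' g => (hfac S' g).trans ?_⟩
  constructor
  · rintro ⟨l, hl⟩
    exact ⟨(Limits.pullbackSymmetry X.hom g).hom ≫ l, by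
      rw [Category.assoc, hl, Limits.pullbackSymmetry_hom_comp_snd]⟩
  · rintro ⟨l, hl⟩
    exact ⟨(Limits.pullbackSymmetry g X.hom).hom ≫ l, by
      rw [Category.assoc, hl, Limits.pullbackSymmetry_hom_comp_fst]⟩

end Groth.Agent.S5283
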