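import Groth.Statements.S5289
-- import your own Groth.Agent.* helpers here
import Groth.Agent.MultLift19.Basic

set_option autoImplicit false
open CategoryTheory MonoidalCategory CartesianMonoidalCategory MonObj GrpObj AlgebraicGeometry
universe u
open SGA3x

namespace Groth.Agent.S5289

/-- Let S = Spec R be affine, J an ideal of R with J² = 0 and S₀ = Spec (R/J); let G be an arbitrary
S-group and i : H ⟶ G, i' : H' ⟶ G two sub-group-schemes (homomorphisms which are immersions) of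
multiplicative type (fpqc-locally on S isomorphic, as groups, to diagonalisable groups D(M), M
allowed to vary and taken in Type 0), such that H ×_S S₀ and H' ×_S S₀ coincide as subgroups of G
×_S S₀. Then there is an S-point g of G whose restriction to S₀ is the unit and which conjugates H
onto H': int(g) ∘ i factors through i' by an isomorphism H ≅ H'. -/
theorem result {R : Type u} [CommRing R] (J : Ideal R) (hJ : J ^ 2 = ⊥)
    (G H H' : Over (Spec (CommRingCat.of R))) [GrpObj G] [GrpObj H] [GrpObj H']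
    (hH : TwC.Locally (Spec (CommRingCat.of R)) TwC.Topology.fpqc (fun S' f => ∃ (M : Type) (_ : AddCommGroup M), Nonempty (Grp.mk (Red.bc f H) ≅ Grp.mk (Red.DS S' M))))
    (hH' : TwC.Locally (Spec (CommRingCat.of R)) TwC.Topology.fpqc (fun S' f => ∃ (M : Type) (_ : AddCommGroup M), Nonempty (Grp.mk (Red.bc f H') ≅ Grp.mk (Red.DS S' M))))
    (i : H ⟶ G) [IsMonHom i] [IsImmersion i.left] (i' : H' ⟶ G) [IsMonHom i'] [IsImmersion i'.left]
    (h0 : ∃ ψ : Red.bc (Spec.map (CommRingCat.ofHom (Ideal.Quotient.mk J))) H ≅ Red.bc (Spec.map (CommRingCat.ofHom (Ideal.Quotient.mk J))) H',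
      ψ.hom ≫ (Over.pullback (Spec.map (CommRingCat.ofHom (Ideal.Quotient.mk J)))).map i' = (Over.pullback (Spec.map (CommRingCat.ofHom (Ideal.Quotient.mk J)))).map i) :
    ∃ g : 𝟙_ (Over (Spec (CommRingCat.of R))) ⟶ G, toUnit (Over.mk (Spec.map (CommRingCat.ofHom (Ideal.Quotient.mk J))) : Over (Spec (CommRingCat.of R))) ≫ g = 1 ∧ SGA3x.ConjBy i i' g := by
  haveI : Mono i := Over.mono_of_mono_left i
  haveI : Mono i' := Over.mono_of_mono_left i'
  let f := Spec.map (CommRingCat.ofHom (algebraMap R (R ⧸ J)))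
  have hn : IsNilpotent J := ⟨2, hJ⟩
  obtain ⟨ψ, hψ⟩ := h0
  let g₀ : Over.mk f ⟶ G := 1
  have hψ' : (Over.pullback f).map i = ψ.hom ≫ (Over.pullback f).map i' := hψ.symm
  have hψ'' : (Over.pullback f).map i' = ψ.inv ≫ (Over.pullback f).map i := by rw [hψ', Iso.inv_hom_id_assoc]
  have h0 : ∀ (X : Over (Spec (CommRingCat.of R))) (p : X ⟶ Over.mk f),
      (∀ h : X ⟶ H, ∃ h' : X ⟶ H', (p ≫ g₀) * (h ≫ i) * (p ≫ g₀)⁻¹ = h' ≫ i') ∧
      (∀ h' : X ⟶ H', ∃ h : X ⟶ H, (p ≫ g₀)⁻¹ * (h' ≫ i') * (p ≫ g₀) = h ≫ i) := by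
    intro X p
    simp only [g₀, MonObj.comp_one, inv_one, _root_.one_mul, _root_.mul_one]
    constructor <;> intro h <;> obtain ⟨Y, e, a, rfl, -⟩ := MultLift19.exists_theta f p h
    · exact ⟨e.hom ≫ DSPtsLib.theta f (a ≫ ψ.hom), by
        rw [Category.assoc, Category.assoc, ← MultLift19.theta_map, ← MultLift19.theta_map, Category.assoc, hψ']⟩
    · exact ⟨e.hom ≫ DSPtsLib.theta f (a ≫ ψ.inv), by
        rw [Category.assoc, Category.assoc, ← MultLift19.theta_map, ← MultLift19.theta_map, Category.assoc, hψ'']⟩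
  obtain ⟨ψ₁, hψ₁m, hψ₁⟩ := MultLift19.exists_twist f i i' g₀ fun X p h => (h0 X p).1 h
  obtain ⟨ψ₂, hψ₂m, hψ₂⟩ := MultLift19.exists_twist f i' i g₀⁻¹ fun X p h' => by
    obtain ⟨h, hh⟩ := (h0 X p).2 h'
    exact ⟨h, by rw [← hh, GrpObj.comp_inv, _root_.inv_inv]⟩
  obtain ⟨θ, hθm, hθ⟩ := MultLift19.exists_lift_iso hn hH hH' ψ₁ ψ₂
    (MultLift19.twist_trans f (inv_mul_cancel g₀) hψ₁ hψ₂) (MultLift19.twist_trans f (mul_inv_cancel g₀) hψ₂ hψ₁)
  obtain ⟨g, hg, hgc⟩ := MultDefLib.exists_conj_of_agree hH hJ i (θ.hom ≫ i') fun X p h => by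
    rw [hψ₁.apply f hθ p h]
    simp [g₀]
  refine ⟨g, hg, θ, ?_⟩
  simpa using (hgc H (𝟙 H)).symm

end Groth.Agent.S5289
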