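import Groth.Statements.S5293
-- import your own Groth.Agent.* helpers here
import Groth.Agent.TwHom19.Apply

set_option autoImplicit false
open CategoryTheory MonoidalCategory CartesianMonoidalCategory MonObj GrpObj AlgebraicGeometry
universe u
open SGA3x

namespace Groth.Agent.S5293

/-- Let H be a quasi-isotrivial S-group of multiplicative type (etale-locally on S isomorphic, as a
group, to diagonalisable groups D(M), M allowed to vary and taken in Type 0). Then the functor
D_S(H) = Hom_{S-gr}(H, G_m) is representable: there is an S-group D with a universal family of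
characters H ×_S D ⟶ G_{m,S}, multiplicative in the D-variable as well (the group law of D is the
pointwise product of characters), and D is a quasi-isotrivial twisted constant S-group
(etale-locally on S a constant group). -/
theorem result {S : Scheme.{u}} (H : Over S) [GrpObj H]
    (hH : TwC.Locally S TwC.Topology.etale (fun S' f => ∃ (M : Type) (_ : AddCommGroup M), Nonempty (Grp.mk (Red.bc f H) ≅ Grp.mk (Red.DS S' M)))) :
    ∃ (D : Over S) (_ : GrpObj D) (υ : H ⊗ D ⟶ Red.Gm S), AutFam.RepresentsHom H (Red.Gm S) D υ ∧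
      (∀ (X : Over S) (h : X ⟶ H) (a b : X ⟶ D), lift h (a * b) ≫ υ = (lift h a ≫ υ) * (lift h b ≫ υ)) ∧
      TwC.IsTwConstGrp TwC.Topology.etale D := by
  have hGm : TwC.Locally S TwC.Topology.etale (fun S' f => ∃ (M : Type) (_ : AddCommGroup M),
      AddGroup.FG M ∧ Nonempty (Grp.mk (Red.bc f (Red.Gm S)) ≅ Grp.mk (Red.DS S' M))) := fun s => by
    obtain ⟨e⟩ := GrpSchLib.MultTypeBC.bc_DS (𝟙 S) ℤ
    exact ⟨S, 𝟙 S, inferInstance, ⟨s, rfl⟩, ℤ, inferInstance, AddGroup.fg_iff_addMonoid_fg.mpr inferInstance, ⟨e⟩⟩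
  choose X f M N iM iN hf hs hN eH eG using TwHom19.exists_common hH hGm
  haveI : ∀ s, Etale (f s) := hf
  haveI : ∀ s, AddGroup.FG (N s) := hN
  obtain ⟨A, υ, hυ, he⟩ := TwHom19.exists_hom_twisted (H := H) (G := Red.Gm S) f (fun s => ⟨s, hs s⟩) (M := M) (N := N)
    (fun s => (eH s).some) (fun s => (eG s).some)
  obtain ⟨str, hev, hlift⟩ := TwHom19.exists_grpObj (fun X a b => TwHom19.DS_comm ℤ X a b) hυ
  refine ⟨A, str, υ, hυ, hlift, fun s => ?_⟩
  obtain ⟨e, υ₀, h₀, hdn⟩ := he s
  letI : CommGroup (Multiplicative (TwHom19.Idx.{u} (M s) (N s))) := inferInstance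
  refine ⟨X s, f s, hf s, hs s, Multiplicative (TwHom19.Idx.{u} (M s) (N s)), inferInstance, e, fun m n => ?_⟩
  let P : Multiplicative (TwHom19.Idx.{u} (M s) (N s)) → (𝟙_ (Over (X s)) ⟶ Red.bc (f s) A) := fun k =>
    TwC.pt (X s) (TwHom19.Idx.{u} (M s) (N s)) (Multiplicative.toAdd k) ≫ e.inv
  let E := MultDefLib.overIso (eG s).some
  haveI : IsMonHom E.hom := (eG s).some.hom.hom.isMonHom_hom
  have hval : ∀ k, (H ◁ DSPtsLib.theta (f s) (P k)) ≫ υ = TwHom19.dn (f s) (MultDefLib.overIso (eH s).some) E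
      (fst (Red.DS (X s) (M s)) (𝟙_ (Over (X s))) ≫ TwHom19.Dmap (X s) (Multiplicative.toAdd k).down) := fun k => by
    rw [hdn]
    congr 1
    simp only [P, Category.assoc, Iso.inv_hom_id, Category.comp_id]
    rw [← h₀ _ (fst _ _) (Multiplicative.toAdd k)]
    congr 1
    exact CartesianMonoidalCategory.hom_ext _ _ (by simp) (by simp [toUnit_unique (toUnit (Red.DS (X s) (M s) ⊗ 𝟙_ _)) (snd _ _)])
  show P m * P n = P (m * n)
  apply (DSPtsLib.theta_bijective (f s)).1
  refine (hυ.2 _ _ (MultDefLib.isHomFamily_comp hυ.1 (DSPtsLib.theta (f s) (P (m * n))))).unique ?_ rfl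
  rw [DSPtsLib.theta_mul, hev, hval, hval, hval, ← TwHom19.dn_mul, ← MonObj.comp_mul, TwHom19.Dmap_add]
  rfl

end Groth.Agent.S5293
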