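import Groth.Statements.S5306
-- import your own Groth.Agent.* helpers here
import Groth.Agent.ConjEtale19.Main

set_option autoImplicit false
open CategoryTheory MonoidalCategory CartesianMonoidalCategory MonObj GrpObj AlgebraicGeometry
universe u
open SGA3x

namespace Groth.Agent.S5306

/-- (ii) ⇒ (i): Let G be an S-group smooth and affine over S and i₁ : H₁ ⟶ G, i₂ : H₂ ⟶ G two subgroup
schemes of multiplicative type (and of finite type). Suppose that for every s ∈ S, writing s̄ for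
the spectrum of an algebraic closure of κ(s), there is a point g of G with values in s̄ such that
int(g)(H₁) = H₂ on points over s̄. Then H₁ and H₂ are conjugate locally for the etale topology:
every point of S is in the image of an etale S' ⟶ S over which some S'-point of G ×_S S' conjugates
H₁ ×_S S' onto H₂ ×_S S'. -/
theorem result {S : Scheme.{u}} (H₁ H₂ G : Over S) [GrpObj H₁] [GrpObj H₂] [GrpObj G]
    (h₁ : SGA3x.IsMultTypeFT H₁) (h₂ : SGA3x.IsMultTypeFT H₂) (hG : Smooth G.hom) (hGa : IsAffineHom G.hom)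
    (i₁ : H₁ ⟶ G) [IsMonHom i₁] [Mono i₁] (i₂ : H₂ ⟶ G) [IsMonHom i₂] [Mono i₂]
    (hgeom : ∀ s : S, ∃ g : Over.mk (Red.geomPt s) ⟶ G, ∀ (X : Over S) (p : X ⟶ Over.mk (Red.geomPt s)),
      (∀ a : X ⟶ H₁, ∃ b : X ⟶ H₂, (p ≫ g) * (a ≫ i₁) * (p ≫ g)⁻¹ = b ≫ i₂) ∧
      (∀ b : X ⟶ H₂, ∃ a : X ⟶ H₁, (p ≫ g)⁻¹ * (b ≫ i₂) * (p ≫ g) = a ≫ i₁)) :
    TwC.Locally S TwC.Topology.etale (fun S' f => ∃ g : 𝟙_ (Over S') ⟶ Red.bc f G,
      SGA3x.ConjBy ((Over.pullback f).map i₁) ((Over.pullback f).map i₂) g) := by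
  intro s
  obtain ⟨B, b, y, M₁, _, hb, hy, -, ⟨e₁⟩⟩ := ConjEtale19.exists_etale_split h₁ s
  obtain ⟨B', b', y', M₂, _, hb', hy', -, ⟨e₂⟩⟩ :=
    ConjEtale19.exists_etale_split (GrpSchLib.MultTypeBC.isMultTypeFT_bc b h₂) y
  obtain ⟨β, hβ⟩ := Spec.map_surjective b'
  letI := β.hom.toAlgebra
  -- both groups split over `Spec B'`
  obtain ⟨u₁⟩ := GrpSchLib.MultTypeBC.bc_iso b' e₁
  obtain ⟨v₁⟩ := GrpSchLib.MultTypeBC.bc_bc b' b H₁
  obtain ⟨w₁⟩ := GrpSchLib.MultTypeBC.bc_congr (show b' = Spec.map (CommRingCat.ofHom (algebraMap B B')) from hβ.symm)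
    (GrpSchLib.AffineHopf.sp B (MonoidAlgebra B (Multiplicative M₁)))
  obtain ⟨x₁⟩ := GrpSchLib.AffineHopf.nonempty_bc_sp (R := B) B' (MonoidAlgebra B (Multiplicative M₁))
  obtain ⟨v₂⟩ := GrpSchLib.MultTypeBC.bc_bc b' b H₂
  let E₁ := v₁.symm ≪≫ u₁ ≪≫ w₁ ≪≫ x₁ ≪≫
    GrpSchLib.AffineHopf.spIso (GrpSchLib.AffineHopf.scalarBialgEquiv B B' (Multiplicative M₁))
  let E₂ := v₂.symm ≪≫ e₂
  let c := b' ≫ b
  haveI := hb
  haveI := hb'
  have hs : c.base y' = s := by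
    show (b' ≫ b).base y' = s
    rw [Scheme.Hom.comp_apply]
    exact (congrArg _ hy').trans hy
  obtain ⟨m, hm⟩ := ConjEtale19.exists_geomPt_lift c y'
  obtain ⟨g, hg⟩ := hgeom (c.base y')
  let K := AlgebraicClosure ((Spec B').residueField y')
  let k : Spec (CommRingCat.of K) ⟶ Spec B' := Red.geomPt y'
  let m' : Over.mk (k ≫ c) ⟶ (Over.mk (Red.geomPt (c.base y')) : Over S) :=
    Over.homMk m hm
  haveI : Mono i₁.left := (Over.forget _).map_mono i₁
  haveI : Mono i₂.left := (Over.forget _).map_mono i₂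
  obtain ⟨g₁, hg₁⟩ := ConjEtale19.transp_bc c k i₁ i₂ (m' ≫ g) fun X p => by
    simpa only [Category.assoc] using hg X (p ≫ m')
  letI : Algebra B' K := (Spec.preimage k).hom.toAlgebra
  have hk : Spec.map (CommRingCat.ofHom (algebraMap B' K)) = k := Spec.map_preimage k
  obtain ⟨g₂, hg₂⟩ : ∃ g₂ : Over.mk (Spec.map (CommRingCat.ofHom (algebraMap B' K))) ⟶ Red.bc c G,
      ∀ (X : Over (Spec B')) (p : X ⟶ Over.mk (Spec.map (CommRingCat.ofHom (algebraMap B' K)))),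
      (∀ a : X ⟶ Red.bc c H₁, ∃ a' : X ⟶ Red.bc c H₂,
        (p ≫ g₂) * (a ≫ (Over.pullback c).map i₁) * (p ≫ g₂)⁻¹ = a' ≫ (Over.pullback c).map i₂) ∧
      (∀ a' : X ⟶ Red.bc c H₂, ∃ a : X ⟶ Red.bc c H₁,
        (p ≫ g₂)⁻¹ * (a' ≫ (Over.pullback c).map i₂) * (p ≫ g₂) = a ≫ (Over.pullback c).map i₁) := by
    rw [hk]
    exact ⟨g₁, hg₁⟩
  haveI : (Over.pullback c).IsRightAdjoint := (Over.mapPullbackAdj c).isRightAdjoint
  haveI : Mono (show Red.bc c H₁ ⟶ Red.bc c G from (Over.pullback c).map i₁) := Functor.map_mono (Over.pullback c) i₁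
  haveI : Mono (show Red.bc c H₂ ⟶ Red.bc c G from (Over.pullback c).map i₂) := Functor.map_mono (Over.pullback c) i₂
  haveI : IsMonHom (show Red.bc c H₁ ⟶ Red.bc c G from (Over.pullback c).map i₁) :=
    MultLift19.isMonHom_pullback_map c i₁
  haveI : IsMonHom (show Red.bc c H₂ ⟶ Red.bc c G from (Over.pullback c).map i₂) :=
    MultLift19.isMonHom_pullback_map c i₂
  obtain ⟨θ, hθ, hT⟩ := ConjEtale19.exists_iso_transp (B := B') (K := K) E₁ E₂
    (show Red.bc c H₁ ⟶ Red.bc c G from (Over.pullback c).map i₁)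
    (show Red.bc c H₂ ⟶ Red.bc c G from (Over.pullback c).map i₂) g₂ hg₂
  haveI := hG
  haveI := hGa
  have hGc : Smooth (Red.bc c G).hom := inferInstanceAs (Smooth (Limits.pullback.snd _ _))
  have hGac : IsAffineHom (Red.bc c G).hom := MorphismProperty.pullback_snd _ _ hGa
  obtain ⟨S', f, hf, hx, g', hg'⟩ := ConjEtale19.exists_etale_conj (GrpSchLib.MultTypeBC.isMultTypeFT_bc c h₁) hGc hGac
    (show Red.bc c H₁ ⟶ Red.bc c G from (Over.pullback c).map i₁)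
    (θ.hom ≫ (show Red.bc c H₂ ⟶ Red.bc c G from (Over.pullback c).map i₂))
    (Spec.map (CommRingCat.ofHom (algebraMap B' K))) (IsLocalRing.closedPoint K) g₂ hT
  obtain ⟨s', hs'⟩ := hx
  rw [hk] at hs'
  refine ⟨S', f ≫ c, inferInstance, ⟨s', ?_⟩, ConjEtale19.exists_conjBy_comp f c i₁ i₂ g'
    ⟨(Over.pullback f).mapIso θ, ?_⟩⟩
  · rw [Scheme.Hom.comp_apply, hs', ← hs]
    refine congrArg _ ?_
    show (_ ≫ (Spec B').fromSpecResidueField y').base _ = y'
    rw [Scheme.Hom.comp_apply]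
    exact Scheme.fromSpecResidueField_apply _ _
  · have := hg' _ (𝟙 (Red.bc f (Red.bc c H₁)))
    rw [Category.id_comp, Category.id_comp, CategoryTheory.Functor.map_comp] at this
    exact this.symm

end Groth.Agent.S5306
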