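import Groth.Statements.S5308
import Groth.Agent.MultDefLib.Descend
import Groth.Agent.DescLib.SepSurj
import Groth.Agent.TwHom19.Global
import Mathlib.AlgebraicGeometry.ZariskisMainTheorem
import Mathlib.AlgebraicGeometry.Limits
-- import your own Groth.Agent.* helpers here

set_option autoImplicit false
open CategoryTheory MonoidalCategory CartesianMonoidalCategory MonObj GrpObj AlgebraicGeometry
universe u
open SGA3x

namespace Groth.Agent.S5308

open CategoryTheory.Limits in
/-- A constant scheme is etale, and each copy of the base in it is open and closed. -/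
theorem const_facts (U : Scheme.{u}) (I : Type u) :
    Etale (TwC.const U I).hom ∧ ∀ i, IsClosed (Set.range (Sigma.ι (fun _ : I => U) i).base) := by
  refine ⟨IsZariskiLocalAtSource.of_openCover (P := @Etale.{u}) (sigmaOpenCover _) fun i => ?_, fun i => ?_⟩
  · change Etale (Sigma.ι (fun _ : I => U) i ≫ Sigma.desc fun _ => 𝟙 U)
    rw [Sigma.ι_desc]
    infer_instance
  · rw [← isOpen_compl_iff]
    have h : (Set.range (Sigma.ι (fun _ : I => U) i).base)ᶜ =
        ⋃ (j : I) (_ : j ≠ i), Set.range (Sigma.ι (fun _ : I => U) j).base := by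
      ext z
      simp only [Set.mem_compl_iff, Set.mem_iUnion]
      constructor
      · intro hz
        obtain ⟨j, y, hy⟩ := (sigmaOpenCover fun _ : I => U).exists_eq z
        refine ⟨j, ?_, ⟨y, hy⟩⟩
        rintro rfl
        exact hz ⟨y, hy⟩
      · rintro ⟨j, hj, hz⟩ hzi
        exact ((disjoint_opensRange_sigmaι (fun _ : I => U) j i hj).le_bot
          (show z ∈ (Sigma.ι (fun _ : I => U) j).opensRange ⊓ (Sigma.ι (fun _ : I => U) i).opensRange from ⟨hz, hzi⟩)).elim
    rw [h]
    exact isOpen_iUnion fun j => isOpen_iUnion fun _ => (Sigma.ι (fun _ : I => U) j).isOpenEmbedding.isOpen_range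

/-- (i) ⇒ (ii). Let R be a commutative twisted constant S-group which is isotrivial (it becomes a
constant group over the open and closed pieces of one finite etale surjective S' ⟶ S). Then R is a
union of open and closed subschemes which are quasi-compact, indeed finite, over S: every point of R
has an open and closed neighbourhood U in R with U ⟶ S finite. -/
theorem result {S : Scheme.{u}} (R : Over S) [GrpObj R]
    (hcomm : ∀ (X : Over S) (a b : X ⟶ R), a * b = b * a) (hR : TwC.IsTwConstGrp TwC.Topology.finiteEtale R) (x : R.left) :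
    ∃ U : R.left.Opens, x ∈ U ∧ IsClosed (U : Set R.left) ∧ IsFinite (U.ι ≫ R.hom) := by
  obtain ⟨S', f, hfin, het, hsurj, hloc⟩ := hR
  choose U' hs' hcl M iM e he using hloc
  have hg : ∀ s', IsFinite ((U' s').ι ≫ f) ∧ Etale ((U' s').ι ≫ f) := fun s' => by
    haveI : IsClosedImmersion (U' s').ι := IsClosedImmersion.of_isPreimmersion _ (by
      rw [Scheme.Opens.range_ι]; exact hcl s')
    exact ⟨inferInstance, inferInstance⟩
  haveI : ∀ s', Etale ((U' s').ι ≫ f) := fun s' => (hg s').2
  have hR : Etale R.hom := by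
    refine Groth.Agent.MultDefLib.of_fpqc_family (P := @Etale) (fun s' => (U' s').ι ≫ f)
      (Groth.Agent.TwHom19.fpqc_of_etale _ fun s => ?_) R.hom fun s' => ?_
    · obtain ⟨s', rfl⟩ := hsurj.surj s
      exact ⟨s', ⟨s', hs' s'⟩, rfl⟩
    · rw [← Limits.pullbackSymmetry_hom_comp_snd]
      haveI := (const_facts (U' s' : Scheme.{u}) (M s')).1
      haveI : Etale (Red.bc ((U' s').ι ≫ f) R).hom := by
        rw [← Over.w (e s').hom]
        infer_instance
      haveI : Etale (Limits.pullback.snd R.hom ((U' s').ι ≫ f)) :=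
        ‹Etale (Red.bc ((U' s').ι ≫ f) R).hom›
      infer_instance
  obtain ⟨s', hs⟩ := hsurj.surj (R.hom x)
  obtain ⟨z, hzx, -⟩ := Scheme.Pullback.exists_preimage_pullback (f := R.hom) (g := (U' s').ι ≫ f) x
    ⟨s', hs' s'⟩ hs.symm
  obtain ⟨hfin', -⟩ := hg s'
  let π := Limits.pullback.fst R.hom ((U' s').ι ≫ f)
  haveI : IsFinite π := MorphismProperty.pullback_fst (P := @IsFinite) _ _ hfin'
  haveI : Etale π := MorphismProperty.pullback_fst (P := @Etale) _ _ inferInstance
  haveI : IsIso (e s').hom.left := inferInstanceAs (IsIso ((Over.forget _).map (e s').hom))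
  haveI : IsIso (e s').inv.left := inferInstanceAs (IsIso ((Over.forget _).map (e s').inv))
  obtain ⟨m, y, hy⟩ := (sigmaOpenCover fun _ : M s' => ((U' s' : Scheme.{u}))).exists_eq ((e s').hom.left z)
  let c : (U' s' : Scheme.{u}) ⟶ Limits.pullback R.hom ((U' s').ι ≫ f) :=
    Limits.Sigma.ι (fun _ : M s' => ((U' s' : Scheme.{u}))) m ≫ (e s').inv.left
  haveI : IsClosedImmersion (Limits.Sigma.ι (fun _ : M s' => ((U' s' : Scheme.{u}))) m) :=
    IsClosedImmersion.of_isPreimmersion _ ((const_facts (U' s' : Scheme.{u}) (M s')).2 m)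
  haveI : IsOpenImmersion c := inferInstanceAs (IsOpenImmersion (_ ≫ (e s').inv.left))
  haveI : IsClosedImmersion c := inferInstanceAs (IsClosedImmersion (_ ≫ (e s').inv.left))
  let k := c ≫ π
  have hkR : k ≫ R.hom = (U' s').ι ≫ f := by
    have h1 : c ≫ Limits.pullback.snd R.hom ((U' s').ι ≫ f) = 𝟙 _ := by
      show (_ ≫ (e s').inv.left) ≫ (Red.bc ((U' s').ι ≫ f) R).hom = _
      rw [Category.assoc, Over.w (e s').inv]
      exact Limits.Sigma.ι_desc _ _
    show (c ≫ π) ≫ R.hom = _
    rw [Category.assoc, Limits.pullback.condition, ← Category.assoc, h1, Category.id_comp]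
  haveI : Etale k := inferInstanceAs (Etale (c ≫ π))
  haveI : IsFinite k := inferInstanceAs (IsFinite (c ≫ π))
  let U : R.left.Opens := ⟨Set.range k.base, k.isOpenMap.isOpen_range⟩
  refine ⟨U, ⟨y, ?_⟩, k.isClosedMap.isClosed_range, ?_⟩
  · show π ((Limits.Sigma.ι (fun _ : M s' => ((U' s' : Scheme.{u}))) m ≫ (e s').inv.left) y) = x
    rw [Scheme.Hom.comp_apply]
    refine (congrArg (fun w => π ((e s').inv.left w)) hy).trans ?_
    refine Eq.trans ?_ hzx
    refine congrArg π ?_
    rw [← Scheme.Hom.comp_apply, ← Over.comp_left, Iso.hom_inv_id]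
    rfl
  · let k' : (U' s' : Scheme.{u}) ⟶ U := IsOpenImmersion.lift U.ι k (by rw [Scheme.Opens.range_ι]; rfl)
    have hk' : k' ≫ U.ι = k := IsOpenImmersion.lift_fac _ _ _
    haveI : Surjective k' := ⟨fun w => by
      obtain ⟨v, hv⟩ := (w.2 : U.ι w ∈ Set.range k.base)
      refine ⟨v, U.ι.isOpenEmbedding.injective ?_⟩
      rw [← Scheme.Hom.comp_apply, hk']
      exact hv⟩
    haveI : IsFinite (k' ≫ U.ι) := hk' ▸ inferInstance
    haveI : IsFinite k' := IsFinite.of_comp k' U.ι
    haveI : IsFinite (k' ≫ U.ι ≫ R.hom) := by rw [← Category.assoc, hk', hkR]; exact hfin'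
    haveI : IsSeparated (U.ι ≫ R.hom) := Groth.Agent.DescLib.isSeparated_of_comp_surjective k' _
    haveI : UniversallyClosed (U.ι ≫ R.hom) := UniversallyClosed.of_comp_surjective k' _
    haveI : IsProper (U.ι ≫ R.hom) := ⟨⟩
    exact (IsFinite.iff_isProper_and_locallyQuasiFinite (U.ι ≫ R.hom)).mpr ⟨inferInstance, inferInstance⟩

end Groth.Agent.S5308
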