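import Groth.Statements.S5326
import Groth.Agent.GrpSchLib.IndConsMono
import Groth.Agent.GrpSchLib.NeutralCons

set_option autoImplicit false
set_option backward.isDefEq.respectTransparency false
set_option backward.isDefEq.respectTransparency.types false
universe u
open CategoryTheory CategoryTheory.Limits MonoidalCategory CartesianMonoidalCategory MonObj GrpObj AlgebraicGeometry
open SGA3 Groth.Agent.GrpSchLib

namespace Groth.Agent.S5326

/-- Let G be an S-group scheme locally of finite presentation over S, and suppose the neutral component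
subfunctor of G is representable: there is a monomorphism i : G⁰ → G of S-schemes such that a point
g : T → G factors through i exactly when the image of the underlying map of g lies in the union of
the neutral components of the fibres G_s. Then i is an open immersion and G⁰ is quasi-compact over
S. -/
theorem result (S : Scheme.{u}) (G : Over S) [GrpObj G]
    [LocallyOfFinitePresentation G.hom] (G0 : Over S) (i : G0 ⟶ G) [Mono i]
    (hrep : ∀ (T : Over S) (g : T ⟶ G), (∃ z : T ⟶ G0, z ≫ i = g) ↔ Set.range g.left.base ⊆ SGA3x.neutralSet G) :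
    IsOpenImmersion i.left ∧ QuasiCompact G0.hom := by
  have hrep' : ∀ {T : Scheme.{u}} (g : T ⟶ G.left),
      (∃ z, z ≫ i.left = g) ↔ Set.range g ⊆ SGA3x.neutralSet G := fun {T} g => by
    rw [show Set.range g = Set.range (Over.homMk (U := Over.mk (g ≫ G.hom)) g rfl).left.base from rfl, ← hrep]
    constructor
    · rintro ⟨z, hz⟩
      exact ⟨Over.homMk z (by rw [← Over.w i, reassoc_of% hz]; rfl), Over.OverMorphism.ext hz⟩
    · rintro ⟨z, hz⟩
      exact ⟨z.left, congrArg CommaMorphism.left hz⟩
  obtain ⟨hopen, hrange⟩ := IndConsMono.isOpenImmersion i.left hrep' (NeutralCons.isIndConstructible G)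
  refine ⟨hopen, ?_⟩
  choose V P M r K hsV hV hP hM hr hK hMK using NeutralCons.exists_param G
  refine IsZariskiLocalAtTarget.of_iSup_eq_top (P := @QuasiCompact) V
    (eq_top_iff.mpr fun s _ => TopologicalSpace.Opens.mem_iSup.mpr ⟨s, hsV s⟩) fun s => ?_
  haveI : IsAffine (V s : Scheme.{u}) := hV s
  haveI := hP s
  have hc : IsCompact ((G0.hom ⁻¹ᵁ V s : G0.left.Opens) : Set G0.left) := by
    refine i.left.isOpenEmbedding.isInducing.isCompact_iff.2 ?_
    have h : i.left '' ((G0.hom ⁻¹ᵁ V s : G0.left.Opens) : Set G0.left) = M s '' K s := by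
      rw [hMK s]
      show i.left '' (G0.hom ⁻¹' (V s : Set S)) = _
      rw [← Over.w i, Scheme.Hom.comp_base]
      show i.left '' (i.left ⁻¹' (G.hom ⁻¹' (V s : Set S))) = _
      rw [Set.image_preimage_eq_inter_range, hrange, Set.inter_comm]
    rw [h]
    exact (Groth.Agent.ProConsLib.consClosed_of_isConstructible (hK s)).isCompact.image (M s).continuous
  exact (HasAffineProperty.iff_of_isAffine (P := @QuasiCompact) (f := G0.hom ∣_ V s)).mpr
    (isCompact_iff_compactSpace.mp hc)

end Groth.Agent.S5326
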