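import Groth.Statements.S5330
import Groth.Agent.GrpSchLib.NeutralOpenAt

set_option autoImplicit false
universe u
open CategoryTheory CategoryTheory.Limits MonoidalCategory CartesianMonoidalCategory MonObj GrpObj AlgebraicGeometry
open SGA3 Groth.Agent
open scoped CategoryTheory.Obj

namespace Groth.Agent.S5330

/-- Let G be an S-group scheme locally of finite presentation over S, s a point of S and G_s⁰ the
connected component of the unit in the fibre G_s. The following are equivalent: (i) G → S is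
universally open at every point of G_s⁰; (i bis) G → S is universally open at every point of W ∩
G_s⁰ for some open W of G containing the unit point of G_s; (ii) t ↦ dim G_t is constant on some
neighbourhood of s. (The published statement is for an S-scheme locally of finite presentation with
a section, equidimensional fibres and geometrically irreducible neutral components; this row takes
the case of a group scheme, where these hold. The published statement has a fourth equivalent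
condition, not stated here.) -/
theorem result (S : Scheme.{u}) (G : Over S) [GrpObj G]
    [LocallyOfFinitePresentation G.hom] (s : S) :
    ((∀ x ∈ (SGA3x.neutralSet G ∩ G.hom.base ⁻¹' {s}), EGA43.IsUnivOpenAt G.hom x) ↔
      ∃ W : G.left.Opens, (∀ p : ↥(𝟙_ (Over S)).left, (𝟙_ (Over S)).hom.base p = s → η[G].left.base p ∈ W) ∧
        ∀ x ∈ (SGA3x.neutralSet G ∩ G.hom.base ⁻¹' {s}), x ∈ W → EGA43.IsUnivOpenAt G.hom x) ∧
    ((∀ x ∈ (SGA3x.neutralSet G ∩ G.hom.base ⁻¹' {s}), EGA43.IsUnivOpenAt G.hom x) ↔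
      ∃ U : Set S, U ∈ nhds s ∧ ∀ t ∈ U, topologicalKrullDim ↥(G.hom.base ⁻¹' {t}) = topologicalKrullDim ↥(G.hom.base ⁻¹' {s})) := by
  haveI : LocallyOfFiniteType G.hom := inferInstance
  have h31 : (∃ U : Set S, U ∈ nhds s ∧ ∀ t ∈ U, topologicalKrullDim ↥(G.hom.base ⁻¹' {t}) =
      topologicalKrullDim ↥(G.hom.base ⁻¹' {s})) →
      ∀ x ∈ (SGA3x.neutralSet G ∩ G.hom.base ⁻¹' {s}), EGA43.IsUnivOpenAt G.hom x := by
    rintro ⟨U, hU, hd⟩ x ⟨hx, hxs⟩
    have hxs' : G.hom x = s := hxs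
    refine GrpSchLib.NeutralOpenAt.isUnivOpenAt G hx fun t ht => ?_
    rw [hxs'] at ht ⊢
    obtain ⟨O, hOU, hO, hsO⟩ := mem_nhds_iff.mp hU
    exact (hd t (hOU (ht.mem_open hO hsO))).ge
  have h23 : (∃ W : G.left.Opens, (∀ p : ↥(𝟙_ (Over S)).left, (𝟙_ (Over S)).hom.base p = s → η[G].left.base p ∈ W) ∧
      ∀ x ∈ (SGA3x.neutralSet G ∩ G.hom.base ⁻¹' {s}), x ∈ W → EGA43.IsUnivOpenAt G.hom x) →
      ∃ U : Set S, U ∈ nhds s ∧ ∀ t ∈ U, topologicalKrullDim ↥(G.hom.base ⁻¹' {t}) =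
      topologicalKrullDim ↥(G.hom.base ⁻¹' {s}) := by
    rintro ⟨W, hW, h⟩
    refine GrpSchLib.NeutralOpenAt.exists_nhds_dim_eq G fun ξ hξs hξe _ =>
      h ξ ⟨GrpSchLib.NeutralOpenAt.mem_neutralSet_of_specializes G hξs hξe, hξs⟩ ?_
    exact hξe.mem_open W.isOpen (hW s rfl)
  have h12 : (∀ x ∈ (SGA3x.neutralSet G ∩ G.hom.base ⁻¹' {s}), EGA43.IsUnivOpenAt G.hom x) →
      ∃ W : G.left.Opens, (∀ p : ↥(𝟙_ (Over S)).left, (𝟙_ (Over S)).hom.base p = s → η[G].left.base p ∈ W) ∧
        ∀ x ∈ (SGA3x.neutralSet G ∩ G.hom.base ⁻¹' {s}), x ∈ W → EGA43.IsUnivOpenAt G.hom x :=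
    fun h => ⟨⊤, fun _ _ => trivial, fun x hx _ => h x hx⟩
  exact ⟨⟨h12, fun h => h31 (h23 h)⟩, ⟨fun h => h23 (h12 h), h31⟩⟩

end Groth.Agent.S5330
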