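import Groth.Statements.S5346
import Groth.Agent.GrpSchLib.ArtinClosedFibre

set_option autoImplicit false
universe u
open CategoryTheory CategoryTheory.Limits MonoidalCategory CartesianMonoidalCategory MonObj GrpObj AlgebraicGeometry
open SGA3 Groth.Agent
open scoped CategoryTheory.Obj

namespace Groth.Agent.S5346

/-- Let A be a local artinian ring with residue field k and i : Spec k → Spec A the closed point. (i) If
X is an A-scheme whose base change X ⊗_A k is locally of finite type (resp. of finite type) over k,
then X is locally of finite type (resp. of finite type) over A. (ii) If u : X → Y is a morphism of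
A-schemes whose base change u ⊗_A k is an immersion (resp. a closed immersion), then u is an
immersion (resp. a closed immersion). -/
theorem result (A : Type u) [CommRing A] [IsArtinianRing A] [IsLocalRing A] (X Y : Over (Spec (CommRingCat.of A))) (u : X ⟶ Y) :
    letI i : Spec (CommRingCat.of (IsLocalRing.ResidueField A)) ⟶ (Spec (CommRingCat.of A)) := Spec.map (CommRingCat.ofHom (IsLocalRing.residue A))
    (LocallyOfFiniteType (pullback.snd X.hom i) → LocallyOfFiniteType X.hom) ∧
    (LocallyOfFiniteType (pullback.snd X.hom i) → QuasiCompact (pullback.snd X.hom i) → QuasiCompact X.hom) ∧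
    (IsImmersion ((Over.pullback i).map u).left → IsImmersion u.left) ∧
    (IsClosedImmersion ((Over.pullback i).map u).left → IsClosedImmersion u.left) := by
  let i : Spec (CommRingCat.of (IsLocalRing.ResidueField A)) ⟶ Spec (CommRingCat.of A) := Spec.map (CommRingCat.ofHom (IsLocalRing.residue A))
  haveI : IsClosedImmersion i := GrpSchLib.ArtinClosedFibre.isClosedImmersion_pt A
  haveI : Surjective i := GrpSchLib.ArtinClosedFibre.surjective_pt A
  let sX : IsPullback (pullback.fst X.hom i) (pullback.snd X.hom i) X.hom i := IsPullback.of_hasPullback _ _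
  let sY : IsPullback (pullback.fst Y.hom i) (pullback.snd Y.hom i) Y.hom i := IsPullback.of_hasPullback _ _
  obtain ⟨m, hm⟩ := GrpSchLib.ArtinClosedFibre.exists_pow_eq_bot A
  have sq : IsPullback (pullback.fst X.hom i) ((Over.pullback i).map u).left u.left (pullback.fst Y.hom i) := by
    refine IsPullback.of_bot (h₃₁ := i) (v₂₁ := pullback.snd Y.hom i) (v₂₂ := Y.hom) ?_ ?_ sY
    · rw [Over.w u, show ((Over.pullback i).map u).left ≫ pullback.snd Y.hom i = pullback.snd X.hom i from
        pullback.lift_snd _ _ _]
      exact sX
    · exact (pullback.lift_fst _ _ _).symm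
  have hmY : (pullback.fst Y.hom i).ker ^ m = ⊥ := by
    rw [FComplLib.ker_of_isPullback sY, ← FComplLib.comap_pow, hm]
    exact Scheme.IdealSheafData.comap_bot _
  refine ⟨fun h => ?_, fun _ hq => ?_, fun h => ?_, fun h => ?_⟩
  · exact FComplLib.locallyOfFiniteType_of_thickening sX
  · rw [quasiCompact_iff_compactSpace] at hq ⊢
    exact MorLib.Thick.compact_of_surjective (pullback.fst X.hom i) (Scheme.Hom.surjective _)
  · exact GrpSchLib.ArtinClosedFibre.isImmersion u.left _ _ _ sq hmY
  · exact FComplLib.isClosedImmersion_of_thickening sq hmY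

end Groth.Agent.S5346
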