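import Groth.Statements.S5348
import Groth.Agent.GrpSchLib.HomogComp

set_option autoImplicit false
universe u
open CategoryTheory CategoryTheory.Limits MonoidalCategory CartesianMonoidalCategory MonObj GrpObj AlgebraicGeometry
open SGA3 Groth.Agent
open scoped CategoryTheory.Obj

namespace Groth.Agent.S5348

/-- Let G be a group scheme over a field k (not assumed of finite type) acting on a k-scheme X so that
the morphism G ×_k X → X ×_k X, (g, x) ↦ (gx, x), is surjective. (i) For every field extension K of
k, every point of X ⊗_k K lies in exactly one irreducible component of X ⊗_k K. (iv) If x is a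
k-rational point of X and C the irreducible component of X containing x, then for every field
extension K of k the inverse image of C in X ⊗_k K is irreducible. -/
theorem result (k : Type u) [Field k] (G X : Over (Spec (CommRingCat.of k))) [GrpObj G] (a : AlgGrp.Action G X) (hΦ : Surjective (lift a.act (snd G X)).left) :
    (∀ (K : Type u) [Field K] [Algebra k K] (z : ↥(pullback X.hom (Spec.map (CommRingCat.ofHom (algebraMap k K))))),
      ∃! C, C ∈ irreducibleComponents ↥(pullback X.hom (Spec.map (CommRingCat.ofHom (algebraMap k K)))) ∧ z ∈ C) ∧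
    (∀ (x : 𝟙_ (Over (Spec (CommRingCat.of k))) ⟶ X) (pt : ↥(𝟙_ (Over (Spec (CommRingCat.of k)))).left) (C : Set X.left),
      C ∈ irreducibleComponents ↥X.left → x.left.base pt ∈ C →
      ∀ (K : Type u) [Field K] [Algebra k K],
        IsIrreducible ((pullback.fst X.hom (Spec.map (CommRingCat.ofHom (algebraMap k K)))).base ⁻¹' C)) := by
  refine ⟨fun K _ _ z => ?_, fun x pt C hC hxC K _ _ => ?_⟩
  · let φ := algebraMap k K
    obtain ⟨c, hc, hcz⟩ := GrpSchLib.exists_isMaxPt
      (X := ↥(X ⊗ GrpSchLib.HomogTop.spOf φ).left) z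
    refine ⟨closure {c}, ⟨GrpSchLib.HomogTop.closure_mem_components hc, hcz.mem_closure⟩, ?_⟩
    rintro Z ⟨hZ, hzZ⟩
    obtain ⟨d, hd, rfl⟩ := GrpSchLib.HomogTop.exists_maxPt_of_component hZ
    have hu : GrpSchLib.UniComp (X ⊗ GrpSchLib.HomogTop.spOf φ).left := GrpSchLib.HomogTop.uniComp_bc a hΦ φ
    rw [hd.eq hu hc (specializes_iff_mem_closure.mpr hzZ) hcz]
  · obtain ⟨c, hc, rfl⟩ := GrpSchLib.HomogTop.exists_maxPt_of_component hC
    refine GrpSchLib.HomogTop.isIrreducible_preimage_component a hΦ x hc ?_ (algebraMap k K)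
    have e : pt = IsLocalRing.closedPoint k := @Subsingleton.elim (PrimeSpectrum k) inferInstance _ _
    exact specializes_iff_mem_closure.mpr (e ▸ hxC)

end Groth.Agent.S5348
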