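import Groth.Statements.S5349
import Groth.Agent.GrpSchLib.HomogComp

set_option autoImplicit false
universe u
open CategoryTheory CategoryTheory.Limits MonoidalCategory CartesianMonoidalCategory MonObj GrpObj AlgebraicGeometry
open SGA3 Groth.Agent
open scoped CategoryTheory.Obj

namespace Groth.Agent.S5349

/-- Let G be a group scheme over a field k (not assumed of finite type) acting on an irreducible
k-scheme X so that the morphism G ×_k X → X ×_k X, (g, x) ↦ (gx, x), is surjective. Then X is
quasi-compact. -/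
theorem result (k : Type u) [Field k] (G X : Over (Spec (CommRingCat.of k))) [GrpObj G] (a : AlgGrp.Action G X) (hΦ : Surjective (lift a.act (snd G X)).left)
    [IrreducibleSpace X.left] : CompactSpace X.left := by
  obtain ⟨g, hg, hge⟩ := GrpSchLib.exists_isMaxPt (η[G].left (IsLocalRing.closedPoint k))
  obtain ⟨ξ, hξ⟩ : ∃ ξ : X.left, IsGenericPoint ξ Set.univ := QuasiSober.sober (IrreducibleSpace.isIrreducible_univ _) isClosed_univ
  obtain ⟨U, hU, hξU, -⟩ := exists_isAffineOpen_mem_and_subset (show ξ ∈ (⊤ : X.left.Opens) from trivial)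
  obtain ⟨T, j, hj, hjr⟩ := GrpSchLib.exists_over_range_eq (closure {g}) isClosed_closure
  haveI : CompactSpace T.left := by
    rw [← isCompact_univ_iff, j.left.isClosedEmbedding.isInducing.isCompact_iff, Set.image_univ, hjr]
    exact GrpSchLib.isCompact_closure_one hg hge
  let W : Over (Spec (CommRingCat.of k)) := Over.mk (U.ι ≫ X.hom)
  let i : W ⟶ X := Over.homMk U.ι rfl
  haveI : IsAffine U.toScheme := hU
  haveI : IsAffineHom (U.ι ≫ X.hom) := isAffineHom_of_isAffine (U.ι ≫ X.hom)
  haveI : CompactSpace (T ⊗ W).left := by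
    haveI : QuasiCompact (CategoryTheory.Limits.pullback.fst T.hom (U.ι ≫ X.hom)) :=
      MorphismProperty.of_isPullback (P := @QuasiCompact) (IsPullback.of_hasPullback T.hom (U.ι ≫ X.hom)).flip inferInstance
    exact QuasiCompact.compactSpace_of_compactSpace (CategoryTheory.Limits.pullback.fst T.hom (U.ι ≫ X.hom))
  refine ⟨?_⟩
  have h : (Set.univ : Set X.left) = ((j ⊗ₘ i) ≫ a.act).left '' Set.univ := by
    refine subset_antisymm (fun y _ => ?_) (Set.subset_univ _)
    obtain ⟨z, ⟨hz1, hz2⟩, rfl⟩ := GrpSchLib.HomogTop.hull_subset_mulSet a hΦ hg hge U.2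
      (show y ∈ GrpSchLib.hull (U : Set X.left) from ⟨ξ, hξU, hξ.specializes trivial⟩)
    obtain ⟨t, ht⟩ : (fst G X).left z ∈ Set.range j.left := hjr ▸ hz1
    have hrange : Set.range (j ⊗ₘ i).left = (fst G X).left ⁻¹' Set.range j.left ∩ (snd G X).left ⁻¹' Set.range i.left := by
      rw [Over.tensorHom_left]
      exact Scheme.Pullback.range_map _ _ _ _ _ _ _ _ _
    obtain ⟨q, hq⟩ : z ∈ Set.range (j ⊗ₘ i).left := by
      rw [hrange]
      exact ⟨⟨t, ht⟩, show (snd G X).left z ∈ Set.range U.ι from (Scheme.Opens.range_ι U).symm ▸ hz2⟩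
    refine ⟨q, trivial, ?_⟩
    rw [GrpSchLib.left_comp_apply, hq]
  rw [h]
  exact isCompact_univ.image ((j ⊗ₘ i) ≫ a.act).left.continuous

end Groth.Agent.S5349
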