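import Groth.Statements.S5350
import Groth.Agent.GrpSchLib.HomogComp

set_option autoImplicit false
universe u
open CategoryTheory CategoryTheory.Limits MonoidalCategory CartesianMonoidalCategory MonObj GrpObj AlgebraicGeometry
open SGA3 Groth.Agent
open scoped CategoryTheory.Obj

namespace Groth.Agent.S5350

/-- Let G be a group scheme over a field k (not assumed of finite type) acting on a k-scheme X so that G
×_k X → X ×_k X, (g, x) ↦ (gx, x), is surjective; let C⁰ be an irreducible component of G containing
the unit point and U an open subset of X. Let C⁰·U be the image under the action of the set of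
points of G ×_k X whose projections lie in C⁰ and in U. Then (i) C⁰·U is open in X and equals the
union of the irreducible components of X whose generic point lies in U; (ii) if U is retrocompact in
X then C⁰·U is the closure of U (so is open and closed). -/
theorem result (k : Type u) [Field k] (G X : Over (Spec (CommRingCat.of k))) [GrpObj G] (a : AlgGrp.Action G X) (hΦ : Surjective (lift a.act (snd G X)).left)
    (pt : ↥(𝟙_ (Over (Spec (CommRingCat.of k)))).left) (C0 : Set G.left) (hC0 : C0 ∈ irreducibleComponents ↥G.left)
    (he : η[G].left.base pt ∈ C0) (U : X.left.Opens) :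
    letI V : Set X.left := a.act.left.base '' {z : ↥(G ⊗ X).left | (fst G X).left.base z ∈ C0 ∧ (snd G X).left.base z ∈ U}
    IsOpen V ∧ V = ⋃₀ {Z : Set X.left | Z ∈ irreducibleComponents ↥X.left ∧ ∃ ξ ∈ U, closure {ξ} = Z} ∧
    (IsRetrocompact (U : Set X.left) → V = closure (U : Set X.left)) := by
  have e : pt = IsLocalRing.closedPoint k := @Subsingleton.elim (PrimeSpectrum k) inferInstance _ _
  obtain ⟨g, hg, rfl⟩ := GrpSchLib.HomogTop.exists_maxPt_of_component hC0
  have hge : g ⤳ η[G].left (IsLocalRing.closedPoint k) := specializes_iff_mem_closure.mpr (e ▸ he)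
  have hV : GrpSchLib.HomogTop.mulSet a g (U : Set X.left) = GrpSchLib.hull (U : Set X.left) :=
    GrpSchLib.HomogTop.mulSet_eq_hull a hΦ hg hge U.2
  refine ⟨(congrArg IsOpen hV).mpr (GrpSchLib.HomogTop.isOpen_hull a hΦ U.2),
    hV.trans (GrpSchLib.HomogTop.hull_eq_sUnion U.2), fun hr => ?_⟩
  refine hV.trans (GrpSchLib.HomogTop.subset_closure_hull.2.antisymm ?_)
  exact closure_minimal GrpSchLib.HomogTop.subset_closure_hull.1 (GrpSchLib.HomogTop.isClosed_hull hr)

end Groth.Agent.S5350
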