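import Groth.Statements.S5430
import Groth.Agent.GrpSchLib.HomUnitLocus
import Groth.Agent.GrpSchLib.MultTypeBC
import Groth.Agent.GrpSchLib.MultTypeComm
import Groth.Agent.TransLib.MultEssFree
-- import your own Groth.Agent.* helpers here

set_option autoImplicit false
universe u
open CategoryTheory MonoidalCategory CartesianMonoidalCategory MonObj GrpObj AlgebraicGeometry CategoryTheory.Limits
open SGA3x

namespace Groth.Agent.S5430

/-- Let S be a scheme and E an S-group scheme which is an extension of an S-group scheme U with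
connected fibres by an S-group H of multiplicative type and of finite type: p : E → U is a
homomorphism which is surjective, flat and quasi-compact (U is the fpqc quotient E/H) and i : H → E
is its kernel. Then the extension is central: every point of H commutes with every point of E. -/
theorem result (S : Scheme.{u}) (E H U : Over S) [GrpObj E] [GrpObj H] [GrpObj U]
    (p : E ⟶ U) [IsMonHom p] [Surjective p.left] [Flat p.left] [QuasiCompact p.left]
    (i : H ⟶ E) [IsMonHom i] (hker : AlgGrp.IsKernel i p) (hH : SGA3x.IsMultTypeFT H)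
    (hU : ∀ s : S, _root_.IsConnected (U.hom.base ⁻¹' {s})) :
    ∀ (X : Over S) (h : X ⟶ H) (e : X ⟶ E), (h ≫ i) * e = e * (h ≫ i) := by
  classical
  haveI : Mono i := ⟨fun {Z} a b h => hker.hom_ext h (toUnit_unique _ _)⟩
  have hpi : ∀ {Y : Over S} (n : Y ⟶ H), n ≫ i ≫ p = 1 := fun n => by
    rw [hker.w, comp_toUnit_assoc, ← Hom.one_def]
  have hn : AlgGrp.IsNormalHom i := fun T g n => by
    have h : (g * (n ≫ i) * g⁻¹) ≫ p = toUnit T ≫ η[U] := by
      rw [MonObj.mul_comp, MonObj.mul_comp, GrpObj.inv_comp, Category.assoc, hpi, _root_.mul_one, mul_inv_cancel, Hom.one_def]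
    exact ⟨hker.lift _ _ h, (hker.lift_fst _ _ h).symm⟩
  have hcm : ∀ {Y : Over S} (a b : Y ⟶ H), a * b = b * a :=
    fun a b => Groth.Agent.GrpSchLib.MultTypeComm.points_comm hH a b
  obtain ⟨c, hc⟩ := hn (H ⊗ E) (snd H E) (fst H E)
  let d : H ⊗ E ⟶ H := c * (fst H E)⁻¹
  have hci : ∀ {Y : Over S} (h : Y ⟶ H) (k : Y ⟶ E), k * (h ≫ i) * k⁻¹ = (lift h k ≫ c) ≫ i := by
    intro Y h k
    rw [Category.assoc, ← hc, MonObj.comp_mul, MonObj.comp_mul, GrpObj.comp_inv, lift_fst_assoc, lift_snd]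
  have hd : ∀ {Y : Over S} (h : Y ⟶ H) (k : Y ⟶ E), lift h k ≫ d = (lift h k ≫ c) * h⁻¹ := by
    intro Y h k
    rw [show d = c * (fst H E)⁻¹ from rfl, MonObj.comp_mul, GrpObj.comp_inv, lift_fst]
  have hdmul : ∀ {Y : Over S} (h h' : Y ⟶ H) (k : Y ⟶ E),
      lift (h * h') k ≫ d = (lift h k ≫ d) * (lift h' k ≫ d) := by
    intro Y h h' k
    have e1 : lift (h * h') k ≫ c = (lift h k ≫ c) * (lift h' k ≫ c) := by
      rw [← cancel_mono i, MonObj.mul_comp, ← hci, ← hci, ← hci, MonObj.mul_comp]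
      group
    rw [hd, hd, hd, e1, _root_.mul_inv_rev, _root_.mul_assoc, _root_.mul_assoc]
    congr 1
    rw [hcm h'⁻¹ h⁻¹, ← _root_.mul_assoc, hcm (lift h' k ≫ c) h⁻¹, _root_.mul_assoc]
  have hd1 : ∀ {Y : Over S} (h : Y ⟶ H), lift h (1 : Y ⟶ E) ≫ d = 1 := by
    intro Y h
    have e1 : lift h (1 : Y ⟶ E) ≫ c = h := by
      rw [← cancel_mono i, ← hci, _root_.one_mul, inv_one, _root_.mul_one]
    rw [hd, e1, mul_inv_cancel]
  -- the endomorphism of H over E
  have hHk : SGA3x.IsMultTypeFT (Red.bc E.hom H) := Groth.Agent.GrpSchLib.MultTypeBC.isMultTypeFT_bc E.hom hH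
  haveI : IsAffineHom (Red.bc E.hom H).hom := (Groth.Agent.TransLib.multTypeFT_essFree hHk).1
  haveI : LocallyOfFiniteType (Red.bc E.hom H).hom := Groth.Agent.GrpSchLib.MultTypeLft.lft hHk
  let kp : ∀ (Y : Over E.left), (Over.map E.hom).obj Y ⟶ E := fun Y => Over.homMk Y.hom rfl
  obtain ⟨w, hw⟩ := (Groth.Agent.DSPtsLib.theta_bijective (H := H) (Y := Red.bc E.hom H) E.hom).2
    (lift (Groth.Agent.DSPtsLib.theta E.hom (𝟙 _)) (kp _) ≫ d)
  have hwp : ∀ {Y : Over E.left} (a : Y ⟶ Red.bc E.hom H), Groth.Agent.DSPtsLib.theta E.hom (a ≫ w) =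
      lift (Groth.Agent.DSPtsLib.theta E.hom a) (kp Y) ≫ d := by
    intro Y a
    have e1 : (Over.map E.hom).map a ≫ Groth.Agent.DSPtsLib.theta (H := H) E.hom (𝟙 _) =
        Groth.Agent.DSPtsLib.theta E.hom a := by
      rw [← Groth.Agent.DSPtsLib.theta_comp, Category.comp_id]
    have e2 : (Over.map E.hom).map a ≫ kp (Red.bc E.hom H) = kp Y :=
      Over.OverMorphism.ext (Over.w a)
    rw [Groth.Agent.DSPtsLib.theta_comp, hw, comp_lift_assoc, e1, e2]
  have hwm : ∀ {Y : Over E.left} (a b : Y ⟶ Red.bc E.hom H), (a * b) ≫ w = (a ≫ w) * (b ≫ w) := by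
    intro Y a b
    refine (Groth.Agent.DSPtsLib.theta_bijective E.hom).1 ?_
    rw [hwp, Groth.Agent.DSPtsLib.theta_mul, Groth.Agent.DSPtsLib.theta_mul, hdmul, hwp, hwp]
  haveI : IsMonHom w := by
    constructor
    · have h := hwm (1 : 𝟙_ _ ⟶ Red.bc E.hom H) 1
      rw [_root_.one_mul, left_eq_mul] at h
      rwa [Hom.one_def, toUnit_unique (toUnit _) (𝟙 _), Category.id_comp] at h
    · have h := hwm (fst (Red.bc E.hom H) (Red.bc E.hom H)) (snd _ _)
      rw [Hom.mul_def, Hom.mul_def, lift_fst_snd, Category.id_comp] at h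
      rw [h, ← lift_map, lift_fst_snd, Category.id_comp]
  obtain ⟨W, hW, hmem, htriv⟩ := Groth.Agent.GrpSchLib.HomUnitLocus.main (u := w) hHk (Or.inr inferInstance)
  let e : S ⟶ E.left := η[E].left
  have he : e ≫ E.hom = 𝟙 S := Over.w η[E]
  have hte : Groth.Agent.GrpSchLib.HomUnitLocus.Triv w e := by
    intro Y q a
    refine (Groth.Agent.DSPtsLib.theta_bijective E.hom).1 ?_
    rw [hwp, Groth.Agent.GrpSchLib.HomUnitLocus.theta_one]
    have hk : kp Y = 1 := by
      rw [Hom.one_def]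
      refine Over.OverMorphism.ext ?_
      show Y.hom = (toUnit ((Over.map E.hom).obj Y)).left ≫ e
      rw [← Over.w q, Over.toUnit_left]
      show q.left ≫ e = (Y.hom ≫ E.hom) ≫ e
      rw [← Over.w q]
      show q.left ≫ e = ((q.left ≫ e) ≫ E.hom) ≫ e
      rw [Category.assoc q.left, he]
      exact congrArg (· ≫ e) (Category.comp_id q.left).symm
    rw [hk, hd1]
  have hunit : ∀ s : S, e s ∈ W := by
    intro s
    have hb : (S.fromSpecResidueField s ≫ e) (IsLocalRing.closedPoint (S.residueField s)) = e s := by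
      refine (Scheme.Hom.comp_apply _ _ _).trans ?_
      exact congrArg (fun x => e x) (Scheme.fromSpecResidueField_apply s _)
    have h1 : Groth.Agent.GrpSchLib.HomUnitLocus.Triv w (S.fromSpecResidueField s ≫ e) := hte.comp _
    rw [hmem, ← hb]
    exact (Groth.Agent.GrpSchLib.HomUnitLocus.triv_iff_of_field _).mp h1
  -- `Triv` at a point only depends on its image in `U₀`
  have htr : ∀ {Ω : Scheme.{u}} (g₁ g₂ : Ω ⟶ E.left), g₁ ≫ p.left = g₂ ≫ p.left →
      Groth.Agent.GrpSchLib.HomUnitLocus.Triv w g₁ → Groth.Agent.GrpSchLib.HomUnitLocus.Triv w g₂ := by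
    intro Ω g₁ g₂ hg h1 Y q a
    refine (Groth.Agent.DSPtsLib.theta_bijective E.hom).1 ?_
    rw [hwp, Groth.Agent.GrpSchLib.HomUnitLocus.theta_one]
    have hq : q.left ≫ g₂ = Y.hom := Over.w q
    have hS : g₁ ≫ E.hom = g₂ ≫ E.hom := by
      rw [← Over.w p, ← Category.assoc, hg, Category.assoc]
    let X : Over S := (Over.map E.hom).obj Y
    let e₁ : X ⟶ E := Over.homMk (q.left ≫ g₁) (by
      show (q.left ≫ g₁) ≫ E.hom = Y.hom ≫ E.hom
      rw [← hq, Category.assoc, Category.assoc, hS])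
    let e₂ : X ⟶ E := kp Y
    let Y₁ : Over E.left := Over.mk e₁.left
    let j : X ⟶ (Over.map E.hom).obj Y₁ := Over.homMk (𝟙 _) (by
      show 𝟙 _ ≫ e₁.left ≫ E.hom = X.hom
      rw [Category.id_comp]; exact Over.w e₁)
    let j' : (Over.map E.hom).obj Y₁ ⟶ X := Over.homMk (𝟙 _) (by
      show 𝟙 _ ≫ X.hom = e₁.left ≫ E.hom
      rw [Category.id_comp]; exact (Over.w e₁).symm)
    have hjj : j ≫ j' = 𝟙 _ := Over.OverMorphism.ext (Category.id_comp _)
    generalize Groth.Agent.DSPtsLib.theta (H := H) E.hom a = x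
    show lift x e₂ ≫ d = 1
    obtain ⟨a₁, ha₁⟩ := (Groth.Agent.DSPtsLib.theta_bijective (H := H) (Y := Y₁) E.hom).2 (j' ≫ x)
    have h2 := congrArg (fun m => j ≫ Groth.Agent.DSPtsLib.theta (H := H) E.hom m) (h1 Y₁ (Over.homMk q.left rfl) a₁)
    simp only [hwp, Groth.Agent.GrpSchLib.HomUnitLocus.theta_one, MonObj.comp_one, comp_lift_assoc, ha₁] at h2
    rw [show j ≫ kp Y₁ = e₁ from Over.OverMorphism.ext (Category.id_comp _), reassoc_of% hjj, hd, mul_inv_eq_one] at h2
    have hpe : e₁ ≫ p = e₂ ≫ p := Over.OverMorphism.ext (by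
      show (q.left ≫ g₁) ≫ p.left = Y.hom ≫ p.left
      rw [Category.assoc, hg, ← hq, Category.assoc])
    have hl : (e₂ * e₁⁻¹) ≫ p = toUnit X ≫ η[U] := by
      rw [MonObj.mul_comp, GrpObj.inv_comp, hpe, mul_inv_cancel, Hom.one_def]
    obtain ⟨n, hn'⟩ : ∃ n : X ⟶ H, n ≫ i = e₂ * e₁⁻¹ := ⟨hker.lift _ _ hl, hker.lift_fst _ _ hl⟩
    rw [hd, mul_inv_eq_one, ← cancel_mono i, ← hci]
    have h4 := hci x e₁
    rw [h2] at h4
    calc e₂ * (x ≫ i) * e₂⁻¹ = (n ≫ i) * (e₁ * (x ≫ i) * e₁⁻¹) * (n ≫ i)⁻¹ := by rw [hn']; group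
      _ = x ≫ i := by
          rw [h4, ← GrpObj.inv_comp, ← MonObj.mul_comp, ← MonObj.mul_comp, hcm n x, mul_inv_cancel_right]
  have hsat : ∀ z z' : E.left, p.left z = p.left z' → z ∈ W → z' ∈ W := by
    intro z z' hzz hz
    obtain ⟨y, hy1, hy2⟩ := Scheme.Pullback.exists_preimage_pullback (f := p.left) (g := p.left) z z' hzz
    let P := Limits.pullback p.left p.left
    let g₁ := P.fromSpecResidueField y ≫ Limits.pullback.fst p.left p.left
    let g₂ := P.fromSpecResidueField y ≫ Limits.pullback.snd p.left p.left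
    have b1 : g₁ (IsLocalRing.closedPoint (P.residueField y)) = z := by
      refine (Scheme.Hom.comp_apply _ _ _).trans ?_
      rw [← hy1]
      exact congrArg _ (Scheme.fromSpecResidueField_apply y _)
    have b2 : g₂ (IsLocalRing.closedPoint (P.residueField y)) = z' := by
      refine (Scheme.Hom.comp_apply _ _ _).trans ?_
      rw [← hy2]
      exact congrArg _ (Scheme.fromSpecResidueField_apply y _)
    have hg : g₁ ≫ p.left = g₂ ≫ p.left := by simp only [g₁, g₂, Category.assoc, Limits.pullback.condition]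
    rw [hmem] at hz ⊢
    rw [← b1] at hz
    rw [← b2]
    exact (Groth.Agent.GrpSchLib.HomUnitLocus.triv_iff_of_field _).mp
      (htr g₁ g₂ hg ((Groth.Agent.GrpSchLib.HomUnitLocus.triv_iff_of_field _).mpr hz))
  have hall : ∀ z : E.left, z ∈ W := by
    intro z
    have hq : Topology.IsQuotientMap p.left := Flat.isQuotientMap_of_surjective _
    let V : Set U.left := p.left '' (W : Set E.left)
    have hpre : p.left ⁻¹' V = (W : Set E.left) := by
      ext y
      exact ⟨fun ⟨y', hy', he'⟩ => hsat y' y he' hy', fun hy => ⟨y, hy, rfl⟩⟩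
    have hV : IsClopen V := ⟨hq.isClosed_preimage.mp (hpre ▸ hW), hq.isOpen_preimage.mp (hpre ▸ W.2)⟩
    let s := E.hom z
    have hb : ∀ y, U.hom (p.left y) = E.hom y := fun y => by rw [← Scheme.Hom.comp_apply, Over.w p]
    have hsub := (hU s).isPreconnected.subset_isClopen hV
      ⟨p.left (e s), (hb _).trans (by rw [← Scheme.Hom.comp_apply, he]; rfl), e s, hunit s, rfl⟩
    have hmemz := hsub (show U.hom (p.left z) = s from hb z)
    exact (Set.ext_iff.mp hpre z).mp hmemz
  have hid : Groth.Agent.GrpSchLib.HomUnitLocus.Triv w (𝟙 E.left) := by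
    have hr : Set.range (𝟙 E.left : E.left ⟶ E.left) ⊆ Set.range W.ι := by
      rw [Scheme.Opens.range_ι]
      exact fun x _ => hall x
    have h := htriv.comp (IsOpenImmersion.lift W.ι (𝟙 E.left) hr)
    rwa [IsOpenImmersion.lift_fac] at h
  intro X h k
  let Y : Over E.left := Over.mk k.left
  let j : X ⟶ (Over.map E.hom).obj Y := Over.homMk (𝟙 _) (by
    show 𝟙 _ ≫ k.left ≫ E.hom = X.hom
    rw [Category.id_comp]; exact Over.w k)
  let j' : (Over.map E.hom).obj Y ⟶ X := Over.homMk (𝟙 _) (by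
    show 𝟙 _ ≫ X.hom = k.left ≫ E.hom
    rw [Category.id_comp]; exact (Over.w k).symm)
  have hjj : j ≫ j' = 𝟙 _ := Over.OverMorphism.ext (Category.id_comp _)
  obtain ⟨a, ha⟩ := (Groth.Agent.DSPtsLib.theta_bijective (H := H) (Y := Y) E.hom).2 (j' ≫ h)
  have h1 := hid Y (Over.homMk k.left (Category.comp_id _)) a
  have h2 := congrArg (fun m => j ≫ Groth.Agent.DSPtsLib.theta (H := H) E.hom m) h1
  simp only [hwp, Groth.Agent.GrpSchLib.HomUnitLocus.theta_one, MonObj.comp_one, comp_lift_assoc, ha] at h2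
  have hk : j ≫ kp Y = k := Over.OverMorphism.ext (Category.id_comp _)
  rw [hk, reassoc_of% hjj, hd, mul_inv_eq_one] at h2
  have h3 := hci h k
  rw [h2, mul_inv_eq_iff_eq_mul] at h3
  exact h3.symm

end Groth.Agent.S5430
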