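import Groth.Statements.S5442
import Groth.Agent.SgaFix20.Centralizer
-- import your own Groth.Agent.* helpers here

set_option autoImplicit false
universe u
open CategoryTheory MonoidalCategory CartesianMonoidalCategory MonObj GrpObj AlgebraicGeometry CategoryTheory.Limits
open SGA3x

namespace Groth.Agent.S5442

/-- Let S be a scheme, G an S-group scheme separated and smooth over S, and H an S-group of
multiplicative type and of finite type acting on G by group automorphisms (on points, h · (g g′) =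
(h · g)(h · g′)). Then the functor Z = G^H of invariants (points of G fixed by all points of H after
any base change) is representable by a closed subgroup scheme of G which is smooth over S: there are
an S-group Z and a homomorphism Z → G which is a closed immersion, with Z smooth over S, whose
points are exactly the invariant points. (The published statement allows any S-group of
multiplicative type; this row assumes it moreover of finite type.) -/
theorem result (S : Scheme.{u}) (H G : Over S) [GrpObj H] [GrpObj G] (hH : SGA3x.IsMultTypeFT H)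
    [IsSeparated G.hom] [Smooth G.hom] (a : AlgGrp.Action H G)
    (hmul : ∀ (X : Over S) (h : X ⟶ H) (g g' : X ⟶ G),
      lift h (g * g') ≫ a.act = (lift h g ≫ a.act) * (lift h g' ≫ a.act)) :
    ∃ (Z : Over S) (_ : GrpObj Z) (z : Z ⟶ G) (_ : IsMonHom z), IsClosedImmersion z.left ∧ Smooth Z.hom ∧
      ∀ (X : Over S) (g : X ⟶ G), (∃ x : X ⟶ Z, x ≫ z = g) ↔
        ∀ (X' : Over S) (f : X' ⟶ X) (h : X' ⟶ H), lift h (f ≫ g) ≫ a.act = f ≫ g := by
  obtain ⟨S', f, hf, hs, hqc, hloc⟩ := hH
  have hH' : TwC.Locally S TwC.Topology.fpqc (fun S' f => ∃ (M : Type) (_ : AddCommGroup M),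
      Nonempty (Grp.mk (Red.bc f H) ≅ Grp.mk (Red.DS S' M))) := by
    refine ⟨S', f, hf, hs, hqc, fun s' => ?_⟩
    obtain ⟨U, hU, M, iM, -, e⟩ := hloc s'
    exact ⟨U, hU, M, iM, e⟩
  obtain ⟨Z, c, hc, hsm, hZ⟩ := Groth.Agent.SgaFix20.exists_fixed_smooth hH' a
  haveI : Mono c := Over.mono_of_mono_left _
  have h1 : ∀ {T : Over S} (h : T ⟶ H), lift h (1 : T ⟶ G) ≫ a.act = 1 := fun h => by
    have := hmul _ h 1 1
    rwa [_root_.one_mul, left_eq_mul] at this
  have hinv : ∀ {T : Over S} (h : T ⟶ H) (g : T ⟶ G), lift h g⁻¹ ≫ a.act = (lift h g ≫ a.act)⁻¹ := fun h g => by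
    refine eq_inv_of_mul_eq_one_left ?_
    rw [← hmul, inv_mul_cancel, h1]
  obtain ⟨η', hη⟩ := (hZ _ η[G]).mpr fun T' t h => by
    rw [show t ≫ η[G] = (1 : T' ⟶ G) by rw [Hom.one_def, toUnit_unique t (toUnit _)]]
    exact h1 h
  obtain ⟨μ', hμ⟩ := (hZ _ ((fst Z Z ≫ c) * (snd Z Z ≫ c))).mpr fun T' t h => by
    rw [MonObj.comp_mul, hmul, ← Category.assoc, ← Category.assoc]
    have e1 := (hZ _ ((t ≫ fst Z Z) ≫ c)).mp ⟨_, rfl⟩ T' (𝟙 _) h
    have e2 := (hZ _ ((t ≫ snd Z Z) ≫ c)).mp ⟨_, rfl⟩ T' (𝟙 _) h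
    simp only [Category.id_comp] at e1 e2
    rw [e1, e2]
  obtain ⟨ι', hι⟩ := (hZ _ c⁻¹).mpr fun T' t h => by
    have e1 := (hZ _ (t ≫ c)).mp ⟨t, rfl⟩ T' (𝟙 _) h
    simp only [Category.id_comp] at e1
    rw [GrpObj.comp_inv, hinv, e1]
  obtain ⟨str, hmon⟩ := Groth.Agent.GrpSchLib.exists_grpObj_of_mono c η' hη μ' hμ ι' hι
  exact ⟨Z, str, c, hmon, hc, hsm, hZ⟩

end Groth.Agent.S5442
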