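import Groth.Statements.S5521
import Groth.Agent.RedRk29.Commutator

set_option autoImplicit false
open CategoryTheory MonoidalCategory CartesianMonoidalCategory MonObj GrpObj AlgebraicGeometry
universe u
open RedSub

namespace Groth.Agent.S5521

open Groth.Agent Groth.Agent.GrpSchLib

/-- Let D be a splitting of G, b a system of simple roots, α, β positive roots, and e an injective
enumeration of all roots of the form iα + jβ with i, j ≥ 1, with exponents e_k = i_kα + j_kβ. Then there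
exist unique constants C_k ∈ Γ(S, O_S) such that, for all X over S, all x ∈ G_a(X), y ∈ G_a(X), writing
z_k = C_k x^{i_k} y^{j_k}, u_α(x) u_β(y) u_α(x)⁻¹ = u_β(y) ∏_k u_{e_k}(z_k). -/
theorem result {S : Scheme.{u}} {G : Over S} [GrpObj G] (D : Red.SplitRed G) (b : D.P.Base)
    (α β : D.idx) (hα : α ∈ RedSub.posRoots D.P b) (hβ : β ∈ RedSub.posRoots D.P b)
    {n : ℕ} (e : Fin n → D.idx) (i j : Fin n → ℕ) (he : Function.Injective e)
    (hij : ∀ k, 1 ≤ i k ∧ 1 ≤ j k ∧ D.P.root (e k) = (i k : ℤ) • D.P.root α + (j k : ℤ) • D.P.root β)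
    (hall : ∀ (c : D.idx) (p q : ℕ), 1 ≤ p → 1 ≤ q → D.P.root c = (p : ℤ) • D.P.root α + (q : ℤ) • D.P.root β →
      c ∈ Set.range e) :
    ∃! C : Fin n → Γ(S, ⊤), ∀ (X : Over S) (x y : X ⟶ Red.Ga S) (z : Fin n → (X ⟶ Red.Ga S)),
      (∀ k, Red.gaFn (z k) = X.hom.appTop (C k) * Red.gaFn x ^ (i k) * Red.gaFn y ^ (j k)) →
        (x ≫ D.u α) * (y ≫ D.u β) * (x ≫ D.u α)⁻¹ =
          (y ≫ D.u β) * (List.ofFn (fun k => z k ≫ D.u (e k))).prod := by
  rcases isEmpty_or_nonempty S with hS | hS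
  · haveI : Subsingleton Γ(S, ⊤) := CommRingCat.subsingleton_of_isTerminal (S.sheaf.isTerminalOfEqEmpty (by
      ext x; exact (hS.false x).elim))
    refine ⟨0, fun X x y z _ => ?_, fun C _ => Subsingleton.elim _ _⟩
    haveI : IsEmpty X.left := Function.isEmpty X.hom
    exact Over.OverMorphism.ext ((isInitialOfIsEmpty (X := X.left)).hom_ext _ _)
  obtain ⟨C, hC, hu⟩ := RedRk29.exists_comm D b hα hβ e i j he hij hall
  refine ⟨C, fun X x y z hz => ?_, fun C' hC' => hu C' fun X x y => ?_⟩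
  · simp only [Rank2Red38.pt_comp_eq]
    convert hC X (Red.gaFn x) (Red.gaFn y) using 4
    exact funext fun k => by rw [hz k]; rfl
  · refine hC' X (GaPts.ptOfFn x) (GaPts.ptOfFn y)
      (fun k => GaPts.ptOfFn (Rank2Red38.glob X (C' k) * x ^ i k * y ^ j k)) fun k => ?_
    simp only [GaPts.gaFn_ptOfFn]; rfl

end Groth.Agent.S5521
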