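import Groth.Statements.S5524
import Groth.Agent.RedSub30.TypeRMain

set_option autoImplicit false
open CategoryTheory MonoidalCategory CartesianMonoidalCategory MonObj GrpObj AlgebraicGeometry
universe u
open RedSub

namespace Groth.Agent.S5524

/-- Let S be connected, G a split reductive S-group (splitting D), H a subgroup of type (R) containing
the torus T, with root set R'. For a root a, the intersection H ∩ U_a is trivial (a point x of G_a
with u_a(x) ∈ H is the zero point) if and only if a ∉ R'. -/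
theorem result {S : Scheme.{u}} [ConnectedSpace S] {G H : Over S} [GrpObj G] [GrpObj H]
    (D : Red.SplitRed G) (h : H ⟶ G) (hH : RedSub.IsTypeR h) (t : D.T ⟶ H) (ht : t ≫ h = D.i) (R' : Set D.idx)
    (hR' : ∀ a : D.idx, (∃ v : Red.Ga S ⟶ H, v ≫ h = D.u a) ↔ a ∈ R') (a : D.idx) :
    (∀ (X : Over S) (x : X ⟶ Red.Ga S) (y : X ⟶ H), x ≫ D.u a = y ≫ h → x = 1) ↔ a ∉ R' := by
  obtain ⟨⟨_, _⟩, _, _, -, -⟩ := hH
  have := Groth.Agent.RedSub30.quasiCompact_left D h
  constructor
  · intro hall ha
    obtain ⟨v, hv⟩ := (hR' a).mpr ha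
    have hid : (𝟙 (Red.Ga S)) = 1 := hall _ (𝟙 _) v (by rw [Category.id_comp, hv])
    obtain ⟨s⟩ : Nonempty S := inferInstance
    obtain ⟨R, f, hf, A, _, _, Md, hr⟩ := haveI : IsAffineHom G.hom := D.reductive.1
      Groth.Agent.BigCell29.exists_local_model G (S.affineCover.idx s)
    obtain ⟨p, -⟩ := (hr ▸ S.affineCover.covers s : s ∈ Set.range f.base)
    have h1 := congrArg (fun q => Groth.Agent.BigCell29.gaPt f (1 : p.asIdeal.ResidueField) ≫ q) hid
    simp only [Category.comp_id, MonObj.comp_one] at h1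
    exact one_ne_zero ((Groth.Agent.BigCell29.gaPt_bijective f).injective
      (h1.trans Groth.Agent.RedSub30.gaPt_zero.symm))
  · intro ha X x y hxy
    refine Groth.Agent.BigCell29.ext_tObj fun R _ f _ B _ _ j => ?_
    haveI : IsAffineHom G.hom := D.reductive.1
    obtain ⟨A, _, _, ⟨Md⟩⟩ := Groth.Agent.BigCell29.exists_model f G
    obtain ⟨z, hz⟩ := (Groth.Agent.BigCell29.gaPt_bijective f).surjective (j ≫ x)
    have hin : Groth.Agent.RedSub30.InSub h Md ((Md.frame D).rt a z) := ⟨j ≫ y, by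
      rw [Category.assoc, ← hxy, Md.pt_rt, Groth.Agent.BigCell29.rtG, hz, Category.assoc]⟩
    rw [← hz, Groth.Agent.RedSub30.eq_zero_of_notMem D h t ht hR' Md ha hin, Groth.Agent.RedSub30.gaPt_zero,
      MonObj.comp_one]

end Groth.Agent.S5524
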