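import Groth.Statements.S5526
import Groth.Agent.RedRk29.TypeRPosSystem
-- import your own Groth.Agent.* helpers here

set_option autoImplicit false
open CategoryTheory MonoidalCategory CartesianMonoidalCategory MonObj GrpObj AlgebraicGeometry
universe u
open RedSub

namespace Groth.Agent.S5526

/-- (iii) ⟺ (ii): Let S be connected, G a split reductive S-group (splitting D), H a subgroup of type
(R) containing the torus T, with root set R'. Then R' ∩ -R' = ∅ if and only if R' is contained in a
system of positive roots (so that H is contained in the corresponding Borel subgroup). Note R' need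
not be closed. -/
theorem result {S : Scheme.{u}} [ConnectedSpace S] {G H : Over S} [GrpObj G] [GrpObj H]
    (D : Red.SplitRed G) (h : H ⟶ G) (hH : RedSub.IsTypeR h) (t : D.T ⟶ H) (ht : t ≫ h = D.i) (R' : Set D.idx)
    (hR' : ∀ a : D.idx, (∃ v : Red.Ga S ⟶ H, v ≫ h = D.u a) ↔ a ∈ R') :
    (∀ a ∈ R', D.P.reflectionPerm a a ∉ R') ↔ ∃ b : D.P.Base, R' ⊆ RedSub.posRoots D.P b := by
  obtain ⟨⟨_, _⟩, _, _, -, -⟩ := hH
  have := Groth.Agent.RedSub30.quasiCompact_left D h
  refine ⟨Groth.Agent.RedRk29.exists_base_of_asymm D h t ht hR', ?_⟩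
  rintro ⟨b, hb⟩ a ha hna
  haveI := Groth.Agent.RedRk29.isReduced (D := D)
  exact ((Groth.Agent.RedRk29.simple_base D b).neg_mem_posOf_iff.mp (hb hna)) (hb ha)

end Groth.Agent.S5526
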