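import Groth.Statements.S5527
import Groth.Agent.RedSub30.TypeRBorel

set_option autoImplicit false
open CategoryTheory MonoidalCategory CartesianMonoidalCategory MonObj GrpObj AlgebraicGeometry
universe u
open RedSub

namespace Groth.Agent.S5527

/-- (ii) ⟹ (iv): Let S be connected, G a split reductive S-group (splitting D), H a subgroup of type (R)
containing the torus T, with root set R' contained in some system of positive roots. Then for every
ordering (enumeration e) of R', the morphism T x_S G_a^{R'} ⟶ G given by the ordered product t · ∏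
u_{e k}(x_k) induces an isomorphism of S-schemes onto H. -/
theorem result {S : Scheme.{u}} [ConnectedSpace S] {G H : Over S} [GrpObj G] [GrpObj H]
    (D : Red.SplitRed G) (h : H ⟶ G) (hH : RedSub.IsTypeR h) (t : D.T ⟶ H) (ht : t ≫ h = D.i) (R' : Set D.idx)
    (hR' : ∀ a : D.idx, (∃ v : Red.Ga S ⟶ H, v ≫ h = D.u a) ↔ a ∈ R')
    (hpos : ∃ b : D.P.Base, R' ⊆ RedSub.posRoots D.P b) {m : ℕ} (e : Fin m → D.idx) (he : RedSub.Enumerates R' e) :
    ∃ φ : D.T ⊗ RedSub.pow (Red.Ga S) m ≅ H, φ.hom ≫ h = RedSub.borelMap D e := by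
  obtain ⟨⟨_, _⟩, _, _, hconn, -⟩ := hH
  obtain ⟨b, hb⟩ := hpos
  obtain ⟨lam, hp, -, hne⟩ := Groth.Agent.BigCell29.exists_isRegular D.P b
  have := Groth.Agent.RedSub30.quasiCompact_left D h
  have hpos' : ∀ a ∈ R', 0 < lam (D.P.root a) := fun a ha => (hp a).mp (hb ha)
  obtain ⟨v, hv⟩ := Groth.Agent.RedSub30.exists_unip D h t ht hR' lam he hpos'
  have := Groth.Agent.RedSub30.isIso_borel D h t ht hR' lam he hpos' v hv hconn hne
  exact ⟨asIso ((t ⊗ₘ v) ≫ μ[H]), Groth.Agent.RedSub30.mul_comp_eq D h t ht v hv⟩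

end Groth.Agent.S5527
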