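import Groth.Statements.S5545
import Groth.Agent.RedSub30.LeviSymSplit

set_option autoImplicit false
open CategoryTheory MonoidalCategory CartesianMonoidalCategory MonObj GrpObj AlgebraicGeometry
universe u
open RedSub

namespace Groth.Agent.S5545

/-- Let S be connected, G a split reductive S-group (splitting D), H a subgroup of type (R) containing
the torus T with symmetric root set R'. Then (H, T, M, R') is a splitting of H: H admits a splitting
D' whose torus maps isomorphically to T over H and G compatibly with the identifications with D_S(M)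
(through an isomorphism of character groups carrying the roots of D' to the roots of D indexed by
R'), and whose root homomorphisms are the u_a, a ∈ R'. -/
theorem result {S : Scheme.{u}} [ConnectedSpace S] {G H : Over S} [GrpObj G] [GrpObj H]
    (D : Red.SplitRed G) (h : H ⟶ G) (hH : RedSub.IsTypeR h) (t : D.T ⟶ H) (ht : t ≫ h = D.i) (R' : Set D.idx)
    (hR' : ∀ a : D.idx, (∃ v : Red.Ga S ⟶ H, v ≫ h = D.u a) ↔ a ∈ R') (hsymm : ∀ a ∈ R', D.P.reflectionPerm a a ∈ R') :
    ∃ (D' : Red.SplitRed H) (e : D'.T ≅ D.T) (eidx : D'.idx ≃ ↥R') (em : D'.M ≃+ D.M),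
      D'.i = e.hom ≫ t ∧
      e.hom ≫ D.split.hom.hom.hom = D'.split.hom.hom.hom ≫ Red.DSmap S em.symm.toAddMonoidHom ∧
      (∀ a' : D'.idx, em (D'.P.root a') = D.P.root (eidx a' : D.idx)) ∧
      (∀ a' : D'.idx, D'.u a' ≫ h = D.u (eidx a' : D.idx)) := by
  classical
  obtain ⟨⟨_, _⟩, _, _, hconn, -⟩ := hH
  haveI := Groth.Agent.RedSub30.quasiCompact_left D h
  haveI := Groth.Agent.RedSub30.Levi.mono_incl h
  haveI := Groth.Agent.RedSub30.Sym.isMonHom_incl_torus D h t ht
  have hred : Red.IsReductive H := Groth.Agent.RedSub30.isReductive_symm D h t ht hR' hconn hsymm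
  haveI := Fintype.ofFinite R'
  have hst : ∀ a ∈ R', ∀ c ∈ R', D.P.reflectionPerm a c ∈ R' :=
    fun a ha c hc => Groth.Agent.RedSub30.Sym.reflection_mem D h t ht hR' hsymm ha hc
  choose v hv using fun a : R' => (hR' a.1).mpr a.2
  have hmax : Red.IsMaximalTorus t := by
    obtain ⟨hi, hmono, hT, hfib⟩ := D.maximalTorus
    haveI := hmono
    refine ⟨inferInstance, ?_, hT, fun s T' _ j _ _ f hT' hf => ?_⟩
    · haveI : Mono (t ≫ h) := by rw [ht]; exact hmono
      exact mono_of_mono t h
    haveI : (Over.pullback (Red.geomPt s)).PreservesMonomorphisms :=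
      Functor.preservesMonomorphisms_of_adjunction (Over.mapPullbackAdj (Red.geomPt s))
    exact hfib s T' (j ≫ (Over.pullback (Red.geomPt s)).map h) f hT' (by
      rw [← Category.assoc, hf, ← Functor.map_comp, ht])
  have hroot : ∀ a : R', Red.IsRootHom t (D.split.hom.hom.hom ≫ Red.chi S (D.P.root a.1)) (v a) := by
    intro a
    obtain ⟨h1, h2, h3⟩ := D.rootHom a.1
    refine ⟨?_, ?_, fun X τ x => ?_⟩
    · haveI : IsMonHom (v a ≫ h) := (hv a).symm ▸ h1
      constructor
      · rw [← cancel_mono h, Category.assoc, IsMonHom.one_hom (v a ≫ h), IsMonHom.one_hom h]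
      · rw [← cancel_mono h, Category.assoc, IsMonHom.mul_hom (v a ≫ h), Category.assoc, IsMonHom.mul_hom h,
          ← Category.assoc, tensorHom_comp_tensorHom]
    · haveI : IsClosedImmersion ((v a).left ≫ h.left) := by rw [← Over.comp_left, hv a]; exact h2
      exact IsClosedImmersion.of_comp (v a).left h.left
    · obtain ⟨y, hy, hfn⟩ := h3 X τ x
      refine ⟨y, ?_, hfn⟩
      rw [← cancel_mono h, MonObj.mul_comp, MonObj.mul_comp, GrpObj.inv_comp]
      simp only [Category.assoc, hv a, ht]
      exact hy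
  have hrefl : ∀ a : R', ∃ n : 𝟙_ (Over S) ⟶ H, ∀ (X : Over S) (τ : X ⟶ D.T),
      (toUnit X ≫ n) * (τ ≫ t) * (toUnit X ≫ n)⁻¹ =
        τ ≫ D.split.hom.hom.hom ≫
          Red.DSmap S ((Groth.Agent.RedSub30.Sym.subDatum D R' hst).reflection a).toLinearMap.toAddMonoidHom ≫
          D.split.inv.hom.hom ≫ t := by
    intro a
    obtain ⟨b⟩ := Groth.Agent.RedRk29.exists_base' D
    obtain ⟨n, hn⟩ := Groth.Agent.RedSub30.Sym.exists_refl_pt D h hR' hsymm b a.2
    refine ⟨n, fun X τ => ?_⟩
    rw [← cancel_mono h, MonObj.mul_comp, MonObj.mul_comp, GrpObj.inv_comp]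
    simp only [Category.assoc, ht]
    exact hn X τ
  let D' : Red.SplitRed H :=
    { T := D.T
      i := t
      M := D.M
      idx := R'
      P := Groth.Agent.RedSub30.Sym.subDatum D R' hst
      pairing_eq := D.pairing_eq
      u := v
      reductive := hred
      maximalTorus := hmax
      split := D.split
      rootHom := hroot
      refl := hrefl
      dim_fibre := fun s => Groth.Agent.RedSub30.Sym.dim_fibre D h t ht hR' hred s }
  refine ⟨D', Iso.refl _, Equiv.refl _, AddEquiv.refl _, (Category.id_comp _).symm, ?_, fun a => rfl, hv⟩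
  show 𝟙 _ ≫ D.split.hom.hom.hom = D.split.hom.hom.hom ≫ Red.DSmap S _
  rw [Category.id_comp]
  refine (Category.comp_id _).symm.trans (congrArg (D.split.hom.hom.hom ≫ ·) ?_)
  exact (Groth.Agent.SgaFix20.DSmap_id (M := D.M) S).symm

end Groth.Agent.S5545
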