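import Groth.Statements.S5546
import Groth.Agent.RedSub30.TypeRRadicalMain

set_option autoImplicit false
open CategoryTheory MonoidalCategory CartesianMonoidalCategory MonObj GrpObj AlgebraicGeometry
universe u
open RedSub

namespace Groth.Agent.S5546

/-- Let S be connected, G a split reductive S-group (splitting D), H a subgroup of type (R) containing T
whose root set R' lies in a system of positive roots. Then the product of the root groups U_a, a ∈
R', taken in any order, maps G_a^{R'} isomorphically onto one and the same closed subgroup scheme U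
= U_{R'} of H, smooth over S, which is the unipotent radical of H; and H = T ⋉ U (multiplication T
x_S U ⟶ H is an isomorphism). -/
theorem result {S : Scheme.{u}} [ConnectedSpace S] {G H : Over S} [GrpObj G] [GrpObj H]
    (D : Red.SplitRed G) (h : H ⟶ G) (hH : RedSub.IsTypeR h) (t : D.T ⟶ H) (ht : t ≫ h = D.i) (R' : Set D.idx)
    (hR' : ∀ a : D.idx, (∃ v : Red.Ga S ⟶ H, v ≫ h = D.u a) ↔ a ∈ R')
    (hpos : ∃ b : D.P.Base, R' ⊆ RedSub.posRoots D.P b) :
    ∃ (U : Over S) (_ : GrpObj U) (u : U ⟶ H), IsMonHom u ∧ IsClosedImmersion (u ≫ h).left ∧ Smooth U.hom ∧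
      Par.IsUnipotentRadical u ∧ IsIso ((t ⊗ₘ u) ≫ μ[H]) ∧
      ∀ {m : ℕ} (e : Fin m → D.idx), RedSub.Enumerates R' e →
        ∃ ψ : RedSub.pow (Red.Ga S) m ≅ U, ψ.hom ≫ u ≫ h = RedSub.prodMap (Red.Ga S) m (fun k => D.u (e k)) := by
  classical
  obtain ⟨⟨_, _⟩, _, _, hconn, -⟩ := hH
  obtain ⟨b, hb⟩ := hpos
  obtain ⟨lam, hp, -, hne⟩ := Groth.Agent.BigCell29.exists_isRegular D.P b
  have := Groth.Agent.RedSub30.quasiCompact_left D h
  have hpos' : ∀ a ∈ R', 0 < lam (D.P.root a) := fun a ha => (hp a).mp (hb ha)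
  haveI := Fintype.ofFinite D.idx
  let e₀ : Fin (Fintype.card R') → D.idx := fun k => ((Fintype.equivFin R').symm k).1
  have he₀ : RedSub.Enumerates R' e₀ := by
    refine ⟨fun a c hac => (Fintype.equivFin R').symm.injective (Subtype.ext hac), Set.ext fun c => ⟨?_, fun hc => ?_⟩⟩
    · rintro ⟨k, rfl⟩; exact ((Fintype.equivFin R').symm k).2
    · exact ⟨Fintype.equivFin R' ⟨c, hc⟩, by simp [e₀]⟩
  obtain ⟨str, hstr⟩ := Groth.Agent.RedSub30.exists_grpObj_prod D h t ht hR' lam he₀ hpos'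
  letI := str
  haveI := hstr
  obtain ⟨v, hv⟩ := Groth.Agent.RedSub30.exists_unip D h t ht hR' lam he₀ hpos'
  have hM := Groth.Agent.RedSub30.isIso_borel D h t ht hR' lam he₀ hpos' v hv hconn hne
  refine ⟨_, str, v, Groth.Agent.RedSub30.isMonHom_unip D h t ht v hv, ?_,
    Groth.Agent.RedSub30.RootPoly.smooth_pow _,
    Groth.Agent.RedSub30.isUnipotentRadical_unip D h t ht hR' lam he₀ hpos' v hv hM, hM, ?_⟩
  · rw [hv]
    exact Groth.Agent.RedSub30.isClosedImmersion_prod D h t ht hR' lam he₀ hpos'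
  intro m e he
  obtain ⟨a, ha⟩ := Groth.Agent.RedSub30.exists_prod_comp D h t ht hR' lam he₀ hpos'
    (e₂ := e) fun j => he.2 ▸ Set.mem_range_self j
  obtain ⟨c, hc⟩ := Groth.Agent.RedSub30.exists_prod_comp D h t ht hR' lam he hpos'
    (e₂ := e₀) fun j => he₀.2 ▸ Set.mem_range_self j
  haveI := Groth.Agent.RedSub30.mono_prod D h t ht hR' lam he₀ hpos'
  haveI := Groth.Agent.RedSub30.mono_prod D h t ht hR' lam he hpos'
  exact ⟨⟨a, c,
    (cancel_mono (RedSub.prodMap (Red.Ga S) m fun k => D.u (e k))).mp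
      (by rw [Category.assoc, hc, ha, Category.id_comp]),
    (cancel_mono (RedSub.prodMap (Red.Ga S) _ fun k => D.u (e₀ k))).mp
      (by rw [Category.assoc, ha, hc, Category.id_comp])⟩, by rw [hv]; exact ha⟩

end Groth.Agent.S5546
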