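import Groth.Statements.S5551
import Groth.Agent.RedSub30.TypeRCell

set_option autoImplicit false
open CategoryTheory MonoidalCategory CartesianMonoidalCategory MonObj GrpObj AlgebraicGeometry
universe u
open RedSub

namespace Groth.Agent.S5551

/-- Let S be connected, G a split reductive S-group (splitting D), H a subgroup of type (R) containing T
with root set R', b a system of simple roots and e⁻, e⁺ enumerations of R' ∩ R_- and R' ∩ R_+ (in
any order). Then the product morphism G_a^{R' ∩ R_-} x_S T x_S G_a^{R' ∩ R_+} ⟶ G factors through H,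
and the factorisation is an open immersion into H. -/
theorem result {S : Scheme.{u}} [ConnectedSpace S] {G H : Over S} [GrpObj G] [GrpObj H]
    (D : Red.SplitRed G) (h : H ⟶ G) (hH : RedSub.IsTypeR h) (t : D.T ⟶ H) (ht : t ≫ h = D.i) (R' : Set D.idx)
    (hR' : ∀ a : D.idx, (∃ v : Red.Ga S ⟶ H, v ≫ h = D.u a) ↔ a ∈ R') (b : D.P.Base)
    {n m : ℕ} (eneg : Fin n → D.idx) (epos : Fin m → D.idx)
    (hneg : RedSub.Enumerates (R' ∩ RedSub.negRoots D.P b) eneg) (hpos : RedSub.Enumerates (R' ∩ RedSub.posRoots D.P b) epos) :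
    ∃ f : RedSub.pow (Red.Ga S) n ⊗ (D.T ⊗ RedSub.pow (Red.Ga S) m) ⟶ H,
      f ≫ h = RedSub.cellMap D eneg epos ∧ IsOpenImmersion f.left := by
  obtain ⟨⟨_, _⟩, _, _, -, -⟩ := hH
  have := Groth.Agent.RedSub30.quasiCompact_left D h
  obtain ⟨g, hg⟩ := Groth.Agent.RedSub30.exists_cell_factor D h t ht hR'
    (fun j => (hneg.2 ▸ ⟨j, rfl⟩ : eneg j ∈ R' ∩ RedSub.negRoots D.P b).1)
    (fun j => (hpos.2 ▸ ⟨j, rfl⟩ : epos j ∈ R' ∩ RedSub.posRoots D.P b).1)
  obtain ⟨lam, hlam⟩ := Groth.Agent.BigCell29.exists_isRegular D.P b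
  have e1 : RedSub.negRoots D.P b = {i | 0 < (-lam) (D.P.root i)} :=
    Set.ext fun i => (hlam.2.1 i).trans (by simp)
  have e2 : RedSub.posRoots D.P b = {i | 0 < lam (D.P.root i)} := Set.ext fun i => hlam.1 i
  rw [e1] at hneg
  rw [e2] at hpos
  exact ⟨g, hg, Groth.Agent.RedSub30.isOpenImmersion_cell D h t ht hR' hlam.2.2 hneg hpos g hg⟩

end Groth.Agent.S5551
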