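import Groth.Statements.S5553
import Groth.Agent.RedSub30.LeviMain
import Groth.Agent.RedSub30.ProdIso

set_option autoImplicit false
open CategoryTheory MonoidalCategory CartesianMonoidalCategory MonObj GrpObj AlgebraicGeometry
universe u
open RedSub

namespace Groth.Agent.S5553

/-- Let S be connected, G a split reductive S-group (splitting D), R' a closed set of roots, R_1 its
symmetric part and R_2 = R' ∖ R_1, H' = H_{R'} and H_1 = H_{R_1} the subgroups of type (R)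
containing T with these root sets, H_1 ⊆ H'. Then there is a normal subgroup U_2 of H', its
unipotent radical, which for every ordering of R_2 is the image of G_a^{R_2} under the ordered
product of the root homomorphisms, such that H' is the semidirect product H_1 ⋉ U_2 (multiplication
H_1 x_S U_2 ⟶ H' is an isomorphism); and U_2 ∩ Norm_G(H_1) = e. -/
theorem result {S : Scheme.{u}} [ConnectedSpace S] {G H' H₁ : Over S} [GrpObj G]
    [GrpObj H'] [GrpObj H₁] (D : Red.SplitRed G) (R' : Set D.idx)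
    (hcl : ∀ a b c : D.idx, a ∈ R' → b ∈ R' → D.P.root a + D.P.root b = D.P.root c → c ∈ R')
    (h' : H' ⟶ G) (hH' : RedSub.IsTypeR h') (t' : D.T ⟶ H') (ht' : t' ≫ h' = D.i)
    (hR' : ∀ a : D.idx, (∃ v : Red.Ga S ⟶ H', v ≫ h' = D.u a) ↔ a ∈ R')
    (h₁ : H₁ ⟶ G) (hH₁ : RedSub.IsTypeR h₁) (t₁ : D.T ⟶ H₁) (ht₁ : t₁ ≫ h₁ = D.i)
    (hR₁ : ∀ a : D.idx, (∃ v : Red.Ga S ⟶ H₁, v ≫ h₁ = D.u a) ↔ (a ∈ R' ∧ D.P.reflectionPerm a a ∈ R'))
    (f₁ : H₁ ⟶ H') (hf₁ : f₁ ≫ h' = h₁) :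
    ∃ (U₂ : Over S) (_ : GrpObj U₂) (u₂ : U₂ ⟶ H'), IsMonHom u₂ ∧ Par.IsUnipotentRadical u₂ ∧
      IsIso ((f₁ ⊗ₘ u₂) ≫ μ[H']) ∧
      (∀ {m : ℕ} (e : Fin m → D.idx), RedSub.Enumerates {a | a ∈ R' ∧ D.P.reflectionPerm a a ∉ R'} e →
        ∃ ψ : RedSub.pow (Red.Ga S) m ≅ U₂, ψ.hom ≫ u₂ ≫ h' = RedSub.prodMap (Red.Ga S) m (fun k => D.u (e k))) ∧
      ∀ (X : Over S) (x : X ⟶ U₂),
        (∀ (X' : Over S) (y : X' ⟶ X) (z : X' ⟶ H₁),
          (∃ z' : X' ⟶ H₁, (y ≫ x ≫ u₂ ≫ h') * (z ≫ h₁) * (y ≫ x ≫ u₂ ≫ h')⁻¹ = z' ≫ h₁) ∧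
          (∃ z' : X' ⟶ H₁, (y ≫ x ≫ u₂ ≫ h')⁻¹ * (z ≫ h₁) * (y ≫ x ≫ u₂ ≫ h') = z' ≫ h₁)) → x = 1 := by
  classical
  open Groth.Agent.RedSub30 Groth.Agent.RedSub30.RootPoly in
  obtain ⟨⟨_, _⟩, _, _, hconn, -⟩ := hH'
  obtain ⟨⟨_, _⟩, _, _, hconn₁, -⟩ := hH₁
  haveI := Groth.Agent.RedSub30.quasiCompact_left D h'
  haveI := Groth.Agent.RedSub30.quasiCompact_left D h₁
  haveI := Fintype.ofFinite D.idx
  open Groth.Agent.RedSub30 Groth.Agent.RedSub30.RootPoly Groth.Agent.RedSub30.Levi in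
  have hR : IsClosedSet D.P R' := hcl
  open Groth.Agent.RedSub30 Groth.Agent.RedSub30.RootPoly Groth.Agent.RedSub30.Levi in
  obtain ⟨lam, hsym, hrem⟩ := hR.exists_pos_rem
  open Groth.Agent.RedSub30 Groth.Agent.RedSub30.RootPoly Groth.Agent.RedSub30.Levi in
  obtain ⟨m₀, e₀, he₀, hl⟩ := IsPosClosed.exists_enumeration (D := D) (lam := lam) hR.rem_isClosedSet hrem
  open Groth.Agent.RedSub30 Groth.Agent.RedSub30.RootPoly Groth.Agent.RedSub30.Levi in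
  obtain ⟨str, hstr⟩ := hl.exists_grpObj
  letI := str
  haveI := hstr
  open Groth.Agent.RedSub30 Groth.Agent.RedSub30.RootPoly Groth.Agent.RedSub30.Levi in
  obtain ⟨v, hv⟩ := exists_rem D h' t' ht' hR' he₀
  open Groth.Agent.RedSub30 Groth.Agent.RedSub30.RootPoly Groth.Agent.RedSub30.Levi in
  haveI hM := isIso_decomp D h' t' ht' hR' h₁ t₁ ht₁ hR₁ hsym hrem he₀ v hv f₁ hf₁ hR hconn
  refine ⟨RedSub.pow (Red.Ga S) m₀, str, v, Groth.Agent.RedSub30.Levi.isMonHom_rem D h' v hv, ?_, hM, ?_, ?_⟩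
  · refine ⟨Groth.Agent.RedSub30.Levi.isMonHom_rem D h' v hv,
      Groth.Agent.RedSub30.Levi.isClosedImmersion_rem D h' v hv hl, fun X g n => ?_,
      Groth.Agent.RedSub30.RootPoly.smooth_pow m₀,
      (haveI := Groth.Agent.BigCell29.isAffineHom_pow (S := S) m₀; inferInstance),
      fun s => ⟨Groth.Agent.RedSub30.RootPoly.connected_geomFibre_pow m₀ s, hl.hasNoSubtorus (Red.geomPt s)⟩,
      fun U' _ u' _ hc hn hs _ hfib => ?_⟩
    · haveI := Groth.Agent.RedSub30.Levi.mono_incl h'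
      obtain ⟨n', hn'⟩ := Groth.Agent.RedSub30.Levi.exists_conj D h' t' ht' hR' hrem he₀ hR hconn g n
      refine ⟨n', ?_⟩
      rw [← cancel_mono h', Category.assoc n', hv, hn']
      simp only [MonObj.mul_comp, GrpObj.inv_comp, Category.assoc, hv]
    · haveI := hc
      haveI := hs
      exact Groth.Agent.RedSub30.Levi.exists_factor_rem D h' t' ht' hR' h₁ t₁ ht₁ hR₁ hsym hrem he₀ v hv f₁ hf₁ u'
        hR hconn hconn₁ hn hfib
  · intro m e he
    obtain ⟨ψ, hψ⟩ := hl.exists_iso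
      (Groth.Agent.RedSub30.RootPoly.IsPosClosed.of_enumerates hR.rem_isClosedSet hrem he) fun c => by
      rw [Groth.Agent.RedSub30.RootPoly.mem_ofFn_of_enumerates he,
        Groth.Agent.RedSub30.RootPoly.mem_ofFn_of_enumerates he₀]
    exact ⟨ψ, by rw [hv]; exact hψ⟩
  · intro X x hx
    haveI := hl.mono_prodMap
    refine (cancel_mono (RedSub.prodMap (Red.Ga S) m₀ (fun k => D.u (e₀ k)))).mp ?_
    rw [MonObj.one_comp]
    refine Groth.Agent.RedSub30.Levi.eq_one_of_normalises D h₁ t₁ ht₁ hR₁ hsym hrem he₀ hR x fun X' y z => ?_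
    have h := (hx X' y z).1
    rwa [hv] at h

end Groth.Agent.S5553
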