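import Groth.Statements.S5561
import Groth.Agent.RedSub30.TypeRInterNorm

set_option autoImplicit false
open CategoryTheory MonoidalCategory CartesianMonoidalCategory MonObj GrpObj AlgebraicGeometry
universe u
open RedSub

namespace Groth.Agent.S5561

/-- Let S be connected, G a split reductive S-group (splitting D), H a subgroup of type (R) containing T
whose root set R' is contained in some system of positive roots, H'' a subgroup of type (R)
containing T with root set R'', and K ⊆ H the subgroup of type (R) containing T with root set R' ∩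
R''. Then H ∩ Norm_G(H'') = K: a point of H normalises H'' if and only if it factors through K. -/
theorem result {S : Scheme.{u}} [ConnectedSpace S] {G H : Over S} [GrpObj G] [GrpObj H]
    (D : Red.SplitRed G) (h : H ⟶ G) (hH : RedSub.IsTypeR h) (t : D.T ⟶ H) (ht : t ≫ h = D.i) (R' : Set D.idx)
    (hR' : ∀ a : D.idx, (∃ v : Red.Ga S ⟶ H, v ≫ h = D.u a) ↔ a ∈ R')
    (hpos : ∃ b : D.P.Base, R' ⊆ RedSub.posRoots D.P b)
    {H'' K : Over S} [GrpObj H''] [GrpObj K] (h'' : H'' ⟶ G) (hH'' : RedSub.IsTypeR h'') (t'' : D.T ⟶ H'')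
    (ht'' : t'' ≫ h'' = D.i) (R'' : Set D.idx) (hR'' : ∀ a : D.idx, (∃ v : Red.Ga S ⟶ H'', v ≫ h'' = D.u a) ↔ a ∈ R'')
    (kG : K ⟶ G) (hK : RedSub.IsTypeR kG) (tK : D.T ⟶ K) (htK : tK ≫ kG = D.i)
    (hRK : ∀ a : D.idx, (∃ v : Red.Ga S ⟶ K, v ≫ kG = D.u a) ↔ a ∈ R' ∩ R'') (fK : K ⟶ H) (hfK : fK ≫ h = kG)
    (X : Over S) (x : X ⟶ H) :
    (∀ (X' : Over S) (y : X' ⟶ X) (z : X' ⟶ H''),
        (∃ z' : X' ⟶ H'', (y ≫ x ≫ h) * (z ≫ h'') * (y ≫ x ≫ h)⁻¹ = z' ≫ h'') ∧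
        (∃ z' : X' ⟶ H'', (y ≫ x ≫ h)⁻¹ * (z ≫ h'') * (y ≫ x ≫ h) = z' ≫ h'')) ↔
      ∃ w : X ⟶ K, w ≫ fK = x := by
  obtain ⟨⟨_, _⟩, _, _, hconn, -⟩ := hH
  obtain ⟨⟨_, _⟩, _, _, -, -⟩ := hH''
  obtain ⟨⟨_, _⟩, _, _, hconnK, -⟩ := hK
  obtain ⟨b, hb⟩ := hpos
  obtain ⟨lam, hp, -, hne⟩ := Groth.Agent.BigCell29.exists_isRegular D.P b
  have := Groth.Agent.RedSub30.quasiCompact_left D h
  have := Groth.Agent.RedSub30.quasiCompact_left D h''
  have := Groth.Agent.RedSub30.quasiCompact_left D kG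
  have hpos' : ∀ a ∈ R', 0 < lam (D.P.root a) := fun a ha => (hp a).mp (hb ha)
  have hm : Mono h := ⟨fun u v huv => Over.OverMorphism.ext ((cancel_mono h.left).mp (congrArg CommaMorphism.left huv))⟩
  constructor
  · intro hx
    obtain ⟨w, hw⟩ := Groth.Agent.RedSub30.exists_of_normalises D h t ht hR' h'' t'' ht'' hR'' kG tK htK hRK lam hne
      hpos' hconn x fun X' y z => (hx X' y z).1
    exact ⟨w, by rw [← cancel_mono h, Category.assoc, hfK, hw]⟩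
  · rintro ⟨w, rfl⟩ X' y z
    obtain ⟨j, hj⟩ := Groth.Agent.RedSub30.exists_inter_factor D h t ht h'' t'' ht'' hR'' kG tK htK hRK lam hne
      hpos' hconnK
    rw [Category.assoc, hfK, ← hj, ← Category.assoc w, ← Category.assoc y]
    refine ⟨⟨(y ≫ w ≫ j) * z * (y ≫ w ≫ j)⁻¹, ?_⟩, ⟨(y ≫ w ≫ j)⁻¹ * z * (y ≫ w ≫ j), ?_⟩⟩ <;>
      rw [MonObj.mul_comp, MonObj.mul_comp, GrpObj.inv_comp]

end Groth.Agent.S5561
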