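import Groth.Statements.S5562
import Groth.Agent.RedSub30.TypeRNormalises
import Groth.Agent.RedRk29.Geom

set_option autoImplicit false
open CategoryTheory MonoidalCategory CartesianMonoidalCategory MonObj GrpObj AlgebraicGeometry
universe u
open RedSub

namespace Groth.Agent.S5562

/-- Let S be connected, G a split reductive S-group (splitting D), H a subgroup of type (R) containing T
whose root set R' is closed with R' ∩ -R' = ∅, U = U_{R'} its unipotent radical, and H'' a subgroup
of type (R) containing T with root set R'' such that no root of R'' is the opposite of a root of R'.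
If α ∈ R', β ∈ R'' and α + β a root imply α + β ∈ R', then H'' normalises U. (The published
statement does not require R'' ∩ -R' = ∅; that condition is necessary: for G = SL₂, H = B the Borel
subgroup with R' = {α} and H'' = G with R'' = {α, -α}, the remaining hypotheses hold vacuously, 2α
and 0 not being roots, while a representative of the reflection s_α conjugates U_α onto U_{-α}; the
published proof applies the commutator formula to α ∈ R' and β ∈ R'', which requires β ≠ -α, and
with that condition it proves the statement given here.) -/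
theorem result {S : Scheme.{u}} [ConnectedSpace S] {G H : Over S} [GrpObj G] [GrpObj H]
    (D : Red.SplitRed G) (h : H ⟶ G) (hH : RedSub.IsTypeR h) (t : D.T ⟶ H) (ht : t ≫ h = D.i) (R' : Set D.idx)
    (hR' : ∀ a : D.idx, (∃ v : Red.Ga S ⟶ H, v ≫ h = D.u a) ↔ a ∈ R')
    (hcl : ∀ a b c : D.idx, a ∈ R' → b ∈ R' → D.P.root a + D.P.root b = D.P.root c → c ∈ R')
    (hasym : ∀ a ∈ R', D.P.reflectionPerm a a ∉ R') {U : Over S} [GrpObj U] (u : U ⟶ H) (hU : Par.IsUnipotentRadical u)
    {H'' : Over S} [GrpObj H''] (h'' : H'' ⟶ G) (hH'' : RedSub.IsTypeR h'') (t'' : D.T ⟶ H'') (ht'' : t'' ≫ h'' = D.i)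
    (R'' : Set D.idx) (hR'' : ∀ a : D.idx, (∃ v : Red.Ga S ⟶ H'', v ≫ h'' = D.u a) ↔ a ∈ R'')
    (hmix : ∀ a b c : D.idx, a ∈ R' → b ∈ R'' → D.P.root a + D.P.root b = D.P.root c → c ∈ R')
    (hopp : ∀ a ∈ R', D.P.reflectionPerm a a ∉ R'') :
    ∀ (X : Over S) (y : X ⟶ H'') (x : X ⟶ U), ∃ x' : X ⟶ U,
      (y ≫ h'') * (x ≫ u ≫ h) * (y ≫ h'')⁻¹ = x' ≫ u ≫ h := by
  classical
  obtain ⟨⟨_, _⟩, _, _, hconn, -⟩ := hH
  obtain ⟨⟨_, _⟩, _, _, hconn'', -⟩ := hH''
  have := Groth.Agent.RedSub30.quasiCompact_left D h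
  have := Groth.Agent.RedSub30.quasiCompact_left D h''
  haveI := Groth.Agent.RedRk29.isReduced D
  haveI := Fintype.ofFinite D.idx
  have hnegidx : ∀ a c : D.idx, D.P.root c = -D.P.root a → c = D.P.reflectionPerm a a := fun a c hc =>
    D.P.root.injective (by rw [hc, D.P.root_reflectionPerm, D.P.reflection_apply_self])
  have hcl' : Groth.Agent.RedSub30.IsClosedSet D.P R' := hcl
  have hneg : ∀ a c, a ∈ R' → D.P.root c = -D.P.root a → c ∉ R' := fun a c ha hc hcR =>
    hasym a ha (hnegidx a c hc ▸ hcR)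
  obtain ⟨lam₀, hlam₀⟩ := hcl'.exists_pos hneg
  obtain ⟨lam, hreg, hlam⟩ := Groth.Agent.RedSub30.exists_regular_pos D lam₀ hlam₀
  let e : Fin (Fintype.card R') → D.idx := fun k => ((Fintype.equivFin R').symm k).1
  have he : RedSub.Enumerates R' e := by
    refine ⟨fun p q hpq => (Fintype.equivFin R').symm.injective (Subtype.ext hpq), Set.ext fun c => ⟨?_, fun hc => ?_⟩⟩
    · rintro ⟨k, rfl⟩; exact ((Fintype.equivFin R').symm k).2
    · exact ⟨Fintype.equivFin R' ⟨c, hc⟩, by simp [e]⟩
  obtain ⟨str, hstr⟩ := Groth.Agent.RedSub30.exists_grpObj_prod D h t ht hR' lam he hlam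
  letI := str
  haveI := hstr
  obtain ⟨v, hv⟩ := Groth.Agent.RedSub30.exists_unip D h t ht hR' lam he hlam
  have hM := Groth.Agent.RedSub30.isIso_borel D h t ht hR' lam he hlam v hv hconn hreg
  have hv' := Groth.Agent.RedSub30.isUnipotentRadical_unip D h t ht hR' lam he hlam v hv hM
  obtain ⟨f, hf⟩ := Groth.Agent.RedSub30.exists_factor_radical hv' hU
  obtain ⟨g, hg⟩ := Groth.Agent.RedSub30.exists_factor_radical hU hv'
  have hl : Groth.Agent.RedSub30.RootPoly.IsPosClosed D lam.toIntLinearMap (List.ofFn e) :=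
    Groth.Agent.RedSub30.RootPoly.IsPosClosed.of_enumerates hcl' hlam he
  have hroot : ∀ b ∈ R'', ∀ (X : Over S) (s : Γ(X.left, ⊤)) (k : X ⟶ G),
      Groth.Agent.RedSub30.RootPoly.InProd D X (List.ofFn e) k →
      Groth.Agent.RedSub30.RootPoly.InProd D X (List.ofFn e)
        (Groth.Agent.Rank2Red38.U D X b s * k * (Groth.Agent.Rank2Red38.U D X b s)⁻¹) := by
    intro b hb X s k hk
    have hm : ∀ c, c ∈ List.ofFn e ↔ c ∈ R' := Groth.Agent.RedSub30.RootPoly.mem_ofFn_of_enumerates he
    by_cases hbR : b ∈ R'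
    · exact hl.mul (hl.mul (hl.U_mem ((hm b).mpr hbR) s) hk) (hl.inv (hl.U_mem ((hm b).mpr hbR) s))
    have hdouble : ∀ d : D.idx, D.P.root b + D.P.root b ≠ D.P.root d := fun d hd => by
      have h1 := congrArg (D.P.coroot' b) hd
      rw [map_add, D.P.root_coroot'_eq_pairing, D.P.pairing_same, D.P.root_coroot'_eq_pairing] at h1
      have hdep : ¬ LinearIndependent ℤ ![D.P.root b, D.P.root d] := by
        rw [LinearIndependent.pair_iff]
        exact fun hh => absurd (hh 2 (-1) (by rw [← hd]; module)).1 (by norm_num)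
      rcases RootPairing.IsReduced.eq_or_eq_neg (P := D.P) b d hdep with h2 | h2
      · rw [← D.P.root.injective h2, D.P.pairing_same] at h1; omega
      · have h3 : D.P.root d = -D.P.root b := by rw [h2, neg_neg]
        have h4 := congrArg (D.P.coroot' b) h3
        rw [map_neg, D.P.root_coroot'_eq_pairing, D.P.root_coroot'_eq_pairing, D.P.pairing_same] at h4
        omega
    have hcl₂ : Groth.Agent.RedSub30.IsClosedSet D.P (insert b R') := fun a c d ha hc hd => by
      rcases ha with rfl | ha <;> rcases hc with rfl | hc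
      · exact absurd hd (hdouble d)
      · exact Or.inr (hmix c a d hc hb (by rw [add_comm]; exact hd))
      · exact Or.inr (hmix a c d ha hb hd)
      · exact Or.inr (hcl a c d ha hc hd)
    have hneg₂ : ∀ a c, a ∈ insert b R' → D.P.root c = -D.P.root a → c ∉ insert b R' := by
      intro a c ha hac hc
      rcases ha with rfl | ha <;> rcases hc with rfl | hc
      · have h4 := congrArg (D.P.coroot' c) hac
        rw [map_neg, D.P.root_coroot'_eq_pairing, D.P.pairing_same] at h4
        omega
      · exact hopp c hc (hnegidx c a (by rw [hac, neg_neg]) ▸ hb)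
      · exact hopp a ha (hnegidx a c hac ▸ hb)
      · exact hneg a c ha hac hc
    obtain ⟨mu, hmu⟩ := hcl₂.exists_pos hneg₂
    have hl₁ : Groth.Agent.RedSub30.RootPoly.IsPosClosed D mu (List.ofFn e) :=
      Groth.Agent.RedSub30.RootPoly.IsPosClosed.of_enumerates hcl' (fun a ha => hmu a (Or.inr ha)) he
    have hset : {c | c ∈ b :: List.ofFn e} = insert b R' := Set.ext fun c => by
      rw [Set.mem_ofPred_eq, List.mem_cons, hm, Set.mem_insert_iff]
    have hl₂ : Groth.Agent.RedSub30.RootPoly.IsPosClosed D mu (b :: List.ofFn e) :=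
      ⟨List.nodup_cons.mpr ⟨fun hb' => hbR ((hm b).mp hb'), hl.nodup⟩,
        fun c hc => hmu c (hset ▸ hc), hset ▸ hcl₂⟩
    exact hl₁.conj_root hl₂ X s hk
  intro X y x
  obtain ⟨n', hn'⟩ := Groth.Agent.RedSub30.exists_conj_of_roots D h'' t'' ht'' hR'' hconn'' hl hroot y (x ≫ g)
  refine ⟨n' ≫ f, ?_⟩
  have e1 : ∀ k : X ⟶ _, (k ≫ v) ≫ h = k ≫ RedSub.prodMap (Red.Ga S) _ (fun l => D.u (e l)) := fun k => by
    rw [Category.assoc, hv]
  rw [Category.assoc, reassoc_of% hf, ← Category.assoc n', e1, hn', ← e1, Category.assoc x g v, hg, Category.assoc]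

end Groth.Agent.S5562
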