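import Groth.Statements.S5563
import Groth.Agent.RedSub30.TypeRNormal
import Groth.Agent.RootData.Lengths
import Groth.Agent.RedRk29.Geom

set_option autoImplicit false
open CategoryTheory MonoidalCategory CartesianMonoidalCategory MonObj GrpObj AlgebraicGeometry
universe u
open RedSub

namespace Groth.Agent.S5563

/-- Let S be connected, G a split reductive S-group (splitting D), b a system of simple roots, a a
simple root, H = H_{R_+ ∖ {a}} the subgroup of type (R) containing T with that root set and U =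
U_{â} its unipotent radical. Then U_{-a} normalises U. -/
theorem result {S : Scheme.{u}} [ConnectedSpace S] {G H U : Over S} [GrpObj G]
    [GrpObj H] [GrpObj U] (D : Red.SplitRed G) (b : D.P.Base) (a : D.idx) (ha : a ∈ b.support) (h : H ⟶ G)
    (hH : RedSub.IsTypeR h) (t : D.T ⟶ H) (ht : t ≫ h = D.i)
    (hR : ∀ c : D.idx, (∃ v : Red.Ga S ⟶ H, v ≫ h = D.u c) ↔ (c ∈ RedSub.posRoots D.P b ∧ c ≠ a))
    (u : U ⟶ H) (hU : Par.IsUnipotentRadical u) (X : Over S) (y : X ⟶ Red.Ga S) (x : X ⟶ U) :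
    ∃ x' : X ⟶ U, (y ≫ D.u (D.P.reflectionPerm a a)) * (x ≫ u ≫ h) * (y ≫ D.u (D.P.reflectionPerm a a))⁻¹ =
      x' ≫ u ≫ h := by
  classical
  obtain ⟨⟨_, _⟩, _, _, hconn, -⟩ := hH
  haveI := Groth.Agent.RedRk29.isReduced D
  obtain ⟨lam, hp, hn, hne⟩ := Groth.Agent.BigCell29.exists_isRegular D.P b
  have := Groth.Agent.RedSub30.quasiCompact_left D h
  have hsimple : a ∈ RedSub.posRoots D.P b := AddSubmonoid.subset_closure ⟨a, ha, rfl⟩
  have hla : 0 < lam (D.P.root a) := (hp a).mp hsimple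
  let ν : D.M →+ ℤ := (2 : ℤ) • lam - lam (D.P.root a) • (D.P.coroot' a).toAddMonoidHom
  have hνe : ∀ c, ν (D.P.root c) = lam (D.P.root c) + lam (D.P.root (D.P.reflectionPerm a c)) := fun c => by
    rw [D.P.root_reflectionPerm, D.P.reflection_apply_root, map_sub, map_zsmul]
    simp only [ν, AddMonoidHom.sub_apply, AddMonoidHom.smul_apply, LinearMap.toAddMonoidHom_coe,
      RootPairing.root_coroot'_eq_pairing, smul_eq_mul]
    ring
  have hfinite : ∀ c, RootD.IsIndiv D.P c := Groth.Agent.RootData.isIndiv_of_reduced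
  have hsimp := Groth.Agent.RootData.Simple.of_base b
  have hpos : ∀ c, c ∈ RedSub.posRoots D.P b ∧ c ≠ a → 0 < ν (D.P.root c) := fun c hc => by
    have h1 := (hp c).mp hc.1
    have h2 := (hp _).mp (hsimp.refl_pos_ne hfinite ha hc.1 hc.2).1
    rw [hνe]; omega
  have hsa : ∀ c, D.P.reflectionPerm a (D.P.reflectionPerm a c) = c := fun c => D.P.reflectionPerm_self a c
  have hν : ∀ c, 0 < ν (D.P.root c) ↔ (c ∈ RedSub.posRoots D.P b ∧ c ≠ a) := fun c => by
    refine ⟨fun hc => ?_, hpos c⟩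
    have hca : c ≠ a := fun e => by
      rw [e, hνe, D.P.root_reflectionPerm, D.P.reflection_apply_self, map_neg] at hc
      omega
    refine ⟨by_contra fun hcn => ?_, hca⟩
    have hlc : lam (D.P.root c) < 0 := lt_of_le_of_ne (not_lt.mp fun h0 => hcn ((hp c).mpr h0)) (hne c)
    have hneg : D.P.root (D.P.reflectionPerm c c) = -D.P.root c := by
      rw [D.P.root_reflectionPerm, D.P.reflection_apply_self]
    have hc' : D.P.reflectionPerm c c ∈ RedSub.posRoots D.P b := (hp _).mpr (by rw [hneg, map_neg]; omega)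
    by_cases hc0 : D.P.reflectionPerm c c = a
    · have : ν (D.P.root (D.P.reflectionPerm c c)) = 0 := by
        rw [hc0, hνe, D.P.root_reflectionPerm, D.P.reflection_apply_self, map_neg]
        omega
      rw [hneg, map_neg] at this
      omega
    · have := hpos _ ⟨hc', hc0⟩
      rw [hneg, map_neg] at this
      omega
  have hνb : ν (D.P.root (D.P.reflectionPerm a a)) = 0 := by
    rw [hνe, hsa, D.P.root_reflectionPerm, D.P.reflection_apply_self, map_neg]
    omega
  haveI := Fintype.ofFinite D.idx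
  let R' : Set D.idx := {c | c ∈ RedSub.posRoots D.P b ∧ c ≠ a}
  let e : Fin (Fintype.card R') → D.idx := fun k => ((Fintype.equivFin R').symm k).1
  have he : RedSub.Enumerates R' e := by
    refine ⟨fun p q hpq => (Fintype.equivFin R').symm.injective (Subtype.ext hpq), Set.ext fun c => ⟨?_, fun hc => ?_⟩⟩
    · rintro ⟨k, rfl⟩; exact ((Fintype.equivFin R').symm k).2
    · exact ⟨Fintype.equivFin R' ⟨c, hc⟩, by simp [e]⟩
  have hR' : ∀ c : D.idx, (∃ v : Red.Ga S ⟶ H, v ≫ h = D.u c) ↔ c ∈ R' := hR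
  have hlam : ∀ c ∈ R', 0 < lam (D.P.root c) := fun c hc => (hp c).mp hc.1
  obtain ⟨str, hstr⟩ := Groth.Agent.RedSub30.exists_grpObj_prod D h t ht hR' lam he hlam
  letI := str
  haveI := hstr
  obtain ⟨v, hv⟩ := Groth.Agent.RedSub30.exists_unip D h t ht hR' lam he hlam
  have hM := Groth.Agent.RedSub30.isIso_borel D h t ht hR' lam he hlam v hv hconn hne
  have hv' := Groth.Agent.RedSub30.isUnipotentRadical_unip D h t ht hR' lam he hlam v hv hM
  obtain ⟨f, hf⟩ := Groth.Agent.RedSub30.exists_factor_radical hv' hU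
  obtain ⟨g, hg⟩ := Groth.Agent.RedSub30.exists_factor_radical hU hv'
  obtain ⟨n', hn'⟩ := Groth.Agent.RedSub30.exists_conj_root D h t ht hR' ν hν he hνb y (x ≫ g)
  refine ⟨n' ≫ f, ?_⟩
  have e1 : ∀ k : X ⟶ _, (k ≫ v) ≫ h = k ≫ RedSub.prodMap (Red.Ga S) _ (fun l => D.u (e l)) := fun k => by
    rw [Category.assoc, hv]
  rw [Category.assoc, reassoc_of% hf, ← Category.assoc n', e1, hn', ← e1, Category.assoc x g v, hg, Category.assoc]

end Groth.Agent.S5563
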