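import Groth.Statements.S5566
import Groth.Agent.RedSub30.GeomRange
import Groth.Agent.RedSub30.TypeRUnip

set_option autoImplicit false
open CategoryTheory MonoidalCategory CartesianMonoidalCategory MonObj GrpObj AlgebraicGeometry
universe u
open RedSub

namespace Groth.Agent.S5566

/-- Let G be a split reductive S-group (splitting D, system of simple roots b, big cell Ω ⟶ G), a a
simple root, u_a(x) a section of U_a with x of unit coordinate, and v = u_{-a}(y) any section of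
U_{-a}. Then Ω · v ⊆ Ω ∪ u_a(x) · Ω. -/
theorem result {S : Scheme.{u}} {G : Over S} [GrpObj G] (D : Red.SplitRed G)
    (b : D.P.Base) {n m : ℕ} (eneg : Fin n → D.idx) (epos : Fin m → D.idx)
    (hneg : RedSub.Enumerates (RedSub.negRoots D.P b) eneg) (hpos : RedSub.Enumerates (RedSub.posRoots D.P b) epos)
    (a : D.idx) (ha : a ∈ b.support) (x : 𝟙_ (Over S) ⟶ Red.Ga S) (hx : IsUnit (Red.gaFn x))
    (y : 𝟙_ (Over S) ⟶ Red.Ga S) :
    Set.range (RedSub.cellMap D eneg epos * (toUnit _ ≫ y ≫ D.u (D.P.reflectionPerm a a))).left.base ⊆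
      Set.range (RedSub.cellMap D eneg epos).left.base ∪
        Set.range ((toUnit _ ≫ x ≫ D.u a) * RedSub.cellMap D eneg epos).left.base := by
  haveI hopenim := BigCell29.isOpenImmersion_cellMap D b hneg hpos
  obtain ⟨nr, hnr⟩ := RedRk29.exists_realisesReflections D
  let w : 𝟙_ (Over S) ⟶ G := x ≫ D.u a
  let c := RedSub.cellMap D eneg epos
  let L : G ⟶ G := (toUnit G ≫ w) * 𝟙 G
  have hLL : ∀ w : 𝟙_ (Over S) ⟶ G, ((toUnit G ≫ w) * 𝟙 G) ≫ ((toUnit G ≫ w⁻¹) * 𝟙 G) = 𝟙 G := fun w => by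
    rw [MonObj.comp_mul, ← Category.assoc, toUnit_unique (_ ≫ toUnit G) (toUnit G), Category.comp_id,
      GrpObj.comp_inv, inv_mul_cancel_left]
  haveI : IsIso L := ⟨(toUnit G ≫ w⁻¹) * 𝟙 G, hLL _, by simpa [L] using hLL w⁻¹⟩
  haveI : IsIso L.left := inferInstanceAs (IsIso ((Over.forget S).map L))
  have hcL : ((toUnit _ ≫ x ≫ D.u a) * RedSub.cellMap D eneg epos) = c ≫ L := by
    rw [MonObj.comp_mul, ← Category.assoc c, toUnit_unique (c ≫ toUnit G) (toUnit _), Category.comp_id]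
  have hopen2 : IsOpen (Set.range ((toUnit _ ≫ x ≫ D.u a) * RedSub.cellMap D eneg epos).left.base) := by
    rw [hcL]
    exact ((inferInstanceAs (IsOpenImmersion (c.left ≫ L.left))) :
      IsOpenImmersion (c ≫ L).left).base_open.isOpen_range
  haveI : LocallyOfFiniteType (RedSub.pow (Red.Ga S) n ⊗ (D.T ⊗ RedSub.pow (Red.Ga S) m)).hom := by
    haveI := hopenim
    haveI : LocallyOfFiniteType G.hom := by
      haveI : Smooth G.hom := D.reductive.2.1
      infer_instance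
    rw [← Over.w c]
    infer_instance
  refine RedSub30.range_subset_of_geom _ (hopenim.base_open.isOpen_range.union hopen2) fun s g => ?_
  haveI : Nonempty S := ⟨s⟩
  let X := BigCell29.tObj (Red.geomPt s) (AlgebraicClosure (S.residueField s))
  haveI : Nontrivial Γ(X.left, ⊤) := RedRk29.nontrivial_geom s
  obtain ⟨hfield, hZ, -⟩ := RedRk29.geom_pts D s
  let B := RedRk29.bnData D hnr X b hfield hZ
  have hU : ∀ (P : D.idx → Prop) {k : ℕ} (e : Fin k → D.idx), (∀ j, P (e j)) → ∀ z : Fin k → Γ(X.left, ⊤),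
      RedSub30.RootPoly.wordPt D X e z ∈ ⨆ (c : D.idx) (_ : P c), RedRk29.rootSub D X c := by
    intro P k e he z
    refine Subgroup.list_prod_mem _ fun u hu => ?_
    obtain ⟨j, rfl⟩ := List.mem_ofFn.mp hu
    exact Subgroup.mem_iSup_of_mem (e j) (Subgroup.mem_iSup_of_mem (he j) ⟨z j, rfl⟩)
  have hgc : g ≫ c ∈ B.cell := by
    refine ⟨_, hU _ eneg (fun j => (RedRk29.neg_iff_not_pos D b _).mp (hneg.2 ▸ Set.mem_range_self j))
        (RedSub30.RootPoly.coord (g ≫ fst _ _)), _, ⟨g ≫ snd _ _ ≫ fst _ _, rfl⟩,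
      _, hU _ epos (fun j => show epos j ∈ RedSub.posRoots D.P b from hpos.2 ▸ Set.mem_range_self j) (RedSub30.RootPoly.coord (g ≫ snd _ _ ≫ snd _ _)), ?_⟩
    rw [← RedSub30.RootPoly.comp_prodMap, ← RedSub30.RootPoly.comp_prodMap, _root_.mul_assoc]
    simp only [c, RedSub.cellMap, MonObj.comp_mul, Category.assoc]
    rfl
  obtain ⟨hxU, hx1⟩ := RedRk29.section_ne_one D a hx X
  have hyU : toUnit X ≫ y ≫ D.u (D.P.reflectionPerm a a) ∈ B.U (B.neg a) :=
    ⟨Red.gaFn (toUnit X ≫ y), by rw [← Category.assoc, Rank2Red38.pt_comp_eq]; rfl⟩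
  have hgW : g ≫ (c * (toUnit _ ≫ y ≫ D.u (D.P.reflectionPerm a a))) =
      (g ≫ c) * (toUnit X ≫ y ≫ D.u (D.P.reflectionPerm a a)) := by
    rw [MonObj.comp_mul, ← Category.assoc g (toUnit _), toUnit_unique (g ≫ toUnit _) (toUnit X)]
  have hsub : ∀ {Y : Over S} (z : X ⟶ Y) (W : Y ⟶ G), Set.range (z ≫ W).left.base ⊆ Set.range W.left.base := by
    rintro Y z W _ ⟨p, rfl⟩
    exact ⟨z.left.base p, rfl⟩
  rw [hgW]
  rcases RedRk29.BNData.cell_mul_neg (RedRk29.bnData_sym D b hnr X hfield hZ) ha hxU hx1 hgc hyU with h | h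
  · obtain ⟨z, hz⟩ := RedRk29.cell_factor hneg hpos hnr X hfield hZ h
    rw [← hz]
    exact (hsub z c).trans Set.subset_union_left
  · obtain ⟨z, hz⟩ := RedRk29.cell_factor hneg hpos hnr X hfield hZ h
    rw [show (g ≫ c) * (toUnit X ≫ y ≫ D.u (D.P.reflectionPerm a a)) =
      z ≫ ((toUnit _ ≫ x ≫ D.u a) * RedSub.cellMap D eneg epos) by
        rw [RedRk29.comp_monoid, hz]; exact (mul_inv_cancel_left _ _).symm]
    exact (hsub z _).trans Set.subset_union_right

end Groth.Agent.S5566
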