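import Groth.Statements.S5570
import Groth.Agent.RedSub30.Centre

set_option autoImplicit false
open CategoryTheory MonoidalCategory CartesianMonoidalCategory MonObj GrpObj AlgebraicGeometry
universe u
open RedSub

namespace Groth.Agent.S5570

/-- Let G be a reductive S-group, q : Q ⟶ G a subtorus, z : Z ⟶ G its centraliser, ZZ ⟶ Z the centre of
Z and R = rad(Z) ⟶ ZZ its maximal torus. Then Q ⊆ rad(Z), and Z is the centraliser in G of rad(Z).
(So Centr_G(Q) is critical.) -/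
theorem result {S : Scheme.{u}} {G Q Z ZZ R : Over S} [GrpObj G] [GrpObj Q] [GrpObj Z]
    [GrpObj ZZ] [GrpObj R] (hG : Red.IsReductive G) (q : Q ⟶ G) [IsMonHom q] [Mono q] (hQ : Red.IsTorus Q) (z : Z ⟶ G)
    (hZ : Red.IsCentralizerOf q z) (jz : ZZ ⟶ Z) (hZZ : Red.IsCentre jz) (r : R ⟶ ZZ) (hR : Red.IsMaximalTorus r) :
    (∃ q' : Q ⟶ R, q' ≫ r ≫ jz ≫ z = q) ∧ Red.IsCentralizerOf (r ≫ jz ≫ z) z := by
  haveI : IsAffineHom G.hom := hG.1
  haveI : Smooth G.hom := hG.2.1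
  haveI := hZ.1
  haveI := hZ.2.1
  haveI := hZZ.1
  haveI := hZZ.2.1
  haveI : IsCommMonObj ZZ := RedSub30.isCommMonObj_centre hZZ
  obtain ⟨qz, hqz⟩ := RedSub30.exists_lift_centralizer_self hZ (GrpSchLib.RankOne.torus_mul_comm hQ)
  haveI : IsMonHom (qz ≫ z) := by rwa [hqz]
  haveI : IsMonHom qz := RedSub30.isMonHom_of_mono z qz
  obtain ⟨q1, _, hq1⟩ := RedSub30.exists_lift_centre hZZ qz fun X g h => by
    rw [← cancel_mono z, MonObj.mul_comp, MonObj.mul_comp, Category.assoc, hqz]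
    exact (RedSub30.centralizer_comm hZ g h).symm
  obtain ⟨q', hq'⟩ := RedSub30.TorusAbsorb.exists_factor (jz ≫ z) hQ q1 r hR
  have hqr : q' ≫ r ≫ jz ≫ z = q := by rw [reassoc_of% hq', reassoc_of% hq1, hqz]
  refine ⟨⟨q', hqr⟩, hZ.1, hZ.2.1, fun X g => ⟨?_, fun h => ?_⟩⟩
  · rintro ⟨y, rfl⟩ X' x h
    have := RedSub30.centralizer_comm hZZ (h ≫ r) (x ≫ y)
    rw [Category.comp_id] at this
    have e := congrArg (· ≫ z) this
    simp only [MonObj.mul_comp, Category.assoc] at e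
    simpa only [Category.assoc] using e.symm
  · refine (hZ.2.2 X g).mpr fun X' x h' => ?_
    rw [← hqr, ← Category.assoc]
    exact h X' x (h' ≫ q')

end Groth.Agent.S5570
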