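import Groth.Statements.S5572
import Groth.Agent.RedSub30.CellKernel
import Groth.Agent.RedRk29.NormWeyl

set_option autoImplicit false
open CategoryTheory MonoidalCategory CartesianMonoidalCategory MonObj GrpObj AlgebraicGeometry
universe u
open RedSub

namespace Groth.Agent.S5572

/-- Let G be a split reductive S-group (splitting D, T ≅ D_S(M)) and N = {m | (α*, m) = 0 for all
coroots}, so that T/T' = D_S(N). Then there is a homomorphism f : G ⟶ D_S(N) inducing on T the
canonical projection; any kernel of f is smooth over S with connected fibres and is killed by every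
homomorphism from G to a commutative S-group scheme. -/
theorem result {S : Scheme.{u}} {G : Over S} [GrpObj G] (D : Red.SplitRed G)
    (N : AddSubgroup D.M) (hN : ∀ m : D.M, m ∈ N ↔ ∀ a : D.idx, D.P.coroot a m = 0) :
    ∃ f : G ⟶ Red.DS S ↥N, IsMonHom f ∧ D.i ≫ f = D.split.hom.hom.hom ≫ Red.DSmap S N.subtype ∧
      ∀ (K : Over S) [GrpObj K] (k : K ⟶ G) [IsMonHom k], AlgGrp.IsKernel k f →
        Smooth K.hom ∧ RedSub.HasConnectedFibres K ∧ RedSub.KilledByCommutative k := by
  rcases isEmpty_or_nonempty S with hS | hS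
  · refine ⟨1, { one_hom := RedSub30.CellChar.hom_eq_of_isEmpty _ _, mul_hom := RedSub30.CellChar.hom_eq_of_isEmpty _ _ },
      RedSub30.CellChar.hom_eq_of_isEmpty _ _, fun K _ k _ _ =>
        ⟨?_, fun s => (IsEmpty.false s).elim, fun A _ f _ _ => RedSub30.CellChar.hom_eq_of_isEmpty _ _⟩⟩
    haveI : IsEmpty K.left := Function.isEmpty K.hom.base
    infer_instance
  obtain ⟨b⟩ := RedRk29.exists_base' D
  obtain ⟨φ, hφ, hT, hU⟩ := RedSub30.CellChar.exists_hom_toQuot D b N fun x hx => (hN x).mp hx
  exact ⟨φ, hφ, hT, fun K _ k _ hk => RedSub30.CellChar.kernel_props D b N hN φ hT hU K k hk⟩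

end Groth.Agent.S5572
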