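import Groth.Statements.S5577
import Groth.Agent.RedSub30.CellPrime

set_option autoImplicit false
open CategoryTheory MonoidalCategory CartesianMonoidalCategory MonObj GrpObj AlgebraicGeometry
universe u
open RedSub

namespace Groth.Agent.S5577

/-- Let G be a split reductive S-group (splitting D, T ≅ D_S(M), system of simple roots b, big cell map
c : Ω ⟶ G), N = {m | (α*, m) = 0 for all coroots} and f : Ω ⟶ D_S(N) = T/T' the T-component followed
by D_S(M) ⟶ D_S(N). Then f is generically multiplicative: there is an open V ⊆ Ω x_S Ω containing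
the unit point such that for all points x, y of Ω with (x, y) in V there is a point z of Ω with c(z)
= c(x) c(y) and f(z) = f(x) f(y). -/
theorem result {S : Scheme.{u}} {G : Over S} [GrpObj G]
    (D : Red.SplitRed G) (b : D.P.Base) {n m : ℕ} (eneg : Fin n → D.idx) (epos : Fin m → D.idx)
    (hneg : RedSub.Enumerates (RedSub.negRoots D.P b) eneg) (hpos : RedSub.Enumerates (RedSub.posRoots D.P b) epos)
    (N : AddSubgroup D.M) (hN : ∀ x : D.M, x ∈ N ↔ ∀ c : D.idx, D.P.coroot c x = 0) :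
    ∃ V : Set ↥((RedSub.pow (Red.Ga S) n ⊗ (D.T ⊗ RedSub.pow (Red.Ga S) m)) ⊗ (RedSub.pow (Red.Ga S) n ⊗ (D.T ⊗ RedSub.pow (Red.Ga S) m))).left, IsOpen V ∧
      (∀ u₀ : 𝟙_ (Over S) ⟶ RedSub.pow (Red.Ga S) n ⊗ (D.T ⊗ RedSub.pow (Red.Ga S) m), u₀ ≫ RedSub.cellMap D eneg epos = 1 →
        Set.range (lift u₀ u₀).left.base ⊆ V) ∧
      ∀ (X : Over S) (x y : X ⟶ RedSub.pow (Red.Ga S) n ⊗ (D.T ⊗ RedSub.pow (Red.Ga S) m)), Set.range (lift x y).left.base ⊆ V →
        ∃ z : X ⟶ RedSub.pow (Red.Ga S) n ⊗ (D.T ⊗ RedSub.pow (Red.Ga S) m),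
          z ≫ RedSub.cellMap D eneg epos = (x ≫ RedSub.cellMap D eneg epos) * (y ≫ RedSub.cellMap D eneg epos) ∧
          z ≫ snd _ _ ≫ fst _ _ ≫ D.split.hom.hom.hom ≫ Red.DSmap S N.subtype =
            (x ≫ snd _ _ ≫ fst _ _ ≫ D.split.hom.hom.hom ≫ Red.DSmap S N.subtype) *
              (y ≫ snd _ _ ≫ fst _ _ ≫ D.split.hom.hom.hom ≫ Red.DSmap S N.subtype) := by
  obtain ⟨φ, hφ, hT, hU⟩ := RedSub30.CellChar.exists_hom_toQuot D b N fun x hx => (hN x).mp hx
  haveI hopen := BigCell29.isOpenImmersion_cellMap D b hneg hpos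
  let c := RedSub.cellMap D eneg epos
  let W := (fst _ _ ≫ c) * (snd _ _ ≫ c)
  refine ⟨W.left.base ⁻¹' Set.range c.left.base,
    hopen.base_open.isOpen_range.preimage W.left.continuous, fun u₀ hu₀ => ?_, fun X x y hV => ?_⟩
  · rintro _ ⟨p, rfl⟩
    refine ⟨u₀.left.base p, ?_⟩
    have e : lift u₀ u₀ ≫ W = u₀ ≫ c := by
      simp only [W, c, MonObj.comp_mul, lift_fst_assoc, lift_snd_assoc, hu₀, _root_.one_mul]
    exact congrArg (fun f => f.left.base p) e.symm
  have e : lift x y ≫ W = (x ≫ c) * (y ≫ c) := by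
    simp only [W, c, MonObj.comp_mul, lift_fst_assoc, lift_snd_assoc]
  obtain ⟨z, hz⟩ := RedSub30.CellChar.exists_lift_of_range c ((x ≫ c) * (y ≫ c)) (by
    rw [← e]
    rintro _ ⟨p, rfl⟩
    exact hV ⟨p, rfl⟩)
  refine ⟨z, hz, ?_⟩
  have h := congrArg (· ≫ φ) hz
  simpa only [c, MonObj.mul_comp, Category.assoc, RedSub30.CellChar.cellMap_comp D eneg epos φ hU, hT] using h

end Groth.Agent.S5577
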