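import Groth.Statements.S5632
import Groth.Agent.Pic13Lib.DivDim
import Groth.Agent.Pic13Lib.JointEmb

set_option autoImplicit false
set_option linter.style.haveILetI false
set_option backward.isDefEq.respectTransparency false
set_option backward.isDefEq.respectTransparency.types false
set_option maxHeartbeats 400000
universe u
open CategoryTheory CategoryTheory.Limits AlgebraicGeometry
open Pic13 Groth.Agent.H23.PicMul

namespace Groth.Agent.S5632

open Groth.Agent.Pic13Lib

attribute [local irreducible] FGA.intNum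

/-- Let k be an algebraically closed field, X ⊆ P^n_k an integral closed subscheme of dimension r = s +
1 ≥ 1, with O_X(1) and O_X(-1) the restrictions of O(1) and O(-1). Let L be an invertible O_X-module
with inverse L' (L ⊗ L' ≅ O_X) whose degree (c₁(L)·c₁(O_X(1))^{r-1}) is ≤ 0 and with H^0(X, L) ≠ 0.
Then L ≅ O_X (so that its degree is 0 and h^0(L) = 1). Intersection numbers are those of FGA.intNum,
which takes the inverse modules L', O_X(-1) as arguments. -/
theorem result (k : Type u) [Field k] [IsAlgClosed k] (n : ℕ) (X : Scheme.{u}) [X.Over (Spec (CommRingCat.of k))]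
    (i : X ⟶ CohB1.ProjSpace n k) [IsClosedImmersion i] (hi : i ≫ CohB1.ProjSpace.toSpec n k = X ↘ Spec (CommRingCat.of k))
    [IsIntegral X] (s : ℕ) (hdim : topologicalKrullDim X = (s + 1 : ℕ))
    (L L' : X.Modules) (hL : PicF.IsInvertible L) (hLL' : Nonempty (CohB1.tensorMod L L' ≅ Coh.structureModule X))
    (hdeg : FGA.intNum k X (s + 1)
      (Matrix.vecCons L' (fun _ : Fin s => (Scheme.Modules.pullback i).obj (Twist.twistProjSpace n k (-1))))
      (Coh.structureModule X) ≤ 0)
    (hsec : Nontrivial (Coh.HH X L 0)) :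
    Nonempty (L ≅ Coh.structureModule X) := by
  haveI := isProper i hi
  haveI := Groth.Agent.Pic13Lib.isNoetherian i
  obtain ⟨e⟩ : Nonempty (CohB1.tensorMod (hyp i 1) (hyp i (-1)) ≅ Coh.structureModule X) :=
    cl_eq_iff.1 (by rw [cl_tensor, cl_hyp_add, ← Groth.Agent.H23.PicMul.one_def, show (1 : ℤ) + -1 = 0 by norm_num, cl_hyp_zero])
  obtain ⟨σ, hσ⟩ := CurveRR.exists_hom_ne_zero k (P := L) (fun h0 => by
    haveI := finite_HH i hi (AmpleVan.isCoh_invertible (X := X) hL) 0
    haveI := hsec
    exact (Module.finrank_pos (R := k) (M := Coh.HH X L 0)).ne' h0)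
  haveI := isIso_of_intNum_nonpos k hdim (isAmple_hyp_one i) e hL hLL'.some hdeg σ hσ
  exact ⟨(asIso σ).symm⟩

end Groth.Agent.S5632
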