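import Groth.Statements.S5634
import Groth.Agent.Calg46.RadBound.Main

set_option autoImplicit false
set_option linter.style.haveILetI false
universe u
open CAlg

namespace Groth.Agent.S5634

/-- For every N there is a function R_N such that, for every field k₀, every m and every ideal I of
k₀[T_1, …, T_N] generated by polynomials of total degree ≤ m, the radical of I is generated by
polynomials of total degree ≤ R_N(m). (The published statement gives R_N as a polynomial in m; this
row asserts only a bound depending on N and m, uniform in the field and the ideal.) -/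
theorem result (N : ℕ) :
    ∃ R : ℕ → ℕ, ∀ (k₀ : Type u) [Field k₀] (m : ℕ) (S : Set (MvPolynomial (Fin N) k₀)),
      (∀ p ∈ S, p.totalDegree ≤ m) →
        ∃ S' : Set (MvPolynomial (Fin N) k₀), (∀ q ∈ S', q.totalDegree ≤ R m) ∧ Ideal.span S' = (Ideal.span S).radical := by
  classical
  suffices H : ∀ m : ℕ, ∃ D, ∀ (k₀ : Type u) [Field k₀] (S : Set (MvPolynomial (Fin N) k₀)),
      (∀ p ∈ S, p.totalDegree ≤ m) → Calg46.RadBound.Bounded D (Ideal.span S).radical by
    choose R hR using H
    exact ⟨R, fun k₀ _ m S hS => hR m k₀ S hS⟩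
  intro m
  let E := Fin N → Fin (m + 1)
  let expo : E → (Fin N →₀ ℕ) := fun e => Finsupp.equivFunOnFinite.symm fun i => (e i : ℕ)
  have hexpo : Function.Injective expo := fun e e' h => funext fun i => Fin.ext (by
    simpa [expo] using DFunLike.congr_fun h i)
  let M := Fintype.card E
  let Λ := Fin M × E
  let A := MvPolynomial Λ (ULift.{u} ℤ)
  let f : Fin M → MvPolynomial (Fin N) A := fun j => ∑ e, MvPolynomial.monomial (expo e) (MvPolynomial.X (j, e))
  haveI : IsNoetherianRing (ULift.{u} ℤ) := isNoetherianRing_of_ringEquiv ℤ ULift.ringEquiv.symm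
  obtain ⟨D, hD⟩ := Calg46.RadBound.exists_radical_bound f
  refine ⟨D, fun k₀ _ S hS => ?_⟩
  -- the space of polynomials with these exponents
  let W : Submodule k₀ (MvPolynomial (Fin N) k₀) :=
    Submodule.span k₀ (Set.range fun e => MvPolynomial.monomial (expo e) (1 : k₀))
  have hSW : ∀ p ∈ S, p ∈ W := by
    intro p hp
    rw [p.as_sum]
    refine Submodule.sum_mem _ fun d hd => ?_
    have hdm : ∀ i, d i ≤ m := fun i => le_trans (by
      by_cases hi : i ∈ d.support
      · exact Finset.single_le_sum (fun _ _ => Nat.zero_le _) hi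
      · rw [Finsupp.notMem_support_iff.1 hi]; exact Nat.zero_le _)
      ((MvPolynomial.le_totalDegree hd).trans (hS p hp))
    have he : expo (fun i => ⟨d i, Nat.lt_succ_of_le (hdm i)⟩) = d := Finsupp.ext fun i => by simp [expo]
    have hmem : MvPolynomial.monomial d (1 : k₀) ∈ W := Submodule.subset_span ⟨_, congrArg (fun x => MvPolynomial.monomial x (1 : k₀)) he⟩
    have := W.smul_mem (p.coeff d) hmem
    rwa [MvPolynomial.smul_monomial, smul_eq_mul, mul_one] at this
  haveI : FiniteDimensional k₀ W := Module.Finite.span_of_finite k₀ (Set.finite_range _)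
  let S' : Submodule k₀ (MvPolynomial (Fin N) k₀) := Submodule.span k₀ S
  have hS'W : S' ≤ W := Submodule.span_le.2 hSW
  haveI : FiniteDimensional k₀ S' := Submodule.finiteDimensional_of_le hS'W
  let b := Module.finBasis k₀ S'
  have hle : Module.finrank k₀ S' ≤ M := (Submodule.finrank_mono hS'W).trans (finrank_range_le_card _)
  let g : Fin M → MvPolynomial (Fin N) k₀ := fun j =>
    if h : (j : ℕ) < Module.finrank k₀ S' then (b ⟨j, h⟩ : MvPolynomial (Fin N) k₀) else 0
  have hgW : ∀ j, g j ∈ W := fun j => by
    simp only [g]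
    split_ifs with h
    · exact hS'W (b ⟨j, h⟩).2
    · exact zero_mem _
  have hspan : Ideal.span (Set.range g) = Ideal.span S := by
    refine le_antisymm (Ideal.span_le.2 ?_) (Ideal.span_le.2 fun p hp => ?_)
    · rintro _ ⟨j, rfl⟩
      simp only [g]
      split_ifs with h
      · exact (Submodule.span_le_restrictScalars k₀ (MvPolynomial (Fin N) k₀) S) (b ⟨j, h⟩).2
      · exact zero_mem _
    · have hb : (⟨p, Submodule.subset_span hp⟩ : S') ∈ Submodule.span k₀ (Set.range b) := by rw [b.span_eq]; trivial
      obtain ⟨c, hc⟩ := (Submodule.mem_span_range_iff_exists_fun k₀).1 hb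
      have hc' := congrArg Subtype.val hc
      simp only [Submodule.coe_sum, Submodule.coe_smul] at hc'
      rw [SetLike.mem_coe, ← hc']
      refine Submodule.sum_mem _ fun i _ => Submodule.smul_of_tower_mem _ _ (Ideal.subset_span ⟨Fin.castLE hle i, ?_⟩)
      simp [g, Fin.castLE, i.2]
  choose c hc using fun j => (Submodule.mem_span_range_iff_exists_fun k₀).1 (hgW j)
  letI : Algebra A k₀ := (MvPolynomial.eval₂Hom ((Int.castRingHom k₀).comp ULift.ringEquiv.toRingHom)
    fun x : Λ => c x.1 x.2).toAlgebra
  have hf : ∀ j, MvPolynomial.map (algebraMap A k₀) (f j) = g j := fun j => by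
    rw [← hc j, map_sum]
    refine Finset.sum_congr rfl fun e _ => ?_
    rw [MvPolynomial.map_monomial, MvPolynomial.smul_monomial, smul_eq_mul, mul_one]
    exact congrArg _ (MvPolynomial.eval₂Hom_X' _ _ _)
  have h := hD k₀
  rw [Calg46.RadBound.spanImg_eq] at h
  simp only [hf, hspan] at h
  exact h

end Groth.Agent.S5634
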