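import Groth.Statements.S5639
import Groth.Agent.Pic13Lib.PnAvoid
-- import your own Groth.Agent.* helpers here

set_option autoImplicit false
set_option linter.style.haveILetI false
set_option backward.isDefEq.respectTransparency false
set_option backward.isDefEq.respectTransparency.types false
universe u
open CategoryTheory CategoryTheory.Limits AlgebraicGeometry
open Pic13

namespace Groth.Agent.S5639

/-- Let k be an algebraically closed field, P = P^N_k and F a coherent O_P-module none of whose
associated points is a closed point of P. Then H^0(P, F(-n)) = 0 for every integer n ≥ h^0(F), where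
F(d) = F ⊗ O(d) and h^0(F) is the dimension of H^0(P, F) over k. -/
theorem result (k : Type u) [Field k] [IsAlgClosed k] (N : ℕ) (F : (CohB1.ProjSpace N k).Modules) (hF : Coh.IsCoh F)
    (hass : ∀ x : ↥(CohB1.ProjSpace N k), Curv2.IsAssPoint F x → ¬ IsClosed ({x} : Set ↥(CohB1.ProjSpace N k)))
    (n : ℕ) (hn : Module.finrank k (Coh.HH (CohB1.ProjSpace N k) F 0) ≤ n) :
    Subsingleton (Coh.HH (CohB1.ProjSpace N k) (CohB1.tensorMod F (Twist.twistProjSpace N k (-(n : ℤ)))) 0) := by
  haveI : IsProper (CohB1.ProjSpace N k ↘ Spec (CommRingCat.of k)) := PnCoh.Chow.isProper_toSpec N k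
  haveI := CurveCohLib.isNoetherian_of_proper (k := k) (X := CohB1.ProjSpace N k)
  have hinv : ∀ e : ℤ, PicF.IsInvertible (Twist.twistProjSpace N k e) := fun e =>
    PnCoh.Finite.isInvertible_twist (ProjRegular.coords k N) ProjRegular.coords_mem ProjRegular.coords_cover e
  let h : ℕ → ℕ := fun i => Module.finrank k
    (Coh.HH (CohB1.ProjSpace N k) (CohB1.tensorMod F (Twist.twistProjSpace N k (-(i : ℤ)))) 0)
  have h0 : h 0 = Module.finrank k (Coh.HH (CohB1.ProjSpace N k) F 0) := by
    simp only [h, Nat.cast_zero, neg_zero]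
    exact Pic13Lib.finrank_twist_zero F
  have hstep : ∀ i, h (i + 1) ≠ 0 → h (i + 1) + 1 ≤ h i := fun i hi => by
    by_cases h1 : 1 ≤ h i
    · have := Pic13Lib.finrank_twist_add_one_le hF hass (-(i : ℤ)) h1
      rwa [show -(i : ℤ) - 1 = -((i + 1 : ℕ) : ℤ) by push_cast; ring] at this
    · exact absurd (Pic13Lib.finrank_twist_le hF hass (-(i : ℤ))) (by
        rw [show -(i : ℤ) - 1 = -((i + 1 : ℕ) : ℤ) by push_cast; ring]
        simp only [h] at hi h1 ⊢
        omega)
  have key : ∀ i, h i = 0 ∨ h i + i ≤ h 0 := fun i => by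
    induction i with
    | zero => exact Or.inr le_rfl
    | succ i ih =>
      by_cases hi : h (i + 1) = 0
      · exact Or.inl hi
      · have := hstep i hi
        rcases ih with h1 | h1
        · omega
        · exact Or.inr (by omega)
  have hz : h n = 0 := by
    rcases key n with h1 | h1
    · exact h1
    · rw [h0] at h1; omega
  haveI : Module.Finite k (Coh.HH (CohB1.ProjSpace N k) (CohB1.tensorMod F (Twist.twistProjSpace N k (-(n : ℤ)))) 0) :=
    S0002.result k _ _ (AmpleVan.isCoh_tensor hF (AmpleVan.isCoh_invertible (hinv _))) 0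
  exact Module.finrank_zero_iff.1 hz

end Groth.Agent.S5639
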