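import Groth.Statements.S5644
import Groth.Agent.Pic13Lib.HilbDeg

set_option autoImplicit false
set_option linter.style.haveILetI false
set_option backward.isDefEq.respectTransparency false
set_option backward.isDefEq.respectTransparency.types false
universe u
open CategoryTheory CategoryTheory.Limits AlgebraicGeometry
open Pic13 Groth.Agent.H23.PicMul

namespace Groth.Agent.S5644

open Groth.Agent.Pic13Lib

attribute [local instance] HasDerivedCategory.standard
attribute [local irreducible] FGA.intNum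
set_option maxHeartbeats 400000

/-- Let k be an algebraically closed field, X ⊆ P^n_k an integral closed subscheme of dimension r = s +
1, O_X(1) and O_X(-1) the restrictions of O(1) and O(-1), and L an invertible O_X-module with
inverse L'. Write the Hilbert polynomials in the binomial basis, χ(L(m)) = Σ_{j ≤ r} a_j C(m+j, j)
and χ(O_X(m)) = Σ_{j ≤ r} e_j C(m+j, j) for m ≥ 0 (Euler characteristics in degrees ≤ r). Then (i)
a_r = e_r = (c₁(O_X(1))^r), the degree of X, and (ii) a_{r-1} - e_{r-1} = (c₁(L)·c₁(O_X(1))^{r-1}),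
the degree of L. Intersection numbers are those of FGA.intNum, which takes the inverse modules L',
O_X(-1) as arguments. -/
theorem result (k : Type u) [Field k] [IsAlgClosed k] (n : ℕ) (X : Scheme.{u}) [X.Over (Spec (CommRingCat.of k))]
    (i : X ⟶ CohB1.ProjSpace n k) [IsClosedImmersion i] (hi : i ≫ CohB1.ProjSpace.toSpec n k = X ↘ Spec (CommRingCat.of k))
    [IsIntegral X] (s : ℕ) (hdim : topologicalKrullDim X = (s + 1 : ℕ))
    (L L' : X.Modules) (hL : PicF.IsInvertible L) (hLL' : Nonempty (CohB1.tensorMod L L' ≅ Coh.structureModule X))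
    (a e : Fin (s + 2) → ℤ)
    (ha : ∀ m : ℕ, FGA.eulerCharLE k X (Pic13.twistOn k i L m) (s + 1) = ∑ j : Fin (s + 2), a j * ((m + j).choose j : ℤ))
    (he : ∀ m : ℕ, FGA.eulerCharLE k X (Pic13.twistOn k i (Coh.structureModule X) m) (s + 1) =
      ∑ j : Fin (s + 2), e j * ((m + j).choose j : ℤ)) :
    a (Fin.last (s + 1)) = e (Fin.last (s + 1)) ∧
      a (Fin.last (s + 1)) = FGA.intNum k X (s + 1)
        (fun _ : Fin (s + 1) => (Scheme.Modules.pullback i).obj (Twist.twistProjSpace n k (-1))) (Coh.structureModule X) ∧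
      a (Fin.castSucc (Fin.last s)) - e (Fin.castSucc (Fin.last s)) = FGA.intNum k X (s + 1)
        (Matrix.vecCons L' (fun _ : Fin s => (Scheme.Modules.pullback i).obj (Twist.twistProjSpace n k (-1))))
        (Coh.structureModule X) := by
  haveI := isProper i hi
  haveI := isNoetherian i
  have hd := hdim.le
  have hLc := AmpleVan.isCoh_invertible hL
  have hO : Coh.IsCoh (Coh.structureModule X) := QCoh.isCoh_structureModule'
  have hH : PicF.IsInvertible (hyp i (-1)) := isInvertible_hyp i (-1)
  have hL' := IntNum47.isInvertible_of_inverse hL hLL'.some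
  obtain ⟨a1, a2⟩ := coeff_eq i hi hd hLc a ha
  obtain ⟨e1, e2⟩ := coeff_eq i hi hd hO e he
  have hdimlt : ∀ (F : X.Modules), HilbPoly.DimLT F (s + 2) := fun F =>
    HilbPoly.dimLT_of_subset (Set.Subset.refl _)
      (lt_of_le_of_lt ((topologicalKrullDim_subspace_le _ _).trans hd) (by exact_mod_cast Nat.lt_succ_self (s + 1)))
  obtain ⟨eL⟩ : Nonempty ((AmpleVan.tw L).obj (Coh.structureModule X) ≅ L) := cl_eq_iff.1 (by
    show PicF.cl (CohB1.tensorMod _ L) = _
    rw [cl_tensor, ← one_def, one_mul])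
  have hLO : (AmpleVan.tw L).obj (Coh.structureModule X) = CohB1.tensorMod (Coh.structureModule X) L := rfl
  let Mh : Fin (s + 1) → X.Modules := fun _ => hyp i (-1)
  have hMh : ∀ j, PicF.IsInvertible (Mh j) := fun _ => hH
  have t1 := IntNum47.intNum_twist k hd (r := s + 1) (M := Mh) hMh hL hO (hdimlt _)
  have t2 := IntNum47.intNum_congr_iso k hd (r := s + 1) (M := Mh) hMh
    (F := (AmpleVan.tw L).obj (Coh.structureModule X)) (G := L) (AmpleVan.isCoh_tensor hO hLc) hLc eL
  have htop : FGA.intNum k X (s + 1) (fun _ : Fin (s + 1) => hyp i (-1)) L =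
      FGA.intNum k X (s + 1) (fun _ : Fin (s + 1) => hyp i (-1)) (Coh.structureModule X) := t2.symm.trans t1
  refine ⟨by rw [a1, e1, htop], by rw [a1, htop], ?_⟩
  obtain ⟨eO⟩ : Nonempty ((AmpleVan.tw L').obj L ≅ Coh.structureModule X) := hLL'
  have h := IntNum47.intNum_cons k hd hL' (M := fun _ : Fin s => hyp i (-1)) (fun _ => hH) hLc
  rw [show FGA.intNum k X (s + 1) (fun _ : Fin s => hyp i (-1)) ((AmpleVan.tw L').obj L) =
      FGA.intNum k X (s + 1) (fun _ : Fin s => hyp i (-1)) (Coh.structureModule X) from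
    IntNum47.intNum_congr_iso k hd (fun _ => hH) (AmpleVan.isCoh_tensor hLc (AmpleVan.isCoh_invertible hL'))
      hO eO] at h
  let Mc : Fin (s + 1) → X.Modules := Fin.cons L' fun _ : Fin s => hyp i (-1)
  have hMc : ∀ j, PicF.IsInvertible (Mc j) := Fin.forall_fin_succ.2 ⟨hL', fun _ => hH⟩
  have t3 := IntNum47.intNum_congr_iso k hd (r := s + 1) (M := Mc) hMc
    (F := (AmpleVan.tw L).obj (Coh.structureModule X)) (G := L) (AmpleVan.isCoh_tensor hO hLc) hLc eL
  have t4 := IntNum47.intNum_twist k hd (r := s + 1) (M := Mc) hMc hL hO (hdimlt _)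
  have h2 : FGA.intNum k X (s + 1) Mc L = FGA.intNum k X (s + 1) Mc (Coh.structureModule X) := t3.symm.trans t4
  rw [a2, e2, htop]
  show _ = FGA.intNum k X (s + 1) (Fin.cons L' fun _ : Fin s => hyp i (-1)) (Coh.structureModule X)
  rw [← h2, h]
  ring

end Groth.Agent.S5644
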