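import Groth.Statements.S5665
import Groth.Agent.LC.DepthExt

set_option autoImplicit false
universe u
open CategoryTheory
open Dual

namespace Groth.Agent.S5665

open RingTheory.Sequence

variable {A : Type u} [CommRing A]

/-- The cokernel form of `Ext` out of a quotient by a weakly regular sequence, with vanishing above. -/
theorem main : ∀ (xs : List A), IsWeaklyRegular A xs → ∀ (M : Type u) [AddCommGroup M] [Module A M],
    (∀ i, xs.length < i → Subsingleton (Abelian.Ext (ModuleCat.of A (A ⧸ Ideal.ofList xs)) (ModuleCat.of A M) i)) ∧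
    Nonempty (Abelian.Ext (ModuleCat.of A (A ⧸ Ideal.ofList xs)) (ModuleCat.of A M) xs.length ≃ₗ[A]
      (M ⧸ (Ideal.ofList xs • (⊤ : Submodule A M)))) := by
  intro xs
  induction xs using List.reverseRecOn with
  | nil =>
    intro _ M _ _
    let e : (A ⧸ Ideal.ofList ([] : List A)) ≃ₗ[A] A :=
      Submodule.quotEquivOfEqBot _ Ideal.ofList_nil
    haveI : Module.Projective A (A ⧸ Ideal.ofList ([] : List A)) := Module.Projective.of_equiv e.symm
    haveI : Projective (ModuleCat.of A (A ⧸ Ideal.ofList ([] : List A))) :=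
      (IsProjective.iff_projective _).1 inferInstance
    refine ⟨fun i hi => subsingleton_of_forall_eq 0 fun z => ?_, ⟨?_⟩⟩
    · obtain ⟨j, rfl⟩ : ∃ j, i = j + 1 := ⟨i - 1, by simp at hi; omega⟩
      exact z.eq_zero_of_projective
    · exact (Abelian.Ext.linearEquiv₀ (R := A)).trans (ModuleCat.homLinearEquiv.trans
        ((LinearEquiv.congrLeft M A e).trans ((LinearMap.ringLmapEquivSelf A A M).trans
          (Submodule.quotEquivOfEqBot _ (by simp)).symm)))
  | append_singleton ys x ih =>
    intro hreg M _ _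
    obtain ⟨hys, hx⟩ := (Groth.Agent.LC.isWeaklyRegular_concat_iff ys x).1 hreg
    obtain ⟨hvan, ⟨e⟩⟩ := ih hys M
    set J := Ideal.ofList ys with hJ
    set K := Ideal.ofList (ys ++ [x]) with hK
    have hKJ : K = J ⊔ Ideal.span {x} := by rw [hK, hJ, Ideal.ofList_append, Ideal.ofList_singleton]
    have hJK : J ≤ K := hKJ ▸ le_sup_left
    let f : (A ⧸ J) →ₗ[A] (A ⧸ J) := x • LinearMap.id
    let g : (A ⧸ J) →ₗ[A] (A ⧸ K) := Submodule.mapQ J K LinearMap.id hJK
    have hf : Function.Injective f := by
      intro a b hab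
      have e' : (A ⧸ J) ≃ₗ[A] (A ⧸ (J • (⊤ : Submodule A A))) :=
        Submodule.quotEquivOfEq _ _ (by rw [smul_eq_mul, Ideal.mul_top])
      exact e'.injective (hx (by simpa [f] using congrArg e' hab))
    have hg : Function.Surjective g := fun z => by
      obtain ⟨z, rfl⟩ := Submodule.Quotient.mk_surjective _ z
      exact ⟨Submodule.Quotient.mk z, rfl⟩
    have hfg : Function.Exact f g := fun z => by
      obtain ⟨z, rfl⟩ := Submodule.Quotient.mk_surjective _ z
      constructor
      · intro hz
        have hz' : z ∈ J ⊔ Ideal.span {x} := hKJ ▸ (Submodule.Quotient.mk_eq_zero _).1 hz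
        obtain ⟨j, hj, s, hs, rfl⟩ := Submodule.mem_sup.1 hz'
        obtain ⟨c, rfl⟩ := Ideal.mem_span_singleton'.1 hs
        exact ⟨Submodule.Quotient.mk c, (Submodule.Quotient.eq J).2 (by
          simp only [LinearMap.id_coe, id_eq, smul_eq_mul]
          rw [show x * c - (j + c * x) = -j by ring]
          exact J.neg_mem hj)⟩
      · rintro ⟨w, hw⟩
        obtain ⟨w, rfl⟩ := Submodule.Quotient.mk_surjective _ w
        rw [← hw]
        refine (Submodule.Quotient.mk_eq_zero _).2 ?_
        show x • w ∈ K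
        rw [hKJ, smul_eq_mul]
        exact Submodule.mem_sup_right (Ideal.mem_span_singleton'.2 ⟨w, mul_comm w x⟩)
    let S : ShortComplex (ModuleCat.{u} A) := ShortComplex.mk (ModuleCat.ofHom f) (ModuleCat.ofHom g)
      (ModuleCat.hom_ext (LinearMap.ext fun z => hfg.apply_apply_eq_zero z))
    have hS : S.ShortExact :=
      { exact := (ShortComplex.ShortExact.moduleCat_exact_iff_function_exact S).2 hfg
        mono_f := (ModuleCat.mono_iff_injective _).2 hf
        epi_g := (ModuleCat.epi_iff_surjective _).2 hg }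
    have hkill : ∀ (i : ℕ) (z : Abelian.Ext (ModuleCat.of A (A ⧸ K)) (ModuleCat.of A M) i), x • z = 0 := by
      intro i z
      have h0 : x • 𝟙 (ModuleCat.of A (A ⧸ K)) = 0 := by
        refine ModuleCat.hom_ext (LinearMap.ext fun q => ?_)
        obtain ⟨q, rfl⟩ := Submodule.Quotient.mk_surjective _ q
        exact (Submodule.Quotient.mk_eq_zero _).2
          (show x • q ∈ K from hKJ ▸ Submodule.mem_sup_right (Ideal.mem_span_singleton'.2 ⟨q, mul_comm q x⟩))
      rw [show x • z = (Abelian.Ext.mk₀ (x • 𝟙 (ModuleCat.of A (A ⧸ K)))).comp z (zero_add i) by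
        rw [Abelian.Ext.mk₀_smul, Abelian.Ext.smul_comp, Abelian.Ext.mk₀_id_comp],
        h0, Abelian.Ext.mk₀_zero, Abelian.Ext.zero_comp]
    have hfsmul : ∀ (i : ℕ) (z : Abelian.Ext (ModuleCat.of A (A ⧸ J)) (ModuleCat.of A M) i),
        (Abelian.Ext.mk₀ S.f).comp z (zero_add i) = x • z := fun i z => by
      rw [show S.f = x • 𝟙 (ModuleCat.of A (A ⧸ J)) from rfl, Abelian.Ext.mk₀_smul, Abelian.Ext.smul_comp]
      exact congrArg (x • ·) (Abelian.Ext.mk₀_id_comp z)
    rw [show (ys ++ [x]).length = ys.length + 1 from List.length_append]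
    refine ⟨fun i hi => subsingleton_of_forall_eq 0 fun z => ?_, ⟨?_⟩⟩
    · haveI := hvan i (by omega)
      obtain ⟨w, rfl⟩ := Abelian.Ext.contravariant_sequence_exact₃ hS (ModuleCat.of A M) z
        (Subsingleton.elim _ _) (n₀ := i - 1) (by omega)
      haveI := hvan (i - 1) (by omega)
      rw [Subsingleton.elim w 0, Abelian.Ext.comp_zero]
    · let n := ys.length
      let δ : Abelian.Ext (ModuleCat.of A (A ⧸ J)) (ModuleCat.of A M) n →ₗ[A]
          Abelian.Ext (ModuleCat.of A (A ⧸ K)) (ModuleCat.of A M) (n + 1) :=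
        { toFun := fun z => hS.extClass.comp z (Nat.add_comm 1 n)
          map_add' := fun a b => Abelian.Ext.comp_add _ _ _ _
          map_smul' := fun r a => Abelian.Ext.comp_smul _ _ _ _ }
      have hsurj : Function.Surjective δ := fun z => by
        haveI := hvan (n + 1) (by omega)
        obtain ⟨w, hw⟩ := Abelian.Ext.contravariant_sequence_exact₃ hS (ModuleCat.of A M) z
          (Subsingleton.elim _ _) (n₀ := n) (Nat.add_comm 1 n)
        exact ⟨w, hw⟩
      have hker : LinearMap.ker δ = LinearMap.range (LinearMap.lsmul A _ x) := by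
        ext z
        constructor
        · intro hz
          obtain ⟨w, rfl⟩ := Abelian.Ext.contravariant_sequence_exact₁ hS (ModuleCat.of A M) z
            (n₁ := n + 1) (Nat.add_comm 1 n) hz
          exact ⟨w, (hfsmul _ w).symm⟩
        · rintro ⟨w, rfl⟩
          show δ (x • w) = 0
          rw [map_smul]
          exact hkill _ _
      refine (δ.quotKerEquivOfSurjective hsurj).symm.trans
        ((Submodule.Quotient.equiv _ (Submodule.map (J • (⊤ : Submodule A M)).mkQ (K • (⊤ : Submodule A M))) e
          ?_).trans (Submodule.quotientQuotientEquivQuotient _ _ (Submodule.smul_mono_left hJK)))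
      rw [hker, hKJ, Submodule.sup_smul, Submodule.map_sup, Submodule.mkQ_map_self, bot_sup_eq,
        Submodule.ideal_span_singleton_smul]
      ext q
      constructor
      · rintro ⟨_, ⟨w, rfl⟩, rfl⟩
        obtain ⟨m, hm⟩ := Submodule.Quotient.mk_surjective _ (e w)
        exact ⟨x • m, Submodule.smul_mem_pointwise_smul m x ⊤ trivial, by
          simp [Submodule.mkQ_apply, hm]⟩
      · rintro ⟨_, hm, rfl⟩
        obtain ⟨m, -, rfl⟩ := (Submodule.mem_smul_pointwise_iff_exists _ x ⊤).1 hm
        exact ⟨x • e.symm (Submodule.Quotient.mk m), ⟨_, rfl⟩, by simp⟩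

/-- Let `A` be a commutative ring, `xs = (x_1, …, x_p)` a sequence in `A` such that each `x_i` is a
non-zero-divisor on `A/(x_1, …, x_{i-1})`, `J` the ideal generated by the `x_i` and `M` any
`A`-module. Then `Ext^p_A(A/J, M)` is isomorphic, as an `A`-module, to `M/JM`. (Existence of an
`A`-linear isomorphism only; the published isomorphism is the one induced by the Koszul complex of
`xs`.) -/
theorem result (A : Type u) [CommRing A] (xs : List A) (hreg : RingTheory.Sequence.IsWeaklyRegular A xs) (M : Type u) [AddCommGroup M] [Module A M] : Nonempty (Abelian.Ext (ModuleCat.of A (A ⧸ Ideal.ofList xs)) (ModuleCat.of A M) xs.length ≃ₗ[A] (M ⧸ (Ideal.ofList xs • (⊤ : Submodule A M)))) := by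
  exact (main xs hreg M).2

end Groth.Agent.S5665
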