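import Groth.Statements.S5666
import Groth.Agent.LC.DepthExt

set_option autoImplicit false
universe u
open CategoryTheory
open Dual

namespace Groth.Agent.S5666

open Abelian

section

variable {A : Type u} [CommRing A]

/-- `A/K → M`, `1 ↦ m`, linearly in `m`. -/
noncomputable def phi (K : Ideal A) (M : Type u) [AddCommGroup M] [Module A M]
    (hM : ∀ a ∈ K, ∀ m : M, a • m = 0) : M →ₗ[A] ((A ⧸ K) →ₗ[A] M) where
  toFun m := Submodule.liftQ K (LinearMap.toSpanSingleton A M m) (fun a ha => hM a ha m)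
  map_add' m n := Submodule.linearMap_qext _ (LinearMap.ext fun a => smul_add a m n)
  map_smul' r m := Submodule.linearMap_qext _ (LinearMap.ext fun a => smul_comm a r m)

variable (K : Ideal A) (M : Type u) [AddCommGroup M] [Module A M] (hM : ∀ a ∈ K, ∀ m : M, a • m = 0)
  {X : ModuleCat.{u} A} {n : ℕ}

noncomputable def linOne (e : Ext X (ModuleCat.of A (A ⧸ K)) n) : M →ₗ[A] Ext X (ModuleCat.of A M) n where
  toFun m := e.comp (Ext.mk₀ (ModuleCat.ofHom (phi K M hM m))) (add_zero n)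
  map_add' a b := by
    rw [map_add, ModuleCat.ofHom_add, Ext.mk₀_add, Ext.comp_add]
  map_smul' r a := by
    rw [map_smul, RingHom.id_apply, ← Ext.comp_smul, ← Ext.mk₀_smul]
    rfl

noncomputable def Φ {ι : Type} [Fintype ι] (ε : ι → Ext X (ModuleCat.of A (A ⧸ K)) n) :
    (ι → M) →ₗ[A] Ext X (ModuleCat.of A M) n :=
  ∑ k, linOne K M hM (ε k) ∘ₗ LinearMap.proj k

theorem Φ_apply {ι : Type} [Fintype ι] (ε : ι → Ext X (ModuleCat.of A (A ⧸ K)) n) (m : ι → M) :
    Φ K M hM ε m = ∑ k, linOne K M hM (ε k) (m k) := by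
  simp [Φ]

theorem comp_Φ {ι : Type} [Fintype ι] {W : ModuleCat.{u} A} {a b : ℕ} (β : Ext W X a)
    (h : a + n = b) (ε : ι → Ext X (ModuleCat.of A (A ⧸ K)) n) (m : ι → M) :
    β.comp (Φ K M hM ε m) h = Φ K M hM (fun k => β.comp (ε k) h) m := by
  rw [Φ_apply, Φ_apply, Ext.comp_sum]
  exact Finset.sum_congr rfl fun k _ => (Ext.comp_assoc _ _ _ h (add_zero n) (by omega)).symm

theorem Φ_elim {ι₁ ι₂ : Type} [Fintype ι₁] [Fintype ι₂] (ε₁ : ι₁ → Ext X (ModuleCat.of A (A ⧸ K)) n)
    (ε₂ : ι₂ → Ext X (ModuleCat.of A (A ⧸ K)) n) (m : ι₁ ⊕ ι₂ → M) :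
    Φ K M hM (Sum.elim ε₁ ε₂) m = Φ K M hM ε₁ (m ∘ Sum.inl) + Φ K M hM ε₂ (m ∘ Sum.inr) := by
  rw [Φ_apply, Φ_apply, Φ_apply, Fintype.sum_sum_type]
  rfl

end

theorem main {A : Type u} [CommRing A] (xs : List A) (hreg : RingTheory.Sequence.IsWeaklyRegular A xs)
    (K : Ideal A) (hK : Ideal.ofList xs ≤ K) (i : ℕ) :
    ∃ (ι : Type) (_ : Fintype ι), Fintype.card ι = xs.length.choose i ∧
      ∃ ε : ι → Ext (ModuleCat.of A (A ⧸ Ideal.ofList xs)) (ModuleCat.of A (A ⧸ K)) i,
        ∀ (M : Type u) [AddCommGroup M] [Module A M] (hM : ∀ a ∈ K, ∀ m : M, a • m = 0),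
          Function.Bijective (Φ K M hM ε) := by
  induction xs using List.reverseRecOn generalizing i with
  | nil =>
    let e : (A ⧸ Ideal.ofList ([] : List A)) ≃ₗ[A] A := Submodule.quotEquivOfEqBot _ Ideal.ofList_nil
    haveI : Module.Projective A (A ⧸ Ideal.ofList ([] : List A)) := Module.Projective.of_equiv e.symm
    haveI : Projective (ModuleCat.of A (A ⧸ Ideal.ofList ([] : List A))) :=
      (IsProjective.iff_projective _).1 inferInstance
    rcases i with _ | j
    · let π : (A ⧸ Ideal.ofList ([] : List A)) →ₗ[A] A ⧸ K := Submodule.mapQ _ _ LinearMap.id hK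
      refine ⟨PUnit, inferInstance, by simp, fun _ => Ext.mk₀ (ModuleCat.ofHom π), fun M _ _ hM => ?_⟩
      have hval : ∀ m, Φ K M hM (fun _ : PUnit => Ext.mk₀ (ModuleCat.ofHom π)) m =
          Ext.mk₀ (ModuleCat.ofHom (phi K M hM (m PUnit.unit) ∘ₗ π)) := fun m => by
        rw [Φ_apply, Fintype.sum_unique]
        exact Ext.mk₀_comp_mk₀ _ _
      constructor
      · intro a b hab
        rw [hval, hval] at hab
        have h := LinearMap.congr_fun
          (congrArg ModuleCat.Hom.hom ((Ext.mk₀_bijective _ _).1 hab))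
          (Submodule.Quotient.mk 1)
        refine funext fun _ => ?_
        exact ((one_smul A _).symm.trans h).trans (one_smul A _)
      · intro z
        obtain ⟨f, rfl⟩ := (Ext.mk₀_bijective _ _).2 z
        refine ⟨fun _ => f.hom (Submodule.Quotient.mk 1), ?_⟩
        rw [hval]
        refine congrArg Ext.mk₀ (ModuleCat.hom_ext (Submodule.linearMap_qext _ (LinearMap.ext fun a => ?_)))
        show a • f.hom (Submodule.Quotient.mk 1) = f.hom (Submodule.Quotient.mk a)
        rw [← map_smul, ← Submodule.Quotient.mk_smul, smul_eq_mul, mul_one]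
    · refine ⟨Empty, inferInstance, by simp, Empty.elim, fun M _ _ hM => ?_⟩
      exact ⟨fun a b _ => Subsingleton.elim a b, fun z => ⟨0, by rw [map_zero]; exact z.eq_zero_of_projective.symm⟩⟩
  | append_singleton ys x ih =>
    obtain ⟨hys, hx⟩ := (Groth.Agent.LC.isWeaklyRegular_concat_iff ys x).1 hreg
    set J := Ideal.ofList ys with hJ
    set L := Ideal.ofList (ys ++ [x]) with hL
    have hLJ : L = J ⊔ Ideal.span {x} := by rw [hL, hJ, Ideal.ofList_append, Ideal.ofList_singleton]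
    have hJL : J ≤ L := hLJ ▸ le_sup_left
    have hxL : x ∈ L := hLJ ▸ Submodule.mem_sup_right (Ideal.mem_span_singleton_self x)
    have ih' := ih hys (hJL.trans hK)
    let f : (A ⧸ J) →ₗ[A] (A ⧸ J) := x • LinearMap.id
    let g : (A ⧸ J) →ₗ[A] (A ⧸ L) := Submodule.mapQ J L LinearMap.id hJL
    have hf : Function.Injective f := by
      intro a b hab
      have e' : (A ⧸ J) ≃ₗ[A] (A ⧸ (J • (⊤ : Submodule A A))) :=
        Submodule.quotEquivOfEq _ _ (by rw [smul_eq_mul, Ideal.mul_top])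
      exact e'.injective (hx (by simpa [f] using congrArg e' hab))
    have hg : Function.Surjective g := fun z => by
      obtain ⟨z, rfl⟩ := Submodule.Quotient.mk_surjective _ z
      exact ⟨Submodule.Quotient.mk z, rfl⟩
    have hfg : Function.Exact f g := fun z => by
      obtain ⟨z, rfl⟩ := Submodule.Quotient.mk_surjective _ z
      constructor
      · intro hz
        have hz' : z ∈ J ⊔ Ideal.span {x} := hLJ ▸ (Submodule.Quotient.mk_eq_zero _).1 hz
        obtain ⟨j, hj, s, hs, rfl⟩ := Submodule.mem_sup.1 hz'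
        obtain ⟨c, rfl⟩ := Ideal.mem_span_singleton'.1 hs
        exact ⟨Submodule.Quotient.mk c, (Submodule.Quotient.eq J).2 (by
          simp only [LinearMap.id_coe, id_eq, smul_eq_mul]
          rw [show x * c - (j + c * x) = -j by ring]
          exact J.neg_mem hj)⟩
      · rintro ⟨w, hw⟩
        obtain ⟨w, rfl⟩ := Submodule.Quotient.mk_surjective _ w
        rw [← hw]
        exact (Submodule.Quotient.mk_eq_zero _).2 (show x • w ∈ L from Ideal.mul_mem_right _ _ hxL)
    let S : ShortComplex (ModuleCat.{u} A) := ShortComplex.mk (ModuleCat.ofHom f) (ModuleCat.ofHom g)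
      (ModuleCat.hom_ext (LinearMap.ext fun z => hfg.apply_apply_eq_zero z))
    have hS : S.ShortExact :=
      { exact := (ShortComplex.ShortExact.moduleCat_exact_iff_function_exact S).2 hfg
        mono_f := (ModuleCat.mono_iff_injective _).2 hf
        epi_g := (ModuleCat.epi_iff_surjective _).2 hg }
    have hzero : ∀ (j : ℕ) (M : Type u) [AddCommGroup M] [Module A M] (hM : ∀ a ∈ K, ∀ m : M, a • m = 0)
        (z : Ext S.X₂ (ModuleCat.of A M) j), (Ext.mk₀ S.f).comp z (zero_add j) = 0 := by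
      intro j M _ _ hM z
      obtain ⟨ι, _, -, ε, hε⟩ := ih' j
      obtain ⟨m, rfl⟩ := (hε M hM).2 z
      rw [show S.f = x • 𝟙 (ModuleCat.of A (A ⧸ J)) from rfl, Ext.mk₀_smul, Ext.smul_comp, Ext.mk₀_id_comp,
        ← map_smul, show x • m = 0 from funext fun k => hM x (hK hxL) _, map_zero]
    have hKself : ∀ a ∈ K, ∀ m : A ⧸ K, a • m = 0 := fun a ha m => by
      obtain ⟨m, rfl⟩ := Submodule.Quotient.mk_surjective _ m
      exact (Submodule.Quotient.mk_eq_zero _).2 (show a • m ∈ K from Ideal.mul_mem_right _ _ ha)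
    rw [show (ys ++ [x]).length = ys.length + 1 from List.length_append]
    obtain ⟨ι₂, _, hc₂, ε₂, hε₂⟩ := ih' i
    choose e he using fun k : ι₂ => Ext.contravariant_sequence_exact₂ hS (ModuleCat.of A (A ⧸ K)) (ε₂ k)
      (hzero i _ hKself _)
    rcases i with _ | j
    · refine ⟨ι₂, inferInstance, by simpa using hc₂, e, fun M _ _ hM => ?_⟩
      have hg2 : ∀ m, (Ext.mk₀ S.g).comp (Φ K M hM e m) (zero_add 0) = Φ K M hM ε₂ m := fun m => by
        rw [comp_Φ]; simp only [he]
      haveI : Epi S.g := hS.epi_g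
      constructor
      · intro a b hab
        exact (hε₂ M hM).1 (by rw [← hg2, ← hg2, hab])
      · intro z
        obtain ⟨m, hm⟩ := (hε₂ M hM).2 ((Ext.mk₀ S.g).comp z (zero_add 0))
        exact ⟨m, Ext.precomp_mk₀_injective_of_epi _ S.g ((hg2 m).trans hm)⟩
    · obtain ⟨ι₁, _, hc₁, ε₁, hε₁⟩ := ih' j
      let d : ι₁ → Ext (ModuleCat.of A (A ⧸ L)) (ModuleCat.of A (A ⧸ K)) (j + 1) :=
        fun k => hS.extClass.comp (ε₁ k) (Nat.add_comm 1 j)
      refine ⟨ι₁ ⊕ ι₂, inferInstance, ?_, Sum.elim d e, fun M _ _ hM => ?_⟩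
      · rw [Fintype.card_sum, hc₁, hc₂, Nat.choose_succ_succ]
      have hd : ∀ m, Φ K M hM d m = hS.extClass.comp (Φ K M hM ε₁ m) (Nat.add_comm 1 j) :=
        fun m => (comp_Φ K M hM hS.extClass _ ε₁ m).symm
      have hg1 : ∀ m, (Ext.mk₀ S.g).comp (Φ K M hM d m) (zero_add (j + 1)) = 0 := fun m =>
        (congrArg (fun t => (Ext.mk₀ S.g).comp t (zero_add (j + 1))) (hd m)).trans
          (hS.comp_extClass_assoc _ _)
      have hg2 : ∀ m, (Ext.mk₀ S.g).comp (Φ K M hM e m) (zero_add (j + 1)) = Φ K M hM ε₂ m := fun m => by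
        rw [comp_Φ]; simp only [he]
      constructor
      · refine (injective_iff_map_eq_zero _).2 fun m hm => ?_
        rw [Φ_elim] at hm
        have h2 : Φ K M hM ε₂ (m ∘ Sum.inr) = 0 := by
          have h := congrArg (fun t : Ext S.X₃ (ModuleCat.of A M) (j + 1) =>
            (Ext.mk₀ S.g).comp t (zero_add (j + 1))) hm
          refine (hg2 _).symm.trans ((zero_add _).symm.trans ?_)
          refine (congrArg (· + _) (hg1 (m ∘ Sum.inl)).symm).trans ?_
          exact ((Ext.comp_add _ _ _ _).symm.trans h).trans (Ext.comp_zero _ _ _ _ _)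
        have hr : m ∘ Sum.inr = 0 := (hε₂ M hM).1 (h2.trans (map_zero _).symm)
        rw [hr, map_zero, add_zero, hd] at hm
        obtain ⟨y, hy⟩ := Ext.contravariant_sequence_exact₁ hS (ModuleCat.of A M) _ (Nat.add_comm 1 j) hm
        rw [hzero j M hM y] at hy
        have hl : m ∘ Sum.inl = 0 := (hε₁ M hM).1 (hy.symm.trans (map_zero _).symm)
        exact funext fun k => Sum.casesOn k (congrFun hl) (congrFun hr)
      · intro z
        obtain ⟨m₂, hm₂⟩ := (hε₂ M hM).2 ((Ext.mk₀ S.g).comp z (zero_add (j + 1)))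
        obtain ⟨w, hw⟩ := Ext.contravariant_sequence_exact₃ hS (ModuleCat.of A M) (z - Φ K M hM e m₂)
          (by rw [sub_eq_add_neg, Ext.comp_add, Ext.comp_neg, hg2, hm₂, add_neg_cancel]) (n₀ := j) (Nat.add_comm 1 j)
        obtain ⟨m₁, rfl⟩ := (hε₁ M hM).2 w
        refine ⟨Sum.elim m₁ m₂, ?_⟩
        rw [Φ_elim, Sum.elim_comp_inl, Sum.elim_comp_inr, hd]
        exact (eq_sub_iff_add_eq.1 hw)

/-- All degrees, for a module killed by `J`: let `A` be a commutative ring, `xs = (x_1, …, x_p)` a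
sequence in `A` such that each `x_i` is a non-zero-divisor on `A/(x_1, …, x_{i-1})`, `J` the ideal
generated by the `x_i`, and `M` an `A`-module with `JM = 0`. Then for every `i`, `Ext^i_A(A/J, M)`
is isomorphic as an `A`-module to `M^(p choose i)` (so it vanishes for `i > p`). (Existence of an
`A`-linear isomorphism only; the published one is `Ext^i_A(A/J, M) ≅ Hom_A(Λ^i(J/J^2), M)` with
`J/J^2` free of rank `p` over `A/J`.) -/
theorem result (A : Type u) [CommRing A] (xs : List A) (hreg : RingTheory.Sequence.IsWeaklyRegular A xs) (M : Type u) [AddCommGroup M] [Module A M] (hJM : Ideal.ofList xs • (⊤ : Submodule A M) = ⊥) (i : ℕ) : Nonempty (Abelian.Ext (ModuleCat.of A (A ⧸ Ideal.ofList xs)) (ModuleCat.of A M) i ≃ₗ[A] (Fin (xs.length.choose i) → M)) := by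
  have hM : ∀ a ∈ Ideal.ofList xs, ∀ m : M, a • m = 0 := fun a ha m =>
    (Submodule.mem_bot A).1 (hJM ▸ Submodule.smul_mem_smul ha Submodule.mem_top)
  obtain ⟨ι, _, hc, ε, hε⟩ := main xs hreg (Ideal.ofList xs) le_rfl i
  exact ⟨(LinearEquiv.ofBijective _ (hε M hM)).symm.trans
    (LinearEquiv.funCongrLeft A M (Fintype.equivFinOfCardEq hc).symm)⟩

end Groth.Agent.S5666
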