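import Groth.Statements.S5667
import Groth.Agent.OmegaTop.Duality
import Groth.Agent.CurveCohLib.SmoothCurve
import Groth.Agent.BunLib68.Free

set_option autoImplicit false
universe u
set_option backward.isDefEq.respectTransparency false
set_option linter.style.haveILetI false
open CategoryTheory CategoryTheory.Limits AlgebraicGeometry
open ProjDual

namespace Groth.Agent.S5667

/-- Let `k` be an algebraically closed field and `X` a connected nonsingular projective variety of
dimension `n` over `k` — here: a connected `k`-scheme, smooth of relative dimension `n` over `k`,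
with a closed immersion into some projective space `P^r_k` over `k` — and let `L` be an `n`-th
exterior power of the sheaf of differentials of `X` over `k` (the sheaf of `n`-forms). Then `H^n(X,
L)` is a `k`-vector space of dimension `1`. (The source says more: the fundamental class of a point
is a basis; only the dimension is stated here.) -/
theorem result (k : Type u) [Field k] [IsAlgClosed k] (n r : ℕ) (X : Scheme.{u}) [X.Over (Spec (CommRingCat.of k))] [SmoothOfRelativeDimension n (X ↘ Spec (CommRingCat.of k))] [ConnectedSpace X] (ι : X ⟶ CohB1.ProjSpace r k) [IsClosedImmersion ι] (hι : ι ≫ CohB1.ProjSpace.toSpec r k = X ↘ Spec (CommRingCat.of k)) (L : X.Modules) (hL : ExtPow.IsExtPow n (Omega.sheaf (X ↘ Spec (CommRingCat.of k))) L) : Module.finrank k (Coh.HH X L n) = 1 := by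
  haveI : Smooth (X ↘ Spec (CommRingCat.of k)) := SmoothOfRelativeDimension.smooth n _
  haveI := Groth.Agent.PnCoh.Chow.isProper_toSpec r k
  haveI : IsProper (X ↘ Spec (CommRingCat.of k)) := hι ▸ inferInstance
  haveI : CompactSpace X := QuasiCompact.compactSpace_of_compactSpace (X ↘ Spec (CommRingCat.of k))
  haveI := Groth.Agent.CurveCohLib.isIntegral_of_smooth_connected (X ↘ Spec (CommRingCat.of k))
  obtain ⟨e⟩ := Groth.Agent.OmegaTop.nonempty_serre_duality n ι hι hL (Groth.Agent.BunLib68.isFinLocFree_one (X := X)) 0 (Nat.zero_le n)
  let u : (Groth.Agent.SheafHomX.hom (Coh.structureModule X)).obj L ≅ L :=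
    ((((Groth.Agent.SheafHomX.adj (Coh.structureModule X)).ofNatIsoLeft
      (Groth.Agent.KFlatLib.tensorStructureIso X)).rightAdjointUniq Adjunction.id)).app L
  have h := (e ≪≫ₗ Groth.Agent.OmegaTop.HHequiv u (n - 0)).finrank_eq
  rw [Subspace.dual_finrank_eq, Groth.Agent.CurveCohLib.finrank_h0_eq_one] at h
  simpa using h.symm

end Groth.Agent.S5667
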