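import Groth.Statements.S5671
import Groth.Agent.S5150
import Groth.Agent.LC.GorRows
import Groth.Agent.LC.GorHull
import Groth.Agent.LC.GorLoc

set_option autoImplicit false
universe u
open CategoryTheory
open Dual

namespace Groth.Agent.S5671

/-- First assertion, in the local-algebra form to which its proof reduces it: let `A` be a regular local
ring of dimension `n`, `p ≥ 0`, and `M` a finite `A`-module whose support has dimension at most `n -
p`. Then `Ext^i_A(M, A) = 0` for every `i < p`. (The geometric statement: on a nonsingular
`n`-dimensional variety the sheaves `Ext^i(F, L)` vanish for `i < p` when `F` is coherent with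
support of dimension `≤ n - p` and `L` is locally free.) -/
theorem result (A : Type u) [CommRing A] [IsRegularLocalRing A] (M : Type u) [AddCommGroup M] [Module A M] [Module.Finite A M] (p : ℕ) (hdim : Module.supportDim A M + p ≤ ringKrullDim A) (i : ℕ) (hi : i < p) : Subsingleton (Abelian.Ext (ModuleCat.of A M) (ModuleCat.of A A) i) := by
  haveI := Groth.Agent.LC.gorenstein_of_isRegularLocalRing (R := A)
  haveI := Groth.Agent.LC.isCohenMacaulayLocalRing_of_gorenstein (R := A)
  rcases subsingleton_or_nontrivial M with hM | hM
  · have : Limits.IsZero (ModuleCat.of A M) := ModuleCat.isZero_of_subsingleton _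
    exact subsingleton_of_forall_eq 0 fun e => by
      rw [← Abelian.Ext.mk₀_id_comp e, this.eq_of_src (𝟙 _) 0, Abelian.Ext.mk₀_zero, Abelian.Ext.zero_comp]
  have hI : Module.annihilator A M ≠ ⊤ := fun h =>
    not_subsingleton M (Module.annihilator_eq_top_iff.1 h)
  have hht : (p : ℕ∞) ≤ (Module.annihilator A M).height := by
    have h := Groth.Agent.LC.height_add_ringKrullDim_quotient (Module.annihilator A M) hI
    rw [← Module.supportDim_eq_ringKrullDim_quotient_annihilator] at h
    rw [← h] at hdim
    obtain ⟨e, he⟩ : ∃ e : ℕ, Module.supportDim A M = e := by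
      have h1 : Module.supportDim A M ≠ ⊥ := Module.supportDim_ne_bot_of_nontrivial A M
      have h2 : Module.supportDim A M ≠ ⊤ := (lt_of_le_of_lt (Module.supportDim_le_ringKrullDim A M)
        (lt_top_iff_ne_top.2 ringKrullDim_ne_top)).ne
      obtain ⟨e, he⟩ := WithBot.ne_bot_iff_exists.1 h1
      have : e ≠ ⊤ := fun ht => h2 (by rw [← he, ht]; rfl)
      obtain ⟨m, rfl⟩ := ENat.ne_top_iff_exists.1 this
      exact ⟨m, he.symm⟩
    rw [he] at hdim
    have h3 : ((e : ℕ∞) + p) ≤ e + (Module.annihilator A M).height := by exact_mod_cast hdim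
    exact (ENat.add_le_add_iff_left (ENat.natCast_ne_top e)).1 h3
  rw [← Groth.Agent.LC.idealDepth_self_eq_height] at hht
  obtain ⟨rs, hreg, hmem, hlen⟩ := Groth.Agent.LC.exists_idealDepth_eq_length (Module.annihilator A M)
    (M := A) (by rwa [smul_eq_mul, Ideal.mul_top])
  rw [hlen] at hht
  have hp : p ≤ rs.length := by exact_mod_cast hht
  exact Groth.Agent.S5150.result A (Module.annihilator A M) A M rs hreg hmem 1
    (by rw [pow_one, eq_bot_iff, Submodule.smul_le]
        intro r hr x _
        exact (Submodule.mem_bot A).2 (Module.mem_annihilator.1 hr x)) i (lt_of_lt_of_le hi hp)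

end Groth.Agent.S5671
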