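import Groth.Statements.S5672
import Groth.Agent.S5671

set_option autoImplicit false
universe u
open CategoryTheory
open Dual

namespace Groth.Agent.S5672

variable {A : Type u} [CommRing A] [IsRegularLocalRing A] {p : ℕ} {J : Ideal A}

theorem killed_dim (hJ : ringKrullDim (A ⧸ J) + p ≤ ringKrullDim A) (K : Type u) [AddCommGroup K] [Module A K]
    [Module.Finite A K] (hK : ∀ a ∈ J, ∀ x : K, a • x = 0) :
    Module.supportDim A K + p ≤ ringKrullDim A := by
  refine le_trans (add_le_add ?_ le_rfl) hJ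
  rw [Module.supportDim_eq_ringKrullDim_quotient_annihilator]
  exact ringKrullDim_le_of_surjective (Ideal.Quotient.factor (fun a ha => Module.mem_annihilator.2 (hK a ha)))
    (Ideal.Quotient.factor_surjective _)

theorem pi_eq_zero (n : ℕ) (ξ : Abelian.Ext (ModuleCat.of A (Fin n → A ⧸ J)) (ModuleCat.of A A) p)
    (h : ∀ i, (Abelian.Ext.mk₀ (ModuleCat.ofHom (LinearMap.single A (fun _ : Fin n => A ⧸ J) i))).comp ξ (zero_add p) = 0) :
    ξ = 0 := by
  have hid : 𝟙 (ModuleCat.of A (Fin n → A ⧸ J)) = ∑ i, ModuleCat.ofHom (LinearMap.proj i) ≫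
      ModuleCat.ofHom (LinearMap.single A (fun _ : Fin n => A ⧸ J) i) := by
    refine ModuleCat.hom_ext (LinearMap.ext fun v => ?_)
    rw [ModuleCat.hom_sum, LinearMap.sum_apply]
    exact (Finset.univ_sum_single (v : Fin n → A ⧸ J)).symm
  rw [← Abelian.Ext.mk₀_id_comp ξ, hid, Abelian.Ext.mk₀_sum, Abelian.Ext.sum_comp]
  refine Finset.sum_eq_zero fun i _ => ?_
  rw [← Abelian.Ext.mk₀_comp_mk₀, Abelian.Ext.comp_assoc _ _ _ (zero_add 0) (zero_add p) (by omega), h i,
    Abelian.Ext.comp_zero]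

theorem pullback_injective (hJ : ringKrullDim (A ⧸ J) + p ≤ ringKrullDim A) {N M : Type u} [AddCommGroup N]
    [Module A N] [Module.Finite A N] [AddCommGroup M] [Module A M] (π : N →ₗ[A] M) (hπ : Function.Surjective π)
    (hN : ∀ a ∈ J, ∀ x : N, a • x = 0) (ξ : Abelian.Ext (ModuleCat.of A M) (ModuleCat.of A A) p)
    (h : (Abelian.Ext.mk₀ (ModuleCat.ofHom π)).comp ξ (zero_add p) = 0) : ξ = 0 := by
  haveI : IsNoetherian A N := isNoetherian_of_isNoetherianRing_of_finite A N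
  have hS := LinearMap.shortExact_shortComplexKer hπ
  rcases Nat.eq_zero_or_pos p with rfl | hp
  · haveI : Epi (ModuleCat.ofHom π) := (ModuleCat.epi_iff_surjective _).2 hπ
    refine Abelian.Ext.precomp_mk₀_injective_of_epi _ (ModuleCat.ofHom π) ?_
    rw [map_zero]
    exact h
  · obtain ⟨y, hy⟩ := Abelian.Ext.contravariant_sequence_exact₃ hS (ModuleCat.of A A) ξ h (n₀ := p - 1) (by omega)
    haveI := S5671.result A (LinearMap.ker π) p
      (killed_dim hJ _ fun a ha x => Subtype.ext (hN a ha x)) (p - 1) (by omega)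
    rw [← hy]
    exact (congrArg (fun z => hS.extClass.comp z _) (Subsingleton.elim (α := Abelian.Ext (ModuleCat.of A
      (LinearMap.ker π)) (ModuleCat.of A A) (p - 1)) y 0)).trans (Abelian.Ext.comp_zero _ _ _ _ _)

theorem exists_presentation (M : Type u) [AddCommGroup M] [Module A M] [Module.Finite A M]
    (hM : ∀ a ∈ J, ∀ x : M, a • x = 0) :
    ∃ (n : ℕ) (π : (Fin n → A ⧸ J) →ₗ[A] M), Function.Surjective π := by
  obtain ⟨n, π₀, hπ₀⟩ := Module.Finite.exists_fin' A M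
  let e : Fin n → (A ⧸ J) →ₗ[A] M := fun i => Submodule.liftQ J
    (π₀ ∘ₗ LinearMap.single A (fun _ : Fin n => A) i) (fun a ha => by
      rw [LinearMap.mem_ker, LinearMap.comp_apply]
      have : LinearMap.single A (fun _ : Fin n => A) i a = a • LinearMap.single A (fun _ : Fin n => A) i 1 := by
        rw [← map_smul, smul_eq_mul, mul_one]
      rw [this, map_smul, hM a ha])
  refine ⟨n, ∑ i, e i ∘ₗ LinearMap.proj i, fun m => ?_⟩
  obtain ⟨v, rfl⟩ := hπ₀ m
  refine ⟨fun i => Submodule.Quotient.mk (v i), ?_⟩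
  rw [LinearMap.sum_apply]
  conv_rhs => rw [← Finset.univ_sum_single v, map_sum]
  rfl

theorem eq_zero_of_forall (hJ : ringKrullDim (A ⧸ J) + p ≤ ringKrullDim A) (M : Type u) [AddCommGroup M]
    [Module A M] [Module.Finite A M] (hM : ∀ a ∈ J, ∀ x : M, a • x = 0)
    (ξ : Abelian.Ext (ModuleCat.of A M) (ModuleCat.of A A) p)
    (h : ∀ u : (A ⧸ J) →ₗ[A] M, (Abelian.Ext.mk₀ (ModuleCat.ofHom u)).comp ξ (zero_add p) = 0) : ξ = 0 := by
  obtain ⟨n, π, hπ⟩ := exists_presentation M hM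
  refine pullback_injective hJ π hπ (fun a ha x => funext fun i => ?_) ξ (pi_eq_zero n _ fun i => ?_)
  · obtain ⟨c, hc⟩ := Submodule.Quotient.mk_surjective _ (x i)
    show a • x i = 0
    rw [← hc]
    exact (Submodule.Quotient.mk_eq_zero _).2 (J.mul_mem_right c ha)
  · rw [← Abelian.Ext.comp_assoc _ _ _ (zero_add 0) (zero_add p) (by omega), Abelian.Ext.mk₀_comp_mk₀]
    exact h (π ∘ₗ LinearMap.single A (fun _ : Fin n => A ⧸ J) i)

/-- Let `A` be a regular local ring of dimension `n`, `J` an ideal with `dim(A/J) ≤ n - p`, and `M` a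
finite `A`-module with `JM = 0`. For `ξ ∈ Ext^p_A(M, A)` and an `A`-linear `u : A/J → M` write `u^*ξ
∈ Ext^p_A(A/J, A)` for the pullback. Then `ξ ↦ (u ↦ u^*ξ)` is injective, and every `A`-linear map
`Hom_A(A/J, M) → Ext^p_A(A/J, A)` is of the form `u ↦ u^*ξ` for some `ξ`. Since `Hom_A(A/J, M) = M`
here, this says that the canonical map `Ext^p_A(M, A) → Hom_A(M, Ext^p_A(A/J, A))` is bijective. -/
theorem result (A : Type u) [CommRing A] [IsRegularLocalRing A] (p : ℕ) (J : Ideal A) (hJ : ringKrullDim (A ⧸ J) + p ≤ ringKrullDim A) (M : Type u) [AddCommGroup M] [Module A M] [Module.Finite A M] (hJM : J • (⊤ : Submodule A M) = ⊥) : Function.Injective (fun ξ : Abelian.Ext (ModuleCat.of A M) (ModuleCat.of A A) p => fun u : (A ⧸ J) →ₗ[A] M => (Abelian.Ext.mk₀ (ModuleCat.ofHom u)).comp ξ (zero_add p)) ∧ ∀ g : ((A ⧸ J) →ₗ[A] M) →ₗ[A] Abelian.Ext (ModuleCat.of A (A ⧸ J)) (ModuleCat.of A A) p, ∃ ξ : Abelian.Ext (ModuleCat.of A M) (ModuleCat.of A A)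 p, ∀ u : (A ⧸ J) →ₗ[A] M, g u = (Abelian.Ext.mk₀ (ModuleCat.ofHom u)).comp ξ (zero_add p) := by
  have hM : ∀ a ∈ J, ∀ x : M, a • x = 0 := fun a ha x =>
    (Submodule.eq_bot_iff _).1 hJM _ (Submodule.smul_mem_smul ha trivial)
  refine ⟨fun ξ η h => sub_eq_zero.1 (eq_zero_of_forall hJ M hM _ fun u => ?_), fun g => ?_⟩
  · rw [sub_eq_add_neg, Abelian.Ext.comp_add, Abelian.Ext.comp_neg, ← sub_eq_add_neg, sub_eq_zero]
    exact congrFun h u
  obtain ⟨n, π, hπ⟩ := exists_presentation M hM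
  let ι : Fin n → (A ⧸ J) →ₗ[A] (Fin n → A ⧸ J) := fun i => LinearMap.single A (fun _ : Fin n => A ⧸ J) i
  let ξ₀ : Abelian.Ext (ModuleCat.of A (Fin n → A ⧸ J)) (ModuleCat.of A A) p :=
    ∑ i, (Abelian.Ext.mk₀ (ModuleCat.ofHom (LinearMap.proj (φ := fun _ : Fin n => A ⧸ J) i))).comp
      (g (π ∘ₗ ι i)) (zero_add p)
  have hw : ∀ w : (A ⧸ J) →ₗ[A] (Fin n → A ⧸ J),
      (Abelian.Ext.mk₀ (ModuleCat.ofHom w)).comp ξ₀ (zero_add p) = g (π ∘ₗ w) := fun w => by
    choose c hc using fun i => Submodule.Quotient.mk_surjective J (w (Submodule.Quotient.mk 1) i)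
    have hcomp : ∀ i, LinearMap.proj (φ := fun _ : Fin n => A ⧸ J) i ∘ₗ w = c i • LinearMap.id := fun i =>
      Submodule.linearMap_qext _ (LinearMap.ext_ring (by
        simp only [LinearMap.comp_apply, Submodule.mkQ_apply, LinearMap.proj_apply, LinearMap.smul_apply,
          LinearMap.id_apply]
        rw [← hc i, ← Submodule.Quotient.mk_smul, smul_eq_mul, mul_one]))
    have hwsum : w = ∑ i, c i • ι i := by
      refine LinearMap.ext fun x => ?_
      rw [LinearMap.sum_apply]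
      conv_lhs => rw [← Finset.univ_sum_single (w x)]
      refine Finset.sum_congr rfl fun i _ => ?_
      rw [show (w x) i = c i • x from LinearMap.congr_fun (hcomp i) x, LinearMap.smul_apply]
      exact (LinearMap.single A (fun _ : Fin n => A ⧸ J) i).map_smul (c i) x
    rw [show ξ₀ = _ from rfl, Abelian.Ext.comp_sum]
    conv_rhs => rw [hwsum]
    rw [show π ∘ₗ ∑ i, c i • ι i = ∑ i, c i • (π ∘ₗ ι i) from
      LinearMap.ext fun x => by simp [LinearMap.sum_apply], map_sum]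
    refine Finset.sum_congr rfl fun i _ => ?_
    rw [map_smul, ← Abelian.Ext.comp_assoc _ _ _ (zero_add 0) (zero_add p) (by omega),
      Abelian.Ext.mk₀_comp_mk₀, ← ModuleCat.ofHom_comp, hcomp i,
      show ModuleCat.ofHom (c i • (LinearMap.id : (A ⧸ J) →ₗ[A] A ⧸ J)) = c i • 𝟙 (ModuleCat.of A (A ⧸ J)) from rfl,
      Abelian.Ext.mk₀_smul, Abelian.Ext.smul_comp, Abelian.Ext.mk₀_id_comp]
  have hP : ∀ a ∈ J, ∀ x : Fin n → A ⧸ J, a • x = 0 := fun a ha x => funext fun i => by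
    obtain ⟨c, hc⟩ := Submodule.Quotient.mk_surjective _ (x i)
    show a • x i = 0
    rw [← hc]
    exact (Submodule.Quotient.mk_eq_zero _).2 (J.mul_mem_right c ha)
  have hker : (Abelian.Ext.mk₀ (π.shortComplexKer).f).comp ξ₀ (zero_add p) = 0 := by
    refine eq_zero_of_forall hJ (LinearMap.ker π) (fun a ha x => Subtype.ext (hP a ha x)) _ fun v => ?_
    refine (Abelian.Ext.comp_assoc _ _ _ (zero_add 0) (zero_add p) (by omega)).symm.trans ?_
    rw [Abelian.Ext.mk₀_comp_mk₀]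
    refine (hw ((LinearMap.ker π).subtype ∘ₗ v)).trans ?_
    rw [show π ∘ₗ ((LinearMap.ker π).subtype ∘ₗ v) = 0 from LinearMap.ext fun x => (v x).2, map_zero]
  obtain ⟨ξ, hξ⟩ := Abelian.Ext.contravariant_sequence_exact₂ (LinearMap.shortExact_shortComplexKer hπ)
    (ModuleCat.of A A) ξ₀ hker
  refine ⟨ξ, fun u => ?_⟩
  obtain ⟨w₁, hw₁⟩ := hπ (u (Submodule.Quotient.mk 1))
  let w : (A ⧸ J) →ₗ[A] (Fin n → A ⧸ J) := Submodule.liftQ J (LinearMap.toSpanSingleton A _ w₁)
    (fun a ha => hP a ha w₁)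
  have hu : π ∘ₗ w = u := Submodule.linearMap_qext _ (LinearMap.ext_ring (by
    simp only [LinearMap.comp_apply, Submodule.mkQ_apply, w, Submodule.liftQ_apply, LinearMap.toSpanSingleton_apply, one_smul, hw₁]))
  conv_lhs => rw [← hu, ← hw w, ← hξ]
  rw [← hu]
  exact (Abelian.Ext.comp_assoc _ _ _ (zero_add 0) (zero_add p) (by omega)).symm.trans
    (by rw [Abelian.Ext.mk₀_comp_mk₀]; rfl)

end Groth.Agent.S5672
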