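import Groth.Statements.S5673
import Groth.Agent.TorBridge.LES
import Groth.Agent.CAlgOdd.TorSymm.Main

set_option autoImplicit false
universe u
open CategoryTheory
open Dual

namespace Groth.Agent.S5673

open MonoidalCategory Limits

section

variable {A : Type u} [CommRing A]

theorem homologyMap_smul' {ι : Type} {c : ComplexShape ι} {K L : HomologicalComplex (ModuleCat.{u} A) c}
    (f : K ⟶ L) (x : A) (i : ι) :
    HomologicalComplex.homologyMap (x • f) i = x • HomologicalComplex.homologyMap f i := by
  have h : (HomologicalComplex.shortComplexFunctor (ModuleCat.{u} A) c i).map (x • f) =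
      x • (HomologicalComplex.shortComplexFunctor (ModuleCat.{u} A) c i).map f := by
    ext <;> rfl
  show ShortComplex.homologyMap ((HomologicalComplex.shortComplexFunctor (ModuleCat.{u} A) c i).map (x • f)) = _
  refine (congrArg (fun φ => ShortComplex.homologyMap φ) h).trans ?_
  exact ShortComplex.homologyMap_smul ((HomologicalComplex.shortComplexFunctor (ModuleCat.{u} A) c i).map f) x

variable (A) in
/-- the `i`-th homology of `X ⊗ P`, `P` a projective resolution of `N` -/
noncomputable abbrev cx (N : ModuleCat.{u} A) (X : ModuleCat.{u} A) : ChainComplex (ModuleCat.{u} A) ℕ :=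
  ((TorBridge.tenF X).mapHomologicalComplex (ComplexShape.down ℕ)).obj (ProjectiveResolution.of N).complex

noncomputable def cxMap (N : ModuleCat.{u} A) {X Y : ModuleCat.{u} A} (f : X ⟶ Y) : cx A N X ⟶ cx A N Y :=
  (NatTrans.mapHomologicalComplex ((tensoringLeft (ModuleCat.{u} A)).map f) (ComplexShape.down ℕ)).app _

theorem cxMap_smul_id (N X : ModuleCat.{u} A) (x : A) : cxMap N (x • 𝟙 X) = x • 𝟙 (cx A N X) := by
  refine HomologicalComplex.hom_ext _ _ fun j => ModuleCat.hom_ext (TensorProduct.ext' fun a b => ?_)
  exact (TensorProduct.smul_tmul' x a b).symm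

theorem cx_isZero_of_flat (N X : ModuleCat.{u} A) [Module.Flat A X] (i : ℕ) :
    IsZero ((cx A N X).homology (i + 1)) :=
  ((ProjectiveResolution.of N).isoLeftDerivedObj (TorBridge.tenF X) (i + 1)).isZero_iff.1
    (TorBridge.isZero_tor_succ_of_flat X N i)

/-- `ker (x •)` on `Hom(A/I, M)` is `Hom(A/(I + (x)), M)`. -/
theorem kerHom (M : Type u) [AddCommGroup M] [Module A M] (I K : Ideal A) (x : A) (hK : K = I ⊔ Ideal.span {x}) :
    Nonempty (LinearMap.ker (DistribSMul.toLinearMap A ((A ⧸ I) →ₗ[A] M) x) ≃ₗ[A] ((A ⧸ K) →ₗ[A] M)) := by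
  have hle : I ≤ K := hK ▸ le_sup_left
  have hx : x ∈ K := hK ▸ Submodule.mem_sup_right (Ideal.mem_span_singleton_self x)
  let π : (A ⧸ I) →ₗ[A] (A ⧸ K) := Submodule.factor hle
  have hπ : Function.Surjective π := Submodule.factor_surjective hle
  let G : ((A ⧸ K) →ₗ[A] M) →ₗ[A] ((A ⧸ I) →ₗ[A] M) := LinearMap.lcomp A M π
  have hG : Function.Injective G := fun a b h => LinearMap.ext fun q => by
    obtain ⟨p, rfl⟩ := hπ q
    exact LinearMap.congr_fun h p
  have hr : LinearMap.range G = LinearMap.ker (DistribSMul.toLinearMap A ((A ⧸ I) →ₗ[A] M) x) := by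
    apply le_antisymm
    · rintro _ ⟨g, rfl⟩
      refine LinearMap.ext fun q => ?_
      show x • g (π q) = 0
      rw [← map_smul]
      obtain ⟨a, ha⟩ := Submodule.mkQ_surjective K (π q)
      rw [← ha, ← map_smul, Submodule.mkQ_apply,
        (Submodule.Quotient.mk_eq_zero K).2 (show x • a ∈ K from Ideal.mul_mem_right _ _ hx), map_zero]
    · intro φ hφ
      have hφ' : ∀ q, x • φ q = 0 := fun q => LinearMap.congr_fun hφ q
      have hker : K ≤ LinearMap.ker (φ ∘ₗ Submodule.mkQ I) := by
        rw [hK]
        refine sup_le (fun a ha => ?_) ((Ideal.span_singleton_le_iff_mem _).2 ?_)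
        · show φ (Submodule.Quotient.mk a) = 0
          rw [(Submodule.Quotient.mk_eq_zero I).2 ha, map_zero]
        · show φ (Submodule.mkQ I x) = 0
          rw [show x = x • (1 : A) by simp, map_smul, map_smul]
          exact hφ' _
      refine ⟨Submodule.liftQ K (φ ∘ₗ Submodule.mkQ I) hker, Submodule.linearMap_qext _ ?_⟩
      refine LinearMap.ext fun a => ?_
      rfl
  exact ⟨((LinearEquiv.ofInjective G hG).trans (LinearEquiv.ofEq _ _ hr)).symm⟩

theorem main (N : ModuleCat.{u} A) (xs : List A) (hreg : RingTheory.Sequence.IsWeaklyRegular A xs) :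
    (∀ i, xs.length < i → IsZero ((cx A N (ModuleCat.of A (A ⧸ Ideal.ofList xs))).homology i)) ∧
      Nonempty ((cx A N (ModuleCat.of A (A ⧸ Ideal.ofList xs))).homology xs.length ≃ₗ[A]
        ((A ⧸ Ideal.ofList xs) →ₗ[A] N)) := by
  induction xs using List.reverseRecOn with
  | nil =>
    have h0 : Ideal.ofList ([] : List A) = ⊥ := Ideal.ofList_nil
    rw [h0]
    let e : (A ⧸ (⊥ : Ideal A)) ≃ₗ[A] A := Submodule.quotEquivOfEqBot ⊥ rfl
    haveI : Module.Flat A (ModuleCat.of A (A ⧸ (⊥ : Ideal A))) := Module.Flat.of_linearEquiv e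
    refine ⟨fun i hi => ?_, ?_⟩
    · obtain ⟨k, rfl⟩ := Nat.exists_eq_add_of_le' (Nat.succ_le_of_lt hi)
      exact cx_isZero_of_flat N _ k
    · let F := TorBridge.tenF (ModuleCat.of A (A ⧸ (⊥ : Ideal A)))
      haveI : PreservesFiniteColimits F := by
        exact Limits.PreservesColimitsOfSize.preservesFiniteColimits _
      let i₀ : (cx A N (ModuleCat.of A (A ⧸ (⊥ : Ideal A)))).homology 0 ≅ F.obj N :=
        ((ProjectiveResolution.of N).isoLeftDerivedObj F 0).symm ≪≫ F.leftDerivedZeroIsoSelf.app N
      exact ⟨i₀.toLinearEquiv.trans ((TensorProduct.congr e (LinearEquiv.refl A N)).trans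
        ((TensorProduct.lid A N).trans ((LinearMap.ringLmapEquivSelf A A N).symm.trans
          (LinearEquiv.congrLeft N A e.symm))))⟩
  | append_singleton xs x ih =>
    have hreg' : RingTheory.Sequence.IsWeaklyRegular A xs ∧
        (∀ a : A, x * a ∈ Ideal.ofList xs → a ∈ Ideal.ofList xs) := by
      refine ⟨⟨fun i hi => ?_⟩, fun a ha => ?_⟩
      · have := hreg.regular_mod_prev i (by simp; omega)
        rwa [List.take_append_of_le_length hi.le, List.getElem_append_left hi] at this
      · have := hreg.regular_mod_prev xs.length (by simp)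
        rw [List.take_left, List.getElem_append_right le_rfl] at this
        simp only [Nat.sub_self, List.getElem_cons_zero] at this
        have h1 : (Submodule.Quotient.mk a : A ⧸ (Ideal.ofList xs • ⊤ : Submodule A A)) = 0 := by
          refine this.right_eq_zero_of_smul ?_
          rw [← Submodule.Quotient.mk_smul, Submodule.Quotient.mk_eq_zero]
          simpa using ha
        simpa using (Submodule.Quotient.mk_eq_zero _).1 h1
    obtain ⟨ihz, ⟨ihe⟩⟩ := ih hreg'.1
    set I := Ideal.ofList xs with hIdef
    set K := Ideal.ofList (xs ++ [x]) with hKdef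
    have hK : K = I ⊔ Ideal.span {x} := by simp [hKdef, hIdef, Ideal.ofList_append]
    have hle : I ≤ K := hK ▸ le_sup_left
    let X₁ := ModuleCat.of A (A ⧸ I)
    let X₃ := ModuleCat.of A (A ⧸ K)
    let f : X₁ ⟶ X₁ := x • 𝟙 X₁
    let g : X₁ ⟶ X₃ := ModuleCat.ofHom (Submodule.factor hle)
    have hx : x ∈ K := hK ▸ Submodule.mem_sup_right (Ideal.mem_span_singleton_self x)
    have hf0 : ∀ q : A ⧸ I, x • q = 0 → q = 0 := fun q hq => by
      obtain ⟨a, rfl⟩ := Submodule.Quotient.mk_surjective I q
      rw [← Submodule.Quotient.mk_smul, Submodule.Quotient.mk_eq_zero] at hq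
      exact (Submodule.Quotient.mk_eq_zero I).2 (hreg'.2 a hq)
    have hfinj : Function.Injective f.hom := (injective_iff_map_eq_zero f.hom).2 hf0
    have hex : Function.Exact f.hom g.hom := fun q => by
      obtain ⟨a, rfl⟩ := Submodule.Quotient.mk_surjective I q
      constructor
      · intro h
        have ha : a ∈ K := (Submodule.Quotient.mk_eq_zero K).1 h
        rw [hK] at ha
        obtain ⟨b, hb, c, hc, rfl⟩ := Submodule.mem_sup.1 ha
        obtain ⟨d, rfl⟩ := Ideal.mem_span_singleton'.1 hc
        refine ⟨Submodule.Quotient.mk d, ?_⟩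
        show x • (Submodule.Quotient.mk d : A ⧸ I) = _
        rw [← Submodule.Quotient.mk_smul, eq_comm, Submodule.Quotient.eq, smul_eq_mul]
        convert hb using 1; ring
      · rintro ⟨r, hr⟩
        rw [← hr]
        obtain ⟨d, rfl⟩ := Submodule.Quotient.mk_surjective I r
        exact (Submodule.Quotient.mk_eq_zero K).2 (Ideal.mul_mem_right _ _ hx)
    have hfg : cxMap N f ≫ cxMap N g = 0 := by
      refine HomologicalComplex.hom_ext _ _ fun j => ModuleCat.hom_ext ?_
      show g.hom.rTensor _ ∘ₗ f.hom.rTensor _ = 0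
      rw [← LinearMap.rTensor_comp, hex.linearMap_comp_eq_zero, LinearMap.rTensor_zero]
    have hT : (ShortComplex.mk (cxMap N f) (cxMap N g) hfg).ShortExact := by
      refine HomologicalComplex.shortExact_of_degreewise_shortExact _ fun j => ?_
      haveI : Module.Projective A ((ProjectiveResolution.of N).complex.X j) :=
        (IsProjective.iff_projective _).2 ((ProjectiveResolution.of N).projective j)
      exact
        { exact := (ShortComplex.ShortExact.moduleCat_exact_iff_function_exact _).2
            (rTensor_exact _ hex (Submodule.factor_surjective hle))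
          mono_f := (ModuleCat.mono_iff_injective _).2 (Module.Flat.rTensor_preserves_injective_linearMap
            (M := (ProjectiveResolution.of N).complex.X j) f.hom hfinj)
          epi_g := (ModuleCat.epi_iff_surjective _).2
            (LinearMap.rTensor_surjective _ (Submodule.factor_surjective hle)) }
    have hlen : (xs ++ [x]).length = xs.length + 1 := by simp
    constructor
    · intro i hi
      obtain ⟨k, rfl⟩ := Nat.exists_eq_add_of_le' (show 1 ≤ i by omega)
      exact ShortComplex.Exact.isZero_X₂ (hT.homology_exact₃ (k + 1) k rfl)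
        ((ihz _ (by omega)).eq_of_src _ _) ((ihz k (by omega)).eq_of_tgt _ _)
    · rw [hlen]
      let p := xs.length
      haveI : Mono (hT.δ (p + 1) p rfl) := (hT.homology_exact₃ (p + 1) p rfl).mono_g
        ((ihz (p + 1) (by omega)).eq_of_src _ _)
      let δ := (hT.δ (p + 1) p rfl).hom
      have hδ : Function.Injective δ := (ModuleCat.mono_iff_injective _).1 inferInstance
      have hr : LinearMap.range δ = LinearMap.ker (DistribSMul.toLinearMap A ((cx A N X₁).homology p) x) := by
        have h := (ShortComplex.moduleCat_exact_iff_range_eq_ker _).1 (hT.homology_exact₁ (p + 1) p rfl)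
        refine h.trans (congrArg LinearMap.ker ?_)
        show (HomologicalComplex.homologyMap (cxMap N f) p).hom = _
        rw [cxMap_smul_id, homologyMap_smul', HomologicalComplex.homologyMap_id]
        rfl
      let e₁ := (LinearEquiv.ofInjective δ hδ).trans (LinearEquiv.ofEq _ _ hr)
      let e₂ : LinearMap.ker (DistribSMul.toLinearMap A ((cx A N X₁).homology p) x) ≃ₗ[A]
          LinearMap.ker (DistribSMul.toLinearMap A ((A ⧸ I) →ₗ[A] N) x) :=
        LinearEquiv.ofSubmodules ihe _ _ (by
          ext φ
          simp only [Submodule.mem_map, LinearMap.mem_ker]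
          constructor
          · rintro ⟨y, hy, rfl⟩
            show x • ihe y = 0
            rw [← map_smul]
            exact (congrArg ihe hy).trans (map_zero _)
          · intro hφ
            exact ⟨ihe.symm φ, by
              show x • ihe.symm φ = 0
              rw [← map_smul]
              exact (congrArg ihe.symm hφ).trans (map_zero _), ihe.apply_symm_apply φ⟩)
      obtain ⟨e₃⟩ := kerHom N I K x hK
      exact ⟨e₁.trans (e₂.trans e₃)⟩

end

/-- Let `A` be a commutative ring, `xs = (x_1, …, x_p)` a sequence in `A` such that each `x_i` is a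
non-zero-divisor on `A/(x_1, …, x_{i-1})`, `J` the ideal generated by the `x_i` and `M` any
`A`-module. Then `Tor_p^A(A/J, M)` (Mathlib's `Tor'`, the left derived functors of `- ⊗ M` evaluated
at `A/J`, i.e. computed from a resolution of `A/J`) is isomorphic as an `A`-module to `Hom_A(A/J,
M)`, i.e. to the elements of `M` killed by `J`. (Existence of an `A`-linear isomorphism only; the
published one is induced by the Koszul complex of `xs`.) -/
theorem result (A : Type u) [CommRing A] (xs : List A) (hreg : RingTheory.Sequence.IsWeaklyRegular A xs) (M : Type u) [AddCommGroup M] [Module A M] : Nonempty (↑(((Tor' (ModuleCat.{u} A) xs.length).obj (ModuleCat.of A (A ⧸ Ideal.ofList xs))).obj (ModuleCat.of A M)) ≃ₗ[A] ((A ⧸ Ideal.ofList xs) →ₗ[A] M)) := by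
  obtain ⟨-, ⟨e⟩⟩ := main (ModuleCat.of A M) xs hreg
  let N := ModuleCat.of A M
  let X := ModuleCat.of A (A ⧸ Ideal.ofList xs)
  let p := xs.length
  let P : ProjectiveResolution X := ProjectiveResolution.of X
  let β : (tensoringRight (ModuleCat.{u} A)).obj N ≅ (tensoringLeft (ModuleCat.{u} A)).obj N :=
    (BraidedCategory.tensorLeftIsoTensorRight N).symm
  let i₁ : ((Tor' (ModuleCat.{u} A) p).obj X).obj N ≅ ((Tor (ModuleCat.{u} A) p).obj N).obj X :=
    P.isoLeftDerivedObj ((tensoringRight (ModuleCat.{u} A)).obj N) p ≪≫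
      (HomologicalComplex.homologyFunctor _ (ComplexShape.down ℕ) p).mapIso
        ((NatIso.mapHomologicalComplex β (ComplexShape.down ℕ)).app P.complex) ≪≫
      (P.isoLeftDerivedObj ((tensoringLeft (ModuleCat.{u} A)).obj N) p).symm
  let i₂ : ((Tor (ModuleCat.{u} A) p).obj N).obj X ≅ ((Tor (ModuleCat.{u} A) p).obj X).obj N :=
    (CAlgOdd.TorSymm.torSymm p).app (N, X)
  exact ⟨(i₁ ≪≫ i₂ ≪≫ (ProjectiveResolution.of N).isoLeftDerivedObj (TorBridge.tenF X) p).toLinearEquiv.trans e⟩

end Groth.Agent.S5673
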