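import Groth.Statements.S5674
import Groth.Agent.PD70.ExtVanish

set_option autoImplicit false
universe u
open CategoryTheory CategoryTheory.Limits AlgebraicGeometry
open ProjDual

namespace Groth.Agent.S5674

/-- Let `k` be an algebraically closed field, `X` a nonsingular algebraic set of dimension `n` over `k`
— here: a quasi-compact `k`-scheme smooth of relative dimension `n` over `k` — `F` a coherent
`O_X`-module whose support has dimension at most `n - p`, and `L` a finite locally free
`O_X`-module. Then the (global) groups `Ext^i_{O_X}(F, L)` vanish for `i < p`. (All components of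
`X` have dimension `n`; for a nonsingular algebraic set with a component of smaller dimension the
conclusion fails. The Ext instance on the category of `O_X`-modules is taken as a hypothesis; it
holds since that category is Grothendieck abelian.) -/
theorem result (k : Type u) [Field k] [IsAlgClosed k] (n : ℕ) (X : Scheme.{u}) [X.Over (Spec (CommRingCat.of k))] [SmoothOfRelativeDimension n (X ↘ Spec (CommRingCat.of k))] [CompactSpace X] [HasExt.{u} X.Modules] (F : X.Modules) (hF : Coh.IsCoh F) (L : X.Modules) (hL : FlatMod.IsFinLocFree L) (p : ℕ) (hsupp : topologicalKrullDim ↥(CohB1.support F) + p ≤ n) (i : ℕ) (hi : i < p) : Subsingleton (Abelian.Ext F L i) := by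
  let f := X ↘ Spec (CommRingCat.of k)
  have : Smooth f := SmoothOfRelativeDimension.smooth n f
  have : EnoughInjectives X.Modules := inferInstanceAs (EnoughInjectives (SheafOfModules _))
  have : EnoughInjectives (ModSite.Mod X.sheaf) := this
  have : HasInjectiveResolutions (ModSite.Mod X.sheaf) := inferInstance
  have := Groth.Agent.ModTensor.hasSheafHom (O := X.sheaf) F
  refine Groth.Agent.PD70.subsingleton_ext_of_extSh F L i fun q hq => ?_
  refine Groth.Agent.PD70.isZero_extSh_support (n := n) (c := p) f
    (fun y => Groth.Agent.GrpSchLib.isRegularLocalRing_stalk_of_smooth f y)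
    (fun η hη => (Groth.Agent.PD70.deg_maximal_of_smooth f η hη).ge) hF (fun z hz => ?_) hL (hq.trans_lt hi)
  have h1 : ((Groth.Agent.VarDim.deg f z : ℕ∞) : WithBot ℕ∞) ≤ topologicalKrullDim ↥(CohB1.support F) := by
    rw [Groth.Agent.VarDim.topologicalKrullDim_set_eq_iSup_deg f (Groth.Agent.QCoh.isClosed_support_of_isFT hF.1 hF.2)]
    exact le_iSup (fun w : CohB1.support F => ((Groth.Agent.VarDim.deg f w.1 : ℕ∞) : WithBot ℕ∞)) ⟨z, hz⟩
  exact_mod_cast (add_le_add h1 (le_refl (p : WithBot ℕ∞))).trans hsupp

end Groth.Agent.S5674
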