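import Groth.Statements.S5708
import Groth.Agent.DixBrauer.CurveReduced
import Groth.Agent.DixBrauer.BrauerC1
import Groth.Agent.VarDim.Fibre
-- import your own Groth.Agent.* helpers here

set_option autoImplicit false
universe u
set_option linter.style.haveILetI false
set_option backward.isDefEq.respectTransparency.types false
open CategoryTheory AlgebraicGeometry
open Dix
open Groth.Agent CategoryTheory.Limits

namespace Groth.Agent.S5708

/-- Let k be an algebraically closed field and X a reduced scheme of finite type over k of dimension at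
most 1 (an algebraic curve). Then H²(X_et, G_m) = 0. (The published statement is the vanishing of
the Brauer group of Azumaya algebras, which embeds in H²(X_et, G_m); this row states the vanishing
of H²(X_et, G_m) and assumes X reduced.) -/
theorem result (k : Type u) [Field k] [IsAlgClosed k] (X : Scheme.{u}) (f : X ⟶ Spec (CommRingCat.of k)) [LocallyOfFiniteType f] [QuasiCompact f] [IsReduced X] (hdim : topologicalKrullDim X ≤ 1) : Subsingleton (Dix.BrCoh X) := by
  haveI : IsLocallyNoetherian X := LocallyOfFiniteType.isLocallyNoetherian f
  haveI : CompactSpace X := QuasiCompact.compactSpace_of_compactSpace f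
  haveI : IsNoetherian X := { }
  have hd : topologicalKrullDim X ≤ (1 : ℕ) := hdim
  have hH : ∀ (x : X) (G : EtCoh.Ab (Spec (X.residueField x))), IsAlgClosed (X.residueField x) →
      Subsingleton (EtCoh.H (Spec (X.residueField x)) G 2) := fun x G hx => by
    haveI := hx
    haveI : Subsingleton ↥(Spec (X.residueField x)) :=
      inferInstanceAs (Subsingleton (PrimeSpectrum (X.residueField x)))
    exact S0088.result (Spec (X.residueField x))
      (fun s => Set.Subsingleton.isClosed Set.subsingleton_of_subsingleton)
      (fun s => DixBrauer.CurveH2.isSepClosed_residueField_spec (X.residueField x) s) G 2 (by norm_num)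
  have hdeg : ∀ x : X, VarDim.deg f x ≤ 1 := fun x => by
    haveI : Nonempty X := ⟨x⟩
    obtain ⟨η, -, hmax, he⟩ := VarDim.exists_deg_eq_topologicalKrullDim f
    refine (hmax x).trans ?_
    rw [he] at hd
    exact Nat.cast_le.1 (WithBot.coe_le_coe.1 hd)
  have hac : ∀ x : X, VarDim.deg f x = 0 → IsAlgClosed (X.residueField x) := fun x hx => by
    letI : Algebra k (X.residueField x) := (VarDim.resHom f x).toAlgebra
    have h0 : Algebra.trdeg k (X.residueField x) = 0 := by
      have h := VarDim.deg_eq_tdeg f x
      rw [hx, Nat.cast_zero] at h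
      exact h.symm
    haveI : Algebra.IsAlgebraic k (X.residueField x) := trdeg_eq_zero_iff.1 h0
    exact IsAlgClosed.of_ringEquiv k _
      (RingEquiv.ofBijective (algebraMap k (X.residueField x)) IsAlgClosed.algebraMap_bijective_of_isIntegral)
  refine subsingleton_of_forall_eq 0 fun ξ => DixBrauer.CurveH2.eq_zero_of_Hpull hdim (fun x hx => ?_)
    (EtCoh.Gm X) (fun x hx => DixBrauer.CurveReduced.isZero_rpush_max
      (DixBrauer.CurveReduced.maximal_of_phi_eq hd hx)) ξ fun x hx => ?_
  · haveI := hac x ((VarDim.closedPoint_iff_deg_eq_zero f x).1 hx)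
    infer_instance
  · refine DixBrauer.CurveReduced.Hpull_eq_zero_max (DixBrauer.CurveReduced.maximal_of_phi_eq hd hx) 2 ξ ?_
    rcases Nat.lt_or_ge (VarDim.deg f x) 1 with h0 | h1
    · exact (hH x _ (hac x (Nat.lt_one_iff.1 h0))).elim _ _
    · letI : Algebra k (X.residueField x) := (VarDim.resHom f x).toAlgebra
      have ht : Algebra.trdeg k (X.residueField x) = (1 : ℕ) :=
        (VarDim.deg_eq_tdeg f x).symm.trans (congrArg Nat.cast (le_antisymm (hdeg x) h1))
      exact (DixBrauer.BrauerC1.subsingleton_H2_Gm (X.residueField x)
        (TsenLib.isCr_one_of_isCi (TsenLib.tsen_lang ht))).elim _ _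

end Groth.Agent.S5708
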