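import Groth.Statements.S5715
import Groth.Agent.DixBrauer.HenselUnits.Main
-- import your own Groth.Agent.* helpers here

set_option linter.style.haveILetI false
set_option backward.isDefEq.respectTransparency.types false

set_option autoImplicit false
universe u
open CategoryTheory AlgebraicGeometry
open Dix

namespace Groth.Agent.S5715

open Groth.Agent CategoryTheory.Limits Opposite

/-- Pullback of `G_m` classes along an isomorphism. -/
theorem hgmPull_bijective_of_isIso {X Y : Scheme.{u}} (j : X ⟶ Y) [IsIso j]
    [PreservesFiniteLimits (EtCoh.pull j)] (i : ℕ) : Function.Bijective (EtLim.HGmPull j i) := by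
  haveI : IsIso (EtLim.GmPush j) := by
    haveI : IsIso ((sheafToPresheaf _ _).map (EtLim.GmPush j)) := by
      refine (NatTrans.isIso_iff_isIso_app _).2 fun V => ?_
      show IsIso (EtCoh.ΓUnits.map (pullback.fst V.unop.hom j).op)
      infer_instance
    exact isIso_of_reflects_iso (EtLim.GmPush j) (sheafToPresheaf _ _)
  exact (DixBrauer.FinitePush.hofPush_bijective j (EtCoh.Gm X) i).comp
    ((ConcreteCategory.isIso_iff_bijective ((EtCoh.HF Y i).map (EtLim.GmPush j))).1 inferInstance)

/-- The case of the multiplicative group and the étale topology. Let R be a henselian local ring and I a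
proper ideal of R, so that Spec R/I is a nonempty closed subscheme of the henselian local scheme
Spec R. Then for every i ≥ 1 the restriction map H^i((Spec R)_et, G_m) → H^i((Spec R/I)_et, G_m) is
bijective. The restriction map is EtLim.HGmPull along Spec R/I → Spec R, with the exactness of the
inverse image carried as an instance binder. -/
theorem result (R : Type u) [CommRing R] [HenselianLocalRing R] (I : Ideal R) (hI : I ≠ ⊤) [Limits.PreservesFiniteLimits (EtCoh.pull (Spec.map (CommRingCat.ofHom (Ideal.Quotient.mk I))))] (i : ℕ) (hi : 1 ≤ i) : Function.Bijective (EtLim.HGmPull (Spec.map (CommRingCat.ofHom (Ideal.Quotient.mk I))) i) := by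
  haveI : Nontrivial (R ⧸ I) := Ideal.Quotient.nontrivial_iff.2 hI
  haveI : IsLocalRing (R ⧸ I) :=
    IsLocalRing.of_surjective' (Ideal.Quotient.mk I) Ideal.Quotient.mk_surjective
  haveI : HenselianLocalRing (R ⧸ I) := Hensel.henselianLocalRing_of_finite R (R ⧸ I)
  haveI : IsLocalHom (Ideal.Quotient.mk I) :=
    IsLocalHom.of_surjective _ Ideal.Quotient.mk_surjective
  let q := Spec.map (CommRingCat.ofHom (Ideal.Quotient.mk I))
  let φ := IsLocalRing.ResidueField.map (Ideal.Quotient.mk I)
  have hφ : Function.Bijective φ := ⟨φ.injective, fun z => by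
    obtain ⟨a, rfl⟩ := IsLocalRing.residue_surjective z
    obtain ⟨b, rfl⟩ := Ideal.Quotient.mk_surjective a
    exact ⟨IsLocalRing.residue R b, rfl⟩⟩
  haveI : IsIso (CommRingCat.ofHom φ) := (ConcreteCategory.isIso_iff_bijective _).2 hφ
  let j := Spec.map (CommRingCat.ofHom φ)
  haveI := EtFound.pull_preservesFiniteLimits (EtFound.cpt R)
  haveI := EtFound.pull_preservesFiniteLimits (EtFound.cpt (R ⧸ I))
  haveI := EtFound.pull_preservesFiniteLimits j
  haveI := EtFound.pull_preservesFiniteLimits (EtFound.cpt (R ⧸ I) ≫ q)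
  haveI := EtFound.pull_preservesFiniteLimits (j ≫ EtFound.cpt R)
  have hw : EtFound.cpt (R ⧸ I) ≫ q = j ≫ EtFound.cpt R := by
    rw [← Spec.map_comp, ← Spec.map_comp]
    rfl
  have hR := DixBrauer.HenselUnits.HGmPull_cpt_bijective R i hi
  have hI' := DixBrauer.HenselUnits.HGmPull_cpt_bijective (R ⧸ I) i hi
  have hj := hgmPull_bijective_of_isIso j i
  have hcomp : ∀ x, EtLim.HGmPull (EtFound.cpt (R ⧸ I)) i (EtLim.HGmPull q i x) =
      EtLim.HGmPull j i (EtLim.HGmPull (EtFound.cpt R) i x) := fun x => by
    rw [← DixBrauer.GmComp.HGmPull_comp, ← DixBrauer.GmComp.HGmPull_comp]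
    congr 2
  refine (Function.Bijective.of_comp_iff' hI' _).1 ?_
  refine Eq.mp (congrArg Function.Bijective (funext fun x => (hcomp x).symm)) (hj.comp hR)

end Groth.Agent.S5715
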