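import Groth.Statements.S5724
import Groth.Agent.RelProj34.TwistAmple
import Groth.Agent.S12133
import Groth.Agent.ProjQMapX.Ring
import Groth.Agent.Proj16.RelBasic

set_option autoImplicit false
universe u
open CategoryTheory CategoryTheory.Limits AlgebraicGeometry TopologicalSpace Opposite
open scoped HomogeneousIdeal
open EGA2

namespace Groth.Agent.S5724

/-- Let Y be a quasi-compact scheme and 𝒮 a quasi-coherent graded O_Y-algebra of finite type (over every
affine open U of Y the ring 𝒮(U) is an algebra of finite type over the functions on U, through the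
structure map), and let f : X → Y be its relative homogeneous spectrum Proj(𝒮), given with its
charts over affine opens. Then there is an integer d > 0 such that the twisting sheaf O_X(d) — any
O_X-module given with chart identifications exhibiting it as O_X(d) — is invertible and ample
relative to f. (The published statement also records that f is of finite type; that assertion holds
for the relative homogeneous spectrum of any finite-type quasi-coherent graded algebra and is not
repeated in this row.) -/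
theorem result {Y X : Scheme.{u}} [CompactSpace Y] (𝒮 : RelProj.QCGrAlg Y)
    (hft : ∀ (U : Y.Opens) (hU : IsAffineOpen U), (𝒮.str.app (op U)).hom.FiniteType)
    (f : X ⟶ Y)
    (chart : ∀ (U : Y.Opens) (hU : IsAffineOpen U), ((f ⁻¹ᵁ U : X.Opens) : Scheme.{u}) ≅ Proj (𝒮.deg U hU))
    (hX : RelProj.IsRelProj 𝒮 f chart) :
    ∃ d : ℕ, 0 < d ∧ ∀ (L : X.Modules)
      (lam : ∀ (U : Y.Opens) (hU : IsAffineOpen U),
        L ⟶ (Scheme.Modules.pushforward (RelProj.emb f chart U hU)).obj (GrTwist.twist (𝒮.deg U hU) (d : ℤ))),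
      RelProj.IsRelTwist 𝒮 f chart (d : ℤ) L lam → PicF.IsInvertible L ∧ RelAmple.IsRelAmple f L := by
  have : QuasiCompact f := (Groth.Agent.Proj16.finiteType_of_finiteType hX hft).2
  obtain ⟨s, hs⟩ := isCompact_univ.elim_finite_subcover (fun U : Y.affineOpens => (U.1 : Set Y))
    (fun U => U.1.2) (fun y _ => by
      obtain ⟨_, ⟨U, hU, rfl⟩, hyU, -⟩ := Y.isBasis_affineOpens.exists_subset_of_mem_open
        (Set.mem_univ y) isOpen_univ
      exact Set.mem_iUnion.2 ⟨⟨U, hU⟩, hyU⟩)
  obtain ⟨d, hd, hpow⟩ := Groth.Agent.S12133.result 𝒮 (ι := s) (fun U => U.1.1) (fun U => U.1.2)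
    (top_le_iff.1 fun y _ => by
      obtain ⟨U, hUs, hyU⟩ := Set.mem_iUnion₂.1 (hs (Set.mem_univ y))
      exact Opens.mem_iSup.2 ⟨⟨U, hUs⟩, hyU⟩) fun U => hft U.1.1 U.1.2
  have hcov : ∀ x : X, ∃ (U : Y.Opens) (hU : IsAffineOpen U), f x ∈ U ∧
      RelProj34.DegCovers 𝒮 d U hU := fun x => by
    obtain ⟨U, hUs, hxU⟩ := Set.mem_iUnion₂.1 (hs (Set.mem_univ (f x)))
    have hU : IsAffineOpen U.1 := U.2
    refine ⟨U.1, hU, hxU, fun y => ?_⟩
    by_contra! hall
    obtain ⟨b, hb, hyb⟩ := SetLike.not_le_iff_exists.mp y.not_irrelevant_le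
    obtain ⟨k, g, hk, hg, hyg⟩ := Groth.Agent.ProjQMapX.exists_homogeneous_of_mem_irrelevant
      (GradedRingHom.id (𝒮.deg U.1 hU)) (I := y.asHomogeneousIdeal.toIdeal) hb hyb
    refine hyg (y.isPrime.mem_of_pow_mem d ?_)
    have h1 : g ^ d ∈ AddSubgroup.toIntSubmodule (𝒮.deg U.1 hU (k * d)) := by
      have := SetLike.pow_mem_graded d hg
      rwa [smul_eq_mul, mul_comm] at this
    rw [(hpow ⟨U, hUs⟩).1 k hk] at h1
    obtain ⟨k', rfl⟩ := Nat.exists_eq_add_of_le' hk
    rw [pow_succ] at h1
    refine Submodule.mul_induction_on h1 (fun a _ c hc => y.asHomogeneousIdeal.toIdeal.mul_mem_left a (hall c hc))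
      fun a c ha hc => add_mem ha hc
  exact ⟨d, hd, fun L lam hL => ⟨RelProj34.isInvertible_of_degCovers hd hL hcov,
    RelProj34.isRelAmple_of_degCovers hd hL hcov⟩⟩

end Groth.Agent.S5724
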