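import Groth.Statements.S5744
import Groth.Agent.AmpleVan.Kill

set_option autoImplicit false
universe u
open Coherent

namespace Groth.Agent.S5744

open AlgebraicGeometry CategoryTheory in
/-- For the Čech complex of sheaves indexed by all ordered tuples with products as terms; over a finite
index type these terms are finite direct sums. Let X be a separated scheme, (U_i)_{i ∈ ι} a finite
family of affine opens covering X, and F a quasi-coherent O_X-module. Then for every p the degree-p
term of the Čech complex of sheaves 𝔠(𝒰, F), the product over ordered (p+1)-tuples of the direct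
images (j_{i_0…i_p})_*(F|_{U_{i_0…i_p}}), is a quasi-coherent O_X-module. -/
theorem result {X : Scheme.{u}} [X.IsSeparated] {ι : Type u}
    [Finite ι] (𝒰 : ι → X.Opens) (h𝒰 : ∀ i, IsAffineOpen (𝒰 i)) (hcov : ⨆ i, 𝒰 i = ⊤)
    (F : X.Modules) [Coh.IsQCoh F] (p : ℕ) :
    Coh.IsQCoh (((CechOX.cechSh 𝒰).obj F).X p) := by
  let T : (Fin (p + 1) → ι) → X.Modules := fun i => (CechOX.pushRestr (∏ᶜ (𝒰 ∘ i))).obj F
  show Coh.IsQCoh (∏ᶜ T)
  haveI := Fintype.ofFinite ι
  classical
  haveI := Groth.Agent.QCoh.hasFiniteBiproducts (X := X)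
  refine (Groth.Agent.QCoh.isQCoh_iff_iso (CategoryTheory.Limits.biproduct.isoProduct T)).1
    (Groth.Agent.QCoh.isQCoh_biproduct T fun i => ?_)
  let W : X.Opens := ∏ᶜ (𝒰 ∘ i)
  have e : W = (Finset.univ : Finset (Fin (p + 1))).inf' Finset.univ_nonempty (𝒰 ∘ i) :=
    le_antisymm (Finset.le_inf' _ _ fun a _ => leOfHom (CategoryTheory.Limits.Pi.π (𝒰 ∘ i) a))
      (leOfHom (CategoryTheory.Limits.Pi.lift fun a => homOfLE (Finset.inf'_le _ (Finset.mem_univ a))))
  have hW : IsAffineOpen W := by
    rw [e]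
    exact Finset.inf'_induction _ _ (fun _ h₁ _ h₂ => h₁.inf h₂) fun a _ => h𝒰 (i a)
  haveI : IsAffineHom W.ι := ⟨fun V hV => by
    rw [← W.ι.isAffineOpen_iff_of_isOpenImmersion, Scheme.Hom.image_preimage_eq_opensRange_inf,
      Scheme.Opens.opensRange_ι]
    exact hW.inf hV⟩
  exact Groth.Agent.QCoh.isQCoh_pushforward W.ι (Groth.Agent.QCoh.isQCoh_restrict W.ι inferInstance)

end Groth.Agent.S5744
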