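import Groth.Statements.S5759
import Groth.Agent.LC.ExtDim
import Groth.Agent.LC.TopDim3

set_option autoImplicit false
universe u
open EGA41

namespace Groth.Agent.S5759

/-- Let A be a Noetherian local ring and M a nonzero finitely generated A-module. Suppose that for every
sequence x_1, ..., x_r of elements of the maximal ideal which is part of a system of parameters for
M (i.e. dim(M/(x_1 M + ... + x_r M)) = dim(M) - r), every associated prime p of N = M/(x_1 M + ... +
x_r M) satisfies dim(A/p) = dim(N). Then M is a Cohen-Macaulay module. (The published convention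
also counts the zero module as Cohen-Macaulay; this row assumes M nonzero.) -/
theorem result (A : Type u) [CommRing A]
    [IsLocalRing A] [IsNoetherianRing A] (M : Type u) [AddCommGroup M] [Module A M] [Module.Finite A M]
    [Nontrivial M]
    (h : ∀ xs : List A, (∀ x ∈ xs, x ∈ IsLocalRing.maximalIdeal A) →
      Module.supportDim A (M ⧸ (Ideal.ofList xs • (⊤ : Submodule A M))) + xs.length = Module.supportDim A M →
        ∀ p ∈ associatedPrimes A (M ⧸ (Ideal.ofList xs • (⊤ : Submodule A M))),
          ringKrullDim (A ⧸ p) = Module.supportDim A (M ⧸ (Ideal.ofList xs • (⊤ : Submodule A M)))) :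
    LocCoh.IsCohenMacaulayModule A M := by
  obtain ⟨D, hD⟩ := Groth.Agent.LC.exists_supportDim_eq_nat (R := A) M
  induction D generalizing M with
  | zero =>
    have h1 := Groth.Agent.LC.depth_le_supportDim (R := A) M
    rw [hD] at h1
    have h2 : LocCoh.depth A M = 0 := nonpos_iff_eq_zero.1 (by exact_mod_cast h1)
    rw [LocCoh.IsCohenMacaulayModule, hD, h2]
    rfl
  | succ D ih =>
    classical
    have hnil : ∀ p ∈ associatedPrimes A M, ringKrullDim (A ⧸ p) = Module.supportDim A M := by
      intro p hp
      have e := Submodule.quotEquivOfEqBot (Ideal.ofList ([] : List A) • (⊤ : Submodule A M)) (by simp)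
      have h0 := h [] (by simp) (by simp [Module.supportDim_eq_of_equiv e]) p
      rw [LinearEquiv.AssociatedPrimes.eq e, Module.supportDim_eq_of_equiv e] at h0
      exact h0 hp
    obtain ⟨x, hxm, hreg⟩ : ∃ x ∈ IsLocalRing.maximalIdeal A, IsSMulRegular M x := by
      by_contra hcon
      push Not at hcon
      have hsub : (IsLocalRing.maximalIdeal A : Set A) ⊆
          ⋃ p ∈ (↑(associatedPrimes.finite A M).toFinset : Set (Ideal A)), id p := by
        intro x hx
        have h0 : x ∈ ⋃ p ∈ associatedPrimes A M, (p : Set A) := by
          rw [biUnion_associatedPrimes_eq_compl_regular]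
          exact hcon x hx
        simp only [Set.Finite.coe_toFinset]
        exact h0
      obtain ⟨p, hp, hle⟩ := (Ideal.subset_union_prime (f := id) ⊥ ⊥
        fun q hq _ _ => ((associatedPrimes.finite A M).mem_toFinset.1 hq).isPrime).1 hsub
      rw [Set.Finite.mem_toFinset] at hp
      have hmax : p.IsMaximal := (IsLocalRing.maximalIdeal.isMaximal A).eq_of_le hp.isPrime.ne_top hle ▸ IsLocalRing.maximalIdeal.isMaximal A
      letI := Ideal.Quotient.field p
      have h0 := hnil p hp
      rw [ringKrullDim_eq_zero_of_field (A ⧸ p), hD] at h0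
      exact absurd h0 (by exact_mod_cast (Nat.succ_ne_zero D).symm)
    have hnt : Nontrivial (QuotSMulTop x M) := Submodule.Quotient.nontrivial_iff.2
      (Submodule.top_ne_pointwise_smul_of_mem_jacobson_annihilator
        ((IsLocalRing.maximalIdeal_le_jacobson _) hxm)).symm
    have h1 := Module.supportDim_quotSMulTop_succ_eq_supportDim hreg hxm
    obtain ⟨E, hE⟩ := Groth.Agent.LC.exists_supportDim_eq_nat (R := A) (QuotSMulTop x M)
    have hED : E = D := by
      rw [hE, hD] at h1
      have : E + 1 = D + 1 := by exact_mod_cast h1
      omega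
    subst hED
    have hCM := ih (QuotSMulTop x M) (fun xs hxs hdim p hp => ?_) hE
    · have h2 := Groth.Agent.LC.idealDepth_quotSMulTop_add_one (IsLocalRing.maximalIdeal A) hxm hreg
      have hd : LocCoh.depth A (QuotSMulTop x M) + 1 = LocCoh.depth A M := h2
      rw [LocCoh.IsCohenMacaulayModule] at hCM ⊢
      rw [← hd, ← h1, hCM]
      rfl
    · have e := Submodule.quotOfListConsSMulTopEquivQuotSMulTopInner M x xs
      have h3 := h (x :: xs) (fun y hy => by
        rcases List.mem_cons.1 hy with rfl | hy
        exacts [hxm, hxs y hy]) (by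
          rw [Module.supportDim_eq_of_equiv e, List.length_cons, Nat.cast_add, Nat.cast_one, ← add_assoc,
            hdim, h1]) p (by rwa [LinearEquiv.AssociatedPrimes.eq e])
      rwa [Module.supportDim_eq_of_equiv e] at h3

end Groth.Agent.S5759
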