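import Groth.Statements.S5760
import Groth.Agent.LC.ExtDim
import Groth.Agent.LC.TopDim3

set_option autoImplicit false
universe u
open EGA41

namespace Groth.Agent.S5760

/-- Let A be a Noetherian local ring, M a nonzero finitely generated Cohen-Macaulay A-module, p a prime
ideal in the support of M and r the integer dim(M) - dim(M/pM). Then there exists an M-regular
sequence x_1, ..., x_r of elements of p; for every such sequence, dim(M/(x_1 M + ... + x_r M)) =
dim(M/pM) = dim(A/p), and p is a minimal element of the set of associated primes of M/(x_1 M + ... +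
x_r M). -/
theorem result (A : Type u) [CommRing A]
    [IsLocalRing A] [IsNoetherianRing A] (M : Type u) [AddCommGroup M] [Module A M] [Module.Finite A M]
    (hM : LocCoh.IsCohenMacaulayModule A M) (p : PrimeSpectrum A) (hp : p ∈ Module.support A M) (r : ℕ)
    (hr : Module.supportDim A (M ⧸ (p.asIdeal • (⊤ : Submodule A M))) + r = Module.supportDim A M) :
    (∃ xs : List A, xs.length = r ∧ (∀ x ∈ xs, x ∈ p.asIdeal) ∧ RingTheory.Sequence.IsWeaklyRegular M xs) ∧
      ∀ xs : List A, xs.length = r → (∀ x ∈ xs, x ∈ p.asIdeal) → RingTheory.Sequence.IsWeaklyRegular M xs →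
        Module.supportDim A (M ⧸ (Ideal.ofList xs • (⊤ : Submodule A M))) =
            Module.supportDim A (M ⧸ (p.asIdeal • (⊤ : Submodule A M))) ∧
          Module.supportDim A (M ⧸ (p.asIdeal • (⊤ : Submodule A M))) = ringKrullDim (A ⧸ p.asIdeal) ∧
          p.asIdeal ∈ associatedPrimes A (M ⧸ (Ideal.ofList xs • (⊤ : Submodule A M))) ∧
          ∀ q ∈ associatedPrimes A (M ⧸ (Ideal.ofList xs • (⊤ : Submodule A M))), q ≤ p.asIdeal → q = p.asIdeal := by
  classical
  have hne := Groth.Agent.LC.nontrivial_of_isCM M hM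
  have hpne : p.asIdeal ≠ ⊤ := p.isPrime.ne_top
  haveI : Nontrivial (M ⧸ (p.asIdeal • (⊤ : Submodule A M))) :=
    Submodule.Quotient.nontrivial_iff.2
      (Groth.Agent.LC.smul_top_ne_top_of_le_maximal (IsLocalRing.le_maximalIdeal hpne))
  obtain ⟨e, he⟩ := Groth.Agent.LC.exists_supportDim_eq_nat (R := A) (M ⧸ (p.asIdeal • (⊤ : Submodule A M)))
  have key := Groth.Agent.LC.supportDim_eq_add_idealDepth M hM hpne
  obtain ⟨rs, hrs, hrsmem, hd⟩ := Groth.Agent.LC.exists_idealDepth_eq_length p.asIdeal (M := M)
    (Groth.Agent.LC.smul_top_ne_top_of_le_maximal (IsLocalRing.le_maximalIdeal hpne))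
  have hlen : rs.length = r := by
    rw [he, hd] at key
    rw [he, key] at hr
    have h' : e + r = e + rs.length := by exact_mod_cast hr
    omega
  refine ⟨⟨rs, hlen, hrsmem, hrs⟩, fun xs hxl hxm hxs => ?_⟩
  have hxm' : ∀ x ∈ xs, x ∈ IsLocalRing.maximalIdeal A := fun x hx =>
    IsLocalRing.le_maximalIdeal hpne (hxm x hx)
  have hxle : Ideal.ofList xs ≤ p.asIdeal := Groth.Agent.LC.ofList_le p.asIdeal hxm
  let N := M ⧸ (Ideal.ofList xs • (⊤ : Submodule A M))
  haveI : Nontrivial N :=
    Groth.Agent.LC.nontrivial_quot_ofList (M := M) (Groth.Agent.LC.ofList_le _ hxm')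
  have hN := Groth.Agent.LC.isCM_quot_ofList M hM hxs hxm'
  have h1 := Module.supportDim_add_length_eq_supportDim_of_isRegular xs
    (RingTheory.Sequence.IsRegular.of_isWeaklyRegular_of_mem_maximalIdeal M hxm' hxs)
  have hNdim : Module.supportDim A N = Module.supportDim A (M ⧸ (p.asIdeal • (⊤ : Submodule A M))) := by
    obtain ⟨n, hn⟩ := Groth.Agent.LC.exists_supportDim_eq_nat (R := A) N
    rw [hn, hxl, ← hr, he] at h1
    have h' : n + r = e + r := by exact_mod_cast h1
    rw [hn, he, show n = e by omega]
  have hsupp : Module.support A (M ⧸ (p.asIdeal • (⊤ : Submodule A M))) = Module.support A (A ⧸ p.asIdeal) := by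
    rw [Module.support_quotient, Module.support_eq_zeroLocus (M := A ⧸ p.asIdeal), Ideal.annihilator_quotient]
    exact Set.inter_eq_right.2 fun q hq => Module.mem_support_mono hq hp
  have hdim : Module.supportDim A (M ⧸ (p.asIdeal • (⊤ : Submodule A M))) = ringKrullDim (A ⧸ p.asIdeal) := by
    rw [← Module.supportDim_quotient_eq_ringKrullDim, Module.supportDim, Module.supportDim, hsupp]
  have hpN : p ∈ Module.support A N := by
    rw [Module.support_quotient]
    exact ⟨hp, hxle⟩
  have hmin : ∀ q : PrimeSpectrum A, q ∈ Module.support A N → q ≤ p → q = p := fun q hq hle => by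
    by_contra hqne
    have h2 : Order.coheight p + 1 ≤ Order.coheight q :=
      Order.coheight_add_one_le (lt_of_le_of_ne hle hqne)
    have h3 := Groth.Agent.LC.coheight_le_supportDim hq
    rw [hNdim, hdim, ← Groth.Agent.LC.coheight_eq_ringKrullDim_quotient] at h3
    have h4 : Order.coheight p + 1 ≤ Order.coheight p := h2.trans (WithBot.coe_le_coe.1 h3)
    have h5 : Order.coheight p = e := by
      have := hdim
      rw [he, ← Groth.Agent.LC.coheight_eq_ringKrullDim_quotient] at this
      exact_mod_cast this.symm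
    rw [h5] at h4
    have : e + 1 ≤ e := by exact_mod_cast h4
    omega
  have hann : p.asIdeal ∈ (Module.annihilator A N).minimalPrimes := by
    have hz := Module.support_eq_zeroLocus (R := A) (M := N)
    refine ⟨⟨p.isPrime, ?_⟩, fun J hJ hle => ?_⟩
    · rw [hz] at hpN; exact hpN
    · have := hmin ⟨J, hJ.1⟩ (by rw [hz]; exact hJ.2) hle
      exact (congrArg PrimeSpectrum.asIdeal this).symm.le
  refine ⟨hNdim, hdim, Module.associatedPrimes.minimalPrimes_annihilator_subset_associatedPrimes A N hann,
    fun q hq hle => ?_⟩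
  have hqs : (⟨q, hq.isPrime⟩ : PrimeSpectrum A) ∈ Module.support A N := by
    rw [Module.support_eq_zeroLocus]
    exact le_of_eq_of_le Submodule.annihilator_top.symm (IsAssociatedPrime.annihilator_le hq)
  exact congrArg PrimeSpectrum.asIdeal (hmin _ hqs hle)

end Groth.Agent.S5760
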