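import Groth.Statements.S5783
import Groth.Agent.S2082
import Groth.Agent.PlLib.CMFinite
import Groth.Agent.LC.LiaisonLocal
import Groth.Agent.VarDim.Basic
import Groth.Agent.RegLoc6.Serre

set_option autoImplicit false
universe u
open EGA41

set_option linter.style.haveILetI false
namespace Groth.Agent.S5783

/-- Let A be a regular local ring, B a local ring and ρ : A → B a local homomorphism making B a finitely
generated A-module. Then B is a free A-module if and only if B is a Cohen-Macaulay ring and ρ is
injective (the latter being equivalent to dim(B) = dim(A)). -/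
theorem result (A B : Type u) [CommRing A] [CommRing B]
    [IsRegularLocalRing A] [IsLocalRing B] [Algebra A B] [IsLocalHom (algebraMap A B)] [Module.Finite A B] :
    Module.Free A B ↔ LocCoh.IsCohenMacaulayLocalRing B ∧ Function.Injective (algebraMap A B) := by
  haveI : IsNoetherianRing B := IsNoetherianRing.of_finite A B
  constructor
  · intro hfree
    haveI : Nontrivial B := inferInstance
    refine ⟨?_, FaithfulSMul.algebraMap_injective A B⟩
    haveI : IsRegularRing A := RegLoc6.isRegularRing_of_isRegularLocalRing A
    haveI : LocCoh.IsCohenMacaulayRing A := FlatLoc6.isCM_of_isRegularRing A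
    haveI := PlLib.isCM_of_finite_flat A B
    haveI := LocCoh.IsCohenMacaulayRing.isCohenMacaulayLocalRing_localization (R := B) (IsLocalRing.maximalIdeal B)
    exact LC.Liaison.isCMLocal_of_ringEquiv
      (IsLocalization.atUnits B (IsLocalRing.maximalIdeal B).primeCompl (S := Localization.AtPrime (IsLocalRing.maximalIdeal B))
        (fun x hx => (IsLocalRing.notMem_maximalIdeal).1 hx)).symm.toRingEquiv
  · rintro ⟨hCM, hinj⟩
    haveI := hCM
    haveI : FaithfulSMul A B := (faithfulSMul_iff_algebraMap_injective A B).2 hinj
    let J := (IsLocalRing.maximalIdeal A).map (algebraMap A B)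
    have hJ : J ≠ ⊤ := fun h => (IsLocalRing.maximalIdeal.isMaximal B).ne_top
      (top_le_iff.1 (h ▸ IsLocalRing.map_maximalIdeal_le (algebraMap A B)))
    haveI : Nontrivial (B ⧸ J) := Ideal.Quotient.nontrivial_iff.2 hJ
    letI := Ideal.Quotient.field (IsLocalRing.maximalIdeal A)
    letI : Algebra (A ⧸ IsLocalRing.maximalIdeal A) (B ⧸ J) :=
      (Ideal.quotientMap J (algebraMap A B) Ideal.le_comap_map).toAlgebra
    haveI : IsScalarTower A (A ⧸ IsLocalRing.maximalIdeal A) (B ⧸ J) := IsScalarTower.of_algebraMap_eq fun _ => rfl
    haveI : Module.Finite (A ⧸ IsLocalRing.maximalIdeal A) (B ⧸ J) :=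
      Module.Finite.of_restrictScalars_finite A (A ⧸ IsLocalRing.maximalIdeal A) (B ⧸ J)
    haveI : Module.Flat A B := S2082.result (R := A) (S := B) (by
      rw [VarDim.ringKrullDim_eq_of_isIntegral (R := A) (S := B),
        VarDim.ringKrullDim_eq_of_isIntegral (R := A ⧸ IsLocalRing.maximalIdeal A) (S := B ⧸ J),
        ringKrullDim_eq_zero_of_field, add_zero])
    exact Module.free_of_flat_of_isLocalRing

end Groth.Agent.S5783
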