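import Groth.Statements.S5808
import Groth.Agent.Ega41H93.SemiLocDim

set_option autoImplicit false
universe u
open EGA41

namespace Groth.Agent.S5808

/-- Let A be a semi-local Noetherian ring with spectrum X and Jacobson radical r, and a an ideal of A
distinct from A with codim(V(a), X) = h > 0 (h is the height of a). Then there exist h elements x_1,
..., x_h of a which are part of a system of parameters of A (so lie in r and can be completed by
elements of r to dim(A) elements generating an ideal modulo which A has finite length) and such that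
codim(V(a), V(x_1 A + ... + x_h A)) = 0, i.e. the image of a in A/(x_1 A + ... + x_h A) has height
0. -/
theorem result (A : Type u) [CommRing A] [IsNoetherianRing A]
    [Finite (MaximalSpectrum A)] (a : Ideal A) (ha : a ≠ ⊤) (h : ℕ) (hh : a.height = h) (hpos : 0 < h) :
    ∃ x : Fin h → A, (∀ i, x i ∈ a) ∧ (∀ i, x i ∈ Ring.jacobson A) ∧
      (∃ ys : List A, (∀ y ∈ ys, y ∈ Ring.jacobson A) ∧
        (((h + ys.length : ℕ) : ℕ∞) : WithBot ℕ∞) = ringKrullDim A ∧
        IsFiniteLength A (A ⧸ (Ideal.span (Set.range x) ⊔ Ideal.ofList ys))) ∧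
      (a.map (Ideal.Quotient.mk (Ideal.span (Set.range x)))).height = 0 := by
  obtain ⟨P, hP, hPh⟩ := a.exists_isPrime_height_eq hh |> fun ⟨P, hP, h1, h2⟩ => (⟨P, hP, h1, h2⟩ :
    ∃ P : Ideal A, P.IsPrime ∧ a ≤ P ∧ P.height = h)
  haveI := hP
  haveI : Nontrivial A := ⟨⟨0, 1, fun e => ha (by rw [Ideal.eq_top_iff_one, ← e]; exact zero_mem a)⟩⟩
  obtain ⟨D, hD⟩ := Ega41H93.exists_supportDim_eq_nat' (A := A) A
  obtain ⟨xs, hlen, hmem, hdim, hmin⟩ := Ega41H93.exists_parameters_in_ideal a P hPh.1
    (hh.trans hPh.2.symm) D ((Module.supportDim_self_eq_ringKrullDim A).symm.trans hD) h hPh.2.ge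
  have hjac : ∀ x ∈ xs, x ∈ Ring.jacobson A := fun x hx => (hmem x hx).2
  obtain ⟨ys, hys, hyl, hfl⟩ := (Ega41H93.supportDim_quot_eq_iff_parameters A xs hjac).1 (hdim.trans hD.symm)
  have hrange : Set.range (fun i : Fin h => xs[(i : ℕ)]'(by omega)) = {x | x ∈ xs} := by
    ext x
    constructor
    · rintro ⟨i, rfl⟩
      exact List.getElem_mem _
    · intro hx
      obtain ⟨i, hi, rfl⟩ := List.mem_iff_getElem.1 hx
      exact ⟨⟨i, hlen ▸ hi⟩, rfl⟩
  have hspan : Ideal.span (Set.range fun i : Fin h => xs[(i : ℕ)]'(by omega)) = Ideal.ofList xs := by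
    rw [hrange]
  refine ⟨fun i => xs[(i : ℕ)]'(by omega), fun i => (hmem _ (List.getElem_mem _)).1,
    fun i => hjac _ (List.getElem_mem _), ⟨ys, hys, ?_, ?_⟩, ?_⟩
  · rw [← Module.supportDim_self_eq_ringKrullDim, ← hyl, List.length_append, hlen]
    rfl
  · rw [hspan]
    rw [Ega41H93.isFiniteLength_iff_supportDim_le_zero] at hfl ⊢
    refine le_trans (le_of_eq (Ega41H93.supportDim_congr ?_)) hfl
    exact ((Submodule.quotEquivOfEq _ _ (by simp [Ideal.ofList_append])).support_eq)
  · rw [hspan]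
    have hle : Ideal.ofList xs ≤ P := Ideal.span_le.2 fun x hx => hPh.1 (hmem x hx).1
    obtain ⟨q, hq, hqP⟩ := Ideal.exists_minimalPrimes_le hle
    haveI := hq.1.1
    have hqeq : q = P := by
      by_contra hne
      have h1 := hmin q hq hqP
      have h2 : q.height < P.height := Ideal.height_strict_mono_of_isPrime (lt_of_le_of_ne hqP hne)
      exact absurd (h1.trans_lt (h2.trans_eq hPh.2)) (lt_irrefl _)
    subst hqeq
    let π := Ideal.Quotient.mk (Ideal.ofList xs)
    haveI : (q.map π).IsPrime :=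
      Ideal.map_isPrime_of_surjective Ideal.Quotient.mk_surjective (by rw [Ideal.mk_ker]; exact hle)
    refine nonpos_iff_eq_zero.1 ((Ideal.height_mono (Ideal.map_mono hPh.1)).trans (le_of_eq ?_))
    rw [Ideal.height_eq_zero_iff]
    refine ⟨⟨inferInstance, bot_le⟩, fun J hJ hJle => ?_⟩
    haveI := hJ.1
    have h3 : q ≤ J.comap π := hq.2 ⟨Ideal.IsPrime.comap π, fun r hr => by
      simp [π, Ideal.Quotient.eq_zero_iff_mem.2 hr]⟩ (fun r hr => by
        have h4 : π r ∈ q.map π := hJle hr
        rw [← Ideal.mem_comap, Ideal.comap_map_of_surjective _ Ideal.Quotient.mk_surjective] at h4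
        have h5 : q ⊔ Ideal.comap π ⊥ ≤ q := sup_le le_rfl (by
          rw [← RingHom.ker_eq_comap_bot, Ideal.mk_ker]; exact hle)
        exact h5 h4)
    exact (Ideal.map_mono h3).trans Ideal.map_comap_le

end Groth.Agent.S5808
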