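import Groth.Statements.S5864
import Mathlib.AlgebraicGeometry.Morphisms.Flat
import Mathlib.AlgebraicGeometry.PullbackCarrier
import Mathlib.AlgebraicGeometry.Fiber
import Mathlib.AlgebraicGeometry.Morphisms.UniversallyOpen

set_option autoImplicit false
universe u
open RadPt

set_option linter.style.haveILetI false
namespace Groth.Agent.S5864
open CategoryTheory CategoryTheory.Limits AlgebraicGeometry

theorem mem_genericPoints_iff {U : Type u} [TopologicalSpace U] [T0Space U] [QuasiSober U] {x : U} :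
    x ∈ genericPoints U ↔ ∀ z, z ⤳ x → z = x := by
  refine ⟨fun hx z hz => ?_, fun h => ⟨isIrreducible_singleton.closure, fun T hT hle t ht => ?_⟩⟩
  · have h1 : closure ({x} : Set U) ⊆ closure {z} := specializes_iff_closure_subset.1 hz
    have h2 := hx.2 isIrreducible_singleton.closure h1
    exact ((specializes_iff_closure_subset.2 h2).antisymm hz).eq.symm
  · have hg := hT.isGenericPoint_genericPoint_closure
    have h1 : hT.genericPoint = x := h _ (hg.specializes (subset_closure (hle (subset_closure rfl))))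
    rw [← h1]
    exact (hg.specializes (subset_closure ht)).mem_closure

theorem surjective_residueFieldMap {U V : Scheme.{u}} (i : U ⟶ V) [IsPreimmersion i] (u : U) :
    Function.Surjective (i.residueFieldMap u).hom := by
  intro c
  obtain ⟨s, rfl⟩ := Scheme.residue_surjective U u c
  obtain ⟨t, rfl⟩ := i.stalkMap_surjective u s
  exact ⟨V.residue (i u) t, ConcreteCategory.congr_hom (Scheme.residue_residueFieldMap i u) t⟩

theorem surjective_residueFieldMap_comp {U V W : Scheme.{u}} (σ : U ⟶ V) (h : V ⟶ W) {i : U ⟶ W} (u : U)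
    (hi : Function.Surjective (i.residueFieldMap u).hom) (e : σ ≫ h = i) (c : U.residueField u) :
    ∃ a : W.residueField (h (σ u)), σ.residueFieldMap u (h.residueFieldMap (σ u) a) = c := by
  subst e
  rw [Scheme.residueFieldMap_comp] at hi
  obtain ⟨a, ha⟩ := hi c
  exact ⟨a, ha⟩

theorem exists_preimage_isPullback {P X Y Z : Scheme.{u}} {a : P ⟶ X} {b : P ⟶ Y} {f : X ⟶ Z} {g : Y ⟶ Z}
    (sq : IsPullback a b f g) (x : X) (y : Y) (h : f x = g y) : ∃ w : P, a w = x ∧ b w = y := by
  obtain ⟨v, h1, h2⟩ := Scheme.Pullback.exists_preimage_pullback x y h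
  refine ⟨sq.isoPullback.inv v, ?_, ?_⟩
  · rw [← Scheme.Hom.comp_apply, sq.isoPullback_inv_fst, h1]
  · rw [← Scheme.Hom.comp_apply, sq.isoPullback_inv_snd, h2]

/-- If `κ(f x) = κ(x)`, the fibre of `g` over `f x` surjects onto the points of the base change over `x`. -/
theorem exists_fibreSection {X Y X' Y' : Scheme.{u}} {f : X ⟶ Y} {g : Y' ⟶ Y} {f' : X' ⟶ Y'} {g' : X' ⟶ X}
    (sq : IsPullback g' f' f g) (x : X) (hb : Function.Bijective (f.residueFieldMap x).hom) :
    ∃ σ : g.fiber (f x) ⟶ X', σ ≫ f' = g.fiberι (f x) ∧ ∀ z, g' z = x → ∃ w, σ w = z := by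
  haveI : IsIso (f.residueFieldMap x) := (ConcreteCategory.isIso_iff_bijective _).2 hb
  let e : Y.residueField (f x) ≅ X.residueField x := asIso (f.residueFieldMap x)
  let ξ : Spec (Y.residueField (f x)) ⟶ X := Spec.map e.inv ≫ X.fromSpecResidueField x
  have hξ : ξ ≫ f = Y.fromSpecResidueField (f x) := by
    rw [Category.assoc, ← Scheme.Hom.SpecMap_residueFieldMap_fromSpecResidueField, ← Spec.map_comp_assoc,
      show f.residueFieldMap x ≫ e.inv = 𝟙 _ from e.hom_inv_id, Spec.map_id, Category.id_comp]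
  have hfib : g.fiberι (f x) ≫ g = g.fiberToSpecResidueField (f x) ≫ Y.fromSpecResidueField (f x) :=
    pullback.condition
  let σ := sq.lift (g.fiberToSpecResidueField (f x) ≫ ξ) (g.fiberι (f x)) (by rw [Category.assoc, hξ, hfib])
  have h1 : σ ≫ g' = g.fiberToSpecResidueField (f x) ≫ ξ := sq.lift_fst _ _ _
  have h2 : σ ≫ f' = g.fiberι (f x) := sq.lift_snd _ _ _
  have hsq : IsPullback σ (g.fiberToSpecResidueField (f x)) g' ξ := by
    refine IsPullback.of_right (h₁₂ := f') (v₁₃ := g) (h₂₂ := f) ?_ h1 sq.flip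
    rw [h2, hξ]
    exact IsPullback.of_hasPullback _ _
  refine ⟨σ, h2, fun z hz => ?_⟩
  obtain ⟨w, hw, -⟩ := exists_preimage_isPullback hsq z (IsLocalRing.closedPoint _)
    (hz.trans (X.fromSpecResidueField_apply x _).symm)
  exact ⟨w, hw⟩

/-- Over a point lying over a generic point of `Y`, the base change has one point. -/
theorem eq_of_pullback {X Y X' Y' : Scheme.{u}} {f : X ⟶ Y} {g : Y' ⟶ Y} {f' : X' ⟶ Y'} {g' : X' ⟶ X}
    (sq : IsPullback g' f' f g) (hf : RadPt.IsBirational f) (z₁ z₂ : X') (h : f' z₁ = f' z₂)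
    (hy : g (f' z₁) ∈ genericPoints (Y : Type u)) : z₁ = z₂ := by
  have hcomm : ∀ z : X', f (g' z) = g (f' z) := fun z => by
    rw [← Scheme.Hom.comp_apply, sq.w, Scheme.Hom.comp_apply]
  have hx : g' z₁ = g' z₂ := (hf.2 _ hy).1 _ _ (hcomm z₁) ((hcomm z₂).trans (congrArg g h.symm))
  obtain ⟨σ, hσ, hsurj⟩ := exists_fibreSection sq (g' z₁) ((hf.2 _ hy).2 _ (hcomm z₁))
  obtain ⟨w₁, hw₁⟩ := hsurj z₁ rfl
  obtain ⟨w₂, hw₂⟩ := hsurj z₂ hx.symm
  have hw : g.fiberι (f (g' z₁)) w₁ = g.fiberι (f (g' z₁)) w₂ := by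
    rw [← hσ, Scheme.Hom.comp_apply, Scheme.Hom.comp_apply, hw₁, hw₂, h]
  rw [← hw₁, (g.fiberι _).isEmbedding.injective hw, hw₂]

/-- Let f : X → Y be a morphism of schemes whose induced morphism of reduced schemes is birational (f
maps the maximal points of X bijectively onto those of Y, with one-point fibres and trivial residue
field extensions over the maximal points of Y), g : Y' → Y a flat morphism and f' : X ×_Y Y' → Y'
the base change (any cartesian square). Then the morphism of reduced schemes induced by f' is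
birational in the same sense. -/
theorem result {X Y X' Y' : Scheme.{u}} {f : X ⟶ Y} {g : Y' ⟶ Y} [Flat g] {f' : X' ⟶ Y'} {g' : X' ⟶ X}
    (sq : IsPullback g' f' f g) (hf : RadPt.IsBirational f) : RadPt.IsBirational f' := by
  haveI hgflat : Flat g' := MorphismProperty.IsStableUnderBaseChange.of_isPullback sq.flip inferInstance
  have hg : GeneralizingMap g := Flat.generalizingMap g
  have hg' : GeneralizingMap g' := Flat.generalizingMap g'
  have hcomm : ∀ z : X', f (g' z) = g (f' z) := fun z => by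
    rw [← Scheme.Hom.comp_apply, sq.w, Scheme.Hom.comp_apply]
  -- generic points go to generic points along flat maps
  have hgen : ∀ {U V : Scheme.{u}} (q : U ⟶ V), GeneralizingMap q → ∀ u ∈ genericPoints (U : Type u),
      q u ∈ genericPoints (V : Type u) := by
    intro U V q hq u hu
    refine mem_genericPoints_iff.2 fun v hv => ?_
    obtain ⟨w, hw, rfl⟩ := hq hv
    rw [mem_genericPoints_iff.1 hu w hw]
  have hex : ∀ y' ∈ genericPoints (Y' : Type u), ∃ z : X', f' z = y' ∧ f (g' z) ∈ genericPoints (Y : Type u) := by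
    intro y' hy'
    have hy := hgen g hg y' hy'
    obtain ⟨x, -, hx⟩ := hf.1.surjOn hy
    obtain ⟨z, hzx, hzy⟩ := exists_preimage_isPullback sq x y' hx
    exact ⟨z, hzy, by rw [hcomm, hzy]; exact hy⟩
  have hmax : ∀ z : X', f' z ∈ genericPoints (Y' : Type u) → z ∈ genericPoints (X' : Type u) := by
    intro z hz
    refine mem_genericPoints_iff.2 fun z₁ h₁ => ?_
    have h2 : f' z₁ = f' z := mem_genericPoints_iff.1 hz _ (h₁.map f'.continuous)
    exact eq_of_pullback sq hf z₁ z h2 (h2.symm ▸ hgen g hg _ hz)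
  have hdown : ∀ z ∈ genericPoints (X' : Type u), f' z ∈ genericPoints (Y' : Type u) := by
    intro z hz
    have hy : g (f' z) ∈ genericPoints (Y : Type u) := hcomm z ▸ hf.1.mapsTo (hgen g' hg' z hz)
    refine mem_genericPoints_iff.2 fun y'' h'' => ?_
    have hy'' : g y'' = g (f' z) := mem_genericPoints_iff.1 hy _ (h''.map g.continuous)
    obtain ⟨σ, hσ, hsurj⟩ := exists_fibreSection sq (g' z) ((hf.2 _ hy).2 _ (hcomm z))
    obtain ⟨w, hwz⟩ := hsurj z rfl
    have hw : g.fiberι (f (g' z)) w = f' z := by rw [← hσ, Scheme.Hom.comp_apply, hwz]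
    obtain ⟨w'', hw''⟩ : y'' ∈ Set.range (g.fiberι (f (g' z))) := by
      rw [Scheme.Hom.range_fiberι]; exact hy''.trans (hcomm z).symm
    have hsp : w'' ⤳ w := (g.fiberι (f (g' z))).isEmbedding.isInducing.specializes_iff.1 (by rw [hw'', hw]; exact h'')
    have h3 : σ w'' = z := mem_genericPoints_iff.1 hz _ ((congrArg (fun q => σ w'' ⤳ q) hwz).mp (hsp.map σ.continuous))
    rw [← hw'', ← hσ, Scheme.Hom.comp_apply, h3]
  refine ⟨⟨fun z hz => hdown z hz, fun z₁ hz₁ z₂ hz₂ h12 => ?_, fun y' hy' => ?_⟩, fun y' hy' => ⟨?_, ?_⟩⟩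
  · exact eq_of_pullback sq hf z₁ z₂ h12 (hgen g hg _ (hdown z₁ hz₁))
  · obtain ⟨z, hz, -⟩ := hex y' hy'
    exact ⟨z, hmax z (by rw [hz]; exact hy'), hz⟩
  · rintro z₁ z₂ h1 rfl
    exact eq_of_pullback sq hf z₁ z₂ h1 (h1.symm ▸ hgen g hg _ hy')
  · rintro z rfl
    have hy : g (f' z) ∈ genericPoints (Y : Type u) := hgen g hg _ hy'
    obtain ⟨σ, hσ, hsurj⟩ := exists_fibreSection sq (g' z) ((hf.2 _ hy).2 _ (hcomm z))
    obtain ⟨w, hwz⟩ := hsurj z rfl
    have hb : Function.Surjective (f'.residueFieldMap (σ w)).hom := fun c => by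
      obtain ⟨a, ha⟩ := surjective_residueFieldMap_comp σ f' w (surjective_residueFieldMap (g.fiberι (f (g' z))) w)
        hσ (σ.residueFieldMap w c)
      exact ⟨a, (σ.residueFieldMap w).hom.injective ha⟩
    exact (congrArg (fun q => Function.Bijective (f'.residueFieldMap q).hom) hwz).mp
      ⟨(f'.residueFieldMap (σ w)).hom.injective, hb⟩

end Groth.Agent.S5864
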