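import Groth.Statements.S5912
import Groth.Agent.FlatJadic.Topology
-- import your own Groth.Agent.* helpers here

set_option autoImplicit false
universe u
open TensorProduct
open EGA43

namespace Groth.Agent.S5912

/-- Let A be a Noetherian ring, J an ideal of A and M an A-module which is ideally separated for the
J-adic topology (for every ideal a of A the module a ⊗_A M is J-adically separated), and suppose
every quotient J^k/J^{k+1} is a flat (A/J)-module (the associated graded ring of A along J is flat
over A/J). Then M is flat if and only if (A/J) ⊗_A M is flat over A/J and M_p is flat over A_p for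
every associated prime p of the A-module A/J. -/
theorem result {A : Type u} [CommRing A] [IsNoetherianRing A]
    (J : Ideal A) (M : Type u) [AddCommGroup M] [Module A M]
    (hsep : ∀ a : Ideal A, IsHausdorff J (↥a ⊗[A] M))
    (hgr : ∀ k : ℕ, Module.Flat (A ⧸ J) ((A ⧸ J) ⊗[A] ↥(J ^ k))) :
    Module.Flat A M ↔
      Module.Flat (A ⧸ J) ((A ⧸ J) ⊗[A] M) ∧
        ∀ q : associatedPrimes A (A ⧸ J),
          haveI : q.1.IsPrime := IsAssociatedPrime.isPrime q.2
          Module.Flat (Localization.AtPrime q.1) (LocalizedModule q.1.primeCompl M) := by
  constructor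
  · intro h
    exact ⟨inferInstance, fun q => inferInstance⟩
  · rintro ⟨h1, h2⟩
    have : Finite (associatedPrimes A (A ⧸ J)) := (associatedPrimes.finite A (A ⧸ J)).to_subtype
    refine Groth.Agent.FlatJadic.flat_of_isHausdorff J M hsep
      (fun q : associatedPrimes A (A ⧸ J) => q.1) (fun q => ?_) (fun n => ?_) (fun q => h2 q)
    · obtain ⟨hp, x, hx⟩ := q.2
      intro a ha
      rw [hx]
      refine Ideal.le_radical ?_
      obtain ⟨x, rfl⟩ := Ideal.Quotient.mk_surjective x
      rw [Submodule.mem_colon_singleton, Submodule.mem_bot, Algebra.smul_def, Ideal.Quotient.algebraMap_eq,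
        ← map_mul, Ideal.Quotient.eq_zero_iff_mem]
      exact J.mul_mem_right _ ha
    · exact Groth.Agent.FlatJadic.exists_iInf_symbolic_le J n
        (Groth.Agent.FlatJadic.associatedPrimes_quotient_pow_subset J hgr n)

end Groth.Agent.S5912
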