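import Groth.Statements.S5947
import Groth.Agent.Synt29.OmegaExtend

set_option autoImplicit false
universe u
open CategoryTheory AlgebraicGeometry TopologicalSpace
open Nrm16

namespace Groth.Agent.S5947

/-- An element as a global section. -/
noncomputable def topM {B : Type u} [CommRing B] (M : ModuleCat (CommRingCat.of B)) :
    M →+ Γ(tilde M, ⊤) where
  toFun z := (tilde.isoTop M).hom z
  map_zero' := map_zero (tilde.isoTop M).hom.hom
  map_add' := map_add (tilde.isoTop M).hom.hom

theorem topM_bijective {B : Type u} [CommRing B] (M : ModuleCat (CommRingCat.of B)) :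
    Function.Bijective (topM M) :=
  ConcreteCategory.bijective_of_isIso (tilde.isoTop M).hom

theorem top_smul {B : Type u} [CommRing B] (M : ModuleCat (CommRingCat.of B)) (b : B) (z : M) :
    topM M (b • z) = OmAff.toΓ B b • topM M z := by
  refine ((tilde.isoTop M).hom.hom.map_smul b z).trans ?_
  exact congrArg (fun c : Γ(Spec (CommRingCat.of B), ⊤) => c • topM M z)
    (Groth.Agent.OmegaLib.toΓ_res B b)

open Groth.Agent.Synt29.OmegaStalk in
/-- Let A be a commutative ring, B an A-algebra and L a B-module; put S = Spec A, X = Spec B and let F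
be the O_X-module associated with L. For an S-derivation D of O_X into F write Γ(D) : B → L for its
effect on global sections (global sections of O_X and of F being identified with B and L by the
canonical isomorphisms). Then D ↦ Γ(D) is a bijection from the set of S-derivations of O_X into F
onto the set of A-derivations of B into L: every Γ(D) is an A-derivation, and every A-derivation of
B into L is Γ(D) for exactly one D. (The published statement asserts an isomorphism of B-modules; no
module structure is placed on sheaf derivations here, so this row states the bijection.) -/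
theorem result (A B : Type u) [CommRing A] [CommRing B] [Algebra A B]
    (L : Type u) [AddCommGroup L] [Module B L] [Module A L] [IsScalarTower A B L] :
    (∀ D : OmegaSh.Der (Spec.map (CommRingCat.ofHom (algebraMap A B))) (tilde (ModuleCat.of (CommRingCat.of B) L)),
      ∃ δ : Derivation A B L, ∀ t : B, D.app ⊤ ((Scheme.ΓSpecIso (CommRingCat.of B)).inv t) =
        (tilde.isoTop (ModuleCat.of (CommRingCat.of B) L)).hom (δ t)) ∧
    ∀ δ : Derivation A B L,
      ∃! D : OmegaSh.Der (Spec.map (CommRingCat.ofHom (algebraMap A B))) (tilde (ModuleCat.of (CommRingCat.of B) L)),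
        ∀ t : B, D.app ⊤ ((Scheme.ΓSpecIso (CommRingCat.of B)).inv t) =
          (tilde.isoTop (ModuleCat.of (CommRingCat.of B) L)).hom (δ t) := by
  let M := ModuleCat.of (CommRingCat.of B) L
  have inj : Function.Injective (topM M) := (topM_bijective M).1
  have hs : ∀ (b : B) (z : L), topM M (b • z) = OmAff.toΓ B b • topM M z := fun b z => top_smul M b z
  constructor
  · intro D
    let η : B →+ L := ((AddEquiv.ofBijective _ (topM_bijective M)).symm.toAddMonoidHom).comp
      ((D.app ⊤).comp (OmAff.toΓ B).toAddMonoidHom)
    have hη : ∀ b, topM M (η b) = D.app ⊤ (OmAff.toΓ B b) := fun b =>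
      (AddEquiv.ofBijective _ (topM_bijective M)).apply_symm_apply _
    have hmul : ∀ a b : B, η (a * b) = a • η b + b • η a := fun a b => inj <| by
      refine (hη _).trans (Eq.trans ?_ (map_add (topM M) _ _).symm)
      rw [hs, hs, hη, hη, map_mul]
      exact app_mul _ D ⊤ _ _
    have hbase : ∀ a : A, η (algebraMap A B a) = 0 := fun a => inj <| by
      refine (hη _).trans (Eq.trans ?_ (map_zero (topM M)).symm)
      rw [← OmAff.appTop_toΓ]
      exact app_base _ D ⊤ (OmAff.toΓ A a)
    refine ⟨Derivation.mk' { toFun := η, map_add' := map_add η, map_smul' := fun a b => ?_ } hmul,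
      fun b => (hη b).symm⟩
    show η (a • b) = a • η b
    rw [Algebra.smul_def, hmul, hbase, smul_zero, add_zero, algebraMap_smul]
  · intro δ
    have e : ∀ c : B, (Scheme.ΓSpecIso (CommRingCat.of B)).hom.hom (OmAff.toΓ B c) = c :=
      fun c => (Scheme.ΓSpecIso (CommRingCat.of B)).inv_hom_id_apply c
    let η : Γ(Spec (CommRingCat.of B), ⊤) →+ Γ(tilde M, ⊤) := (topM M).comp
      (δ.toLinearMap.toAddMonoidHom.comp
        (Scheme.ΓSpecIso (CommRingCat.of B)).hom.hom.toAddMonoidHom)
    have hη : ∀ b, η (OmAff.toΓ B b) = topM M (δ b) := fun b =>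
      congrArg (fun u => topM M (δ u)) (e b)
    obtain ⟨D, hD⟩ := exists_der_of_top (Spec.map (CommRingCat.ofHom (algebraMap A B))) (tilde M) η
      (fun x y => by
        obtain ⟨a, rfl⟩ := toΓ_surjective B x
        obtain ⟨b, rfl⟩ := toΓ_surjective B y
        rw [← map_mul, hη, hη, hη, δ.leibniz]
        refine (map_add (topM M) _ _).trans ?_
        exact congrArg₂ (· + ·) (hs a (δ b)) (hs b (δ a)))
      (fun c => by
        obtain ⟨a, rfl⟩ := toΓ_surjective A c
        rw [OmAff.appTop_toΓ, hη, δ.map_algebraMap]
        exact map_zero (topM M))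
    have hDt : ∀ b : B, D.app ⊤ ((Scheme.ΓSpecIso (CommRingCat.of B)).inv b) = topM M (δ b) := by
      intro b
      rw [hD]
      exact hη b
    refine ⟨D, hDt, fun E hE => der_ext_top fun s => ?_⟩
    obtain ⟨b, rfl⟩ := toΓ_surjective B s
    exact (hE b).trans (hDt b).symm

end Groth.Agent.S5947
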