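import Groth.Statements.S5999
import Groth.Agent.SchDesc82.Jacobian

set_option autoImplicit false
universe u
open SGA1

namespace Groth.Agent.S5999

open TensorProduct in
/-- Let R be a Noetherian ring, A an R-algebra of finite type, F an element of A, P a prime ideal of
A/(F) and q its preimage in A, and suppose A is smooth over R at q. Then the hypersurface A/(F) is
smooth over R at P if and only if either F is zero in the local ring A_q (F vanishes on a
neighbourhood of q) or the image dF(q) of the differential of F in κ(q) ⊗_A Ω_{A/R} is nonzero. -/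
theorem result
    (R A : Type u) [CommRing R] [CommRing A] [IsNoetherianRing R] [Algebra R A] [Algebra.FiniteType R A]
    (F : A) (P : Ideal (A ⧸ Ideal.span ({F} : Set A))) [P.IsPrime]
    (hX : Algebra.IsSmoothAt R (P.comap (Ideal.Quotient.mk (Ideal.span ({F} : Set A))))) :
    letI q : Ideal A := P.comap (Ideal.Quotient.mk (Ideal.span ({F} : Set A)))
    Algebra.IsSmoothAt R P ↔ algebraMap A (Localization.AtPrime q) F = 0 ∨
      (1 : q.ResidueField) ⊗ₜ[A] KaehlerDifferential.D R A F ≠ 0 := by
  let q : Ideal A := P.comap (Ideal.Quotient.mk (Ideal.span ({F} : Set A)))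
  classical
  have : IsNoetherianRing A := Algebra.FiniteType.isNoetherianRing R A
  constructor
  · intro hP
    obtain ⟨ψ, hψ, h⟩ := Groth.Agent.SchDesc82.Jacobian.isSmoothAt_iff (R := R) (Ideal.span ({F} : Set A)) P
    refine or_iff_not_imp_left.2 fun hF hd => hF ?_
    have hFJ := Groth.Agent.SchDesc82.Jacobian.algebraMap_mem (Ideal.span ({F} : Set A)) P
      (Ideal.mem_span_singleton_self F)
    let J := Ideal.map (algebraMap A (Localization.AtPrime q)) (Ideal.span ({F} : Set A))
    have h0 : (1 : q.ResidueField) ⊗ₜ[Localization.AtPrime q] (⟨algebraMap A _ F, hFJ⟩ : J) = 0 :=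
      h.1 hP (by rw [hψ F hFJ, map_zero]; exact hd)
    have hbot : Submodule.span (Localization.AtPrime q) {(⟨algebraMap A _ F, hFJ⟩ : J)} = ⊤ := by
      rw [eq_top_iff]
      rintro ⟨y, hy⟩ -
      have hy' : y ∈ Ideal.span {algebraMap A (Localization.AtPrime q) F} := by
        rwa [← Set.image_singleton, ← Ideal.map_span]
      obtain ⟨c, rfl⟩ := Ideal.mem_span_singleton'.1 hy'
      exact Submodule.mem_span_singleton.2 ⟨c, Subtype.ext rfl⟩
    have : Subsingleton (q.ResidueField ⊗[Localization.AtPrime q] J) := by
      refine subsingleton_of_forall_eq 0 fun t => ?_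
      induction t using TensorProduct.induction_on with
      | zero => rfl
      | add a b ha hb => rw [ha, hb, add_zero]
      | tmul k z =>
        obtain ⟨c, rfl⟩ := Submodule.mem_span_singleton.1 (hbot ▸ trivial : z ∈ Submodule.span (Localization.AtPrime q) {(⟨algebraMap A _ F, hFJ⟩ : J)})
        rw [TensorProduct.tmul_smul, show k ⊗ₜ[Localization.AtPrime q] (⟨algebraMap A _ F, hFJ⟩ : J) =
          k • ((1 : q.ResidueField) ⊗ₜ[Localization.AtPrime q] (⟨algebraMap A _ F, hFJ⟩ : J)) by
            rw [TensorProduct.smul_tmul', smul_eq_mul, mul_one], h0, smul_zero, smul_zero]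
    have : Subsingleton J := IsLocalRing.subsingleton_tensorProduct.1 this
    exact congrArg Subtype.val (Subsingleton.elim (⟨algebraMap A _ F, hFJ⟩ : J) 0)
  · rintro (hF | hd)
    · refine Groth.Agent.SchDesc82.Jacobian.isSmoothAt_of_linearIndependent _ P ∅ (by simp) ?_ ?_
      · rw [Ideal.map_span, Set.image_singleton, hF]
        simp
      · exact linearIndependent_empty_type
    · refine Groth.Agent.SchDesc82.Jacobian.isSmoothAt_of_linearIndependent _ P {F} (by simp) ?_ ?_
      · rw [Ideal.map_span, Finset.coe_singleton]
      · rw [Fintype.linearIndependent_iff]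
        intro c hc g
        rw [Fintype.sum_eq_single g (fun y hy => absurd (Subtype.ext
          ((Finset.mem_singleton.1 y.2).trans (Finset.mem_singleton.1 g.2).symm)) hy)] at hc
        rcases smul_eq_zero.1 hc with h | h
        · exact h
        · rw [Finset.mem_singleton.1 g.2] at h
          exact absurd h hd

end Groth.Agent.S5999
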