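import Groth.Statements.S6008
import Mathlib
import Groth.Agent.GrpSchLib.GaPts
import Groth.Agent.HTop83.DSExact
import Groth.Agent.EtLC12.ArtinSchreier

set_option autoImplicit false
universe u
open CategoryTheory AlgebraicGeometry MonoidalCategory CartesianMonoidalCategory MonObj GrpObj
open SGA1t

namespace Groth.Agent.S6008

noncomputable section

open CategoryTheory.Limits Groth.Agent.GrpSchLib

variable {S : Scheme.{u}}

lemma gaFn_inv {T : Over S} (x : T ⟶ Red.Ga S) : Red.gaFn x⁻¹ = - Red.gaFn x := by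
  rw [eq_neg_iff_add_eq_zero, ← GaPts.gaFn_mul, inv_mul_cancel, GaPts.gaFn_one]

/-- A piece of a scheme over `S`. -/
abbrev piece (T : Over S) (W : T.left.Opens) : Over S := Over.mk (W.ι ≫ T.hom)

/-- Its inclusion. -/
abbrev pieceι (T : Over S) (W : T.left.Opens) : piece T W ⟶ T := Over.homMk W.ι rfl

lemma ext_of_cover {T K : Over S} {κ : Type*} (W : κ → T.left.Opens) (hW : ∀ t, ∃ i, t ∈ W i)
    {a b : T ⟶ K} (h : ∀ i, pieceι T (W i) ≫ a = pieceι T (W i) ≫ b) : a = b := by
  refine Over.OverMorphism.ext (Scheme.Cover.hom_ext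
    (Scheme.openCoverOfIsOpenCover T.left (fun t : T.left => W (hW t).choose)
      (eq_top_iff.mpr fun t _ => TopologicalSpace.Opens.mem_iSup.mpr ⟨t, (hW t).choose_spec⟩)) _ _
    fun t => ?_)
  exact congrArg CommaMorphism.left (h (hW t).choose)

/-- The preimage of the copy of index `m`. -/
abbrev copyOpen {M : Type} [Small.{u} M] {T : Over S} (x : T ⟶ TwC.const S M) (m : M) : T.left.Opens :=
  x.left ⁻¹ᵁ (Sigma.ι (fun _ : M => S) m).opensRange

lemma exists_mem_copyOpen {M : Type} [Small.{u} M] {T : Over S} (x : T ⟶ TwC.const S M) (t : T.left) :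
    ∃ m, t ∈ copyOpen x m := by
  obtain ⟨m, y, hy⟩ := (sigmaOpenCover (fun _ : M => S)).exists_eq (x.left t)
  exact ⟨m, y, hy⟩

lemma pieceι_comp_of_le {M : Type} [Small.{u} M] {T : Over S} (x : T ⟶ TwC.const S M) (m : M)
    (W : T.left.Opens) (hW : W ≤ copyOpen x m) :
    pieceι T W ≫ x = toUnit _ ≫ TwC.pt S M m := by
  have hsub : Set.range (W.ι ≫ x.left) ⊆ Set.range (Sigma.ι (fun _ : M => S) m) := by
    rintro _ ⟨⟨t, ht⟩, rfl⟩
    exact hW ht
  have hfac := IsOpenImmersion.lift_fac (Sigma.ι (fun _ : M => S) m) (W.ι ≫ x.left) hsub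
  refine Over.OverMorphism.ext ?_
  have h1 : IsOpenImmersion.lift (Sigma.ι (fun _ : M => S) m) (W.ι ≫ x.left) hsub = W.ι ≫ T.hom := by
    have hw : x.left ≫ Sigma.desc (fun _ : M => 𝟙 S) = T.hom := Over.w x
    have h := congrArg (fun f => f ≫ Sigma.desc (fun _ : M => 𝟙 S)) hfac
    simp only [Category.assoc, Sigma.ι_desc, Category.comp_id] at h
    rw [← hw]
    exact h
  have h2 : (toUnit (piece T W)).left = W.ι ≫ T.hom :=
    (Category.comp_id _).symm.trans (Over.w (toUnit (piece T W)))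
  rw [Over.comp_left, Over.comp_left, h2, ← h1]
  exact hfac.symm

variable (p : ℕ) [Fact p.Prime] {G' : Over S}
  (e : G' ≅ TwC.const S (Multiplicative (ZMod p))) (i : G' ⟶ Red.Ga S)

/-- The values of `i` on the constant points are the prime field. -/
def Norm : Prop :=
  ∀ m : ZMod p, Red.gaFn (TwC.pt S (Multiplicative (ZMod p)) (Multiplicative.ofAdd m) ≫ e.inv ≫ i) =
    (m.val : Γ((𝟙_ (Over S)).left, ⊤))

variable {p e i}

lemma gaFn_piece (hn : Norm p e i) {T : Over S} (k : T ⟶ G') (m : Multiplicative (ZMod p))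
    (W : T.left.Opens) (hW : W ≤ copyOpen (k ≫ e.hom) m) :
    W.ι.appTop (Red.gaFn (k ≫ i)) = ((Multiplicative.toAdd m).val : Γ(W, ⊤)) := by
  have h := pieceι_comp_of_le (k ≫ e.hom) m W hW
  have h2 : pieceι T W ≫ k ≫ i = toUnit _ ≫ TwC.pt S _ m ≫ e.inv ≫ i := by
    rw [← Category.assoc (toUnit _), ← h]
    simp
  have h3 := GaPts.gaFn_comp (pieceι T W) (k ≫ i)
  have h4 := GaPts.gaFn_comp (toUnit (piece T W))
    (TwC.pt S (Multiplicative (ZMod p)) m ≫ e.inv ≫ i)
  rw [h2, h4] at h3
  have h5 := hn (Multiplicative.toAdd m)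
  rw [ofAdd_toAdd] at h5
  rw [h5, map_natCast] at h3
  exact h3.symm

lemma natCast_eq_zero (hp : (p : Γ(S, ⊤)) = 0) (T : Over S) : (p : Γ(T.left, ⊤)) = 0 := by
  rw [← map_natCast T.hom.appTop.hom, hp, map_zero]

lemma val_inj {R : Type*} [CommRing R] [Nontrivial R] (hpR : (p : R) = 0) {a b : ZMod p}
    (h : (a.val : R) = (b.val : R)) : a = b := by
  haveI : CharP R p := (CharP.charP_iff_prime_eq_zero Fact.out).mpr hpR
  rw [ZMod.natCast_val, ZMod.natCast_val] at h
  exact (ZMod.castHom (dvd_refl p) R).injective h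

/-- `i` is a monomorphism. -/
lemma inj_of_norm (hp : (p : Γ(S, ⊤)) = 0) (hn : Norm p e i) {T : Over S} {k k' : T ⟶ G'}
    (h : k ≫ i = k' ≫ i) : k = k' := by
  refine (cancel_mono e.hom).mp (ext_of_cover (fun m => copyOpen (k ≫ e.hom) m)
    (exists_mem_copyOpen _) fun m => ?_)
  have hle : copyOpen (k ≫ e.hom) m ≤ copyOpen (k' ≫ e.hom) m := by
    intro t ht
    obtain ⟨n, hn'⟩ := exists_mem_copyOpen (k' ≫ e.hom) t
    let W := copyOpen (k ≫ e.hom) m ⊓ copyOpen (k' ≫ e.hom) n
    let z : W.toScheme := ⟨t, ht, hn'⟩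
    have : Nontrivial Γ((piece T W).left, ⊤) :=
      ((W.toScheme.residue z).hom.comp (W.toScheme.presheaf.germ ⊤ z trivial).hom).domain_nontrivial
    have h1 := gaFn_piece hn k m W inf_le_left
    rw [h, gaFn_piece hn k' n W inf_le_right] at h1
    have h2 : n = m := Multiplicative.toAdd.injective
      (val_inj (natCast_eq_zero hp (piece T W)) h1)
    exact h2 ▸ hn'
  exact (pieceι_comp_of_le (k ≫ e.hom) m _ le_rfl).trans (pieceι_comp_of_le (k' ≫ e.hom) m _ hle).symm

/-- Roots of `v ^ p = v` come from the constant group. -/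
lemma exists_lift_of_norm (hp : (p : Γ(S, ⊤)) = 0) (hn : Norm p e i) {T : Over S}
    (d : T ⟶ Red.Ga S) (hd : Red.gaFn d ^ p = Red.gaFn d) : ∃ k : T ⟶ G', k ≫ i = d := by
  classical
  let v := Red.gaFn d
  let ε : ZMod p → Γ(T.left, ⊤) := fun m => 1 - (v - m.val) ^ (p - 1)
  let W : ZMod p → T.left.Opens := fun m => T.left.basicOpen (ε m)
  have hkill : ∀ m, (v - m.val) * ε m = 0 := by
    intro m
    have hp0 := natCast_eq_zero hp T
    obtain ⟨r, hr⟩ := exists_add_pow_prime_eq (Fact.out : p.Prime) (v - m.val) (m.val : Γ(T.left, ⊤))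
    have hmm : ∀ a : ℕ, (a : Γ(T.left, ⊤)) ^ p = a := by
      intro a
      induction a with
      | zero => simp [zero_pow (Fact.out : p.Prime).ne_zero]
      | succ a ih =>
        obtain ⟨r, hr⟩ := exists_add_pow_prime_eq (Fact.out : p.Prime) (a : Γ(T.left, ⊤)) 1
        rw [Nat.cast_succ, hr, ih, hp0]; simp
    rw [sub_add_cancel, hd, hmm, hp0] at hr
    have : (v - m.val) ^ p = v - m.val := by linear_combination -hr
    show (v - _) * (1 - _) = 0
    rw [mul_sub, _root_.mul_one, ← pow_succ', Nat.sub_add_cancel (Fact.out : p.Prime).one_le, this, sub_self]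
  have hval : ∀ m, (W m).ι.appTop v = ((m.val : ℕ) : Γ(W m, ⊤)) := by
    intro m
    have hu : IsUnit ((W m).ι.appTop (ε m)) := by
      have h1 := T.left.toRingedSpace.isUnit_res_basicOpen (ε m)
      have h2 := h1.map (W m).topIso.inv.hom
      rw [Scheme.Opens.ι_appTop]
      convert h2 using 1
      simp [Scheme.Opens.topIso]
      erw [← ConcreteCategory.comp_apply, ← Functor.map_comp]
      rfl
    have h3 := congrArg (W m).ι.appTop.hom (hkill m)
    rw [map_mul, map_zero] at h3
    have h4 := hu.mul_left_eq_zero.mp h3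
    rwa [map_sub, map_natCast, sub_eq_zero] at h4
  have hcov : ∀ t, ∃ m, t ∈ W m := by
    intro t
    let ev : Γ(T.left, ⊤) →+* T.left.residueField t :=
      (T.left.residue t).hom.comp (T.left.presheaf.germ ⊤ t trivial).hom
    have hpκ : (p : T.left.residueField t) = 0 := by
      rw [← map_natCast ev, natCast_eq_zero hp T, map_zero]
    haveI : CharP (T.left.residueField t) p := (CharP.charP_iff_prime_eq_zero Fact.out).mpr hpκ
    obtain ⟨m, hm⟩ : ∃ m : ZMod p, ZMod.castHom (dvd_refl p) _ m = ev v := by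
      obtain ⟨m, hm⟩ := EtLC12.ArtinSchreier.exists_eq_φ p hpκ (ev v) (by rw [← map_pow, hd])
      exact ⟨m, by rw [← hm]; exact congr($(RingHom.ext_zmod _ _) m)⟩
    refine ⟨m, (T.left.mem_basicOpen_top _ t).mpr ?_⟩
    by_contra hnu
    have h0 : ev (ε m) = 0 := (IsLocalRing.residue_eq_zero_iff _).mpr hnu
    rw [map_sub, map_one, map_pow, map_sub, map_natCast, ← hm,
      ZMod.natCast_val, ← ZMod.castHom_apply (h := dvd_refl p), sub_self,
      zero_pow (Nat.sub_ne_zero_of_lt (Fact.out : p.Prime).one_lt), sub_zero] at h0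
    exact one_ne_zero h0
  let kl : ∀ m, piece T (W m) ⟶ G' := fun m =>
    toUnit _ ≫ TwC.pt S (Multiplicative (ZMod p)) (Multiplicative.ofAdd m) ≫ e.inv
  have hkl : ∀ m, kl m ≫ i = pieceι T (W m) ≫ d := by
    intro m
    apply GaPts.gaFn_injective
    show Red.gaFn (kl m ≫ i) = Red.gaFn (pieceι T (W m) ≫ d)
    simp only [kl, Category.assoc]
    rw [GaPts.gaFn_comp, hn m, GaPts.gaFn_comp]
    exact (map_natCast _ _).trans (hval m).symm
  let 𝒰 := Scheme.openCoverOfIsOpenCover T.left (fun t : T.left => W (hcov t).choose)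
    (eq_top_iff.mpr fun t _ => TopologicalSpace.Opens.mem_iSup.mpr ⟨t, (hcov t).choose_spec⟩)
  let f : ∀ j : 𝒰.I₀, 𝒰.X j ⟶ G'.left := fun j => (kl (hcov j).choose).left
  have hf : ∀ a b : 𝒰.I₀, pullback.fst (𝒰.f a) (𝒰.f b) ≫ f a = pullback.snd (𝒰.f a) (𝒰.f b) ≫ f b := by
    intro a b
    let Y : Over S := Over.mk (pullback.fst (𝒰.f a) (𝒰.f b) ≫ 𝒰.f a ≫ T.hom)
    let u₁ : Y ⟶ piece T (W (hcov a).choose) := Over.homMk (pullback.fst (𝒰.f a) (𝒰.f b)) rfl
    let u₂ : Y ⟶ piece T (W (hcov b).choose) := Over.homMk (pullback.snd (𝒰.f a) (𝒰.f b))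
      ((Category.assoc _ _ _).symm.trans (congrArg (· ≫ T.hom) pullback.condition.symm) |>.trans
        (Category.assoc _ _ _))
    have : u₁ ≫ kl _ = u₂ ≫ kl _ := by
      refine inj_of_norm hp hn ?_
      have e1 : u₁ ≫ pieceι T _ = u₂ ≫ pieceι T _ := Over.OverMorphism.ext pullback.condition
      exact ((Category.assoc _ _ _).trans (congrArg (u₁ ≫ ·) (hkl _))).trans
        (((Category.assoc _ _ _).symm.trans ((congrArg (· ≫ d) e1).trans (Category.assoc _ _ _))).trans
          ((Category.assoc _ _ _).trans (congrArg (u₂ ≫ ·) (hkl _))).symm)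
    exact congrArg CommaMorphism.left this
  have hw : 𝒰.glueMorphisms f hf ≫ G'.hom = T.hom := by
    refine Scheme.Cover.hom_ext 𝒰 _ _ fun j => ?_
    rw [Scheme.Cover.ι_glueMorphisms_assoc]
    exact Over.w (kl (hcov j).choose)
  refine ⟨Over.homMk (𝒰.glueMorphisms f hf) hw, ext_of_cover (fun t => W (hcov t).choose)
    (fun t => ⟨t, (hcov t).choose_spec⟩) fun t => ?_⟩
  rw [← hkl, ← Category.assoc]
  congr 1
  exact Over.OverMorphism.ext (Scheme.Cover.ι_glueMorphisms 𝒰 f hf t)

end


set_option maxHeartbeats 1600000 in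
/-- Let p be a prime and S a scheme of characteristic p (p = 0 in the ring of global functions). Let F
be the Frobenius endomorphism of the additive group over S, the S-endomorphism which raises the
coordinate function of every point to the p-th power, and let P be the difference of the identity
and F in the group of endomorphisms (on points x ↦ x − x^p). Let G' be the constant S-group (Z/p)_S:
an S-group together with an isomorphism of S-schemes e from G' to the disjoint union of copies of S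
indexed by Z/p, under which the S-points of indices m and n multiply to the S-point of index m + n;
and let i : G' → G_a be the homomorphism of S-groups which sends the S-point of index 1 to the point
whose coordinate is the unit global function. Then the Artin-Schreier sequence 1 → (Z/p)_S → G_a →
G_a → 1 is exact for the fpqc topology: i and P are homomorphisms with trivial composite, (x, g) ↦
(x, x + i(g)) identifies G_a ×_S G' with the fibre product of P with itself (so that i is a kernel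
of P), and P acquires sections on the members of some fpqc covering family of its target. -/
theorem result (p : ℕ) [Fact p.Prime] {S : Scheme.{u}}
    (hp : (p : Γ(S, ⊤)) = 0) (F : Red.Ga S ⟶ Red.Ga S)
    (hF : ∀ (T : Over S) (x : T ⟶ Red.Ga S), Red.gaFn (x ≫ F) = Red.gaFn x ^ p)
    {G' : Over S} [GrpObj G'] (e : G' ≅ TwC.const S (Multiplicative (ZMod p)))
    (he : TwC.IsConstGrp (Multiplicative (ZMod p)) G' e)
    (i : G' ⟶ Red.Ga S) [IsMonHom i]
    (hi : Red.gaFn (TwC.pt S (Multiplicative (ZMod p)) (Multiplicative.ofAdd 1) ≫ e.inv ≫ i) = 1) :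
    NonAbH1.IsExactSeq Scheme.fpqcPrecoverage i (𝟙 (Red.Ga S) * F⁻¹) := by
  classical
  have hFP : ∀ {T : Over S} (x : T ⟶ Red.Ga S),
      Red.gaFn (x ≫ (𝟙 (Red.Ga S) * F⁻¹)) = Red.gaFn x - Red.gaFn x ^ p := fun {T} x => by
    rw [MonObj.comp_mul, Category.comp_id, GrpObj.comp_inv, Groth.Agent.GrpSchLib.GaPts.gaFn_mul,
      gaFn_inv, hF T x, sub_eq_add_neg]
  have hfrob : ∀ (T : Over S) (a b : Γ(T.left, ⊤)), (a + b) ^ p = a ^ p + b ^ p := fun T a b => by
    obtain ⟨r, hr⟩ := exists_add_pow_prime_eq (Fact.out : p.Prime) a b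
    rw [hr, natCast_eq_zero hp T]; ring
  have hPmul : ∀ {T : Over S} (x y : T ⟶ Red.Ga S),
      (x * y) ≫ (𝟙 (Red.Ga S) * F⁻¹) =
        (x ≫ (𝟙 (Red.Ga S) * F⁻¹)) * (y ≫ (𝟙 (Red.Ga S) * F⁻¹)) := fun {T} x y =>
    Groth.Agent.GrpSchLib.GaPts.gaFn_injective (by
      show Red.gaFn _ = Red.gaFn _
      rw [hFP, Groth.Agent.GrpSchLib.GaPts.gaFn_mul, Groth.Agent.GrpSchLib.GaPts.gaFn_mul, hFP, hFP,
        hfrob T]
      ring)
  haveI hP : IsMonHom (𝟙 (Red.Ga S) * F⁻¹) := by
    refine ⟨?_, ?_⟩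
    · have h1 : (1 : 𝟙_ (Over S) ⟶ Red.Ga S) ≫ (𝟙 (Red.Ga S) * F⁻¹) = 1 := by
        refine Groth.Agent.GrpSchLib.GaPts.gaFn_injective ?_
        show Red.gaFn _ = Red.gaFn _
        rw [hFP, Groth.Agent.GrpSchLib.GaPts.gaFn_one, zero_pow (Fact.out : p.Prime).ne_zero, sub_zero]
      simpa [Hom.one_def] using h1
    · have := hPmul (fst (Red.Ga S) (Red.Ga S)) (snd _ _)
      simpa [Hom.mul_def, lift_fst_snd] using this
  -- the values of `i` on constant points
  have hn : Norm p e i := by
    intro m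
    have key : ∀ a : ℕ, Red.gaFn (TwC.pt S (Multiplicative (ZMod p))
        (Multiplicative.ofAdd (a : ZMod p)) ≫ e.inv ≫ i) = a := by
      intro a
      induction a with
      | zero =>
        have h := congrArg (fun f => Red.gaFn (f ≫ i)) (he 1 1)
        simp only [MonObj.mul_comp, Category.assoc, _root_.mul_one,
          Groth.Agent.GrpSchLib.GaPts.gaFn_mul] at h
        rw [Nat.cast_zero, Nat.cast_zero, ofAdd_zero]
        exact left_eq_add.mp h.symm
      | succ a ih =>
        have h := congrArg (fun f => Red.gaFn (f ≫ i))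
          (he (Multiplicative.ofAdd (a : ZMod p)) (Multiplicative.ofAdd 1))
        simp only [MonObj.mul_comp, Category.assoc, Groth.Agent.GrpSchLib.GaPts.gaFn_mul, ih, hi,
          ← ofAdd_add] at h
        rw [Nat.cast_succ, Nat.cast_succ, ← h]
    have := key m.val
    rwa [ZMod.natCast_zmod_val] at this
  have hker : ∀ {T : Over S} (d : T ⟶ Red.Ga S), d ≫ (𝟙 (Red.Ga S) * F⁻¹) = 1 →
      ∃ k : T ⟶ G', k ≫ i = d ∧ ∀ k', k' ≫ i = d → k' = k := by
    intro T d hd
    have h := hFP d
    rw [hd, Groth.Agent.GrpSchLib.GaPts.gaFn_one] at h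
    obtain ⟨k, hk⟩ := exists_lift_of_norm hp hn d (sub_eq_zero.mp h.symm).symm
    exact ⟨k, hk, fun k' hk' => inj_of_norm hp hn (hk'.trans hk.symm)⟩
  have hcomp : i ≫ (𝟙 (Red.Ga S) * F⁻¹) = 1 := by
    refine ext_of_cover (fun m => copyOpen (𝟙 G' ≫ e.hom) m) (exists_mem_copyOpen _) fun m => ?_
    rw [← Category.assoc, MonObj.comp_one]
    refine Groth.Agent.GrpSchLib.GaPts.gaFn_injective ?_
    show Red.gaFn _ = Red.gaFn _
    have h := gaFn_piece hn (𝟙 G') m (copyOpen (𝟙 G' ≫ e.hom) m) le_rfl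
    rw [Category.id_comp i] at h
    replace h := (Groth.Agent.GrpSchLib.GaPts.gaFn_comp (pieceι G' _) i).trans h
    rw [hFP, Groth.Agent.GrpSchLib.GaPts.gaFn_one, h]
    have hp0 := natCast_eq_zero hp (piece G' (copyOpen (𝟙 G' ≫ e.hom) m))
    have hmm : ∀ a : ℕ, (a : Γ((piece G' (copyOpen (𝟙 G' ≫ e.hom) m)).left, ⊤)) ^ p = a := fun a => by
      induction a with
      | zero => simp [zero_pow (Fact.out : p.Prime).ne_zero]
      | succ a ih => rw [Nat.cast_succ, hfrob _, ih, one_pow]
    exact sub_eq_zero.mpr (hmm _).symm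
  -- the covering
  obtain ⟨j1, j2, j3, j4, R, hR, j5⟩ := Groth.Agent.HTop83.isExactSeq_of_kernel i
    (𝟙 (Red.Ga S) * F⁻¹) inferInstance hP hcomp hker (by
      let A := Red.Ga S
      let R1 := Polynomial (ULift.{u} ℤ)
      let w : Γ(A.left, ⊤) := Red.gaFn (𝟙 A)
      let ev : R1 →+* Γ(A.left, ⊤) :=
        Polynomial.eval₂RingHom ((Int.castRingHom _).comp ULift.ringEquiv.toRingHom) w
      let f : Polynomial R1 := Polynomial.X ^ p - (Polynomial.X - Polynomial.C Polynomial.X)
      have hf : f.Monic := Polynomial.monic_X_pow_sub (by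
        rw [Polynomial.degree_X_sub_C]; exact_mod_cast (Fact.out : p.Prime).one_lt)
      have hdeg : f.natDegree = p := by
        rw [Polynomial.natDegree_sub_eq_left_of_natDegree_lt (by
          rw [Polynomial.natDegree_X_sub_C, Polynomial.natDegree_X_pow]; exact (Fact.out : p.Prime).one_lt),
          Polynomial.natDegree_X_pow]
      haveI : Module.Free R1 (AdjoinRoot f) := Module.Free.of_basis (AdjoinRoot.powerBasis' hf).basis
      haveI : Module.Finite R1 (AdjoinRoot f) := Module.Finite.of_basis (AdjoinRoot.powerBasis' hf).basis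
      haveI : Nontrivial (AdjoinRoot f) := by
        haveI : Nonempty (Fin (AdjoinRoot.powerBasis' hf).dim) :=
          ⟨⟨0, by rw [AdjoinRoot.powerBasis'_dim, hdeg]; exact (Fact.out : p.Prime).pos⟩⟩
        exact (AdjoinRoot.powerBasis' hf).basis.repr.toEquiv.nontrivial
      haveI : Module.FaithfullyFlat R1 (AdjoinRoot f) := inferInstance
      let α : CommRingCat.of R1 ⟶ CommRingCat.of (AdjoinRoot f) :=
        CommRingCat.ofHom (algebraMap R1 (AdjoinRoot f))
      haveI : Flat (Spec.map α) := (HasRingHomProperty.Spec_iff (P := @Flat)).mpr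
        (RingHom.flat_algebraMap_iff.mpr inferInstance)
      haveI : Surjective (Spec.map α) := ⟨fun y =>
        PrimeSpectrum.comap_surjective_of_faithfullyFlat (A := R1) (B := AdjoinRoot f) y⟩
      haveI : LocallyOfFinitePresentation (Spec.map α) :=
        (HasRingHomProperty.Spec_iff (P := @LocallyOfFinitePresentation)).mpr
          (RingHom.finitePresentation_algebraMap.mpr inferInstance)
      let q : A.left ⟶ Spec (CommRingCat.of R1) := A.left.toSpecΓ ≫ Spec.map (CommRingCat.ofHom ev)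
      let c : Limits.pullback q (Spec.map α) ⟶ A.left := Limits.pullback.fst q (Spec.map α)
      refine ⟨_, c.singleton_mem_fppfPrecoverage, fun S' g hg => ?_⟩
      cases hg
      let C : Over S := Over.mk (c ≫ A.hom)
      let jC : C ⟶ A := Over.homMk c rfl
      let σ : AdjoinRoot f →+* Γ(C.left, ⊤) :=
        (Limits.pullback.snd q (Spec.map α)).appTop.hom.comp
          (Scheme.ΓSpecIso (CommRingCat.of (AdjoinRoot f))).inv.hom
      have hσ : σ.comp (algebraMap R1 (AdjoinRoot f)) = c.appTop.hom.comp ev := by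
        refine congrArg CommRingCat.Hom.hom (?_ : α ≫ ((Scheme.ΓSpecIso _).inv ≫
          (Limits.pullback.snd q (Spec.map α)).appTop) = CommRingCat.ofHom ev ≫ c.appTop)
        rw [← Category.assoc, Scheme.ΓSpecIso_inv_naturality, Category.assoc, ← Scheme.Hom.comp_appTop,
          ← Limits.pullback.condition]
        simp only [q, Scheme.Hom.comp_appTop, ← Category.assoc]
        rw [← Scheme.ΓSpecIso_inv_naturality, Category.assoc (CommRingCat.ofHom ev),
          Scheme.toSpecΓ_appTop, Iso.inv_hom_id, Category.comp_id]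
      let τ : Γ(C.left, ⊤) := σ (AdjoinRoot.root f)
      have hroot : AdjoinRoot.root f - AdjoinRoot.root f ^ p =
          algebraMap R1 (AdjoinRoot f) Polynomial.X := by
        have h0 := AdjoinRoot.eval₂_root f
        simp only [f, Polynomial.eval₂_sub, Polynomial.eval₂_X_pow, Polynomial.eval₂_X,
          Polynomial.eval₂_C] at h0
        rw [AdjoinRoot.algebraMap_eq]
        linear_combination -h0
      have hpt : (Groth.Agent.GrpSchLib.GaPts.ptOfFn τ : C ⟶ A) ≫ (𝟙 (Red.Ga S) * F⁻¹) = jC := by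
        refine Groth.Agent.GrpSchLib.GaPts.gaFn_injective ?_
        show Red.gaFn _ = Red.gaFn _
        rw [hFP, Groth.Agent.GrpSchLib.GaPts.gaFn_ptOfFn]
        have h1 : Red.gaFn jC = c.appTop w := by
          rw [← Category.comp_id jC, Groth.Agent.GrpSchLib.GaPts.gaFn_comp]; rfl
        rw [h1]
        have h2 := congrArg σ hroot
        rw [map_sub, map_pow] at h2
        refine h2.trans ((RingHom.congr_fun hσ Polynomial.X).trans ?_)
        exact congrArg c.appTop.hom (Polynomial.eval₂_X _ w)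
      exact ⟨(Groth.Agent.GrpSchLib.GaPts.ptOfFn τ : C ⟶ A).left, congrArg CommaMorphism.left hpt⟩)
  exact ⟨j1, j2, j3, j4, R, Scheme.fppfPrecoverage_le_fpqcPrecoverage _ hR, j5⟩

end Groth.Agent.S6008
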