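import Groth.Statements.S6020
import Groth.Agent.LocZ95.Van

set_option autoImplicit false
universe u
open CategoryTheory CategoryTheory.Limits TopologicalSpace
open LocCohZ

namespace Groth.Agent.S6020

/-- Consider a topological space X carrying a sheaf F of abelian groups, an open subset U whose
complement is the closed set Z, and a natural number N. The local cohomology sheaves ℋ^i_Z(F) are
zero for all i ≤ N exactly when, for each open V of X, restricting H^i(V, F) → H^i(V ∩ U, F) gives a
bijection whenever i < N and an injection when i = N. -/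
theorem result {X : TopCat.{u}} (F : CohTop.Ab X) (U : Opens X) (N : ℕ) :
    (∀ i : ℕ, i ≤ N → IsZero ((LocCohZ.HZsh U i).obj F)) ↔
      ∀ V : Opens X, (∀ i : ℕ, i < N → Function.Bijective (CohTop.res F i (inf_le_left : V ⊓ U ≤ V))) ∧
        Function.Injective (CohTop.res F N (inf_le_left : V ⊓ U ≤ V)) := by
  refine ⟨fun h V => ?_, fun h i hi => LocZ95.isZero_HZsh_of_presheaf U F i fun V => ?_⟩
  · have hv : ∀ i, i ≤ N → Subsingleton (LocCohZ.HZ F i (LocZ95.inter_le U V)) := fun i hi =>
      LocZ95.subsingleton_HZ_of_isZero U (N + 1) F (fun j hj => h j (by omega)) V i (by omega)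
    have hinj : ∀ i, i ≤ N → Function.Injective (CohTop.res F i (LocZ95.inter_le U V)) := fun i hi =>
      haveI := hv i hi
      LocZ95.res_injective_of_subsingleton F _ i
    refine ⟨fun i hi => ?_, ((LocZ95.res_eq_res F (inf_comm V U) inf_le_left (LocZ95.inter_le U V) N).2).2 (hinj N le_rfl)⟩
    refine ((LocZ95.res_eq_res F (inf_comm V U) inf_le_left (LocZ95.inter_le U V) i).1).2 ⟨hinj i hi.le, ?_⟩
    haveI := hv (i + 1) hi
    exact LocZ95.res_surjective_of_subsingleton F _ i
  · obtain ⟨hb, hN⟩ := h V
    refine LocZ95.subsingleton_HZ_of_res F _ i (fun j hj => ?_) ?_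
    · exact ((LocZ95.res_eq_res F (inf_comm V U) inf_le_left (LocZ95.inter_le U V) j).1.1 (hb j (by omega))).2
    · rcases hi.lt_or_eq with hlt | rfl
      · exact ((LocZ95.res_eq_res F (inf_comm V U) inf_le_left (LocZ95.inter_le U V) i).1.1 (hb i hlt)).1
      · exact (LocZ95.res_eq_res F (inf_comm V U) inf_le_left (LocZ95.inter_le U V) i).2.1 hN

end Groth.Agent.S6020
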