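import Groth.Statements.S6021
import Groth.Agent.LocZ95.Van

set_option autoImplicit false
universe u
open CategoryTheory CategoryTheory.Limits TopologicalSpace
open LocCohZ

namespace Groth.Agent.S6021

/-- Consider a topological space X carrying an abelian sheaf F, a closed subset Z whose open complement
is U, and a natural number N > 0. Assume that, for each open V of X and each i < N, restricting
H^i(V, F) → H^i(V ∩ U, F) gives a bijection. Then ℋ^i_Z(F), the local cohomology sheaves, are zero
for every i ≤ N (no separate injectivity hypothesis in degree N is needed, since it follows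
automatically). -/
theorem result {X : TopCat.{u}} (F : CohTop.Ab X) (U : Opens X) (N : ℕ) (hN : 0 < N)
    (h : ∀ (V : Opens X) (i : ℕ), i < N → Function.Bijective (CohTop.res F i (inf_le_left : V ⊓ U ≤ V))) :
    ∀ i : ℕ, i ≤ N → IsZero ((LocCohZ.HZsh U i).obj F) := by
  intro i hi
  have hb : ∀ (V : Opens X) (j : ℕ), j < N → Function.Bijective (CohTop.res F j (LocZ95.inter_le U V)) := fun V j hj =>
    (LocZ95.res_eq_res F (inf_comm V U) inf_le_left (LocZ95.inter_le U V) j).1.1 (h V j hj)
  rcases hi.lt_or_eq with hlt | rfl
  · exact LocZ95.isZero_HZsh_of_presheaf U F i fun V =>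
      LocZ95.subsingleton_HZ_of_res F _ i (fun j hj => (hb V j (by omega)).2) (hb V i hlt).1
  · obtain ⟨M, rfl⟩ := Nat.exists_eq_succ_of_ne_zero hN.ne'
    exact LocZ95.isZero_HZsh_succ_of_surjective U F M fun V => (hb V M (Nat.lt_succ_self M)).2

end Groth.Agent.S6021
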