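import Groth.Statements.S6036
import Groth.Agent.SiteBase.SuppInj

set_option autoImplicit false
set_option backward.isDefEq.respectTransparency false
universe u
open CategoryTheory CategoryTheory.Limits TopologicalSpace
open LocCohZ

namespace Groth.Agent.S6036

variable {X : TopCat.{u}} (U : Opens X)

local notation "Z" => TopCat.of ((U : Set X)ᶜ : Set X)

lemma comp_unit_zero (G : CohTop.Ab Z) (F : CohTop.Ab X) (φ : (CohTop.push (CohCx.inclCompl U)).obj G ⟶ F) :
    φ ≫ (ClosedEmb.pAdj (CohCx.incl U)).unit.app F = 0 :=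
  ((ClosedEmb.pAdj (CohCx.incl U)).homEquiv _ _).symm.injective
    ((ClosedEmb.isZero_pull_push U G).eq_of_src _ _)

/-- Lift a map out of a push-forward to the sections with supports. -/
noncomputable def liftSupp (G : CohTop.Ab Z) (F : CohTop.Ab X) (φ : (CohTop.push (CohCx.inclCompl U)).obj G ⟶ F) :
    (CohTop.push (CohCx.inclCompl U)).obj G ⟶ CohCx.sectSupp U F :=
  kernel.lift _ φ (comp_unit_zero U G F φ)

lemma liftSupp_ι (G : CohTop.Ab Z) (F : CohTop.Ab X) (φ : (CohTop.push (CohCx.inclCompl U)).obj G ⟶ F) :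
    liftSupp U G F φ ≫ kernel.ι _ = φ :=
  kernel.lift_ι _ _ _

lemma liftSupp_of_comp (G : CohTop.Ab Z) (F : CohTop.Ab X)
    (ψ : (CohTop.push (CohCx.inclCompl U)).obj G ⟶ CohCx.sectSupp U F) :
    liftSupp U G F (ψ ≫ kernel.ι _) = ψ :=
  (cancel_mono (kernel.ι _)).1 (liftSupp_ι U G F _)

lemma map_ι {F F' : CohTop.Ab X} (g : F ⟶ F') :
    (sectSuppF U).map g ≫ kernel.ι _ = kernel.ι _ ≫ g :=
  kernel.lift_ι _ _ _

instance isIso_unit_sectSupp (F : CohTop.Ab X) :
    IsIso ((ClosedEmb.pAdj (CohCx.inclCompl U)).unit.app (CohCx.sectSupp U F)) :=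
  ClosedEmb.isIso_unit (ClosedEmb.isClosedEmbedding_inclCompl U) _
    fun x hx => ClosedEmb.isZero_stalk_sectSupp U F x ((ClosedEmb.not_range_inclCompl_iff U x).1 hx)

instance : (CohTop.push (CohCx.inclCompl U)).Full :=
  ClosedEmb.push_full (ClosedEmb.isClosedEmbedding_inclCompl U).isInducing

instance : (CohTop.push (CohCx.inclCompl U)).Faithful :=
  ClosedEmb.push_faithful (ClosedEmb.isClosedEmbedding_inclCompl U).isInducing

/-- The comparison of the sections with supports with the push-forward of their restriction. -/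
noncomputable def η (F : CohTop.Ab X) : CohCx.sectSupp U F ≅
    (CohTop.push (CohCx.inclCompl U)).obj ((CohTop.pull (CohCx.inclCompl U)).obj (CohCx.sectSupp U F)) :=
  @asIso _ _ _ _ ((ClosedEmb.pAdj (CohCx.inclCompl U)).unit.app (CohCx.sectSupp U F)) (isIso_unit_sectSupp U F)

lemma η_naturality {F F' : CohTop.Ab X} (g : F ⟶ F') :
    (sectSuppF U).map g ≫ (η U F').hom =
      (η U F).hom ≫ (CohTop.push (CohCx.inclCompl U)).map ((CohTop.pull (CohCx.inclCompl U)).map ((sectSuppF U).map g)) :=
  (ClosedEmb.pAdj (CohCx.inclCompl U)).unit.naturality ((sectSuppF U).map g)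

/-- The hom-set bijection. -/
noncomputable def hEquiv (G : CohTop.Ab Z) (F : CohTop.Ab X) :
    ((CohTop.push (CohCx.inclCompl U)).obj G ⟶ F) ≃
      (G ⟶ (sectSuppF U ⋙ CohTop.pull (CohCx.inclCompl U)).obj F) where
  toFun φ := (CohTop.push (CohCx.inclCompl U)).preimage (liftSupp U G F φ ≫ (η U F).hom)
  invFun ψ := ((CohTop.push (CohCx.inclCompl U)).map ψ ≫ (η U F).inv) ≫ kernel.ι _
  left_inv φ := by
    dsimp only
    rw [Functor.map_preimage, Category.assoc (liftSupp U G F φ), Iso.hom_inv_id, Category.comp_id]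
    exact liftSupp_ι U G F φ
  right_inv ψ := (CohTop.push (CohCx.inclCompl U)).map_injective (by
    rw [Functor.map_preimage, liftSupp_of_comp, Category.assoc, Iso.inv_hom_id]
    exact Category.comp_id _)

/-- The adjunction. -/
noncomputable def adj :
    CohTop.push (CohCx.inclCompl U) ⊣ sectSuppF U ⋙ CohTop.pull (CohCx.inclCompl U) :=
  Adjunction.mkOfHomEquiv
    { homEquiv := hEquiv U
      homEquiv_naturality_left_symm := by
        intros G' G F f g
        show ((CohTop.push (CohCx.inclCompl U)).map (f ≫ g) ≫ (η U F).inv) ≫ kernel.ι _ =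
          (CohTop.push (CohCx.inclCompl U)).map f ≫ (((CohTop.push (CohCx.inclCompl U)).map g ≫ (η U F).inv) ≫ kernel.ι _)
        simp only [Functor.map_comp, Category.assoc]
      homEquiv_naturality_right := by
        intros G F F' φ g
        apply (CohTop.push (CohCx.inclCompl U)).map_injective
        have h : liftSupp U G F' (φ ≫ g) = liftSupp U G F φ ≫ (sectSuppF U).map g := by
          apply (cancel_mono (kernel.ι _)).1
          refine (liftSupp_ι U G F' _).trans ?_
          rw [Category.assoc, map_ι, ← Category.assoc, liftSupp_ι]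
        refine Eq.trans ?_ (Functor.map_comp _ _ _).symm
        refine (Functor.map_preimage _ _).trans ?_
        rw [h, Category.assoc, η_naturality]
        exact (Category.assoc _ _ _).symm.trans
          (congrArg (· ≫ _) (Functor.map_preimage (CohTop.push (CohCx.inclCompl U)) _).symm) }

/-- For a closed subset. Let X be a topological space and Z a closed subset with open complement U and
inclusion i : Z → X. Then i_* : (abelian sheaves on Z) → (abelian sheaves on X) is left adjoint to F
↦ i⁻¹ Γ_Z(F), the sheaf on Z of sections of F supported in Z: Hom(i_* G, F) ≅ Hom(G, i⁻¹ Γ_Z(F))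
naturally in G and F. (Existence of an adjunction; for Z closed the extension by zero i_! is i_*.) -/
theorem result {X : TopCat.{u}} (U : Opens X) :
    Nonempty (CohTop.push (CohCx.inclCompl U) ⊣ LocCohZ.sectSuppF U ⋙ CohTop.pull (CohCx.inclCompl U)) := ⟨adj U⟩

end Groth.Agent.S6036
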