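import Groth.Statements.S6056
import Groth.Agent.RedSub30.Quot

set_option autoImplicit false
open CategoryTheory CategoryTheory.Limits AlgebraicGeometry MonoidalCategory
universe u
open RedSub

namespace Groth.Agent.S6056

open MonObj CartesianMonoidalCategory SemiCartesianMonoidalCategory in
/-- For group schemes and fppf quotients: let `K ⊆ G` be a subgroup scheme and `H ⊆ K` a subgroup scheme
normal in `K`; suppose `G/H` is represented by `q_H : G ⟶ Q_H` and `K/H` by a homomorphism `K ⟶ K'`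
of group schemes, and let `act : Q_H ×_S K' ⟶ Q_H` be the right action induced by the multiplication
of `G`. Then: (i) if `G/K` is represented by `q_K : G ⟶ Q_K`, the map `Q_H ⟶ Q_K` under `G` is an
fppf covering whose kernel pair is `Q_H ×_S K' ⇉ Q_H` (projection, action), i.e. `Q_K =
(G/H)/(K/H)`; (ii) conversely, if `p : Q_H ⟶ Y` is an fppf covering with that kernel pair, then `q_H
≫ p` represents `G/K`. -/
theorem result {S : Scheme.{u}} {H K G QH Kb : Over S}
    [hH : GrpObj H] [hK : GrpObj K] [hG : GrpObj G] [hKb : GrpObj Kb]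
    (h : H ⟶ K) (k : K ⟶ G) [Mono h] [Mono k] [IsMonHom h] [IsMonHom k]
    (hn : AlgGrp.IsNormalHom h)
    (qH : G ⟶ QH) (hqH : RedSub.IsQuotient (h ≫ k) qH)
    (qKb : K ⟶ Kb) [IsMonHom qKb] (hqKb : RedSub.IsQuotient h qKb)
    (act : QH ⊗ Kb ⟶ QH) (hact : (qH ⊗ₘ qKb) ≫ act = (G ◁ k) ≫ μ[G] ≫ qH) :
    (∀ (QK : Over S) (qK : G ⟶ QK), RedSub.IsQuotient k qK →
      ∀ qbar : QH ⟶ QK, qH ≫ qbar = qK →
        Surjective qbar.left ∧ Flat qbar.left ∧ LocallyOfFinitePresentation qbar.left ∧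
          IsPullback (fst QH Kb) act qbar qbar) ∧
    (∀ (Y : Over S) (p : QH ⟶ Y),
      Surjective p.left → Flat p.left → LocallyOfFinitePresentation p.left →
      IsPullback (fst QH Kb) act p p → RedSub.IsQuotient k (qH ≫ p)) := by
  have hch := RedSub30.covers_of_isQuotient hqH
  have hck := RedSub30.covers_of_isQuotient hqKb
  -- the action on points
  have hA : ∀ (T : Over S) (a : T ⟶ G) (c : T ⟶ K),
      lift (a ≫ qH) (c ≫ qKb) ≫ act = (a * (c ≫ k)) ≫ qH := fun T a c => by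
    rw [← lift_map_assoc, hact, ← Category.assoc, ← Category.assoc, Category.assoc (lift a c),
      RedSub30.lift_act]
  have hz : ∀ {T : Over S} (z : T ⟶ QH ⊗ Kb), z = lift (z ≫ fst QH Kb) (z ≫ snd QH Kb) := fun {T} z => by
    rw [← comp_lift, lift_fst_snd, Category.comp_id]
  constructor
  · intro QK qK hqK qbar hqbar
    obtain ⟨h1, h2, h3⟩ := RedSub30.fppf_of_comp qH qbar qK hqbar hqH.1 hqH.2.1 hqH.2.2.1 hqK.1 hqK.2.1 hqK.2.2.1
    -- injectivity
    have huniq : ∀ (T : Over S) (z z' : T ⟶ QH ⊗ Kb), z ≫ fst _ _ = z' ≫ fst _ _ → z ≫ act = z' ≫ act →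
        z = z' := by
      intro T z z' e1 e2
      obtain ⟨T₁, π₁, a, hπ₁, ha⟩ := RedSub30.exists_local_lift hch (z ≫ fst _ _)
      obtain ⟨T₂, π₂, c, c', hπ₂, hc, hc'⟩ :=
        RedSub30.exists_local_lift₂ hck (π₁ ≫ z ≫ snd _ _) (π₁ ≫ z' ≫ snd _ _)
      have hπ₁' := hπ₁.over_epi
      rw [← cancel_epi π₁, ← cancel_epi π₂]
      have ez : π₂ ≫ π₁ ≫ z = lift ((π₂ ≫ a) ≫ qH) (c ≫ qKb) := by
        rw [hz (π₂ ≫ π₁ ≫ z), hc, Category.assoc π₂ a qH, ha]
        simp only [Category.assoc]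
      have ez' : π₂ ≫ π₁ ≫ z' = lift ((π₂ ≫ a) ≫ qH) (c' ≫ qKb) := by
        rw [hz (π₂ ≫ π₁ ≫ z'), hc', Category.assoc π₂ a qH, ha, e1]
        simp only [Category.assoc]
      have e3 : ((π₂ ≫ a) * (c ≫ k)) ≫ qH = ((π₂ ≫ a) * (c' ≫ k)) ≫ qH := by
        rw [← hA, ← hA, ← ez, ← ez', Category.assoc, Category.assoc, Category.assoc, Category.assoc, e2]
      obtain ⟨y, hy⟩ := (RedSub30.coset_iff hqH _ _).mp e3
      rw [_root_.mul_assoc, mul_right_inj, ← Category.assoc, ← MonObj.mul_comp, cancel_mono] at hy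
      rw [ez, ez', hy, RedSub30.mul_comp_quot hqKb]
    refine ⟨h1, h2, h3, RedSub30.isPullback_of_points _ _ _ _ ?_ (fun T x y e => ?_) huniq⟩
    · have he : Epi (qH ⊗ₘ qKb) := by
        rw [MonoidalCategory.tensorHom_def]
        have := (FpqcDescLib.covers_whiskerRight hch K).over_epi
        have := (FpqcDescLib.covers_whiskerLeft hck QH).over_epi
        exact epi_comp _ _
      rw [← cancel_epi (qH ⊗ₘ qKb), tensorHom_fst_assoc, hqbar, reassoc_of% hact, hqbar]
      exact hqK.2.2.2.w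
    · obtain ⟨T₁, π₁, a, hπ₁, ha⟩ := RedSub30.exists_local_lift hch x
      obtain ⟨T₂, π₂, b, hπ₂, hb⟩ := RedSub30.exists_local_lift hch (π₁ ≫ y)
      have e' : (π₂ ≫ a) ≫ qK = b ≫ qK := by
        rw [← hqbar, Category.assoc, reassoc_of% ha, reassoc_of% hb, e]
      obtain ⟨c, hc⟩ := (RedSub30.coset_iff hqK _ _).mp e'
      -- descend along the two coverings
      have desc : ∀ {T T' : Over S} {π : T' ⟶ T} (_ : FpqcDescLib.Covers π.left) (x y : T ⟶ QH)
          (z : T' ⟶ QH ⊗ Kb), z ≫ fst _ _ = π ≫ x → z ≫ act = π ≫ y →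
          ∃ w : T ⟶ QH ⊗ Kb, w ≫ fst _ _ = x ∧ w ≫ act = y := by
        intro T T' π hπ x y z e1 e2
        obtain ⟨w, hw, -⟩ := hπ.over_desc z fun U s t est => huniq U _ _
          (by rw [Category.assoc, Category.assoc, e1, reassoc_of% est])
          (by rw [Category.assoc, Category.assoc, e2, reassoc_of% est])
        have := hπ.over_epi
        exact ⟨w, by rw [← cancel_epi π, reassoc_of% hw, e1], by rw [← cancel_epi π, reassoc_of% hw, e2]⟩
      obtain ⟨w₁, hw₁, hw₁'⟩ := desc hπ₂ (π₁ ≫ x) (π₁ ≫ y) (lift ((π₂ ≫ a) ≫ qH) (c ≫ qKb))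
        (by rw [lift_fst, Category.assoc, ha]) (by rw [hA, ← hc, hb])
      exact desc hπ₁ x y w₁ hw₁ hw₁'
  · intro Y p hp1 hp2 hp3 hpb
    have := hqH.1
    have := hqH.2.1
    have := hqH.2.2.1
    refine ⟨?_, ?_, ?_, RedSub30.isPullback_act k _ (fun T a c => ?_) (fun T a b e => ?_)⟩
    · exact inferInstanceAs (Surjective (qH.left ≫ p.left))
    · exact inferInstanceAs (Flat (qH.left ≫ p.left))
    · exact inferInstanceAs (LocallyOfFinitePresentation (qH.left ≫ p.left))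
    · rw [← Category.assoc, ← hA, Category.assoc, ← hpb.w, lift_fst_assoc, Category.assoc]
    · rw [← Category.assoc, ← Category.assoc] at e
      obtain ⟨T', π, c, hπ, hc⟩ := RedSub30.exists_local_lift hck (hpb.lift _ _ e ≫ snd _ _)
      have e1 : π ≫ hpb.lift _ _ e = lift ((π ≫ a) ≫ qH) (c ≫ qKb) := by
        rw [hc, hz (π ≫ hpb.lift _ _ e), Category.assoc, Category.assoc, hpb.lift_fst, Category.assoc]
      have e2 : ((π ≫ a) * (c ≫ k)) ≫ qH = (π ≫ b) ≫ qH := by
        rw [← hA, ← e1, Category.assoc, hpb.lift_snd, Category.assoc]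
      obtain ⟨y, hy⟩ := (RedSub30.coset_iff hqH _ _).mp e2
      obtain ⟨w, hw⟩ := RedSub30.exists_factor_of_covers k hπ (a⁻¹ * b) (c * (y ≫ h)) (by
        rw [MonObj.comp_mul, GrpObj.comp_inv, MonObj.mul_comp, Category.assoc, hy, _root_.mul_assoc,
          inv_mul_cancel_left])
      exact ⟨w, by rw [hw, mul_inv_cancel_left]⟩

end Groth.Agent.S6056
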