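import Groth.Statements.S6060
import Groth.Agent.SubNhd19.Main
-- import your own Groth.Agent.* helpers here

set_option autoImplicit false
open CategoryTheory MonoidalCategory CartesianMonoidalCategory MonObj GrpObj AlgebraicGeometry
universe u
open SGA3x

namespace Groth.Agent.S6060

/-- Let G be an S-group, suppose S locally Noetherian or G of finite presentation over S, and let i₁ :
H₁ ⟶ G, i₂ : H₂ ⟶ G be two sub-group-schemes (homomorphisms which are immersions) of multiplicative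
type and of finite type. Let s ∈ S be a point such that the fibre (H₁)_s is central in G_s (every
point of G_s commutes with every point of (H₁)_s) and (H₁)_s = (H₂)_s as subgroups of G_s (an
isomorphism of the fibres compatible with the inclusions). Then there is an open neighbourhood U of
s such that H₁|_U = H₂|_U as subgroups of G|_U. -/
theorem result {S : Scheme.{u}} (G H₁ H₂ : Over S) [GrpObj G] [GrpObj H₁] [GrpObj H₂]
    (hG : IsLocallyNoetherian S ∨ (LocallyOfFinitePresentation G.hom ∧ QuasiCompact G.hom ∧ QuasiSeparated G.hom))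
    (h₁ : SGA3x.IsMultTypeFT H₁) (h₂ : SGA3x.IsMultTypeFT H₂)
    (i₁ : H₁ ⟶ G) [IsMonHom i₁] [IsImmersion i₁.left] (i₂ : H₂ ⟶ G) [IsMonHom i₂] [IsImmersion i₂.left] (s : S)
    (hc : ∀ (X : Over (Spec (S.residueField s))) (g : X ⟶ Red.bc (S.fromSpecResidueField s) G)
      (h : X ⟶ Red.bc (S.fromSpecResidueField s) H₁),
      g * (h ≫ (Over.pullback (S.fromSpecResidueField s)).map i₁) = (h ≫ (Over.pullback (S.fromSpecResidueField s)).map i₁) * g)
    (hs : ∃ ψ : Red.bc (S.fromSpecResidueField s) H₁ ≅ Red.bc (S.fromSpecResidueField s) H₂,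
      ψ.hom ≫ (Over.pullback (S.fromSpecResidueField s)).map i₂ = (Over.pullback (S.fromSpecResidueField s)).map i₁) :
    ∃ U : S.Opens, s ∈ U ∧ ∃ ψ : Red.bc U.ι H₁ ≅ Red.bc U.ι H₂,
      ψ.hom ≫ (Over.pullback U.ι).map i₂ = (Over.pullback U.ι).map i₁ := by
  haveI : Mono i₁ := Over.mono_of_mono_left _
  haveI : Mono i₂ := Over.mono_of_mono_left _
  have hfin : IsLocallyNoetherian S ∨ LocallyOfFiniteType G.hom := hG.imp id (fun h => by
    haveI := h.1
    infer_instance)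
  obtain ⟨ψ, hψ⟩ := hs
  let κ := S.fromSpecResidueField s
  have hc₂ : ∀ (X : Over (Spec (S.residueField s))) (x : X ⟶ Red.bc κ G) (y : X ⟶ Red.bc κ H₂),
      x * (y ≫ (Over.pullback κ).map i₂) = (y ≫ (Over.pullback κ).map i₂) * x := fun X x y => by
    rw [show y ≫ (Over.pullback κ).map i₂ = (y ≫ ψ.inv) ≫ (Over.pullback κ).map i₁ from by
      rw [← hψ, Category.assoc, ψ.inv_hom_id_assoc]]
    exact hc X x _
  have h12 := Groth.Agent.SubNhd19.le_stalk i₁ i₂ h₁ h₂ hfin s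
    (Groth.Agent.SubNhd19.le_of_map κ i₁ i₂ ψ.inv (by rw [← hψ, ψ.inv_hom_id_assoc]))
    (Groth.Agent.SubNhd19.cen_of_map κ i₁ hc)
  have h21 := Groth.Agent.SubNhd19.le_stalk i₂ i₁ h₂ h₁ hfin s
    (Groth.Agent.SubNhd19.le_of_map κ i₂ i₁ ψ.hom hψ) (Groth.Agent.SubNhd19.cen_of_map κ i₂ hc₂)
  obtain ⟨U₁, hs₁, hle₁⟩ := Groth.Agent.SubNhd19.le_nhd i₁ i₂ h₁ h₂ hfin s h12
  obtain ⟨U₂, hs₂, hle₂⟩ := Groth.Agent.SubNhd19.le_nhd i₂ i₁ h₂ h₁ hfin s h21
  have hle₁' := hle₁.comp (S.homOfLE (inf_le_left : U₁ ⊓ U₂ ≤ U₁))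
  have hle₂' := hle₂.comp (S.homOfLE (inf_le_right : U₁ ⊓ U₂ ≤ U₂))
  rw [Scheme.homOfLE_ι] at hle₁' hle₂'
  obtain ⟨θ, hθ⟩ := Groth.Agent.SubNhd19.exists_map_of_le _ i₁ i₂ hle₁'
  obtain ⟨θ', hθ'⟩ := Groth.Agent.SubNhd19.exists_map_of_le _ i₂ i₁ hle₂'
  haveI : Mono ((Over.pullback (U₁ ⊓ U₂).ι).map i₁) := inferInstance
  haveI : Mono ((Over.pullback (U₁ ⊓ U₂).ι).map i₂) := inferInstance
  exact ⟨U₁ ⊓ U₂, ⟨hs₁, hs₂⟩, ⟨θ', θ,
    by rw [← cancel_mono ((Over.pullback (U₁ ⊓ U₂).ι).map i₁), Category.assoc, hθ, hθ', Category.id_comp],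
    by rw [← cancel_mono ((Over.pullback (U₁ ⊓ U₂).ι).map i₂), Category.assoc, hθ', hθ, Category.id_comp]⟩, hθ'⟩

end Groth.Agent.S6060
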