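import Groth.Statements.S6070
-- import your own Groth.Agent.* helpers here
import Groth.Agent.MultLift19.SubgroupMult

set_option autoImplicit false
open CategoryTheory MonoidalCategory CartesianMonoidalCategory MonObj GrpObj AlgebraicGeometry
universe u
open SGA3x

namespace Groth.Agent.S6070

/-- In lifting form: what formal smoothness of the morphism H ↦ ₙH of the functor of multiplicative
subgroups means. Let S = Spec R be affine, J a nilpotent ideal of R, S₀ = Spec (R/J), n a natural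
number and G an S-group which is smooth over S. Let j₀ : H₀ ⟶ G₀ = G ×_S S₀ be a sub-group-scheme (a
homomorphism which is an immersion) of multiplicative type (fpqc-locally isomorphic, as a group, to
diagonalisable groups D(M), M allowed to vary and taken in Type 0), and l : L ⟶ G a sub-group-scheme
of multiplicative type whose base change to S₀ is the n-torsion of H₀ inside G₀: a point of G₀
factors through L ×_S S₀ if and only if it is j₀(h) for a point h of H₀ with h^n = 1. Then there is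
a sub-group-scheme j : H ⟶ G of multiplicative type whose base change to S₀ coincides with H₀ as a
subgroup of G₀ (an isomorphism compatible with the maps to G₀) and whose n-torsion is L: a point of
G factors through L if and only if it is j(h) for a point h of H with h^n = 1. -/
theorem result {R : Type u} [CommRing R] (J : Ideal R) (hJ : IsNilpotent J) (n : ℕ)
    (G : Over (Spec (CommRingCat.of R))) [GrpObj G] (hG : Smooth G.hom)
    (H₀ : Over (Spec (CommRingCat.of (R ⧸ J)))) [GrpObj H₀]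
    (hH₀ : TwC.Locally (Spec (CommRingCat.of (R ⧸ J))) TwC.Topology.fpqc (fun S' f => ∃ (M : Type) (_ : AddCommGroup M), Nonempty (Grp.mk (Red.bc f H₀) ≅ Grp.mk (Red.DS S' M))))
    (j₀ : H₀ ⟶ Red.bc (Spec.map (CommRingCat.ofHom (Ideal.Quotient.mk J))) G) [IsMonHom j₀] [IsImmersion j₀.left]
    (L : Over (Spec (CommRingCat.of R))) [GrpObj L] (hL : TwC.Locally (Spec (CommRingCat.of R)) TwC.Topology.fpqc (fun S' f => ∃ (M : Type) (_ : AddCommGroup M), Nonempty (Grp.mk (Red.bc f L) ≅ Grp.mk (Red.DS S' M))))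
    (l : L ⟶ G) [IsMonHom l] [IsImmersion l.left]
    (hL0 : ∀ (X : Over (Spec (CommRingCat.of (R ⧸ J)))) (g : X ⟶ Red.bc (Spec.map (CommRingCat.ofHom (Ideal.Quotient.mk J))) G),
      (∃ y : X ⟶ Red.bc (Spec.map (CommRingCat.ofHom (Ideal.Quotient.mk J))) L, y ≫ (Over.pullback (Spec.map (CommRingCat.ofHom (Ideal.Quotient.mk J)))).map l = g) ↔
        ∃ h : X ⟶ H₀, h ^ n = 1 ∧ h ≫ j₀ = g) :
    ∃ (H : Over (Spec (CommRingCat.of R))) (_ : GrpObj H) (j : H ⟶ G), IsMonHom j ∧ IsImmersion j.left ∧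
      TwC.Locally (Spec (CommRingCat.of R)) TwC.Topology.fpqc (fun S' f => ∃ (M : Type) (_ : AddCommGroup M), Nonempty (Grp.mk (Red.bc f H) ≅ Grp.mk (Red.DS S' M))) ∧
      (∃ φ : Red.bc (Spec.map (CommRingCat.ofHom (Ideal.Quotient.mk J))) H ≅ H₀, φ.hom ≫ j₀ = (Over.pullback (Spec.map (CommRingCat.ofHom (Ideal.Quotient.mk J)))).map j) ∧
      ∀ (X : Over (Spec (CommRingCat.of R))) (g : X ⟶ G),
        (∃ y : X ⟶ L, y ≫ l = g) ↔ ∃ h : X ⟶ H, h ^ n = 1 ∧ h ≫ j = g := by
  let f := Spec.map (CommRingCat.ofHom (algebraMap R (R ⧸ J)))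
  let Φ := Over.pullback f
  haveI := hG
  obtain ⟨A, _, _, j, hA, hft, hjm, hji, φ, hφm, hφm', hφ⟩ :=
    MultLift19.exists_subgroup_lift_mult hJ G H₀ hH₀ j₀
  obtain ⟨B, _, _, ε, hεm, hεi, hB, hεn, hε⟩ := MultLift19.exists_torsion hA hft n
  haveI : Mono l := Over.mono_of_mono_left l
  haveI : Mono j₀ := Over.mono_of_mono_left j₀
  haveI : Mono j := Over.mono_of_mono_left j
  haveI : Mono ε := Over.mono_of_mono_left ε
  haveI : Φ.IsRightAdjoint := (Over.mapPullbackAdj f).isRightAdjoint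
  let bε : Red.bc f _ ⟶ Red.bc f _ := Φ.map ε
  let bj : Red.bc f _ ⟶ Red.bc f G := Φ.map j
  let bl : Red.bc f L ⟶ Red.bc f G := Φ.map l
  haveI : Mono (bε ≫ bj) := by
    haveI : Mono bε := Functor.map_mono Φ ε
    haveI : Mono bj := Functor.map_mono Φ j
    infer_instance
  haveI : Mono bl := Functor.map_mono Φ l
  -- a morphism onto the torsion
  obtain ⟨h₁, hh₁, hh₁'⟩ := (hL0 _ bl).mp ⟨𝟙 _, Category.id_comp _⟩
  obtain ⟨y₁, hy₁⟩ := hε _ (DSPtsLib.theta f (h₁ ≫ φ.inv)) (by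
    let θh : (Red.bc f L ⟶ Red.bc f (GrpSchLib.AffineHopf.sp R A)) →*
        ((Over.map f).obj (Red.bc f L) ⟶ GrpSchLib.AffineHopf.sp R A) :=
      MonoidHom.mk' (DSPtsLib.theta f) (DSPtsLib.theta_mul f)
    show θh (h₁ ≫ φ.inv) ^ n = 1
    rw [← map_pow, ← MonObj.pow_comp, hh₁, MonObj.one_comp, map_one])
  obtain ⟨ψ, hψ⟩ := (DSPtsLib.theta_bijective f).2 y₁
  have hψl : ψ ≫ bε ≫ bj = bl := by
    have h2 : ψ ≫ bε = h₁ ≫ φ.inv :=
      (DSPtsLib.theta_bijective f).1 (by rw [MultLift19.theta_map, hψ, hy₁])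
    rw [← Category.assoc, h2, Category.assoc, show bj = Φ.map j from rfl, ← hφ, Iso.inv_hom_id_assoc, hh₁']
  haveI : IsMonHom ψ := MultLift19.isMonHom_of_mul ψ fun Y a b => by
    rw [← cancel_mono (bε ≫ bj), Category.assoc, hψl, MonObj.mul_comp, MonObj.mul_comp,
      Category.assoc, Category.assoc, hψl]
  obtain ⟨ψ', hψ'⟩ := (hL0 _ (bε ≫ bj)).mpr ⟨bε ≫ φ.hom, by
    let Ψ : (GrpSchLib.AffineHopf.sp R B ⟶ GrpSchLib.AffineHopf.sp R A) →*
        (Red.bc f (GrpSchLib.AffineHopf.sp R B) ⟶ Red.bc f (GrpSchLib.AffineHopf.sp R A)) :=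
      MonoidHom.mk' (fun x => Φ.map x) fun x y => Functor.map_mul _ x y
    rw [← MonObj.pow_comp, show bε ^ n = Ψ (ε ^ n) from (map_pow Ψ ε n).symm, hεn, map_one, MonObj.one_comp],
    (Category.assoc _ _ _).trans (congrArg (bε ≫ ·) hφ)⟩
  change ψ' ≫ bl = bε ≫ bj at hψ'
  haveI : IsMonHom ψ' := MultLift19.isMonHom_of_mul ψ' fun Y a b => by
    rw [← cancel_mono bl, Category.assoc, hψ', MonObj.mul_comp, MonObj.mul_comp, Category.assoc, Category.assoc, hψ']
  obtain ⟨θ, hθm, hθ⟩ := MultLift19.exists_lift_iso hJ hL hB ψ ψ'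
    (by rw [← cancel_mono bl, Category.assoc, hψ', hψl, Category.id_comp])
    (by rw [← cancel_mono (bε ≫ bj), Category.assoc, hψl, hψ', Category.id_comp])
  obtain ⟨g, hg, hgc⟩ := MultDefLib.exists_conj_lift hL hJ (θ.hom ≫ ε ≫ j) l 1 fun X p h => by
    rw [MonObj.comp_one, inv_one, _root_.one_mul, _root_.mul_one]
    refine MultLift19.comp_eq_of_bc_eq f _ _ ?_ p h
    rw [Functor.map_comp, Functor.map_comp, hθ]
    exact hψl.symm
  -- conjugation by `g`
  let c : G ≅ G :=
    { hom := (toUnit G ≫ g) * 𝟙 G * (toUnit G ≫ g)⁻¹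
      inv := (toUnit G ≫ g)⁻¹ * 𝟙 G * (toUnit G ≫ g)
      hom_inv_id := by
        simp only [MonObj.comp_mul, GrpObj.comp_inv, Category.comp_id, ← Category.assoc, toUnit_unique (_ ≫ toUnit G) (toUnit G)]
        group
      inv_hom_id := by
        simp only [MonObj.comp_mul, GrpObj.comp_inv, Category.comp_id, ← Category.assoc, toUnit_unique (_ ≫ toUnit G) (toUnit G)]
        group }
  have hcomp : ∀ (X : Over (Spec (CommRingCat.of R))) (a : X ⟶ G),
      a ≫ c.hom = (toUnit X ≫ g) * a * (toUnit X ≫ g)⁻¹ := fun X a => by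
    simp only [c, MonObj.comp_mul, GrpObj.comp_inv, Category.comp_id, ← Category.assoc, toUnit_unique (a ≫ toUnit G) (toUnit X)]
  haveI : IsMonHom c.hom := MultLift19.isMonHom_of_mul c.hom fun X a b => by rw [hcomp, hcomp, hcomp]; group
  haveI : IsIso c.hom.left := ((Over.forget _).mapIso c).isIso_hom
  have hc0 : Φ.map c.hom = 𝟙 (Φ.obj G) := by
    refine (DSPtsLib.theta_bijective f).1 ?_
    rw [← Category.id_comp (Φ.map c.hom), MultLift19.theta_map, hcomp,
      ← toUnit_unique (MultLift19.toU f (Red.bc f G) ≫ toUnit _) (toUnit ((Over.map f).obj (Red.bc f G))), Category.assoc,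
      show toUnit (Over.mk f) ≫ g = 1 from hg, MonObj.comp_one, inv_one, _root_.one_mul, _root_.mul_one]
  refine ⟨_, inferInstance, j ≫ c.hom, inferInstance, ?_, MultLift19.multLoc_sp hA hft, ⟨φ, ?_⟩, fun X x => ?_⟩
  · exact inferInstanceAs (IsImmersion (j.left ≫ c.hom.left))
  · rw [Functor.map_comp, hc0, Category.comp_id]
    exact hφ
  · have hl : ∀ y : X ⟶ L, (y ≫ θ.hom ≫ ε) ≫ j ≫ c.hom = y ≫ l := fun y => by
      rw [← Category.assoc _ j c.hom, hcomp, hgc X y]
      simp only [Category.assoc]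
    constructor
    · rintro ⟨y, rfl⟩
      exact ⟨y ≫ θ.hom ≫ ε, by rw [← Category.assoc, ← Category.comp_id ((y ≫ θ.hom) ≫ ε), Category.assoc,
        Category.comp_id, ← MonObj.comp_pow, hεn, MonObj.comp_one], hl y⟩
    · rintro ⟨h, hh, rfl⟩
      obtain ⟨y, rfl⟩ := hε X h hh
      exact ⟨y ≫ θ.inv, by rw [← hl, Category.assoc y θ.inv, Iso.inv_hom_id_assoc]⟩

end Groth.Agent.S6070
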