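import Groth.Statements.S6100
import Groth.Agent.RedSub30.RadicalLe

set_option autoImplicit false
open CategoryTheory MonoidalCategory CartesianMonoidalCategory MonObj GrpObj AlgebraicGeometry
universe u
open RedSub

namespace Groth.Agent.S6100

/-- Let G be a reductive S-group, H ⟶ G a subgroup of type (R) which is a reductive S-group, rad(H) ⟶
Z(H) ⟶ H its radical, z : Z ⟶ G the centraliser of rad(H) in G, Z(Z) ⟶ Z the centre of Z and rad(Z)
⟶ Z(Z) a maximal torus. Then H ⊆ Centr_G(rad H), and rad(Centr_G(rad H)) = rad(H) as subgroups of G,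
so that rad(H) is a C-critical torus (the radical of its own centraliser). -/
theorem result {S : Scheme.{u}} {G H ZH R Z ZZ RZ : Over S} [GrpObj G] [GrpObj H]
    [GrpObj ZH] [GrpObj R] [GrpObj Z] [GrpObj ZZ] [GrpObj RZ] (hG : Red.IsReductive G)
    (i : H ⟶ G) (hi : RedSub.IsTypeR i) (hH : Red.IsReductive H)
    (jz : ZH ⟶ H) (hZH : Red.IsCentre jz) (r : R ⟶ ZH) (hR : Red.IsMaximalTorus r)
    (z : Z ⟶ G) (hZ : Red.IsCentralizerOf (r ≫ jz ≫ i) z)
    (jzz : ZZ ⟶ Z) (hZZ : Red.IsCentre jzz) (rz : RZ ⟶ ZZ) (hRZ : Red.IsMaximalTorus rz) :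
    (∃ k : H ⟶ Z, k ≫ z = i) ∧ ∃ e : R ≅ RZ, e.hom ≫ rz ≫ jzz ≫ z = r ≫ jz ≫ i := by
  haveI : IsAffineHom G.hom := hG.1
  haveI : Smooth G.hom := hG.2.1
  haveI := hi.1.1
  haveI := hi.1.2
  haveI : Mono i := Over.mono_of_mono_left _
  haveI := hZH.1
  haveI := hZH.2.1
  haveI := hR.1
  haveI := hR.2.1
  haveI := hZ.1
  haveI := hZ.2.1
  haveI := hZZ.1
  haveI := hZZ.2.1
  haveI := hRZ.1
  haveI := hRZ.2.1
  haveI : IsCommMonObj ZZ := RedSub30.isCommMonObj_centre hZZ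
  obtain ⟨k, hk⟩ := (hZ.2.2 H i).mpr fun X x h => by
    have := RedSub30.centralizer_comm hZH (h ≫ r) x
    rw [Category.comp_id] at this
    have e := congrArg (· ≫ i) this
    simp only [MonObj.mul_comp, Category.assoc] at e
    exact e.symm
  refine ⟨⟨k, hk⟩, ?_⟩
  obtain ⟨rz₀, hrz₀⟩ := RedSub30.exists_lift_centralizer_self hZ (GrpSchLib.RankOne.torus_mul_comm hR.2.2.1)
  haveI : IsMonHom (rz₀ ≫ z) := by rw [hrz₀]; infer_instance
  haveI : IsMonHom rz₀ := RedSub30.isMonHom_of_mono z rz₀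
  obtain ⟨r1, _, hr1⟩ := RedSub30.exists_lift_centre hZZ rz₀ fun X g h => by
    rw [← cancel_mono z, MonObj.mul_comp, MonObj.mul_comp, Category.assoc, hrz₀]
    exact (RedSub30.centralizer_comm hZ g h).symm
  obtain ⟨e, he⟩ := RedSub30.TorusAbsorb.exists_factor (jzz ≫ z) hR.2.2.1 r1 rz hRZ
  obtain ⟨e', he'⟩ := RedSub30.exists_factor_centre_radical i hi jz hZH r hR z k hk hRZ.2.2.1 (rz ≫ jzz) fun X g x => by
    have := RedSub30.centralizer_comm hZZ (x ≫ rz) g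
    rwa [Category.comp_id, Category.assoc] at this
  have h1 : e ≫ rz ≫ jzz ≫ z = r ≫ jz ≫ i := by rw [reassoc_of% he, reassoc_of% hr1, hrz₀]
  have h2 : e' ≫ r ≫ jz ≫ i = rz ≫ jzz ≫ z := by
    rw [← hk, ← Category.assoc rz jzz z, ← he']
    simp only [Category.assoc]
  exact ⟨⟨e, e', by rw [← cancel_mono (r ≫ jz ≫ i), Category.assoc, h2, h1, Category.id_comp],
    by rw [← cancel_mono (rz ≫ jzz ≫ z), Category.assoc, h1, h2, Category.id_comp]⟩, h1⟩

end Groth.Agent.S6100
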