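import Groth.Statements.S6101
import Groth.Agent.RedSub30.OrderedRoots

set_option autoImplicit false
open CategoryTheory MonoidalCategory CartesianMonoidalCategory MonObj GrpObj AlgebraicGeometry
universe u
open RedSub

namespace Groth.Agent.S6101

open Groth.Agent.RedSub30.RootPoly Groth.Agent.GrpSchLib

/-- On points: let G be a split reductive S-group (splitting D with torus T, lattice M and root
homomorphisms u_a), fix a total order on M compatible with addition, and let a_1 < ⋯ < a_N be the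
roots which are positive for it, enumerated increasingly by e. For i + m = N write U_{>i} for the
products u_{a_{i+1}}(y_1) ⋯ u_{a_N}(y_m) of points of G_a, taken in increasing order. Then: U_{>i}
is closed under products and inverses; it is normalised by the points of T and by the points of
U_{>0}; and conjugating a point of U_{>i} by a point of U_{>0} does not change its first factor y_1
(inner automorphisms of U_{>0} act trivially on U_{>i}/U_{>i+1} = U_{a_{i+1}}). -/
theorem result {S : Scheme.{u}} {G : Over S} [GrpObj G] (D : Red.SplitRed G)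
    [LinearOrder D.M] [IsOrderedAddMonoid D.M] {N : ℕ} (e : Fin N → D.idx) (he : Function.Injective e)
    (hrange : ∀ a : D.idx, a ∈ Set.range e ↔ 0 < D.P.root a) (hmono : StrictMono (fun k => D.P.root (e k)))
    (i m : ℕ) (h : i + m = N) :
    (∀ (X : Over S) (y y' : Fin m → (X ⟶ Red.Ga S)), ∃ z : Fin m → (X ⟶ Red.Ga S),
      (List.ofFn (fun k => z k ≫ D.u (e (Fin.cast h (Fin.natAdd i k))))).prod =
        (List.ofFn (fun k => y k ≫ D.u (e (Fin.cast h (Fin.natAdd i k))))).prod *
          (List.ofFn (fun k => y' k ≫ D.u (e (Fin.cast h (Fin.natAdd i k))))).prod) ∧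
    (∀ (X : Over S) (y : Fin m → (X ⟶ Red.Ga S)), ∃ z : Fin m → (X ⟶ Red.Ga S),
      (List.ofFn (fun k => z k ≫ D.u (e (Fin.cast h (Fin.natAdd i k))))).prod =
        ((List.ofFn (fun k => y k ≫ D.u (e (Fin.cast h (Fin.natAdd i k))))).prod)⁻¹) ∧
    (∀ (X : Over S) (t : X ⟶ D.T) (y : Fin m → (X ⟶ Red.Ga S)), ∃ z : Fin m → (X ⟶ Red.Ga S),
      (List.ofFn (fun k => z k ≫ D.u (e (Fin.cast h (Fin.natAdd i k))))).prod =
        (t ≫ D.i) * (List.ofFn (fun k => y k ≫ D.u (e (Fin.cast h (Fin.natAdd i k))))).prod * (t ≫ D.i)⁻¹) ∧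
    (∀ (X : Over S) (x : Fin N → (X ⟶ Red.Ga S)) (y : Fin m → (X ⟶ Red.Ga S)), ∃ z : Fin m → (X ⟶ Red.Ga S),
      (List.ofFn (fun k => z k ≫ D.u (e (Fin.cast h (Fin.natAdd i k))))).prod =
        (List.ofFn (fun k => x k ≫ D.u (e k))).prod *
          (List.ofFn (fun k => y k ≫ D.u (e (Fin.cast h (Fin.natAdd i k))))).prod *
            ((List.ofFn (fun k => x k ≫ D.u (e k))).prod)⁻¹ ∧
      ∀ k : Fin m, (k : ℕ) = 0 → z k = y k) := by
  obtain ⟨lam, hlam⟩ := exists_form hrange
  have hl := isPosClosed_tail he hrange hmono hlam h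
  have back : ∀ {X : Over S} {g : X ⟶ G}, InProd D X (List.ofFn (tail e h)) g → ∃ z : Fin m → (X ⟶ Red.Ga S),
      (List.ofFn fun k => z k ≫ D.u (e (Fin.cast h (Fin.natAdd i k)))).prod = g := by
    rintro X g ⟨z, rfl⟩
    exact ⟨fun k => GaPts.ptOfFn (z (tail e h k)), by
      rw [pointProd_eq, rootProd_ofFn]; simp only [GaPts.gaFn_ptOfFn]⟩
  have fwd : ∀ {X : Over S} (y : Fin m → (X ⟶ Red.Ga S)), InProd D X (List.ofFn (tail e h))
      (List.ofFn fun k => y k ≫ D.u (e (Fin.cast h (Fin.natAdd i k)))).prod := fun y => by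
    rw [pointProd_eq]
    exact hl.wordPt_inProd _ (fun k => List.mem_ofFn.mpr ⟨k, rfl⟩) _
  refine ⟨fun X y y' => back (hl.mul (fwd y) (fwd y')), fun X y => back (hl.inv (fwd y)),
    fun X t y => back (hl.conj_torus t (fwd y)), fun X x y => ?_⟩
  obtain ⟨z, hz, hz0⟩ := exists_conj_tail he hrange hmono h X (fun k => Red.gaFn (x k)) (fun k => Red.gaFn (y k))
  refine ⟨fun k => GaPts.ptOfFn (z k), ?_, fun k hk => ?_⟩
  · rw [pointProd_eq, pointProd_eq, pointProd_eq]
    simp only [GaPts.gaFn_ptOfFn]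
    exact hz
  · exact GaPts.gaFn_injective ((GaPts.gaFn_ptOfFn _).trans (hz0 k hk))

end Groth.Agent.S6101
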