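import Groth.Statements.S6102
import Groth.Agent.RedSub30.GroupLaw

set_option autoImplicit false
open CategoryTheory MonoidalCategory CartesianMonoidalCategory MonObj GrpObj AlgebraicGeometry
universe u
open RedSub

namespace Groth.Agent.S6102

open Groth.Agent.RedSub30.RootPoly Groth.Agent.GrpSchLib Groth.Agent.Rank2Red38

/-- Existence, uniqueness and triangular form of the polynomial group law: let G be a split reductive
S-group (splitting D with root homomorphisms u_a and lattice M), fix a total order on M compatible
with addition, and let a_1 < ⋯ < a_N be the positive roots, enumerated increasingly by e. Then there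
is a unique family (Q_k) of polynomials in 2N variables over Γ(S, O_S) expressing the group law in
the coordinates x ↦ u_{a_1}(x_1) ⋯ u_{a_N}(x_N): for points x, y, z of G_a^N one has u(z) = u(x)
u(y) if and only if the coordinate of each z_k is Q_k(x, y); moreover Q_k = x_k + y_k + Q'_k with
Q'_k a polynomial in the x_j, y_j for j < k only. (The further assertion that the coefficients lie
in the subring generated by the structure constants of the commutator formulas is not stated.) -/
theorem result {S : Scheme.{u}} {G : Over S} [GrpObj G] (D : Red.SplitRed G)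
    [LinearOrder D.M] [IsOrderedAddMonoid D.M] {N : ℕ} (e : Fin N → D.idx) (he : Function.Injective e)
    (hrange : ∀ a : D.idx, a ∈ Set.range e ↔ 0 < D.P.root a) (hmono : StrictMono (fun k => D.P.root (e k))) :
    ∃! Q : Fin N → MvPolynomial (Fin N ⊕ Fin N) Γ(S, ⊤),
      (∀ (X : Over S) (x y z : Fin N → (X ⟶ Red.Ga S)),
        (List.ofFn (fun k => z k ≫ D.u (e k))).prod =
            (List.ofFn (fun k => x k ≫ D.u (e k))).prod * (List.ofFn (fun k => y k ≫ D.u (e k))).prod ↔
          ∀ k, Red.gaFn (z k) = MvPolynomial.eval₂ X.hom.appTop.hom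
            (Sum.elim (fun j => Red.gaFn (x j)) (fun j => Red.gaFn (y j))) (Q k)) ∧
      (∀ k : Fin N, ∀ v ∈ (Q k - MvPolynomial.X (Sum.inl k) - MvPolynomial.X (Sum.inr k)).vars,
        Sum.elim (fun j : Fin N => j < k) (fun j : Fin N => j < k) v) := by
  obtain ⟨Q, hQ, hQv⟩ := exists_groupLaw he hrange hmono
  refine ⟨Q, ⟨fun X x y z => ?_, hQv⟩, fun Q' hQ' => funext fun k => poly_ext fun X v => ?_⟩
  · rw [pointProd_eq, pointProd_eq, pointProd_eq, hQ]
    exact ⟨fun h k => congrFun (wordPt_injective he hrange X h) k, fun h => congrArg _ (funext h)⟩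
  · let z : Fin N → (X ⟶ Red.Ga S) := fun j => GaPts.ptOfFn (MvPolynomial.eval₂ (glob X) v (Q j))
    have hv : Sum.elim (fun j => v (Sum.inl j)) (fun j => v (Sum.inr j)) = v := funext fun i => by cases i <;> rfl
    have h := (hQ'.1 X (fun j => GaPts.ptOfFn (v (Sum.inl j))) (fun j => GaPts.ptOfFn (v (Sum.inr j))) z).mp (by
      rw [pointProd_eq, pointProd_eq, pointProd_eq, hQ]
      simp only [z, GaPts.gaFn_ptOfFn, hv]) k
    simp only [z, GaPts.gaFn_ptOfFn, hv] at h
    exact h.symm

end Groth.Agent.S6102
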