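import Groth.Statements.S6106
import Groth.Agent.RedSub30.Centre

set_option autoImplicit false
open CategoryTheory MonoidalCategory CartesianMonoidalCategory MonObj GrpObj AlgebraicGeometry
universe u
open RedSub

namespace Groth.Agent.S6106

/-- Let G be a reductive S-group, q : Q ⟶ G a subtorus, Z = Centr_G(Q), Z(Z) its centre and rad(Z) ⟶
Z(Z) a maximal torus. If q' : Q' ⟶ G is a subtorus containing Q which is C-critical (Q' is the
radical of its centraliser Z': it factors through the centre Z(Z') as a maximal torus of Z(Z')),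
then rad(Centr_G(Q)) ⊆ Q' as subgroups of G. Since rad(Centr_G(Q)) contains Q and is itself
C-critical, this says it is the smallest C-critical torus of G containing Q. -/
theorem result {S : Scheme.{u}} {G Q Z ZZ RZ Q' Z' ZZ' : Over S} [GrpObj G]
    [GrpObj Q] [GrpObj Z] [GrpObj ZZ] [GrpObj RZ] [GrpObj Q'] [GrpObj Z'] [GrpObj ZZ'] (hG : Red.IsReductive G)
    (q : Q ⟶ G) [IsMonHom q] [Mono q] (hQ : Red.IsTorus Q) (z : Z ⟶ G) (hZ : Red.IsCentralizerOf q z)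
    (jzz : ZZ ⟶ Z) (hZZ : Red.IsCentre jzz) (rz : RZ ⟶ ZZ) (hRZ : Red.IsMaximalTorus rz)
    (q' : Q' ⟶ G) [IsMonHom q'] [Mono q'] (hQ' : Red.IsTorus Q') (k : Q ⟶ Q') (hk : k ≫ q' = q)
    (z' : Z' ⟶ G) (hZ' : Red.IsCentralizerOf q' z') (jzz' : ZZ' ⟶ Z') (hZZ' : Red.IsCentre jzz')
    (m' : Q' ⟶ ZZ') (hm' : m' ≫ jzz' ≫ z' = q') (hcrit : Red.IsMaximalTorus m') :
    ∃ l : RZ ⟶ Q', l ≫ q' = rz ≫ jzz ≫ z := by
  haveI : IsAffineHom G.hom := hG.1
  haveI : Smooth G.hom := hG.2.1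
  haveI := hZ.1
  haveI := hZ.2.1
  haveI := hZZ.1
  haveI := hZZ.2.1
  haveI := hZ'.1
  haveI := hZ'.2.1
  haveI := hZZ'.1
  haveI := hZZ'.2.1
  haveI := hRZ.1
  haveI : IsCommMonObj ZZ' := RedSub30.isCommMonObj_centre hZZ'
  -- points of `Z'` centralise `Q`, so lie in `Z`
  have hsub : ∀ (X : Over S) (y : X ⟶ Z'), ∃ w : X ⟶ Z, w ≫ z = y ≫ z' := fun X y =>
    (hZ.2.2 X (y ≫ z')).mpr fun X' x h => by
      rw [← hk, ← Category.assoc x y, ← Category.assoc h k q']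
      exact RedSub30.centralizer_comm hZ' (x ≫ y) (h ≫ k)
  -- the centre of `Z` commutes with points of `Z`
  have hcz : ∀ (X : Over S) (t : X ⟶ RZ) (w : X ⟶ Z),
      (t ≫ rz ≫ jzz ≫ z) * (w ≫ z) = (w ≫ z) * (t ≫ rz ≫ jzz ≫ z) := fun X t w => by
    have := RedSub30.centralizer_comm hZZ (t ≫ rz) w
    rw [Category.comp_id] at this
    have e := congrArg (· ≫ z) this
    simp only [MonObj.mul_comp, Category.assoc] at e
    exact e
  obtain ⟨qz', hqz'⟩ := RedSub30.exists_lift_centralizer_self hZ' (GrpSchLib.RankOne.torus_mul_comm hQ')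
  -- `RZ` centralises `Q'`
  obtain ⟨r1, hr1⟩ := (hZ'.2.2 RZ (rz ≫ jzz ≫ z)).mpr fun X x h => by
    obtain ⟨w, hw⟩ := hsub X (h ≫ qz')
    rw [show h ≫ q' = w ≫ z by rw [hw, Category.assoc, hqz']]
    exact hcz X x w
  haveI : IsMonHom (r1 ≫ z') := by rw [hr1]; infer_instance
  haveI : IsMonHom r1 := RedSub30.isMonHom_of_mono z' r1
  obtain ⟨r2, _, hr2⟩ := RedSub30.exists_lift_centre hZZ' r1 fun X g h => by
    rw [← cancel_mono z', MonObj.mul_comp, MonObj.mul_comp, Category.assoc, hr1]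
    obtain ⟨w, hw⟩ := hsub X g
    rw [← hw]
    exact hcz X h w
  obtain ⟨l, hl⟩ := RedSub30.TorusAbsorb.exists_factor (jzz' ≫ z') hRZ.2.2.1 r2 m' hcrit
  exact ⟨l, by rw [← hm', reassoc_of% hl, reassoc_of% hr2, hr1]⟩

end Groth.Agent.S6106
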