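import Groth.Statements.S6108
import Groth.Agent.RedSub30.GroupLaw

set_option autoImplicit false
open CategoryTheory MonoidalCategory CartesianMonoidalCategory MonObj GrpObj AlgebraicGeometry
universe u
open RedSub

namespace Groth.Agent.S6108

open Groth.Agent.RedSub30.RootPoly Groth.Agent.GrpSchLib Groth.Agent.Rank2Red38

section

variable {S : Scheme.{u}} {A : Over S} {K : Over S} [GrpObj K] {N : ℕ}

/-- The value of a word. -/
noncomputable def word (g : Fin N → (A ⟶ K)) {X : Over S} (L : List (Fin N × (X ⟶ A))) : X ⟶ K :=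
  (L.map fun p => p.2 ≫ g p.1).prod

variable (g : Fin N → (A ⟶ K)) {X : Over S}

theorem word_append (L L' : List (Fin N × (X ⟶ A))) : word g (L ++ L') = word g L * word g L' := by
  simp [word, List.map_append, List.prod_append]

theorem word_cons (p : Fin N × (X ⟶ A)) (L : List (Fin N × (X ⟶ A))) : word g (p :: L) = (p.2 ≫ g p.1) * word g L := by
  simp [word]

theorem ofFn_eq_word (z : Fin N → (X ⟶ A)) :
    (List.ofFn fun k => z k ≫ g k).prod = word g ((List.finRange N).map fun k => (k, z k)) := by
  rw [word, List.map_map, List.ofFn_eq_map]; rfl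

variable [GrpObj A] [∀ k, IsMonHom (g k)]

/-- Split a word at an index below which it is trivial. -/
theorem prod_split (i : Fin N) (z : Fin N → (X ⟶ A)) (h : ∀ k < i, z k = 1) :
    (List.ofFn fun k => z k ≫ g k).prod =
      (z i ≫ g i) * word g (((List.finRange N).drop (i.val + 1)).map fun k => (k, z k)) := by
  rw [ofFn_eq_word]
  conv_lhs => rw [← List.take_append_drop i.val (List.finRange N)]
  rw [List.drop_eq_getElem_cons (l := List.finRange N) (i := i.val) (by simp), List.map_append, word_append,
    List.map_cons, word_cons, show word g (((List.finRange N).take i.val).map fun k => (k, z k)) = 1 from ?_,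
    _root_.one_mul]
  · simp
  · refine List.prod_eq_one fun w hw => ?_
    simp only [List.map_map, List.mem_map, List.mem_take_iff_getElem, Function.comp_apply] at hw
    obtain ⟨k, ⟨r, hr, rfl⟩, rfl⟩ := hw
    rw [h _ (by simp [Fin.lt_def]; omega), MonObj.one_comp]

theorem prod_single [DecidableEq (Fin N)] (j : Fin N) (a : X ⟶ A) :
    (List.ofFn fun k => (Function.update (1 : Fin N → (X ⟶ A)) j a) k ≫ g k).prod = a ≫ g j := by
  rw [List.ofFn_eq_map, List.prod_map_eq_pow_single j]
  · rw [List.count_eq_one_of_mem (List.nodup_finRange N) (List.mem_finRange j), pow_one, Function.update_self]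
  · intro k hk _
    rw [Function.update_of_ne hk, Pi.one_apply, MonObj.one_comp]

theorem mem_drop_finRange {i k : Fin N} (hk : k ∈ (List.finRange N).drop (i.val + 1)) : i.val + 1 ≤ k.val := by
  obtain ⟨r, hr, rfl⟩ := List.mem_iff_getElem.mp hk
  simp

end

variable {S : Scheme.{u}} {G H : Over S} [GrpObj G] [GrpObj H]
    {D : Red.SplitRed G} [LinearOrder D.M] [IsOrderedAddMonoid D.M] {N : ℕ} {e : Fin N → D.idx}

/-- The relation, with the shape of the conjugate. -/
theorem exists_conj (he : Function.Injective e) (hrange : ∀ a : D.idx, a ∈ Set.range e ↔ 0 < D.P.root a)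
    (hmono : StrictMono (fun k => D.P.root (e k))) (i j : Fin N) (X : Over S) (a c : X ⟶ Red.Ga S) :
    ∃ z : Fin N → (X ⟶ Red.Ga S), (∀ k < i, z k = 1) ∧ z i = a ∧
      (List.ofFn fun k => z k ≫ D.u (e k)).prod = (c ≫ D.u (e j)) * (a ≫ D.u (e i)) * (c ≫ D.u (e j))⁻¹ := by
  have h : i.val + (N - i.val) = N := by omega
  let y : Fin (N - i.val) → (X ⟶ Red.Ga S) := Function.update 1 ⟨0, by omega⟩ a
  let x : Fin N → (X ⟶ Red.Ga S) := Function.update 1 j c
  have hx : wordPt D X e (fun k => Red.gaFn (x k)) = c ≫ D.u (e j) := by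
    rw [← pointProd_eq]; exact prod_single (fun k => D.u (e k)) j c
  have hy : wordPt D X (tail e h) (fun k => Red.gaFn (y k)) = a ≫ D.u (e i) := by
    rw [← pointProd_eq]
    refine (prod_single (fun k => D.u (tail e h k)) ⟨0, by omega⟩ a).trans ?_
    exact congrArg (fun k => a ≫ D.u (e k)) (Fin.ext (by simp))
  obtain ⟨v, hv, hv0⟩ := exists_conj_tail he hrange hmono h X (fun k => Red.gaFn (x k)) (fun k => Red.gaFn (y k))
  rw [hx, hy] at hv
  let z : Fin N → (X ⟶ Red.Ga S) := fun k =>
    if hk : i.val ≤ k.val then GaPts.ptOfFn (v ⟨k.val - i.val, by omega⟩) else 1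
  refine ⟨z, fun k hk => dif_neg (not_le.mpr hk), ?_, ?_⟩
  · simp only [z]
    rw [dif_pos le_rfl]
    refine GaPts.gaFn_injective ?_
    dsimp only
    rw [GaPts.gaFn_ptOfFn, hv0 ⟨i.val - i.val, by omega⟩ (Nat.sub_self _)]
    simp [y]
  · rw [pointProd_eq, wordPt_split e h, ← hv]
    rw [show (fun k => Red.gaFn (z (Fin.cast h (Fin.castAdd _ k)))) = 0 from funext fun k => ?_,
      (isWeighted_wordPt D _).zero, _root_.one_mul]
    · refine congrArg (wordPt D X (tail e h)) (funext fun k => ?_)
      simp only [z]
      rw [dif_pos (by simp), GaPts.gaFn_ptOfFn]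
      exact congrArg v (Fin.ext (by simp))
    · simp only [z]
      rw [dif_neg (by simp), Pi.zero_apply]
      exact (congrArg Red.gaFn (GaPts.gaFn_injective (by simp [GaPts.gaFn_one, GaPts.gaFn_ptOfFn] :
        Red.gaFn (1 : X ⟶ Red.Ga S) = Red.gaFn (GaPts.ptOfFn (0 : Γ(X.left, ⊤)) : X ⟶ Red.Ga S)))).trans
        (GaPts.gaFn_ptOfFn 0)

/-- Let G be a split reductive S-group (splitting D with root homomorphisms u_a, lattice M), fix a total
order on M compatible with addition, let a_1 < ⋯ < a_N be the positive roots enumerated increasingly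
by e, and let f_1, …, f_N : G_a ⟶ H be homomorphisms into an S-group scheme H. Let F be the map
u_{a_1}(x_1) ⋯ u_{a_N}(x_N) ↦ f_1(x_1) ⋯ f_N(x_N) on points of U = U_{a_1} ⋯ U_{a_N}. Then F is
multiplicative if and only if, for all i < j and all points a, c of G_a, F applied to the
coordinates of u_{a_j}(c) u_{a_i}(a) u_{a_j}(c)⁻¹ equals f_j(c) f_i(a) f_j(c)⁻¹. (The published
statement allows H to be any group functor over S; this row takes H to be a group scheme over S.) -/
theorem result {S : Scheme.{u}} {G H : Over S} [GrpObj G] [GrpObj H]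
    (D : Red.SplitRed G) [LinearOrder D.M] [IsOrderedAddMonoid D.M] {N : ℕ} (e : Fin N → D.idx)
    (he : Function.Injective e) (hrange : ∀ a : D.idx, a ∈ Set.range e ↔ 0 < D.P.root a)
    (hmono : StrictMono (fun k => D.P.root (e k))) (f : Fin N → (Red.Ga S ⟶ H)) (hf : ∀ k, IsMonHom (f k)) :
    (∀ (X : Over S) (x y z : Fin N → (X ⟶ Red.Ga S)),
      (List.ofFn (fun k => z k ≫ D.u (e k))).prod =
          (List.ofFn (fun k => x k ≫ D.u (e k))).prod * (List.ofFn (fun k => y k ≫ D.u (e k))).prod →
        (List.ofFn (fun k => z k ≫ f k)).prod =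
          (List.ofFn (fun k => x k ≫ f k)).prod * (List.ofFn (fun k => y k ≫ f k)).prod) ↔
    (∀ (X : Over S) (i j : Fin N), i < j → ∀ (a c : X ⟶ Red.Ga S) (z : Fin N → (X ⟶ Red.Ga S)),
      (List.ofFn (fun k => z k ≫ D.u (e k))).prod = (c ≫ D.u (e j)) * (a ≫ D.u (e i)) * (c ≫ D.u (e j))⁻¹ →
        (List.ofFn (fun k => z k ≫ f k)).prod = (c ≫ f j) * (a ≫ f i) * (c ≫ f j)⁻¹) := by
  classical
  haveI : ∀ k, IsMonHom (f k) := hf
  haveI : ∀ k, IsMonHom (D.u (e k)) := fun k => isMonHom_u D (e k)
  let gG : Fin N → (Red.Ga S ⟶ G) := fun k => D.u (e k)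
  haveI : ∀ k, IsMonHom (gG k) := fun k => isMonHom_u D (e k)
  have huniq : ∀ {X : Over S} (x y : Fin N → (X ⟶ Red.Ga S)),
      (List.ofFn fun k => x k ≫ D.u (e k)).prod = (List.ofFn fun k => y k ≫ D.u (e k)).prod → x = y := by
    intro X x y hxy
    rw [pointProd_eq, pointProd_eq] at hxy
    exact funext fun k => GaPts.gaFn_injective (congrFun (wordPt_injective he hrange X hxy) k)
  constructor
  · intro hmul X i j _ a c z hz
    obtain ⟨Q, hQ, -⟩ := exists_groupLaw he hrange hmono
    let x : Fin N → (X ⟶ Red.Ga S) := Function.update 1 j c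
    let y : Fin N → (X ⟶ Red.Ga S) := Function.update 1 i a
    let w : Fin N → (X ⟶ Red.Ga S) := fun k => GaPts.ptOfFn
      (MvPolynomial.eval₂ (glob X) (Sum.elim (fun l => Red.gaFn (x l)) fun l => Red.gaFn (y l)) (Q k))
    have hw : (List.ofFn fun k => w k ≫ D.u (e k)).prod =
        (List.ofFn fun k => x k ≫ D.u (e k)).prod * (List.ofFn fun k => y k ≫ D.u (e k)).prod := by
      rw [pointProd_eq, pointProd_eq, pointProd_eq, hQ]
      simp only [w, GaPts.gaFn_ptOfFn]
    have hxG : (List.ofFn fun k => x k ≫ D.u (e k)).prod = c ≫ D.u (e j) := prod_single gG j c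
    have hyG : (List.ofFn fun k => y k ≫ D.u (e k)).prod = a ≫ D.u (e i) := prod_single gG i a
    have hxH : (List.ofFn fun k => x k ≫ f k).prod = c ≫ f j := prod_single f j c
    have hyH : (List.ofFn fun k => y k ≫ f k).prod = a ≫ f i := prod_single f i a
    have h1 := hmul X x y w hw
    have h2 := hmul X z x w (by rw [hw, hz, hxG, hyG]; group)
    rw [h2, hxH, hyH] at h1
    exact eq_mul_inv_of_mul_eq h1
  intro hrel X x y z hz
  suffices key : ∀ (d : ℕ) (L : List (Fin N × (X ⟶ Red.Ga S))), (∀ p ∈ L, N - d ≤ p.1.val) →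
      ∃ z : Fin N → (X ⟶ Red.Ga S), (∀ k : Fin N, k.val < N - d → z k = 1) ∧
        (List.ofFn fun k => z k ≫ D.u (e k)).prod = word gG L ∧ (List.ofFn fun k => z k ≫ f k).prod = word f L by
    obtain ⟨z', -, hG, hH⟩ := key N
      (((List.finRange N).map fun k => (k, x k)) ++ ((List.finRange N).map fun k => (k, y k))) (fun p _ => by omega)
    rw [word_append, ← ofFn_eq_word, ← ofFn_eq_word] at hG hH
    obtain rfl := huniq z' z (hG.trans hz.symm)
    exact hH
  intro d
  induction d with
  | zero =>
    intro L hL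
    have hL0 : L = [] := List.eq_nil_iff_forall_not_mem.mpr fun p hp => by have := hL p hp; omega
    subst hL0
    refine ⟨1, fun k _ => rfl, ?_, ?_⟩ <;>
    · rw [word, List.map_nil, List.prod_nil]
      exact List.prod_eq_one fun v hv => by obtain ⟨k, rfl⟩ := List.mem_ofFn.mp hv; exact MonObj.one_comp _
  | succ d ih =>
    rcases Nat.lt_or_ge d N with hdN | hdN
    swap
    · intro L hL
      obtain ⟨z, h1, h2⟩ := ih L fun p hp => by have := hL p hp; omega
      exact ⟨z, fun k hk => h1 k (by omega), h2⟩
    let i : Fin N := ⟨N - (d + 1), by omega⟩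
    intro L
    induction L with
    | nil =>
      intro _
      obtain ⟨z, h1, h2⟩ := ih [] (by simp)
      exact ⟨z, fun k hk => h1 k (by omega), h2⟩
    | cons p L ihL =>
      intro hL
      obtain ⟨z, h1, hG, hH⟩ := ihL fun q hq => hL q (List.mem_cons_of_mem _ hq)
      obtain ⟨j, c⟩ := p
      have hji : i ≤ j := hL _ List.mem_cons_self
      have hlow : ∀ (v : Fin N → (X ⟶ Red.Ga S)), (∀ k : Fin N, k.val < N - (d + 1) → v k = 1) →
          ∀ k < i, v k = 1 := fun v hv k hk => hv k hk
      rw [word_cons, word_cons, ← hG, ← hH, prod_split gG i z (hlow z h1), prod_split f i z (hlow z h1)]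
      set T := ((List.finRange N).drop (i.val + 1)).map fun k => (k, z k) with hT
      have hTmem : ∀ q ∈ T, N - d ≤ q.1.val := fun q hq => by
        obtain ⟨k, hk, rfl⟩ := List.mem_map.mp hq
        have h' : N - (d + 1) + 1 ≤ k.val := mem_drop_finRange (i := i) hk
        show N - d ≤ k.val
        omega
      -- it suffices to reach an element of the level times a word above it
      suffices h : ∃ (b : X ⟶ Red.Ga S) (U : List (Fin N × (X ⟶ Red.Ga S))), (∀ q ∈ U, N - d ≤ q.1.val) ∧
          (b ≫ gG i) * word gG U = (c ≫ gG j) * ((z i ≫ gG i) * word gG T) ∧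
          (b ≫ f i) * word f U = (c ≫ f j) * ((z i ≫ f i) * word f T) by
        obtain ⟨b, U, hU, hbG, hbH⟩ := h
        obtain ⟨v, v1, vG, vH⟩ := ih U hU
        let r := Function.update v i b
        have hv : ∀ k < i, r k = 1 := fun k hk => by
          simp only [r]
          rw [Function.update_of_ne hk.ne]
          exact v1 k (by have := Fin.lt_def.mp hk; simp [i] at this; omega)
        have hr : ∀ k < i, v k = 1 := fun k hk => v1 k (by have := Fin.lt_def.mp hk; simp [i] at this; omega)
        have hvi : v i = 1 := v1 i (by simp [i]; omega)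
        have e1 : (((List.finRange N).drop (i.val + 1)).map fun k => (k, r k)) =
            ((List.finRange N).drop (i.val + 1)).map fun k => (k, v k) := List.map_congr_left fun k hk => by
          have h' : i.val + 1 ≤ k.val := mem_drop_finRange hk
          simp only [r]
          rw [Function.update_of_ne (fun h => by rw [h] at h'; omega)]
        refine ⟨r, fun k hk => hv k hk, ?_, ?_⟩
        · rw [prod_split gG i r hv, show r i = b from Function.update_self .., e1, ← hbG, ← vG, prod_split gG i v hr,
            hvi, MonObj.one_comp, _root_.one_mul]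
        · rw [prod_split f i r hv, show r i = b from Function.update_self .., e1, ← hbH, ← vH, prod_split f i v hr,
            hvi, MonObj.one_comp, _root_.one_mul]
      rcases eq_or_lt_of_le hji with rfl | hlt
      · exact ⟨c * z i, T, hTmem, by rw [MonObj.mul_comp, _root_.mul_assoc], by rw [MonObj.mul_comp, _root_.mul_assoc]⟩
      · obtain ⟨w, w1, wi, wG⟩ := exists_conj he hrange hmono i j X (z i) c
        have wH := hrel X i j hlt (z i) c w wG
        refine ⟨z i, (((List.finRange N).drop (i.val + 1)).map fun k => (k, w k)) ++ (j, c) :: T, fun q hq => ?_, ?_, ?_⟩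
        · rcases List.mem_append.mp hq with h | h
          · obtain ⟨k, hk, rfl⟩ := List.mem_map.mp h
            have h' : N - (d + 1) + 1 ≤ k.val := mem_drop_finRange (i := i) hk
            show N - d ≤ k.val
            omega
          · rcases List.mem_cons.mp h with rfl | h
            · show N - d ≤ j.val
              have := Fin.lt_def.mp hlt; simp [i] at this; omega
            · exact hTmem q h
        · have e := prod_split gG i w w1
          rw [show (List.ofFn fun k => w k ≫ gG k).prod = _ from wG, wi] at e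
          rw [word_append, word_cons, ← _root_.mul_assoc (z i ≫ gG i), ← e]
          simp only [gG]
          group
        · have e := prod_split f i w w1
          rw [wH, wi] at e
          rw [word_append, word_cons, ← _root_.mul_assoc (z i ≫ f i), ← e]
          group

end Groth.Agent.S6108
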