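import Groth.Statements.S6119
import Groth.Agent.RedSub30.Quot

set_option autoImplicit false
open CategoryTheory MonoidalCategory CartesianMonoidalCategory MonObj GrpObj AlgebraicGeometry
universe u
open RedSub

namespace Groth.Agent.S6119

/-- The identification G/H ≅ corad(G)/corad(H): let G be a reductive S-group, d : D ⟶ G its derived
group and f₀ : G ⟶ C its coradical (C commutative, D = Ker f₀, f₀ the fppf quotient G/D, D killed by
every homomorphism to a commutative S-group scheme). Let t : T'' ⟶ C be a subtorus, H = G x_C T''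
its preimage under f₀ (with projections k : H ⟶ G and g : H ⟶ T''), and q : G ⟶ Q the fppf quotient
of G by H. Then q factors uniquely as f₀ followed by q' : C ⟶ Q, and q' exhibits Q as the fppf
quotient of C by T''. -/
theorem result {S : Scheme.{u}} {G D C T'' H Q : Over S} [GrpObj G] [GrpObj D]
    [GrpObj C] [GrpObj T''] [GrpObj H] (hG : Red.IsReductive G) (d : D ⟶ G) [IsMonHom d]
    (f₀ : G ⟶ C) [IsMonHom f₀] (hC : ∀ (X : Over S) (a b : X ⟶ C), a * b = b * a) (hker : AlgGrp.IsKernel d f₀)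
    (hquot : RedSub.IsQuotient d f₀) (hkill : RedSub.KilledByCommutative d)
    (t : T'' ⟶ C) [IsMonHom t] [Mono t] (hT'' : Red.IsTorus T'') (k : H ⟶ G) [IsMonHom k] (g : H ⟶ T'') [IsMonHom g]
    (hsq : IsPullback k g f₀ t) (q : G ⟶ Q) (hq : RedSub.IsQuotient k q) :
    ∃! q' : C ⟶ Q, f₀ ≫ q' = q ∧ RedSub.IsQuotient t q' := by
  have hcf := RedSub30.covers_of_isQuotient hquot
  have hcq := RedSub30.covers_of_isQuotient hq
  -- the derived group lies in the preimage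
  obtain ⟨e, he, he'⟩ : ∃ e : D ⟶ H, e ≫ k = d ∧ e ≫ g = 1 := by
    have h0 : d ≫ f₀ = (1 : D ⟶ T'') ≫ t := by
      rw [MonObj.one_comp]
      exact hker.w.trans (Hom.one_def.symm)
    exact ⟨hsq.lift d 1 h0, hsq.lift_fst _ _ _, hsq.lift_snd _ _ _⟩
  obtain ⟨q', hq', -⟩ := hcf.over_desc q fun T a b eab => by
    obtain ⟨y, rfl⟩ := (RedSub30.coset_iff hquot _ _).mp eab
    rw [← he, ← Category.assoc, RedSub30.mul_comp_quot hq]
  have := hcf.over_epi
  obtain ⟨h1, h2, h3⟩ := RedSub30.fppf_of_comp f₀ q' q hq' hquot.1 hquot.2.1 hquot.2.2.1 hq.1 hq.2.1 hq.2.2.1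
  have hcg : FpqcDescLib.Covers g.left := hcf.over_pullback t g k hsq.flip
  refine ⟨q', ⟨hq', h1, h2, h3, RedSub30.isPullback_act t _ (fun T x z => ?_) (fun T x y exy => ?_)⟩,
    fun q'' h'' => by rw [← cancel_epi f₀, h''.1, hq']⟩
  · obtain ⟨T₁, π₁, a, hπ₁, ha⟩ := RedSub30.exists_local_lift hcf x
    obtain ⟨T₂, π₂, h, hπ₂, hh⟩ := RedSub30.exists_local_lift hcg (π₁ ≫ z)
    have := hπ₁.over_epi
    have := hπ₂.over_epi
    rw [← cancel_epi π₁, ← cancel_epi π₂]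
    have e1 : π₂ ≫ π₁ ≫ (x * (z ≫ t)) = ((π₂ ≫ a) * (h ≫ k)) ≫ f₀ := by
      rw [MonObj.mul_comp, Category.assoc, ha, Category.assoc, hsq.w, reassoc_of% hh,
        MonObj.comp_mul, MonObj.comp_mul]
    rw [reassoc_of% e1, hq', RedSub30.mul_comp_quot hq, ← hq', Category.assoc, reassoc_of% ha]
  · obtain ⟨T₁, π₁, a₁, hπ₁, ha₁⟩ := RedSub30.exists_local_lift hcf x
    obtain ⟨T₂, π₂, b₂, hπ₂, hb₂⟩ := RedSub30.exists_local_lift hcf (π₁ ≫ y)
    obtain ⟨h₂, hh₂⟩ := (RedSub30.coset_iff hq (π₂ ≫ a₁) b₂).mp (by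
      rw [← hq', Category.assoc, reassoc_of% ha₁, reassoc_of% hb₂, exy])
    obtain ⟨w₁, hw₁⟩ := RedSub30.exists_factor_of_covers t hπ₂ (π₁ ≫ (x⁻¹ * y)) (h₂ ≫ g) (by
      rw [MonObj.comp_mul, GrpObj.comp_inv, MonObj.comp_mul, GrpObj.comp_inv, ← hb₂, ← ha₁, hh₂,
        MonObj.mul_comp]
      simp only [Category.assoc, hsq.w, inv_mul_cancel_left])
    obtain ⟨w, hw⟩ := RedSub30.exists_factor_of_covers t hπ₁ _ w₁ hw₁
    exact ⟨w, by rw [hw, mul_inv_cancel_left]⟩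

end Groth.Agent.S6119
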