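import Groth.Statements.S6197
import Groth.Agent.RelPC65.SmoothAmp

set_option autoImplicit false
universe u
open CategoryTheory CategoryTheory.Limits AlgebraicGeometry
attribute [local instance] HasDerivedCategory.standard
open KSix

namespace Groth.Agent.S6197

/-- Let i : X ⟶ X' be a closed immersion, f' : X' ⟶ Y smooth, f = i ≫ f', and F a cochain complex of
O_X-modules. Then F is locally of finite tor amplitude relative to f (stalkwise form) if and only if
the termwise direct image i_* F is locally of finite tor dimension in the absolute sense on X'. -/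
theorem result {X X' Y : Scheme.{u}} (i : X ⟶ X')
    [IsClosedImmersion i] (f' : X' ⟶ Y) [Smooth f'] (F : CochainComplex X.Modules ℤ) :
    DerSch.LocFiniteTorAmplitude (i ≫ f') F ↔
      DCoh.LocHasFiniteTorDim (DCoh.toD X' (((Scheme.Modules.pushforward i).mapHomologicalComplex (ComplexShape.up ℤ)).obj F)) := by
  constructor
  · intro h y
    by_cases hy : y ∈ Set.range i.base
    · obtain ⟨x, rfl⟩ := hy
      obtain ⟨V₀, a, b, hxV₀, hV₀⟩ := h x
      obtain ⟨n, hn⟩ : ∃ n : ℕ, ∃ V : X'.Opens, i.base x ∈ V ∧ SmoothOfRelativeDimension n (V.ι ≫ f') :=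
        RelPC65.exists_smoothOfRelativeDimension_nhd f' (i.base x)
      obtain ⟨V, hxV, hV⟩ := hn
      haveI := hV
      have hi := i.isClosedEmbedding
      let N : X'.Opens := ⟨(i.base '' (V₀ : Set X)ᶜ)ᶜ, (hi.isClosedMap _ V₀.2.isClosed_compl).isOpen_compl⟩
      let W : X'.Opens := V ⊓ N
      have hxW : i.base x ∈ W := ⟨hxV, fun ⟨x', hx', he⟩ => hx' (hi.injective he ▸ hxV₀)⟩
      refine ⟨W, a - n, b, hxW, fun F' ⟨e⟩ =>
        (RelPC65.hasFlatAmplitudeIn_iff_hasTorAmplitude_id _ _ b).2 fun w => ?_⟩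
      refine RelPC65.hasTorAmplitudeAt_restrict W w (RelPC65.hasTorAmplitudeAt_of_iso _ e.symm ?_)
      show DerSch.HasTorAmplitudeAt _ _ _ _ w.1
      by_cases hw : w.1 ∈ Set.range i.base
      · obtain ⟨x', hx'⟩ := hw
        rw [← hx']
        refine RelPC65.hasTorAmplitudeAt_push_smooth i f' n V x' (hx' ▸ w.2.1) (hV₀ x' ?_)
        by_contra hc
        exact w.2.2 ⟨x', hc, hx'⟩
      · exact RelPC65.hasTorAmplitudeAt_push_of_notMem (𝟙 X') i F _ b _ hw
    · refine ⟨⟨(Set.range i.base)ᶜ, i.isClosedEmbedding.isClosed_range.isOpen_compl⟩, 0, 0, hy,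
        fun F' ⟨e⟩ => (RelPC65.hasFlatAmplitudeIn_iff_hasTorAmplitude_id _ _ _).2 fun w => ?_⟩
      exact RelPC65.hasTorAmplitudeAt_restrict _ w (RelPC65.hasTorAmplitudeAt_of_iso _ e.symm
        (RelPC65.hasTorAmplitudeAt_push_of_notMem (𝟙 X') i F 0 0 _ w.2))
  · intro h x
    obtain ⟨V, a, b, hxV, hV⟩ := h (i.base x)
    exact ⟨i ⁻¹ᵁ V, a, b, hxV, fun x' hx' => RelPC65.hasTorAmplitudeAt_of_push i f' x'
      (RelPC65.hasTorAmplitudeAt_of_restrict V (hV _ ⟨Iso.refl _⟩) _ hx')⟩

end Groth.Agent.S6197
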