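import Groth.Statements.S7211
import Groth.Agent.RelPC13.FlatBase

set_option autoImplicit false
universe u
open CategoryTheory CategoryTheory.Limits AlgebraicGeometry Opposite TopologicalSpace
attribute [local instance] HasDerivedCategory.standard
open FlatMor Groth.Agent.RelPC13

namespace Groth.Agent.S7211

/-- Let i : X ⟶ P be a closed immersion and g : P ⟶ S a morphism which is flat and locally of finite
presentation. Let F be a cochain complex of O_X-modules and m an integer; the termwise direct image
i_* F computes Ri_* F, direct image along a closed immersion being exact. Then: the class of F is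
m-pseudo-coherent relative to i ≫ g : X ⟶ S (chart form) if and only if i_* F is m-pseudo-coherent
on P in the absolute sense; and i_* F is m-pseudo-coherent relative to g if and only if it is
m-pseudo-coherent on P in the absolute sense. -/
theorem result {X P S : Scheme.{u}} (i : X ⟶ P)
    [IsClosedImmersion i] (g : P ⟶ S) [Flat g] [LocallyOfFinitePresentation g] (m : ℤ)
    (F : CochainComplex X.Modules ℤ) :
    (DerSch.IsPseudoCoherentRel (i ≫ g) m (DCoh.toD X F) ↔
        DCoh.IsPseudoCoherentD m (DCoh.toD P ((DerSch.pushCx i).obj F))) ∧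
      (DerSch.IsPseudoCoherentRel g m (DCoh.toD P ((DerSch.pushCx i).obj F)) ↔
        DCoh.IsPseudoCoherentD m (DCoh.toD P ((DerSch.pushCx i).obj F))) := by
  have key : ∀ {Z : Scheme.{u}} (j : Z ⟶ P) [IsClosedImmersion j] (G : CochainComplex Z.Modules ℤ),
      DerSch.IsPseudoCoherentRel (j ≫ g) m (DCoh.toD Z G) ↔
        DCoh.IsPseudoCoherentD m (DCoh.toD P ((DerSch.pushCx j).obj G)) := fun j _ G =>
    (rel_closedImm_iff j g m _).trans ⟨fun h => (KFlatLib.isPseudoCoherentD_iff m _).2
      (h.of_iso (pDQ j G)), fun h => ((KFlatLib.isPseudoCoherentD_iff m _).1 h).of_iso (pDQ j G).symm⟩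
  refine ⟨key i F, ?_⟩
  let G := (DerSch.pushCx i).obj F
  let e' : DCoh.toD P ((DerSch.pushCx (𝟙 P)).obj G) ≅ DCoh.toD P G :=
    (DerivedCategory.Q.mapIso ((NatIso.mapHomologicalComplex (Scheme.Modules.pushforwardId P)
      (ComplexShape.up ℤ)).app G ≪≫ (Functor.mapHomologicalComplexIdIso _ _).app G))
  have := key (𝟙 P) G
  rw [Category.id_comp] at this
  refine this.trans ?_
  exact ⟨fun h => (KFlatLib.isPseudoCoherentD_iff m _).2
      (((KFlatLib.isPseudoCoherentD_iff m _).1 h).of_iso e'),
    fun h => (KFlatLib.isPseudoCoherentD_iff m _).2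
      (((KFlatLib.isPseudoCoherentD_iff m _).1 h).of_iso e'.symm)⟩

end Groth.Agent.S7211
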