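import Groth.Statements.S6225
import Groth.Agent.RelPC13.Single
-- import your own Groth.Agent.* helpers here

set_option autoImplicit false
universe u
open CategoryTheory CategoryTheory.Limits AlgebraicGeometry
attribute [local instance] HasDerivedCategory.standard
open KSix

namespace Groth.Agent.S6225

/-- Last assertion: a morphism f : X ⟶ Y locally of finite type is (-1)-pseudo-coherent (O_X placed in
degree 0 is (-1)-pseudo-coherent relative to f, in chart form) if and only if f is locally of finite
presentation. -/
theorem result {X Y : Scheme.{u}} (f : X ⟶ Y) [LocallyOfFiniteType f] :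
    DerSch.IsNPseudoCoherent f (-1) ↔ LocallyOfFinitePresentation f := by
  have alg : ∀ (R S : Type u) [CommRing R] [CommRing S] [Algebra R S],
      Algebra.FinitePresentation R S ↔ FlatCA.RelFinitePresentation R S S := fun R S _ _ _ => by
    constructor
    · rintro ⟨n, φ, hφ, hker⟩
      refine ⟨n, φ, hφ, ?_⟩
      letI : Module (MvPolynomial (Fin n) R) S := Module.compHom S φ.toRingHom
      let l : MvPolynomial (Fin n) R →ₗ[MvPolynomial (Fin n) R] S :=
        { toFun := φ, map_add' := map_add φ, map_smul' := fun a b => (map_mul φ a b) }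
      have hl : LinearMap.ker l = RingHom.ker φ.toRingHom := Submodule.ext fun _ => Iff.rfl
      exact Module.finitePresentation_of_surjective l hφ (hl ▸ hker)
    · rintro ⟨n, φ, hφ, h⟩
      letI : Module (MvPolynomial (Fin n) R) S := Module.compHom S φ.toRingHom
      haveI : Module.FinitePresentation (MvPolynomial (Fin n) R) S := h
      let l : MvPolynomial (Fin n) R →ₗ[MvPolynomial (Fin n) R] S :=
        { toFun := φ, map_add' := map_add φ, map_smul' := fun a b => (map_mul φ a b) }
      have hl : LinearMap.ker l = RingHom.ker φ.toRingHom := Submodule.ext fun _ => Iff.rfl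
      exact ⟨n, φ, hφ, hl ▸ Module.FinitePresentation.fg_ker l hφ⟩
  have e : DCoh.toD X (DerSch.unitCx X) ≅ DCoh.inD X (Coh.structureModule X) :=
    ((DerivedCategory.singleFunctorIsoCompQ X.Modules 0).app (Coh.structureModule X)).symm
  have hq : Coh.IsQCoh (Coh.structureModule X) := Groth.Agent.QCoh.isQCoh_structureModule (X := X)
  constructor
  · intro h
    obtain ⟨-, hP⟩ := Groth.Agent.RelPC13.rel_single_negOne.1 (Groth.Agent.RelPC13.rel_of_iso e h)
    haveI := hq
    refine ⟨fun {V} hV {U} hU hUV => ?_⟩
    have hr := Groth.Agent.RelFP.relFPOn_of_isRelFP hP ⟨U, hU⟩ ⟨V, hV⟩ hUV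
    letI := (f.appLE V U hUV).hom.toAlgebra
    exact (alg Γ(Y, V) Γ(X, U)).2 hr
  · intro h
    refine Groth.Agent.RelPC13.rel_of_iso e.symm (Groth.Agent.RelPC13.rel_single_negOne.2 ⟨hq, ?_⟩)
    haveI := hq
    refine Groth.Agent.RelFP.isRelFP_of_forall fun U V hUV => ?_
    letI := (f.appLE (V : Y.Opens) (U : X.Opens) hUV).hom.toAlgebra
    exact (alg Γ(Y, (V : Y.Opens)) Γ(X, (U : X.Opens))).1 (f.finitePresentation_appLE V.2 U.2 hUV)

end Groth.Agent.S6225
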