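import Groth.Statements.S6214
import Groth.Agent.RelPC65.FlatTerms
import Groth.Agent.S6225
import Groth.Agent.S6225

set_option autoImplicit false
universe u
open CategoryTheory CategoryTheory.Limits AlgebraicGeometry
attribute [local instance] HasDerivedCategory.standard
open KSix

namespace Groth.Agent.S6214

/-- A morphism f : X ⟶ Y locally of finite type has perfect dimension at most 0 (O_X placed in degree 0
is pseudo-coherent relative to f in chart form and has stalkwise tor amplitude in [0, 0] over the
local rings of Y) if and only if f is flat and locally of finite presentation. -/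
theorem result {X Y : Scheme.{u}} (f : X ⟶ Y) [LocallyOfFiniteType f] :
    DerSch.HasPerfDimLE f 0 ↔ (Flat f ∧ LocallyOfFinitePresentation f) := by
  have hq : Coh.IsQCoh (Coh.structureModule X) := Groth.Agent.QCoh.isQCoh_structureModule (X := X)
  have hfl : FlatMod.IsFlatOver f (Coh.structureModule X) ↔ Flat f := by
    refine (Groth.Agent.QCoh.isFlatOver_iff f hq).trans ⟨fun h => ?_, fun h U V hle hU hV => ?_⟩
    · exact ⟨fun {V} hV {U} hU hle => h U V hle hU hV⟩
    · exact Flat.flat_appLE f hV hU hle
  rw [← Groth.Agent.S6225.result f, ← hfl]
  exact Groth.Agent.RelPC65.perfAmp_zero_iff (Coh.structureModule X)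

end Groth.Agent.S6214
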