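import Groth.Statements.S6260
import Groth.Agent.RelPC65.BCTor

set_option autoImplicit false
universe u
open CategoryTheory CategoryTheory.Limits AlgebraicGeometry
attribute [local instance] HasDerivedCategory.standard
open KSix

namespace Groth.Agent.S6260

/-- Let S be a scheme and, for i = 1, 2, f_i : X_i ⟶ Y_i a morphism of S-schemes (structure morphisms
q_i : Y_i ⟶ S), with X₂ and Y₂ flat over S; let X = X₁ ×_S X₂ and Y = Y₁ ×_S Y₂ be given by pullback
squares, with projections p₁ : X ⟶ X₁, p₂ : X ⟶ X₂, and f : X ⟶ Y the morphism compatible with the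
projections. If f₁ and f₂ are locally of finite type and pseudo-coherent (their structure sheaves in
degree 0 are n-pseudo-coherent relative to them for every n, in chart form), then f = f₁ ×_S f₂ is
pseudo-coherent. (The published statement assumes only that X₁, X₂ and Y₁, Y₂ are tor-independent
over S; this row takes X₂ and Y₂ flat over S, which implies both conditions.) -/
theorem result {S X₁ Y₁ X₂ Y₂ X Y : Scheme.{u}} (f₁ : X₁ ⟶ Y₁) (q₁ : Y₁ ⟶ S)
    (f₂ : X₂ ⟶ Y₂) (q₂ : Y₂ ⟶ S) [Flat q₂] [Flat (f₂ ≫ q₂)]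
    (pX₁ : X ⟶ X₁) (pX₂ : X ⟶ X₂) (hX : IsPullback pX₁ pX₂ (f₁ ≫ q₁) (f₂ ≫ q₂))
    (pY₁ : Y ⟶ Y₁) (pY₂ : Y ⟶ Y₂) (hY : IsPullback pY₁ pY₂ q₁ q₂)
    (f : X ⟶ Y) (hf₁ : f ≫ pY₁ = pX₁ ≫ f₁) (hf₂ : f ≫ pY₂ = pX₂ ≫ f₂)
    [LocallyOfFiniteType f₁] [LocallyOfFiniteType f₂]
    (h₁ : ∀ n : ℤ, DerSch.IsNPseudoCoherent f₁ n) (h₂ : ∀ n : ℤ, DerSch.IsNPseudoCoherent f₂ n) (n : ℤ) :
    DerSch.IsNPseudoCoherent f n := by
  let M := pullback (f₁ ≫ q₁) q₂
  let a : X ⟶ M := pullback.lift pX₁ (pX₂ ≫ f₂) (by rw [hX.w, Category.assoc])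
  let b : M ⟶ Y := hY.lift (pullback.fst (f₁ ≫ q₁) q₂ ≫ f₁) (pullback.snd (f₁ ≫ q₁) q₂)
    (by rw [Category.assoc]; exact pullback.condition)
  have hM : IsPullback (pullback.snd (f₁ ≫ q₁) q₂) (pullback.fst (f₁ ≫ q₁) q₂) q₂ (f₁ ≫ q₁) :=
    (IsPullback.of_hasPullback _ _).flip
  have hb : IsPullback (pullback.fst (f₁ ≫ q₁) q₂) b f₁ pY₁ := by
    refine IsPullback.of_bot ?_ (hY.lift_fst _ _ _).symm hY
    rw [hY.lift_snd]
    exact IsPullback.of_hasPullback _ _
  have ha : IsPullback pX₂ a f₂ (pullback.snd (f₁ ≫ q₁) q₂) := by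
    refine IsPullback.of_bot ?_ (pullback.lift_snd _ _ _).symm hM
    rw [pullback.lift_fst]
    exact hX.flip
  haveI : LocallyOfFiniteType a := MorphismProperty.of_isPullback ha inferInstance
  haveI : LocallyOfFiniteType b := MorphismProperty.of_isPullback hb inferInstance
  haveI : Flat pY₁ := MorphismProperty.of_isPullback hY.flip inferInstance
  obtain rfl : f = a ≫ b := hY.hom_ext
    (by rw [hf₁, Category.assoc, hY.lift_fst, pullback.lift_fst_assoc])
    (by rw [hf₂, Category.assoc, hY.lift_snd, pullback.lift_snd])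
  have hA := Groth.Agent.RelPC65.nPseudoCoherent_bc_tor hM ha (m := n)
    (Groth.Agent.RelPC13.rel_of_iso (Groth.Agent.RelPC65.inDIso _) (h₂ n))
  have hB := Groth.Agent.RelPC65.nPseudoCoherent_bc hb (m := n)
    (Groth.Agent.RelPC13.rel_of_iso (Groth.Agent.RelPC65.inDIso _) (h₁ n))
  refine Groth.Agent.RelPC13.rel_of_iso (Groth.Agent.RelPC65.inDIso _).symm ?_
  simpa using Groth.Agent.RelPC65.nPseudoCoherent_comp n n hA hB

end Groth.Agent.S6260
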