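import Groth.Statements.S6333
import Mathlib

set_option autoImplicit false
universe u
open Fields
open scoped IntermediateField.algebraAdjoinAdjoin
set_option linter.style.haveILetI false

namespace Groth.Agent.S6333

/-- For a finitely generated field extension K/k, the algebraic closure of k inside K is a finite
extension of k. -/
theorem result {k K : Type u} [Field k] [Field K] [Algebra k K]
    (hfg : (⊤ : IntermediateField k K).FG) :
    FiniteDimensional k (algebraicClosure k K) := by
  classical
  haveI : FaithfulSMul k K := inferInstance
  obtain ⟨s, hs⟩ := exists_isTranscendenceBasis k K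
  let E := IntermediateField.adjoin k (Set.range ((↑) : s → K))
  haveI : Algebra.IsAlgebraic E K := hs.isAlgebraic_field
  haveI : Algebra.EssFiniteType k K := IntermediateField.fg_top_iff.1 hfg
  haveI : Algebra.EssFiniteType E K := Algebra.EssFiniteType.of_comp k E K
  haveI : FiniteDimensional E K := by
    obtain ⟨t, ht⟩ := IntermediateField.fg_top_iff.2 ‹Algebra.EssFiniteType E K›
    have h1 : FiniteDimensional E (IntermediateField.adjoin E (t : Set K)) :=
      IntermediateField.finiteDimensional_adjoin fun x _ => Algebra.IsIntegral.isIntegral x
    rw [ht] at h1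
    exact IntermediateField.topEquiv.toLinearEquiv.finiteDimensional
  have hind : AlgebraicIndependent (algebraicClosure k K) ((↑) : s → K) := hs.1.algebraicClosure
  let b := Module.Basis.ofVectorSpace k (algebraicClosure k K)
  have hli : LinearIndependent E fun i => (b i : K) := by
    refine (LinearIndependent.iff_fractionRing (Algebra.adjoin k (Set.range ((↑) : s → K))) E).1 ?_
    rw [linearIndependent_iff']
    intro S c hc i hi
    have hmem : ∀ j, ∃ P : MvPolynomial s k, MvPolynomial.aeval ((↑) : s → K) P = (c j : K) := fun j => by
      have h : (c j : K) ∈ Algebra.adjoin k (Set.range ((↑) : s → K)) := (c j).2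
      exact (SetLike.ext_iff.1 (Algebra.adjoin_range_eq_range_aeval k ((↑) : s → K)) _).1 h
    choose P hP using hmem
    let Q : MvPolynomial s (algebraicClosure k K) :=
      ∑ j ∈ S, MvPolynomial.C (b j) * MvPolynomial.map (algebraMap k (algebraicClosure k K)) (P j)
    have hQ : Q = 0 := hind.eq_zero_of_aeval_eq_zero Q (by
      rw [map_sum, ← hc]
      refine Finset.sum_congr rfl fun j _ => ?_
      rw [map_mul, MvPolynomial.aeval_C, MvPolynomial.aeval_map_algebraMap, hP, Algebra.smul_def, mul_comm]
      rfl)
    have hcoeff : ∀ d, (P i).coeff d = 0 := fun d => by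
      refine linearIndependent_iff'.1 b.linearIndependent S (fun j => (P j).coeff d) ?_ i hi
      have h1 := congrArg (MvPolynomial.coeff d) hQ
      rw [MvPolynomial.coeff_sum, MvPolynomial.coeff_zero] at h1
      rw [← h1]
      refine Finset.sum_congr rfl fun j _ => ?_
      rw [MvPolynomial.coeff_C_mul, MvPolynomial.coeff_map, Algebra.smul_def, mul_comm]
    refine Subtype.ext ?_
    rw [← hP i, show P i = 0 from MvPolynomial.ext _ _ fun d => by rw [hcoeff d, MvPolynomial.coeff_zero], map_zero]
    rfl
  haveI : Finite (Module.Basis.ofVectorSpaceIndex k (algebraicClosure k K)) := hli.finite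
  exact Module.Finite.of_basis b

end Groth.Agent.S6333
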