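import Groth.Statements.S6334
import Mathlib

set_option autoImplicit false
universe u
set_option linter.style.haveILetI false
open Fields

namespace Groth.Agent.S6334

open IntermediateField in
/-- Let E/F be a finite purely inseparable extension of fields of characteristic p > 0. Then there are
elements a_1, ..., a_n of E generating E over F such that for each i the p-th power of a_i lies in
F(a_1, ..., a_{i-1}) while a_i itself does not (so each step adjoins a p-th root and has degree p);
in particular [E : F] = p ^ n. -/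
theorem result {F E : Type u} [Field F] [Field E] [Algebra F E] (p : ℕ)
    [Fact p.Prime] [CharP F p] [FiniteDimensional F E] [IsPurelyInseparable F E] :
    ∃ (n : ℕ) (a : Fin n → E), adjoin F (Set.range a) = ⊤ ∧
      (∀ i : Fin n, a i ^ p ∈ adjoin F (a '' {j | j < i}) ∧ a i ∉ adjoin F (a '' {j | j < i})) ∧
      Module.finrank F E = p ^ n := by
  classical
  have hp : p.Prime := Fact.out
  haveI : ExpChar F p := ExpChar.prime hp
  let N : Set ℕ := {n | ∃ a : Fin n → E,
    (∀ i : Fin n, a i ^ p ∈ adjoin F (a '' {j | j < i}) ∧ a i ∉ adjoin F (a '' {j | j < i})) ∧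
      Module.finrank F (adjoin F (Set.range a)) = p ^ n}
  have hbdd : BddAbove N := ⟨Module.finrank F E, fun n ⟨a, _, ha⟩ => (Nat.lt_pow_self hp.one_lt).le.trans
    (ha ▸ Submodule.finrank_le (adjoin F (Set.range a)).toSubalgebra.toSubmodule)⟩
  have h0 : 0 ∈ N := ⟨Fin.elim0, fun i => i.elim0, by
    rw [Set.range_eq_empty, adjoin_empty, pow_zero]; exact IntermediateField.finrank_bot⟩
  obtain ⟨a, ha, hdeg⟩ := Nat.sSup_mem ⟨0, h0⟩ hbdd
  by_cases htop : adjoin F (Set.range a) = ⊤
  · refine ⟨_, a, htop, ha, ?_⟩
    rw [← hdeg, htop, IntermediateField.finrank_top']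
  exfalso
  let K := adjoin F (Set.range a)
  obtain ⟨x, hx⟩ : ∃ x, x ∉ K := not_forall.1 fun h => htop (eq_top_iff.2 fun x _ => h x)
  have hex : ∃ m, x ^ p ^ m ∈ K := by
    obtain ⟨m, y, hy⟩ := IsPurelyInseparable.pow_mem F p x
    exact ⟨m, hy ▸ K.algebraMap_mem y⟩
  obtain ⟨y, hy, hyK⟩ : ∃ y, y ∉ K ∧ y ^ p ∈ K := by
    have hm : Nat.find hex ≠ 0 := fun h => hx (by simpa [h] using Nat.find_spec hex)
    obtain ⟨m, hm'⟩ := Nat.exists_eq_succ_of_ne_zero hm
    refine ⟨x ^ p ^ m, Nat.find_min hex (by omega), ?_⟩
    have h1 := Nat.find_spec hex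
    rw [hm'] at h1
    rw [← pow_mul, ← pow_succ]
    exact h1
  haveI : ExpChar E p := expChar_of_injective_algebraMap (algebraMap F E).injective p
  have hirr : Irreducible (Polynomial.X ^ p - Polynomial.C (⟨y ^ p, hyK⟩ : K)) := by
    refine X_pow_sub_C_irreducible_of_prime hp fun b hb => ?_
    have : (b : E) ^ p = y ^ p := congrArg (fun z : K => (z : E)) hb
    exact hy ((frobenius_inj E p this) ▸ b.2)
  have hmin : (minpoly K y).natDegree = p := by
    rw [← minpoly.eq_of_irreducible_of_monic hirr ?_ (Polynomial.monic_X_pow_sub_C _ hp.ne_zero),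
      Polynomial.natDegree_X_pow_sub_C]
    rw [map_sub, Polynomial.aeval_X_pow, Polynomial.aeval_C]
    exact sub_self _
  have himg : ∀ i : Fin (sSup N), Fin.snoc a y '' {j | j < i.castSucc} = a '' {j | j < i} := by
    intro i
    ext z
    constructor
    · rintro ⟨j, hj, rfl⟩
      induction j using Fin.lastCases with
      | last => exact absurd hj (not_lt.2 (Fin.le_last _))
      | cast j => exact ⟨j, Fin.castSucc_lt_castSucc_iff.1 hj, (Fin.snoc_castSucc (α := fun _ => E) y a j).symm⟩
    · rintro ⟨j, hj, rfl⟩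
      exact ⟨j.castSucc, Fin.castSucc_lt_castSucc_iff.2 hj, Fin.snoc_castSucc (α := fun _ => E) y a j⟩
  have hlast : Fin.snoc a y '' {j | j < Fin.last (sSup N)} = Set.range a := by
    ext z
    constructor
    · rintro ⟨j, hj, rfl⟩
      induction j using Fin.lastCases with
      | last => exact (lt_irrefl (Fin.last (sSup N)) hj).elim
      | cast j => exact ⟨j, (Fin.snoc_castSucc (α := fun _ => E) y a j).symm⟩
    · rintro ⟨j, rfl⟩
      exact ⟨j.castSucc, Fin.castSucc_lt_last j, Fin.snoc_castSucc (α := fun _ => E) y a j⟩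
  have hmem : sSup N + 1 ∈ N := by
    refine ⟨Fin.snoc a y, fun i => ?_, ?_⟩
    · induction i using Fin.lastCases with
      | last => rw [hlast, Fin.snoc_last]; exact ⟨hyK, hy⟩
      | cast i => rw [himg, Fin.snoc_castSucc (α := fun _ => E)]; exact ha i
    · have h2 : Set.range (Fin.snoc a y : Fin (sSup N + 1) → E) = Set.range a ∪ {y} := by
        ext z
        constructor
        · rintro ⟨j, rfl⟩
          induction j using Fin.lastCases with
          | last => exact Or.inr (Fin.snoc_last (α := fun _ => E) y a)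
          | cast j => exact Or.inl ⟨j, (Fin.snoc_castSucc (α := fun _ => E) y a j).symm⟩
        · rintro (⟨j, rfl⟩ | rfl)
          · exact ⟨j.castSucc, Fin.snoc_castSucc (α := fun _ => E) y a j⟩
          · exact ⟨Fin.last _, Fin.snoc_last (α := fun _ => E) z a⟩
      rw [h2, ← IntermediateField.adjoin_adjoin_left]
      show Module.finrank F (IntermediateField.adjoin K {y}) = _
      rw [← Module.finrank_mul_finrank F K (IntermediateField.adjoin K {y}), hdeg,
        IntermediateField.adjoin.finrank (Algebra.IsIntegral.isIntegral y), hmin, pow_succ]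
  exact absurd (le_csSup hbdd hmem) (by omega)

end Groth.Agent.S6334
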