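import Groth.Statements.S6363
-- import your own Groth.Agent.* helpers here

set_option autoImplicit false
universe u
open scoped TensorProduct
open Fields

namespace Groth.Agent.S6363

/-- For a finite field extension L/K and a normal closure M of L/K, some K-algebra homomorphism from the
n-fold tensor power L ⊗_K ⋯ ⊗_K L to M is surjective, where n = [L : K]_s is the separable degree
(so n ≤ [L : K]). -/
theorem result {K L M : Type u} [Field K] [Field L] [Field M]
    [Algebra K L] [Algebra K M] [Algebra L M] [IsScalarTower K L M] [FiniteDimensional K L]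
    [IsNormalClosure K L M] :
    ∃ f : (⨂[K] _ : Fin (Field.finSepDegree K L), L) →ₐ[K] M, Function.Surjective f := by
  classical
  obtain ⟨hs, htop⟩ := (Algebra.IsAlgebraic.isNormalClosure_iff (F := K) (K := L) (L := M)).1 inferInstance
  let e : Fin (Field.finSepDegree K L) ≃ (L →ₐ[K] M) :=
    (Finite.equivFinOfCardEq (n := Field.finSepDegree K L)
      (Field.finSepDegree_eq_of_adjoin_splits K L M (IntermediateField.adjoin_univ K L)
        (fun s _ => ⟨Algebra.IsIntegral.isIntegral s, hs s⟩)).symm).symm
  let f₀ : MultilinearMap K (fun _ : Fin (Field.finSepDegree K L) => L) M :=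
    (MultilinearMap.mkPiAlgebra K (Fin (Field.finSepDegree K L)) M).compLinearMap fun i => (e i).toLinearMap
  let f : (⨂[K] _ : Fin (Field.finSepDegree K L), L) →ₐ[K] M :=
    PiTensorProduct.liftAlgHom f₀ (by simp [f₀]) (fun x y => by simp [f₀, Finset.prod_mul_distrib])
  refine ⟨f, ?_⟩
  haveI : Normal K M := IsNormalClosure.normal (K := L)
  have hle : ∀ g : L →ₐ[K] M, g.range ≤ f.range := by
    rintro g _ ⟨a, rfl⟩
    refine ⟨PiTensorProduct.singleAlgHom (e.symm g) a, ?_⟩
    show f (PiTensorProduct.tprod K _) = g a
    simp only [f, PiTensorProduct.liftAlgHom_apply, f₀, PiTensorProduct.lift.tprod, MultilinearMap.compLinearMap_apply,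
      MultilinearMap.mkPiAlgebra_apply, AlgHom.toLinearMap_apply]
    rw [Finset.prod_eq_single (e.symm g) (fun i _ hi => by simp [MonoidHom.mulSingle_apply, Pi.mulSingle_eq_of_ne hi])
      (fun h => absurd (Finset.mem_univ _) h)]
    simp [MonoidHom.mulSingle_apply]
  let E : IntermediateField K M := f.range.toIntermediateField fun x hx => by
    exact f.range.inv_mem_of_algebraic (x := ⟨x, hx⟩) (Algebra.IsAlgebraic.isAlgebraic x)
  have : (⊤ : IntermediateField K M) ≤ E := by
    rw [← htop]
    exact normalClosure_le_iff.2 fun g => hle g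
  exact fun x => this (IntermediateField.mem_top (x := x))

end Groth.Agent.S6363
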