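import Groth.Statements.S6387
import Groth.Agent.S0393
import Mathlib.Algebra.Category.ModuleCat.ChangeOfRings
import Mathlib.Algebra.Category.ModuleCat.Kernels
import Mathlib.Algebra.Homology.ShortComplex.ModuleCat
import Mathlib.Algebra.Homology.ShortComplex.HomologicalComplex
import Mathlib.Algebra.Category.ModuleCat.Monoidal.Basic
import Mathlib.LinearAlgebra.TensorProduct.Quotient

set_option autoImplicit false
universe u
open CategoryTheory
open CAlg

namespace Groth.Agent.S6387

open TensorProduct

/-- The criterion `S0393` in quotient form. -/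
theorem injective_and_flat_of_mem {R S M N : Type u} [CommRing R] [CommRing S] [IsLocalRing R]
    [IsLocalRing S] [IsNoetherianRing S] [Algebra R S] [IsLocalHom (algebraMap R S)]
    [AddCommGroup M] [Module R M] [Module.Flat R M]
    [AddCommGroup N] [Module R N] [Module S N] [IsScalarTower R S N] [Module.Finite S N]
    (u : N →ₗ[R] M)
    (h : ∀ x : N, u x ∈ IsLocalRing.maximalIdeal R • (⊤ : Submodule R M) →
      x ∈ IsLocalRing.maximalIdeal R • (⊤ : Submodule R N)) :
    Function.Injective u ∧ Module.Flat R (M ⧸ LinearMap.range u) := by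
  refine Groth.Agent.S0393.result (S := S) u ?_
  let eN := TensorProduct.quotTensorEquivQuotSMul N (IsLocalRing.maximalIdeal R)
  let eM := TensorProduct.quotTensorEquivQuotSMul M (IsLocalRing.maximalIdeal R)
  let q : (N ⧸ IsLocalRing.maximalIdeal R • (⊤ : Submodule R N)) →ₗ[R]
      (M ⧸ IsLocalRing.maximalIdeal R • (⊤ : Submodule R M)) :=
    Submodule.mapQ _ _ u (by
      rw [← Submodule.map_le_iff_le_comap, Submodule.map_smul'']
      exact Submodule.smul_mono le_rfl le_top)
  have hq : Function.Injective q := by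
    rw [injective_iff_map_eq_zero]
    intro z hz
    obtain ⟨z, rfl⟩ := Submodule.Quotient.mk_surjective _ z
    rw [Submodule.mapQ_apply, Submodule.Quotient.mk_eq_zero] at hz
    exact (Submodule.Quotient.mk_eq_zero _).2 (h z hz)
  have he : ∀ z, eM (LinearMap.lTensor (R ⧸ IsLocalRing.maximalIdeal R) u z) = q (eN z) := fun z => by
    induction z using TensorProduct.induction_on with
    | zero => simp
    | tmul a b =>
      obtain ⟨a, rfl⟩ := Ideal.Quotient.mk_surjective a
      simp [eM, eN, q]
    | add a b ha hb => simp only [map_add, ha, hb]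
  intro a b hab
  exact eN.injective (hq ((he a).symm.trans ((congrArg eM hab).trans (he b))))

/-- Let R and S be Noetherian local rings, R → S a local ring map, and m the maximal ideal of R. Take a
bounded complex F_e → … → F_1 → F_0 of finitely generated S-modules, zero to the left of F_e (a
chain complex C with C_j = 0 for j > e) such that every F_j is flat over R and the complex 0 →
F_e/mF_e → … → F_0/mF_0 (C tensored over S with S/mS) is exact at F_e, …, F_1. Then 0 → F_e → … →
F_0 is exact at F_e, …, F_1 and the cokernel of F_1 → F_0 (the homology of C in degree 0) is flat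
over R. -/
theorem result {R S : Type u} [CommRing R] [CommRing S]
    [IsLocalRing R] [IsLocalRing S] [IsNoetherianRing R] [IsNoetherianRing S] [Algebra R S]
    [IsLocalHom (algebraMap R S)] (C : ChainComplex (ModuleCat.{u} S) ℕ) (e : ℕ)
    (hzero : ∀ j, e < j → Limits.IsZero (C.X j)) (hfin : ∀ j, Module.Finite S (C.X j))
    (hflat : ∀ j, Module.Flat R ((ModuleCat.restrictScalars (algebraMap R S)).obj (C.X j)))
    (hex : ∀ j, 1 ≤ j → j ≤ e →
      (((MonoidalCategory.tensorLeft
          (ModuleCat.of S (S ⧸ (IsLocalRing.maximalIdeal R).map (algebraMap R S)))).mapHomologicalComplex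
          (ComplexShape.down ℕ)).obj C).ExactAt j) :
    (∀ j, 1 ≤ j → j ≤ e → C.ExactAt j) ∧
      Module.Flat R ((ModuleCat.restrictScalars (algebraMap R S)).obj (C.homology 0)) := by
  classical
  let m := IsLocalRing.maximalIdeal R
  let mS := m.map (algebraMap R S)
  letI instR : ∀ j, Module R (C.X j) := fun j => Module.compHom (C.X j) (algebraMap R S)
  haveI : ∀ j, IsScalarTower R S (C.X j) := fun j =>
    IsScalarTower.of_algebraMap_smul fun r x => rfl
  haveI : ∀ j, Module.Flat R (C.X j) := hflat
  -- boundaries and cokernels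
  let B : ∀ j, Submodule S (C.X j) := fun j => LinearMap.range (C.d (j + 1) j).hom
  have hB : ∀ j, e ≤ j → B j = ⊥ := fun j hj => by
    have := ModuleCat.subsingleton_of_isZero (hzero (j + 1) (by omega))
    rw [eq_bot_iff]
    rintro _ ⟨x, rfl⟩
    simp [Subsingleton.elim x 0]
  have hmS : ∀ (P : Type u) [AddCommGroup P] [Module S P] [Module R P] [IsScalarTower R S P] (x : P),
      x ∈ mS • (⊤ : Submodule S P) ↔ x ∈ m • (⊤ : Submodule R P) := fun P _ _ _ _ x => by
    show x ∈ (mS • (⊤ : Submodule S P)).restrictScalars R ↔ _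
    rw [show (mS • (⊤ : Submodule S P)).restrictScalars R = m • (⊤ : Submodule R P) from
      Ideal.smul_restrictScalars m ⊤]
  -- the hypothesis, elementwise
  have hmod : ∀ j, j + 1 ≤ e → ∀ x : C.X (j + 1),
      (C.d (j + 1) j).hom x ∈ mS • (⊤ : Submodule S (C.X j)) →
      ∃ y : C.X (j + 1 + 1),
        x - (C.d (j + 1 + 1) (j + 1)).hom y ∈ mS • (⊤ : Submodule S (C.X (j + 1))) := by
    intro j hj x hx
    have h := hex (j + 1) (by omega) hj
    rw [HomologicalComplex.exactAt_iff' _ (j + 1 + 1) (j + 1) j (by simp) (by simp),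
      ShortComplex.moduleCat_exact_iff] at h
    have hzero' : ∀ (i : ℕ) (w : C.X i),
        ((1 : S ⧸ mS) ⊗ₜ[S] w : (S ⧸ mS) ⊗[S] C.X i) = 0 ↔ w ∈ mS • (⊤ : Submodule S (C.X i)) :=
      fun i w => by
        rw [← (TensorProduct.quotTensorEquivQuotSMul (C.X i) mS).map_eq_zero_iff,
          show (1 : S ⧸ mS) = Ideal.Quotient.mk mS 1 from rfl,
          TensorProduct.quotTensorEquivQuotSMul_mk_tmul, one_smul, Submodule.Quotient.mk_eq_zero]
    obtain ⟨w, hw⟩ := h ((1 : S ⧸ mS) ⊗ₜ[S] x) ((hzero' j _).2 hx)
    obtain ⟨y, rfl⟩ : ∃ y : C.X (j + 1 + 1), ((1 : S ⧸ mS) ⊗ₜ[S] y : (S ⧸ mS) ⊗[S] C.X (j + 1 + 1)) = w :=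
      TensorProduct.mk_surjective S (C.X (j + 1 + 1)) (S ⧸ mS) Ideal.Quotient.mk_surjective w
    refine ⟨y, (hzero' (j + 1) _).1 ?_⟩
    rw [TensorProduct.tmul_sub, sub_eq_zero]
    exact hw.symm
  -- descending induction
  have step : ∀ j, j + 1 ≤ e → Module.Flat R (C.X (j + 1) ⧸ B (j + 1)) →
      LinearMap.ker (C.d (j + 1) j).hom ≤ B (j + 1) ∧ Module.Flat R (C.X j ⧸ B j) := by
    intro j hj hfl
    have := hfin (j + 1)
    let ubar : (C.X (j + 1) ⧸ B (j + 1)) →ₗ[S] C.X j := (B (j + 1)).liftQ (C.d (j + 1) j).hom (by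
      rintro _ ⟨y, rfl⟩
      exact congrArg (fun φ => φ.hom y) (C.d_comp_d (j + 1 + 1) (j + 1) j))
    obtain ⟨hinj, hflc⟩ := injective_and_flat_of_mem (S := S) (ubar.restrictScalars R) (by
      intro z hz
      obtain ⟨x, rfl⟩ := Submodule.Quotient.mk_surjective _ z
      rw [← hmS] at hz ⊢
      obtain ⟨y, hy⟩ := hmod j hj x hz
      have h1 := Submodule.mem_map_of_mem (f := (B (j + 1)).mkQ) hy
      rw [Submodule.map_smul'', Submodule.map_top, Submodule.range_mkQ, map_sub,
        Submodule.mkQ_apply, Submodule.mkQ_apply,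
        (Submodule.Quotient.mk_eq_zero (B (j + 1))).2 ⟨y, rfl⟩, sub_zero] at h1
      exact h1)
    refine ⟨fun x hx => ?_, ?_⟩
    · rw [← Submodule.Quotient.mk_eq_zero (B (j + 1))]
      exact hinj (show ubar (Submodule.Quotient.mk x) = ubar 0 by rw [map_zero]; exact hx)
    · have hr : LinearMap.range (ubar.restrictScalars R) = (B j).restrictScalars R := by
        rw [LinearMap.range_restrictScalars, Submodule.range_liftQ]
      exact Module.Flat.of_linearEquiv
        (((Submodule.quotEquivOfEq _ _ hr).trans (Submodule.Quotient.restrictScalarsEquiv R (B j))).symm)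
  have hflatCok : ∀ k j, j + k = e → Module.Flat R (C.X j ⧸ B j) := by
    intro k
    induction k with
    | zero =>
      intro j hj
      exact Module.Flat.of_linearEquiv ((Submodule.quotEquivOfEqBot (B j) (hB j (by omega))).restrictScalars R)
    | succ k ih => exact fun j hj => (step j (by omega) (ih (j + 1) (by omega))).2
  refine ⟨fun j hj1 hje => ?_, ?_⟩
  · obtain ⟨i, rfl⟩ : ∃ i, j = i + 1 := ⟨j - 1, by omega⟩
    rw [HomologicalComplex.exactAt_iff' _ (i + 1 + 1) (i + 1) i (by simp) (by simp),
      ShortComplex.moduleCat_exact_iff]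
    intro x hx
    exact (step i hje (hflatCok (e - (i + 1)) (i + 1) (by omega))).1 hx
  · let φ : C.homology 0 ≅ ModuleCat.of S (C.X 0 ⧸ B 0) :=
      C.isoHomologyι₀ ≪≫ (C.opcyclesIsCokernel 1 0 (by simp)).coconePointUniqueUpToIso
        (ModuleCat.cokernelIsColimit (C.d 1 0))
    letI : Module R (C.homology 0) := Module.compHom (C.homology 0) (algebraMap R S)
    haveI : IsScalarTower R S (C.homology 0) := IsScalarTower.of_algebraMap_smul fun r x => rfl
    haveI := hflatCok e 0 (by omega)
    exact Module.Flat.of_linearEquiv (φ.toLinearEquiv.restrictScalars R)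

end Groth.Agent.S6387
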