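import Groth.Statements.S6434
import Mathlib.Data.Fintype.Sigma
import Mathlib.Data.Fintype.Prod
-- import your own Groth.Agent.* helpers here

set_option autoImplicit false
open CategoryTheory
universe v u v' u'
open CatLoc

namespace Groth.Agent.S6434

/-- The localization functor at a left multiplicative system commutes with finite colimits. -/
theorem result {C : Type u} [Category.{v} C] {D : Type u'} [Category.{v'} D] (W : MorphismProperty C) (L : C ⥤ D) [L.IsLocalization W] [W.HasLeftCalculusOfFractions] :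
    Limits.PreservesFiniteColimits L := by
  classical
  have hA : ∀ {ι : Type} (T : Finset ι) (X : ι → C) (Y : C) (a : ∀ i, L.obj (X i) ⟶ L.obj Y),
      ∃ (Y' : C) (s : Y ⟶ Y'), W s ∧ ∀ i ∈ T, ∃ f : X i ⟶ Y', L.map f = a i ≫ L.map s := by
    intro ι T X Y a
    induction T using Finset.induction with
    | empty => exact ⟨Y, 𝟙 Y, W.id_mem Y, by simp⟩
    | @insert i T hi ih =>
      obtain ⟨Y', s, hs, h⟩ := ih
      obtain ⟨φ, hφ⟩ := Localization.exists_leftFraction L W (a i ≫ L.map s)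
      refine ⟨φ.Y', s ≫ φ.s, W.comp_mem _ _ hs φ.hs, fun j hj => ?_⟩
      rcases Finset.mem_insert.1 hj with rfl | hj
      · refine ⟨φ.f, ?_⟩
        rw [L.map_comp, reassoc_of% hφ, φ.map_comp_map_s]
      · obtain ⟨g, hg⟩ := h j hj
        exact ⟨g ≫ φ.s, by rw [L.map_comp, L.map_comp, hg, Category.assoc]⟩
  have hB : ∀ {ι : Type} (T : Finset ι) (X : ι → C) (Y : C) (u u' : ∀ i, X i ⟶ Y),
      (∀ i, L.map (u i) = L.map (u' i)) →
      ∃ (Y' : C) (s : Y ⟶ Y'), W s ∧ ∀ i ∈ T, u i ≫ s = u' i ≫ s := by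
    intro ι T X Y u u' huu
    induction T using Finset.induction with
    | empty => exact ⟨Y, 𝟙 Y, W.id_mem Y, by simp⟩
    | @insert i T hi ih =>
      obtain ⟨Y', s, hs, h⟩ := ih
      obtain ⟨Y'', t, ht, he⟩ := (MorphismProperty.map_eq_iff_postcomp L W (u i ≫ s) (u' i ≫ s)).1
        (by rw [L.map_comp, L.map_comp, huu i])
      refine ⟨Y'', s ≫ t, W.comp_mem _ _ hs ht, fun j hj => ?_⟩
      rcases Finset.mem_insert.1 hj with rfl | hj
      · simpa using he
      · rw [← Category.assoc, h j hj, Category.assoc]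
  have := Localization.essSurj L W
  refine ⟨fun J _ hJ => ⟨fun {K} => ⟨fun {c} hc => ⟨?_⟩⟩⟩⟩
  haveI : Fintype J := hJ.fintypeObj
  haveI : ∀ a b : J, Fintype (a ⟶ b) := hJ.fintypeHom
  have ex : ∀ (s : Limits.Cocone (K ⋙ L)), ∃! d : L.obj c.pt ⟶ s.pt,
      ∀ j, L.map (c.ι.app j) ≫ d = s.ι.app j := by
    intro s
    let Y := L.objPreimage s.pt
    let e : L.obj Y ≅ s.pt := L.objObjPreimageIso s.pt
    haveI : ∀ p : J × J, Fintype (p.1 ⟶ p.2) := fun p => hJ.fintypeHom p.1 p.2
    obtain ⟨Y', t, ht, hf⟩ := hA Finset.univ K.obj Y fun j => s.ι.app j ≫ e.inv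
    choose f hf using fun j => hf j (Finset.mem_univ j)
    obtain ⟨Y'', t', ht', heq⟩ := hB (Finset.univ : Finset (Σ p : J × J, p.1 ⟶ p.2))
      (fun p => K.obj p.1.1) Y' (fun p => K.map p.2 ≫ f p.1.2) (fun p => f p.1.1) (fun p => by
        rw [L.map_comp, hf, hf, ← Category.assoc, ← Category.assoc]
        congr 2
        exact s.w p.2)
    let s' : Limits.Cocone K :=
      { pt := Y''
        ι :=
          { app := fun j => f j ≫ t'
            naturality := fun j k g => by
              show K.map g ≫ f k ≫ t' = (f j ≫ t') ≫ 𝟙 _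
              rw [← Category.assoc, heq ⟨(j, k), g⟩ (Finset.mem_univ _), Category.comp_id] } }
    haveI : IsIso (L.map (t ≫ t')) := Localization.inverts L W _ (W.comp_mem _ _ ht ht')
    refine ⟨L.map (hc.desc s') ≫ inv (L.map (t ≫ t')) ≫ e.hom, fun j => ?_, fun d hd => ?_⟩
    · rw [← L.map_comp_assoc, hc.fac, show s'.ι.app j = f j ≫ t' from rfl, L.map_comp, hf,
        Category.assoc, Category.assoc, ← L.map_comp_assoc t t', IsIso.hom_inv_id_assoc,
        Category.assoc, Iso.inv_hom_id, Category.comp_id]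
    · obtain ⟨φ, hφ⟩ := Localization.exists_leftFraction L W (d ≫ e.inv)
      obtain ⟨Z, w, hw, hsq⟩ := MorphismProperty.HasLeftCalculusOfFractions.exists_leftFraction
        (MorphismProperty.RightFraction.mk (t ≫ t') (W.comp_mem _ _ ht ht') φ.s)
        |>.elim fun ψ h => (⟨ψ.Y', ψ.s, ψ.hs, ψ.f, h⟩ :
          ∃ (Z : C) (w : φ.Y' ⟶ Z) (_ : W w) (v : Y'' ⟶ Z), φ.s ≫ w = (t ≫ t') ≫ v)
      obtain ⟨v, hv⟩ := hsq
      have key : ∀ j, L.map (c.ι.app j ≫ φ.f ≫ w) = L.map (s'.ι.app j ≫ v) := by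
        intro j
        rw [L.map_comp, L.map_comp φ.f, ← φ.map_comp_map_s L (Localization.inverts L W), ← hφ]
        rw [show s'.ι.app j = f j ≫ t' from rfl, L.map_comp, L.map_comp, hf]
        simp only [Category.assoc]
        rw [reassoc_of% (hd j)]
        congr 2
        rw [← L.map_comp, ← L.map_comp, ← L.map_comp, hv, Category.assoc]
      obtain ⟨Z', z, hz, hzeq⟩ := hB Finset.univ K.obj Z (fun j => c.ι.app j ≫ φ.f ≫ w)
        (fun j => s'.ι.app j ≫ v) key
      have hd' : φ.f ≫ w ≫ z = hc.desc s' ≫ v ≫ z := hc.hom_ext fun j => by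
        rw [hc.fac_assoc]
        simpa using hzeq j (Finset.mem_univ j)
      haveI : IsIso (L.map (φ.s ≫ w ≫ z)) :=
        Localization.inverts L W _ (W.comp_mem _ _ φ.hs (W.comp_mem _ _ hw hz))
      rw [← cancel_mono e.inv, ← cancel_mono (L.map (φ.s ≫ w ≫ z))]
      simp only [Category.assoc, Iso.hom_inv_id, Category.comp_id]
      conv_lhs => rw [L.map_comp, ← Category.assoc, ← Category.assoc, hφ, φ.map_comp_map_s,
        ← L.map_comp, hd']
      rw [show φ.s ≫ w ≫ z = (t ≫ t') ≫ v ≫ z by rw [← Category.assoc, hv]; simp,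
        L.map_comp (t ≫ t'), IsIso.inv_hom_id_assoc, ← L.map_comp]
  exact
    { desc := fun s => (ex s).choose
      fac := fun s j => (ex s).choose_spec.1 j
      uniq := fun s m hm => (ex s).choose_spec.2 m hm }

end Groth.Agent.S6434
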