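import Groth.Statements.S6453
import Groth.Agent.IntMult63.Proper
-- import your own Groth.Agent.* helpers here

set_option autoImplicit false
universe u
open CategoryTheory AlgebraicGeometry
attribute [local instance] HasDerivedCategory.standard
open IntMult

namespace Groth.Agent.S6453

/-- Suppose the ideal of V in O_{X,ξ} is generated by a single nonzerodivisor g (c = 1: V is an
effective Cartier divisor at ξ). Then e(X, V·W, Z) = length_{O_{X,ξ}}(O_{W,ξ}/g O_{W,ξ}), i.e. the
length of O_{X,ξ}/(I_{W,ξ} + (g)). Here X is a nonsingular variety over an algebraically closed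
field K (smooth, separated, quasi-compact, integral), V and W are closed subvarieties given by
quasi-coherent ideal sheaves with integral subschemes, of dimensions r and s with dim X = n,
intersecting properly, and ξ is the generic point of an irreducible component Z of V ∩ W (a point of
V ∩ W maximal under specialization); e(X, V·W, Z) = IntMult.mult is the alternating sum of lengths
of Tor over O_{X,ξ}, and O_{W,ξ} = O_{X,ξ}/I_{W,ξ}. -/
theorem result (K : Type u) [Field K] [IsAlgClosed K] (X : Scheme.{u}) (f : X ⟶ Spec (CommRingCat.of K)) [Smooth f] [IsSeparated f] [QuasiCompact f] [IsIntegral X] (IV IW : X.IdealSheafData) [IsIntegral IV.subscheme] [IsIntegral IW.subscheme] (n r s : ℕ) (hn : topologicalKrullDim X = n) (hr : topologicalKrullDim IV.support = r) (hs : topologicalKrullDim IW.support = s) (hprop : IntMult.ProperInt (IV.support : Set X) (IW.support : Set X) n r s) (ξ : X) (hξV : ξ ∈ IV.support) (hξW : ξ ∈ IW.support) (hmax : ∀ ξ' : X, ξ' ∈ IV.support → ξ' ∈ IW.support → ξ' ⤳ ξ → ξ'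 = ξ) (g : ↑(X.presheaf.stalk ξ)) (hg : IntMult.stalkIdeal IV ξ = Ideal.span {g}) (hreg : IsSMulRegular (↑(X.presheaf.stalk ξ)) g) : (IntMult.mult IV IW ξ : ℤ) = (Module.length (X.presheaf.stalk ξ) (↑(X.presheaf.stalk ξ) ⧸ (IntMult.stalkIdeal IW ξ ⊔ Ideal.span {g}))).toNat := by
  haveI := LocallyOfFiniteType.isLocallyNoetherian f
  have hg' : IntMult.stalkIdeal IV ξ = Ideal.span (Set.range (fun _ : Fin 1 => g)) := by rw [hg, Set.range_const]
  have hgm : g ∈ IsLocalRing.maximalIdeal ↑(X.presheaf.stalk ξ) :=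
    Groth.Agent.IntMult63.stalkIdeal_le_maximalIdeal hξV (hg ▸ Ideal.mem_span_singleton_self g)
  have hreg' : RingTheory.Sequence.IsRegular ↑(X.presheaf.stalk ξ) (List.ofFn fun _ : Fin 1 => g) := by
    refine RingTheory.Sequence.IsRegular.of_isWeaklyRegular_of_mem_maximalIdeal _ (by simpa using hgm) ?_
    simpa using hreg
  obtain ⟨hdim, hmem, h0⟩ := Groth.Agent.IntMult63.proper_facts f hn hr hs hprop hξV hξW hmax hg' hreg'
  have hm : IntMult.mult IV IW ξ = Groth.Agent.KEuler95.chi (List.ofFn (fun _ : Fin 1 => g))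
      (ModuleCat.of ↑(X.presheaf.stalk ξ) (↑(X.presheaf.stalk ξ) ⧸ IntMult.stalkIdeal IW ξ)) := by
    rw [← Groth.Agent.IntMult63.chi_eq_kos _ hreg'.toIsWeaklyRegular, Groth.Agent.KEuler95.range_ofFn, ← hg',
      Groth.Agent.IntMult63.chi_comm]
    rfl
  have h0' : Module.supportDim ↑(X.presheaf.stalk ξ) (↑(X.presheaf.stalk ξ) ⧸ (IntMult.stalkIdeal IW ξ ⊔
      Ideal.span (Set.range (fun _ : Fin 1 => g)))) ≤ 0 :=
    (Module.supportDim_eq_of_equiv (Groth.Agent.IntMult63.quotQuot _ _)).symm.trans_le h0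
  haveI := Groth.Agent.IntMult63.isPrime_stalkIdeal IW hξW
  have hnm : g ∉ IntMult.stalkIdeal IW ξ := fun hmem' => by
    have hle : IntMult.stalkIdeal IW ξ ⊔ Ideal.span (Set.range (fun _ : Fin 1 => g)) = IntMult.stalkIdeal IW ξ := by
      rw [Set.range_const]; exact sup_eq_left.2 ((Ideal.span_singleton_le_iff_mem _).2 hmem')
    rw [hle, hdim] at h0'
    norm_num at h0'
  have hwr : RingTheory.Sequence.IsWeaklyRegular
      (↑(X.presheaf.stalk ξ) ⧸ IntMult.stalkIdeal IW ξ) (List.ofFn fun _ : Fin 1 => g) := by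
    simp only [List.ofFn_succ, List.ofFn_zero, RingTheory.Sequence.isWeaklyRegular_singleton_iff]
    intro a b hab
    change (Ideal.Quotient.mk _ g) * a = (Ideal.Quotient.mk _ g) * b at hab
    exact mul_left_cancel₀ (fun h => hnm (Ideal.Quotient.eq_zero_iff_mem.1 h)) hab
  rw [hm, Groth.Agent.IntMult63.chi_eq_length _ _ hwr, Groth.Agent.KEuler95.range_ofFn,
    (Groth.Agent.IntMult63.quotQuot (IntMult.stalkIdeal IW ξ) _).length_eq, Set.range_const]

end Groth.Agent.S6453
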