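import Groth.Statements.S6461
import Groth.Agent.IntMult63.Points
import Groth.Agent.LC.GorLoc

set_option autoImplicit false
universe u
open CategoryTheory AlgebraicGeometry
open Cyc

namespace Groth.Agent.S6461

/-- If all local rings of X are Cohen–Macaulay then every x ∈ X has an open neighbourhood U and an
integer n with δ(ξ) = n for every generic point ξ of an irreducible component of U (every point of U
maximal under specialization). Here a pair (X, δ) with Cyc.IsSetup plays the role of a scheme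
locally of finite type over the base (S, δ) (X locally Noetherian with universally catenary local
rings, δ a dimension function). -/
theorem result (X : Scheme.{u}) (δ : X → ℤ) (hX : Cyc.IsSetup X δ) (hCM : ∀ x : X, LocCoh.IsCohenMacaulayLocalRing ↑(X.presheaf.stalk x)) (x : X) : ∃ (U : X.Opens) (n : ℤ), x ∈ U ∧ ∀ ξ : X, ξ ∈ U → (∀ ξ' : X, ξ' ⤳ ξ → ξ' = ξ) → δ ξ = n := by
  haveI := hX.1
  obtain ⟨V, hV, hxV, -⟩ := exists_isAffineOpen_mem_and_subset (x := x) (U := (⊤ : X.Opens)) trivial
  -- the points of V with no proper generization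
  have hfin : {ξ : X | ξ ∈ V ∧ ∀ ξ' : X, ξ' ⤳ ξ → ξ' = ξ}.Finite := by
    haveI : IsNoetherianRing Γ(X, V) := IsLocallyNoetherian.component_noetherian ⟨V, hV⟩
    haveI : TopologicalSpace.NoetherianSpace ↥(V : X.Opens) := by
      have := TopologicalSpace.noetherianSpace_iff_of_homeomorph hV.isoSpec.hom.homeomorph
      exact this.2 (inferInstanceAs (TopologicalSpace.NoetherianSpace (PrimeSpectrum Γ(X, V))))
    refine ((TopologicalSpace.NoetherianSpace.finite_irreducibleComponents (α := ↥(V : X.Opens))).biUnion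
      (t := fun Z => {ξ : X | ∃ h : ξ ∈ V, IsGenericPoint (⟨ξ, h⟩ : ↥(V : X.Opens)) Z}) fun Z _ => ?_).subset
      fun ξ hξ => ?_
    · refine Set.Subsingleton.finite fun a ha b hb => ?_
      obtain ⟨h1, ha⟩ := ha
      obtain ⟨h2, hb⟩ := hb
      exact congrArg Subtype.val (ha.eq hb)
    · obtain ⟨hξV, hmax⟩ := hξ
      refine Set.mem_biUnion (x := closure {(⟨ξ, hξV⟩ : ↥(V : X.Opens))}) ?_ ⟨hξV, isGenericPoint_closure⟩
      refine ⟨isIrreducible_singleton.closure, fun T hT hle => ?_⟩
      haveI : QuasiSober ↥(V : X.Opens) := V.2.isOpenEmbedding_subtypeVal.quasiSober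
      obtain ⟨t, ht⟩ := QuasiSober.sober (show IsIrreducible (closure T) from hT.closure) isClosed_closure
      have hts : t ⤳ ⟨ξ, hξV⟩ := ht.specializes (subset_closure (hle (subset_closure rfl)))
      have : t = ⟨ξ, hξV⟩ := Subtype.ext (hmax _ (hts.map continuous_subtype_val))
      subst this
      exact subset_closure.trans ht.def.ge
  set C : Set X := ⋃ ξ ∈ {ξ : X | (ξ ∈ V ∧ ∀ ξ' : X, ξ' ⤳ ξ → ξ' = ξ) ∧ ¬ ξ ⤳ x}, closure {ξ}
  have hC : IsClosed C := (hfin.subset fun ξ h => h.1).isClosed_biUnion fun ξ _ => isClosed_closure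
  obtain ⟨d, hd⟩ := Groth.Agent.IntMult63.exists_dim_nat (X.presheaf.stalk x)
  refine ⟨⟨(V : Set X) ∩ Cᶜ, V.2.inter hC.isOpen_compl⟩, δ x + d, ⟨hxV, ?_⟩, fun ξ hξ hmax => ?_⟩
  · simp only [C, Set.mem_compl_iff, Set.mem_iUnion, not_exists]
    exact fun ξ h hx => h.2 (specializes_iff_mem_closure.2 hx)
  · obtain ⟨hξV, hξC⟩ := hξ
    have hsp : ξ ⤳ x := by
      by_contra h
      exact hξC (Set.mem_biUnion (x := ξ) ⟨⟨hξV, hmax⟩, h⟩ (subset_closure rfl))
    haveI := hCM x
    set Q := (Groth.Agent.CDiv6.primeOf hsp).asIdeal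
    have hQ : Q ∈ minimalPrimes (X.presheaf.stalk x) := by
      refine ⟨⟨(Groth.Agent.CDiv6.primeOf hsp).2, bot_le⟩, fun P hP hle => ?_⟩
      haveI := hP.1
      obtain ⟨z, hz, he⟩ := Groth.Agent.H23.StalkPrimes.exists_point P
      have hzξ := (Groth.Agent.H23.StalkPrimes.primeOf_le_iff hsp hz).1 (he ▸ hle)
      obtain rfl := hmax z hzξ
      exact he.le
    have h := Groth.Agent.LC.height_add_ringKrullDim_quotient Q (Groth.Agent.CDiv6.primeOf hsp).2.ne_top
    rw [Ideal.height_eq_zero_iff.2 hQ, Groth.Agent.IntMult63.dim_quot_primeOf hX.2.2 hsp, hd] at h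
    have h' : (δ ξ - δ x).toNat = d := by simpa using h
    have := Groth.Agent.CycLib.delta_le hX.2.2 hsp
    omega

end Groth.Agent.S6461
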