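import Groth.Statements.S6463
import Groth.Agent.PicFRel.UnivH0

set_option autoImplicit false
universe u
open CategoryTheory CategoryTheory.Limits AlgebraicGeometry
open PicF

namespace Groth.Agent.S6463

set_option backward.isDefEq.respectTransparency false
set_option backward.isDefEq.respectTransparency.types false

/-- For a field k and a smooth projective curve X over k that has a k-rational point σ, the conditions
under which the Picard functor is computed through the section are met: f : X → Spec k is flat,
proper and of finite presentation with a section, and O_T → f_{T,*} O_{X_T} is an isomorphism for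
every scheme T over k. Only the last assertion is stated (the others are part of the hypotheses or
immediate): for every t : T → Spec k, the sheaf map of the base change X ×_k T → T is an
isomorphism. Proper replaces projective (they agree for curves over a field). -/
theorem result (k : Type u) [Field k] (X : Scheme.{u}) (f : X ⟶ Spec (CommRingCat.of k)) (hX : Curve.IsSmoothProperCurve k X f) (σ : Spec (CommRingCat.of k) ⟶ X) (hσ : σ ≫ f = 𝟙 (Spec (CommRingCat.of k))) (T : Scheme.{u}) (t : T ⟶ Spec (CommRingCat.of k)) : IsIso (pullback.snd f t).c := by
  obtain ⟨hp, hs, hint, -⟩ := hX
  have hv : Function.Bijective f.appTop := by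
    have hF : IsField Γ(X, ⊤) := isField_of_universallyClosed k f
    let := hF.toField
    have h1 : f.appTop ≫ σ.appTop = 𝟙 _ := by
      rw [← Scheme.Hom.comp_appTop, hσ, Scheme.Hom.id_appTop]
    have hl : ∀ a, σ.appTop (f.appTop a) = a := fun a => by
      rw [← CommRingCat.comp_apply, h1]; rfl
    haveI : Nontrivial Γ(Spec (CommRingCat.of k), ⊤) := inferInstance
    exact ⟨Function.LeftInverse.injective hl, fun b => ⟨σ.appTop b, σ.appTop.hom.injective (hl _)⟩⟩
  rw [NatTrans.isIso_iff_isIso_app]
  intro U
  exact (ConcreteCategory.isIso_iff_bijective _).2
    (Groth.Agent.H23.Rigid.bijective_app_snd_of_bijective f t hv U.unop)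


end Groth.Agent.S6463
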