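import Groth.Statements.S8855
import Groth.Agent.KRegLib.Regular
import Groth.Agent.KRegLib.Kinds

set_option autoImplicit false
universe u
open CategoryTheory CategoryTheory.Limits AlgebraicGeometry TopologicalSpace
open SDiv

namespace Groth.Agent.S8855

/-- Let i : Z ⟶ X be an immersion of schemes with Z and X regular (locally Noetherian, all local rings
regular local rings). Then i is a regular immersion. -/
theorem result {Z X : Scheme.{u}} (i : Z ⟶ X) [IsImmersion i]
    [IsLocallyNoetherian X] [IsLocallyNoetherian Z]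
    (hX : ∀ x : ↥X, IsRegularLocalRing ↑(X.presheaf.stalk x)) (hZ : ∀ z : ↥Z, IsRegularLocalRing ↑(Z.presheaf.stalk z)) :
    RegImm.IsRegularImmersion RegImm.Kind.regular i := by
  refine ⟨inferInstance, fun z => ?_⟩
  obtain ⟨D, hD, hzD, -, hci⟩ := Groth.Agent.KRegLib.exists_affine_isClosedImmersion_restrict i z ⊤ trivial
  obtain ⟨hD', hDs⟩ := Groth.Agent.Synt29.surjective_app_of_isClosedImmersion_restrict i D hD
  refine Groth.Agent.KRegLib.regImmAt_of_kReg _ i z hD hzD ?_
  haveI := Groth.Agent.KRegLib.isRegularRing_sections hX hD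
  haveI := Groth.Agent.KRegLib.isRegularRing_sections hZ hD'
  have h1 := congrArg PrimeSpectrum.asIdeal
    (IsAffineOpen.comap_primeIdealOf_appLE (f := i) D hD (i ⁻¹ᵁ D) hD' le_rfl hzD)
  have he : (i.appLE D (i ⁻¹ᵁ D) le_rfl).hom = (i.app D).hom := by rw [Scheme.Hom.app_eq_appLE]
  rw [PrimeSpectrum.comap_asIdeal, he] at h1
  have h2 := Groth.Agent.KRegLib.kReg_of_regular (i.app D).hom hDs (hD'.primeIdealOf ⟨z, hzD⟩).asIdeal
  convert h2 using 1
  exact h1.symm

end Groth.Agent.S8855
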