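import Groth.Statements.S6472
import Groth.Agent.IntMult63.Product
import Groth.Agent.S8855
import Groth.Agent.CIntLib.ClosedStalk
import Groth.Agent.FibDim.BaseField
import Groth.Agent.FibDim.AffineSpaceFibre
import Groth.Agent.CycLib.CurveDeg
-- import your own Groth.Agent.* helpers here

set_option autoImplicit false
set_option linter.style.haveILetI false
universe u
open CategoryTheory CategoryTheory.Limits AlgebraicGeometry
open IntMult

namespace Groth.Agent.S6472

/-- Let X be a nonsingular variety of dimension n over the algebraically closed field K. Then Δ : X → X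
×_K X, the diagonal, is regular of codimension n as an immersion (RegImm.IsRegularImmersionOfCodim
of kind regular: an immersion which, around every point, in an affine open where it is closed, is
cut out by a regular sequence of length n). Nonsingular variety: X → Spec K smooth, separated,
quasi-compact, X integral; n = Krull dimension of X. -/
theorem result (K : Type u) [Field K] [IsAlgClosed K] (X : Scheme.{u}) (f : X ⟶ Spec (CommRingCat.of K)) [Smooth f] [IsSeparated f] [QuasiCompact f] [IsIntegral X] (n : ℕ) (hn : topologicalKrullDim X = n) : RegImm.IsRegularImmersionOfCodim RegImm.Kind.regular n (pullback.diagonal f) := by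
  have hXY := Groth.Agent.CycLib.deltaCompat_rd (pullback.fst f f ≫ f)
  have hX := Groth.Agent.CycLib.deltaCompat_rd f
  set δ₂ : ↥(pullback f f) → ℤ := fun z => (Groth.Agent.FibDim.rd (pullback.fst f f ≫ f) z : ℤ)
  set δ : X → ℤ := fun x => (Groth.Agent.FibDim.rd f x : ℤ)
  haveI : IsIntegral (pullback f f) := Groth.Agent.S1582.result K X X f f
  haveI := LocallyOfFiniteType.isLocallyNoetherian f
  haveI := LocallyOfFiniteType.isLocallyNoetherian (pullback.fst f f ≫ f)
  have hd := (Groth.Agent.H23.SetupLFT.isSetup f (Groth.Agent.CycLib.isSetup_spec_field K) hX).2.2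
  have hd₂ := (Groth.Agent.H23.SetupLFT.isSetup _ (Groth.Agent.CycLib.isSetup_spec_field K) hXY).2.2
  have hgen : δ (genericPoint X) = n := by
    haveI := Groth.Agent.FibDim.subsingleton_spec_field K
    have h := Groth.Agent.FibDim.topologicalKrullDim_closure f (genericPoint X)
    rw [(genericPoint_spec X).def, (Homeomorph.Set.univ X).isHomeomorph.topologicalKrullDim_eq, hn] at h
    have h' : n = Groth.Agent.FibDim.rd f (genericPoint X) := by exact_mod_cast h
    simp only [δ, ← h']
  have hgen₂ : δ₂ (genericPoint ↥(pullback f f)) = n + n := by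
    rw [Groth.Agent.IntMult63.delta_prod_generic f f hX hX hXY, hgen]
  obtain ⟨himm, hall⟩ := Groth.Agent.S8855.result (pullback.diagonal f)
    (fun z => Groth.Agent.GrpSchLib.isRegularLocalRing_stalk_of_smooth (pullback.fst f f ≫ f) z)
    (fun z => Groth.Agent.GrpSchLib.isRegularLocalRing_stalk_of_smooth f z)
  refine ⟨himm, fun z => ?_⟩
  obtain ⟨U, hzU, hci, rs, hseq, hker⟩ := hall z
  refine ⟨U, hzU, hci, rs, ?_, hseq, hker⟩
  letI : Algebra Γ(pullback f f, U.1) ((pullback f f).presheaf.stalk (pullback.diagonal f z)) :=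
    ((pullback f f).presheaf.germ U.1 _ hzU).hom.toAlgebra
  haveI : IsLocalization.AtPrime ((pullback f f).presheaf.stalk (pullback.diagonal f z))
      (U.2.primeIdealOf ⟨_, hzU⟩).asIdeal := U.2.isLocalization_stalk ⟨_, hzU⟩
  have hk := Groth.Agent.CIntLib.ker_stalkMap_eq_map_germ (pullback.diagonal f) z U hzU
  rw [Scheme.Hom.ker_apply, hker, Ideal.map_ofList] at hk
  have hw := (RingTheory.Sequence.IsWeaklyRegular.of_isLocalization
    ((pullback f f).presheaf.stalk (pullback.diagonal f z)) (U.2.primeIdealOf ⟨_, hzU⟩).asIdeal.primeCompl hseq.1)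
  have hmem : ∀ r ∈ rs.map (algebraMap Γ(pullback f f, U.1) ((pullback f f).presheaf.stalk (pullback.diagonal f z))),
      r ∈ IsLocalRing.maximalIdeal _ := fun r hr =>
    IsLocalRing.le_maximalIdeal (RingHom.ker_ne_top ((pullback.diagonal f).stalkMap z).hom) (hk ▸ Ideal.subset_span hr)
  have e := ringKrullDim_add_length_eq_ringKrullDim_of_isRegular _ (Groth.Agent.RegLoc6.isRegular_iff_weakly _ hmem hw)
  have hq : ringKrullDim ((pullback f f).presheaf.stalk (pullback.diagonal f z) ⧸ Ideal.ofList (rs.map
      (algebraMap Γ(pullback f f, U.1) ((pullback f f).presheaf.stalk (pullback.diagonal f z))))) =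
      ringKrullDim (X.presheaf.stalk z) :=
    ringKrullDim_eq_of_ringEquiv ((Ideal.quotEquivOfEq hk.symm).trans
      (RingHom.quotientKerEquivOfSurjective ((pullback.diagonal f).stalkMap_surjective z)))
  rw [hq, Groth.Agent.CycLib.ringKrullDim_stalk_eq hd, Groth.Agent.CycLib.ringKrullDim_stalk_eq hd₂,
    List.length_map, hgen, hgen₂] at e
  have hz : δ₂ (pullback.diagonal f z) = δ z := by
    have h := Groth.Agent.CycLib.rd_comp (pullback.diagonal f) (pullback.fst f f ≫ f) z
    rw [pullback.diagonal_fst_assoc, Groth.Agent.FibDim.rd_eq_zero_of_quasiFinite (pullback.diagonal f) z,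
      add_zero] at h
    simp only [δ₂, δ, h]
  have hle : δ z ≤ n :=
    hgen ▸ Groth.Agent.CycLib.delta_le hd ((genericPoint_spec X).specializes (Set.mem_univ z))
  rw [hz] at e
  have e' : ((n : ℤ) - δ z).toNat + rs.length = ((n : ℤ) + n - δ z).toNat := by exact_mod_cast e
  omega

end Groth.Agent.S6472
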