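import Groth.Statements.S6473
import Groth.Agent.IntMult63.DimInter
import Groth.Agent.FibDim.BaseField
import Groth.Agent.FibDim.AffineSpaceFibre

set_option autoImplicit false
universe u
open CategoryTheory CategoryTheory.Limits AlgebraicGeometry
open IntMult

namespace Groth.Agent.S6473

/-- Let f : X → Y be a morphism of varieties over K which is a regular immersion of codimension c, and Z
⊂ Y a closed subvariety of dimension d. Then each irreducible component T of f⁻¹(Z) = X ×_Y Z
satisfies dim T ≥ d − c; stated as d ≤ dim T + c. Varieties: integral, separated, of finite type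
over the algebraically closed field K. (The published statement takes f to be a closed immersion,
regular immersions being closed there; this row allows any immersion cut out, locally on Y where it
is closed, by a regular sequence of length c, the bound being local on Y. The published statement
also has a second part, for local complete intersection morphisms of a given relative dimension,
which this row does not state.) -/
theorem result (K : Type u) [Field K] [IsAlgClosed K] (X Y Z : Scheme.{u}) (gX : X ⟶ Spec (CommRingCat.of K)) (gY : Y ⟶ Spec (CommRingCat.of K)) [IsSeparated gX] [LocallyOfFiniteType gX] [QuasiCompact gX] [IsIntegral X] [IsSeparated gY] [LocallyOfFiniteType gY] [QuasiCompact gY] [IsIntegral Y] (f : X ⟶ Y) (hf : f ≫ gY = gX) (c : ℕ) (hreg : RegImm.IsRegularImmersionOfCodim RegImm.Kind.regular c f) (ι : Z ⟶ Y) [IsClosedImmersion ι] [IsIntegral Z] (d : ℕ) (hd : topologicalKrullDim Z = d) (T : Set ↥(pullback f ι)) (hT : T ∈ irreducibleComponents ↥(pullback f ι)) : ((d : ℕ) : WithBot ℕ∞) ≤ topologicalKrullDim ↥T +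 c := by
  classical
  haveI : LocallyOfFiniteType (ι ≫ gY) := inferInstance
  haveI : QuasiCompact (f ≫ gY) := by rw [hf]; infer_instance
  haveI : QuasiCompact f := QuasiCompact.of_comp f gY
  haveI := hreg.1
  haveI := LocallyOfFiniteType.isLocallyNoetherian (ι ≫ gY)
  haveI := Groth.Agent.FibDim.subsingleton_spec_field K
  set g := ι ≫ gY
  set δ : Z → ℤ := fun z => (Groth.Agent.FibDim.rd g z : ℤ)
  have hdf := (Groth.Agent.H23.SetupLFT.isSetup g (Groth.Agent.CycLib.isSetup_spec_field K)
    (Groth.Agent.CycLib.deltaCompat_rd g)).2.2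
  have hTc : IsClosed T := isClosed_of_mem_irreducibleComponents T hT
  obtain ⟨t, ht⟩ := QuasiSober.sober hT.1 hTc
  set z := pullback.snd f ι t
  set x := pullback.fst f ι t
  have hxz : f x = ι z := by
    rw [← Scheme.Hom.comp_apply, pullback.condition, Scheme.Hom.comp_apply]
  -- dimensions
  haveI : IsImmersion (pullback.snd f ι) := inferInstance
  have hTdim : topologicalKrullDim ↥T = ((Groth.Agent.FibDim.rd g z : ℕ∞) : WithBot ℕ∞) := by
    rw [← ht.def, Groth.Agent.FibDim.topologicalKrullDim_closure (pullback.snd f ι ≫ g) t,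
      Groth.Agent.CycLib.rd_comp, Groth.Agent.FibDim.rd_eq_zero_of_quasiFinite (pullback.snd f ι) t, add_zero]
  have hd' : Groth.Agent.FibDim.rd g (genericPoint Z) = d := by
    have h := Groth.Agent.FibDim.topologicalKrullDim_closure g (genericPoint Z)
    rw [(genericPoint_spec Z).def, (Homeomorph.Set.univ Z).isHomeomorph.topologicalKrullDim_eq, hd] at h
    exact_mod_cast h.symm
  -- the equations
  obtain ⟨U, hxU, hci, rs, hlen, -, hker⟩ := hreg.2 x
  have hzU : ι z ∈ U.1 := hxz ▸ hxU
  let φ : Γ(Y, U.1) →+* Z.presheaf.stalk z := (ι.stalkMap z).hom.comp (Y.presheaf.germ U.1 (ι z) hzU).hom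
  have hfin : ringKrullDim (Z.presheaf.stalk z) ≤ c := by
    rw [← IsLocalRing.maximalIdeal_height_eq_ringKrullDim]
    have hmin : IsLocalRing.maximalIdeal (Z.presheaf.stalk z) ∈
        (Ideal.span (((rs.map φ).toFinset : Finset (Z.presheaf.stalk z)) : Set _)).minimalPrimes := by
      have hmem : ∀ (z' : Z) (h : z' ⤳ z), (∀ a ∈ rs, φ a ∈ (Groth.Agent.CDiv6.primeOf h).asIdeal) ↔
          ι z' ∈ Set.range f := fun z' h => by
        have hy : ι z' ∈ U.1 := (h.map ι.continuous).mem_open U.1.2 hzU
        have hunit : ∀ a, φ a ∈ (Groth.Agent.CDiv6.primeOf h).asIdeal ↔ ι z' ∉ Y.basicOpen a := fun a => by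
          rw [Groth.Agent.CDiv6.mem_primeOf, Y.mem_basicOpen a (ι z') hy]
          refine not_congr ?_
          show IsUnit ((Z.presheaf.stalkSpecializes h) ((ι.stalkMap z) (Y.presheaf.germ U.1 (ι z) hzU a))) ↔ _
          rw [Scheme.Hom.germ_stalkMap_apply]
          erw [TopCat.Presheaf.germ_stalkSpecializes_apply]
          erw [← Scheme.Hom.germ_stalkMap_apply ι U.1 z' hy]
          exact isUnit_map_iff (ι.stalkMap z').hom _
        have hsupp : ι z' ∈ f.ker.support ↔ ι z' ∈ Y.zeroLocus (U := U.1) {a | a ∈ rs} := by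
          rw [Scheme.IdealSheafData.mem_support_iff_of_mem hy, Scheme.Hom.ker_apply, hker, Ideal.ofList,
            Scheme.zeroLocus_span]
        have hclosed : ι z' ∈ f.ker.support ↔ ι z' ∈ Set.range f := by
          rw [← SetLike.mem_coe, Scheme.Hom.support_ker]
          refine ⟨fun hm => ?_, fun hm => subset_closure hm⟩
          have hr := (f ∣_ U.1).isClosedEmbedding.isClosed_range
          by_contra hnr
          obtain ⟨O, hO, hOeq⟩ := isOpen_induced_iff.1 hr.isOpen_compl
          have hyO : ι z' ∈ O := by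
            have h0 : (⟨ι z', hy⟩ : ↥(U.1 : Y.Opens)) ∈ (Set.range (f ∣_ U.1))ᶜ := by
              rintro ⟨w, hw⟩
              exact hnr ⟨w.1, (morphismRestrict_base_coe f U.1 w).symm.trans (congrArg Subtype.val hw)⟩
            rw [← hOeq] at h0
            exact h0
          obtain ⟨w, ⟨hwO, hwU⟩, v, rfl⟩ := mem_closure_iff.1 hm (O ∩ (U.1 : Set Y)) (hO.inter U.1.2) ⟨hyO, hy⟩
          have hv : (⟨f v, hwU⟩ : ↥(U.1 : Y.Opens)) ∈ (Set.range (f ∣_ U.1))ᶜ := by
            rw [← hOeq]
            exact hwO
          exact hv ⟨⟨v, hwU⟩, Subtype.ext (morphismRestrict_base_coe f U.1 ⟨v, hwU⟩)⟩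
        rw [← hclosed, hsupp]
        simp only [hunit, Scheme.mem_zeroLocus_iff, Set.mem_setOf_eq]
      refine ⟨⟨(IsLocalRing.maximalIdeal.isMaximal _).isPrime, Ideal.span_le.2 fun b hb => ?_⟩, fun Q hQ _ => ?_⟩
      · simp only [Finset.mem_coe, List.mem_toFinset, List.mem_map] at hb
        obtain ⟨a, ha, rfl⟩ := hb
        have := (hmem z (specializes_refl z)).2 ⟨x, hxz⟩ a ha
        rwa [Groth.Agent.IntMult63.primeOf_refl] at this
      · haveI := hQ.1
        obtain ⟨z', h, he⟩ := Groth.Agent.H23.StalkPrimes.exists_point Q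
        obtain ⟨x', hx'⟩ := (hmem z' h).1 fun a ha => he.symm ▸ hQ.2
          (Ideal.subset_span (by simp only [Finset.mem_coe, List.mem_toFinset, List.mem_map]; exact ⟨a, ha, rfl⟩))
        obtain ⟨t', -, ht'⟩ := Scheme.Pullback.exists_preimage_pullback x' z' hx'
        have hs : t' ⤳ t := (pullback.snd f ι).isEmbedding.isInducing.specializes_iff.1 (ht' ▸ h)
        have hsub : T ⊆ closure {t'} := by
          rw [← ht.def]
          exact closure_minimal (Set.singleton_subset_iff.2 (specializes_iff_mem_closure.1 hs)) isClosed_closure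
        have hmemT : t' ∈ T := hT.2 isIrreducible_singleton.closure hsub (subset_closure rfl)
        obtain rfl : t' = t := (hs.antisymm (ht.specializes hmemT)).eq
        subst ht'
        rw [← he, Groth.Agent.IntMult63.primeOf_refl]
        rfl
    refine WithBot.coe_le_coe.2 ((Ideal.height_le_card_of_mem_minimalPrimes_span_finset hmin).trans ?_)
    exact Nat.cast_le.2 ((List.toFinset_card_le _).trans (by rw [List.length_map, hlen]))
  rw [Groth.Agent.CycLib.ringKrullDim_stalk_eq hdf z] at hfin
  replace hfin : (δ (genericPoint Z) - δ z).toNat ≤ c := Nat.cast_le.1 hfin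
  rw [hTdim]
  have e1 : δ (genericPoint Z) = (d : ℤ) := congrArg Nat.cast hd'
  have e2 : δ z = (Groth.Agent.FibDim.rd g z : ℤ) := rfl
  rw [e1, e2] at hfin
  exact_mod_cast (by omega : d ≤ Groth.Agent.FibDim.rd g z + c)

end Groth.Agent.S6473
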