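import Groth.Statements.S6487
import Groth.Agent.PicFRel.CurveTwistBC

set_option autoImplicit false
universe u
open CategoryTheory CategoryTheory.Limits AlgebraicGeometry
open PicF

namespace Groth.Agent.S6487

set_option backward.isDefEq.respectTransparency false
set_option backward.isDefEq.respectTransparency.types false
open scoped H23.PicMul


/-- Let k be a separably closed field, X a smooth projective curve over k, K/k a field extension and L
an invertible sheaf on X_K. Then there is an invertible sheaf L_0 on X with dim_K H^0(X_K, L ⊗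
L_0|_{X_K}) = 1 and H^1(X_K, L ⊗ L_0|_{X_K}) = 0. The base change X_K is given as any pullback
square over Spec K → Spec k with its K-structure; L_0|_{X_K} is the pullback module and ⊗ is
CohB1.tensorMod; proper replaces projective (equivalent for curves over a field). -/
theorem result (k : Type u) [Field k] [IsSepClosed k] (X : Scheme.{u}) [X.Over (Spec (CommRingCat.of k))] (hX : Curve.IsSmoothProperCurve k X (X ↘ Spec (CommRingCat.of k))) (K : Type u) [Field K] [Algebra k K] (XK : Scheme.{u}) [XK.Over (Spec (CommRingCat.of K))] (g : XK ⟶ X) (hpb : IsPullback g (XK ↘ Spec (CommRingCat.of K)) (X ↘ Spec (CommRingCat.of k)) (Spec.map (CommRingCat.ofHom (algebraMap k K)))) (L : XK.Modules) (hL : PicF.IsInvertible L) : ∃ L₀ : X.Modules, PicF.IsInvertible L₀ ∧ Module.finrank K (Coh.HH XK (CohB1.tensorMod L ((Scheme.Modules.pullback g).obj L₀)) 0) = 1 ∧ Subsingleton (Coh.HH XK (CohB1.tensorMod L ((Scheme.Modules.pullback g).obj L₀)) 1) := by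
  obtain ⟨hprop, hsm, hint, hdim⟩ := hX
  haveI := hprop; haveI := hsm; haveI := hint
  haveI := PicFRel.CurveTwistBC.geometricallyConnected k X
  haveI := CurveBC.isProper k K g hpb
  haveI := CurveBC.smooth k K g hpb
  haveI := GrpSchLib.geometricallyReduced_of_smooth (X ↘ Spec (CommRingCat.of k))
  have h0X := S1536.result k X
  haveI := CurveBC.isIntegral k K g hpb h0X
  haveI : GeometricallyConnected (XK ↘ Spec (CommRingCat.of K)) :=
    MorphismProperty.of_isPullback hpb inferInstance
  have hdimK := CurveBC.topologicalKrullDim_eq k K g hpb hdim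
  obtain ⟨c, hc0, hc1⟩ := PicFRel.CurveTwistBC.exists_class hpb hdim hdimK (JacTheta.lb L hL)
  obtain ⟨L₀, hL₀, hc⟩ := c.exists_rep
  refine ⟨L₀, hL₀, ?_⟩
  have hT : PicF.IsInvertible (CohB1.tensorMod L ((Scheme.Modules.pullback g).obj L₀)) :=
    InvX.isInvertible_tensorMod hL (PicClLib.isInvertible_pullback g hL₀)
  have hcl : ((JacTheta.lb L hL * JacTheta.LB.pull g c : JacTheta.LB XK) : PicF.Cl XK) =
      PicF.cl (CohB1.tensorMod L ((Scheme.Modules.pullback g).obj L₀)) := by
    rw [Units.val_mul, JacTheta.lb_val, JacTheta.LB.pull_val, hc, H23.PicMul.cl_tensor]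
    rfl
  rw [hcl, JacTheta.hh_cl] at hc0 hc1
  haveI := S0002.result K XK _ (CurveStable.coh_of_free K
    (CurveStable.isFinLocFree_of_rank (InvEnd.isFinLocFreeOfRank_one hT))) 1
  exact ⟨hc0, Module.finrank_zero_iff.1 hc1⟩


end Groth.Agent.S6487
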