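import Groth.Statements.S6497
import Groth.Agent.LimCyc.Main
-- import your own Groth.Agent.* helpers here

set_option autoImplicit false
universe u
open CategoryTheory AlgebraicGeometry
open Cyc

namespace Groth.Agent.S6497

/-- Injectivity of colim CH_k(X_i) → CH_k(X'): if α ∈ Z_k(X_i) and g_i^*α ∼_rat 0 on X' (for a cycle
with the pulled-back coefficients), then for some stage X_j above X_i the pullback of α to X_j is
∼_rat 0. Setting: a directed inverse system (X_i) of quasi-compact schemes with affine flat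
transition morphisms and limit X' (a limit cone), each X_i and X' carrying a dimension function with
Cyc.IsSetup, and every transition map and every projection X' → X_i shifting the dimension functions
by c = 0 at generic points of fibres, so that the base-change pullbacks g^* are Cyc.pullFun with
shift 0. (The published statement takes X_i and X′ to be the base changes of one quasi-compact
scheme of finite type over a base S along S_i → S and lim S_i → S; this row allows any such inverse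
system.) -/
theorem result (I : Type u) [Preorder I] [IsDirected I (fun a b => a ≤ b)] [Nonempty I] (D : Iᵒᵖ ⥤ Scheme.{u}) (c : Limits.Cone D) (hc : Limits.IsLimit c) (haff : ∀ (i j : Iᵒᵖ) (f : i ⟶ j), IsAffineHom (D.map f)) (hflat : ∀ (i j : Iᵒᵖ) (f : i ⟶ j), Flat (D.map f)) (hqc : ∀ i, CompactSpace ↥(D.obj i)) (δ : (i : Iᵒᵖ) → ↥(D.obj i) → ℤ) (δ' : ↥c.pt → ℤ) (hset : ∀ i, Cyc.IsSetup (D.obj i) (δ i)) (hset' : Cyc.IsSetup c.pt δ') (hshift : ∀ (i j : Iᵒᵖ) (f : i ⟶ j) (x : ↥(D.obj i)), (∀ y, D.map f y = D.map f x → y ⤳ x → y = x) → δ i x = δ j (D.map f x)) (hflat' : ∀ i, Flat (c.π.app i)) (hshift' : ∀ (i : Iᵒᵖ) (x : ↥c.pt), (∀ y, c.π.app i y = c.π.app i x → y ⤳ x → y = x) → δ' x = δ i (c.π.app i x)) (k : ℤ) (i : Iᵒᵖ) (α : AlgebraicCycle (D.obj i) ℤ) (hα : α ∈ Cyc.Zk (D.obj i) (δ i) k) (α' : AlgebraicCycle c.pt ℤ) (hα' : ⇑α' = Cyc.pullFun (c.π.app i) δ' (δ i) 0 ⇑α) (h0 : Cyc.RatEquivZero δ' k α') : ∃ (j : Iᵒᵖ) (f : j ⟶ i) (αj : AlgebraicCycle (D.obj j)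 ℤ), ⇑αj = Cyc.pullFun (D.map f) (δ j) (δ i) 0 ⇑α ∧ Cyc.RatEquivZero (δ j) k αj := by
  haveI : IsCofiltered Iᵒᵖ := inferInstance
  haveI : ∀ a b : Iᵒᵖ, Subsingleton (a ⟶ b) := fun a b => ⟨fun f g => Quiver.Hom.unop_inj (Subsingleton.elim _ _)⟩
  haveI : ∀ {a b : Iᵒᵖ} (f : a ⟶ b), IsAffineHom (D.map f) := fun f => haff _ _ f
  haveI : ∀ {a b : Iᵒᵖ} (f : a ⟶ b), Flat (D.map f) := fun f => hflat _ _ f
  haveI := hqc
  haveI := hset'.1
  haveI : ∀ a, IsLocallyNoetherian (D.obj a) := fun a => (hset a).1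
  haveI : ∀ a, Flat (Groth.Agent.LimCyc.pr c a) := hflat'
  haveI : CompactSpace c.pt := Scheme.compactSpace_of_isLimit D c hc
  have hsh : ∀ a b (f : a ⟶ b), Groth.Agent.H23.FlatShift.HasShift (D.map f) (δ a) (δ b) 0 :=
    fun a b f x hx => by simpa using hshift a b f x hx
  have hsh' : ∀ a, Groth.Agent.H23.FlatShift.HasShift (Groth.Agent.LimCyc.pr c a) δ' (δ a) 0 :=
    fun a x hx => by simpa using hshift' a x hx
  exact Groth.Agent.LimCyc.exists_ratEquivZero_stage hc (fun a => (hset a).2.2) hset'.2.2 hsh hsh' α α' hα' h0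

end Groth.Agent.S6497
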