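import Groth.Statements.S6523
import Groth.Agent.H9Misc.BrownGroth
-- import your own Groth.Agent.* helpers here

set_option autoImplicit false
universe v u u'
open CategoryTheory
open CohDer

namespace Groth.Agent.S6523

open CategoryTheory.Limits CategoryTheory.Pretriangulated in
/-- Let A be a Grothendieck abelian category, D a pretriangulated category whose morphism types live in
the same universe as those of D(A), and F : D(A) → D an exact functor of triangulated categories
which transforms direct sums (small coproducts) into direct sums. Then F has a right adjoint (which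
is then exact as well). Stated as: F is a left adjoint. (With morphism types of D in a larger
universe the assertion fails by a cardinality argument; the published proof applies Brown
representability to the functors W ↦ Hom(F(W), Y), which must take values in small abelian groups.) -/
theorem result {A : Type u} [Category.{v} A] [Abelian A]
    [IsGrothendieckAbelian.{v} A] [HasDerivedCategory.{v} A]
    {D : Type u'} [Category.{v} D] [Preadditive D] [HasZeroObject D] [HasShift D ℤ]
    [∀ n : ℤ, (shiftFunctor D n).Additive] [Pretriangulated D]
    (F : DerivedCategory A ⥤ D) [F.CommShift ℤ] [F.IsTriangulated]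
    [∀ (ι : Type v), PreservesColimitsOfShape (Discrete ι) F] :
    F.IsLeftAdjoint := by
  open scoped Pretriangulated.Opposite in
  have hrep : ∀ Y : D, Nonempty (Σ X : DerivedCategory A,
      ((F.op ⋙ preadditiveYoneda.obj Y) ⋙ forget AddCommGrpCat.{v}).RepresentableBy X) := fun Y => by
    have : ∀ ι : Type v, PreservesLimitsOfShape (Discrete ι) F.op := fun ι =>
      have := preservesColimitsOfShape_of_equiv (Discrete.opposite ι).symm F
      preservesLimitsOfShape_op _ F
    have : ∀ ι : Type v, PreservesLimitsOfShape (Discrete ι) (F.op ⋙ preadditiveYoneda.obj Y) :=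
      fun ι => inferInstance
    have : (F.op ⋙ preadditiveYoneda.obj Y).IsHomological := inferInstance
    obtain ⟨X, ⟨r⟩⟩ := Groth.Agent.H9Misc.BrownGroth.isRepresentable (F.op ⋙ preadditiveYoneda.obj Y)
    exact ⟨⟨X, r⟩⟩
  let p := fun Y => (hrep Y).some
  let G : D → DerivedCategory A := fun Y => (p Y).1
  let e : ∀ (X : DerivedCategory A) (Y : D), (F.obj X ⟶ Y) ≃ (X ⟶ G Y) := fun X Y =>
    (p Y).2.homEquiv.symm
  refine ⟨⟨_, ⟨Adjunction.adjunctionOfEquivRight e fun {X' X Y} f g => ?_⟩⟩⟩
  exact ((p Y).2.homEquiv.symm_apply_eq).2
    (((p Y).2.homEquiv_comp _ _).trans (congrArg _ ((p Y).2.homEquiv.apply_symm_apply g))).symm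

end Groth.Agent.S6523
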