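import Groth.Statements.S6534
import Groth.Agent.DSites.FilRep
import Groth.Agent.TriCat.KInjRes
import Mathlib.Algebra.Homology.DerivedCategory.KInjective
import Mathlib.Algebra.Homology.HomotopyCategory.Pretriangulated
import Mathlib.Algebra.Homology.Localization
-- import your own Groth.Agent.* helpers here

set_option autoImplicit false
universe w v u
open CategoryTheory
open CohDer

namespace Groth.Agent.S6534

open CategoryTheory.Limits in
/-- Let A be a Grothendieck abelian category, E ∈ D(A), and … → E^{i+1} → E^i → … → E an inverse system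
in D(A) over ℤ with compatible maps to E. Then there exists a filtered complex K of A such that K
represents E and F^iK represents E^i, compatibly: there are isomorphisms in D(A) from the images of
K and of the subcomplexes F^iK to E and E^i under which the inclusions F^iK → K and F^{i+1}K → F^iK
correspond to the given maps E^i → E and E^{i+1} → E^i. -/
theorem result {A : Type u} [Category.{v} A] [Abelian A]
    [IsGrothendieckAbelian.{v} A] [HasDerivedCategory.{w} A]
    (E : DerivedCategory A) (Es : ℤ → DerivedCategory A) (t : ∀ i : ℤ, Es (i + 1) ⟶ Es i)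
    (a : ∀ i : ℤ, Es i ⟶ E) (hat : ∀ i : ℤ, t i ≫ a i = a (i + 1)) :
    ∃ (K : SpSeq.FilCx A) (e : DerivedCategory.Q.obj K.obj ≅ E)
      (ei : ∀ i : ℤ, DerivedCategory.Q.obj (K.step i) ≅ Es i),
      (∀ i : ℤ, DerivedCategory.Q.map (K.fil i).arrow ≫ e.hom = (ei i).hom ≫ a i) ∧
      (∀ i : ℤ, DerivedCategory.Q.map (K.stepLE (le_of_lt (Int.lt_succ_self i))) ≫ (ei i).hom =
        (ei (i + 1)).hom ≫ t i) := by
  haveI : HasColimitsOfSize.{0, 0} A := hasSmallestColimitsOfHasColimits A
  have hrep : ∀ X : DerivedCategory A, ∃ (J : CochainComplex A ℤ) (_ : DerivedCategory.Q.obj J ≅ X),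
      J.IsKInjective := by
    intro X
    obtain ⟨J, φ, hJ, hφ, -, -⟩ :=
      TriCat.exists_kInjective_resolution' (DerivedCategory.Q.objPreimage X)
    exact ⟨J, (asIso (DerivedCategory.Q.map φ)).symm ≪≫ DerivedCategory.Q.objObjPreimageIso X, hJ⟩
  choose I eI hI using fun i => hrep (Es i)
  obtain ⟨J, eJ, hJ⟩ := hrep E
  have hsurj : ∀ {M N : CochainComplex A ℤ} (_ : N.IsKInjective)
      (α : DerivedCategory.Q.obj M ⟶ DerivedCategory.Q.obj N),
      ∃ φ : M ⟶ N, DerivedCategory.Q.map φ = α := by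
    intro M N _ α
    obtain ⟨ψ, hψ⟩ := (CochainComplex.IsKInjective.Qh_map_bijective
      ((HomotopyCategory.quotient A (ComplexShape.up ℤ)).obj M) N).2 α
    obtain ⟨φ, rfl⟩ := (HomotopyCategory.quotient A (ComplexShape.up ℤ)).map_surjective ψ
    exact ⟨φ, hψ⟩
  choose f hf using fun k => hsurj (hI k) ((eI (k + 1)).hom ≫ t k ≫ (eI k).inv)
  choose b hb using fun j => hsurj hJ ((eI j).hom ≫ a j ≫ eJ.inv)
  have hhom : ∀ k, Nonempty (Homotopy (f k ≫ b k) (b (k + 1))) := by
    intro k
    refine ⟨HomotopyCategory.homotopyOfEq _ _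
      ((CochainComplex.IsKInjective.Qh_map_bijective _ J).1 ?_)⟩
    show DerivedCategory.Q.map (f k ≫ b k) = DerivedCategory.Q.map (b (k + 1))
    rw [Functor.map_comp, hf, hb, hb, Category.assoc, Category.assoc, Iso.inv_hom_id_assoc,
      ← hat k, Category.assoc]
  obtain ⟨φ, hφ⟩ := DSites.FilRep.exists_desc I f b fun k => (hhom k).some
  let Z := J ⊞ CochainComplex.mappingCone (𝟙 (DSites.FilRep.Tot I f))
  let m : DSites.FilRep.Tot I f ⟶ Z := biprod.lift φ (CochainComplex.mappingCone.inr _)
  haveI : ∀ n, Mono ((CochainComplex.mappingCone.inr (𝟙 (DSites.FilRep.Tot I f))).f n) :=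
    fun n => (SplitMono.mk ((CochainComplex.mappingCone.snd _).v n n (add_zero n))
      (CochainComplex.mappingCone.inr_f_snd_v _ _)).mono
  haveI : Mono (CochainComplex.mappingCone.inr (𝟙 (DSites.FilRep.Tot I f))) :=
    HomologicalComplex.mono_of_mono_f _ inferInstance
  haveI : Mono m := mono_of_mono_fac (biprod.lift_snd φ
    (CochainComplex.mappingCone.inr (𝟙 (DSites.FilRep.Tot I f))))
  let F : ℤ → Subobject Z := fun i => Subobject.mk (DSites.FilRep.emb I f i ≫ m)
  have hF : Antitone F := antitone_int_of_succ_le fun i =>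
    Subobject.mk_le_mk_of_comm (DSites.FilRep.inc I f i)
      (by rw [← Category.assoc, DSites.FilRep.inc_emb])
  let K : SpSeq.FilCx A := ⟨Z, F, hF⟩
  have hfst : HomologicalComplex.homotopyEquivalences A (ComplexShape.up ℤ)
      (biprod.fst : Z ⟶ J) := by
    have h : Homotopy ((biprod.snd : Z ⟶ _) ≫ (biprod.inr : _ ⟶ Z)) 0 :=
      (Homotopy.ofEq (by rw [Category.id_comp])).trans
        ((((CochainComplex.mappingCone.homotopyToZeroOfId (DSites.FilRep.Tot I f)).compRight
          (biprod.inr : _ ⟶ Z)).compLeft (biprod.snd : Z ⟶ _)).trans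
            (Homotopy.ofEq (by rw [zero_comp, comp_zero])))
    exact ⟨⟨biprod.fst, biprod.inl, ((Homotopy.ofEq biprod.total.symm).trans
      (((Homotopy.refl ((biprod.fst : Z ⟶ J) ≫ (biprod.inl : J ⟶ Z))).add h).trans
        (Homotopy.ofEq (add_zero _)))).symm, Homotopy.ofEq biprod.inl_fst⟩, rfl⟩
  haveI : QuasiIso (biprod.fst : Z ⟶ J) :=
    (homotopyEquivalences_le_quasiIso A (ComplexShape.up ℤ)) _ hfst
  haveI : ∀ i, QuasiIso (DSites.FilRep.π I f i) := fun i => DSites.FilRep.quasiIso_π I f i
  let e : DerivedCategory.Q.obj K.obj ≅ E :=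
    asIso (DerivedCategory.Q.map (biprod.fst : Z ⟶ J)) ≪≫ eJ
  let ei : ∀ i, DerivedCategory.Q.obj (K.step i) ≅ Es i := fun i =>
    DerivedCategory.Q.mapIso (Subobject.underlyingIso (DSites.FilRep.emb I f i ≫ m)) ≪≫
      asIso (DerivedCategory.Q.map (DSites.FilRep.π I f i)) ≪≫ eI i
  refine ⟨K, e, ei, fun i => ?_, fun i => ?_⟩
  · have h₁ : (K.fil i).arrow = (Subobject.underlyingIso (DSites.FilRep.emb I f i ≫ m)).hom ≫
        DSites.FilRep.emb I f i ≫ m :=
      (Subobject.underlyingIso_hom_comp_eq_mk _).symm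
    have hσ : DerivedCategory.Q.map (DSites.FilRep.π I f i) ≫
        DerivedCategory.Q.map (DSites.FilRep.σ I f i) = 𝟙 _ := by
      rw [← cancel_mono (DerivedCategory.Q.map (DSites.FilRep.π I f i)), Category.assoc,
        ← Functor.map_comp, DSites.FilRep.σ_π, CategoryTheory.Functor.map_id, Category.comp_id, Category.id_comp]
    have h₂ : DerivedCategory.Q.map (DSites.FilRep.emb I f i ≫ φ) =
        DerivedCategory.Q.map (DSites.FilRep.π I f i) ≫ DerivedCategory.Q.map (b i) := by
      rw [← hφ i, Functor.map_comp _ (DSites.FilRep.σ I f i), reassoc_of% hσ]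
    show DerivedCategory.Q.map (K.fil i).arrow ≫ DerivedCategory.Q.map biprod.fst ≫ eJ.hom = _
    rw [h₁, ← Functor.map_comp_assoc, Category.assoc, Category.assoc, biprod.lift_fst,
      Functor.map_comp, h₂, hb]
    simp [ei]
  · have h₁ : K.stepLE (show i ≤ i + 1 from le_of_lt (Int.lt_succ_self i)) =
        (Subobject.underlyingIso (DSites.FilRep.emb I f (i + 1) ≫ m)).hom ≫
          DSites.FilRep.inc I f i ≫
          (Subobject.underlyingIso (DSites.FilRep.emb I f i ≫ m)).inv := by
      rw [← cancel_mono (K.fil i).arrow]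
      refine (Subobject.ofLE_arrow _).trans ?_
      show (Subobject.mk (DSites.FilRep.emb I f (i + 1) ≫ m)).arrow =
        (_ ≫ _ ≫ _) ≫ (Subobject.mk (DSites.FilRep.emb I f i ≫ m)).arrow
      rw [Category.assoc, Category.assoc, Subobject.underlyingIso_arrow, ← Category.assoc
        (DSites.FilRep.inc I f i), DSites.FilRep.inc_emb, Subobject.underlyingIso_hom_comp_eq_mk]
    show DerivedCategory.Q.map (K.stepLE (show i ≤ i + 1 from
      le_of_lt (Int.lt_succ_self i))) ≫ (ei i).hom = _
    rw [h₁]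
    simp only [ei, Iso.trans_hom, Functor.mapIso_hom, asIso_hom, Functor.map_comp, Category.assoc]
    rw [← Functor.map_comp_assoc _ (Subobject.underlyingIso _).inv, Iso.inv_hom_id,
      CategoryTheory.Functor.map_id, Category.id_comp, ← Functor.map_comp_assoc _ (DSites.FilRep.inc I f i),
      DSites.FilRep.inc_π, Functor.map_comp, hf]
    simp

end Groth.Agent.S6534
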