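import Groth.Statements.S6553
import Groth.Agent.NodalLib.Main

set_option autoImplicit false
set_option linter.style.haveILetI false
set_option backward.isDefEq.respectTransparency false
set_option backward.isDefEq.respectTransparency.types false
universe u
open CategoryTheory CategoryTheory.Limits AlgebraicGeometry
open Curves

namespace Groth.Agent.S6553

/-- Let k'/k be a finite separable extension of fields, X a scheme locally of finite type over k' of
dimension 1, and x ∈ X a closed point. Then x is a node of the k'-scheme X if and only if x is a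
node of X viewed as a k-scheme via Spec k' → Spec k. -/
theorem result (k : Type u) [Field k] (k' : Type u) [Field k'] [Algebra k k']
    [FiniteDimensional k k'] [Algebra.IsSeparable k k']
    (X : Scheme.{u}) [X.Over (Spec (CommRingCat.of k'))] [LocallyOfFiniteType (X ↘ (Spec (CommRingCat.of k')))] (hdim : topologicalKrullDim X = 1)
    (x : X) (hx : IsClosed ({x} : Set X)) :
    Curv2.IsNode k' X x ↔
      @Curv2.IsNode k _ X ⟨(X ↘ (Spec (CommRingCat.of k'))) ≫ Spec.map (CommRingCat.ofHom (algebraMap k k'))⟩ x := by
  haveI : Etale (Spec.map (CommRingCat.ofHom (algebraMap k k'))) := by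
    haveI : Algebra.FinitePresentation k k' :=
      Algebra.FinitePresentation.of_finiteType.1 inferInstance
    haveI : Algebra.Etale k k' := ⟨Algebra.FormallyEtale.of_isSeparable k k', inferInstance⟩
    exact (HasRingHomProperty.Spec_iff (P := @Etale)).2 (RingHom.etale_algebraMap.2 inferInstance)
  haveI hlft : LocallyOfFiniteType ((X ↘ (Spec (CommRingCat.of k'))) ≫ Spec.map (CommRingCat.ofHom (algebraMap k k'))) :=
    inferInstance
  refine Groth.Agent.NodalLib.isNode_iff.trans ((and_congr ?_ (not_congr ?_)).trans
    (@Groth.Agent.NodalLib.isNode_iff k _ X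
      ⟨(X ↘ (Spec (CommRingCat.of k'))) ≫ Spec.map (CommRingCat.ofHom (algebraMap k k'))⟩ hlft x).symm)
  · exact (Groth.Agent.NodalLib.ptProp_qPt.postcomp _ (Spec.map (CommRingCat.ofHom (algebraMap k k'))) x).symm
  · exact (Groth.Agent.NodalLib.ptProp_jTop.postcomp _ (Spec.map (CommRingCat.ofHom (algebraMap k k'))) x).symm

end Groth.Agent.S6553
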