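import Groth.Statements.S6587
-- import your own Groth.Agent.* helpers here

set_option autoImplicit false
universe v u
open CategoryTheory CategoryTheory.Limits Opposite
open CohDer

namespace Groth.Agent.S6587

open CategoryTheory.Pretriangulated in
/-- Let D be a triangulated category and let X_n → Y_n → Z_n → X_n⟦1⟧ be an inverse system of
distinguished triangles of D indexed by ℕ (levelwise maps f, g, h of inverse systems, each level
distinguished). If the inverse system (Z_n) is pro-zero, then the levelwise map f : (X_n) → (Y_n) is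
a pro-isomorphism. -/
theorem result {D : Type u} [Category.{v} D] [Preadditive D] [HasZeroObject D] [HasShift D ℤ]
    [∀ n : ℤ, (shiftFunctor D n).Additive] [Pretriangulated D] [IsTriangulated D]
    (X Y Z : ARSys.PS D) (f : X ⟶ Y) (g : Y ⟶ Z) (h : Z ⟶ X ⋙ shiftFunctor D (1 : ℤ))
    (hT : ∀ n : ℕ, Triangle.mk (f.app (op n)) (g.app (op n)) (h.app (op n)) ∈ distinguishedTriangles)
    (hZ : DerCA.IsProZero Z) :
    DerCA.IsProIso f := by
  intro n
  obtain ⟨m₁, h₁, e₁⟩ := hZ n
  obtain ⟨m, h₂, e₂⟩ := hZ m₁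
  obtain ⟨ψ, hψ⟩ := Triangle.yoneda_exact₃ _ (rot_of_distTriang _ (hT m₁))
    ((shiftFunctor D (1 : ℤ)).map (ARSys.tr X h₁)) (by
      show h.app (op m₁) ≫ _ = 0
      refine (h.naturality (homOfLE h₁).op).symm.trans ?_
      show ARSys.tr Z h₁ ≫ _ = 0
      rw [e₁, zero_comp])
  obtain ⟨b', rfl⟩ : ∃ b' : Y.obj (op m₁) ⟶ X.obj (op n), (shiftFunctor D (1 : ℤ)).map b' = ψ :=
    (shiftFunctor D (1 : ℤ)).map_surjective ψ
  have hb' : f.app (op m₁) ≫ (-b') = ARSys.tr X h₁ := (shiftFunctor D (1 : ℤ)).map_injective (by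
    rw [Functor.map_comp, Functor.map_neg, Preadditive.comp_neg]
    exact (Preadditive.neg_comp _ _).symm.trans hψ.symm)
  obtain ⟨k, hk⟩ := Triangle.yoneda_exact₂ _ (hT m₁) ((-b') ≫ f.app (op n) - ARSys.tr Y h₁) (by
    show f.app (op m₁) ≫ _ = 0
    rw [Preadditive.comp_sub, reassoc_of% hb', sub_eq_zero]
    exact f.naturality (homOfLE h₁).op)
  refine ⟨m, h₁.trans h₂, ARSys.tr Y h₂ ≫ (-b'), ?_, ?_⟩
  · rw [← Category.assoc]
    refine (congrArg (· ≫ (-b')) (f.naturality (homOfLE h₂).op).symm).trans ?_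
    rw [Category.assoc, hb']
    exact (X.map_comp _ _).symm
  · rw [Category.assoc]
    refine Eq.trans ?_ (Y.map_comp (homOfLE h₂).op (homOfLE h₁).op).symm
    rw [← sub_eq_zero, ← Preadditive.comp_sub, hk]
    have e₃ : ARSys.tr Y h₂ ≫ g.app (op m₁) = 0 :=
      (g.naturality (homOfLE h₂).op).trans ((congrArg (g.app (op m) ≫ ·) e₂).trans comp_zero)
    exact (Category.assoc _ _ _).symm.trans ((congrArg (· ≫ k) e₃).trans zero_comp)

end Groth.Agent.S6587
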