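import Groth.Statements.S6627
import Groth.Agent.EtFound.IntegralProps
import Mathlib.AlgebraicGeometry.ZariskisMainTheorem

set_option autoImplicit false
open CategoryTheory CategoryTheory.Limits AlgebraicGeometry Opposite
universe u
open EtCore

namespace Groth.Agent.S6627

set_option backward.isDefEq.respectTransparency false
set_option backward.isDefEq.respectTransparency.types false


/-- A separated morphism of schemes that is locally quasi-finite (locally of finite type with discrete
fibres) satisfies condition (A): for every etale U ⟶ X and every point u of U there are an etale V ⟶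
Y, an open and closed subscheme W of X ×_Y V and an X-morphism W ⟶ U whose image contains u.
(Locally of finite type is part of the meaning of locally quasi-finite here and is carried as a
separate hypothesis.) -/
theorem result {X Y : Scheme.{u}} (f : X ⟶ Y) [IsSeparated f]
    [LocallyQuasiFinite f] [LocallyOfFiniteType f] : BigSite.PropA f := by
  intro U g _ u
  obtain ⟨Y', g₀, hg₀, -, V, V₂, v, hV, hfin, hv⟩ :=
    exists_etale_isCompl_of_quasiFiniteAt f (x := g.base u) rfl (f.quasiFiniteAt _)
  have hcl : IsClosed (V : Set ↥(pullback f g₀)) := by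
    have e : (V : Set ↥(pullback f g₀)) = (V₂ : Set ↥(pullback f g₀))ᶜ :=
      eq_compl_iff_isCompl.mpr (hV.map TopologicalSpace.Opens.frameHom)
    rw [e]
    exact V₂.2.isClosed_compl
  have : IsClosedImmersion V.ι := .of_isPreimmersion _ (by rw [Scheme.Opens.range_ι]; exact hcl)
  let a : (V : Scheme.{u}) ⟶ X := V.ι ≫ pullback.fst f g₀
  obtain ⟨u', hu', -⟩ := Scheme.Pullback.exists_preimage_pullback (f := g) (g := a) u v (by
    rw [Scheme.Hom.comp_apply]
    exact hv.symm)
  have : IsIntegralHom (V.ι ≫ pullback.snd f g₀) := inferInstance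
  obtain ⟨Vn, vn, hvn, W, hW, h, hh, hu⟩ :=
    EtFound.propA_integral (V.ι ≫ pullback.snd f g₀) _ (pullback.snd g a) u'
  let k : pullback f (vn ≫ g₀) ⟶ pullback f g₀ :=
    pullback.lift (pullback.fst _ _) (pullback.snd _ _ ≫ vn) (pullback.condition.trans (Category.assoc _ _ _).symm)
  let ι2 : pullback (V.ι ≫ pullback.snd f g₀) vn ⟶ pullback f (vn ≫ g₀) :=
    pullback.lift (pullback.fst _ _ ≫ a) (pullback.snd _ _) (by
      simp only [a, Category.assoc, pullback.condition]
      rw [← Category.assoc V.ι, pullback.condition_assoc])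
  have sq0 : IsPullback k (pullback.snd f (vn ≫ g₀)) (pullback.snd f g₀) vn :=
    IsPullback.of_right (IsPullback.of_hasPullback f (vn ≫ g₀) |> fun t => by
      rw [show pullback.fst f (vn ≫ g₀) = k ≫ pullback.fst f g₀ from (pullback.lift_fst _ _ _).symm] at t
      exact t) (pullback.lift_snd _ _ _) (IsPullback.of_hasPullback f g₀)
  have sq : IsPullback (pullback.fst _ _) ι2 V.ι k := by
    refine IsPullback.of_bot ?_ ?_ sq0
    · rw [show ι2 ≫ pullback.snd f (vn ≫ g₀) = pullback.snd _ _ from pullback.lift_snd _ _ _]
      exact IsPullback.of_hasPullback _ _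
    · refine pullback.hom_ext ?_ ?_
      · simp [ι2, k, a]
      · simp [ι2, k, pullback.condition]
  have : IsOpenImmersion ι2 := MorphismProperty.of_isPullback sq (inferInstanceAs (IsOpenImmersion V.ι))
  have : IsClosedImmersion ι2 := MorphismProperty.of_isPullback sq ‹IsClosedImmersion V.ι›
  refine ⟨Vn, vn ≫ g₀, inferInstance, ι2 ''ᵁ W, ι2.isClosedEmbedding.isClosedMap _ hW,
    (ι2.isoImage W).inv ≫ h ≫ pullback.fst g a, ?_, ?_⟩
  · rw [Category.assoc, Category.assoc, pullback.condition, Iso.inv_comp_eq, Scheme.Hom.isoImage_hom_ι_assoc]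
    rw [← Category.assoc h, hh, Category.assoc]
    simp [ι2]
  · obtain ⟨w, hw⟩ := hu
    refine ⟨(ι2.isoImage W).hom.base w, ?_⟩
    rw [← Scheme.Hom.comp_apply, Iso.hom_inv_id_assoc, Scheme.Hom.comp_apply, hw]
    exact hu'

end Groth.Agent.S6627
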