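import Groth.Statements.S6653
import Groth.Agent.DixBrauer.DivSeq.Integral
import Groth.Agent.GrpSchLib.SmoothRegular
import Groth.Agent.SmoothReg.Scheme
-- import your own Groth.Agent.* helpers here

set_option autoImplicit false
open CategoryTheory CategoryTheory.Limits AlgebraicGeometry Opposite
universe u
open Curves

namespace Groth.Agent.S6653

/-- The fundamental exact sequence: with the divisor map left unnamed: let X be a smooth curve over an
algebraically closed field k (here: X integral of dimension one, smooth, separated and of finite
type over k), let j : Spec O_{X,η} ⟶ X be the canonical morphism from the spectrum of the local ring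
at the generic point, and for a closed point x let i_x : Spec κ(x) ⟶ X be its inclusion. Then the
canonical map G_{m,X} ⟶ j_* G_{m,η} is a monomorphism, and its cokernel is isomorphic to the direct
sum over all closed points of the sheaves (i_x)_* Z (existence of an isomorphism only; the direct
sum is given as any colimit cofan of that family). -/
theorem result (k : Type u) [Field k] [IsAlgClosed k] (X : Scheme.{u})
    (f : X ⟶ Spec (CommRingCat.of k)) [Smooth f] [IsSeparated f] [LocallyOfFiniteType f] [QuasiCompact f] [IsIntegral X]
    (hdim : topologicalKrullDim ↥X = 1)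
    (c : Cofan fun x : {x : ↥X // IsClosed ({x} : Set ↥X)} =>
      (EtCoh.push (X.fromSpecResidueField x.1)).obj (EtCoh.const (Spec (X.residueField x.1)) ℤ))
    (hc : IsColimit c) :
    Mono (EtLim.GmPush (X.fromSpecStalk (genericPoint ↥X))) ∧
      Nonempty (cokernel (EtLim.GmPush (X.fromSpecStalk (genericPoint ↥X))) ≅ c.pt) := by
  haveI : IsLocallyNoetherian X := LocallyOfFiniteType.isLocallyNoetherian f
  have hreg : ∀ x : X, IsRegularLocalRing (X.presheaf.stalk x) :=
    fun x => Groth.Agent.GrpSchLib.isRegularLocalRing_stalk_of_smooth f x
  haveI : CompactSpace X := QuasiCompact.compactSpace_of_compactSpace f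
  refine Groth.Agent.DixBrauer.DivSeq.mono_and_iso (Groth.Agent.DixBrauer.DivSeq.efact_of_regular hreg)
    (fun x => ?_) c hc
  have key : ∀ y : X, IsClosed ({y} : Set X) → ringKrullDim (X.presheaf.stalk y) = 1 := fun y hy =>
    (Groth.Agent.SmoothReg.ringKrullDim_stalk_closedPoint f hy).trans hdim
  refine ⟨key x, fun hx => ?_⟩
  obtain ⟨y, hy, hcl⟩ : ∃ y ∈ closure ({x} : Set X), IsClosed ({y} : Set X) :=
    IsClosed.exists_closed_singleton isClosed_closure ⟨x, subset_closure rfl⟩
  rcases eq_or_ne x y with h | h
  · exact h ▸ hcl
  · exfalso
    have h1 := key y hcl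
    rw [ringKrullDim_stalk_eq_coheight] at h1 hx
    have h2 : (x : X) ⤳ y := specializes_iff_mem_closure.2 hy
    have hlt : y < x := lt_of_le_not_ge h2 fun h3 => h ((h2.antisymm h3).eq)
    have h1' : Order.coheight y = 1 := by exact_mod_cast h1
    have hx' : Order.coheight x = 1 := by exact_mod_cast hx
    have := Order.coheight_strictAnti hlt (by rw [hx']; exact ENat.coe_lt_top 1)
    rw [h1', hx'] at this
    exact lt_irrefl _ this

end Groth.Agent.S6653
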