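import Groth.Statements.S6655
import Groth.Agent.EtModLib.FTLoc
-- import your own Groth.Agent.* helpers here

set_option autoImplicit false
open CategoryTheory CategoryTheory.Limits AlgebraicGeometry Opposite
universe u
open EtModW

namespace Groth.Agent.S6655

/-- Part (3): with both sheaves of finite type: let Λ be a commutative ring and φ : F ⟶ G a map of
finite type locally constant sheaves of Λ-modules on the small etale site of a scheme X. Then on the
members of some etale covering of X the restriction of φ is, up to isomorphisms with constant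
sheaves on both sides, the map of constant sheaves induced by a Λ-linear map. (The published
statement allows G to be any locally constant sheaf of Λ-modules; this row assumes G of finite type
as well.) -/
theorem result (Λ : Type (u + 1)) [CommRing Λ] {X : Scheme.{u}} (F G : EtModW.Mod Λ X)
    (φ : F ⟶ G) (hF : EtModW.IsFTLocConst Λ F) (hG : EtModW.IsFTLocConst Λ G) :
    ∃ (ι : Type u) (U : ι → X.Etale), EtCoh.Covers U ∧ ∀ i, ∃ (M N : Type (u + 1)) (_ : AddCommGroup M) (_ : AddCommGroup N)
      (_ : Module Λ M) (_ : Module Λ N) (h : M →ₗ[Λ] N)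
      (α : EtModW.restr Λ F (U i) ≅ (constantSheaf (X.smallEtaleTopology.over (U i)) (ModuleCat.{u + 1} Λ)).obj (ModuleCat.of Λ M))
      (β : EtModW.restr Λ G (U i) ≅ (constantSheaf (X.smallEtaleTopology.over (U i)) (ModuleCat.{u + 1} Λ)).obj (ModuleCat.of Λ N)),
      (X.smallEtaleTopology.overPullback (ModuleCat.{u + 1} Λ) (U i)).map φ ≫ β.hom =
        α.hom ≫ (constantSheaf (X.smallEtaleTopology.over (U i)) (ModuleCat.{u + 1} Λ)).map (ModuleCat.ofHom h) := by
  choose Ω hΩ hΩ' ξ U u P R hξ hP hR using fun x : X => EtModLib.exists_common hF hG x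
  choose V g v hv hg using fun x : X =>
    @EtModLib.exists_map_le Λ _ X F G φ (U x) (Ω x) (hΩ x) (hΩ' x) (ξ x) (u x) (P x) (R x) (hP x).1 (hR x)
  refine ⟨X, V, fun x => ?_, fun x => ?_⟩
  · let := hΩ x
    have := hΩ' x
    exact ⟨x, _, (EtFound.base_of_point (v x)).trans (hξ x)⟩
  · have hP' := (hP x).restrict (g x)
    have hR' := (hR x).restrict (g x)
    have := EtFound.isIso_constMap hP'.constBy
    have := EtFound.isIso_constMap hR'.constBy
    let h : (P x).map (F.obj.map (g x).op).hom →ₗ[Λ] (R x).map (G.obj.map (g x).op).hom :=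
      LinearMap.codRestrict _ ((φ.hom.app (op (V x))).hom ∘ₗ Submodule.subtype _) fun p => hg x p.1 p.2
    let cP := EtFound.constMap (F := F) (U := V x) (ModuleCat.ofHom ((P x).map (F.obj.map (g x).op).hom).subtype)
    let cR := EtFound.constMap (F := G) (U := V x) (ModuleCat.ofHom ((R x).map (G.obj.map (g x).op).hom).subtype)
    refine ⟨_, _, inferInstance, inferInstance, inferInstance, inferInstance, h,
      (asIso cP).symm, (asIso cR).symm, ?_⟩
    have e := EtFound.constMap_natural φ (ModuleCat.ofHom h) (φ := (ModuleCat.ofHom ((P x).map (F.obj.map (g x).op).hom).subtype : _ ⟶ F.obj.obj (op (V x)))) (ψ := (ModuleCat.ofHom ((R x).map (G.obj.map (g x).op).hom).subtype : _ ⟶ G.obj.obj (op (V x)))) rfl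
    rw [Iso.symm_hom, Iso.symm_hom, Iso.comp_inv_eq, Category.assoc, Iso.eq_inv_comp]
    exact e

end Groth.Agent.S6655
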