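import Groth.Statements.S6659
import Groth.Agent.DualLib.ClosedDerived
import Groth.Agent.EtFound.JContGen
-- import your own Groth.Agent.* helpers here

set_option autoImplicit false
universe u
open CategoryTheory CategoryTheory.Limits AlgebraicGeometry Opposite
attribute [local instance] HasDerivedCategory.standard
open EtDual

namespace Groth.Agent.S6659

/-- Let i : Z → X be a closed immersion of schemes with open complement j : U → X. The direct image i_*
of abelian etale sheaves is exact (its right exactness is carried as an instance hypothesis), and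
the induced functor D(Z_et) → D(X_et) is fully faithful; an object K of D(X_et) lies in its
essential image if and only if every cohomology sheaf of K has zero restriction to U, i.e. K has
cohomology sheaves supported on Z. (The identification of the quasi-inverse with the derived functor
of sections supported on Z is not part of this row.) -/
theorem result {Z X U : Scheme.{u}} (i : Z ⟶ X)
    [IsClosedImmersion i] (j : U ⟶ X) [IsOpenImmersion j] (hZU : Set.range j = (Set.range i)ᶜ)
    [PreservesFiniteColimits (EtCoh.push i)] :
    ((EtCoh.push i).mapDerivedCategory.Full ∧ (EtCoh.push i).mapDerivedCategory.Faithful) ∧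
      ∀ K : DCoh.DEt X,
        (EtCoh.push i).mapDerivedCategory.essImage K ↔
          ∀ n : ℤ, IsZero ((EtCoh.pull j).obj (DCoh.HDEt K n)) := by
  have := EtFound.pull_preservesFiniteLimits i
  have := EtFound.pull_preservesFiniteLimits j
  have := EtFound.jCont j
  have : (EtCoh.pull i).Additive := (EtCoh.pullPushAdj i).left_adjoint_additive
  have : (EtCoh.pull j).Additive := (EtCoh.pullPushAdj j).left_adjoint_additive
  have : PreservesColimitsOfSize.{0, 0} (EtCoh.pull i) := (EtCoh.pullPushAdj i).leftAdjoint_preservesColimits
  have : PreservesFiniteColimits (EtCoh.pull i) := PreservesColimitsOfSize.preservesFiniteColimits.{0, 0} _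
  have : PreservesColimitsOfSize.{0, 0} (EtCoh.pull j) := (EtCoh.pullPushAdj j).leftAdjoint_preservesColimits
  have : PreservesFiniteColimits (EtCoh.pull j) := PreservesColimitsOfSize.preservesFiniteColimits.{0, 0} _
  let adj := DualLib.ClosedDerived.derivedAdj (EtCoh.pullPushAdj i)
  have : ∀ G, IsIso ((EtCoh.pullPushAdj i).counit.app G) := fun G =>
    EtFound.counit_isIso (A := AddCommGrpCat.{u + 1}) i (EtFound.liftable_of_isClosedImmersion i) G
  have := DualLib.ClosedDerived.isIso_derivedAdj_counit (EtCoh.pullPushAdj i)
  have hff := adj.fullyFaithfulROfIsIsoCounit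
  refine ⟨⟨hff.full, hff.faithful⟩, fun K => ⟨?_, fun h => ?_⟩⟩
  · rintro ⟨L, ⟨e⟩⟩ n
    obtain ⟨C, ⟨eC⟩⟩ : ∃ C, Nonempty (DerivedCategory.Q.obj C ≅ L) := ⟨_, ⟨DerivedCategory.Q.objObjPreimageIso L⟩⟩
    let e1 : (DerivedCategory.homologyFunctor (EtCoh.Ab X) n).obj K ≅
        (EtCoh.push i).obj (C.homology n) :=
      (DerivedCategory.homologyFunctor (EtCoh.Ab X) n).mapIso
          (e.symm ≪≫ (EtCoh.push i).mapDerivedCategory.mapIso eC.symm ≪≫ (EtCoh.push i).mapDerivedCategoryFactors.app C) ≪≫
        (DerivedCategory.homologyFunctorFactors (EtCoh.Ab X) n).app _ ≪≫ (C.sc n).mapHomologyIso (EtCoh.push i)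
    exact (DualLib.ClosedDerived.isZero_pull_push i j hZU _).of_iso ((EtCoh.pull j).mapIso e1)
  · let C := DerivedCategory.Q.objPreimage K
    let eC : DerivedCategory.Q.obj C ≅ K := DerivedCategory.Q.objObjPreimageIso K
    have := DualLib.ClosedDerived.isIso_derivedAdj_unit (EtCoh.pullPushAdj i) C
      (DualLib.ClosedDerived.quasiIso_unit i j hZU C fun n => (h n).of_iso ((EtCoh.pull j).mapIso
        (((DerivedCategory.homologyFunctorFactors (EtCoh.Ab X) n).app C).symm ≪≫
          (DerivedCategory.homologyFunctor (EtCoh.Ab X) n).mapIso eC)))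
    exact ⟨_, ⟨(asIso (adj.unit.app (DerivedCategory.Q.obj C))).symm ≪≫ eC⟩⟩

end Groth.Agent.S6659
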