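import Groth.Statements.S6666
import Groth.Agent.LimMor.FieldPoint

set_option autoImplicit false
universe u
open CategoryTheory AlgebraicGeometry
open Lim

namespace Groth.Agent.S6666

/-- Let T be a nonempty quasi-compact quasi-separated scheme and P a property of schemes over T (applied
to quasi-compact quasi-separated ones). Assume: (1) for every thickening T'' → T' (a surjective
closed immersion) of quasi-compact quasi-separated schemes over T, P(T'') if and only if P(T'); (2)
if a scheme T' over T is a limit (in schemes over T) of a cofiltered system of quasi-compact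
quasi-separated schemes over T with affine transition morphisms and P holds for every member, then
P(T'); (3) if T' is quasi-compact quasi-separated over T with P(T') and Z ⊂ T' is a closed subscheme
whose open complement V is quasi-compact, then P(V) or P(Z). Then P(T) implies P(Spec K → T) for
some field K and some morphism Spec K → T. (The published statement does not require T nonempty; for
T empty and P identically true there is no morphism from the spectrum of a field to T, so
nonemptiness is assumed here.) -/
theorem result (T : Scheme.{u}) [CompactSpace T] [QuasiSeparatedSpace T]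
    [Nonempty T] (P : ∀ ⦃T' : Scheme.{u}⦄, (T' ⟶ T) → Prop)
    (h1 : ∀ ⦃T' T'' : Scheme.{u}⦄ (a : T' ⟶ T) (t : T'' ⟶ T') [IsClosedImmersion t] [Surjective t]
      [CompactSpace T'] [QuasiSeparatedSpace T'] [CompactSpace T''] [QuasiSeparatedSpace T''], P (t ≫ a) ↔ P a)
    (h2 : ∀ ⦃I : Type u⦄ [SmallCategory I] [IsCofiltered I] (D : I ⥤ Over T) (c : Limits.Cone D) (_ : Limits.IsLimit c),
      (∀ (i j : I) (m : i ⟶ j), IsAffineHom (D.map m).left) →
      (∀ i, CompactSpace (D.obj i).left ∧ QuasiSeparatedSpace (D.obj i).left) →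
      (∀ i, P (D.obj i).hom) → P c.pt.hom)
    (h3 : ∀ ⦃T' Z V : Scheme.{u}⦄ (a : T' ⟶ T) [CompactSpace T'] [QuasiSeparatedSpace T'] (i : Z ⟶ T') [IsClosedImmersion i]
      (j : V ⟶ T') [IsOpenImmersion j] [CompactSpace V], Set.range j = (Set.range i)ᶜ → P a → P (j ≫ a) ∨ P (i ≫ a))
    (hT : P (𝟙 T)) :
    ∃ (K : Type u) (_ : Field K) (t : Spec (CommRingCat.of K) ⟶ T), P t := by
  obtain ⟨s, hs⟩ := isCompact_univ.elim_finite_subcover
    (fun x : T => ((exists_isAffineOpen_mem_and_subset (x := x) (U := (⊤ : T.Opens)) trivial).choose : Set T))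
    (fun x => TopologicalSpace.Opens.isOpen _)
    (fun x _ => Set.mem_iUnion.mpr ⟨x, (exists_isAffineOpen_mem_and_subset (x := x) (U := (⊤ : T.Opens)) trivial).choose_spec.2.1⟩)
  let e := s.equivFin.symm
  obtain ⟨W, hW, hne, c, hc⟩ := Groth.Agent.LimMor.FieldPoint.exists_affine_piece P h1 h3 s.card T (𝟙 T)
    (fun k => (exists_isAffineOpen_mem_and_subset (x := (e k).1) (U := (⊤ : T.Opens)) trivial).choose)
    (fun k => (exists_isAffineOpen_mem_and_subset (x := (e k).1) (U := (⊤ : T.Opens)) trivial).choose_spec.1)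
    (eq_top_iff.mpr fun x _ => by
      obtain ⟨y, hy, hxy⟩ := Set.mem_iUnion₂.mp (hs (Set.mem_univ x))
      refine TopologicalSpace.Opens.mem_iSup.mpr ⟨s.equivFin ⟨y, hy⟩, ?_⟩
      simpa [e] using hxy) hT
  haveI : Nonempty (Spec Γ(W, ⊤)) := hne.map W.isoSpec.hom
  haveI : Nontrivial Γ(W, ⊤) := PrimeSpectrum.nonempty_iff_nontrivial.mp
    (show Nonempty (Spec Γ(W, ⊤)) from inferInstance)
  exact Groth.Agent.LimMor.FieldPoint.exists_field_of_affine (W.isoSpec.inv ≫ c) P h1 h2 h3
    ((Groth.Agent.LimMor.FieldPoint.P_iso P h1 W.isoSpec.inv c).mpr hc)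

end Groth.Agent.S6666
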