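import Groth.Statements.S6690
import Groth.Agent.EtModLib.FlatTensor
-- import your own Groth.Agent.* helpers here

set_option autoImplicit false
universe u
open CategoryTheory CategoryTheory.Limits AlgebraicGeometry Opposite
attribute [local instance] HasDerivedCategory.standard
open EtModD

namespace Groth.Agent.S6690

/-- Let X be a scheme and Λ a Noetherian ring. Let K be an object of D(X_et, Λ) and E a complex of
sheaves of Λ-modules on the small etale site of X, both bounded above and with all cohomology
sheaves constructible. Then K ⊗^L_Λ E is bounded above and all its cohomology sheaves are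
constructible. (The derived tensor product is the total left derived functor of − ⊗_Λ E; its
existence is carried as an instance hypothesis.) -/
theorem result (Λ : Type (u + 1)) [CommRing Λ] [IsNoetherianRing Λ] {X : Scheme.{u}}
    (K : EtModD.D Λ X) (E : CochainComplex (EtModW.Mod Λ X) ℤ) [EtModD.HasLTensorCx E] (a b : ℤ)
    [K.IsLE a] [(DerivedCategory.Q.obj E).IsLE b]
    (hK : ∀ i : ℤ, EtModW.IsConstructible Λ (EtModD.HD K i))
    (hE : ∀ i : ℤ, EtModW.IsConstructible Λ (EtModD.HD (DerivedCategory.Q.obj E) i)) :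
    (∃ c : ℤ, ((EtModD.LTensorCx E).obj K).IsLE c) ∧
      ∀ i : ℤ, EtModW.IsConstructible Λ (EtModD.HD ((EtModD.LTensorCx E).obj K) i) := by
  obtain ⟨C, hCz, hCf, ⟨eK⟩⟩ := EtModLib.exists_flat_resolution K a
  obtain ⟨P, hPz, hPf, ⟨eE⟩⟩ := EtModLib.exists_flat_resolution (DerivedCategory.Q.obj E) b
  have hCk := EtModLib.isKFlat_of_bounded C a hCz hCf
  let φ : ∀ i, C.homology i ≅ EtModD.HD K i := fun i =>
    ((DerivedCategory.homologyFunctorFactors _ i).app C).symm ≪≫
      (DerivedCategory.homologyFunctor (EtModW.Mod Λ X) i).mapIso eK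
  let ψ : ∀ i, P.homology i ≅ EtModD.HD (DerivedCategory.Q.obj E) i := fun i =>
    ((DerivedCategory.homologyFunctorFactors _ i).app P).symm ≪≫
      (DerivedCategory.homologyFunctor (EtModW.Mod Λ X) i).mapIso eE
  obtain ⟨e⟩ := EtModLib.nonempty_LTensorCx_iso E hCk eE
  let e' : (EtModD.LTensorCx E).obj K ≅ DerivedCategory.Q.obj (((EtModD.tensorCx Λ X).obj C).obj P) :=
    (EtModD.LTensorCx E).mapIso eK.symm ≪≫ e
  haveI := EtModLib.isStrictlyLE_tensorCx C P a b hCz hPz
  refine ⟨⟨a + b, ⟨⟨_, e', inferInstance⟩⟩⟩, fun i => ?_⟩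
  refine EtModLib.isConstructible_of_iso (((DerivedCategory.homologyFunctorFactors _ i).app _).symm ≪≫
    (DerivedCategory.homologyFunctor (EtModW.Mod Λ X) i).mapIso e'.symm) ?_
  exact EtModLib.isConstructible_homology_tensorCx a b hCz hPz hCf hPf
    (fun i => EtModLib.isConstructible_of_iso (φ i).symm (hK i))
    (fun i => EtModLib.isConstructible_of_iso (ψ i).symm (hE i)) i

end Groth.Agent.S6690
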