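import Groth.Statements.S6699
import Groth.Agent.EtModLib.EpiGen
-- import your own Groth.Agent.* helpers here

set_option autoImplicit false
universe u
open CategoryTheory CategoryTheory.Limits AlgebraicGeometry Opposite
attribute [local instance] HasDerivedCategory.standard
open EtModD

namespace Groth.Agent.S6699

/-- Let X be a quasi-compact and quasi-separated scheme, Λ a Noetherian ring, K an object of D(X_et, Λ)
and b an integer such that the b-th cohomology sheaf of K is a constructible sheaf of Λ-modules.
Then there exist finitely many affine schemes U_k with etale morphisms j_k : U_k → X and a morphism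
φ : F[-b] → K in D(X_et, Λ), where F is the direct sum of the sheaves j_{k!} Λ (extension by zero of
the constant sheaf Λ on U_k) placed in degree b, such that the map induced by φ on b-th cohomology
sheaves is an epimorphism F → H^b(K). (Continuity of the functors V ↦ (V → U_k → X) between small
etale sites, true for every etale morphism, appears as an instance binder in front of the
extension-by-zero terms.) -/
theorem result (Λ : Type (u + 1)) [CommRing Λ] [IsNoetherianRing Λ] (X : Scheme.{u})
    [CompactSpace X] [QuasiSeparatedSpace X] (K : EtModD.D Λ X) (b : ℤ)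
    (hK : EtModW.IsConstructible Λ (EtModD.HD K b)) :
    ∃ (m : ℕ) (U : Fin m → Scheme.{u}) (j : ∀ k, U k ⟶ X) (_ : ∀ k, Etale (j k)) (_ : ∀ k, IsAffine (U k)),
      ∀ [∀ k, EtShriek.JCont (j k)],
        ∃ φ : (DerivedCategory.singleFunctor (EtModW.Mod Λ X) b).obj
              (∐ fun k => (EtSix.extZeroMod Λ (j k)).obj (EtSix.constΛ Λ (U k))) ⟶ K,
          Epi ((DerivedCategory.homologyFunctor (EtModW.Mod Λ X) b).map φ) := by
  obtain ⟨C, ⟨eK⟩⟩ : ∃ C, Nonempty (DerivedCategory.Q.obj C ≅ K) :=
    ⟨_, ⟨DerivedCategory.Q.objObjPreimageIso K⟩⟩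
  let eH : C.homology b ≅ EtModD.HD K b :=
    ((DerivedCategory.homologyFunctorFactors _ b).app C).symm ≪≫
      (DerivedCategory.homologyFunctor (EtModW.Mod Λ X) b).mapIso eK
  obtain ⟨m, U, j, hj, hU, H⟩ := EtModLib.exists_sigma_extZero_epi (C.homologyπ b)
    (EtModLib.isConstructible_of_iso eH.symm hK)
  refine ⟨m, U, j, hj, hU, ?_⟩
  intro hJ
  obtain ⟨ψ, hψ⟩ := @H hJ
  let G : EtModW.Mod Λ X := ∐ fun k => (EtSix.extZeroMod Λ (j k)).obj (EtSix.constΛ Λ (U k))
  let f : (HomologicalComplex.single (EtModW.Mod Λ X) (ComplexShape.up ℤ) b).obj G ⟶ C :=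
    HomologicalComplex.mkHomFromSingle (ψ ≫ C.iCycles b) (fun i _ => by
      rw [Category.assoc, HomologicalComplex.iCycles_d, comp_zero])
  have hf : HomologicalComplex.cyclesMap f b =
      (HomologicalComplex.singleObjCyclesSelfIso (ComplexShape.up ℤ) b G).hom ≫ ψ := by
    rw [← cancel_mono (C.iCycles b)]
    simp [f, HomologicalComplex.singleObjCyclesSelfIso]
  haveI : Epi (HomologicalComplex.homologyMap f b) := by
    haveI : Epi ((HomologicalComplex.homologyπ _ b) ≫ HomologicalComplex.homologyMap f b) := by
      rw [HomologicalComplex.homologyπ_naturality, hf, Category.assoc]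
      infer_instance
    exact epi_of_epi (HomologicalComplex.homologyπ _ b) _
  refine ⟨(DerivedCategory.singleFunctorIsoCompQ _ b).hom.app G ≫ DerivedCategory.Q.map f ≫ eK.hom, ?_⟩
  haveI : Epi ((DerivedCategory.homologyFunctor (EtModW.Mod Λ X) b).map (DerivedCategory.Q.map f)) := by
    haveI : Epi ((HomologicalComplex.homologyFunctor (EtModW.Mod Λ X) (ComplexShape.up ℤ) b).map f) :=
      inferInstanceAs (Epi (HomologicalComplex.homologyMap f b))
    rw [show (DerivedCategory.homologyFunctor (EtModW.Mod Λ X) b).map (DerivedCategory.Q.map f) = _ from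
      (NatIso.naturality_2 (DerivedCategory.homologyFunctorFactors (EtModW.Mod Λ X) b) f).symm]
    infer_instance
  rw [Functor.map_comp, Functor.map_comp]
  exact @epi_comp _ _ _ _ _ _ inferInstance _ (@epi_comp _ _ _ _ _ _ ‹_› _ inferInstance)

end Groth.Agent.S6699
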