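import Groth.Statements.S6700
import Groth.Agent.EtModLib.ExtZeroResolve
-- import your own Groth.Agent.* helpers here

set_option autoImplicit false
universe u
open CategoryTheory CategoryTheory.Limits AlgebraicGeometry Opposite
attribute [local instance] HasDerivedCategory.standard
open EtModD

namespace Groth.Agent.S6700

/-- (1) ⇔ (2): let X be a quasi-compact and quasi-separated scheme, Λ a Noetherian ring and K an object
of D(X_et, Λ) which is bounded above. Then every cohomology sheaf of K is a constructible sheaf of
Λ-modules if and only if K is isomorphic, in D(X_et, Λ), to the image of a bounded above complex of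
sheaves of Λ-modules each of whose terms is isomorphic to a finite direct sum of sheaves j_! Λ,
extensions by zero of the constant sheaf Λ along etale morphisms j : U → X with U affine. (A third
equivalent condition, representability by a bounded above complex of flat constructible sheaves of
Λ-modules, is not included. Continuity of the functors V ↦ (V → U → X) between small etale sites,
true for every etale morphism, appears as an instance binder in front of the extension-by-zero
terms.) -/
theorem result (Λ : Type (u + 1)) [CommRing Λ]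
    [IsNoetherianRing Λ] (X : Scheme.{u}) [CompactSpace X] [QuasiSeparatedSpace X] (K : EtModD.D Λ X) (n : ℤ)
    [K.IsLE n] :
    (∀ i : ℤ, EtModW.IsConstructible Λ (EtModD.HD K i)) ↔
      ∃ (C : CochainComplex (EtModW.Mod Λ X) ℤ) (c : ℤ),
        (∀ i : ℤ, c < i → IsZero (C.X i)) ∧
        (∀ i : ℤ, ∃ (m : ℕ) (U : Fin m → Scheme.{u}) (j : ∀ k, U k ⟶ X) (_ : ∀ k, Etale (j k))
            (_ : ∀ k, IsAffine (U k)),
            ∀ [∀ k, EtShriek.JCont (j k)],
              Nonempty (C.X i ≅ ∐ fun k => (EtSix.extZeroMod Λ (j k)).obj (EtSix.constΛ Λ (U k)))) ∧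
        Nonempty (DerivedCategory.Q.obj C ≅ K) := by
  constructor
  · intro hK
    obtain ⟨Y, ⟨eK⟩⟩ : ∃ Y, Nonempty (DerivedCategory.Q.obj Y ≅ K) :=
      ⟨_, ⟨DerivedCategory.Q.objObjPreimageIso K⟩⟩
    let eH : ∀ i, Y.homology i ≅ EtModD.HD K i := fun i =>
      ((DerivedCategory.homologyFunctorFactors _ i).app Y).symm ≪≫
        (DerivedCategory.homologyFunctor (EtModW.Mod Λ X) i).mapIso eK
    have hac : ∀ i : ℤ, n + 1 ≤ i → Y.ExactAt i := fun i hi =>
      (HomologicalComplex.exactAt_iff_isZero_homology _ _).2
        ((K.isZero_of_isLE n i (by omega)).of_iso (eH i))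
    let Z : CochainComplex (EtModW.Mod Λ X) ℤ := HomologicalComplex.zero
    have hZ : ∀ i, IsZero (Z.X i) := fun i =>
      (HomologicalComplex.eval _ (ComplexShape.up ℤ) i).map_isZero HomologicalComplex.isZero_zero
    obtain ⟨E, v, g, -, hE, hq, -, -⟩ := PCohLib.exists_all (fun A B hA hB => EtModLib.isSumExtZero_prod hA hB)
      EtModLib.isQuasiLiftable_sumExtZero
      (fun m => EtModLib.coneFT_of_constructible (fun i => EtModLib.isConstructible_of_iso (eH i).symm (hK i)) m)
      (n + 1) (0 : Z ⟶ Y) ⟨⟨0, fun i _ => hZ i⟩, fun i => EtModLib.isSumExtZero_of_isZero (hZ i)⟩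
      (PCohLib.exactGE_of_zero _ _ hZ hac)
    obtain ⟨c, hc⟩ := hE.1
    exact ⟨E, c, hc, hE.2, ⟨asIso (DerivedCategory.Q.map g) ≪≫ eK⟩⟩
  · rintro ⟨C, c, -, hC, ⟨e⟩⟩ i
    exact EtModLib.isConstructible_of_iso
      (((DerivedCategory.homologyFunctorFactors _ i).app C).symm ≪≫
        (DerivedCategory.homologyFunctor (EtModW.Mod Λ X) i).mapIso e)
      (EtModLib.isConstructible_homology i fun k _ => EtModLib.isConstructible_of_isSumExtZero (hC k))

end Groth.Agent.S6700
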