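import Groth.Statements.S6712
import Groth.Agent.DEqLib.Sib.FibreIsoNhd

set_option autoImplicit false
universe u
open CategoryTheory AlgebraicGeometry
open DEquiv

namespace Groth.Agent.S6712

open CategoryTheory.Limits in
/-- Let S be a Noetherian scheme, s ∈ S, and p : X ⟶ Y a morphism over S where X ⟶ S and Y ⟶ S are
proper and X ⟶ S is flat. If the fibre X_s ⟶ Y_s of p is an isomorphism, then there is an open
neighbourhood U of s such that the base change X_U ⟶ Y_U of p is an isomorphism. -/
theorem result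
    {S X Y : Scheme.{u}} [IsNoetherian S] (s : S) (g : X ⟶ S) (h : Y ⟶ S) (p : X ⟶ Y)
    (w : p ≫ h = g) [IsProper g] [IsProper h] [Flat g]
    (hs : IsIso (pullback.map g (S.fromSpecResidueField s) h (S.fromSpecResidueField s) p (𝟙 _)
      (𝟙 _) ((Category.comp_id g).trans w.symm)
      ((Category.comp_id _).trans (Category.id_comp _).symm))) :
    ∃ U : S.Opens, s ∈ U ∧
      IsIso (pullback.map g U.ι h U.ι p (𝟙 _) (𝟙 _) ((Category.comp_id g).trans w.symm)
        ((Category.comp_id _).trans (Category.id_comp _).symm)) := by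
  subst w
  haveI : IsProper p := IsProper.of_comp p h
  have sq : ∀ {T : Scheme.{u}} (j : T ⟶ S), IsPullback
      (pullback.map (p ≫ h) j h j p (𝟙 _) (𝟙 _) (Category.comp_id _)
        ((Category.comp_id _).trans (Category.id_comp _).symm))
      (pullback.fst (p ≫ h) j) (pullback.fst h j) p := by
    intro T j
    refine IsPullback.flip ?_
    refine IsPullback.of_bot ?_ (pullback.lift_fst _ _ _).symm (IsPullback.of_hasPullback h j).flip.flip
    have e2 : pullback.map (p ≫ h) j h j p (𝟙 _) (𝟙 _) (Category.comp_id _)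
        ((Category.comp_id _).trans (Category.id_comp _).symm) ≫ pullback.snd h j = pullback.snd (p ≫ h) j :=
      (pullback.lift_snd _ _ _).trans (Category.comp_id _)
    rw [e2]
    exact IsPullback.of_hasPullback _ _
  have iff : ∀ {T : Scheme.{u}} (j : T ⟶ S), IsIso (pullback.map (p ≫ h) j h j p (𝟙 _) (𝟙 _) (Category.comp_id _)
        ((Category.comp_id _).trans (Category.id_comp _).symm)) ↔ IsIso (pullback.snd p (pullback.fst h j)) := by
    intro T j
    rw [← (sq j).flip.isoPullback_hom_snd, isIso_comp_left_iff]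
  obtain ⟨U, hsU, hU⟩ := Groth.Agent.DEqLib.Sib.exists_nhd_isIso_restrict p h s ((iff _).1 hs)
  refine ⟨U, hsU, (iff _).2 ?_⟩
  haveI := hU
  have e : IsPullback (pullback.fst h U.ι) (pullback.snd h U.ι) h U.ι := IsPullback.of_hasPullback _ _
  let ψ : pullback h U.ι ≅ (h ⁻¹ᵁ U).toScheme := e.isoIsPullback _ _ (isPullback_morphismRestrict h U).flip
  have hψ : ψ.hom ≫ (h ⁻¹ᵁ U).ι = pullback.fst h U.ι := IsPullback.isoIsPullback_hom_fst _ _ _ _
  haveI : IsIso (pullback.snd p (h ⁻¹ᵁ U).ι) := by
    rw [← (isPullback_morphismRestrict p (h ⁻¹ᵁ U)).flip.isoPullback_inv_snd]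
    infer_instance
  have : IsPullback (pullback.fst p (pullback.fst h U.ι)) (pullback.snd p (pullback.fst h U.ι) ≫ ψ.hom)
      p (h ⁻¹ᵁ U).ι := by
    refine IsPullback.of_iso (IsPullback.of_hasPullback p (pullback.fst h U.ι)) (Iso.refl _) (Iso.refl _)
      ψ (Iso.refl _) ?_ ?_ ?_ ?_ <;> simp [hψ]
  haveI : IsIso (pullback.snd p (pullback.fst h U.ι) ≫ ψ.hom) := by
    rw [← this.isoPullback_hom_snd]
    infer_instance
  exact IsIso.of_isIso_comp_right _ ψ.hom

end Groth.Agent.S6712
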