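import Groth.Statements.S6726
import Groth.Agent.RPSM.FPValue2

set_option autoImplicit false
universe u v' u'
open CategoryTheory CategoryTheory.Limits
open FunMor

namespace Groth.Agent.S6726

/-- Full faithfulness of the functor F ↦ (F(A), induced A-action): let A be a commutative ring, B an
additive category with cokernels, and F, F' right exact functors from the category of finitely
presented A-modules to B. Then two natural transformations F ⟶ F' with the same component at A are
equal, and a morphism φ : F(A) ⟶ F'(A) is the component at A of a natural transformation as soon as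
it commutes with F and F' applied to multiplication by every a ∈ A. -/
theorem result
    (A : Type u) [CommRing A] {B : Type u'} [Category.{v'} B] [Preadditive B] [HasFiniteBiproducts B]
    [HasCokernels B] (F F' : (ObjectProperty.FullSubcategory (fun M : ModuleCat.{u} A => Module.FinitePresentation A M)) ⥤ B)
    [PreservesFiniteColimits F] [PreservesFiniteColimits F'] :
    (∀ t t' : F ⟶ F', t.app (⟨ModuleCat.of A A, inferInstance⟩ : (ObjectProperty.FullSubcategory (fun M : ModuleCat.{u} A => Module.FinitePresentation A M))) = t'.app (⟨ModuleCat.of A A, inferInstance⟩ : (ObjectProperty.FullSubcategory (fun M : ModuleCat.{u} A => Module.FinitePresentation A M))) → t = t') ∧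
    ∀ φ : F.obj (⟨ModuleCat.of A A, inferInstance⟩ : (ObjectProperty.FullSubcategory (fun M : ModuleCat.{u} A => Module.FinitePresentation A M))) ⟶ F'.obj (⟨ModuleCat.of A A, inferInstance⟩ : (ObjectProperty.FullSubcategory (fun M : ModuleCat.{u} A => Module.FinitePresentation A M))),
      (∀ a : A, F.map (ObjectProperty.homMk (ModuleCat.ofHom (LinearMap.lsmul A A a)) : (⟨ModuleCat.of A A, inferInstance⟩ : (ObjectProperty.FullSubcategory (fun M : ModuleCat.{u} A => Module.FinitePresentation A M))) ⟶ (⟨ModuleCat.of A A, inferInstance⟩ : (ObjectProperty.FullSubcategory (fun M : ModuleCat.{u} A => Module.FinitePresentation A M)))) ≫ φ = φ ≫ F'.map (ObjectProperty.homMk (ModuleCat.ofHom (LinearMap.lsmul A A a)) : (⟨ModuleCat.of A A, inferInstance⟩ : (ObjectProperty.FullSubcategory (fun M : ModuleCat.{u} A => Module.FinitePresentation A M))) ⟶ (⟨ModuleCat.of A A, inferInstance⟩ : (ObjectProperty.FullSubcategory (fun M : ModuleCat.{u} A => Module.FinitePresentation A M))))) →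
      ∃ t : F ⟶ F', t.app (⟨ModuleCat.of A A, inferInstance⟩ : (ObjectProperty.FullSubcategory (fun M : ModuleCat.{u} A => Module.FinitePresentation A M))) = φ := by
  haveI : F.Additive := RPSM.additive_of_rightExact F
  haveI : F'.Additive := RPSM.additive_of_rightExact F'
  let R : RPSM.FPC A := RPSM.fpA A
  have key : ∀ (t : F ⟶ F') (M : RPSM.FPC A) (m : M.obj),
      F.map (RPSM.spanHom M m) ≫ t.app M = t.app R ≫ F'.map (RPSM.spanHom M m) := fun t M m =>
    t.naturality _
  refine ⟨fun t t' h => NatTrans.ext (funext fun M => (RPSM.valη_univ F M).hom_ext _ fun m => ?_),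
    fun φ hφ => ?_⟩
  · exact (key t M m).trans ((congrArg (· ≫ F'.map (RPSM.spanHom M m)) h).trans (key t' M m).symm)
  · let ψ : ∀ M : RPSM.FPC A, M.obj →ₗ[A] RPSM.KHom (RPSM.valHom F) (F'.obj M) := fun M =>
      { toFun := fun m => RPSM.KHom.ofHom (φ ≫ (RPSM.valη F' M m).toHom)
        map_add' := fun m m' => by
          rw [map_add]
          exact Preadditive.comp_add _ _ _ _ _ _
        map_smul' := fun a m => by
          rw [map_smul]
          exact ((Category.assoc _ _ _).symm.trans
            (congrArg (· ≫ (RPSM.valη F' M m).toHom) (hφ a).symm)).trans (Category.assoc _ _ _) }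
    choose t ht _ using fun M : RPSM.FPC A => RPSM.valη_univ F M (F'.obj M) (ψ M)
    refine ⟨{ app := t, naturality := fun M N f => (RPSM.valη_univ F M).hom_ext _ fun m => ?_ }, ?_⟩
    · rw [← Category.assoc, RPSM.valη_map, ht N, ← Category.assoc, ht M]
      exact ((Category.assoc _ _ _).trans (congrArg (φ ≫ ·) (RPSM.valη_map F' f m))).symm
    · have h1 : RPSM.spanHom R (1 : A) = 𝟙 R := RPSM.fpA_hom_ext (one_mul (1 : A))
      have h := ht R (1 : A)
      change F.map (RPSM.spanHom R (1 : A)) ≫ t R = φ ≫ F'.map (RPSM.spanHom R (1 : A)) at h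
      rw [h1, F.map_id, Category.id_comp, F'.map_id, Category.comp_id] at h
      exact h

end Groth.Agent.S6726
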