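import Groth.Statements.S6729
import Groth.Agent.DEqLib.Sib.ResProp
import Groth.Agent.DEqLib.Sib.EpiRes
import Groth.Agent.KFlatLib.Perfect.Tensor
import Groth.Agent.QCoh.DevissageP

set_option autoImplicit false
universe u
open CategoryTheory AlgebraicGeometry
open DEquiv
set_option backward.isDefEq.respectTransparency false

namespace Groth.Agent.S6729

open CategoryTheory.Limits in
/-- Let R be a Noetherian ring and X a separated scheme of finite type over R which has the resolution
property. Let O_Δ = Δ_* O_X on X ×_R X, where Δ is the diagonal. Then there is a resolution ⋯ ⟶ E_1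
⊠ G_1 ⟶ E_0 ⊠ G_0 ⟶ O_Δ ⟶ 0 with every E_i and G_i a finite locally free O_X-module: an ℕ-indexed
chain complex with a quasi-isomorphism to O_Δ in degree 0, each of whose terms is isomorphic to
pr_1^* E_i ⊗ pr_2^* G_i. -/
theorem result
    (R : Type u) [CommRing R] [IsNoetherianRing R] (X : Scheme.{u}) [X.Over (Spec (.of R))]
    [IsSeparated (X ↘ Spec (.of R))] [LocallyOfFiniteType (X ↘ Spec (.of R))] [CompactSpace X]
    (hX : PerfAux.HasResolutionProperty X) :
    ∃ (C : ChainComplex (pullback (X ↘ Spec (.of R)) (X ↘ Spec (.of R))).Modules ℕ)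
      (π : C ⟶ (ChainComplex.single₀ _).obj
        ((Coh.push (pullback.diagonal (X ↘ Spec (.of R)))).obj (Coh.structureModule X))),
      QuasiIso π ∧ ∀ n : ℕ, ∃ (E G : X.Modules), FlatMod.IsFinLocFree E ∧ FlatMod.IsFinLocFree G ∧
        Nonempty (C.X n ≅ CohB1.tensorMod
          ((Scheme.Modules.pullback (pullback.fst (X ↘ Spec (.of R)) (X ↘ Spec (.of R)))).obj E)
          ((Scheme.Modules.pullback (pullback.snd (X ↘ Spec (.of R)) (X ↘ Spec (.of R)))).obj G)) := by
  classical
  let s := X ↘ Spec (.of R)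
  let Z := pullback s s
  haveI : QuasiCompact s := (quasiCompact_iff_compactSpace s).2 ‹_›
  haveI : IsLocallyNoetherian X := LocallyOfFiniteType.isLocallyNoetherian s
  haveI : IsLocallyNoetherian Z := LocallyOfFiniteType.isLocallyNoetherian (pullback.fst s s ≫ s)
  haveI : QuasiSeparatedSpace X := (quasiSeparated_iff_quasiSeparatedSpace s).1 inferInstance
  have haff : ∀ W : X.Opens, IsAffineOpen W →
      IsAffineHom ((pullback.fst s s ⁻¹ᵁ W).ι ≫ pullback.snd s s) := fun W hW => by
    have h1 : IsPullback ((pullback.fst s s ⁻¹ᵁ W).ι ≫ pullback.snd s s) (pullback.fst s s ∣_ W) s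
        (W.ι ≫ s) :=
      (isPullback_morphismRestrict (pullback.fst s s) W).flip.paste_horiz (IsPullback.of_hasPullback _ _).flip
    haveI : IsAffine (W : Scheme.{u}) := hW
    exact MorphismProperty.of_isPullback h1.flip inferInstance
  have hcoh : ∀ {M : Z.Modules}, FlatMod.IsFinLocFree M → Coh.IsCoh M := fun h =>
    Groth.Agent.QCoh.isCoh_iff_isFP.2 (Groth.Agent.QCoh.isFP_of_isFinLocFree h)
  obtain ⟨C, π, hq, hC⟩ := Groth.Agent.DEqLib.Sib.EpiRes.exists_resolution (fun M : Z.Modules => Coh.IsCoh M)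
    (fun M => ∃ (E G : X.Modules), FlatMod.IsFinLocFree E ∧ FlatMod.IsFinLocFree G ∧
        Nonempty (M ≅ CohB1.tensorMod ((Scheme.Modules.pullback (pullback.fst s s)).obj E)
          ((Scheme.Modules.pullback (pullback.snd s s)).obj G)))
    (fun M hM => by
      obtain ⟨E, G, hE, hG, p, hp⟩ :=
        Groth.Agent.DEqLib.Sib.ResProp.exists_box_surjection hX hX haff hM.1 hM.2
      exact ⟨_, p, hp, ⟨E, G, hE, hG, ⟨Iso.refl _⟩⟩, Groth.Agent.QCoh.isCoh_kernel
        (hcoh (Groth.Agent.KFlatLib.isFinLocFree_tensor (Groth.Agent.KFlatLib.isFinLocFree_pullback _ hE)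
          (Groth.Agent.KFlatLib.isFinLocFree_pullback _ hG))) hM p⟩)
    (M := (Coh.push (pullback.diagonal s)).obj (Coh.structureModule X))
    (Groth.Agent.QCoh.isCoh_pushforward_finite _ Groth.Agent.QCoh.isCoh_structureModule')
  exact ⟨C, π, hq, hC⟩

end Groth.Agent.S6729
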