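import Groth.Statements.S6730
import Groth.Agent.RPSM.CohStruct

set_option autoImplicit false
universe u
open CategoryTheory CategoryTheory.Limits AlgebraicGeometry
open FunMor

set_option backward.isDefEq.respectTransparency false
set_option backward.isDefEq.respectTransparency.types false

namespace Groth.Agent.S6730

open Groth.Agent.RPSM

/-- Let X and Y be Noetherian schemes and F : Coh(O_X) ⥤ Coh(O_Y) a functor. Then F extends to a functor
F' : QCoh(O_X) ⥤ QCoh(O_Y) which commutes with filtered colimits, uniquely up to isomorphism;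
moreover for any such extension F': if F is additive, F' commutes with arbitrary direct sums, and if
F is left exact (resp. right exact), so is F'. -/
theorem result
    (X Y : Scheme.{u}) [IsNoetherian X] [IsNoetherian Y]
    (F : ObjectProperty.FullSubcategory (fun M : X.Modules => Coh.IsCoh M) ⥤ ObjectProperty.FullSubcategory (fun M : Y.Modules => Coh.IsCoh M)) :
    (∃ F' : QCohCat.QCoh X ⥤ QCohCat.QCoh Y, PreservesFilteredColimitsOfSize.{u, u} F' ∧
      Nonempty ((ObjectProperty.ιOfLE (P := (fun M : X.Modules => Coh.IsCoh M)) (P' := QCohCat.isQCoh X) (fun _ h => h.1)) ⋙ F' ≅ F ⋙ (ObjectProperty.ιOfLE (P := (fun M : Y.Modules => Coh.IsCoh M)) (P' := QCohCat.isQCoh Y) (fun _ h => h.1)))) ∧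
    (∀ F₁ F₂ : QCohCat.QCoh X ⥤ QCohCat.QCoh Y, PreservesFilteredColimitsOfSize.{u, u} F₁ →
      PreservesFilteredColimitsOfSize.{u, u} F₂ →
      Nonempty ((ObjectProperty.ιOfLE (P := (fun M : X.Modules => Coh.IsCoh M)) (P' := QCohCat.isQCoh X) (fun _ h => h.1)) ⋙ F₁ ≅ F ⋙ (ObjectProperty.ιOfLE (P := (fun M : Y.Modules => Coh.IsCoh M)) (P' := QCohCat.isQCoh Y) (fun _ h => h.1))) →
      Nonempty ((ObjectProperty.ιOfLE (P := (fun M : X.Modules => Coh.IsCoh M)) (P' := QCohCat.isQCoh X) (fun _ h => h.1)) ⋙ F₂ ≅ F ⋙ (ObjectProperty.ιOfLE (P := (fun M : Y.Modules => Coh.IsCoh M)) (P' := QCohCat.isQCoh Y) (fun _ h => h.1))) → Nonempty (F₁ ≅ F₂)) ∧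
    ∀ F' : QCohCat.QCoh X ⥤ QCohCat.QCoh Y, PreservesFilteredColimitsOfSize.{u, u} F' →
      Nonempty ((ObjectProperty.ιOfLE (P := (fun M : X.Modules => Coh.IsCoh M)) (P' := QCohCat.isQCoh X) (fun _ h => h.1)) ⋙ F' ≅ F ⋙ (ObjectProperty.ιOfLE (P := (fun M : Y.Modules => Coh.IsCoh M)) (P' := QCohCat.isQCoh Y) (fun _ h => h.1))) →
      (F.Additive → ∀ J : Type u, PreservesColimitsOfShape (Discrete J) F') ∧
      (PreservesFiniteLimits F → PreservesFiniteLimits F') ∧
      (PreservesFiniteColimits F → PreservesFiniteColimits F') := by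
  -- transfer of restriction data to the small category
  have down : ∀ F' : QCohCat.QCoh X ⥤ QCohCat.QCoh Y, Nonempty (cohIncl X ⋙ F' ≅ F ⋙ cohIncl Y) →
      Nonempty (cohG X ⋙ F' ≅ cohLift X ⋙ F ⋙ cohIncl Y) := fun F' ⟨e⟩ =>
    ⟨Functor.isoWhiskerRight (cohLiftIncl X).symm F' ≪≫ Functor.associator _ _ _ ≪≫
      Functor.isoWhiskerLeft (cohLift X) e⟩
  refine ⟨?_, fun F₁ F₂ h₁ h₂ e₁ e₂ => ?_, fun F' h e => ⟨fun hF J => ?_, fun hF => ?_, fun hF => ?_⟩⟩
  · haveI : HasFilteredColimitsOfSize.{u, u} (QCohCat.QCoh Y) := inferInstance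
    obtain ⟨F', hF', ⟨e⟩⟩ := exists_ext (cohG X) (cohLift X ⋙ F ⋙ cohIncl Y)
    exact ⟨F', hF', ⟨(((Functor.whiskeringLeft _ _ _).obj (cohLift X))).preimageIso
      ((Functor.associator _ _ _).symm ≪≫ Functor.isoWhiskerRight (cohLiftIncl X) F' ≪≫ e)⟩⟩
  · obtain ⟨i₁⟩ := down F₁ e₁
    obtain ⟨i₂⟩ := down F₂ e₂
    exact iso_of_restrict_iso (cohG X) F₁ F₂ (i₁ ≪≫ i₂.symm)
  · obtain ⟨i⟩ := down F' e
    haveI : (cohIncl Y).Additive := ⟨fun {_ _ _ _} => rfl⟩
    haveI : (cohLift X).Additive := ⟨fun {_ _ _ _} => rfl⟩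
    haveI : (cohLift X ⋙ F ⋙ cohIncl Y).Additive := inferInstance
    haveI : (cohG X ⋙ F').Additive := Functor.additive_of_iso i.symm
    haveI : F'.Additive := additive_of_restrict (cohG X) F'
    haveI : HasFiniteBiproducts (QCohCat.QCoh X) := HasFiniteBiproducts.of_hasFiniteProducts
    exact preservesCoproducts_of_filtered F' J
  · obtain ⟨i⟩ := down F' e
    haveI : PreservesFiniteLimits (cohLift X ⋙ F ⋙ cohIncl Y) := inferInstance
    haveI : PreservesFiniteLimits (cohG X ⋙ F') := preservesFiniteLimits_of_natIso i.symm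
    haveI : (cohG X ⋙ F').PreservesZeroMorphisms :=
      Functor.preservesZeroMorphisms_of_preserves_terminal_object
    haveI := preservesBinaryBiproducts_of_preservesBinaryProducts (cohG X ⋙ F')
    haveI : (cohG X ⋙ F').Additive := Functor.additive_of_preservesBinaryBiproducts _
    haveI : F'.Additive := additive_of_restrict (cohG X) F'
    exact preservesFiniteLimits_of_restrict (cohG X) F' fun I _ _ =>
      haveI : HasExactColimitsOfShape I (QCohCat.QCoh Y) := AB5OfSize.ofShape _
      inferInstance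
  · obtain ⟨i⟩ := down F' e
    haveI : PreservesFiniteColimits (cohLift X ⋙ F ⋙ cohIncl Y) := inferInstance
    haveI : PreservesFiniteColimits (cohG X ⋙ F') := preservesFiniteColimits_of_natIso i.symm
    haveI : (cohG X ⋙ F').PreservesZeroMorphisms :=
      Functor.preservesZeroMorphisms_of_preserves_initial_object
    haveI := preservesBinaryBiproducts_of_preservesBinaryCoproducts (cohG X ⋙ F')
    haveI : (cohG X ⋙ F').Additive := Functor.additive_of_preservesBinaryBiproducts _
    haveI : F'.Additive := additive_of_restrict (cohG X) F'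
    exact preservesFiniteColimits_of_restrict (cohG X) F'

end Groth.Agent.S6730
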