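import Groth.Statements.S6770
import Groth.Agent.DEqLib.Sib.CompactMod
import Groth.Agent.DEqLib.Sib.BeilAlg

set_option autoImplicit false
universe u
open CategoryTheory
attribute [local instance] HasDerivedCategory.standard
open DEquiv

namespace Groth.Agent.S6770

open CategoryTheory.Limits Opposite in
/-- Let k be a field, n ≥ 0, and R the Beilinson algebra of P^n_k: the k-algebra of upper triangular
(n+1) × (n+1) matrices whose (i, j) entry is a homogeneous polynomial of degree j - i in k[X_0, …,
X_n]. For an object K of the derived category D(R) of R-modules the following are equivalent: K is a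
compact object (the functor Hom(K, -) with values in abelian groups commutes with arbitrary direct
sums indexed by small types), and the cohomology modules H^i(K) are finite-dimensional k-vector
spaces for all i ∈ ℤ, nonzero for only finitely many i. (Left R-modules are used; the published
statement is for right modules, i.e. left modules over the opposite algebra, which is isomorphic to
R by reversing the order of the indices and transposing, and the printed proof applies verbatim to
either side.) -/
theorem result
    (k : Type u) [Field k] (n : ℕ)
    (K : DerivedCategory (ModuleCat.{u} (DEquiv.beilinsonAlg k n))) :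
    (∀ J : Type u, PreservesColimitsOfShape (Discrete J) (preadditiveCoyoneda.obj (op K))) ↔
      ((∀ i : ℤ, Module.Finite k (RestrictScalars k (DEquiv.beilinsonAlg k n) ((DerivedCategory.homologyFunctor (ModuleCat.{u} (DEquiv.beilinsonAlg k n)) i).obj K))) ∧
        Set.Finite {i : ℤ | Nontrivial ((DerivedCategory.homologyFunctor (ModuleCat.{u} (DEquiv.beilinsonAlg k n)) i).obj K)}) := by
  let R := DEquiv.beilinsonAlg k n
  have : IsNoetherianRing R := isNoetherian_of_tower k inferInstance
  have hiff : ∀ M : ModuleCat.{u} R,
      Module.Finite k (RestrictScalars k R M) ↔ Module.Finite R M := by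
    intro M
    letI : Module k M := Module.compHom M (algebraMap k R)
    haveI : IsScalarTower k R M := ⟨fun c r x => by
      show (c • r) • x = algebraMap k R c • (r • x)
      rw [Algebra.smul_def, mul_smul]⟩
    exact ⟨fun h => @Module.Finite.of_restrictScalars_finite k R M _ _ _ _ _ _ _
        (show Module.Finite k M from h),
      fun _ => (Module.Finite.trans R M : Module.Finite k M)⟩
  constructor
  · intro h
    have hf := Groth.Agent.DEqLib.Sib.CMod.finFac_of_preserves h
    exact ⟨fun i => (hiff _).2 (Groth.Agent.DEqLib.Sib.CMod.finite_of_finFac hf i),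
      Groth.Agent.DEqLib.Sib.CMod.finite_support_of_finFac hf⟩
  · rintro ⟨hfin, hsupp⟩
    obtain ⟨b, hb⟩ := hsupp.bddAbove
    obtain ⟨a, ha⟩ := hsupp.bddBelow
    have hz : ∀ i, ¬ (a ≤ i ∧ i ≤ b) → IsZero ((DerivedCategory.homologyFunctor (ModuleCat.{u} R) i).obj K) := by
      intro i hi
      haveI := not_nontrivial_iff_subsingleton.1 fun hn => hi ⟨ha hn, hb hn⟩
      exact ModuleCat.isZero_of_subsingleton _
    have hge : K.IsGE a := (DerivedCategory.isGE_iff _ _).2 fun i hi => hz i fun h => by omega
    have hle : K.IsLE b := (DerivedCategory.isLE_iff _ _).2 fun i hi => hz i fun h => by omega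
    refine fun J => Groth.Agent.DEqLib.Sib.CMod.preserves_of_finFac
      (Groth.Agent.DEqLib.Sib.CMod.finFac_of_bounded ?_ ((b - a).toNat + 1) a b K (by omega) hge hle
        fun i => (hiff _).1 (hfin i)) J
    refine Groth.Agent.DEqLib.Sib.Beil.induction (Groth.Agent.DEqLib.Sib.Beil.beilinsonTriIdem k n)
      (fun M => ∀ m : ℤ, Groth.Agent.DEqLib.Sib.CMod.FinFac
        ((DerivedCategory.singleFunctor (ModuleCat.{u} R) m).obj M))
      (fun M _ m => Groth.Agent.DEqLib.Sib.CMod.FinFac.of_isZero
        (Functor.map_isZero _ (ModuleCat.isZero_of_subsingleton M)))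
      (fun P M f hf _ _ hK m => Groth.Agent.DEqLib.Sib.CMod.finFac_single_of_surjective f hf m (hK _))

end Groth.Agent.S6770
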