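import Groth.Statements.S6794
import Groth.Agent.DSites.FilSS
import Mathlib.Data.Int.Interval
-- import your own Groth.Agent.* helpers here

set_option autoImplicit false
open CategoryTheory CategoryTheory.Limits
universe v u
open SpSeq SpSeq.FilCx

namespace Groth.Agent.S6794

/-- If the cohomology of the filtration steps of a filtered complex vanishes in each degree for large
filtration index and maps isomorphically to the cohomology of the whole complex for small filtration
index, then the spectral sequence is bounded from page `1` on, the induced filtrations on cohomology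
are finite, and the spectral sequence converges. (The published statement asserts boundedness
without naming a page, which read from page `0` fails for an acyclic complex with an infinite
filtration by acyclic subcomplexes; this row asserts boundedness from page `1`, which is what the
published proof shows.) -/
theorem result {A : Type u} [Category.{v} A] [Abelian A] (K : SpSeq.FilCx A) (h0 : ∀ n : ℤ, ∃ p₀ : ℤ, ∀ p : ℤ, p₀ ≤ p → IsZero ((K.fil p : CochainComplex A ℤ).homology n)) (h1 : ∀ n : ℤ, ∃ p₁ : ℤ, ∀ p : ℤ, p ≤ p₁ → IsIso (HomologicalComplex.homologyMap (K.fil p).arrow n)) : K.IsBounded 1 ∧ (∀ n : ℤ, (K.HFil n).IsFinite) ∧ K.Converges := by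
  choose p₀ hp₀ using h0
  choose p₁ hp₁ using h1
  have hfin : ∀ n, (K.HFil n).IsFinite := fun n => by
    refine ⟨⟨p₁ n, ?_⟩, ⟨p₀ n, DSites.FilSS.filH_eq_bot_of_isZero K (hp₀ n _ le_rfl)⟩⟩
    have := hp₁ n _ le_rfl
    exact DSites.FilSS.filH_eq_top_of_epi K
  have hZ : ∀ p n : ℤ, ∀ r : ℕ, (p₀ (n + 1) - p).toNat + 1 ≤ r → K.ZSub r p n = K.ZTop p n :=
    fun p n r hr =>
      DSites.FilSS.ZSub_eq_ZTop_of_isZero K r p n (by omega) (hp₀ (n + 1) _ (by omega))
  have hB : ∀ p n : ℤ, ∀ r : ℕ, (p + 1 - p₁ n).toNat + 1 ≤ r → K.BSub r p n = K.BBot p n :=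
    fun p n r hr => by
      have := hp₁ n (p - r + 1) (by omega)
      exact DSites.FilSS.BSub_eq_BBot_of_mono K r p n (by omega)
  refine ⟨fun n => ?_, hfin, ?_, ⟨fun p n => ⟨?_, ?_⟩, fun n => ?_⟩, fun n => ?_⟩
  · refine (Set.finite_Icc (min (p₁ n - 1) (p₁ (n + 1) - 1))
      (max (p₀ n) (p₀ (n + 1) - 1))).subset fun p hp => ?_
    by_contra h
    refine hp ?_
    rw [Set.mem_Icc, not_and_or, not_le, not_le] at h
    obtain h | h := h
    · exact DSites.FilSS.isZero_E_one_of_isIso K p n (hp₁ _ _ (by omega)) (hp₁ _ _ (by omega))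
        (hp₁ _ _ (by omega))
    · exact DSites.FilSS.isZero_E_one_of_isZero K p n (hp₀ _ _ (by omega)) (hp₀ _ _ (by omega))
  · exact fun p n => ⟨(p₀ (n + 1) - p).toNat + 1, fun r hr => by rw [hZ p n r hr, hZ p n _ le_rfl]⟩
  · refine IsLeast.isGLB ⟨⟨_, hZ p n _ le_rfl⟩, ?_⟩
    rintro _ ⟨r, rfl⟩
    exact DSites.FilSS.ZTop_le_ZSub K r p n
  · refine IsGreatest.isLUB ⟨⟨_, hB p n _ le_rfl⟩, ?_⟩
    rintro _ ⟨r, rfl⟩
    exact DSites.FilSS.BSub_le_BBot K r p n
  · obtain ⟨⟨a', ha''⟩, ⟨b', hb''⟩⟩ := hfin n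
    exact ⟨IsLeast.isGLB ⟨⟨b', hb''⟩, fun _ _ => bot_le⟩,
      IsGreatest.isLUB ⟨⟨a', ha''⟩, fun _ _ => le_top⟩⟩
  · intro T f hf
    obtain ⟨q0, hq0⟩ := (hfin n).2
    have hiso : ∀ q, q0 ≤ q → IsIso (Limits.cokernel.π ((K.HFil n).fil q).arrow) := fun q hq => by
      have : (K.HFil n).fil q = ⊥ := le_bot_iff.1 (((K.HFil n).anti hq).trans hq0.le)
      have hz : ((K.HFil n).fil q).arrow = 0 := by rw [this, Subobject.bot_arrow]
      refine ⟨cokernel.desc _ (𝟙 _) (by rw [hz, zero_comp]), cokernel.π_desc _ _ _,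
        coequalizer.hom_ext ?_⟩
      exact (cokernel.π_desc_assoc _ _ _ _).trans ((Category.id_comp _).trans (Category.comp_id _).symm)
    have hπ : ∀ {p q : ℤ} (h : p ≤ q), Limits.cokernel.π ((K.HFil n).fil q).arrow ≫
        (K.HFil n).quotMap h = Limits.cokernel.π ((K.HFil n).fil p).arrow :=
      fun h => Limits.cokernel.π_desc _ _ _
    have := hiso q0 le_rfl
    refine ⟨f q0 ≫ inv (Limits.cokernel.π ((K.HFil n).fil q0).arrow), fun p => ?_⟩
    let q := max p q0
    have := hiso q (le_max_right _ _)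
    have e1 := hπ (le_max_right p q0)
    have : IsIso ((K.HFil n).quotMap (le_max_right p q0)) := IsIso.of_isIso_fac_left e1
    have e2 : f q = (f q0 ≫ inv (cokernel.π ((K.HFil n).fil q0).arrow)) ≫
        cokernel.π ((K.HFil n).fil q).arrow := by
      rw [← cancel_mono ((K.HFil n).quotMap (le_max_right p q0)), hf, Category.assoc,
        Category.assoc, e1, IsIso.inv_hom_id, Category.comp_id]
    rw [← hf p q (le_max_left _ _), e2]
    simp only [Category.assoc, hπ]

end Groth.Agent.S6794
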