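import Groth.Statements.S6842
import Groth.Agent.DSites.FPB.SumSections
import Groth.Agent.QcqsColim.Topos
-- import your own Groth.Agent.* helpers here

set_option autoImplicit false
universe u
open CategoryTheory CategoryTheory.Limits TopologicalSpace
open ModSite

namespace Groth.Agent.S6842

/-- Let (X, O) be a ringed space, (F_i)_{i ∈ I} a family of O-modules and U ⊆ X a quasi-compact open.
Then the canonical map ⊕_i F_i(U) → (⊕_i F_i)(U) is bijective: every section of the direct sum over
U is a finite sum of images of sections of the F_i over U (surjectivity), and such a finite sum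
vanishes only if each term's section is zero (injectivity). -/
theorem result {X : TopCat.{u}} (O : TopCat.Sheaf CommRingCat.{u} X)
    {I : Type u} (F : I → ModSite.Mod O) [HasCoproduct F] (U : Opens X) (hU : IsCompact (U : Set X)) :
    (∀ s : ModSite.sect (∐ F) U, ∃ (S : Finset I) (t : ∀ i, ModSite.sect (F i) U),
        s = ∑ i ∈ S, ((Sigma.ι F i).val.app (Opposite.op U)).hom (t i)) ∧
      ∀ (S : Finset I) (t : ∀ i, ModSite.sect (F i) U),
        ∑ i ∈ S, ((Sigma.ι F i).val.app (Opposite.op U)).hom (t i) = 0 → ∀ i ∈ S, t i = 0 := by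
  classical
  let T := SheafOfModules.toSheaf.{u} (ModSite.ringSh O)
  have := Groth.Agent.ModTensor.preservesColimits_toSheaf O
  have hc : IsColimit (Cofan.mk (T.obj (∐ F)) fun i => T.map (Sigma.ι F i)) :=
    isColimitCofanMkObjOfIsColimit T _ _ (coproductIsCoproduct F)
  refine ⟨fun s => ?_, fun S t ht j hj => ?_⟩
  · obtain ⟨S, hS⟩ := Groth.Agent.DSites.FPB.exists_finset_sections hc
      (Groth.Agent.QcqsColim.isQCSite_of_isCompact hU) s
    exact ⟨S, fun i => (Groth.Agent.DSites.FPB.proj hc i).hom.app (Opposite.op U) s, (hS S subset_rfl).symm⟩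
  · have h := congrArg ((Groth.Agent.DSites.FPB.proj hc j).hom.app (Opposite.op U)) ht
    refine Eq.trans ?_ (h.trans (map_zero _))
    refine Eq.trans ?_ (map_sum _ _ _).symm
    refine Eq.symm ((Finset.sum_eq_single j (fun i _ hij => ?_) (fun h' => absurd hj h')).trans ?_)
    · exact congrArg (fun a => a.hom.app (Opposite.op U) (t i)) (Groth.Agent.DSites.FPB.inj_proj' hc hij)
    · exact congrArg (fun a => a.hom.app (Opposite.op U) (t j)) (Groth.Agent.DSites.FPB.inj_proj hc j)

end Groth.Agent.S6842
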