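import Groth.Statements.S6920
import Groth.Agent.RelPC65.EpiRing

set_option autoImplicit false
universe u
open CategoryTheory CategoryTheory.Limits MonoidalCategory
open DRing

namespace Groth.Agent.S6920

/-- For an epimorphism of rings `φ : R → S` and a complex `I•` of `S`-modules, if the underlying complex
of `R`-modules of `I•` is K-injective, then `I•` itself is K-injective over `S`. -/
theorem result (R S : Type u) [CommRing R] [CommRing S] (φ : R →+* S)
    (hφ : Epi (CommRingCat.ofHom φ)) (I : DRing.Cx S)
    [CochainComplex.IsKInjective ((DRing.restrictCx φ).obj I)] : CochainComplex.IsKInjective I := by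
  refine ⟨fun {K} f hK => ?_⟩
  let F := ModuleCat.restrictScalars.{u} φ
  haveI : PreservesFiniteLimits F := inferInstance
  haveI : F.Full := Groth.Agent.RelPC65.full_restrictScalars φ hφ
  let G := F.mapHomologicalComplex (ComplexShape.up ℤ)
  have hK' : (G.obj K).Acyclic := fun i => ShortComplex.Exact.map (hK i) F
  obtain ⟨h⟩ := CochainComplex.IsKInjective.nonempty_homotopy_zero (L := (DRing.restrictCx φ).obj I) (G.map f) hK'
  exact ⟨Groth.Agent.RelPC65.homotopyOfMap F f h⟩

end Groth.Agent.S6920
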