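import Groth.Statements.S7100
import Groth.Agent.PCMor.Ring
import Groth.Agent.PerfMor.FlatPC

set_option autoImplicit false
universe u
attribute [local instance] HasDerivedCategory.standard
open DerCA

namespace Groth.Agent.S7100

/-- (1)⇔(4): let R → B → A be homomorphisms of commutative rings with B → A surjective and with R → B
and R → A both flat and of finite presentation. Then an object K of D(A) is pseudo-coherent
(isomorphic in D(A) to a bounded above complex of finite free modules) if and only if its
restriction of scalars to D(B) is pseudo-coherent; and for every integer m, K is m-pseudo-coherent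
if and only if its restriction of scalars to D(B) is m-pseudo-coherent. -/
theorem result (R B A : Type u) [CommRing R] [CommRing B] [CommRing A]
    [Algebra R B] [Algebra R A] [Algebra B A] [IsScalarTower R B A]
    (hφ : Function.Surjective (algebraMap B A))
    [Module.Flat R B] [Algebra.FinitePresentation R B] [Module.Flat R A] [Algebra.FinitePresentation R A]
    (K : Dual.D A) :
    (DRing.IsPseudoCoherent' A K ↔ DRing.IsPseudoCoherent' B ((DRing.restrictD (algebraMap B A)).obj K)) ∧
      ∀ m : ℤ, (DRing.IsPseudoCoherent A m K ↔
        DRing.IsPseudoCoherent B m ((DRing.restrictD (algebraMap B A)).obj K)) := by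
  obtain ⟨n, ψ, hC, hψ, hp⟩ := Groth.Agent.PerfMor.q_of_flat_fp R B
  have hA : Groth.Agent.H9Misc.DRingRelPC.PCHom ((algebraMap B A).comp ψ) :=
    (Groth.Agent.PerfMor.q_of_flat_fp R A).pcHom _ (hφ.comp hψ) (by
      rw [RingHom.comp_assoc, hC, ← IsScalarTower.algebraMap_eq])
  have hBA := Groth.Agent.PCMor.pcHom_cancel hp hA
  have h : ∀ m : ℤ, DRing.IsPseudoCoherent A m K ↔
      DRing.IsPseudoCoherent B m ((DRing.restrictD (algebraMap B A)).obj K) := fun m =>
    Groth.Agent.H9Misc.DRingRestrict.pc_restrict_iff _ hBA m K
  refine ⟨?_, h⟩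
  rw [Groth.Agent.H9Misc.DRingPC.pc'_iff, Groth.Agent.H9Misc.DRingPC.pc'_iff]
  exact forall_congr' h

end Groth.Agent.S7100
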