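import Groth.Statements.S7139
import Groth.Agent.HensEt88.InertiaEtale

set_option autoImplicit false
set_option linter.style.haveILetI false
universe u
open TensorProduct Polynomial

namespace Groth.Agent.S7139

/-- A is a discrete valuation ring, K its field of fractions, and L/K is finite Galois with Galois group
G. Write B for the integral closure of A in L, equipped with the induced G-action, m a maximal ideal
of B and I ⊆ G its inertia group. Denote by B' the integral closure of A inside the fixed field L^I,
with a map to B compatible with L^I ⊆ L. Then the image of B' in B is the ring of invariants B^I,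
and A → B'_{m'} is étale, where m' = m ∩ B'. -/
theorem result (A K L B : Type u) [CommRing A] [IsDomain A]
    [IsDiscreteValuationRing A] [Field K] [Field L] [Algebra A K] [IsFractionRing A K] [Algebra K L]
    [Algebra A L] [IsScalarTower A K L] [FiniteDimensional K L] [IsGalois K L]
    [CommRing B] [Algebra A B] [Algebra B L] [IsScalarTower A B L] [IsIntegralClosure B A L]
    [MulSemiringAction (L ≃ₐ[K] L) B]
    (hact : ∀ (σ : L ≃ₐ[K] L) (b : B), algebraMap B L (σ • b) = σ (algebraMap B L b))
    (m : Ideal B) [m.IsMaximal]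
    (B' : Type u) [CommRing B'] [Algebra A B'] [Algebra B' B] [IsScalarTower A B' B] [Algebra B' L]
    [IsScalarTower B' B L]
    [Algebra B' (IntermediateField.fixedField (m.inertia (L ≃ₐ[K] L)))]
    [IsScalarTower B' (IntermediateField.fixedField (m.inertia (L ≃ₐ[K] L))) L]
    [IsIntegralClosure B' A (IntermediateField.fixedField (m.inertia (L ≃ₐ[K] L)))] :
    (∀ b : B, (∀ σ ∈ m.inertia (L ≃ₐ[K] L), σ • b = b) ↔ b ∈ Set.range (algebraMap B' B)) ∧
      Algebra.Etale A (Localization.AtPrime (m.comap (algebraMap B' B))) := by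
  classical
  let I := m.inertia (L ≃ₐ[K] L)
  let F := IntermediateField.fixedField I
  let i : B' →+* L := algebraMap B' L
  haveI : IsScalarTower A B' L := IsScalarTower.to₁₂₄ A B' B L
  haveI : IsScalarTower A F L := .of_algebraMap_eq fun a => by
    rfl
  haveI : IsScalarTower A K F := .of_algebraMap_eq fun a => Subtype.ext (IsScalarTower.algebraMap_apply A K L a)
  haveI hAF : IsScalarTower A B' F := .of_algebraMap_eq fun a => Subtype.ext (by
    show algebraMap A L a = algebraMap F L (algebraMap B' F (algebraMap A B' a))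
    rw [← IsScalarTower.algebraMap_apply B' F L, ← IsScalarTower.algebraMap_apply A B' L])
  have hiB : Function.Injective (algebraMap B L) := IsIntegralClosure.algebraMap_injective B A L
  have hiB' : Function.Injective (algebraMap B' L) := by
    rw [IsScalarTower.algebraMap_eq B' F L]
    exact (algebraMap F L).injective.comp (IsIntegralClosure.algebraMap_injective B' A F)
  have hfix : ∀ (b' : B') (σ : L ≃ₐ[K] L), σ ∈ I → σ (algebraMap B' L b') = algebraMap B' L b' := fun b' σ hσ => by
    rw [IsScalarTower.algebraMap_apply B' F L]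
    exact (IntermediateField.mem_fixedField_iff I _).mp (algebraMap B' F b').2 σ hσ
  have hrange : ∀ b : B, (∀ σ ∈ I, σ • b = b) ↔ b ∈ Set.range (algebraMap B' B) := fun b => by
    constructor
    · intro h
      let y : F := ⟨algebraMap B L b, (IntermediateField.mem_fixedField_iff I _).mpr fun σ hσ => by
        rw [← hact, h σ hσ]⟩
      have hy : IsIntegral A y := (isIntegral_algHom_iff (IsScalarTower.toAlgHom A F L) (algebraMap F L).injective).mp
        ((IsIntegralClosure.isIntegral A L b).algebraMap)
      obtain ⟨b', hb'⟩ := (IsIntegralClosure.isIntegral_iff (A := B')).mp hy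
      refine ⟨b', hiB ?_⟩
      rw [← IsScalarTower.algebraMap_apply, IsScalarTower.algebraMap_apply B' F L, hb']
      rfl
    · rintro ⟨b', rfl⟩ σ hσ
      apply hiB
      rw [hact, ← IsScalarTower.algebraMap_apply, hfix b' σ hσ]
  refine ⟨hrange, ?_⟩
  -- finiteness
  haveI : Module.IsTorsionFree A F := Module.isTorsionFree_iff_algebraMap_injective.mpr (by
    rw [IsScalarTower.algebraMap_eq A K F]; exact (algebraMap K F).injective.comp (IsFractionRing.injective A K))
  haveI : Algebra.IsSeparable K F := Algebra.isSeparable_tower_bot_of_isSeparable K F L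
  haveI : FiniteDimensional K F := FiniteDimensional.left K F L
  haveI : Module.Finite A B' := IsIntegralClosure.finite A K F B'
  haveI : Module.Free A B' := IsIntegralClosure.module_free A K F B'
  haveI : IsDomain B' := Function.Injective.isDomain (algebraMap B' L) hiB'
  haveI : IsDedekindDomain B' := IsIntegralClosure.isDedekindDomain A K F B'
  let m' : Ideal B' := m.comap (algebraMap B' B)
  haveI : Algebra.IsIntegral A B := IsIntegralClosure.isIntegral_algebra A L
  haveI : Algebra.IsIntegral B' B := Algebra.IsIntegral.tower_top A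
  haveI : m'.IsMaximal := Ideal.isMaximal_comap_of_isIntegral_of_isMaximal m
  have hsmulA : ∀ (σ : L ≃ₐ[K] L) (a : A), σ • algebraMap A B a = algebraMap A B a := fun σ a => by
    apply hiB
    rw [hact, ← IsScalarTower.algebraMap_apply, IsScalarTower.algebraMap_apply A K L, σ.commutes]
  -- elements of `B'` moved by automorphisms outside inertia
  have hmove : ∀ σ : L ≃ₐ[K] L, σ ∉ I → ∃ b' : B', σ • algebraMap B' B b' - algebraMap B' B b' ∉ m := by
    intro σ hσ
    by_contra hcon
    push Not at hcon
    obtain ⟨x, hx⟩ : ∃ x : B, σ • x - x ∉ m := by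
      by_contra h; push Not at h; exact hσ fun x => h x
    let P : B[X] := ∏ τ : I, (X - C ((τ : L ≃ₐ[K] L) • x))
    have hP : ∀ ρ ∈ I, P.map (MulSemiringAction.toRingHom (L ≃ₐ[K] L) B ρ) = P := fun ρ hρ => by
      simp only [P, Polynomial.map_prod, Polynomial.map_sub, Polynomial.map_X, Polynomial.map_C,
        MulSemiringAction.toRingHom_apply, ← mul_smul]
      exact Fintype.prod_equiv (Equiv.mulLeft (⟨ρ, hρ⟩ : I)) _ _ fun τ => rfl
    have hc : P.map ((Ideal.Quotient.mk m).comp (MulSemiringAction.toRingHom (L ≃ₐ[K] L) B σ)) =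
        P.map (Ideal.Quotient.mk m) := by
      ext n
      rw [coeff_map, coeff_map, RingHom.comp_apply, Ideal.Quotient.eq]
      obtain ⟨b', hb'⟩ := (hrange (P.coeff n)).mp fun ρ hρ => by
        conv_rhs => rw [← hP ρ hρ]
        rw [coeff_map]
        rfl
      rw [← hb']
      exact hcon b'
    have h1 := congrArg (Polynomial.eval (Ideal.Quotient.mk m (σ • x))) hc
    rw [Polynomial.map_prod, eval_prod, Polynomial.map_prod, eval_prod, Finset.prod_eq_zero (Finset.mem_univ (1 : I))
      (by simp), eq_comm, Finset.prod_eq_zero_iff] at h1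
    obtain ⟨τ, -, hτ⟩ := h1
    simp only [Polynomial.map_sub, map_X, map_C, eval_sub, eval_X, eval_C, ← map_sub,
      Ideal.Quotient.eq_zero_iff_mem] at hτ
    exact hx (by simpa using m.add_mem hτ (τ.2 x))
  choose! β hβ using hmove
  let S : Finset (L ≃ₐ[K] L) := Finset.univ.filter fun σ => σ ∉ I
  let s : B ⊗[A] B' := ∏ σ ∈ S, ((1 : B) ⊗ₜ[A] β σ - (σ • algebraMap B' B (β σ)) ⊗ₜ[A] (1 : B'))
  have hsc : ∀ c : B', s * ((1 : B) ⊗ₜ[A] c - algebraMap B' B c ⊗ₜ[A] (1 : B')) = 0 := fun c => by
    refine HensEt88.eq_zero_of_forall_galEval (K := K) (L := L) hiB hiB' _ fun τ => ?_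
    rw [map_mul]
    by_cases hτ : τ ∈ I
    · refine mul_eq_zero_of_right _ ?_
      simp [HensEt88.galEval, hfix c τ hτ, ← IsScalarTower.algebraMap_apply B' B L]
    · refine mul_eq_zero_of_left ?_ _
      rw [map_prod]
      refine Finset.prod_eq_zero (Finset.mem_filter.mpr ⟨Finset.mem_univ τ, hτ⟩) ?_
      simp [HensEt88.galEval, hact, ← IsScalarTower.algebraMap_apply B' B L]
  let k := B ⧸ m
  letI : Field k := Ideal.Quotient.field m
  have hu : IsUnit (Algebra.TensorProduct.lift (IsScalarTower.toAlgHom A B k) (IsScalarTower.toAlgHom A B' k)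
      (fun _ _ => Commute.all _ _) s) := by
    rw [isUnit_iff_ne_zero, map_prod, Finset.prod_ne_zero_iff]
    intro σ hσ
    have h2 := hβ σ (Finset.mem_filter.mp hσ).2
    rw [map_sub, Algebra.TensorProduct.lift_tmul, Algebra.TensorProduct.lift_tmul, map_one, map_one, one_mul, mul_one,
      IsScalarTower.toAlgHom_apply, IsScalarTower.toAlgHom_apply]
    intro h
    apply h2
    rw [← neg_sub, neg_mem_iff, ← Ideal.Quotient.eq_zero_iff_mem, map_sub]
    exact h
  have hD : ∀ c : B', (1 : k) ⊗ₜ[B'] KaehlerDifferential.D A B' c = 0 := fun c =>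
    HensEt88.tmul_D_eq_zero_of_mul_eq_zero k s c (hsc c) hu
  -- the cotangent space at `m'` vanishes
  have hsub : Subsingleton (k ⊗[B'] Ω[B'⁄A]) := by
    refine ⟨fun x y => ?_⟩
    suffices h : ∀ z : k ⊗[B'] Ω[B'⁄A], z = 0 by rw [h x, h y]
    intro z
    induction z with
    | zero => rfl
    | add a b ha hb => rw [ha, hb, add_zero]
    | tmul a w =>
      have hw : w ∈ Submodule.span B' (Set.range (KaehlerDifferential.D A B')) := by
        rw [KaehlerDifferential.span_range_derivation]; trivial
      induction hw using Submodule.span_induction generalizing a with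
      | mem w hw =>
        obtain ⟨c, rfl⟩ := hw
        rw [← mul_one a, ← smul_eq_mul, ← TensorProduct.smul_tmul', hD, smul_zero]
      | zero => rw [TensorProduct.tmul_zero]
      | add w w' _ _ h h' => rw [TensorProduct.tmul_add, h, h', add_zero]
      | smul r w _ h => rw [← TensorProduct.smul_tmul]; exact h _
  haveI : m.LiesOver m' := ⟨rfl⟩
  letI : Field (B' ⧸ m') := Ideal.Quotient.field m'
  haveI : IsScalarTower B' (B' ⧸ m') k := .of_algebraMap_eq fun _ => rfl
  haveI : Subsingleton ((B' ⧸ m') ⊗[B'] Ω[B'⁄A]) := by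
    haveI := (TensorProduct.AlgebraTensorModule.cancelBaseChange B' (B' ⧸ m') k k Ω[B'⁄A]).subsingleton
    exact not_nontrivial_iff_subsingleton.mp fun h => by
      haveI := h
      exact false_of_nontrivial_of_subsingleton (k ⊗[B' ⧸ m'] ((B' ⧸ m') ⊗[B'] Ω[B'⁄A]))
  have htop : (⊤ : Submodule B' Ω[B'⁄A]) ≤ m' • ⊤ := by
    haveI := (TensorProduct.quotTensorEquivQuotSMul Ω[B'⁄A] m').symm.subsingleton
    exact (Submodule.Quotient.subsingleton_iff.mp ‹_›).ge
  obtain ⟨r, hr, hr0⟩ := Submodule.exists_sub_one_mem_and_smul_eq_zero_of_fg_of_le_smul m' ⊤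
    Module.Finite.fg_top htop
  have hrm : r ∉ m' := fun h => (Ideal.IsMaximal.ne_top ‹m'.IsMaximal›) ((Ideal.eq_top_iff_one _).mpr
    (by simpa using m'.sub_mem h hr))
  -- avoid the other maximal ideals
  let p : Ideal A := IsLocalRing.maximalIdeal A
  haveI : Module.IsTorsionFree A B' := Module.Free.instIsTorsionFree A B'
  have hfin : (p.primesOver B').Finite := IsDedekindDomain.primesOver_finite p B'
  obtain ⟨g₀, hg₀, hg₀m⟩ : ∃ g₀, (∀ P ∈ p.primesOver B', P ≠ m' → g₀ ∈ P) ∧ g₀ ∉ m' := by
    by_contra h
    push Not at h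
    have hle : ((hfin.toFinset.filter fun P => P ≠ m').inf id) ≤ m' := fun x hx => h x fun P hP hne =>
      (Finset.inf_le (Finset.mem_filter.mpr ⟨hfin.mem_toFinset.mpr hP, hne⟩) : _ ≤ P) hx
    obtain ⟨P, hP, hPle⟩ := (Ideal.IsPrime.inf_le' (inferInstance : m'.IsPrime)).mp hle
    obtain ⟨hP1, hne⟩ := Finset.mem_filter.mp hP
    obtain ⟨hPp, hPl⟩ := hfin.mem_toFinset.mp hP1
    haveI : p.IsMaximal := IsLocalRing.maximalIdeal.isMaximal A
    haveI := hPp
    haveI := hPl
    exact hne ((Ideal.IsMaximal.of_liesOver_isMaximal P p).eq_of_le (Ideal.IsPrime.ne_top inferInstance) hPle)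
  let g := g₀ * r
  have hgm : g ∉ m' := Ideal.IsPrime.mul_notMem inferInstance hg₀m hrm
  haveI : IsLocalization m'.primeCompl (Localization.Away g) := by
    refine IsLocalization.isLocalization_of_is_exists_mul_mem (Localization.Away g) (Submonoid.powers g) m'.primeCompl ?_ ?_
    · exact (Submonoid.powers_le (n := g) (P := m'.primeCompl)).mpr hgm
    · rintro ⟨u, hu⟩
      suffices h : g ∈ (Ideal.span {u}).radical by
        obtain ⟨n, hn⟩ := h
        obtain ⟨v, hv⟩ := Ideal.mem_span_singleton'.mp hn
        exact ⟨v, n, hv.symm⟩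
      rw [Ideal.radical_eq_sInf, Ideal.mem_sInf]
      rintro P ⟨hP, hPp⟩
      rw [Ideal.span_le, Set.singleton_subset_iff] at hP
      have hu0 : u ≠ 0 := fun h => hu (h ▸ zero_mem _)
      haveI := hPp
      haveI : P.IsMaximal := hPp.isMaximal fun h => hu0 (by simpa [h] using hP)
      haveI : P.LiesOver p := ⟨(IsLocalRing.eq_maximalIdeal (Ideal.isMaximal_comap_of_isIntegral_of_isMaximal P)).symm⟩
      refine P.mul_mem_right _ (hg₀ P ⟨hPp, inferInstance⟩ ?_)
      rintro rfl
      exact hu hP
  haveI : IsLocalization.Away g (Localization.AtPrime m') := IsLocalization.isLocalization_of_algEquiv (Submonoid.powers g)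
    (IsLocalization.algEquiv m'.primeCompl (Localization.Away g) (Localization.AtPrime m'))
  haveI : Algebra.FinitePresentation A B' := Algebra.FinitePresentation.of_finiteType.mp inferInstance
  haveI : Algebra.FinitePresentation B' (Localization.AtPrime m') := IsLocalization.Away.finitePresentation g
  haveI : Algebra.FinitePresentation A (Localization.AtPrime m') := Algebra.FinitePresentation.trans A B' _
  haveI : Module.Flat B' (Localization.AtPrime m') := IsLocalization.flat _ m'.primeCompl
  haveI : Module.Flat A (Localization.AtPrime m') := Module.Flat.trans A B' _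
  haveI : Algebra.FormallyUnramified A (Localization.AtPrime m') := by
    refine ⟨?_⟩
    haveI := KaehlerDifferential.isLocalizedModule_map (R := A) (S := B') (T := Localization.AtPrime m') m'.primeCompl
    refine ⟨fun a b => ?_⟩
    suffices h : ∀ z : Ω[Localization.AtPrime m'⁄A], z = 0 by rw [h a, h b]
    intro z
    obtain ⟨⟨w, t⟩, rfl⟩ := IsLocalizedModule.mk'_surjective m'.primeCompl (KaehlerDifferential.map A A B' (Localization.AtPrime m')) z
    refine (IsLocalizedModule.mk'_eq_zero' _ _).mpr ⟨⟨r, hrm⟩, ?_⟩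
    exact hr0 w trivial
  exact Algebra.Etale.of_formallyUnramified_of_flat

end Groth.Agent.S7139
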