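import Groth.Statements.S7141
import Groth.Agent.EtAlgMax.Basic

set_option autoImplicit false
set_option linter.style.haveILetI false
universe u
open EtAlg

namespace Groth.Agent.S7141

/-- Let K be a field and, for a K-algebra A, let B_max(A) be its largest weakly étale K-subalgebra. (2)
For a K-subalgebra A' ⊆ A one has B_max(A') = B_max(A) ∩ A'. (4) The quotient map A → A_red =
A/nilradical restricts to a bijection B_max(A) → B_max(A_red). (6) If A ≠ 0 and its only idempotents
are 0 and 1, then B_max(A) is a field, algebraic and separable over K. (The published statement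
omits A ≠ 0; this row assumes it, since for A = 0 the largest weakly étale subalgebra is the zero
ring.) -/
theorem result (K : Type u) [Field K] (A : Type u) [CommRing A] [Algebra K A] :
    (∀ A' : Subalgebra K A,
      (EtAlgD.maxWeaklyEtale K A').map A'.val = EtAlgD.maxWeaklyEtale K A ⊓ A') ∧
    (Set.BijOn (Ideal.Quotient.mkₐ K (nilradical A)) (EtAlgD.maxWeaklyEtale K A)
      (EtAlgD.maxWeaklyEtale K (A ⧸ nilradical A))) ∧
    ((∀ e : A, IsIdempotentElem e → e = 0 ∨ e = 1) → Nontrivial A →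
      IsField (EtAlgD.maxWeaklyEtale K A) ∧ Algebra.IsSeparable K (EtAlgD.maxWeaklyEtale K A)) := by
  haveI hM : ∀ (R : Type u) [CommRing R] [Algebra K R], Algebra.WeaklyEtale K (EtAlgD.maxWeaklyEtale K R) :=
    fun R _ _ => EtAlgMax.weaklyEtale_max K
  refine ⟨fun A' => le_antisymm ?_ ?_, ⟨fun x hx => ?_, fun x hx y hy h => ?_, fun y hy => ?_⟩, fun hid _ => ?_⟩
  · rintro _ ⟨x, hx, rfl⟩
    refine ⟨?_, x.2⟩
    haveI := EtAlgMax.weaklyEtale_range K (A'.val.comp (EtAlgD.maxWeaklyEtale K A').val)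
    exact EtAlgMax.le_max K this ⟨⟨x, hx⟩, rfl⟩
  · rintro x ⟨hx, hx'⟩
    let T : Subalgebra K (EtAlgD.maxWeaklyEtale K A) := A'.comap (EtAlgD.maxWeaklyEtale K A).val
    haveI := WEtLib.weaklyEtale_subalgebra (K := K) T
    let f : T →ₐ[K] A' := ((EtAlgD.maxWeaklyEtale K A).val.comp T.val).codRestrict A' fun z => z.2
    refine ⟨⟨x, hx'⟩, EtAlgMax.le_max K (EtAlgMax.weaklyEtale_range K f) ?_, rfl⟩
    exact ⟨⟨⟨x, hx⟩, hx'⟩, rfl⟩
  · exact EtAlgMax.le_max K (EtAlgMax.weaklyEtale_range K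
      ((Ideal.Quotient.mkₐ K (nilradical A)).comp (EtAlgD.maxWeaklyEtale K A).val)) ⟨⟨x, hx⟩, rfl⟩
  · have hn : IsNilpotent (x - y) := by
      rw [← mem_nilradical]
      exact Ideal.Quotient.eq.mp h
    haveI := WEtLib.isReduced_of_forall_exists
      (WEtLib.exists_mul_eq (K := K) (R := EtAlgD.maxWeaklyEtale K A))
    have : IsNilpotent ((⟨x, hx⟩ : EtAlgD.maxWeaklyEtale K A) - ⟨y, hy⟩) := by
      obtain ⟨n, hn⟩ := hn
      exact ⟨n, Subtype.ext hn⟩
    exact congrArg Subtype.val (sub_eq_zero.mp this.eq_zero)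
  · -- lift an element of the maximal weakly étale subalgebra of the reduction
    obtain ⟨x, rfl⟩ := Ideal.Quotient.mk_surjective y
    let B := EtAlgD.maxWeaklyEtale K (A ⧸ nilradical A)
    let S : Subalgebra K B := Algebra.adjoin K {⟨Ideal.Quotient.mk _ x, hy⟩}
    haveI : Algebra.Etale K S := WEtLib.etale_subalgebra_of_fg S ⟨{(⟨Ideal.Quotient.mk _ x, hy⟩ : B)}, by simp [S]⟩
    let A₀ : Subalgebra K A := Algebra.adjoin K {x}
    haveI : Algebra.FiniteType K A₀ :=
      A₀.fg_iff_finiteType.1 (by simpa using Subalgebra.fg_adjoin_finset ({x} : Finset A))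
    haveI : IsNoetherianRing A₀ := Algebra.FiniteType.isNoetherianRing K A₀
    let π : A₀ →ₐ[K] A ⧸ nilradical A := (Ideal.Quotient.mkₐ K (nilradical A)).comp A₀.val
    have hrange : π.range = S.map B.val := by
      rw [AlgHom.range_comp, Subalgebra.range_val, AlgHom.map_adjoin, AlgHom.map_adjoin]
      simp
    let π' : A₀ →ₐ[K] S.map B.val := π.codRestrict _ fun a => hrange.le ⟨a, rfl⟩
    have hπ' : Function.Surjective π' := by
      rintro ⟨z, hz⟩
      obtain ⟨a, rfl⟩ := hrange.ge hz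
      exact ⟨a, rfl⟩
    let e : S ≃ₐ[K] S.map B.val := S.equivMapOfInjective B.val Subtype.val_injective
    let J : Ideal A₀ := RingHom.ker π'
    have hJ : IsNilpotent J := by
      obtain ⟨n, hn⟩ := IsNoetherianRing.isNilpotent_nilradical A₀
      refine ⟨n, eq_bot_iff.2 (le_trans (Ideal.pow_right_mono ?_ n) hn.le)⟩
      intro a ha
      have : IsNilpotent (a : A) := mem_nilradical.mp (Ideal.Quotient.eq_zero_iff_mem.mp (congrArg Subtype.val ha))
      obtain ⟨m, hm⟩ := this
      exact mem_nilradical.mpr ⟨m, Subtype.ext hm⟩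
    haveI : Algebra.WeaklyEtale K S := WEtLib.weaklyEtale_subalgebra S
    let f : S →ₐ[K] A₀ := Algebra.FormallySmooth.liftOfSurjective e.toAlgHom π' hπ' hJ
    refine ⟨A₀.val (f ⟨⟨_, hy⟩, Algebra.subset_adjoin rfl⟩),
      EtAlgMax.le_max K (EtAlgMax.weaklyEtale_range K (A₀.val.comp f)) ⟨_, rfl⟩, ?_⟩
    exact congrArg Subtype.val (Algebra.FormallySmooth.liftOfSurjective_apply e.toAlgHom π' hπ' hJ ⟨⟨_, hy⟩, Algebra.subset_adjoin rfl⟩)
  · let B := EtAlgD.maxWeaklyEtale K A
    haveI : Nontrivial B := ⟨⟨0, 1, fun h => zero_ne_one (α := A) (congrArg Subtype.val h)⟩⟩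
    have hB : IsField B := WEtLib.isField_of_forall_exists (WEtLib.exists_mul_eq (K := K)) fun e he =>
      (hid (e : A) (congrArg Subtype.val he)).imp (fun h => Subtype.ext h) (fun h => Subtype.ext h)
    refine ⟨hB, ⟨fun b => ?_⟩⟩
    haveI := hB.isDomain
    have h := WEtLib.isSeparable_mk (K := K) (⊥ : Ideal B) b
    rw [IsSeparable] at h ⊢
    rwa [show Ideal.Quotient.mk (⊥ : Ideal B) b = Ideal.Quotient.mkₐ K ⊥ b from rfl,
      minpoly.algHom_eq (Ideal.Quotient.mkₐ K (⊥ : Ideal B)) (RingEquiv.quotientBot B).symm.injective] at h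

end Groth.Agent.S7141
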