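import Groth.Statements.S7143
import Groth.Agent.HensEt88.ProdValuation

set_option linter.style.haveILetI false
-- import your own Groth.Agent.* helpers here

set_option autoImplicit false
universe u
open CategoryTheory
open EtAlg

namespace Groth.Agent.S7143

/-- Every normal domain A with fraction field K is the fibre product V ×_L K for suitable rings V and L
with maps A → V, V → L, K → L (together with the given A → K), where every ideal of V is flat (weak
dimension at most one) and V → L is flat, injective and an epimorphism of rings. -/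
theorem result (A K : Type u) [CommRing A] [IsDomain A] [Field K] [Algebra A K]
    [IsFractionRing A K] [IsIntegrallyClosed A] :
    ∃ (V L : Type u) (_ : CommRing V) (_ : CommRing L) (f : A →+* V) (g : V →+* L) (h : K →+* L),
      g.comp f = h.comp (algebraMap A K) ∧
      (∀ I : Ideal V, Module.Flat V I) ∧ g.Flat ∧ Function.Injective g ∧ Epi (CommRingCat.ofHom g) ∧
      ∀ (v : V) (k : K), g v = h k → ∃! a : A, f a = v ∧ algebraMap A K a = k := by
  classical
  let ι := {V : ValuationSubring K // (algebraMap A K).range ≤ V.toSubring}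
  let g : (∀ i : ι, i.1) →+* (ι → K) := Pi.ringHom fun i => (i.1.subtype).comp (Pi.evalRingHom (fun i : ι => i.1) i)
  let f : A →+* (∀ i : ι, i.1) := Pi.ringHom fun i => (algebraMap A K).codRestrict i.1 fun a => i.2 ⟨a, rfl⟩
  let S : Submonoid (∀ i : ι, i.1) :=
    { carrier := {v | ∀ i, v i ≠ 0}
      mul_mem' := fun hx hy i => mul_ne_zero (hx i) (hy i)
      one_mem' := fun i => one_ne_zero }
  letI : Algebra (∀ i : ι, i.1) (ι → K) := g.toAlgebra
  have hginj : Function.Injective g := fun x y h => funext fun i => Subtype.ext (congrFun h i)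
  haveI : IsLocalization S (ι → K) :=
    { map_units := fun s => Pi.isUnit_iff.mpr fun i => isUnit_iff_ne_zero.mpr fun h => s.2 i (Subtype.ext h)
      surj := fun z => by
        have h : ∀ i : ι, ∃ a b : i.1, b ≠ 0 ∧ z i * (b : K) = a := fun i => by
          obtain ⟨⟨a, b⟩, h⟩ := IsLocalization.surj (nonZeroDivisors i.1) (z i)
          exact ⟨a, b, nonZeroDivisors.coe_ne_zero b, h⟩
        choose a b hb hab using h
        exact ⟨(a, ⟨b, hb⟩), funext hab⟩
      exists_of_eq := fun h => ⟨1, by rw [hginj h]⟩ }
  refine ⟨∀ i : ι, i.1, ι → K, inferInstance, inferInstance, f, g, Pi.constRingHom ι K,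
    RingHom.ext fun a => rfl, HensEt88.flat_ideal_pi, IsLocalization.flat (ι → K) S, hginj, ⟨fun φ ψ h => ?_⟩, fun v k h => ?_⟩
  · exact CommRingCat.hom_ext (IsLocalization.ringHom_ext S (congrArg CommRingCat.Hom.hom h))
  · haveI : IsIntegrallyClosedIn (algebraMap A K).range K := by
      refine Subring.isIntegrallyClosedIn_iff.mpr fun {x} hx => ?_
      letI : Algebra A (algebraMap A K).range := (algebraMap A K).rangeRestrict.toAlgebra
      haveI : IsScalarTower A (algebraMap A K).range K := .of_algebraMap_eq fun a => rfl
      haveI : Algebra.IsIntegral A (algebraMap A K).range :=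
        Algebra.IsIntegral.of_surjective (R := A) (Algebra.ofId A _) (algebraMap A K).rangeRestrict_surjective
      obtain ⟨a, rfl⟩ := IsIntegrallyClosed.isIntegral_iff.mp (isIntegral_trans (R := A) x hx)
      exact ⟨a, rfl⟩
    have hk : k ∈ (algebraMap A K).range := by
      rw [Subring.eq_iInf_of_isIntegrallyClosedIn (R := (algebraMap A K).range), Subring.mem_iInf]
      intro i
      rw [show k = ((v i : i.1) : K) from (congrFun h i).symm]
      exact (v i).2
    obtain ⟨a, ha⟩ := hk
    refine ⟨a, ⟨funext fun i => Subtype.ext (ha.trans (congrFun h i).symm), ha⟩, fun b hb => ?_⟩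
    exact IsFractionRing.injective A K (hb.2.trans ha.symm)

end Groth.Agent.S7143
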