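import Groth.Statements.S7150
import Groth.Agent.EGA41Lib.FieldFS
import Groth.Agent.CoeffField.Smooth

set_option autoImplicit false
set_option linter.style.haveILetI false
universe u

namespace Groth.Agent.S7150

open IsLocalRing in
/-- Suppose p is a prime with p·1 = 0 in the local ring A and some power of the maximal ideal of A is
zero. Then the residue map A → κ_A has a section σ : κ_A → A that is a ring map. If moreover A → A'
is a local homomorphism to another local ring whose maximal ideal has a vanishing power, and the
residue field extension κ_{A'}/κ_A is separable (possibly transcendental, i.e. geometrically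
reduced), then for any such σ there is a section σ' : κ_{A'} → A' compatible with σ. -/
theorem result (p : ℕ) (hp : p.Prime) (A : Type u) [CommRing A]
    [IsLocalRing A] [CharP A p] (hnil : ∃ n : ℕ, IsLocalRing.maximalIdeal A ^ n = ⊥) :
    (∃ σ : IsLocalRing.ResidueField A →+* A, (IsLocalRing.residue A).comp σ = RingHom.id _) ∧
    ∀ (A' : Type u) [CommRing A'] [IsLocalRing A'] [Algebra A A'] [IsLocalHom (algebraMap A A')],
      (∃ n : ℕ, IsLocalRing.maximalIdeal A' ^ n = ⊥) →
      Algebra.IsGeometricallyReduced (IsLocalRing.ResidueField A) (IsLocalRing.ResidueField A') →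
      ∀ σ : IsLocalRing.ResidueField A →+* A, (IsLocalRing.residue A).comp σ = RingHom.id _ →
        ∃ σ' : IsLocalRing.ResidueField A' →+* A', (IsLocalRing.residue A').comp σ' = RingHom.id _ ∧
          σ'.comp (IsLocalRing.ResidueField.map (algebraMap A A')) = (algebraMap A A').comp σ := by
  constructor
  · haveI : Fact p.Prime := ⟨hp⟩
    haveI hk : CharP (ResidueField A) p := (CharP.charP_iff_prime_eq_zero hp).mpr (by rw [← map_natCast (residue A), CharP.cast_eq_zero, map_zero])
    letI : Algebra (ZMod p) A := ZMod.algebra A p
    letI : Algebra (ZMod p) (ResidueField A) := ((residue A).comp (algebraMap (ZMod p) A)).toAlgebra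
    haveI := CoeffField.formallySmooth_of_perfectField (ZMod p) (ResidueField A)
    let g : A →ₐ[ZMod p] ResidueField A := AlgHom.mk (residue A) fun r => rfl
    have hker : IsNilpotent (RingHom.ker g.toRingHom) := by
      obtain ⟨n, hn⟩ := hnil
      exact ⟨n, by rw [show RingHom.ker g.toRingHom = maximalIdeal A from ker_residue, hn]; rfl⟩
    exact ⟨(Algebra.FormallySmooth.liftOfSurjective (AlgHom.id (ZMod p) (ResidueField A)) g residue_surjective hker).toRingHom,
      RingHom.ext fun x => Algebra.FormallySmooth.liftOfSurjective_apply
        (AlgHom.id (ZMod p) (ResidueField A)) g residue_surjective hker x⟩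
  · intro A' _ _ _ _ hnil' hgr σ hσ
    haveI := EGA41Lib.FieldFS.formallySmooth_of_isGeometricallyReduced (ResidueField A) (ResidueField A')
    letI : Algebra (ResidueField A) A' := ((algebraMap A A').comp σ).toAlgebra
    let g : A' →ₐ[ResidueField A] ResidueField A' := AlgHom.mk (residue A') fun x => by
      show residue A' (algebraMap A A' (σ x)) = algebraMap (ResidueField A) (ResidueField A') x
      conv_rhs => rw [show x = residue A (σ x) from (RingHom.congr_fun hσ x).symm]
      rfl
    have hker : IsNilpotent (RingHom.ker g.toRingHom) := by
      obtain ⟨n, hn⟩ := hnil'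
      exact ⟨n, by rw [show RingHom.ker g.toRingHom = maximalIdeal A' from ker_residue, hn]; rfl⟩
    let τ := Algebra.FormallySmooth.liftOfSurjective (AlgHom.id (ResidueField A) (ResidueField A')) g residue_surjective hker
    refine ⟨τ.toRingHom, RingHom.ext fun x => Algebra.FormallySmooth.liftOfSurjective_apply
        (AlgHom.id (ResidueField A) (ResidueField A')) g residue_surjective hker x, RingHom.ext fun x => ?_⟩
    exact τ.commutes x

end Groth.Agent.S7150
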