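import Groth.Statements.S7155
import Groth.Agent.HensEt88.ArtinSchreierLocal
import Groth.Agent.GalCohX.Hilbert90

set_option linter.style.haveILetI false

set_option autoImplicit false
universe u
open EtAlg

namespace Groth.Agent.S7155

/-- Let A → B → C be injective local homomorphisms of discrete valuation rings whose fields of fractions
are K ⊆ L ⊆ M, where A → B is weakly unramified, K has characteristic p, M/L is Galois of degree p,
and κ_A, inside κ_B, is exactly the set of elements admitting a pⁿ-th root for every n. Then some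
finite separable extension K₁/K that is totally ramified with respect to A is a weak solution for A
→ C. (The published statement asks for K₁/K Galois; this row asks only that K₁/K be separable, which
is what the printed construction provides.) -/
theorem result (p : ℕ) (hp : p.Prime) (A B C K L M : Type u)
    [CommRing A] [IsDomain A] [IsDiscreteValuationRing A] [CommRing B] [IsDomain B] [IsDiscreteValuationRing B]
    [CommRing C] [IsDomain C] [IsDiscreteValuationRing C]
    [Algebra A B] [Algebra B C] [Algebra A C] [IsScalarTower A B C]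
    (hAB : Function.Injective (algebraMap A B)) (hBC : Function.Injective (algebraMap B C))
    [IsLocalHom (algebraMap A B)] [IsLocalHom (algebraMap B C)]
    [Field K] [Field L] [Field M] [Algebra A K] [IsFractionRing A K] [Algebra B L] [IsFractionRing B L]
    [Algebra C M] [IsFractionRing C M] [Algebra K L] [Algebra L M] [Algebra K M] [IsScalarTower K L M]
    [Algebra A L] [IsScalarTower A K L] [IsScalarTower A B L] [Algebra B M] [IsScalarTower B L M] [IsScalarTower B C M]
    [Algebra A M] [IsScalarTower A K M] [IsScalarTower A C M]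
    (hw : EtRam.IsWeaklyUnramified A B) [CharP K p] [IsGalois L M] (hdeg : Module.finrank L M = p)
    (hk : ∀ x : IsLocalRing.ResidueField B, (∀ n : ℕ, ∃ y : IsLocalRing.ResidueField B, y ^ (p ^ n) = x) ↔
      x ∈ Set.range (algebraMap (IsLocalRing.ResidueField A) (IsLocalRing.ResidueField B))) :
    ∃ (K₁ : Type u) (_ : Field K₁) (_ : Algebra K K₁), FiniteDimensional K K₁ ∧ Algebra.IsSeparable K K₁ ∧
      EtRam.IsTotallyRamified A ((algebraMap K K₁).comp (algebraMap A K)) ∧ EtRam.IsWeakSolution C K M K₁ := by
  classical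
  haveI := Fact.mk hp
  haveI : FiniteDimensional L M := Module.finite_of_finrank_pos (hdeg ▸ hp.pos)
  haveI : CharP L p := charP_of_injective_algebraMap (algebraMap K L).injective p
  haveI : CharP M p := charP_of_injective_algebraMap (algebraMap L M).injective p
  haveI : CharP B p := (RingHom.charP_iff (algebraMap B L) (IsFractionRing.injective B L) p).mpr inferInstance
  haveI : CharP (IsLocalRing.ResidueField B) p := (CharP.charP_iff_prime_eq_zero hp).mpr (by
    rw [← map_natCast (IsLocalRing.residue B), CharP.cast_eq_zero, map_zero])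
  haveI : IsScalarTower A B M := IsScalarTower.of_algebraMap_eq fun a => by
    rw [IsScalarTower.algebraMap_apply A C M, IsScalarTower.algebraMap_apply A B C, ← IsScalarTower.algebraMap_apply B C M]
  obtain ⟨π, hπirr⟩ := IsDiscreteValuationRing.exists_irreducible A
  have hπ : IsLocalRing.maximalIdeal A = Ideal.span {π} := hπirr.maximalIdeal_eq
  have hπB : IsLocalRing.maximalIdeal B = Ideal.span {algebraMap A B π} := by
    rw [← hw, hπ, Ideal.map_span, Set.image_singleton]
  have hirrB : Irreducible (algebraMap A B π) := (IsDiscreteValuationRing.irreducible_iff_uniformizer _).mpr hπB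
  -- the residue field of `A` is perfect
  have hperf : ∀ c : IsLocalRing.ResidueField A, ∃ e, e ^ p = c := by
    intro c
    have h1 := (hk (algebraMap _ _ c)).mpr ⟨c, rfl⟩
    obtain ⟨y, hy⟩ := h1 1
    rw [pow_one] at hy
    obtain ⟨e, he⟩ := (hk y).mp fun n => by
      obtain ⟨y', hy'⟩ := h1 (n + 1)
      refine ⟨y', frobenius_inj (IsLocalRing.ResidueField B) p ?_⟩
      rw [frobenius_def, frobenius_def, hy, ← hy', ← pow_mul, ← pow_succ]
    exact ⟨e, (algebraMap (IsLocalRing.ResidueField A) (IsLocalRing.ResidueField B)).injective (by rw [map_pow, he, hy])⟩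
  -- an Artin-Schreier generator
  have hcard : Nat.card (M ≃ₐ[L] M) = p := (IsGalois.card_aut_eq_finrank L M).trans hdeg
  let χ : (M ≃ₐ[L] M) ≃* Multiplicative (ZMod p) := mulEquivOfPrimeCardEq hcard (by simp)
  obtain ⟨z, ⟨ξ, hξ⟩, hσ⟩ := GalCohX.exists_artinSchreier (K := L) (L := M) p (fun σ => Multiplicative.toAdd (χ σ))
    (fun σ τ => by rw [map_mul, toAdd_mul]) (IsLocallyConstant.of_discrete _)
  have hzgen : IntermediateField.adjoin L {z} = ⊤ := by
    haveI := IntermediateField.isSimpleOrder_of_finrank_prime L M (hdeg ▸ hp)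
    rcases IsSimpleOrder.eq_bot_or_eq_top (IntermediateField.adjoin L {z}) with h | h
    · exfalso
      have hz0 : z ∈ (⊥ : IntermediateField L M) := h ▸ IntermediateField.mem_adjoin_simple_self L z
      obtain ⟨l, hl⟩ := IntermediateField.mem_bot.mp hz0
      obtain ⟨σ, hσ0⟩ : ∃ σ, χ σ = Multiplicative.ofAdd 1 := χ.surjective _
      have h1 := hσ σ
      rw [← hl, AlgEquiv.commutes, sub_self, hσ0, toAdd_ofAdd, ZMod.val_one, Nat.cast_one] at h1
      exact zero_ne_one h1
    · exact h
  have hzalg : Algebra.adjoin L {z} = ⊤ := by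
    rw [← IntermediateField.adjoin_simple_toSubalgebra_of_isAlgebraic (Algebra.IsAlgebraic.isAlgebraic z), hzgen,
      IntermediateField.top_toSubalgebra]
  -- the normal form
  set P := algebraMap B L (algebraMap A B π) with hP
  have hP0 : P ≠ 0 := (map_ne_zero_iff _ (IsFractionRing.injective B L)).mpr hirrB.ne_zero
  obtain ⟨num, den, hden, hnd⟩ := IsFractionRing.div_surjective (A := B) ξ
  obtain ⟨n, uden, rfl⟩ := IsDiscreteValuationRing.eq_unit_mul_pow_irreducible (nonZeroDivisors.ne_zero hden) hirrB
  obtain ⟨α, T, r, s, d, b, hT, hnf⟩ := HensEt88.exists_normal_form (L := L) hp hπB hk n (num * ↑uden⁻¹)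
  have hξeq : ξ = algebraMap B L (num * ↑uden⁻¹) / P ^ n := by
    rw [← hnd, map_mul, map_mul, map_pow, map_units_inv, ← hP, div_mul_eq_div_div, div_eq_mul_inv (algebraMap B L num)]
  rw [← hP] at hnf
  rw [← hξeq] at hnf
  -- the criterion
  suffices key : ∃ (K₁ : Type u) (_ : Field K₁) (_ : Algebra K K₁) (x : K₁) (q : ℕ),
      FiniteDimensional K K₁ ∧ Algebra.IsSeparable K K₁ ∧
        EtRam.IsTotallyRamified A ((algebraMap K K₁).comp (algebraMap A K)) ∧ 0 < q ∧ Module.finrank K K₁ = q ∧
        (∀ (E : Type u) [Field E] (g : K₁ →+* E) (V : ValuationSubring E),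
          EtRam.Dominates A (g.comp ((algebraMap K K₁).comp (algebraMap A K))) V →
            V.valuation (g x) ^ q = V.valuation (g (algebraMap K K₁ (algebraMap A K π)))) ∧
        ∀ (E : Type u) [Field E] [Algebra K E] [Algebra L E] [Algebra K₁ E] [IsScalarTower K L E] [IsScalarTower K K₁ E]
          (V : ValuationSubring E), EtRam.Dominates B ((algebraMap L E).comp (algebraMap B L)) V →
            (∃ e : E, V.valuation (algebraMap L E ξ - (e ^ p - e)) ≤ 1) ∨
              ∃ (e : E) (N : ℕ) (s₀ : B), 0 < N ∧ p ∣ N ∧ (∀ t : B, IsLocalRing.residue B s₀ ≠ IsLocalRing.residue B t ^ p) ∧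
                V.valuation (algebraMap L E ξ - (e ^ p - e) - algebraMap L E (algebraMap B L s₀) * (algebraMap K₁ E x)⁻¹ ^ N) <
                  V.valuation (algebraMap K₁ E x)⁻¹ ^ N by
    obtain ⟨K₁, iF, iK, x, q, hfd, hsep, htot, hq, hfr, hval, hloc⟩ := key
    refine ⟨K₁, iF, iK, hfd, hsep, htot, ?_⟩
    have hspan : ∀ k : K₁, ∃ a : Fin q → K, ∑ i, algebraMap K K₁ (a i) * x ^ (i : ℕ) = k := fun k => by
      obtain ⟨V, hV⟩ := HensEt88.exists_dominates ((algebraMap K K₁).comp (algebraMap A K))
      exact HensEt88.exists_sum_eq hfr.le x (fun a h => HensEt88.eq_zero_of_sum_ramified (algebraMap K K₁) hV hπirr hq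
        (hval K₁ (RingHom.id K₁) V (by rwa [RingHom.id_comp])) a h) k
    intro F _ _ _ _ _ _ hgen W hW
    letI : Algebra L F := ((algebraMap M F).comp (algebraMap L M)).toAlgebra
    haveI : IsScalarTower L M F := IsScalarTower.of_algebraMap_eq fun _ => rfl
    haveI : IsScalarTower K L F := IsScalarTower.of_algebraMap_eq fun k => by
      rw [IsScalarTower.algebraMap_apply K M F, IsScalarTower.algebraMap_apply K L M]; rfl
    haveI : CharP F p := charP_of_injective_algebraMap (algebraMap L F).injective p
    let xF := algebraMap K₁ F x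
    have hroot : Polynomial.aeval xF ((minpoly K x).map (algebraMap K L)) = 0 := by
      rw [Polynomial.aeval_map_algebraMap, Polynomial.aeval_algebraMap_apply, minpoly.aeval, map_zero]
    have hint : IsIntegral L xF := ⟨_, (minpoly.monic (Algebra.IsIntegral.isIntegral x)).map _, by
      rw [← Polynomial.aeval_def]; exact hroot⟩
    let L' := IntermediateField.adjoin L {xF}
    haveI : FiniteDimensional L L' := IntermediateField.adjoin.finiteDimensional hint
    have hdL : Module.finrank L L' ≤ q := by
      rw [IntermediateField.adjoin.finrank hint, ← hfr]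
      refine (Polynomial.natDegree_le_of_dvd (minpoly.dvd L xF hroot)
        ((minpoly.monic (Algebra.IsIntegral.isIntegral x)).map _).ne_zero).trans ?_
      rw [(minpoly.monic (Algebra.IsIntegral.isIntegral x)).natDegree_map]
      exact minpoly.natDegree_le x
    have hrange : ∀ k : K₁, algebraMap K₁ F k ∈ L' := fun k => by
      obtain ⟨a, rfl⟩ := hspan k
      rw [map_sum]
      refine sum_mem fun i _ => ?_
      rw [map_mul, map_pow, ← IsScalarTower.algebraMap_apply K K₁ F, IsScalarTower.algebraMap_apply K L F]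
      exact mul_mem (L'.algebraMap_mem _) (pow_mem (IntermediateField.mem_adjoin_simple_self L xF) _)
    letI : Algebra K₁ L' := ((algebraMap K₁ F).codRestrict L'.toSubfield hrange).toAlgebra
    haveI : IsScalarTower K K₁ L' := IsScalarTower.of_algebraMap_eq fun k => Subtype.ext (by
      show ((algebraMap K L' k : L') : F) = algebraMap K₁ F (algebraMap K K₁ k)
      rw [← IsScalarTower.algebraMap_apply K K₁ F]
      rfl)
    have hgen' : IntermediateField.adjoin L' {algebraMap M F z} = ⊤ := by
      rw [eq_top_iff]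
      intro y hy
      clear hy
      have h1 : y ∈ Algebra.adjoin M (Set.range (algebraMap K₁ F)) := hgen ▸ Algebra.mem_top
      induction h1 using Algebra.adjoin_induction with
      | mem v hv =>
        obtain ⟨k, rfl⟩ := hv
        exact (IntermediateField.adjoin L' {algebraMap M F z}).algebraMap_mem (⟨_, hrange k⟩ : L')
      | algebraMap m =>
        have h2 : m ∈ Algebra.adjoin L {z} := hzalg ▸ Algebra.mem_top
        induction h2 using Algebra.adjoin_induction with
        | mem v hv =>
          rw [Set.mem_singleton_iff.mp hv]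
          exact IntermediateField.mem_adjoin_simple_self _ _
        | algebraMap l =>
          rw [← IsScalarTower.algebraMap_apply L M F, IsScalarTower.algebraMap_apply L L' F]
          exact IntermediateField.algebraMap_mem _ _
        | add a b _ _ ha hb => rw [map_add]; exact add_mem ha hb
        | mul a b _ _ ha hb => rw [map_mul]; exact mul_mem ha hb
      | add a b _ _ ha hb => exact add_mem ha hb
      | mul a b _ _ ha hb => exact mul_mem ha hb
    have hWB : EtRam.Dominates B ((algebraMap L F).comp (algebraMap B L)) W := by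
      have he : ∀ b : B, algebraMap L F (algebraMap B L b) = algebraMap M F (algebraMap C M (algebraMap B C b)) := fun b => by
        rw [IsScalarTower.algebraMap_apply L M F, ← IsScalarTower.algebraMap_apply B L M, ← IsScalarTower.algebraMap_apply B C M]
      exact ⟨fun b => by rw [RingHom.comp_apply, he]; exact hW.1 _,
        fun b hb => by rw [RingHom.comp_apply, he]; exact hW.2 _ (map_nonunit _ b hb)⟩
    let V := W.comap (algebraMap L' F)
    have hV : EtRam.Dominates B ((algebraMap L L').comp (algebraMap B L)) V :=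
      HensEt88.dominates_comap (algebraMap L' F) (by rw [← RingHom.comp_assoc, ← IsScalarTower.algebraMap_eq L L' F]) hWB
    have hKL : ∀ a : A, algebraMap K₁ L' (algebraMap K K₁ (algebraMap A K a)) = algebraMap L L' (algebraMap B L (algebraMap A B a)) :=
      fun a => by
        rw [← IsScalarTower.algebraMap_apply K K₁ L', IsScalarTower.algebraMap_apply K L L',
          ← IsScalarTower.algebraMap_apply A K L, ← IsScalarTower.algebraMap_apply A B L]
    have hx' := hval L' (algebraMap K₁ L') V ⟨fun a => by
        rw [RingHom.comp_apply, RingHom.comp_apply, hKL]; exact hV.1 _,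
      fun a ha => by rw [RingHom.comp_apply, RingHom.comp_apply, hKL]; exact hV.2 _ (map_nonunit _ a ha)⟩
    rw [hKL] at hx'
    haveI : CharP L' p := charP_of_injective_algebraMap (algebraMap L L').injective p
    have hvals := HensEt88.values_of_reduced hp W hV hirrB hq hx' hdL (algebraMap L L' ξ) (algebraMap M F z)
      (by rw [← map_pow, ← map_sub, ← hξ, ← IsScalarTower.algebraMap_apply, ← IsScalarTower.algebraMap_apply])
      hgen' (hloc L' V hV)
    refine HensEt88.isWeaklyUnramified_of_valuation _ fun y hy => ?_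
    obtain ⟨k, hk'⟩ := hvals y hy
    exact ⟨x ^ k, by rw [map_zpow₀, map_zpow₀, hk']; rfl⟩
  by_cases hTe : T.Nonempty
  · -- a deep totally ramified extension
    let R := (∑ m ∈ T, r m) + n + 1
    let q := p ^ R
    let N := 2 * n + 1
    have hπm : π ∈ IsLocalRing.maximalIdeal A := hπ ▸ Ideal.mem_span_singleton_self π
    have hπ0 : π ≠ 0 := hπirr.ne_zero
    have hq0 : 0 < q := pow_pos hp.pos R
    have hq1 : 1 < q := Nat.one_lt_pow (by omega) hp.one_lt
    obtain ⟨K₁, iF, iK, iA, iT, hd₁, hs₁, ht₁, x, hxi, hx⟩ := HensEt88.exists_eisenstein_extension K hπ hq0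
      (c := π ^ N) (Ideal.pow_mem_of_mem _ hπm N (Nat.succ_pos _)) (fun h => absurd h hq1.ne') (fun _ => pow_ne_zero _ hπ0)
    have hroot : ∀ (E : Type u) [Field E] (g : K₁ →+* E) (V : ValuationSubring E),
        EtRam.Dominates A (g.comp ((algebraMap K K₁).comp (algebraMap A K))) V →
          g x ^ q = g (algebraMap A K₁ π) - g (algebraMap A K₁ π) ^ N * g x ∧
            (V.valuation (g x) ^ q = V.valuation (g (algebraMap A K₁ π)) ∧ V.valuation (g x) < 1) := by
      intro E _ g V hV
      rw [← IsScalarTower.algebraMap_eq] at hV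
      have h1 : g x ^ q = g (algebraMap A K₁ π) - g (algebraMap A K₁ π) ^ N * g x := by
        rw [← map_pow g, hx, map_sub, map_mul, map_pow (algebraMap A K₁), map_pow]
      refine ⟨h1, HensEt88.valuation_root V hq1 h1 (hV.2 π hπm) ?_ ?_ ?_⟩
      · rw [map_pow]; exact pow_lt_one₀ zero_le (hV.2 π hπm) (Nat.succ_ne_zero _)
      · rw [map_pow, pow_succ]; exact mul_le_of_le_one_left' (pow_le_one₀ zero_le (hV.2 π hπm).le)
      · rw [IsScalarTower.algebraMap_apply A K K₁]
        exact (map_ne_zero g).mpr ((map_ne_zero _).mpr ((map_ne_zero_iff _ (IsFractionRing.injective A K)).mpr hπ0))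
    refine ⟨K₁, iF, iK, x, q, Module.finite_of_finrank_pos (hd₁ ▸ hq0), hs₁,
      by rw [← IsScalarTower.algebraMap_eq]; exact ht₁, hq0, hd₁,
      fun E _ g V hV => by rw [← IsScalarTower.algebraMap_apply]; exact (hroot E g V hV).2.1, ?_⟩
    intro E _ _ _ _ _ _ V hV
    right
    haveI : CharP E p := charP_of_injective_algebraMap (algebraMap L E).injective p
    let gA : A →+* E := (algebraMap L E).comp ((algebraMap B L).comp (algebraMap A B))
    have hgA : EtRam.Dominates A gA V := ⟨fun a => hV.1 _, fun a ha => hV.2 _ (map_nonunit _ a ha)⟩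
    have hAE : ∀ a : A, algebraMap K₁ E (algebraMap A K₁ a) = gA a := fun a => by
      rw [IsScalarTower.algebraMap_apply A K K₁, ← IsScalarTower.algebraMap_apply K K₁ E,
        IsScalarTower.algebraMap_apply K L E, ← IsScalarTower.algebraMap_apply A K L, IsScalarTower.algebraMap_apply A B L]
      rfl
    obtain ⟨heqE, hvE, hxlt⟩ := hroot E (algebraMap K₁ E) V ⟨fun a => by
        rw [RingHom.comp_apply, RingHom.comp_apply, ← IsScalarTower.algebraMap_apply A K K₁, hAE]; exact hgA.1 a,
      fun a ha => by rw [RingHom.comp_apply, RingHom.comp_apply, ← IsScalarTower.algebraMap_apply A K K₁, hAE]; exact hgA.2 a ha⟩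
    rw [hAE] at heqE hvE
    set xE := algebraMap K₁ E x with hxE
    have hPE : gA π = algebraMap L E P := rfl
    have hPE0 : gA π ≠ 0 := by rw [hPE]; exact (map_ne_zero (algebraMap L E)).mpr hP0
    have hvP0 : V.valuation (gA π) ≠ 0 := (map_ne_zero V.valuation).mpr hPE0
    have hxE0 : xE ≠ 0 := fun h => hvP0 (by rw [← hvE, h, map_zero, zero_pow hq0.ne'])
    have hy1 : 1 ≤ V.valuation xE⁻¹ := by
      rw [map_inv₀]; exact (one_le_inv₀ (zero_lt_iff.mpr ((map_ne_zero V.valuation).mpr hxE0))).mpr hxlt.le
    have hrle : ∀ m ∈ T, r m < R - n := fun m hm => by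
      have := Finset.single_le_sum (f := r) (fun _ _ => Nat.zero_le _) hm
      omega
    let Ex : ℕ → ℕ := fun m => p ^ (R - r m) * m
    have hEx : ∀ m ∈ T, p ∣ Ex m ∧ n < Ex m := fun m hm => by
      have h1 := hrle m hm
      refine ⟨dvd_mul_of_dvd_left (dvd_pow_self p (by omega)) _, lt_of_lt_of_le ?_ (Nat.le_mul_of_pos_right _ (hT m hm).1)⟩
      exact lt_of_lt_of_le (Nat.lt_pow_self hp.one_lt) (Nat.pow_le_pow_right hp.pos (by omega))
    have hinj : ∀ m ∈ T, ∀ m' ∈ T, Ex m = Ex m' → R - r m ≤ R - r m' → m = m' := by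
      intro m hm m' hm' he hle
      obtain ⟨i, hi⟩ := Nat.exists_eq_add_of_le hle
      simp only [Ex, hi, pow_add, mul_assoc] at he
      have h2 : m = p ^ i * m' := Nat.eq_of_mul_eq_mul_left (pow_pos hp.pos _) he
      rcases Nat.eq_zero_or_pos i with rfl | hipos
      · simpa using h2
      · have h3 := (hT m hm).2.2.1 (h2 ▸ dvd_mul_of_dvd_left (dvd_pow_self p hipos.ne') _)
        have := hrle m hm
        omega
    obtain ⟨m₀, hm₀, hmax⟩ := Finset.exists_max_image T Ex hTe
    let γ := V.valuation xE⁻¹ ^ (Ex m₀ - 1)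
    have hγ1 : (1 : V.ValueGroup) ≤ γ := one_le_pow₀ hy1
    have hγn : V.valuation xE⁻¹ ^ n ≤ γ := pow_le_pow_right₀ hy1 (by have := (hEx m₀ hm₀).2; omega)
    have hinv : ∀ m ≤ n, V.valuation ((gA π ^ m)⁻¹ - xE⁻¹ ^ (q * m)) ≤ 1 := fun m hm =>
      HensEt88.valuation_inv_pow_sub_le V (hgA.2 π hπm).le ((V.valuation_le_one_iff _).mp hxlt.le) hPE0 hvE heqE (by omega)
    -- the base part
    have hA : HensEt88.Red p V γ (gA α / gA π ^ n) := by
      have h1 : gA α / gA π ^ n = gA α * xE⁻¹ ^ (p ^ R * n) + gA α * ((gA π ^ n)⁻¹ - xE⁻¹ ^ (q * n)) := by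
        simp only [q]; ring
      rw [h1]
      refine ((HensEt88.red_base gA V hgA hπ hperf hxE0 hxlt.le hvE heqE (show n ≤ N by omega) n le_rfl R le_rfl α).mono hγn).add
        (HensEt88.Red.of_le (le_trans ?_ hγ1))
      rw [map_mul]
      exact mul_le_one' ((V.valuation_le_one_iff _).mpr (hgA.1 α)) (hinv n le_rfl)
    -- the other parts
    let sE : ℕ → E := fun m => algebraMap L E (algebraMap B L (s m))
    have hterm : ∀ m ∈ T, HensEt88.Red p V γ
        (sE m ^ (p ^ r m) / gA π ^ m - if m = m₀ then sE m₀ * xE⁻¹ ^ Ex m₀ else 0) := by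
      intro m hm
      have hq' : p ^ r m * Ex m = q * m := by
        simp only [Ex, q]
        rw [← mul_assoc, ← pow_add, Nat.add_sub_cancel' (by have := hrle m hm; omega)]
      have h1 : sE m ^ (p ^ r m) / gA π ^ m - (if m = m₀ then sE m₀ * xE⁻¹ ^ Ex m₀ else 0) =
          sE m ^ (p ^ r m) * ((gA π ^ m)⁻¹ - xE⁻¹ ^ (q * m)) +
            ((sE m * xE⁻¹ ^ Ex m) ^ (p ^ r m) - sE m * xE⁻¹ ^ Ex m) +
            (sE m * xE⁻¹ ^ Ex m - if m = m₀ then sE m₀ * xE⁻¹ ^ Ex m₀ else 0) := by
        rw [mul_pow, ← pow_mul, mul_comm (Ex m), hq']; ring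
      rw [h1]
      refine ((HensEt88.Red.of_le (le_trans ?_ hγ1)).add (HensEt88.Red.pow_pow_sub _ _)).add ?_
      · rw [map_mul, map_pow]
        exact mul_le_one' (pow_le_one₀ zero_le ((V.valuation_le_one_iff _).mpr (hV.1 _))) (hinv m (hT m hm).2.1)
      by_cases he : m = m₀
      · subst he; rw [if_pos rfl, sub_self]; exact HensEt88.Red.zero γ
      · rw [if_neg he, sub_zero]
        refine HensEt88.Red.of_le ?_
        rw [map_mul, map_pow]
        refine (mul_le_of_le_one_left' ((V.valuation_le_one_iff _).mpr (hV.1 _))).trans (pow_le_pow_right₀ hy1 ?_)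
        have hne : Ex m ≠ Ex m₀ := fun h => he <| (le_total (R - r m) (R - r m₀)).elim
          (hinj m hm m₀ hm₀ h) (fun hle => (hinj m₀ hm₀ m hm h.symm hle).symm)
        have := hmax m hm
        omega
    have htot : HensEt88.Red p V γ (algebraMap L E ξ - sE m₀ * xE⁻¹ ^ Ex m₀) := by
      have h1 : algebraMap L E ξ - sE m₀ * xE⁻¹ ^ Ex m₀ = gA α / gA π ^ n +
          (∑ m ∈ T, (sE m ^ (p ^ r m) / gA π ^ m - if m = m₀ then sE m₀ * xE⁻¹ ^ Ex m₀ else 0)) +
          (algebraMap L E d ^ p - algebraMap L E d) + algebraMap L E (algebraMap B L b) := by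
        rw [hnf, Finset.sum_sub_distrib, Finset.sum_ite_eq' T m₀, if_pos hm₀]
        simp only [map_add, map_sum, map_div₀, map_pow, map_sub, sE, gA, RingHom.comp_apply, ← hP]
        ring
      rw [h1]
      exact ((hA.add (HensEt88.Red.sum _ _ hterm)).add (HensEt88.Red.pow_sub _)).add
        (HensEt88.Red.of_le (le_trans ((V.valuation_le_one_iff _).mpr (hV.1 b)) hγ1))
    obtain ⟨e, he⟩ := htot
    refine ⟨e, Ex m₀, s m₀, (Nat.zero_le n).trans_lt (hEx m₀ hm₀).2, (hEx m₀ hm₀).1, (hT m₀ hm₀).2.2.2, ?_⟩
    rw [show algebraMap L E ξ - (e ^ p - e) - algebraMap L E (algebraMap B L (s m₀)) * xE⁻¹ ^ Ex m₀ =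
      algebraMap L E ξ - sE m₀ * xE⁻¹ ^ Ex m₀ - (e ^ p - e) by simp only [sE]; ring]
    refine he.trans_lt (pow_lt_pow_right₀ ?_ (Nat.sub_one_lt (by have := (hEx m₀ hm₀).2; omega)))
    rw [map_inv₀]
    exact (one_lt_inv₀ (zero_lt_iff.mpr ((map_ne_zero V.valuation).mpr hxE0))).mpr hxlt
  · -- at most a pole coming from the base
    rw [Finset.not_nonempty_iff_eq_empty] at hTe
    subst hTe
    rw [Finset.sum_empty, add_zero] at hnf
    obtain ⟨d₁, hd₁⟩ := HensEt88.exists_normal_form_base (K := K) hp hπ hperf n α
    have hKE : algebraMap K L (algebraMap A K α / algebraMap A K π ^ n) = algebraMap B L (algebraMap A B α) / P ^ n := by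
      rw [map_div₀, map_pow, ← IsScalarTower.algebraMap_apply A K L, ← IsScalarTower.algebraMap_apply A K L, hP,
        IsScalarTower.algebraMap_apply A B L, IsScalarTower.algebraMap_apply A B L]
    rcases hd₁ with ⟨a, ha⟩ | ⟨k, a, hk0, hpk, ha⟩
    · refine ⟨K, inferInstance, inferInstance, algebraMap A K π, 1, inferInstance, inferInstance, ?_, one_pos,
        Module.finrank_self K, fun E _ g V _ => by simp, ?_⟩
      · have hcomp : ((algebraMap K K).comp (algebraMap A K)) = algebraMap A K := RingHom.id_comp _
        rw [hcomp]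
        have hmem : ∀ (V : ValuationSubring K), EtRam.Dominates A (algebraMap A K) V → ∀ y ∈ V,
            ∃ a : A, algebraMap A K a = y := fun V hV y hy =>
          HensEt88.exists_of_map_mem (RingHom.id K) (by rwa [RingHom.id_comp]) (m := y) hy
        refine ⟨HensEt88.exists_dominates _, fun V V' hV hV' => ?_, fun V hV c => ?_⟩
        · ext y
          constructor
          · intro hy; obtain ⟨a, rfl⟩ := hmem V hV y hy; exact hV'.1 a
          · intro hy; obtain ⟨a, rfl⟩ := hmem V' hV' y hy; exact hV.1 a
        · obtain ⟨⟨y, hy⟩, rfl⟩ := IsLocalRing.residue_surjective c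
          obtain ⟨a, rfl⟩ := hmem V hV y hy
          exact ⟨a, rfl⟩
      intro E _ _ _ _ _ _ V hV
      left
      haveI : CharP E p := charP_of_injective_algebraMap (algebraMap L E).injective p
      refine ⟨algebraMap L E d + algebraMap L E (algebraMap K L d₁), ?_⟩
      have h1 : algebraMap L E ξ - ((algebraMap L E d + algebraMap L E (algebraMap K L d₁)) ^ p -
          (algebraMap L E d + algebraMap L E (algebraMap K L d₁))) =
          algebraMap L E (algebraMap B L (algebraMap A B a + b)) := by
        rw [hnf, ← hKE, sub_eq_iff_eq_add.mp ha, add_pow_char]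
        simp only [map_add, map_sub, map_pow, ← IsScalarTower.algebraMap_apply A B L, ← IsScalarTower.algebraMap_apply A K L]
        ring
      rw [h1]
      exact (V.valuation_le_one_iff _).mpr (hV.1 _)
    · -- adjoin a root over the base
      set θ := algebraMap A K α / algebraMap A K π ^ n - (d₁ ^ p - d₁) with hθ
      have hPK0 : algebraMap A K π ≠ 0 := (map_ne_zero_iff _ (IsFractionRing.injective A K)).mpr hπirr.ne_zero
      have hdθ : (Polynomial.X ^ p - Polynomial.X - Polynomial.C θ : Polynomial K).natDegree = p := by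
        rw [Polynomial.natDegree_sub_C, Polynomial.natDegree_sub_eq_left_of_natDegree_lt] <;> simp [hp.one_lt]
      obtain ⟨y, hy⟩ := IsAlgClosed.exists_aeval_eq_zero (AlgebraicClosure K)
        (Polynomial.X ^ p - Polynomial.X - Polynomial.C θ) (fun h => by
          have := Polynomial.natDegree_eq_zero_iff_degree_le_zero.mpr h.le
          rw [hdθ] at this
          exact hp.ne_zero this)
      let K₁ := IntermediateField.adjoin K {y}
      let yK : K₁ := IntermediateField.AdjoinSimple.gen K y
      have hyK : yK ^ p - yK = algebraMap K K₁ θ := by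
        apply Subtype.ext
        have := hy
        simp only [map_sub, map_pow, Polynomial.aeval_X, Polynomial.aeval_C, sub_eq_zero] at this
        exact this
      have htopK : IntermediateField.adjoin K {yK} = ⊤ := by
        apply (IntermediateField.map_injective K₁.val)
        rw [IntermediateField.adjoin_map, ← AlgHom.fieldRange_eq_map, IntermediateField.fieldRange_val, Set.image_singleton]
        rfl
      letI : Algebra A K₁ := ((algebraMap K K₁).comp (algebraMap A K)).toAlgebra
      haveI : IsScalarTower A K K₁ := IsScalarTower.of_algebraMap_eq fun _ => rfl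
      obtain ⟨hG, -, -, hcase3, -⟩ := S7158.result p hp A K K₁ π hπ θ yK hyK htopK
      obtain ⟨htr, hfr⟩ := hcase3 k a hk0 hpk ha
      obtain ⟨u, w, huw⟩ : ∃ u w : ℤ, (k : ℤ) * u + p * w = 1 := by
        have hc : Nat.Coprime k p := ((hp.coprime_iff_not_dvd).mpr hpk).symm
        exact ⟨_, _, by rw [← Int.gcd_eq_gcd_ab, Int.gcd_natCast_natCast, hc]; rfl⟩
      refine ⟨K₁, inferInstance, inferInstance, yK ^ (-u) * algebraMap K K₁ (algebraMap A K π) ^ w, p,
        Module.finite_of_finrank_pos (hfr ▸ hp.pos), inferInstance, htr, hp.pos, hfr, ?_, ?_⟩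
      · intro E _ g V hV
        set PE := g (algebraMap K K₁ (algebraMap A K π)) with hPEdef
        have hPE1 : V.valuation PE < 1 := hV.2 π (hπ ▸ Ideal.mem_span_singleton_self π)
        have hP0' : V.valuation PE ≠ 0 := (map_ne_zero V.valuation).mpr ((map_ne_zero g).mpr ((map_ne_zero _).mpr hPK0))
        have hθv : V.valuation (g (algebraMap K K₁ θ)) = V.valuation PE ^ (-(k : ℤ)) := by
          have h1 := congrArg (fun t => V.valuation (g (algebraMap K K₁ t))) ha
          simp only [map_mul, map_pow] at h1
          have h2 : V.valuation (g (algebraMap K K₁ (algebraMap A K (a : A)))) = 1 :=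
            HensEt88.valuation_map_unit (g.comp (algebraMap K K₁)) hV a
          rw [h2] at h1
          rw [zpow_neg, zpow_natCast]
          exact eq_inv_of_mul_eq_one_left h1
        have hbig : 1 < V.valuation (g (algebraMap K K₁ θ)) := by
          rw [hθv, zpow_neg, zpow_natCast]
          exact (one_lt_inv₀ (pow_pos (zero_lt_iff.mpr hP0') k)).mpr (pow_lt_one₀ zero_le hPE1 hk0.ne')
        have hyv : V.valuation (g yK) ^ p = V.valuation (g (algebraMap K K₁ θ)) := by
          rw [← hyK, map_sub g, map_pow g]
          rw [← hyK, map_sub g, map_pow g] at hbig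
          have h1 : 1 < V.valuation (g yK) := by
            by_contra hle
            rw [not_lt] at hle
            refine absurd hbig (not_lt.mpr ((V.valuation.map_sub _ _).trans (max_le ?_ hle)))
            rw [map_pow]; exact pow_le_one₀ zero_le hle
          rw [V.valuation.map_sub_eq_of_lt_left, map_pow]
          rw [map_pow]
          exact lt_self_pow₀ h1 hp.one_lt
        rw [map_mul, map_zpow₀, map_zpow₀, map_mul, map_zpow₀, map_zpow₀, mul_pow, ← zpow_natCast, ← zpow_mul,
          mul_comm (-u), zpow_mul, zpow_natCast, hyv, hθv, ← zpow_mul, ← zpow_natCast (V.valuation PE ^ w), ← zpow_mul,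
          ← zpow_add₀ hP0', show -(k : ℤ) * -u + w * (p : ℤ) = 1 by linear_combination huw, zpow_one]
      intro E _ _ _ _ _ _ V hV
      left
      haveI : CharP E p := charP_of_injective_algebraMap (algebraMap L E).injective p
      refine ⟨algebraMap L E d + algebraMap L E (algebraMap K L d₁) + algebraMap K₁ E yK, ?_⟩
      have hyE : algebraMap K₁ E yK ^ p - algebraMap K₁ E yK = algebraMap L E (algebraMap K L θ) := by
        rw [← map_pow, ← map_sub, hyK, ← IsScalarTower.algebraMap_apply, IsScalarTower.algebraMap_apply K L E]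
      have h1 : algebraMap L E ξ - ((algebraMap L E d + algebraMap L E (algebraMap K L d₁) + algebraMap K₁ E yK) ^ p -
          (algebraMap L E d + algebraMap L E (algebraMap K L d₁) + algebraMap K₁ E yK)) =
          algebraMap L E (algebraMap B L b) := by
        have hθ' : algebraMap K L (algebraMap A K α / algebraMap A K π ^ n) =
            algebraMap K L θ + (algebraMap K L d₁ ^ p - algebraMap K L d₁) := by
          rw [hθ, map_sub (algebraMap K L), map_sub (algebraMap K L) (d₁ ^ p), map_pow (algebraMap K L) d₁ p]; ring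
        rw [hnf, ← hKE, hθ', add_pow_char, add_pow_char]
        simp only [map_add, map_sub, map_pow]
        rw [← hyE]
        ring
      rw [h1]
      exact (V.valuation_le_one_iff _).mpr (hV.1 _)

end Groth.Agent.S7155
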