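import Groth.Statements.S7156
import Groth.Agent.HensEt88.InsepTrichotomy

set_option linter.style.haveILetI false

set_option autoImplicit false
universe u
open EtAlg

namespace Groth.Agent.S7156

open TensorProduct in
/-- Let A → B → C be injective local homomorphisms of discrete valuation rings whose fields of fractions
are K ⊆ L ⊆ M, and let π be a uniformizer of A; suppose B is a Nagata ring, A → B is weakly
unramified, and M/L is purely inseparable of prime degree p. Then one of the following holds: the
extension A → C is itself weakly unramified; or else C = B[π^(1/p)]; or else there is a separable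
degree-p extension K₁/K, totally ramified with respect to A, for which L ⊗_K K₁ and M ⊗_K K₁ are
fields and the integral closures A₁ → B₁ → C₁ are weakly unramified extensions, i.e. K₁ is a weak
solution for A ⊆ B and for A ⊆ C. -/
theorem result (p : ℕ) (hp : p.Prime) (A B C K L M : Type u)
    [CommRing A] [IsDomain A] [IsDiscreteValuationRing A] [CommRing B] [IsDomain B] [IsDiscreteValuationRing B]
    [CommRing C] [IsDomain C] [IsDiscreteValuationRing C]
    [Algebra A B] [Algebra B C] [Algebra A C] [IsScalarTower A B C]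
    (hAB : Function.Injective (algebraMap A B)) (hBC : Function.Injective (algebraMap B C))
    [IsLocalHom (algebraMap A B)] [IsLocalHom (algebraMap B C)]
    [Field K] [Field L] [Field M] [Algebra A K] [IsFractionRing A K] [Algebra B L] [IsFractionRing B L]
    [Algebra C M] [IsFractionRing C M] [Algebra K L] [Algebra L M] [Algebra K M] [IsScalarTower K L M]
    [Algebra A L] [IsScalarTower A K L] [IsScalarTower A B L] [Algebra B M] [IsScalarTower B L M] [IsScalarTower B C M]
    [Algebra A M] [IsScalarTower A K M] [IsScalarTower A C M]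
    (π : A) (hπ : IsLocalRing.maximalIdeal A = Ideal.span {π}) (hB : CAlg.IsNagata B)
    (hw : EtRam.IsWeaklyUnramified A B) [IsPurelyInseparable L M] (hdeg : Module.finrank L M = p) :
    EtRam.IsWeaklyUnramified A C ∨
      (∃ c : C, c ^ p = algebraMap A C π ∧ Algebra.adjoin B {c} = ⊤) ∨
      ∃ (K₁ : Type u) (_ : Field K₁) (_ : Algebra K K₁),
        Module.finrank K K₁ = p ∧ Algebra.IsSeparable K K₁ ∧
          EtRam.IsTotallyRamified A ((algebraMap K K₁).comp (algebraMap A K)) ∧
          IsField (L ⊗[K] K₁) ∧ IsField (M ⊗[K] K₁) ∧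
          EtRam.IsWeakSolution B K L K₁ ∧ EtRam.IsWeakSolution C K M K₁ := by
  classical
  haveI : IsScalarTower A B M := IsScalarTower.of_algebraMap_eq fun a => by
    rw [IsScalarTower.algebraMap_apply A C M, IsScalarTower.algebraMap_apply A B C, ← IsScalarTower.algebraMap_apply B C M]
  obtain ⟨hcharL, hpow⟩ := HensEt88.charP_and_pow_mem L M hp hdeg
  haveI := Fact.mk hp
  haveI := hcharL
  haveI : FiniteDimensional L M := Module.finite_of_finrank_pos (hdeg ▸ hp.pos)
  haveI : CharP K p := (algebraMap K L).charP_iff (algebraMap K L).injective p |>.mpr hcharL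
  haveI : CharP M p := charP_of_injective_algebraMap (algebraMap L M).injective p
  have hπ0 : π ≠ 0 := fun h => IsDiscreteValuationRing.not_a_field A (by rw [hπ, h, Ideal.span_singleton_eq_bot])
  let πB : B := algebraMap A B π
  have hπB : IsLocalRing.maximalIdeal B = Ideal.span {πB} := by
    rw [← hw, hπ, Ideal.map_span, Set.image_singleton]
  have hirrB : Irreducible πB := (IsDiscreteValuationRing.irreducible_iff_uniformizer πB).mpr hπB
  -- the uniformizer of `C` and its `p`-th power
  obtain ⟨c, hcirr⟩ := IsDiscreteValuationRing.exists_irreducible C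
  obtain ⟨W₀, hW₀⟩ := HensEt88.exists_dominates (algebraMap C M)
  have hW₀B : EtRam.Dominates B ((algebraMap L M).comp (algebraMap B L)) W₀ := by
    rw [← IsScalarTower.algebraMap_eq, IsScalarTower.algebraMap_eq B C M]
    exact ⟨fun b => hW₀.1 _, fun b hb => hW₀.2 _ (map_nonunit _ b hb)⟩
  obtain ⟨l, hl⟩ := hpow (algebraMap C M c)
  obtain ⟨b, hb⟩ := HensEt88.exists_of_map_mem (algebraMap L M) hW₀B (m := l) (hl ▸ pow_mem (hW₀.1 c) p)
  have hcb : algebraMap B C b = c ^ p := IsFractionRing.injective C M (by
    rw [← IsScalarTower.algebraMap_apply, IsScalarTower.algebraMap_apply B L M, hb, hl, map_pow])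
  have hb0 : b ≠ 0 := fun h => pow_ne_zero p hcirr.ne_zero (by rw [← hcb, h, map_zero])
  obtain ⟨k, u, rfl⟩ := IsDiscreteValuationRing.eq_unit_mul_pow_irreducible hb0 hirrB
  obtain ⟨e, v, hev⟩ := IsDiscreteValuationRing.eq_unit_mul_pow_irreducible
    (show algebraMap B C πB ≠ 0 from (map_ne_zero_iff _ hBC).mpr hirrB.ne_zero) hcirr
  have hek : e * k = p := by
    have h1 : (↑((Units.map (algebraMap B C : B →* C) u) * v ^ k) : C) * c ^ (e * k) = ((1 : Cˣ) : C) * c ^ p := by
      rw [Units.val_one, one_mul, ← hcb, map_mul, map_pow, hev, mul_pow, ← pow_mul, Units.val_mul, Units.val_pow_eq_pow_val,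
        Units.coe_map, MonoidHom.coe_coe]
      ring
    exact (IsDiscreteValuationRing.unit_mul_pow_congr_pow hcirr hcirr _ _ _ _ h1)
  rcases (Nat.dvd_prime hp).mp ⟨k, hek.symm⟩ with rfl | rfl
  · left
    show Ideal.map (algebraMap A C) _ = _
    rw [hπ, Ideal.map_span, Set.image_singleton, IsScalarTower.algebraMap_apply A B C, hev, pow_one,
      Ideal.span_singleton_mul_left_unit v.isUnit, ← hcirr.maximalIdeal_eq]
  obtain rfl : k = 1 := Nat.eq_of_mul_eq_mul_left hp.pos (hek.trans (mul_one _).symm)
  -- now `c ^ p = u * π`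
  right
  let uC : Cˣ := Units.map (algebraMap B C : B →* C) u
  have hc : c ^ e = (uC : C) * algebraMap B C πB := by rw [← hcb, pow_one, map_mul]; rfl
  by_cases hroot : ∃ m : M, m ^ e = algebraMap B M πB
  · left
    obtain ⟨m, hm⟩ := hroot
    have hmW : m ∈ W₀ := by
      rw [← W₀.valuation_le_one_iff]
      refine (pow_le_one_iff hp.ne_zero).mp ?_
      rw [← map_pow, hm, W₀.valuation_le_one_iff, IsScalarTower.algebraMap_apply B C M]
      exact hW₀.1 _
    obtain ⟨c', hc'⟩ := HensEt88.exists_of_map_mem (RingHom.id M) (by rw [RingHom.id_comp]; exact hW₀) (m := m) hmW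
    have hc'' : c' ^ e = ((1 : Cˣ) : C) * algebraMap B C πB := IsFractionRing.injective C M (by
      rw [Units.val_one, one_mul, map_pow, hc', hm, IsScalarTower.algebraMap_apply B C M])
    refine ⟨c', ?_, (HensEt88.decompose_of_root hp hdeg hirrB c' 1 hc'').1⟩
    rw [hc'', Units.val_one, one_mul, ← IsScalarTower.algebraMap_apply]
  right
  push Not at hroot
  obtain ⟨w, m, hwm, hres⟩ := HensEt88.exists_residue_witness hp hdeg hpow hB hπB c uC hc hroot
  -- bound the denominators
  have hden : ∀ i, ∃ N : ℕ, ∀ N' ≥ N, ∃ a : C, algebraMap C M a = m i * algebraMap C M c ^ N' := fun i => by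
    obtain ⟨a, b, hbn, hab⟩ := IsFractionRing.div_surjective (A := C) (m i)
    obtain ⟨j, v', rfl⟩ := IsDiscreteValuationRing.eq_unit_mul_pow_irreducible (nonZeroDivisors.ne_zero hbn) hcirr
    refine ⟨j, fun N' hN' => ⟨a * ↑v'⁻¹ * c ^ (N' - j), ?_⟩⟩
    have hv : algebraMap C M ↑v'⁻¹ * algebraMap C M ↑v' = 1 := by rw [← map_mul, Units.inv_mul, map_one]
    have hc0 : algebraMap C M c ≠ 0 := (map_ne_zero_iff _ (IsFractionRing.injective C M)).mpr hcirr.ne_zero
    rw [← hab, map_mul, map_mul, map_mul, map_pow, map_pow, div_mul_eq_mul_div, eq_div_iff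
      (mul_ne_zero (right_ne_zero_of_mul_eq_one hv) (pow_ne_zero _ hc0))]
    calc _ = algebraMap C M a * (algebraMap C M ↑v'⁻¹ * algebraMap C M ↑v') *
          (algebraMap C M c ^ (N' - j) * algebraMap C M c ^ j) := by ring
      _ = _ := by rw [hv, ← pow_add, Nat.sub_add_cancel hN', mul_one]
  choose Ni hNi using hden
  let N := ∑ i, Ni i
  let n := N + 1
  have hbound : ∀ i, ∃ a ∈ IsLocalRing.maximalIdeal C,
      algebraMap C M a = m i ^ e * algebraMap A M π ^ n := fun i => by
    obtain ⟨a, ha⟩ := hNi i N (Finset.single_le_sum (fun _ _ => Nat.zero_le _) (Finset.mem_univ i))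
    refine ⟨a ^ e * ↑(uC⁻¹ ^ N) * algebraMap B C πB, Ideal.mul_mem_left _ _ (map_nonunit _ _ hirrB.not_isUnit), ?_⟩
    have hcM : (algebraMap C M c ^ N) ^ e = algebraMap C M (uC ^ N : Cˣ) * algebraMap A M π ^ N := by
      rw [← pow_mul, mul_comm, pow_mul, ← map_pow, hc, map_mul, mul_pow, Units.val_pow_eq_pow_val, map_pow,
        ← IsScalarTower.algebraMap_apply B C M, ← IsScalarTower.algebraMap_apply A B M]
    have hu : algebraMap C M (uC ^ N : Cˣ) * algebraMap C M ↑(uC⁻¹ ^ N) = 1 := by
      rw [← map_mul, ← Units.val_mul, ← mul_pow, mul_inv_cancel, one_pow, Units.val_one, map_one]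
    rw [map_mul, map_mul, map_pow, ha, mul_pow, hcM, pow_succ, ← IsScalarTower.algebraMap_apply B C M,
      ← IsScalarTower.algebraMap_apply A B M]
    linear_combination (m i ^ e * algebraMap A M π ^ N * algebraMap A M π) * hu
  -- the extension
  have hπm : π ∈ IsLocalRing.maximalIdeal A := hπ ▸ Ideal.mem_span_singleton_self π
  obtain ⟨K₁, iF, iK, iA, iT, hd₁, hs₁, ht₁, x, hxi, hx⟩ := HensEt88.exists_eisenstein_extension K hπ (q := e) hp.pos
    (c := π ^ n) (Ideal.pow_mem_of_mem _ hπm n (Nat.succ_pos _)) (fun h => absurd h hp.one_lt.ne')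
    (fun _ => pow_ne_zero _ hπ0)
  haveI : FiniteDimensional K K₁ := Module.finite_of_finrank_pos (hd₁ ▸ hp.pos)
  have hvalA : ∀ {F : Type u} [Field F] (W : ValuationSubring F) (g : A →+* F), Function.Injective g →
      EtRam.Dominates A g W → ∀ y : F, y ^ e = g π - g (π ^ n) * y →
        W.valuation y ^ e = W.valuation (g π) ∧ W.valuation y < 1 := by
    intro F _ W g hg hW y hy
    refine HensEt88.valuation_root W hp.one_lt hy (hW.2 π hπm) (hW.2 _ (Ideal.pow_mem_of_mem _ hπm n (Nat.succ_pos _))) ?_
      ((map_ne_zero_iff g hg).mpr hπ0)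
    rw [map_pow, map_pow, pow_succ]
    exact mul_le_of_le_one_left' (pow_le_one₀ zero_le (hW.2 π hπm).le)
  have hgenK : Algebra.adjoin K {x} = ⊤ := by
    have hint : IsIntegral K x := Algebra.IsIntegral.isIntegral x
    rw [← IntermediateField.adjoin_simple_toSubalgebra_of_isAlgebraic hint.isAlgebraic, ← IntermediateField.top_toSubalgebra]
    congr 1
    rcases (Nat.dvd_prime hp).mp (show Module.finrank K (IntermediateField.adjoin K {x}) ∣ e from
      ⟨_, (hd₁.symm.trans (Module.finrank_mul_finrank K (IntermediateField.adjoin K {x}) K₁).symm)⟩) with h | h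
    · exfalso
      have h1 : x ∈ (⊥ : IntermediateField K K₁) :=
        IntermediateField.finrank_eq_one_iff.mp h ▸ IntermediateField.mem_adjoin_simple_self K x
      obtain ⟨x₀, rfl⟩ := IntermediateField.mem_bot.mp h1
      obtain ⟨W, hW⟩ := HensEt88.exists_dominates (algebraMap A K₁)
      have hinj : Function.Injective (algebraMap A K₁) := by
        rw [IsScalarTower.algebraMap_eq A K K₁]
        exact (algebraMap K K₁).injective.comp (IsFractionRing.injective A K)
      obtain ⟨hv1, hv2⟩ := hvalA W _ hinj hW _ hx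
      have hW' : EtRam.Dominates A ((algebraMap K K₁).comp (algebraMap A K)) W := by
        rwa [← IsScalarTower.algebraMap_eq]
      have hirrA : Irreducible π := (IsDiscreteValuationRing.irreducible_iff_uniformizer π).mpr hπ
      have hne : W.valuation (algebraMap A K₁ π) ≠ 0 :=
        (_root_.map_ne_zero W.valuation).mpr ((map_ne_zero_iff _ hinj).mpr hπ0)
      have hx₀ : x₀ ≠ 0 := fun h => hne (by rw [← hv1, h, map_zero, map_zero, zero_pow hp.ne_zero])
      obtain ⟨j, hj⟩ := HensEt88.valuation_map_eq_zpow (algebraMap K K₁) hW' hirrA hx₀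
      rw [hj, ← IsScalarTower.algebraMap_apply A K K₁, ← zpow_natCast, ← zpow_mul] at hv1
      have h3 : j * (e : ℤ) = 1 := zpow_right_injective₀ (zero_lt_iff.mpr hne) (hW.2 π hπm).ne
        (hv1.trans (zpow_one _).symm)
      exact hp.one_lt.ne' (by exact_mod_cast Int.eq_one_of_mul_eq_one_left (Int.natCast_nonneg e) h3)
    · exact IntermediateField.eq_of_le_of_finrank_eq le_top (by rw [h, IntermediateField.finrank_top', hd₁])
  -- local computations over `L` and over `M`
  have hLloc : ∀ (F : Type u) [Field F] [Algebra K F] [Algebra L F] [Algebra K₁ F] [IsScalarTower K L F]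
      [IsScalarTower K K₁ F], Algebra.adjoin L (Set.range (algebraMap K₁ F)) = ⊤ →
      ∀ (W : ValuationSubring F), EtRam.Dominates B ((algebraMap L F).comp (algebraMap B L)) W →
        e ≤ Module.finrank L F ∧ ∀ y : F, y ≠ 0 → ∃ z : K₁, W.valuation (algebraMap K₁ F z) = W.valuation y := by
    intro F _ _ _ _ _ _ hgen W hW
    have hA : ∀ a : A, algebraMap K₁ F (algebraMap A K₁ a) = algebraMap L F (algebraMap B L (algebraMap A B a)) := fun a => by
      rw [IsScalarTower.algebraMap_apply A K K₁, ← IsScalarTower.algebraMap_apply K K₁ F, IsScalarTower.algebraMap_apply K L F,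
        ← IsScalarTower.algebraMap_apply A B L, ← IsScalarTower.algebraMap_apply A K L]
    have hxF : algebraMap K₁ F x ^ e = algebraMap L F (algebraMap B L πB) -
        algebraMap L F (algebraMap B L (algebraMap A B (π ^ n))) * algebraMap K₁ F x := by
      rw [← map_pow (algebraMap K₁ F), hx, map_sub, map_mul, hA, hA]
    let gA : A →+* F := (algebraMap L F).comp ((algebraMap B L).comp (algebraMap A B))
    have hgA : Function.Injective gA := (algebraMap L F).injective.comp ((IsFractionRing.injective B L).comp hAB)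
    obtain ⟨hv, -⟩ := hvalA W gA hgA ⟨fun a => hW.1 _, fun a ha => hW.2 _ (map_nonunit _ a ha)⟩ _ hxF
    obtain ⟨hfd, hle⟩ := HensEt88.finrank_le_of_root hp.one_lt hxF (HensEt88.adjoin_image_of_generator hgenK hgen)
    have hind := fun a h => HensEt88.eq_zero_of_sum_ramified (algebraMap L F) hW hirrB hp.pos hv a h
    refine ⟨HensEt88.le_finrank_of_independent _ hind, fun y hy => ?_⟩
    obtain ⟨a, rfl⟩ := HensEt88.exists_sum_eq hle _ hind y
    obtain ⟨j, hj, -⟩ := HensEt88.valuation_sum_ramified (algebraMap L F) hW hirrB hp.pos hv a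
    have haj : a j ≠ 0 := fun h => hy ((W.valuation.zero_iff).mp (by rw [hj, h, map_zero, zero_mul, map_zero]))
    obtain ⟨i, hi⟩ := HensEt88.valuation_map_eq_zpow (algebraMap L F) hW hirrB haj
    refine ⟨algebraMap A K₁ π ^ i * x ^ (j : ℕ), ?_⟩
    rw [hj, map_mul, map_mul, map_mul, map_zpow₀, map_zpow₀, map_pow, hA, hi]
  have hMloc : ∀ (F : Type u) [Field F] [Algebra K F] [Algebra M F] [Algebra K₁ F] [IsScalarTower K M F]
      [IsScalarTower K K₁ F], Algebra.adjoin M (Set.range (algebraMap K₁ F)) = ⊤ →
      ∀ (W : ValuationSubring F), EtRam.Dominates C ((algebraMap M F).comp (algebraMap C M)) W →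
        e ≤ Module.finrank M F ∧ ∀ y : F, y ≠ 0 → ∃ z : K₁, W.valuation (algebraMap K₁ F z) = W.valuation y := by
    intro F _ _ _ _ _ _ hgen W hW
    haveI : CharP F e := charP_of_injective_algebraMap (algebraMap M F).injective e
    have hA : ∀ a : A, algebraMap K₁ F (algebraMap A K₁ a) = algebraMap M F (algebraMap A M a) := fun a => by
      rw [IsScalarTower.algebraMap_apply A K K₁, ← IsScalarTower.algebraMap_apply K K₁ F, IsScalarTower.algebraMap_apply K M F,
        ← IsScalarTower.algebraMap_apply A K M]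
    set xF := algebraMap K₁ F x with hxFdef
    have hxF : xF ^ e = algebraMap M F (algebraMap A M π) - algebraMap M F (algebraMap A M (π ^ n)) * xF := by
      rw [hxFdef, ← map_pow (algebraMap K₁ F), hx, map_sub, map_mul, hA, hA]
    let gA : A →+* F := (algebraMap M F).comp (algebraMap A M)
    have hgA : Function.Injective gA := by
      refine (algebraMap M F).injective.comp ?_
      rw [IsScalarTower.algebraMap_eq A C M]
      exact (IsFractionRing.injective C M).comp (by rw [IsScalarTower.algebraMap_eq A B C]; exact hBC.comp hAB)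
    have hWA : EtRam.Dominates A gA W := by
      refine ⟨fun a => ?_, fun a ha => ?_⟩
      · have := hW.1 (algebraMap A C a)
        rwa [RingHom.comp_apply, ← IsScalarTower.algebraMap_apply A C M] at this
      · have := hW.2 (algebraMap A C a) (by
          rw [IsScalarTower.algebraMap_apply A B C]; exact map_nonunit _ _ (map_nonunit _ a ha))
        rwa [RingHom.comp_apply, ← IsScalarTower.algebraMap_apply A C M] at this
    obtain ⟨hv, hv1⟩ := hvalA W gA hgA hWA _ hxF
    obtain ⟨hfd, hle⟩ := HensEt88.finrank_le_of_root hp.one_lt hxF (HensEt88.adjoin_image_of_generator hgenK hgen)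
    have hxW : xF ∈ W := (W.valuation_le_one_iff _).mp hv1.le
    -- the element with new residue
    let z : F := ∑ i, algebraMap M F (m i) * xF ^ (i : ℕ)
    have hzw : W.valuation (z ^ e - algebraMap M F (algebraMap C M (algebraMap B C w))) < 1 := by
      rw [← IsScalarTower.algebraMap_apply B C M, hwm, map_sum, sum_pow_char, ← Finset.sum_sub_distrib]
      refine W.valuation.map_sum_lt one_ne_zero fun i _ => ?_
      obtain ⟨a, ha, ha'⟩ := hbound i
      have hπF : algebraMap M F (algebraMap A M π) ∈ W := hWA.1 π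
      obtain ⟨q, hq⟩ : ∃ q ∈ W, (xF ^ e) ^ (i : ℕ) - algebraMap M F (algebraMap A M π) ^ (i : ℕ) =
          algebraMap M F (algebraMap A M (π ^ n)) * q := by
        obtain ⟨d, hd'⟩ := sub_dvd_pow_sub_pow (⟨xF ^ e, pow_mem hxW e⟩ : W) ⟨_, hπF⟩ (i : ℕ)
        refine ⟨-xF * (d : F), mul_mem (neg_mem hxW) d.2, ?_⟩
        have h2 := congrArg Subtype.val hd'
        simp only [AddSubgroupClass.coe_sub, SubmonoidClass.coe_pow, MulMemClass.coe_mul] at h2
        rw [h2, hxF]; ring
      obtain ⟨hqW, hq⟩ := hq
      have heq : (algebraMap M F (m i) * xF ^ (i : ℕ)) ^ e - algebraMap M F (m i ^ e * algebraMap B M πB ^ (i : ℕ)) =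
          algebraMap M F (algebraMap C M a) * q := by
        rw [ha', mul_pow, pow_right_comm, map_mul, map_mul, map_pow, map_pow, map_pow,
          ← IsScalarTower.algebraMap_apply A B M, ← mul_sub, hq, map_pow, map_pow]
        ring
      rw [heq, map_mul]
      exact (mul_le_of_le_one_right' ((W.valuation_le_one_iff q).mpr hqW)).trans_lt (hW.2 a ha)
    have hzW : z ∈ W := by
      rw [← W.valuation_le_one_iff]
      refine (pow_le_one_iff hp.ne_zero).mp ?_
      rw [← map_pow, ← sub_add_cancel (z ^ e) (algebraMap M F (algebraMap C M (algebraMap B C w)))]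
      exact (W.valuation.map_add _ _).trans (max_le hzw.le ((W.valuation_le_one_iff _).mpr (hW.1 _)))
    have hres' := HensEt88.residual_independent (algebraMap M F) hW hp hzW _ hzw hres
    have hind := fun a h => HensEt88.eq_zero_of_sum_residual (algebraMap M F) hW hzW hp.pos hres' a h
    refine ⟨HensEt88.le_finrank_of_independent _ hind, fun y hy => ?_⟩
    obtain ⟨a, rfl⟩ := HensEt88.exists_sum_eq hle _ hind y
    obtain ⟨j, hj, -⟩ := HensEt88.valuation_sum_residual (algebraMap M F) hW hzW hp.pos hres' a
    have haj : a j ≠ 0 := fun h => hy ((W.valuation.zero_iff).mp (by rw [hj, h, map_zero, map_zero]))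
    obtain ⟨i, hi⟩ := HensEt88.valuation_map_eq_zpow (algebraMap M F) hW hcirr haj
    have hcx : W.valuation (algebraMap M F (algebraMap C M c)) = W.valuation xF := by
      refine (pow_left_inj₀ zero_le zero_le hp.ne_zero).mp ?_
      rw [hv, ← map_pow, ← map_pow, ← map_pow, hc, map_mul, map_mul, map_mul,
        HensEt88.valuation_map_unit (algebraMap M F) hW, one_mul, ← IsScalarTower.algebraMap_apply B C M,
        ← IsScalarTower.algebraMap_apply A B M]
      rfl
    exact ⟨x ^ i, by rw [hj, map_zpow₀, map_zpow₀, hi, hcx]⟩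
  refine ⟨K₁, iF, iK, hd₁, hs₁, IsScalarTower.algebraMap_eq A K K₁ ▸ ht₁, ?_, ?_, ?_, ?_⟩
  · refine HensEt88.isField_tensor_of_forall fun F _ _ _ _ _ _ hgen => ?_
    obtain ⟨W, hW⟩ := HensEt88.exists_dominates ((algebraMap L F).comp (algebraMap B L))
    exact hd₁.le.trans (hLloc F hgen W hW).1
  · refine HensEt88.isField_tensor_of_forall fun F _ _ _ _ _ _ hgen => ?_
    obtain ⟨W, hW⟩ := HensEt88.exists_dominates ((algebraMap M F).comp (algebraMap C M))
    exact hd₁.le.trans (hMloc F hgen W hW).1
  · intro F _ _ _ _ _ _ hgen W hW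
    exact HensEt88.isWeaklyUnramified_of_valuation _ (hLloc F hgen W hW).2
  · intro F _ _ _ _ _ _ hgen W hW
    exact HensEt88.isWeaklyUnramified_of_valuation _ (hMloc F hgen W hW).2

end Groth.Agent.S7156
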