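import Groth.Statements.S7157
import Groth.Agent.HensEt88.EisensteinRam

set_option linter.style.haveILetI false
-- import your own Groth.Agent.* helpers here

set_option autoImplicit false
universe u
open EtAlg

namespace Groth.Agent.S7157

/-- Let A be a discrete valuation ring, π a uniformizer, K its field of fractions, and suppose the
residue field of A has characteristic p > 0. For every n > 1 and every power q of p there is a
separable degree-q extension L/K that is totally ramified with respect to A and whose ring of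
integers B (the integral closure of A in L) contains elements π_B, b, b' with π_B^q = π + πⁿ·b and
π_B^q = π + π_B^(nq)·b' (π_B is then a uniformizer of B and the ramification index is q). -/
theorem result (p : ℕ) (hp : p.Prime) (A K : Type u)
    [CommRing A] [IsDomain A] [IsDiscreteValuationRing A] [Field K] [Algebra A K] [IsFractionRing A K]
    [CharP (IsLocalRing.ResidueField A) p] (π : A) (hπ : IsLocalRing.maximalIdeal A = Ideal.span {π})
    (n : ℕ) (hn : 1 < n) (k : ℕ) :
    ∃ (L : Type u) (_ : Field L) (_ : Algebra K L) (_ : Algebra A L) (_ : IsScalarTower A K L),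
      Module.finrank K L = p ^ k ∧ Algebra.IsSeparable K L ∧ EtRam.IsTotallyRamified A (algebraMap A L) ∧
      ∃ πB b b' : L, πB ∈ integralClosure A L ∧ b ∈ integralClosure A L ∧ b' ∈ integralClosure A L ∧
        πB ^ (p ^ k) = algebraMap A L π + algebraMap A L π ^ n * b ∧
        πB ^ (p ^ k) = algebraMap A L π + πB ^ (n * p ^ k) * b' := by
  classical
  have hπ0 : π ≠ 0 := fun h => IsDiscreteValuationRing.not_a_field A (by rw [hπ, h, Ideal.span_singleton_eq_bot])
  have hπm : π ∈ IsLocalRing.maximalIdeal A := hπ ▸ Ideal.mem_span_singleton_self π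
  have hq0 : 0 < p ^ k := pow_pos hp.pos k
  by_cases h1 : p ^ k = 1
  · obtain ⟨L, iF, iK, iA, iT, hd, hs, ht, x, hxi, hx⟩ := HensEt88.exists_eisenstein_extension K hπ hq0
      (c := 0) (zero_mem _) (fun _ => rfl) (fun h => absurd h1 h.ne')
    refine ⟨L, iF, iK, iA, iT, hd, hs, ht, x, 0, 0, hxi, zero_mem _, zero_mem _, ?_, ?_⟩ <;> simp [hx]
  obtain ⟨L, iF, iK, iA, iT, hd, hs, ht, x, hxi, hx⟩ := HensEt88.exists_eisenstein_extension K hπ hq0
    (c := π ^ n) (Ideal.pow_mem_of_mem _ hπm n (by omega)) (fun h => absurd h h1) (fun _ => pow_ne_zero _ hπ0)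
  let B := integralClosure A L
  let xB : B := ⟨x, hxi⟩
  obtain ⟨v, hv⟩ : ∃ v : B, v * (1 - algebraMap A B π ^ (n - 1) * xB) = 1 := by
    refine IsUnit.exists_left_inv ?_
    by_contra hu
    obtain ⟨M, hM, hmem⟩ := exists_max_ideal_of_mem_nonunits hu
    have hcm : M.comap (algebraMap A B) = IsLocalRing.maximalIdeal A :=
      IsLocalRing.eq_maximalIdeal (Ideal.isMaximal_comap_of_isIntegral_of_isMaximal (R := A) M)
    have h2 : algebraMap A B π ∈ M := Ideal.mem_comap.mp (hcm ▸ hπm)
    have h3 : algebraMap A B π ^ (n - 1) * xB ∈ M := M.mul_mem_right _ (M.pow_mem_of_mem h2 _ (by omega))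
    exact hM.ne_top ((Ideal.eq_top_iff_one M).mpr (by simpa using M.add_mem hmem h3))
  have hv' : (v : L) * (1 - algebraMap A L π ^ (n - 1) * x) = 1 := congrArg Subtype.val hv
  refine ⟨L, iF, iK, iA, iT, hd, hs, ht, x, -x, -(x * (v : L) ^ n), hxi, neg_mem hxi,
    neg_mem (mul_mem hxi (pow_mem v.2 n)), ?_, ?_⟩
  · rw [hx, map_pow]; ring
  · have hπ' : algebraMap A L π = x ^ (p ^ k) * (v : L) := by
      obtain ⟨m, rfl⟩ : ∃ m, n = m + 1 := ⟨n - 1, by omega⟩
      simp only [Nat.add_sub_cancel] at hv'
      rw [hx, map_pow, pow_succ]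
      linear_combination (-algebraMap A L π) * hv'
    have hpow : algebraMap A L π ^ n = x ^ (n * p ^ k) * (v : L) ^ n := by
      rw [hπ', mul_pow, ← pow_mul, mul_comm n]
    rw [hx, map_pow, hpow]; ring

end Groth.Agent.S7157
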