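import Groth.Statements.S7159
import Groth.Agent.HensEt88.DegreePCases
import Groth.Agent.S7140

set_option linter.style.haveILetI false
-- import your own Groth.Agent.* helpers here

set_option autoImplicit false
universe u
open EtAlg

namespace Groth.Agent.S7159

open Polynomial in
/-- Let A be a discrete valuation ring whose fraction field K has characteristic 0 and whose residue
field has characteristic p, and suppose A contains an element ζ with 1 + ζ + ... + ζ^(p-1) = 0 (a
primitive p-th root of unity); set w = 1 - ζ and let P in A[t] be the polynomial with w^p·P(t) = (1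
+ wt)^p - 1. Let ξ be an element of K and let L = K(z) be obtained by adjoining a root z of P(z) =
ξ. Then L/K is a Galois extension, and it falls under one of four cases: (1) L = K; (2) L/K has
degree p and is unramified with respect to A; (3) L/K has degree p and is totally ramified with
respect to A (ramification index p); (4) exactly one valuation ring of L dominates A (so B, the
integral closure of A in L, is itself a discrete valuation ring), the extension A → B is weakly
unramified, and its residue field extension is purely inseparable of degree p. Moreover, with π a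
uniformizer of A: (A) if ξ lies in A, case (1) or (2) holds; (B) if ξ = π⁻ⁿa with n > 0 prime to p
and a a unit of A, case (3) holds; (C) if ξ = π⁻ⁿa with n > 0 divisible by p and the residue class
of a not a p-th power, case (4) holds. -/
theorem result (p : ℕ) (hp : p.Prime) (A K L : Type u) [CommRing A] [IsDomain A]
    [IsDiscreteValuationRing A] [Field K] [Algebra A K] [IsFractionRing A K] [Field L] [Algebra K L] [Algebra A L]
    [IsScalarTower A K L] [CharZero K] [CharP (IsLocalRing.ResidueField A) p] (ζ : A)
    (hζ : aeval ζ (cyclotomic p ℤ) = 0) (P : A[X]) (hP : C ((1 - ζ) ^ p) * P = (1 + C (1 - ζ) * X) ^ p - 1) (π : A) (hπ : IsLocalRing.maximalIdeal A = Ideal.span {π})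
    (ξ : K) (z : L) (hz : aeval z P = algebraMap K L ξ) (hgen : IntermediateField.adjoin K {z} = ⊤) :
    let g : A →+* L := algebraMap A L
    let case1 : Prop := Module.finrank K L = 1
    let case2 : Prop := EtRam.IsUnramifiedExt A g ∧ Module.finrank K L = p
    let case3 : Prop := EtRam.IsTotallyRamified A g ∧ Module.finrank K L = p
    let case4 : Prop := (∃ V : ValuationSubring L, EtRam.Dominates A g V) ∧
      (∀ V V' : ValuationSubring L, EtRam.Dominates A g V → EtRam.Dominates A g V' → V = V') ∧
      ∀ (V : ValuationSubring L) (h : EtRam.Dominates A g V),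
        letI : Algebra A V := (RingHom.codRestrict g V h.1).toAlgebra
        ∀ [IsLocalHom (algebraMap A V)],
          EtRam.IsWeaklyUnramified A V ∧
            IsPurelyInseparable (IsLocalRing.ResidueField A) (IsLocalRing.ResidueField V) ∧
            Module.finrank (IsLocalRing.ResidueField A) (IsLocalRing.ResidueField V) = p
    IsGalois K L ∧ (case1 ∨ case2 ∨ case3 ∨ case4) ∧
      ((∃ a : A, algebraMap A K a = ξ) → case1 ∨ case2) ∧
      (∀ (n : ℕ) (a : Aˣ), 0 < n → ¬ p ∣ n → ξ * algebraMap A K π ^ n = algebraMap A K a → case3) ∧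
      (∀ (n : ℕ) (a : A), 0 < n → p ∣ n → (∀ r : A, IsLocalRing.residue A a ≠ IsLocalRing.residue A r ^ p) →
          ξ * algebraMap A K π ^ n = algebraMap A K a → case4) := by
  classical
  have : Fact p.Prime := ⟨hp⟩
  have hinjA : Function.Injective (algebraMap A K) := IsFractionRing.injective A K
  haveI : CharZero L := charZero_of_injective_ringHom (f := algebraMap K L) (algebraMap K L).injective
  have hinjL : Function.Injective (algebraMap A L) := by
    rw [IsScalarTower.algebraMap_eq A K L]; exact (algebraMap K L).injective.comp hinjA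
  have hprim : IsPrimitiveRoot (algebraMap A L ζ) p := by
    rw [← isRoot_cyclotomic_iff, IsRoot.def, ← map_cyclotomic p (algebraMap ℤ L), eval_map, ← aeval_def]
    rw [aeval_algebraMap_apply, hζ, map_zero]
  let t : A := 1 - ζ
  have ht0 : t ≠ 0 := fun h => by
    have h1 : ζ = 1 := (sub_eq_zero.mp h).symm
    rw [h1, map_one] at hprim
    exact hp.one_lt.ne' (hprim.unique IsPrimitiveRoot.one)
  obtain ⟨P', hP'eq, ⟨c, hc, hP'⟩, -⟩ := S7140.result p hp A ζ hζ
  have hPP : P = P' := mul_left_cancel₀ (C_ne_zero.mpr (pow_ne_zero p ht0)) (hP.trans hP'eq.symm)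
  have htm : t ∈ IsLocalRing.maximalIdeal A := by
    rw [← IsLocalRing.residue_eq_zero_iff, map_sub, map_one, sub_eq_zero]
    have h1 : IsLocalRing.residue A ζ ^ p = 1 := by
      rw [← map_pow, ← map_one (IsLocalRing.residue A)]
      congr 1
      exact hinjL (by rw [map_pow, hprim.pow_eq_one, map_one])
    haveI : ExpChar (IsLocalRing.ResidueField A) p := ExpChar.prime hp
    exact (sub_eq_zero.mp (pow_eq_zero_iff (n := p) hp.ne_zero |>.mp (by rw [sub_pow_expChar, one_pow, h1, sub_self])))
  have hcm : ∀ i, c i ∈ IsLocalRing.maximalIdeal A := fun i =>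
    (Ideal.span_singleton_le_iff_mem _).mpr htm (hc i)
  have hPd : (X - (Finset.Ioo 0 p).sum (fun i => C (c i) * X ^ i) : A[X]).degree < (p : WithBot ℕ) := by
    refine (degree_sub_le _ _).trans_lt (max_lt (by rw [degree_X]; exact_mod_cast hp.one_lt) ?_)
    refine (degree_sum_le _ _).trans_lt ((Finset.sup_lt_iff (WithBot.bot_lt_coe p)).mpr fun i hi => ?_)
    exact (degree_C_mul_X_pow_le i (c i)).trans_lt (Nat.cast_lt.mpr (Finset.mem_Ioo.mp hi).2)
  have hPform : P = X ^ p - (X - (Finset.Ioo 0 p).sum (fun i => C (c i) * X ^ i)) := by rw [hPP, hP']; ring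
  have hPm : P.Monic := hPform ▸ monic_X_pow_sub hPd
  have hnd : P.natDegree = p := natDegree_eq_of_degree_eq_some (by
    rw [hPform, degree_sub_eq_left_of_degree_lt (by rwa [degree_X_pow]), degree_X_pow])
  have hred : P.map (IsLocalRing.residue A) = X ^ p - X := by
    rw [hPP, hP', Polynomial.map_add, Polynomial.map_sum, Finset.sum_eq_zero fun i _ => ?_, add_zero]
    · simp
    · rw [Polynomial.map_mul, map_C, (IsLocalRing.residue_eq_zero_iff _).mpr (hcm i), map_zero, zero_mul]
  have htL : algebraMap A L t ≠ 0 := (map_ne_zero_iff _ hinjL).mpr ht0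
  have hev : ∀ x : L, algebraMap A L t ^ p * aeval x P = (1 + algebraMap A L t * x) ^ p - 1 := fun x => by
    simpa [aeval_C, t] using congrArg (aeval x) hP
  by_cases hu : 1 + algebraMap A L t * z = 0
  · have hzK : z = algebraMap K L (-(algebraMap A K t)⁻¹) := by
      rw [map_neg, map_inv₀, ← IsScalarTower.algebraMap_apply, eq_neg_iff_add_eq_zero]
      field_simp
      linear_combination hu
    have htop : (⊥ : IntermediateField K L) = ⊤ := by
      rw [← hgen, eq_comm, ← le_bot_iff, IntermediateField.adjoin_le_iff, Set.singleton_subset_iff, hzK]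
      exact IntermediateField.algebraMap_mem _ _
    have hd : Module.finrank K L = 1 := IntermediateField.bot_eq_top_iff_finrank_eq_one.mp htop
    haveI : FiniteDimensional K L := Module.finite_of_finrank_pos (hd ▸ Nat.one_pos)
    haveI hG : IsGalois K L := IsGalois.of_fixedField_eq_bot _ _ (le_bot_iff.mp (htop ▸ le_top))
    obtain ⟨h1, h2, h3, h4⟩ := HensEt88.degree_p_cases (A := A) (K := K) (L := L) hp hπ P hPm hnd hred ξ z
      hz (Or.inl hd) (fun hdp => absurd (hd.symm.trans hdp) hp.one_lt.ne)
    exact ⟨hG, h1, h2, h3, h4⟩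
  let r : Fin p → L := fun i => (algebraMap A L ζ ^ (i : ℕ) * (1 + algebraMap A L t * z) - 1) / algebraMap A L t
  have hr : ∀ i, 1 + algebraMap A L t * r i = algebraMap A L ζ ^ (i : ℕ) * (1 + algebraMap A L t * z) := fun i => by
    simp only [r]; field_simp; ring
  obtain ⟨hfd, hG, hd, hconj⟩ := HensEt88.galois_of_roots (K := K) hp (P.map (algebraMap A K) - C ξ)
    ((hPm.map _).sub_of_left (degree_C_le.trans_lt (by
      rw [degree_eq_natDegree (hPm.map _).ne_zero, hPm.natDegree_map, hnd]; exact_mod_cast hp.pos)))
    (by rw [natDegree_sub_C, hPm.natDegree_map, hnd]) z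
    (by rw [map_sub, aeval_map_algebraMap, aeval_C, hz, sub_self]) hgen r
    (fun i j h => Fin.ext (hprim.pow_inj i.2 j.2 (mul_right_cancel₀ hu (by rw [← hr, ← hr, h]))))
    (fun i => by
      rw [map_sub, aeval_map_algebraMap, aeval_C, ← hz, sub_eq_zero]
      refine mul_left_cancel₀ (pow_ne_zero p htL) ?_
      rw [hev, hev, hr, mul_pow, ← pow_mul, mul_comm (i : ℕ) p, pow_mul, hprim.pow_eq_one, one_pow, one_mul])
    (fun i => by
      have hmem : ∀ a : A, algebraMap A L a ∈ IntermediateField.adjoin K {r i} := fun a => by
        rw [IsScalarTower.algebraMap_apply A K L]; exact IntermediateField.algebraMap_mem _ _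
      have h1 : z = ((1 + algebraMap A L t * r i) / algebraMap A L ζ ^ (i : ℕ) - 1) / algebraMap A L t := by
        rw [hr, mul_div_cancel_left₀ _ (pow_ne_zero _ (hprim.ne_zero hp.ne_zero))]
        field_simp; ring
      rw [h1]
      exact div_mem (sub_mem (div_mem (add_mem (one_mem _) (mul_mem (hmem t) (IntermediateField.mem_adjoin_simple_self _ _)))
        (pow_mem (hmem ζ) _)) (one_mem _)) (hmem t))
  obtain ⟨h1, h2, h3, h4⟩ := HensEt88.degree_p_cases (A := A) (K := K) (L := L) hp hπ P hPm hnd hred ξ z
    hz hd (fun hdp => by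
      obtain ⟨σ, hσ⟩ := hconj hdp ⟨1, hp.one_lt⟩
      refine ⟨σ, fun V hV hzV => ?_⟩
      have h5 : σ z - z = -(1 + algebraMap A L t * z) := by
        rw [hσ]
        simp only [r, pow_one]
        field_simp
        rw [show algebraMap A L t = 1 - algebraMap A L ζ by rw [map_sub, map_one]]
        ring
      rw [h5, Valuation.map_neg, Valuation.map_one_add_of_lt]
      rw [map_mul]
      exact (mul_le_of_le_one_right' ((V.valuation_le_one_iff _).mpr hzV)).trans_lt (hV.2 t htm))
  exact ⟨hG, h1, h2, h3, h4⟩

end Groth.Agent.S7159
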