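import Groth.Statements.S7162
import Groth.Agent.HensEt88.SolutionExtend
import Groth.Agent.HensEt88.StrictDvr
import Groth.Agent.S8209

set_option linter.style.haveILetI false

set_option autoImplicit false
universe u
open EtAlg IsLocalRing

namespace Groth.Agent.S7162

set_option maxHeartbeats 2000000 in
/-- Solutions descend from the strict henselizations. -/
theorem descend (A B K L A' B' K' L' : Type u)
    [CommRing A] [IsDomain A] [IsDiscreteValuationRing A] [CommRing B] [IsDomain B] [IsDiscreteValuationRing B]
    [Algebra A B] [IsLocalHom (algebraMap A B)]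
    [Field K] [Field L] [Algebra A K] [IsFractionRing A K] [Algebra B L] [IsFractionRing B L]
    [Algebra K L] [Algebra A L] [IsScalarTower A K L] [IsScalarTower A B L]
    [CommRing A'] [IsDomain A'] [IsDiscreteValuationRing A'] [CommRing B'] [IsDomain B'] [IsDiscreteValuationRing B']
    [Field K'] [Field L'] [Algebra A A'] [IsLocalHom (algebraMap A A')] [Algebra B B'] [IsLocalHom (algebraMap B B')]
    [Algebra A' B'] [IsLocalHom (algebraMap A' B')]
    [Algebra A' K'] [IsFractionRing A' K'] [Algebra B' L'] [IsFractionRing B' L']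
    [Algebra K' L'] [Algebra A' L'] [IsScalarTower A' K' L'] [IsScalarTower A' B' L']
    [Algebra K K'] [Algebra A K'] [IsScalarTower A K K'] [IsScalarTower A A' K']
    [Algebra L L'] [Algebra B L'] [IsScalarTower B L L'] [IsScalarTower B B' L']
    (hKL : (algebraMap K' L').comp (algebraMap K K') = (algebraMap L L').comp (algebraMap K L))
    (hAinj : Function.Injective (algebraMap A A')) (hBinj : Function.Injective (algebraMap B B'))
    (hwA : EtRam.IsWeaklyUnramified A A')
    [Algebra.IsGeometricallyReduced (ResidueField A) (ResidueField A')] [Algebra.IsSeparable K K']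
    (K₁ : Type u) [Field K₁] [Algebra K' K₁] [FiniteDimensional K' K₁] (h₁ : EtRam.IsSolution B' K' L' K₁) :
    ∃ (K₂ : Type u) (_ : Field K₂) (_ : Algebra K K₂), FiniteDimensional K K₂ ∧ EtRam.IsSolution B K L K₂ ∧
      (Algebra.IsSeparable K' K₁ → Algebra.IsSeparable K K₂) := by
  classical
  letI : Algebra K K₁ := ((algebraMap K' K₁).comp (algebraMap K K')).toAlgebra
  haveI : IsScalarTower K K' K₁ := .of_algebraMap_eq' rfl
  haveI : Algebra.IsAlgebraic K K₁ := Algebra.IsAlgebraic.trans K K' K₁
  let Ω := AlgebraicClosure K₁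
  haveI : Algebra.IsAlgebraic K Ω := Algebra.IsAlgebraic.trans K K₁ Ω
  haveI : Normal K Ω := ((isAlgClosure_iff K Ω).mpr ⟨inferInstance, inferInstance⟩).normal
  obtain ⟨t, ht⟩ := (Module.Finite.fg_top (R := K') (M := K₁))
  let E₀ : IntermediateField K Ω := IntermediateField.adjoin K ((algebraMap K₁ Ω) '' (t : Set K₁))
  haveI : Finite ((algebraMap K₁ Ω) '' (t : Set K₁)) := (t.finite_toSet.image _).to_subtype
  haveI : FiniteDimensional K E₀ := IntermediateField.finiteDimensional_adjoin fun x _ =>
    (Algebra.IsAlgebraic.isAlgebraic (R := K) x).isIntegral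
  let K₂ : IntermediateField K Ω := IntermediateField.normalClosure K E₀ Ω
  haveI : FiniteDimensional K K₂ := normalClosure.is_finiteDimensional K E₀ Ω
  haveI : Normal K K₂ := normalClosure.normal K E₀ Ω
  let N := IntermediateField.adjoin K' (K₂ : Set Ω)
  have hK₁N : ∀ x : K₁, algebraMap K₁ Ω x ∈ N := by
    intro x
    have hx : x ∈ Submodule.span K' (t : Set K₁) := by rw [ht]; trivial
    induction hx using Submodule.span_induction with
    | mem z hz =>
      exact IntermediateField.subset_adjoin K' _ (E₀.le_normalClosure (IntermediateField.subset_adjoin K _ ⟨z, hz, rfl⟩))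
    | zero => rw [map_zero]; exact zero_mem _
    | add a b _ _ ha hb => rw [map_add]; exact add_mem ha hb
    | smul r a _ ha =>
      rw [Algebra.smul_def, map_mul, ← IsScalarTower.algebraMap_apply K' K₁ Ω]
      exact mul_mem (N.algebraMap_mem r) ha
  letI : Algebra K₁ N := ((algebraMap K₁ Ω).codRestrict N.toSubalgebra.toSubring hK₁N).toAlgebra
  haveI : IsScalarTower K' K₁ N := .of_algebraMap_eq fun x => Subtype.ext (IsScalarTower.algebraMap_apply K' K₁ Ω x)
  haveI : FiniteDimensional K' N := by
    let b := Module.finBasis K K₂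
    have he : N = IntermediateField.adjoin K' (Set.range fun i => ((b i : K₂) : Ω)) := by
      refine le_antisymm (IntermediateField.adjoin_le_iff.mpr fun x hx => ?_) (IntermediateField.adjoin.mono K' _ _ ?_)
      · have h1 := congrArg Subtype.val (b.sum_repr ⟨x, hx⟩)
        rw [IntermediateField.coe_sum] at h1
        show x ∈ IntermediateField.adjoin K' _
        rw [show x = ((⟨x, hx⟩ : K₂) : Ω) from rfl, ← h1]
        refine sum_mem fun i _ => ?_
        rw [IntermediateField.coe_smul, Algebra.smul_def, IsScalarTower.algebraMap_apply K K' Ω]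
        exact mul_mem (IntermediateField.algebraMap_mem _ _) (IntermediateField.subset_adjoin K' _ ⟨i, rfl⟩)
      · rintro _ ⟨i, rfl⟩
        exact (b i).2
    rw [he]
    exact IntermediateField.finiteDimensional_adjoin fun x _ =>
      (Algebra.IsAlgebraic.isAlgebraic (R := K) x).isIntegral.tower_top
  have h₂ : EtRam.IsSolution B' K' L' N := HensEt88.solution_extend A' B' K' L' K₁ N h₁
  refine ⟨K₂, inferInstance, inferInstance, inferInstance, ?_, fun hsep => ?_⟩
  swap
  · haveI : Algebra.IsSeparable K K₁ := Algebra.IsSeparable.trans K K' K₁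
    have hle : E₀ ≤ separableClosure K Ω := by
      refine IntermediateField.adjoin_le_iff.mpr ?_
      rintro _ ⟨x, -, rfl⟩
      exact mem_separableClosure_iff.mpr
        (IsSeparable.map (IsScalarTower.toAlgHom K K₁ Ω) (algebraMap K₁ Ω).injective (Algebra.IsSeparable.isSeparable K x))
    have hle₂ : K₂ ≤ separableClosure K Ω :=
      (IntermediateField.normalClosure_mono _ _ hle).trans (IntermediateField.normal_iff_normalClosure_le.mp inferInstance)
    exact (le_separableClosure_iff K Ω K₂).mp hle₂
  intro M _ _ _ _ _ _ hgen W hW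
  show HensEt88.IsGood W (algebraMap K₂ M)
  have hBLinj : Function.Injective (algebraMap B L) := IsFractionRing.injective B L
  obtain ⟨F, fF, jM, j₀, W', hcomm, hW', hdom⟩ := HensEt88.exists_common_valuationSubring B B' M hBinj
    ((algebraMap L M).comp (algebraMap B L)) ((algebraMap L M).injective.comp hBLinj) W hW L'
  let Fb := AlgebraicClosure F
  let ι := algebraMap F Fb
  obtain ⟨Wb, hWb⟩ := HensEt88.exists_dominates (ι.comp W'.subtype)
  letI : Algebra L' Fb := (ι.comp j₀).toAlgebra
  letI : Algebra K' Fb := ((algebraMap L' Fb).comp (algebraMap K' L')).toAlgebra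
  haveI : IsScalarTower K' L' Fb := .of_algebraMap_eq' rfl
  let j : K₂ →+* Fb := (ι.comp jM).comp (algebraMap K₂ M)
  have hL : jM.comp (algebraMap L M) = j₀.comp (algebraMap L L') := IsFractionRing.ringHom_ext (A := B) fun b => by
    show jM (algebraMap L M (algebraMap B L b)) = j₀ (algebraMap L L' (algebraMap B L b))
    rw [← IsScalarTower.algebraMap_apply B L L', IsScalarTower.algebraMap_apply B B' L']
    exact hcomm b
  let φ : N →ₐ[K'] Fb := IsAlgClosed.lift
  letI : Algebra K Fb := ((algebraMap K' Fb).comp (algebraMap K K')).toAlgebra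
  have hmem : ∀ x : K₂, (x : Ω) ∈ N := fun x => IntermediateField.subset_adjoin K' _ x.2
  let incl : K₂ →+* N := RingHom.mk' ⟨⟨fun x => ⟨x, hmem x⟩, rfl⟩, fun _ _ => rfl⟩ fun _ _ => rfl
  let φ₀ : K₂ →ₐ[K] Fb := AlgHom.mk (φ.toRingHom.comp incl) fun r => by
    show φ (incl (algebraMap K K₂ r)) = algebraMap K' Fb (algebraMap K K' r)
    rw [← φ.commutes]
    refine congrArg φ (Subtype.ext ?_)
    show algebraMap K Ω r = algebraMap K' Ω (algebraMap K K' r)
    exact IsScalarTower.algebraMap_apply K K' Ω r
  have hjK : ∀ r, j (algebraMap K K₂ r) = algebraMap K Fb r := fun r => by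
    show ι (jM (algebraMap K₂ M (algebraMap K K₂ r))) = ι (j₀ (algebraMap K' L' (algebraMap K K' r)))
    rw [← IsScalarTower.algebraMap_apply K K₂ M, IsScalarTower.algebraMap_apply K L M]
    refine congrArg ι ?_
    exact (RingHom.congr_fun hL _).trans (congrArg j₀ (RingHom.congr_fun hKL r).symm)
  obtain ⟨τ, hτ⟩ : ∃ τ : K₂ ≃ₐ[K] K₂, ∀ x, φ₀ x = j (τ x) := by
    letI : Algebra K₂ Fb := j.toAlgebra
    haveI : IsScalarTower K K₂ Fb := .of_algebraMap_eq fun r => (hjK r).symm
    exact ⟨φ₀.restrictNormal' K₂, fun x => (φ₀.restrictNormal_commutes K₂ x).symm⟩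
  -- the composite
  let M₂ := IntermediateField.adjoin L' (Set.range φ)
  have hφmem : ∀ x, φ x ∈ M₂ := fun x => IntermediateField.subset_adjoin L' _ ⟨x, rfl⟩
  letI : Algebra N M₂ := (φ.toRingHom.codRestrict M₂.toSubalgebra.toSubring hφmem).toAlgebra
  haveI : IsScalarTower K' N M₂ := .of_algebraMap_eq fun x => Subtype.ext (φ.commutes x).symm
  have hgen₂ : Algebra.adjoin L' (Set.range (algebraMap N M₂)) = ⊤ := by
    refine top_le_iff.mp fun y _ => ?_
    have hy : (y : Fb) ∈ Algebra.adjoin L' (Set.range φ) :=
      IntermediateField.adjoin_toSubalgebra_of_isAlgebraic (fun x (hx : x ∈ Set.range φ) => by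
        obtain ⟨x, rfl⟩ := hx
        exact (IsIntegral.tower_top (A := L') ((IsIntegral.of_finite K' x).map φ)).isAlgebraic) ▸ y.2
    have e : Algebra.adjoin L' (Set.range φ) = (Algebra.adjoin L' (Set.range (algebraMap N M₂))).map M₂.val := by
      rw [AlgHom.map_adjoin]
      congr 1
      rw [← Set.range_comp]
      rfl
    rw [e] at hy
    obtain ⟨y', hy', he⟩ := hy
    rwa [show y = y' from Subtype.ext he.symm]
  let W₂ : ValuationSubring M₂ := Wb.comap M₂.val.toRingHom
  have hWb' : EtRam.Dominates B' ((algebraMap L' Fb).comp (algebraMap B' L')) Wb :=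
    HensEt88.dominates_trans ι hdom hWb
  have hW₂ : EtRam.Dominates B' ((algebraMap L' M₂).comp (algebraMap B' L')) W₂ :=
    HensEt88.dominates_comap M₂.val.toRingHom rfl hWb'
  have good₂ : HensEt88.IsGood W₂ (algebraMap N M₂) := h₂ M₂ hgen₂ W₂ hW₂
  -- the embedding of K₂ into N
  let κ : K₂ →+* N := incl.comp τ.symm.toRingEquiv.toRingHom
  have hκ : ∀ x, φ (κ x) = j x := fun x => (hτ (τ.symm x)).trans (congrArg j (τ.apply_symm_apply x))
  letI : Algebra K₂ N := κ.toAlgebra
  haveI : IsScalarTower K K₂ N := .of_algebraMap_eq fun r => φ.toRingHom.injective <| by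
    show φ (algebraMap K N r) = φ (κ (algebraMap K K₂ r))
    rw [hκ, hjK, IsScalarTower.algebraMap_apply K K' N, φ.commutes]
    rfl
  haveI : FiniteDimensional K' N := inferInstance
  have hgen₃ : Algebra.adjoin K' (Set.range (algebraMap K₂ N)) = ⊤ := by
    refine top_le_iff.mp fun y _ => ?_
    have hy : (y : Ω) ∈ Algebra.adjoin K' (K₂ : Set Ω) :=
      IntermediateField.adjoin_toSubalgebra_of_isAlgebraic (fun (x : Ω) (_ : x ∈ (K₂ : Set Ω)) =>
        (IsIntegral.tower_top (A := K') (Algebra.IsAlgebraic.isAlgebraic (R := K) x).isIntegral).isAlgebraic) ▸ y.2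
    have e : Algebra.adjoin K' (K₂ : Set Ω) = (Algebra.adjoin K' (Set.range (algebraMap K₂ N))).map N.val := by
      rw [AlgHom.map_adjoin]
      congr 1
      rw [← Set.range_comp]
      ext z
      refine ⟨fun hz => ⟨τ ⟨z, hz⟩, ?_⟩, ?_⟩
      · show ((incl (τ.symm (τ ⟨z, hz⟩)) : N) : Ω) = z
        rw [AlgEquiv.symm_apply_apply]
        rfl
      · rintro ⟨x, rfl⟩
        exact (τ.symm x).2
    rw [e] at hy
    obtain ⟨y', hy', he⟩ := hy
    rwa [show y = y' from Subtype.ext he.symm]
  let W₃ : ValuationSubring N := W₂.comap (algebraMap N M₂)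
  have hW₃ : EtRam.Dominates A' ((algebraMap K' N).comp (algebraMap A' K')) W₃ := by
    refine HensEt88.dominates_comap (algebraMap N M₂)
      (g' := ((algebraMap L' M₂).comp (algebraMap B' L')).comp (algebraMap A' B')) ?_ ?_
    · refine RingHom.ext fun a => ?_
      simp only [RingHom.comp_apply]
      rw [← IsScalarTower.algebraMap_apply A' B' L', IsScalarTower.algebraMap_apply A' K' L',
        ← IsScalarTower.algebraMap_apply K' L' M₂]
      exact IsScalarTower.algebraMap_apply K' N M₂ _
    · exact ⟨fun a => hW₂.1 _, fun a ha => hW₂.2 _ (map_nonunit (algebraMap A' B') a ha)⟩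
  have good₃ : HensEt88.IsGood W₃ κ :=
    HensEt88.isGood_of_weaklyUnramified A A' K K' hAinj hwA K₂ N hgen₃ W₃ hW₃
  have good : HensEt88.IsGood W₂ ((algebraMap N M₂).comp κ) := good₃.comp good₂
  -- descend to M
  have hgmem : ∀ m, ι (jM m) ∈ M₂ := by
    intro m
    have hm : m ∈ Algebra.adjoin L (Set.range (algebraMap K₂ M)) := hgen ▸ Algebra.mem_top
    induction hm using Algebra.adjoin_induction with
    | mem x hx =>
      obtain ⟨x, rfl⟩ := hx
      have h := hφmem (κ x)
      rw [hκ] at h
      exact h
    | algebraMap r =>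
      rw [show jM (algebraMap L M r) = j₀ (algebraMap L L' r) from RingHom.congr_fun hL r]
      exact M₂.algebraMap_mem _
    | add x y _ _ hx hy => rw [map_add, map_add]; exact add_mem hx hy
    | mul x y _ _ hx hy => rw [map_mul, map_mul]; exact mul_mem hx hy
  let g : M →+* M₂ := (ι.comp jM).codRestrict M₂.toSubalgebra.toSubring hgmem
  have hg : g.comp (algebraMap K₂ M) = (algebraMap N M₂).comp κ := RingHom.ext fun x => Subtype.ext (hκ x).symm
  have hW₂g : W₂.comap g = W := by
    have h1 : Wb.comap ι = W' := by
      have hle : W' ≤ Wb.comap ι := fun x hx => hWb.1 ⟨x, hx⟩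
      have hloc : IsLocalHom (Subring.inclusion (show W'.toLocalSubring.toSubring ≤ (Wb.comap ι).toLocalSubring.toSubring from hle)) := by
        refine ⟨fun (x : W') hx => ?_⟩
        by_contra hn
        have h3 := hWb.2 x hn
        have hx2 : IsUnit (⟨(x : F), hle x.2⟩ : Wb.comap ι) := hx
        exact (Wb.valuation_lt_one_iff (EtRam.inclOfComap Wb ι ⟨(x : F), hle x.2⟩)).mpr h3 (hx2.map _)
      exact le_antisymm (W'.isMax_toLocalSubring (b := (Wb.comap ι).toLocalSubring) ⟨hle, hloc⟩).1 hle
    calc W₂.comap g = (Wb.comap ι).comap jM := rfl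
      _ = W := by rw [h1, hW']
  rw [← hW₂g]
  exact HensEt88.IsGood.comap (hg ▸ good)

/-- Let A → B be an injective local homomorphism of discrete valuation rings whose fields of fractions
are K ⊆ L. There is a commutative square of such extensions A ⊆ A', B ⊆ B', A' ⊆ B' (with fraction
fields K', L') such that (1) K'/K and L'/L are separable algebraic, (2) the residue field of A' is a
separable algebraic closure of that of A, and likewise for B' over B, and (3) whenever A' ⊆ B'
admits a solution (respectively a separable solution), so does A ⊆ B. (The published statement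
asserts (3) for weak solutions as well; that clause is left out here: a weak solution for A' ⊆ B'
descends to a finite extension of K but controls only those local extensions attached to embeddings
compatible with K ⊆ K', and weak solutions, unlike solutions, are not preserved under passing to a
normal closure; the clause can fail when the residue field of A is not separably closed in that of
B.) -/
theorem result (A B K L : Type u) [CommRing A] [IsDomain A]
    [IsDiscreteValuationRing A] [CommRing B] [IsDomain B] [IsDiscreteValuationRing B] [Algebra A B]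
    (hinj : Function.Injective (algebraMap A B)) [IsLocalHom (algebraMap A B)]
    [Field K] [Field L] [Algebra A K] [IsFractionRing A K] [Algebra B L] [IsFractionRing B L]
    [Algebra K L] [Algebra A L] [IsScalarTower A K L] [IsScalarTower A B L] :
    ∃ (A' B' K' L' : Type u) (_ : CommRing A') (_ : IsDomain A') (_ : IsDiscreteValuationRing A')
      (_ : CommRing B') (_ : IsDomain B') (_ : IsDiscreteValuationRing B') (_ : Field K') (_ : Field L')
      (_ : Algebra A A') (_ : Algebra B B') (_ : Algebra A' B') (_ : Algebra A B')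
      (_ : IsScalarTower A B B') (_ : IsScalarTower A A' B')
      (_ : Algebra A' K') (_ : IsFractionRing A' K') (_ : Algebra B' L') (_ : IsFractionRing B' L')
      (_ : Algebra K' L') (_ : Algebra A' L') (_ : IsScalarTower A' K' L') (_ : IsScalarTower A' B' L')
      (_ : Algebra K K') (_ : Algebra A K') (_ : IsScalarTower A K K') (_ : IsScalarTower A A' K')
      (_ : Algebra L L') (_ : Algebra B L') (_ : IsScalarTower B L L') (_ : IsScalarTower B B' L')
      (hA : IsLocalHom (algebraMap A A')) (hB : IsLocalHom (algebraMap B B')) (_ : IsLocalHom (algebraMap A' B')),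
      Function.Injective (algebraMap A A') ∧ Function.Injective (algebraMap B B') ∧
      Function.Injective (algebraMap A' B') ∧
      Algebra.IsSeparable K K' ∧ Algebra.IsSeparable L L' ∧
      (letI := (IsLocalRing.ResidueField.map (algebraMap A A')).toAlgebra
       IsSepClosure (IsLocalRing.ResidueField A) (IsLocalRing.ResidueField A')) ∧
      (letI := (IsLocalRing.ResidueField.map (algebraMap B B')).toAlgebra
       IsSepClosure (IsLocalRing.ResidueField B) (IsLocalRing.ResidueField B')) ∧
      ((∃ (K₁ : Type u) (_ : Field K₁) (_ : Algebra K' K₁), FiniteDimensional K' K₁ ∧ EtRam.IsSolution B' K' L' K₁) →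
        ∃ (K₁ : Type u) (_ : Field K₁) (_ : Algebra K K₁), FiniteDimensional K K₁ ∧ EtRam.IsSolution B K L K₁) ∧
      ((∃ (K₁ : Type u) (_ : Field K₁) (_ : Algebra K' K₁), FiniteDimensional K' K₁ ∧ Algebra.IsSeparable K' K₁ ∧
          EtRam.IsSolution B' K' L' K₁) →
        ∃ (K₁ : Type u) (_ : Field K₁) (_ : Algebra K K₁), FiniteDimensional K K₁ ∧ Algebra.IsSeparable K K₁ ∧
          EtRam.IsSolution B K L K₁) := by
  classical
  obtain ⟨A', _, _, _, _, _⟩ : ∃ (A' : Type u) (_ : CommRing A') (_ : IsLocalRing A') (_ : Algebra A A')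
      (_ : IsLocalHom (algebraMap A A')), Hensel.IsStrictHenselization A A' :=
    ⟨Groth.Agent.Hensel.StrictHenz A, inferInstance, inferInstance, inferInstance, inferInstance, inferInstance⟩
  obtain ⟨B', _, _, _, _, _⟩ : ∃ (B' : Type u) (_ : CommRing B') (_ : IsLocalRing B') (_ : Algebra B B')
      (_ : IsLocalHom (algebraMap B B')), Hensel.IsStrictHenselization B B' :=
    ⟨Groth.Agent.Hensel.StrictHenz B, inferInstance, inferInstance, inferInstance, inferInstance, inferInstance⟩
  obtain ⟨_, _⟩ := HensEt88.exists_dvr_strictHenselization A A'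
  obtain ⟨_, _⟩ := HensEt88.exists_dvr_strictHenselization B B'
  have hAinj := HensEt88.injective_strictHenselization A A'
  have hBinj := HensEt88.injective_strictHenselization B B'
  haveI : HenselianLocalRing B' := Hensel.IsStrictHenselization.henselian (R := B)
  haveI hsA : IsSepClosure (ResidueField A) (ResidueField A') := Hensel.IsStrictHenselization.isSepClosure
  haveI hsB : IsSepClosure (ResidueField B) (ResidueField B') := Hensel.IsStrictHenselization.isSepClosure
  haveI : IsSepClosed (ResidueField B') := IsSepClosure.sep_closed (ResidueField B)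
  haveI : Algebra.IsSeparable (ResidueField A) (ResidueField A') := hsA.separable
  let f : A →+* B' := (algebraMap B B').comp (algebraMap A B)
  haveI : IsLocalHom f := RingHom.isLocalHom_comp _ _
  obtain ⟨τ, hτ⟩ : ∃ τ : ResidueField A' →+* ResidueField B',
      τ.comp (ResidueField.map (algebraMap A A')) = ResidueField.map f := by
    letI : Algebra (ResidueField A) (ResidueField B') := (ResidueField.map f).toAlgebra
    refine ⟨(IsSepClosed.lift : ResidueField A' →ₐ[ResidueField A] ResidueField B').toRingHom, RingHom.ext fun x => ?_⟩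
    obtain ⟨a, rfl⟩ := residue_surjective x
    exact (IsSepClosed.lift : ResidueField A' →ₐ[ResidueField A] ResidueField B').commutes (residue A a)
  obtain ⟨g, ⟨hgA, hgres⟩, -⟩ := Hensel.IsStrictHenselization.universal (R := A) (S := A') B' f τ hτ
  letI : Algebra A' B' := g.toAlgebra
  letI : Algebra A B' := f.toAlgebra
  haveI : IsScalarTower A B B' := .of_algebraMap_eq' rfl
  haveI : IsScalarTower A A' B' := .of_algebraMap_eq' hgA.symm
  haveI hloc' : IsLocalHom (algebraMap A' B') := ⟨fun x hx => by
    by_contra hn
    have h1 : residue B' (g x) = 0 := by rw [hgres, (residue_eq_zero_iff x).mpr hn, map_zero]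
    exact (residue_eq_zero_iff _).mp h1 hx⟩
  have hg'inj : Function.Injective (algebraMap A' B') := by
    rw [injective_iff_map_eq_zero]
    intro x hx
    by_contra hx0
    obtain ⟨π, hπ⟩ := IsDiscreteValuationRing.exists_irreducible A'
    obtain ⟨ϖ, hϖ⟩ := IsDiscreteValuationRing.exists_irreducible A
    obtain ⟨n, u, rfl⟩ := IsDiscreteValuationRing.eq_unit_mul_pow_irreducible hx0 hπ
    rw [map_mul, map_pow] at hx
    have hπ0 : g π = 0 := eq_zero_of_pow_eq_zero ((mul_eq_zero.mp hx).resolve_left (u.isUnit.map _).ne_zero)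
    obtain ⟨d, hd⟩ : π ∣ algebraMap A A' ϖ := by
      rw [← Ideal.mem_span_singleton, ← hπ.maximalIdeal_eq]
      exact map_nonunit _ ϖ hϖ.not_isUnit
    have h2 : f ϖ = 0 := by
      rw [← hgA, RingHom.comp_apply, hd, map_mul, hπ0, zero_mul]
    exact hϖ.ne_zero ((injective_iff_map_eq_zero f).mp (hBinj.comp hinj) ϖ h2)
  obtain ⟨K', _, _, _⟩ : ∃ (K' : Type u) (_ : Field K') (_ : Algebra A' K'), IsFractionRing A' K' :=
    ⟨FractionRing A', inferInstance, inferInstance, inferInstance⟩
  obtain ⟨L', _, _, _⟩ : ∃ (L' : Type u) (_ : Field L') (_ : Algebra B' L'), IsFractionRing B' L' :=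
    ⟨FractionRing B', inferInstance, inferInstance, inferInstance⟩
  letI : Algebra K' L' := (IsFractionRing.lift (A := A') (g := (algebraMap B' L').comp (algebraMap A' B'))
    ((IsFractionRing.injective B' L').comp hg'inj)).toAlgebra
  letI : Algebra A' L' := ((algebraMap B' L').comp (algebraMap A' B')).toAlgebra
  haveI : IsScalarTower A' B' L' := .of_algebraMap_eq' rfl
  haveI : IsScalarTower A' K' L' := .of_algebraMap_eq fun a => (IsFractionRing.lift_algebraMap _ a).symm
  letI : Algebra A K' := ((algebraMap A' K').comp (algebraMap A A')).toAlgebra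
  haveI : IsScalarTower A A' K' := .of_algebraMap_eq' rfl
  letI : Algebra K K' := (IsFractionRing.lift (A := A) (g := (algebraMap A' K').comp (algebraMap A A'))
    ((IsFractionRing.injective A' K').comp hAinj)).toAlgebra
  haveI : IsScalarTower A K K' := .of_algebraMap_eq fun a => (IsFractionRing.lift_algebraMap _ a).symm
  letI : Algebra B L' := ((algebraMap B' L').comp (algebraMap B B')).toAlgebra
  haveI : IsScalarTower B B' L' := .of_algebraMap_eq' rfl
  letI : Algebra L L' := (IsFractionRing.lift (A := B) (g := (algebraMap B' L').comp (algebraMap B B'))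
    ((IsFractionRing.injective B' L').comp hBinj)).toAlgebra
  haveI : IsScalarTower B L L' := .of_algebraMap_eq fun a => (IsFractionRing.lift_algebraMap _ a).symm
  haveI hsK : Algebra.IsSeparable K K' := HensEt88.isSeparable_strictHenselization A A' K K'
  haveI hsL : Algebra.IsSeparable L L' := HensEt88.isSeparable_strictHenselization B B' L L'
  have hKL : (algebraMap K' L').comp (algebraMap K K') = (algebraMap L L').comp (algebraMap K L) := by
    refine IsFractionRing.ringHom_ext (A := A) fun a => ?_
    simp only [RingHom.comp_apply]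
    rw [← IsScalarTower.algebraMap_apply A K K', IsScalarTower.algebraMap_apply A A' K',
      ← IsScalarTower.algebraMap_apply A' K' L', IsScalarTower.algebraMap_apply A' B' L',
      ← IsScalarTower.algebraMap_apply A A' B', ← IsScalarTower.algebraMap_apply A K L,
      IsScalarTower.algebraMap_apply A B L, ← IsScalarTower.algebraMap_apply B L L',
      IsScalarTower.algebraMap_apply B B' L', ← IsScalarTower.algebraMap_apply A B B']
  have hwA : EtRam.IsWeaklyUnramified A A' := S0538.result A A'
  haveI : Algebra.IsGeometricallyReduced (ResidueField A) (ResidueField A') :=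
    S8209.isGeometricallyReduced_of_separable _ _
  refine ⟨A', B', K', L', inferInstance, inferInstance, inferInstance, inferInstance, inferInstance, inferInstance,
    inferInstance, inferInstance, inferInstance, inferInstance, inferInstance, inferInstance, inferInstance,
    inferInstance, inferInstance, inferInstance, inferInstance, inferInstance, inferInstance, inferInstance,
    inferInstance, inferInstance, inferInstance, inferInstance, inferInstance, inferInstance, inferInstance,
    inferInstance, inferInstance, inferInstance, inferInstance, inferInstance, hloc',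
    hAinj, hBinj, hg'inj, hsK, hsL, ?_, ?_, ?_, ?_⟩
  · convert hsA
    exact Algebra.algebra_ext _ _ fun x => by
      obtain ⟨a, rfl⟩ := residue_surjective x
      rfl
  · convert hsB
    exact Algebra.algebra_ext _ _ fun x => by
      obtain ⟨a, rfl⟩ := residue_surjective x
      rfl
  · rintro ⟨K₁, _, _, hfin, h₁⟩
    obtain ⟨K₂, i₁, i₂, h₂, h₃, -⟩ := descend A B K L A' B' K' L' hKL hAinj hBinj hwA K₁ h₁
    exact ⟨K₂, i₁, i₂, h₂, h₃⟩
  · rintro ⟨K₁, _, _, hfin, hsep, h₁⟩
    obtain ⟨K₂, i₁, i₂, h₂, h₃, h₄⟩ := descend A B K L A' B' K' L' hKL hAinj hBinj hwA K₁ h₁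
    exact ⟨K₂, i₁, i₂, h₂, h₄ hsep, h₃⟩

end Groth.Agent.S7162
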