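import Groth.Statements.S7184
import Groth.Agent.RelPC13.AmpleFam.Basic

set_option autoImplicit false
universe u
open FlatMor

namespace Groth.Agent.S7184

open AlgebraicGeometry CategoryTheory Limits in
/-- If f : X → Y is affine or quasi-affine and Y has an ample family of invertible modules, then X has
an ample family of invertible modules. -/
theorem result {X Y : Scheme.{u}} (f : X ⟶ Y) (hf : IsAffineHom f ∨ Mor2.IsQuasiAffine f)
    (hY : MoreMor.HasAmpleFamily Y) : MoreMor.HasAmpleFamily X := by
  exact Groth.Agent.RelPC13.AmpleFam.loci_of_isRelAmple f hY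
    ((Groth.Agent.AmpleX.isQuasiAffine_iff_isRelAmple f).1 (Groth.Agent.RelPC13.AmpleFam.isQuasiAffine_of_or f hf))

end Groth.Agent.S7184
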