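import Groth.Statements.S7199
import Groth.Agent.RelPC13.Bertini.Coeffs

set_option autoImplicit false
universe u
open FlatMor

namespace Groth.Agent.S7199

/-- Take a field k, an integral domain A that is a finitely generated k-algebra, n ≥ 2 and g_1, …, g_n ∈
A, and suppose some irreducible component of the common zero locus of g_1 and g_2 in Spec A has
dimension dim A − 2. Then for suitable c_1, …, c_n ∈ k the n + 2 elements x_1, …, x_n, Σ g_i x_i, Σ
c_i g_i of the rational function field Frac(A)(x_1, …, x_n) form an algebraically independent family
over k. -/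
theorem result {k A : Type u} [Field k] [CommRing A] [IsDomain A] [Algebra k A]
    [Algebra.FiniteType k A] (m : ℕ) (g : Fin (m + 2) → A)
    (p : Ideal A) (hp : p ∈ (Ideal.span {g 0, g 1}).minimalPrimes) (hdim : ringKrullDim (A ⧸ p) + 2 = ringKrullDim A) :
    ∃ c : Fin (m + 2) → k,
      AlgebraicIndependent k
        (Sum.elim
          (fun i : Fin (m + 2) => algebraMap (MvPolynomial (Fin (m + 2)) (FractionRing A)) (FractionRing (MvPolynomial (Fin (m + 2)) (FractionRing A))) (MvPolynomial.X i))
          ![∑ i, algebraMap A (FractionRing (MvPolynomial (Fin (m + 2)) (FractionRing A))) (g i) *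
              algebraMap (MvPolynomial (Fin (m + 2)) (FractionRing A)) (FractionRing (MvPolynomial (Fin (m + 2)) (FractionRing A))) (MvPolynomial.X i),
            algebraMap A (FractionRing (MvPolynomial (Fin (m + 2)) (FractionRing A))) (∑ i, c i • g i)]) := by
  have hinj : Function.Injective (IsScalarTower.toAlgHom k A (FractionRing A)) := IsFractionRing.injective _ _
  have hpair : AlgebraicIndependent k ![algebraMap A (FractionRing A) (g 0), algebraMap A (FractionRing A) (g 1)] := by
    have h := (RelPC13.Bertini.algebraicIndependent_pair (k := k) ![g 0, g 1] p (by simpa using hp) hdim).map'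
      (f := IsScalarTower.toAlgHom k A (FractionRing A)) hinj
    convert h using 1
    funext i
    fin_cases i <;> rfl
  obtain ⟨c, hc⟩ := RelPC13.Bertini.exists_coeff (k := k) (K := FractionRing A)
    (fun i : Fin (m + 2) => algebraMap (MvPolynomial (Fin (m + 2)) (FractionRing A))
      (FractionRing (MvPolynomial (Fin (m + 2)) (FractionRing A))) (MvPolynomial.X i))
    ((MvPolynomial.algebraicIndependent_X (Fin (m + 2)) (FractionRing A)).map'
      (f := IsScalarTower.toAlgHom (FractionRing A) (MvPolynomial (Fin (m + 2)) (FractionRing A))
        (FractionRing (MvPolynomial (Fin (m + 2)) (FractionRing A)))) (IsFractionRing.injective _ _))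
    (fun i => algebraMap A (FractionRing A) (g i)) hpair
  refine ⟨c, ?_⟩
  simp only [← IsScalarTower.algebraMap_apply, map_sum, Algebra.smul_def, map_mul] at hc ⊢
  exact hc

end Groth.Agent.S7199
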