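import Groth.Statements.S7201
import Groth.Agent.RelPC13.CplControl.Alg

set_option autoImplicit false
universe u
open FlatMor

namespace Groth.Agent.S7201

open AlgebraicGeometry CategoryTheory Limits in
/-- Let h : T → S be a morphism of finite type between Noetherian schemes, t a point of T with image s,
and σ : O_{T,t} → O_{S,s}^∧ a local O_{S,s}-algebra map to the completion. For every N ≥ 1 there is
a morphism of finite type g : T' → T and a point t' over t such that σ factors through O_{T,t} →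
O_{T',t'}, and any local O_{S,s}-algebra map σ' : O_{T,t} → O_{S,s}^∧ factoring through O_{T,t} →
O_{T',t'} agrees with σ modulo m_s^N. -/
theorem result {T S : Scheme.{u}} [IsNoetherian T] [IsNoetherian S]
    (h : T ⟶ S) [LocallyOfFiniteType h] [QuasiCompact h] (t : T)
    (σ : ↑(T.presheaf.stalk t) →+* (AdicCompletion (IsLocalRing.maximalIdeal ↑(S.presheaf.stalk (h t))) ↑(S.presheaf.stalk (h t))))
    (hσ : σ.comp (h.stalkMap t).hom = algebraMap ↑(S.presheaf.stalk (h t)) (AdicCompletion (IsLocalRing.maximalIdeal ↑(S.presheaf.stalk (h t))) ↑(S.presheaf.stalk (h t))))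
    (hloc : ∀ a ∈ IsLocalRing.maximalIdeal ↑(T.presheaf.stalk t),
      σ a ∈ (IsLocalRing.maximalIdeal ↑(S.presheaf.stalk (h t))).map (algebraMap ↑(S.presheaf.stalk (h t)) (AdicCompletion (IsLocalRing.maximalIdeal ↑(S.presheaf.stalk (h t))) ↑(S.presheaf.stalk (h t)))))
    (N : ℕ) (hN : 1 ≤ N) :
    ∃ (T' : Scheme.{u}) (g : T' ⟶ T) (t' : T') (hg : g t' = t) (τ : ↑(T'.presheaf.stalk t') →+* (AdicCompletion (IsLocalRing.maximalIdeal ↑(S.presheaf.stalk (h t))) ↑(S.presheaf.stalk (h t)))),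
      LocallyOfFiniteType g ∧ QuasiCompact g ∧
      τ.comp ((g.stalkMap t').hom.comp (T.presheaf.stalkCongr (Inseparable.of_eq hg)).inv.hom) = σ ∧
      ∀ (σ' : ↑(T.presheaf.stalk t) →+* (AdicCompletion (IsLocalRing.maximalIdeal ↑(S.presheaf.stalk (h t))) ↑(S.presheaf.stalk (h t)))),
        σ'.comp (h.stalkMap t).hom = algebraMap ↑(S.presheaf.stalk (h t)) (AdicCompletion (IsLocalRing.maximalIdeal ↑(S.presheaf.stalk (h t))) ↑(S.presheaf.stalk (h t))) →
        (∀ a ∈ IsLocalRing.maximalIdeal ↑(T.presheaf.stalk t),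
          σ' a ∈ (IsLocalRing.maximalIdeal ↑(S.presheaf.stalk (h t))).map (algebraMap ↑(S.presheaf.stalk (h t)) (AdicCompletion (IsLocalRing.maximalIdeal ↑(S.presheaf.stalk (h t))) ↑(S.presheaf.stalk (h t))))) →
        (∃ τ' : ↑(T'.presheaf.stalk t') →+* (AdicCompletion (IsLocalRing.maximalIdeal ↑(S.presheaf.stalk (h t))) ↑(S.presheaf.stalk (h t))),
          τ'.comp ((g.stalkMap t').hom.comp (T.presheaf.stalkCongr (Inseparable.of_eq hg)).inv.hom) = σ') →
        ∀ a : ↑(T.presheaf.stalk t), σ a - σ' a ∈ (IsLocalRing.maximalIdeal ↑(S.presheaf.stalk (h t)) ^ N).map (algebraMap ↑(S.presheaf.stalk (h t)) (AdicCompletion (IsLocalRing.maximalIdeal ↑(S.presheaf.stalk (h t))) ↑(S.presheaf.stalk (h t)))) := by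
  let s := h t
  obtain ⟨U, hU, hsU, -⟩ := exists_isAffineOpen_mem_and_subset (x := s) (U := (⊤ : S.Opens)) trivial
  obtain ⟨V, hV, htV, hVU⟩ := exists_isAffineOpen_mem_and_subset (x := t) (U := h ⁻¹ᵁ U) (show h t ∈ U from hsU)
  replace hVU : V ≤ h ⁻¹ᵁ U := hVU
  haveI : IsNoetherianRing Γ(S, U) := IsLocallyNoetherian.component_noetherian ⟨U, hU⟩
  letI := (h.appLE U V hVU).hom.toAlgebra
  haveI : Algebra.FiniteType Γ(S, U) Γ(T, V) := h.finiteType_appLE hU hV hVU
  letI := S.presheaf.algebra_section_stalk ⟨s, hsU⟩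
  haveI : IsLocalization.AtPrime (S.presheaf.stalk s) (hU.primeIdealOf ⟨s, hsU⟩).asIdeal :=
    hU.isLocalization_stalk ⟨s, hsU⟩
  let O : Type u := S.presheaf.stalk (h t)
  let C := AdicCompletion (IsLocalRing.maximalIdeal O) O
  let σB : Γ(T, V) →+* C := σ.comp (T.presheaf.germ V t htV).hom
  have hgerm : (T.presheaf.germ V t htV).hom.comp (algebraMap Γ(S, U) Γ(T, V)) =
      (h.stalkMap t).hom.comp (S.presheaf.germ U (h t) hsU).hom := by
    ext a
    show T.presheaf.germ V t htV (h.appLE U V hVU a) = h.stalkMap t (S.presheaf.germ U (h t) hsU a)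
    rw [Scheme.Hom.appLE, CommRingCat.comp_apply, TopCat.Presheaf.germ_res_apply]
    exact (Scheme.Hom.germ_stalkMap_apply h U t hsU a).symm
  obtain ⟨B', _, _, hft, ⟨φ, hφ⟩, hcontrol⟩ := RelPC13.CplControl.exists_refinement Γ(S, U) Γ(T, V) O
    (hU.primeIdealOf ⟨s, hsU⟩).asIdeal N σB (by
      rw [RingHom.comp_assoc, hgerm, ← RingHom.comp_assoc, hσ]
      rfl)
  let ψ : Γ(T, V) ⟶ CommRingCat.of B' := CommRingCat.ofHom (algebraMap Γ(T, V) B')
  let g : Spec (CommRingCat.of B') ⟶ T := Spec.map ψ ≫ hV.fromSpec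
  let t' : PrimeSpectrum B' := ⟨(IsLocalRing.maximalIdeal C).comap φ, inferInstance⟩
  have hCm : IsLocalRing.maximalIdeal C = (IsLocalRing.maximalIdeal O).map (algebraMap O C) :=
    AdicCompletion.maximalIdeal_eq_map
  have hσm : (IsLocalRing.maximalIdeal C).comap σ = IsLocalRing.maximalIdeal (T.presheaf.stalk t) :=
    le_antisymm (IsLocalRing.le_maximalIdeal (Ideal.IsPrime.ne_top inferInstance))
      fun a ha => by rw [Ideal.mem_comap, hCm]; exact hloc a ha
  have hpt : Spec.map ψ t' = hV.primeIdealOf ⟨t, htV⟩ := by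
    refine PrimeSpectrum.ext ?_
    show ((IsLocalRing.maximalIdeal C).comap φ).comap (algebraMap Γ(T, V) B') = _
    rw [Ideal.comap_comap, hφ, ← Ideal.comap_comap, hσm]
    letI := T.presheaf.algebra_section_stalk ⟨t, htV⟩
    haveI : IsLocalization.AtPrime (T.presheaf.stalk t) (hV.primeIdealOf ⟨t, htV⟩).asIdeal :=
      hV.isLocalization_stalk ⟨t, htV⟩
    exact IsLocalization.AtPrime.under_maximalIdeal (T.presheaf.stalk t) (hV.primeIdealOf ⟨t, htV⟩).asIdeal
  have hg : g t' = t := by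
    show (Spec.map ψ ≫ hV.fromSpec) t' = t
    rw [Scheme.Hom.comp_apply, hpt]
    exact hV.fromSpec_primeIdealOf ⟨t, htV⟩
  letI : Algebra B' ((Spec (CommRingCat.of B')).presheaf.stalk t') :=
    StructureSheaf.stalkAlgebra (CommRingCat.of B') t'
  haveI : IsLocalization.AtPrime ((Spec (CommRingCat.of B')).presheaf.stalk t') t'.asIdeal :=
    StructureSheaf.IsLocalization.to_stalk (CommRingCat.of B') t'
  have hu : ∀ y : t'.asIdeal.primeCompl, IsUnit (φ y) := fun y => IsLocalRing.notMem_maximalIdeal.1 y.2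
  let τ : (Spec (CommRingCat.of B')).presheaf.stalk t' →+* C := IsLocalization.lift hu
  have hτ : τ.comp (algebraMap B' _) = φ := IsLocalization.lift_comp hu
  let θ : T.presheaf.stalk t →+* (Spec (CommRingCat.of B')).presheaf.stalk t' :=
    (g.stalkMap t').hom.comp (T.presheaf.stalkCongr (Inseparable.of_eq hg)).inv.hom
  have hθ : ∀ a : Γ(T, V), θ (T.presheaf.germ V t htV a) = algebraMap B' _ (algebraMap Γ(T, V) B' a) := by
    intro a
    have hgV : g t' ∈ V := hg.symm ▸ htV
    have e1 : (T.presheaf.stalkCongr (Inseparable.of_eq hg)).inv (T.presheaf.germ V t htV a) =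
        T.presheaf.germ V (g t') hgV a := by
      rw [TopCat.Presheaf.stalkCongr_inv, TopCat.Presheaf.germ_stalkSpecializes_apply]
    show g.stalkMap t' ((T.presheaf.stalkCongr (Inseparable.of_eq hg)).inv (T.presheaf.germ V t htV a)) = _
    rw [e1, Scheme.Hom.germ_stalkMap_apply]
    have e2 : g.app V = (ψ ≫ (Scheme.ΓSpecIso (CommRingCat.of B')).inv) ≫
        (Spec (CommRingCat.of B')).presheaf.map (homOfLE le_top).op := by
      show (Spec.map ψ ≫ hV.fromSpec).app V = _
      rw [Scheme.Hom.comp_app, hV.fromSpec_app_self, Category.assoc, (Spec.map ψ).naturality,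
        Scheme.ΓSpecIso_inv_naturality]
      simp only [Category.assoc]
      rfl
    rw [e2, CommRingCat.comp_apply, TopCat.Presheaf.germ_res_apply]
    rfl
  have hext : ∀ ρ : (Spec (CommRingCat.of B')).presheaf.stalk t' →+* C, ∀ a : Γ(T, V),
      ρ.comp θ (T.presheaf.germ V t htV a) = (ρ.comp (algebraMap B' _)) (algebraMap Γ(T, V) B' a) :=
    fun ρ a => congrArg ρ (hθ a)
  haveI : LocallyOfFiniteType (Spec.map ψ) :=
    (HasRingHomProperty.Spec_iff (P := @LocallyOfFiniteType)).2 (RingHom.finiteType_algebraMap.2 hft)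
  haveI : QuasiCompact g := inferInstance
  refine ⟨Spec (CommRingCat.of B'), g, t', hg, τ, inferInstance, inferInstance, ?_, ?_⟩
  · letI := T.presheaf.algebra_section_stalk ⟨t, htV⟩
    haveI : IsLocalization.AtPrime (T.presheaf.stalk t) (hV.primeIdealOf ⟨t, htV⟩).asIdeal :=
      hV.isLocalization_stalk ⟨t, htV⟩
    refine IsLocalization.ringHom_ext (hV.primeIdealOf ⟨t, htV⟩).asIdeal.primeCompl (RingHom.ext fun a => ?_)
    show τ.comp θ (T.presheaf.germ V t htV a) = σB a
    rw [hext, hτ]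
    exact RingHom.congr_fun hφ a
  · rintro σ' hσ' - ⟨τ', hτ'⟩ a
    letI := T.presheaf.algebra_section_stalk ⟨t, htV⟩
    haveI : IsLocalization.AtPrime (T.presheaf.stalk t) (hV.primeIdealOf ⟨t, htV⟩).asIdeal :=
      hV.isLocalization_stalk ⟨t, htV⟩
    have hB : ∀ b : Γ(T, V), σ (T.presheaf.germ V t htV b) - σ' (T.presheaf.germ V t htV b) ∈
        (IsLocalRing.maximalIdeal O ^ N).map (algebraMap O C) := by
      intro b
      have e : (τ'.comp (algebraMap B' _)).comp (algebraMap Γ(T, V) B') = σ'.comp (T.presheaf.germ V t htV).hom :=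
        RingHom.ext fun b => (hext τ' b).symm.trans (RingHom.congr_fun hτ' _)
      have hc := hcontrol (τ'.comp (algebraMap B' _)) (by
        rw [e, RingHom.comp_assoc, hgerm, ← RingHom.comp_assoc, hσ']
        rfl) b
      have e' := RingHom.congr_fun e b
      rw [RingHom.comp_apply] at e'
      rw [e'] at hc
      exact hc
    let P := (IsLocalRing.maximalIdeal O ^ N).map (algebraMap O C)
    show σ a - σ' a ∈ P
    have e : (Ideal.Quotient.mk P).comp σ = (Ideal.Quotient.mk P).comp σ' :=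
      IsLocalization.ringHom_ext (hV.primeIdealOf ⟨t, htV⟩).asIdeal.primeCompl
        (RingHom.ext fun b => Ideal.Quotient.eq.2 (hB b))
    exact Ideal.Quotient.eq.1 (RingHom.congr_fun e a)

end Groth.Agent.S7201
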