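import Groth.Statements.S7204


set_option autoImplicit false
set_option backward.isDefEq.respectTransparency false
set_option backward.isDefEq.respectTransparency.types false
universe w u
open FlatMor

namespace Groth.Agent.S7204

open AlgebraicGeometry CategoryTheory Limits in
/-- Let (X_i)_{i ∈ I} be a diagram of schemes and (W, X_i → W) a cocone under it. If there is an fpqc
covering {W_a → W} such that each W_a is the colimit (in schemes) of the base-changed diagram (X_i
×_W W_a), and each W_a ×_W W_b is the colimit of (X_i ×_W W_a ×_W W_b), then W is the colimit of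
(X_i) in the category of schemes. -/
theorem result {J : Type u} [SmallCategory J] (D : J ⥤ Scheme.{u}) (c : Cocone D)
    (F : PreZeroHypercover.{w} c.pt) (hF : F.presieve₀ ∈ Scheme.fpqcPrecoverage c.pt)
    (h1 : ∀ a : F.I₀, Nonempty (IsColimit ((Over.forgetCocone (F.X a)).whisker
      (D.toOver c.pt (fun j => c.ι.app j) (fun g => c.w g) ⋙ Over.pullback (F.f a)))))
    (h2 : ∀ a b : F.I₀, Nonempty (IsColimit ((Over.forgetCocone (pullback (F.f a) (F.f b))).whisker
      (D.toOver c.pt (fun j => c.ι.app j) (fun g => c.w g) ⋙ Over.pullback (pullback.fst (F.f a) (F.f b) ≫ F.f a))))) :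
    Nonempty (IsColimit c) := by
  classical
  let P := D.toOver c.pt (fun j => c.ι.app j) (fun g => c.w g)
  have hsh : ∀ T : Scheme.{u}, Presieve.IsSheafFor (yoneda.obj T) F.presieve₀ := fun T =>
    Presieve.IsSheaf.isSheafFor_of_mem_precoverage
      (GrothendieckTopology.Subcanonical.isSheaf_of_isRepresentable (J := Scheme.fpqcTopology) _) hF
  let C := fun a : F.I₀ => (Over.forgetCocone (F.X a)).whisker (P ⋙ Over.pullback (F.f a))
  let sC : ∀ (a : F.I₀) (s : Cocone D), Cocone ((P ⋙ Over.pullback (F.f a)) ⋙ Over.forget _) :=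
    fun a s => { pt := s.pt
                 ι := { app := fun j => pullback.fst (c.ι.app j) (F.f a) ≫ s.ι.app j
                        naturality := fun i j g => by
                          show pullback.lift (pullback.fst _ _ ≫ D.map g) (pullback.snd _ _) _ ≫
                            pullback.fst _ _ ≫ s.ι.app j = (pullback.fst _ _ ≫ s.ι.app i) ≫ 𝟙 _
                          refine (pullback.lift_fst_assoc _ _ _ _).trans ?_
                          rw [Category.comp_id, Category.assoc, s.w] } }
  let hd : ∀ (s : Cocone D) (a : F.I₀), F.X a ⟶ s.pt := fun s a => (h1 a).some.desc (sC a s)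
  have hfac : ∀ (s : Cocone D) (a : F.I₀) (j : J),
      pullback.snd (c.ι.app j) (F.f a) ≫ hd s a = pullback.fst (c.ι.app j) (F.f a) ≫ s.ι.app j :=
    fun s a j => (h1 a).some.fac (sC a s) j
  have hcompat : ∀ s : Cocone D,
      Presieve.Arrows.PullbackCompatible (yoneda.obj s.pt) F.f (hd s) := fun s a b => by
    refine (h2 a b).some.hom_ext fun j => ?_
    show pullback.snd (c.ι.app j) _ ≫ pullback.fst (F.f a) (F.f b) ≫ hd s a =
      pullback.snd (c.ι.app j) _ ≫ pullback.snd (F.f a) (F.f b) ≫ hd s b
    let π₁ := pullback.fst (c.ι.app j) (pullback.fst (F.f a) (F.f b) ≫ F.f a)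
    let π₂ := pullback.snd (c.ι.app j) (pullback.fst (F.f a) (F.f b) ≫ F.f a)
    let la : pullback (c.ι.app j) (pullback.fst (F.f a) (F.f b) ≫ F.f a) ⟶
        pullback (c.ι.app j) (F.f a) :=
      pullback.lift π₁ (π₂ ≫ pullback.fst _ _) (pullback.condition.trans (Category.assoc _ _ _).symm)
    let lb : pullback (c.ι.app j) (pullback.fst (F.f a) (F.f b) ≫ F.f a) ⟶
        pullback (c.ι.app j) (F.f b) :=
      pullback.lift π₁ (π₂ ≫ pullback.snd _ _) (by
        rw [Category.assoc, ← pullback.condition (f := F.f a) (g := F.f b), ← pullback.condition])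
    calc π₂ ≫ pullback.fst (F.f a) (F.f b) ≫ hd s a
        = la ≫ pullback.snd _ _ ≫ hd s a := by rw [pullback.lift_snd_assoc, Category.assoc]
      _ = π₁ ≫ s.ι.app j := by rw [hfac, pullback.lift_fst_assoc]
      _ = lb ≫ pullback.snd _ _ ≫ hd s b := by rw [hfac, pullback.lift_fst_assoc]
      _ = π₂ ≫ pullback.snd (F.f a) (F.f b) ≫ hd s b := by
        rw [pullback.lift_snd_assoc, Category.assoc]
  have hex : ∀ s : Cocone D, ∃! m : c.pt ⟶ s.pt, ∀ a, F.f a ≫ m = hd s a := fun s =>
    (Presieve.isSheafFor_arrows_iff_pullbacks _ _).1 (hsh s.pt) (hd s) (hcompat s)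
  refine ⟨⟨fun s => (hex s).choose, fun s j => ?_, fun s m hm => ?_⟩⟩
  · obtain ⟨hm, -⟩ := (hex s).choose_spec
    -- check on the base change of the covering
    obtain hsep := (Presieve.isSheafFor_arrows_iff _ _).1
      (Presieve.IsSheaf.isSheafFor_of_mem_precoverage
        (GrothendieckTopology.Subcanonical.isSheaf_of_isRepresentable (J := Scheme.fpqcTopology)
          (yoneda.obj s.pt))
        (Precoverage.mem_coverings_of_isPullback (J := Scheme.fpqcPrecoverage) F.f hF (c.ι.app j)
          (fun a => pullback.fst (c.ι.app j) (F.f a)) (fun a => pullback.snd _ _)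
          (fun a => IsPullback.of_hasPullback _ _)))
      (fun a => pullback.fst (c.ι.app j) (F.f a) ≫ s.ι.app j)
    refine (hsep ?_).unique (fun a => ?_) (fun a => rfl)
    · intro a b Z ga gb hab
      show ga ≫ _ ≫ _ = gb ≫ _ ≫ _
      rw [reassoc_of% hab]
    · show pullback.fst (c.ι.app j) (F.f a) ≫ c.ι.app j ≫ (hex s).choose = _
      rw [pullback.condition_assoc, hm a, hfac]
  · refine (hex s).choose_spec.2 m fun a => ?_
    refine (h1 a).some.uniq (sC a s) _ fun j => ?_
    show pullback.snd (c.ι.app j) (F.f a) ≫ F.f a ≫ m = pullback.fst _ _ ≫ s.ι.app j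
    rw [← pullback.condition_assoc, hm j]

end Groth.Agent.S7204
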