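import Groth.Statements.S7229
import Groth.Agent.RelPC13.GenTest.Finish

set_option autoImplicit false
set_option linter.style.haveILetI false
universe u
open CategoryTheory CategoryTheory.Limits AlgebraicGeometry Opposite TopologicalSpace
attribute [local instance] HasDerivedCategory.standard
open FlatMor

namespace Groth.Agent.S7229

/-- Let A be a ring and X a scheme separated and of finite presentation over A, with structure morphism
π : X ⟶ Spec A. Let K be a cochain complex of O_X-modules whose class in D(O_X) has quasi-coherent
cohomology sheaves. Assume, the functors Rπ_* and - ⊗^L K being taken to exist, that for every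
perfect object E of D(O_X) the object Rπ_*(E ⊗^L K) is pseudo-coherent on Spec A (m-pseudo-coherent
for every m). Then the class of K is pseudo-coherent relative to π: m-pseudo-coherent relative to π
for every integer m, in chart form. (The published statement asks RΓ(X, E ⊗^L K) to be
pseudo-coherent in D(A); on the affine scheme Spec A the two formulations correspond under the
equivalence of D(A) with the quasi-coherent derived category.) -/
theorem result (A : Type u) [CommRing A] {X : Scheme.{u}}
    (π : X ⟶ Spec (CommRingCat.of A)) [IsSeparated π] [QuasiCompact π] [LocallyOfFinitePresentation π]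
    [DCoh.HasRpush π] (K : CochainComplex X.Modules ℤ) [DCoh.HasLTensorCx K]
    (hK : DCoh.IsQCohD (DCoh.toD X K))
    (h : ∀ E : DCoh.D X, DCoh.IsPerfect E →
      ∀ m : ℤ, DCoh.IsPseudoCoherentD m ((DCoh.Rpush π).obj ((DCoh.LTensorCx K).obj E))) :
    DerSch.IsPseudoCoherentRelAll π (DCoh.toD X K) :=
  RelPC13.GenTest.isPseudoCoherentRelAll_of_test π K hK h

end Groth.Agent.S7229
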