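import Groth.Statements.S7230
import Groth.Agent.RelPC13.GenTest.Amp
import Groth.Agent.S7211

set_option autoImplicit false
set_option linter.style.haveILetI false
universe u
open CategoryTheory CategoryTheory.Limits AlgebraicGeometry Opposite TopologicalSpace
attribute [local instance] HasDerivedCategory.standard
open FlatMor

namespace Groth.Agent.S7230

/-- Let A be a ring and X a scheme separated, of finite presentation and flat over A, with structure
morphism π : X ⟶ Spec A. Let K be a cochain complex of O_X-modules whose class in D(O_X) has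
quasi-coherent cohomology sheaves. Assume, the functors Rπ_* and - ⊗^L K being taken to exist, that
for every perfect object E of D(O_X) the object Rπ_*(E ⊗^L K) of D(O_{Spec A}) is perfect. Then K is
perfect relative to Spec A: its class is pseudo-coherent on X in the absolute sense
(m-pseudo-coherent for every m) and, locally on X, every representing complex has finite tor
amplitude stalkwise over the local rings of Spec A. (The published statement asks RΓ(X, E ⊗^L K) to
be perfect in D(A); on Spec A the two formulations correspond under the equivalence of D(A) with the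
quasi-coherent derived category.) -/
theorem result (A : Type u) [CommRing A]
    {X : Scheme.{u}} (π : X ⟶ Spec (CommRingCat.of A)) [IsSeparated π] [QuasiCompact π]
    [LocallyOfFinitePresentation π] [Flat π] [DCoh.HasRpush π] (K : CochainComplex X.Modules ℤ)
    [DCoh.HasLTensorCx K] (hK : DCoh.IsQCohD (DCoh.toD X K))
    (h : ∀ E : DCoh.D X, DCoh.IsPerfect E → DCoh.IsPerfect ((DCoh.Rpush π).obj ((DCoh.LTensorCx K).obj E))) :
    (∀ m : ℤ, DCoh.IsPseudoCoherentD m (DCoh.toD X K)) ∧ DerSch.LocFiniteTorAmplitudeD π (DCoh.toD X K) := by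
  refine ⟨fun m => ?_, fun F ⟨eF⟩ x => ?_⟩
  · let G := (DerSch.pushCx (𝟙 X)).obj K
    let e : DCoh.toD X G ≅ DCoh.toD X K :=
      DerivedCategory.Q.mapIso ((NatIso.mapHomologicalComplex (Scheme.Modules.pushforwardId X)
        (ComplexShape.up ℤ)).app K ≪≫ (Functor.mapHomologicalComplexIdIso _ _).app K)
    have hrel := RelPC13.GenTest.isPseudoCoherentRelAll_of_test π K hK
      (fun E hE n => (KFlatLib.isPseudoCoherentD_iff n _).2
        (((KFlatLib.isPerfect_iff _).1 (h E hE)).locPC n)) m
    exact (KFlatLib.isPseudoCoherentD_iff m _).2 (((KFlatLib.isPseudoCoherentD_iff m _).1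
      ((S7211.result (𝟙 X) π m K).2.1 (RelPC13.rel_of_iso e.symm hrel))).of_iso e)
  · obtain ⟨_, ⟨U, hU, rfl⟩, hxU, -⟩ :=
      X.isBasis_affineOpens.exists_subset_of_mem_open (Set.mem_univ x) isOpen_univ
    have hle : U ≤ π ⁻¹ᵁ (⊤ : (Spec (CommRingCat.of A)).Opens) := le_top
    obtain ⟨n, φ, hφ⟩ := RelPC13.exists_chart hle (π.finiteType_appLE (isAffineOpen_top _) hU hle)
    haveI := RelPC13.isClEmb_imm hU hφ.1
    obtain ⟨γ, -, -, hfst, hsnd, -⟩ := RelPC13.GenTest.exists_test hU hφ
    refine RelPC13.GenTest.exists_amp_of_locSP (RelPC13.imm U φ)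
      (RelPC13.GenTest.affSp _ n) ?_ F ?_ x hxU
    · rw [← hfst, ← hsnd, Category.assoc, Category.assoc, pullback.condition]
    · exact (RelPC13.GenTest.locSP_immD_of_test π K hK h hU hφ).of_iso
        ((RelPC13.immD U φ).mapIso eF.symm)

end Groth.Agent.S7230
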