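import Groth.Statements.S7232
import Groth.Agent.RelPC13.ThickAmp

set_option autoImplicit false
universe u
open CategoryTheory CategoryTheory.Limits AlgebraicGeometry Opposite TopologicalSpace
attribute [local instance] HasDerivedCategory.standard
open FlatMor

namespace Groth.Agent.S7232

/-- Consider a cartesian square of schemes with sides f : X ⟶ Y, f' : X' ⟶ Y', i : X ⟶ X' and j : Y ⟶ Y'
(so i ≫ f' = f ≫ j and X = X' ×_{Y'} Y), where f' is flat and locally of finite presentation and j
is a finite order thickening. Let E' be an object of D(O_{X'}) and assume the derived pullback Li^*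
exists. Suppose Li^* E' is perfect relative to Y: it is represented by a cochain complex whose class
is pseudo-coherent and which, locally on X, has finite tor amplitude stalkwise over the local rings
of Y. Then E' is perfect relative to Y': it is pseudo-coherent and, locally on X', every cochain
complex representing it has finite tor amplitude stalkwise over the local rings of Y'. -/
theorem result {X X' Y Y' : Scheme.{u}} (f : X ⟶ Y) (f' : X' ⟶ Y')
    (i : X ⟶ X') (j : Y ⟶ Y') (sq : IsPullback i f f' j) [Flat f'] [LocallyOfFinitePresentation f']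
    (hj : MoreMor.IsFiniteOrderThickening j) [DCoh.HasLpull i] (E' : DCoh.D X')
    (hE : ∃ F : CochainComplex X.Modules ℤ, Nonempty (DCoh.toD X F ≅ (DCoh.Lpull i).obj E') ∧
      (∀ m : ℤ, DCoh.IsPseudoCoherentD m (DCoh.toD X F)) ∧ DerSch.LocFiniteTorAmplitude f F) :
    (∀ m : ℤ, DCoh.IsPseudoCoherentD m E') ∧ DerSch.LocFiniteTorAmplitudeD f' E' := by
  obtain ⟨F, ⟨eF⟩, hpc, hamp⟩ := hE
  have hjT := RelPC13.Thick.of_finiteOrder hj
  haveI := hj.1.1
  haveI := hj.1.2
  haveI : IsClosedImmersion i := MorphismProperty.of_isPullback sq.flip hj.1.1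
  haveI : Surjective i := MorphismProperty.of_isPullback sq.flip hj.1.2
  have hiT : RelPC13.Thick i := ⟨i.surjective, i.isClosedEmbedding.isEmbedding,
    fun x => i.stalkMap_surjective x, fun x => by
      obtain ⟨n, hn⟩ := hjT.nil (f.base x)
      let σ := (Y'.presheaf.stalkCongr (.of_eq (RelPC13.sq_apply sq.w x).symm)).hom
      refine ⟨n, eq_bot_iff.2 fun t ht => ?_⟩
      have h1 : RingHom.ker (RelPC13.sqMap sq.w x).hom ^ n = ⊥ := eq_bot_iff.2 fun s hs => by
        have h2 : σ.hom s ∈ RingHom.ker (j.stalkMap (f.base x)).hom ^ n :=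
          Ideal.le_comap_pow σ.hom n (Ideal.pow_right_mono (fun a ha => by exact ha) n hs)
        rw [hn, Ideal.zero_eq_bot, Ideal.mem_bot] at h2
        rw [Ideal.mem_bot]
        exact (ConcreteCategory.bijective_of_isIso σ).1 (h2.trans (map_zero _).symm)
      have h3 := Ideal.pow_right_mono (RelPC13.ker_le_map_sqMap sq x) n ht
      rw [← Ideal.map_pow, h1, Ideal.map_bot] at h3
      exact h3⟩
  have hpcE : ∀ m : ℤ, DCoh.IsPseudoCoherentD m E' := fun m =>
    (KFlatLib.isPseudoCoherentD_iff m E').2 (RelPC13.locPC_of_lpull_thick hiT E' m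
      (((KFlatLib.isPseudoCoherentD_iff m _).1 (hpc m)).of_iso eF))
  refine ⟨hpcE, fun G eG x' => ?_⟩
  obtain ⟨eG⟩ := eG
  obtain ⟨x, rfl⟩ := hiT.surj x'
  obtain ⟨V, a, b, hxV, hV⟩ := hamp x
  obtain ⟨O', hO', hOO⟩ := hiT.emb.isInducing.isOpen_iff.1 V.2
  refine ⟨⟨O', hO'⟩, a, b, show x ∈ i.base ⁻¹' O' by rw [hOO]; exact hxV, fun z hz => ?_⟩
  obtain ⟨y, rfl⟩ := hiT.surj z
  exact RelPC13.hasTorAmplitudeAt_thick sq hjT E' ((KFlatLib.isPseudoCoherentD_iff 0 E').1 (hpcE 0))
    F eF y (hV y (hOO.le hz)) G eG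

end Groth.Agent.S7232
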