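import Groth.Statements.S7233
import Groth.Agent.RelPC13.FibreClosed

set_option autoImplicit false
set_option linter.style.haveILetI false
universe u
open CategoryTheory CategoryTheory.Limits AlgebraicGeometry Opposite TopologicalSpace
attribute [local instance] HasDerivedCategory.standard
open FlatMor

namespace Groth.Agent.S7233

/-- Let R be a ring and I an ideal of R contained in the Jacobson radical of R. Let f : X ⟶ Spec R be
proper, flat and of finite presentation, and let X₀ = X ×_{Spec R} Spec(R/I) with projections i : X₀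
⟶ X and f₀ : X₀ ⟶ Spec(R/I). Let E be a pseudo-coherent object of D(O_X) (m-pseudo-coherent for
every m) and assume the derived pullback Li^* exists. Suppose Li^* E is perfect relative to
Spec(R/I): it is represented by a cochain complex whose class is pseudo-coherent and which, locally
on X₀, has finite tor amplitude stalkwise over the local rings of Spec(R/I). Then E is perfect
relative to Spec R: locally on X, every cochain complex representing E has finite tor amplitude
stalkwise over the local rings of Spec R. -/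
theorem result (R : Type u) [CommRing R] (I : Ideal R)
    (hI : I ≤ Ideal.jacobson ⊥) {X : Scheme.{u}} (f : X ⟶ Spec (CommRingCat.of R)) [IsProper f] [Flat f]
    [LocallyOfFinitePresentation f]
    [DCoh.HasLpull (pullback.fst f (Spec.map (CommRingCat.ofHom (Ideal.Quotient.mk I))))]
    (E : DCoh.D X) (hpc : ∀ m : ℤ, DCoh.IsPseudoCoherentD m E)
    (h₀ : ∃ F₀ : CochainComplex (pullback f (Spec.map (CommRingCat.ofHom (Ideal.Quotient.mk I)))).Modules ℤ,
      Nonempty (DCoh.toD _ F₀ ≅ (DCoh.Lpull (pullback.fst f (Spec.map (CommRingCat.ofHom (Ideal.Quotient.mk I))))).obj E) ∧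
        (∀ m : ℤ, DCoh.IsPseudoCoherentD m (DCoh.toD _ F₀)) ∧
        DerSch.LocFiniteTorAmplitude (pullback.snd f (Spec.map (CommRingCat.ofHom (Ideal.Quotient.mk I)))) F₀) :
    DerSch.LocFiniteTorAmplitudeD f E := by
  intro G ⟨eG⟩
  obtain ⟨F₀, ⟨eF⟩, -, hamp⟩ := h₀
  let j := Spec.map (CommRingCat.ofHom (Ideal.Quotient.mk I))
  let i := pullback.fst f j
  let f₀ := pullback.snd f j
  haveI : IsClosedImmersion j := IsClosedImmersion.spec_of_surjective _ Ideal.Quotient.mk_surjective
  haveI : IsClosedImmersion i := IsClosedImmersion.isStableUnderBaseChange.of_isPullback (IsPullback.of_hasPullback f j).flip inferInstance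
  haveI : CompactSpace X := QuasiCompact.compactSpace_of_compactSpace f
  haveI : CompactSpace (pullback f j : Scheme.{u}) := QuasiCompact.compactSpace_of_compactSpace i
  choose V a b hxV hV using hamp
  obtain ⟨t, ht⟩ := isCompact_univ.elim_finite_subcover (fun x => (V x : Set (pullback f j : Scheme.{u})))
    (fun x => (V x).2) fun x _ => Set.mem_iUnion.2 ⟨x, hxV x⟩
  obtain ⟨a₀, ha₀⟩ := (t.image a).finite_toSet.bddBelow
  obtain ⟨b₀, hb₀⟩ := (t.image b).finite_toSet.bddAbove
  intro x
  refine ⟨⊤, a₀, b₀, trivial, fun x' _ => ?_⟩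
  -- specialise to the closed fibre
  obtain ⟨z, hxz, hz⟩ : ∃ z, x' ⤳ z ∧ f.base z ∈ Set.range j.base := by
    have hcl : IsClosed (f.base '' closure {x'}) := f.isClosedMap _ isClosed_closure
    obtain ⟨J, hJ⟩ := (PrimeSpectrum.isClosed_iff_zeroLocus_ideal _).1 hcl
    have hmem : f.base x' ∈ f.base '' closure {x'} := ⟨x', subset_closure rfl, rfl⟩
    replace hmem : J ≤ (f.base x').asIdeal := hJ.le hmem
    obtain ⟨m, hm, hJm⟩ := Ideal.exists_le_maximal J fun hT =>
      (f.base x').2.ne_top (top_le_iff.1 (hT ▸ hmem))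
    obtain ⟨z, hz, hzm⟩ : (⟨m, hm.isPrime⟩ : PrimeSpectrum R) ∈ f.base '' closure {x'} := by
      exact hJ.ge hJm
    refine ⟨z, specializes_iff_mem_closure.2 hz, ?_⟩
    rw [hzm]
    show (⟨m, hm.isPrime⟩ : PrimeSpectrum R) ∈ Set.range (PrimeSpectrum.comap (Ideal.Quotient.mk I))
    rw [range_comap_of_surjective _ _ Ideal.Quotient.mk_surjective,
      PrimeSpectrum.mem_zeroLocus, Ideal.mk_ker]
    exact SetLike.coe_subset_coe.2 (le_trans hI (sInf_le (α := Ideal R) (show m ∈ {J : Ideal R | ⊥ ≤ J ∧ J.IsMaximal} from ⟨bot_le, hm⟩)))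
  obtain ⟨z₀, rfl⟩ : z ∈ Set.range i.base := by
    rw [Scheme.Pullback.range_fst]
    exact hz
  obtain ⟨y, hy, hzy⟩ := Set.mem_iUnion₂.1 (ht (Set.mem_univ z₀))
  have h₁ : DerSch.HasTorAmplitudeAt f₀ a₀ b₀ F₀ z₀ := Groth.Agent.H9Misc.DRingTor.mono
    (ha₀ (Finset.mem_coe.2 (Finset.mem_image_of_mem a hy)))
    (hb₀ (Finset.mem_coe.2 (Finset.mem_image_of_mem b hy))) (hV y z₀ hzy)
  have hpc' : ∀ n : ℤ, KFlatLib.LocPC n E := fun n =>
    (KFlatLib.isPseudoCoherentD_iff n E).1 (hpc n)
  exact RelPC13.hasTorAmplitudeAt_generalize hpc' eG hxz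
    (RelPC13.hasTorAmplitudeAt_closed (IsPullback.of_hasPullback f j) E hpc' F₀ eF z₀ h₁ G eG)

end Groth.Agent.S7233
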