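import Groth.Statements.S7239
import Groth.Agent.Dual59.RepMain
import Mathlib.CategoryTheory.Adjunction.PartialAdjoint
-- import your own Groth.Agent.* helpers here

set_option autoImplicit false
universe u
open CategoryTheory CategoryTheory.Limits AlgebraicGeometry
attribute [local instance] HasDerivedCategory.standard
open Perf

namespace Groth.Agent.S7239

/-- Let X be a quasi-compact and quasi-separated scheme. Then the inclusion functor of the full
subcategory D_QCoh(O_X) of D(O_X) (objects all of whose cohomology sheaves are quasi-coherent) into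
D(O_X) is a left adjoint, i.e. it admits a right adjoint D(O_X) ⥤ D_QCoh(O_X). -/
theorem result (X : Scheme.{u}) [CompactSpace ↥X] [QuasiSeparatedSpace ↥X] :
    (ObjectProperty.ι (DCoh.IsQCohD (X := X))).IsLeftAdjoint := by
  classical
  haveI := Dual59.locallySmall_D X
  refine (ObjectProperty.ι (DCoh.IsQCohD (X := X))).isLeftAdjoint_of_rightAdjointObjIsDefined_eq_top ?_
  ext L
  simp only [Pi.top_apply, Prop.top_eq_true, iff_true]
  obtain ⟨B, e, hB, hb⟩ := Dual59.exists_univ (𝟭 (DCoh.D X))
    (Dual59.isExactFunctor_of_isTriangulated _) (fun J C _ => inferInstance) L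
  let B' : DCoh.DQCoh X := ⟨B, hB⟩
  let E : ∀ K : DCoh.DQCoh X, (K ⟶ B') ≃ (K.obj ⟶ L) := fun K =>
    Equiv.ofBijective (fun a => a.hom ≫ e)
      ⟨fun a b hab => ObjectProperty.hom_ext _ ((hb K.obj K.property).1 hab), fun c => by
        obtain ⟨a, ha⟩ := (hb K.obj K.property).2 c
        exact ⟨ObjectProperty.homMk a, ha⟩⟩
  exact Functor.RepresentableBy.isRepresentable (Y := B')
    { homEquiv := fun {K} => E K
      homEquiv_comp := fun {K K'} a b => by
        show (a.hom ≫ b.hom) ≫ e = a.hom ≫ b.hom ≫ e
        exact Category.assoc a.hom b.hom e }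

end Groth.Agent.S7239
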