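import Groth.Statements.S7248

import Groth.Agent.KFlatLib.Perfect.DLocal
import Groth.Agent.KFlatLib.Perfect.LocFree

set_option autoImplicit false
universe u
open CategoryTheory CategoryTheory.Limits AlgebraicGeometry
attribute [local instance] HasDerivedCategory.standard
open Perf

namespace Groth.Agent.S7248

/-- Let f : X ⟶ S be flat and locally of finite presentation. Then a perfect object E of D(O_X) is
S-perfect, that is, E is pseudo-coherent (m-pseudo-coherent for every m) and, locally on X, the tor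
dimension of E over the sheaf of rings f⁻¹O_S is finite (locally represented by a bounded complex of
O_X-modules flat over S). -/
theorem result {X S : Scheme.{u}} (f : X ⟶ S) [Flat f] [LocallyOfFinitePresentation f]
    (E : DCoh.D X) (hE : DCoh.IsPerfect E) :
    (∀ m : ℤ, DCoh.IsPseudoCoherentD m E) ∧ DCoh.LocHasFiniteRelTorDim f E := by
  refine ⟨fun m => (KFlatLib.isPseudoCoherentD_iff m E).2 (((KFlatLib.isPerfect_iff E).1 hE).locPC m),
    fun x => ?_⟩
  obtain ⟨V, hx, hV⟩ := hE x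
  obtain ⟨P, hP, ⟨e⟩⟩ := hV (DerivedCategory.Q.objPreimage E) ⟨KFlatLib.repIso E⟩
  obtain ⟨⟨a, b, hab⟩, hf⟩ := hP
  refine ⟨V, a, b, hx, fun F ⟨eF⟩ => ⟨P, hab, fun i => ?_, ⟨e.symm ≪≫
    ((KFlatLib.rhoQ V.ι).app _).symm ≪≫ (KFlatLib.rho V.ι).mapIso (KFlatLib.repIso E ≪≫ eF.symm) ≪≫
    (KFlatLib.rhoQ V.ι).app F⟩⟩⟩
  intro y
  show FlatMod.IsFlatOverAt (V.ι ≫ f) (P.X i) y
  unfold FlatMod.IsFlatOverAt
  letI := FlatMod.moduleStalkOver (V.ι ≫ f) (P.X i) y
  letI : Algebra (S.presheaf.stalk ((V.ι ≫ f).base y)) ((V : Scheme.{u}).presheaf.stalk y) :=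
    ((V.ι ≫ f).stalkMap y).hom.toAlgebra
  haveI : IsScalarTower (S.presheaf.stalk ((V.ι ≫ f).base y)) ((V : Scheme.{u}).presheaf.stalk y)
      ((P.X i).presheaf.stalk y) := IsScalarTower.of_algebraMap_smul fun _ _ => rfl
  haveI : Module.Flat (S.presheaf.stalk ((V.ι ≫ f).base y)) ((V : Scheme.{u}).presheaf.stalk y) :=
    Flat.stalkMap (V.ι ≫ f) y
  haveI : Module.Flat ((V : Scheme.{u}).presheaf.stalk y) ((P.X i).presheaf.stalk y) :=
    KFlatLib.isFlat_of_isFinLocFree (hf i) y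
  exact Module.Flat.trans _ ((V : Scheme.{u}).presheaf.stalk y) _


end Groth.Agent.S7248
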