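import Groth.Statements.S7250

import Groth.Agent.PerfD40.RelAmp
-- import your own Groth.Agent.* helpers here

set_option autoImplicit false
universe u
open CategoryTheory CategoryTheory.Limits AlgebraicGeometry
attribute [local instance] HasDerivedCategory.standard
open Perf

open CategoryTheory.Pretriangulated ZeroObject
open Groth.Agent.KFlatLib Groth.Agent.PerfD40

namespace Groth.Agent.S7250

/-- Let f : X ⟶ S be flat and locally of finite presentation. The S-perfect objects of D(O_X)
(pseudo-coherent and locally of finite tor dimension over f⁻¹O_S, the latter in the form: locally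
represented by a bounded complex of O_X-modules flat over S) form a saturated triangulated
subcategory: the property contains zero, is stable under all shifts, is closed under the middle term
of distinguished triangles, and is stable under retracts. -/
theorem result {X S : Scheme.{u}} (f : X ⟶ S) [Flat f] [LocallyOfFinitePresentation f] :
    ObjectProperty.IsTriangulated (fun E : DCoh.D X => (∀ m : ℤ, DCoh.IsPseudoCoherentD m E) ∧ DCoh.LocHasFiniteRelTorDim f E) ∧
    ObjectProperty.IsStableUnderRetracts (fun E : DCoh.D X => (∀ m : ℤ, DCoh.IsPseudoCoherentD m E) ∧ DCoh.LocHasFiniteRelTorDim f E) := by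
  refine ⟨{
    exists_zero := ⟨(0 : DCoh.D X), isZero_zero _,
      fun m => (isPseudoCoherentD_iff m _).2 (locPC_of_isZero m _ fun i _ =>
        (DerivedCategory.homologyFunctor X.Modules i).map_isZero (isZero_zero _)),
      locRelTor_of_isZero f (isZero_zero _)⟩
    isStableUnderShiftBy := fun k => ⟨fun E hE => ⟨fun m => ?_, locRelTor_shift f hE.2 k⟩⟩
    ext₂' := fun T hT h1 h3 => ObjectProperty.le_isoClosure _ _
      ⟨fun m => (isPseudoCoherentD_iff m _).2 ((locPC_two_of_three m T hT).2.1
          ((isPseudoCoherentD_iff m _).1 (h1.1 m)) ((isPseudoCoherentD_iff m _).1 (h3.1 m))),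
        locRelTor_obj₂ f T hT h1.2 h3.2⟩ },
    ⟨fun {E F} h hF => ⟨fun m => (isPseudoCoherentD_iff m _).2
        (locPC_retract ((isPseudoCoherentD_iff m _).1 (hF.1 m)) h.i h.r h.retract),
      locRelTor_retract f hF.2 h.i h.r h.retract⟩⟩⟩
  have h := ((isPseudoCoherentD_iff (m + k) E).1 (hE.1 (m + k))).shift k
  rw [add_sub_cancel_right] at h
  exact (isPseudoCoherentD_iff m _).2 h

end Groth.Agent.S7250
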