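import Groth.Statements.S7251

import Groth.Agent.KFlatLib.Scheme.QCohDerived

set_option autoImplicit false
universe u
open CategoryTheory CategoryTheory.Limits AlgebraicGeometry
attribute [local instance] HasDerivedCategory.standard
open Perf

namespace Groth.Agent.S7251

/-- Let f : X ⟶ Y be a quasi-compact and quasi-separated morphism of schemes. Assume Rf_* exists and
sends D_QCoh(O_X) into D_QCoh(O_Y), let an adjunction Lf^* ⊣ Rf_* be given as data, and assume the
inclusion functors D_QCoh ⥤ D have (chosen) right adjoints DQ_X and DQ_Y. Then Rf_* ∘ DQ_X = DQ_Y ∘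
Rf_*: for every K ∈ D(O_X) the comparison map Rf_*(DQ_X K) ⟶ DQ_Y(Rf_* K) in D_QCoh(O_Y),
corresponding under the adjunction to Rf_* applied to the counit DQ_X K ⟶ K, is an isomorphism. -/
theorem result {X Y : Scheme.{u}} (f : X ⟶ Y) [QuasiCompact f] [QuasiSeparated f]
    [DCoh.HasRpush f] (h : DCoh.RpushPreservesQCoh f) [DCoh.HasLpull f] (adj : DCoh.Lpull f ⊣ DCoh.Rpush f)
    [(ObjectProperty.ι (DCoh.IsQCohD (X := X))).IsLeftAdjoint] [(ObjectProperty.ι (DCoh.IsQCohD (X := Y))).IsLeftAdjoint]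
    (K : DCoh.D X) :
    IsIso ((Adjunction.ofIsLeftAdjoint (ObjectProperty.ι (DCoh.IsQCohD (X := Y)))).homEquiv
      (⟨(DCoh.Rpush f).obj (((ObjectProperty.ι (DCoh.IsQCohD (X := X))).rightAdjoint.obj K).obj),
        h _ (((ObjectProperty.ι (DCoh.IsQCohD (X := X))).rightAdjoint.obj K).property)⟩ : DCoh.DQCoh Y)
      ((DCoh.Rpush f).obj K)
      ((DCoh.Rpush f).map ((Adjunction.ofIsLeftAdjoint (ObjectProperty.ι (DCoh.IsQCohD (X := X)))).counit.app K))) := by
  set adjY := Adjunction.ofIsLeftAdjoint (ObjectProperty.ι (DCoh.IsQCohD (X := Y)))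
  set adjX := Adjunction.ofIsLeftAdjoint (ObjectProperty.ι (DCoh.IsQCohD (X := X)))
  refine isIso_iff_yoneda_map_bijective _ |>.2 fun M => ?_
  let e1 : (M ⟶ (⟨(DCoh.Rpush f).obj (((ObjectProperty.ι (DCoh.IsQCohD (X := X))).rightAdjoint.obj K).obj),
      h _ (((ObjectProperty.ι (DCoh.IsQCohD (X := X))).rightAdjoint.obj K).property)⟩ : DCoh.DQCoh Y)) ≃
      (M.obj ⟶ (DCoh.Rpush f).obj (((ObjectProperty.ι (DCoh.IsQCohD (X := X))).rightAdjoint.obj K).obj)) :=
    ObjectProperty.fullyFaithfulι _ |>.homEquiv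
  let L : DCoh.DQCoh X := ⟨(DCoh.Lpull f).obj M.obj, Groth.Agent.KFlatLib.isQCohD_lpull f M.property⟩
  let e2 := adj.homEquiv M.obj (((ObjectProperty.ι (DCoh.IsQCohD (X := X))).rightAdjoint.obj K).obj)
  let e3 : (L ⟶ (ObjectProperty.ι (DCoh.IsQCohD (X := X))).rightAdjoint.obj K) ≃
      ((DCoh.Lpull f).obj M.obj ⟶ ((ObjectProperty.ι (DCoh.IsQCohD (X := X))).rightAdjoint.obj K).obj) :=
    ObjectProperty.fullyFaithfulι _ |>.homEquiv
  let E := ((((e1.trans e2.symm).trans e3.symm).trans (adjX.homEquiv L K).symm).trans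
    (adj.homEquiv M.obj K)).trans (adjY.homEquiv M ((DCoh.Rpush f).obj K))
  convert E.bijective using 1
  funext v
  apply (adjY.homEquiv _ _).symm.injective
  simp only [E, e1, e2, e3, Equiv.trans_apply, Adjunction.homEquiv_naturality_left_symm,
    Equiv.symm_apply_apply]
  rw [Adjunction.homEquiv_counit (adj := adjX)]
  change v.hom ≫ (DCoh.Rpush f).map (adjX.counit.app K) =
    (adj.homEquiv M.obj K) ((adj.homEquiv M.obj _).symm v.hom ≫ adjX.counit.app K)
  rw [Adjunction.homEquiv_naturality_right, Equiv.apply_symm_apply]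

end Groth.Agent.S7251
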