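import Groth.Statements.S7261
import Groth.Agent.PerfD40.ApproxAffine

set_option autoImplicit false
universe u
open CategoryTheory CategoryTheory.Limits AlgebraicGeometry
attribute [local instance] HasDerivedCategory.standard
open Perf

namespace Groth.Agent.S7261

open Groth.Agent.PerfD40 Groth.Agent.KFlatLib

/-- Let X be an affine scheme, T = V(f_1, …, f_r) the common zero locus of r global functions, m ∈ ℤ,
and E an m-pseudo-coherent object of D(O_X) with quasi-coherent cohomology sheaves such that Hⁱ(E)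
is supported on T for i ≥ m - r + 1. Then approximation holds for (T, E, m): there are a perfect
object P of D(O_X) supported on T and a morphism α : P ⟶ E inducing isomorphisms Hⁱ(P) ⟶ Hⁱ(E) for i
> m and an epimorphism Hᵐ(P) ⟶ Hᵐ(E). (The published hypothesis asks that X ∖ T be a union of r
affine opens; the published proof begins by writing T as the zero locus of r functions, and this row
takes that as the hypothesis.) -/
theorem result (X : Scheme.{u}) [IsAffine X] (fs : Finset Γ(X, ⊤))
    (m : ℤ) (E : DCoh.D X) (hq : DCoh.IsQCohD E) (hpc : DCoh.IsPseudoCoherentD m E)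
    (hsupp : ∀ i : ℤ, m - (fs.card : ℤ) + 1 ≤ i → CohB1.support (DCoh.HD E i) ⊆ X.zeroLocus (U := ⊤) (↑fs : Set Γ(X, ⊤))) :
    ∃ (P : DCoh.D X) (α : P ⟶ E), DCoh.IsPerfect P ∧
      (∀ i : ℤ, CohB1.support (DCoh.HD P i) ⊆ X.zeroLocus (U := ⊤) (↑fs : Set Γ(X, ⊤))) ∧
      (∀ i : ℤ, m < i → IsIso ((DerivedCategory.homologyFunctor X.Modules i).map α)) ∧
      Epi ((DerivedCategory.homologyFunctor X.Modules m).map α) := by
  let V : X.Opens := ⟨(X.zeroLocus (U := ⊤) (↑fs : Set Γ(X, ⊤)))ᶜ, (X.zeroLocus_isClosed _).isOpen_compl⟩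
  have hV : ((V : Set X))ᶜ = X.zeroLocus (U := ⊤) (↑fs : Set Γ(X, ⊤)) := compl_compl _
  have hl : X.isoSpec.symm.hom ⁻¹ᵁ V = outOpen fs.toList := by
    ext x
    change X.isoSpec.inv.base x ∈ (X.zeroLocus (U := ⊤) (↑fs : Set Γ(X, ⊤)))ᶜ ↔ _
    refine Iff.trans ?_ (mem_outOpen_iff fs.toList x).symm
    have hb : ∀ f : Γ(X, ⊤), X.isoSpec.inv.base x ∈ X.basicOpen f ↔ f ∉ x.asIdeal := fun f => by
      rw [← Scheme.toSpecΓ_preimage_basicOpen]
      change X.isoSpec.hom.base (X.isoSpec.inv.base x) ∈ PrimeSpectrum.basicOpen f ↔ _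
      rw [← Scheme.Hom.comp_apply, Iso.inv_hom_id]
      rfl
    rw [Set.mem_compl_iff, Scheme.mem_zeroLocus_iff]
    simp only [not_forall, not_not, Finset.mem_coe, Finset.mem_toList, hb, exists_prop]
  obtain ⟨P, α, hP, hPV, hα⟩ := exists_approx_affine X fs.toList V hl E hq
    ((isPseudoCoherentD_iff _ _).1 hpc) fun i hi => by
      rw [hV]
      exact hsupp i (by rwa [Finset.length_toList] at hi)
  exact ⟨P, α, hP, fun i => (support_subset_of_isZero_restrictD V P hPV i).trans hV.subset, hα.1, hα.2⟩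

end Groth.Agent.S7261
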