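import Groth.Statements.S7275

import Groth.Agent.PerfD40.FlatFP
-- import your own Groth.Agent.* helpers here

set_option autoImplicit false
universe u
open CategoryTheory CategoryTheory.Limits AlgebraicGeometry
attribute [local instance] HasDerivedCategory.standard
open Perf

open Groth.Agent.KFlatLib Groth.Agent.PerfD40

namespace Groth.Agent.S7275

/-- Let f : X ⟶ S be flat and locally of finite presentation and E ∈ D(O_X). Then E is S-perfect
(pseudo-coherent, and locally on X represented by a bounded complex of O_X-modules flat over S) if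
and only if E satisfies the alternative definition of relative perfectness: locally on X, E becomes
isomorphic in the derived category to a bounded complex whose terms are O_X-modules of finite
presentation that are S-flat (every point has an open neighbourhood V such that the restriction to V
of any representing complex is isomorphic in D(O_V) to such a complex). -/
theorem result {X S : Scheme.{u}} (f : X ⟶ S)
    [Flat f] [LocallyOfFinitePresentation f] (E : DCoh.D X) :
    ((∀ m : ℤ, DCoh.IsPseudoCoherentD m E) ∧ DCoh.LocHasFiniteRelTorDim f E) ↔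
      ∀ x : X, ∃ V : X.Opens, x ∈ V ∧ ∀ F : CochainComplex X.Modules ℤ, Nonempty (DCoh.toD X F ≅ E) →
        ∃ (G : CochainComplex (V : Scheme.{u}).Modules ℤ) (a b : ℤ), DCoh.VanishesOutside G a b ∧
          (∀ i : ℤ, CohB1.IsFP (G.X i) ∧ FlatMod.IsFlatOver (V.ι ≫ f) (G.X i)) ∧
          Nonempty (DerivedCategory.Q.obj ((DCoh.restrictCx V).obj F) ≅ DerivedCategory.Q.obj G) := by
  constructor
  · rintro ⟨hpc, htor⟩ x
    obtain ⟨W, G, a, b, hx, h1, h2, hG, ⟨e⟩⟩ :=
      exists_flat_fp_model f E (fun m => (isPseudoCoherentD_iff m E).1 (hpc m)) htor x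
    refine ⟨W, hx, fun F ⟨eF⟩ => ⟨G, a, b, fun i hi => ?_, hG,
      ⟨((rhoQ W.ι).app F).symm ≪≫ (rho W.ι).mapIso eF ≪≫ e.symm⟩⟩⟩
    rcases hi with hi | hi
    · exact G.isZero_of_isStrictlyGE a i hi
    · exact G.isZero_of_isStrictlyLE b i hi
  · intro h
    choose V hx hV using h
    have hm : ∀ x : X, ∃ (G : CochainComplex (V x : Scheme.{u}).Modules ℤ) (a b : ℤ),
        DCoh.VanishesOutside G a b ∧
        (∀ i : ℤ, CohB1.IsFP (G.X i) ∧ FlatMod.IsFlatOver ((V x).ι ≫ f) (G.X i)) ∧
        Nonempty ((rho (V x).ι).obj E ≅ DerivedCategory.Q.obj G) := fun x => by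
      obtain ⟨G, a, b, hG, hG', ⟨e⟩⟩ := hV x (DerivedCategory.Q.objPreimage E) ⟨repIso E⟩
      exact ⟨G, a, b, hG, hG',
        ⟨(rho (V x).ι).mapIso (repIso E).symm ≪≫ (rhoQ (V x).ι).app _ ≪≫ e⟩⟩
    refine ⟨fun m => (isPseudoCoherentD_iff m E).2 (LocPC.of_local fun x => ?_),
      (locRelTor_iff f E).2 fun x => ?_⟩
    · obtain ⟨G, a, b, hG, hG', ⟨e⟩⟩ := hm x
      exact ⟨_, (V x).ι, inferInstance, ⟨⟨x, hx x⟩, rfl⟩, (locPC_of_flat_fp_terms ((V x).ι ≫ f) G b
        (fun i hi => hG i (Or.inr hi)) (fun i => (hG' i).2) (fun i => (hG' i).1) m).of_iso e.symm⟩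
    · obtain ⟨G, a, b, hG, hG', ⟨e⟩⟩ := hm x
      exact ⟨V x, a, b, hx x,
        ((hasAmp_iff _ a b _).1 ⟨G, hG, fun i => (hG' i).2, ⟨Iso.refl _⟩⟩).of_iso e.symm⟩

end Groth.Agent.S7275
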