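import Groth.Statements.S7278

import Groth.Agent.PerfD40.RelAmpLocal
import Groth.Agent.PerfD40.RelAmpAffine
import Groth.Agent.KFlatLib.Scheme.RHomLocal
import Groth.Agent.H9Misc.DRingPC
import Groth.Agent.RelPC13.Imm
-- import your own Groth.Agent.* helpers here

set_option autoImplicit false
universe u
open CategoryTheory CategoryTheory.Limits AlgebraicGeometry Opposite
attribute [local instance] HasDerivedCategory.standard
open Perf

open Groth.Agent.KFlatLib Groth.Agent.PerfD40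

set_option linter.style.haveILetI false
set_option backward.isDefEq.respectTransparency false

namespace Groth.Agent.S7278

/-- Algebraic perfectness of a complex on one affine piece is relative perfectness there. -/
lemma piece_iff {X S : Scheme.{u}} (f : X ⟶ S) [Flat f]
    [∀ R : CommRingCat.{u}, PreservesFiniteLimits (tilde.functor R)]
    (E : DCoh.D X) {U : X.Opens} (hU : IsAffineOpen U) {V : S.Opens} (hV : IsAffineOpen V)
    (hUV : U ≤ f ⁻¹ᵁ V) (M : DerivedCategory (ModuleCat.{u} Γ(X, U)))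
    (e : (DCoh.restrictD hU.isoSpec.inv).obj ((DCoh.restrictD U.ι).obj E) ≅
      (DCoh.tildeD Γ(X, U)).obj M) :
    ((∀ m : ℤ, LocPC m ((rho hU.fromSpec).obj E)) ∧
        DCoh.LocHasFiniteRelTorDim (hU.fromSpec ≫ f) ((rho hU.fromSpec).obj E)) ↔
      @Dual2.IsRelPerfect Γ(S, V) Γ(X, U) _ _ (f.appLE V U hUV).hom.toAlgebra M := by
  letI : Algebra Γ(S, V) Γ(X, U) := (f.appLE V U hUV).hom.toAlgebra
  haveI : Module.Flat Γ(S, V) Γ(X, U) := f.flat_appLE hV hU hUV
  have e' : (rho hU.fromSpec).obj E ≅ (DCoh.tildeD Γ(X, U)).obj M :=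
    (rhoComp hU.isoSpec.inv U.ι hU.fromSpec rfl E).symm ≪≫ e
  refine and_congr ?_ ?_
  · refine (forall_congr' fun m => ?_).trans (H9Misc.DRingPC.pc'_iff M).symm
    exact (Iff.intro (fun h => h.of_iso e') fun h => h.of_iso e'.symm).trans
      (RelPC13.locPC_tildeD_iff (R := Γ(X, U)) m M)
  · rw [show hU.fromSpec ≫ f = Spec.map (f.appLE V U hUV) ≫ hV.fromSpec from
      (hV.SpecMap_appLE_fromSpec f hU hUV).symm, locRelTor_comp_base]
    exact (Iff.intro (fun h => locRelTor_of_iso _ h e') fun h => locRelTor_of_iso _ h e'.symm).trans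
      (locRelTor_tildeD_iff Γ(S, V) Γ(X, U) M)


/-- Let f : X ⟶ S be flat and locally of finite presentation and E an object of D(O_X) with
quasi-coherent cohomology sheaves (tilde recorded as exact). For affine opens U ⊆ X and V ⊆ S with
f(U) ⊆ V, say that E is algebraically perfect on U over V when every M ∈ D(Γ(U, O_X)) whose
associated object M~ on Spec Γ(U, O_X) is isomorphic to the restriction E|_U (transported along U ≅
Spec Γ(U, O_X)) is Γ(V, O_S)-perfect: pseudo-coherent as a complex of Γ(U, O_X)-modules and of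
finite tor dimension over Γ(V, O_S) through f^♯ (such M exist and are unique up to isomorphism,
namely RΓ(U, E)). Then: E is S-perfect (pseudo-coherent, and locally on X represented by a bounded
complex of O_X-modules flat over S) if and only if E is algebraically perfect on every affine open U
over every affine open V with U ⊆ f⁻¹V; and E is S-perfect as soon as this holds for the members
U_ij of affine open coverings f⁻¹V_i = ⋃ U_ij attached to an affine open covering S = ⋃ V_i. -/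
theorem result {X S : Scheme.{u}} (f : X ⟶ S) [Flat f] [LocallyOfFinitePresentation f]
    [∀ R : CommRingCat.{u}, PreservesFiniteLimits (tilde.functor R)]
    (E : DCoh.D X) (hE : DCoh.IsQCohD E) :
    (((∀ m : ℤ, DCoh.IsPseudoCoherentD m E) ∧ DCoh.LocHasFiniteRelTorDim f E) ↔
      ∀ (U : X.Opens) (hU : IsAffineOpen U) (V : S.Opens) (hV : IsAffineOpen V) (hUV : U ≤ f ⁻¹ᵁ V)
        (M : DerivedCategory (ModuleCat.{u} Γ(X, U))),
        Nonempty ((DCoh.restrictD hU.isoSpec.inv).obj ((DCoh.restrictD U.ι).obj E) ≅ (DCoh.tildeD Γ(X, U)).obj M) →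
          @Dual2.IsRelPerfect Γ(S, V) Γ(X, U) _ _ (f.appLE V U hUV).hom.toAlgebra M) ∧
    (∀ (ι : Type u) (V : ι → S.Opens) (hV : ∀ i, IsAffineOpen (V i)) (hVcov : ⨆ i, V i = ⊤)
        (κ : ι → Type u) (U : ∀ i, κ i → X.Opens) (hU : ∀ i j, IsAffineOpen (U i j))
        (hUV : ∀ i j, U i j ≤ f ⁻¹ᵁ V i) (hUcov : ∀ i, ⨆ j, U i j = f ⁻¹ᵁ V i),
        (∀ (i : ι) (j : κ i) (M : DerivedCategory (ModuleCat.{u} Γ(X, U i j))),
          Nonempty ((DCoh.restrictD (hU i j).isoSpec.inv).obj ((DCoh.restrictD (U i j).ι).obj E) ≅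
              (DCoh.tildeD Γ(X, U i j)).obj M) →
            @Dual2.IsRelPerfect Γ(S, V i) Γ(X, U i j) _ _ (f.appLE (V i) (U i j) (hUV i j)).hom.toAlgebra M) →
        (∀ m : ℤ, DCoh.IsPseudoCoherentD m E) ∧ DCoh.LocHasFiniteRelTorDim f E) := by
  have fwd : ((∀ m : ℤ, DCoh.IsPseudoCoherentD m E) ∧ DCoh.LocHasFiniteRelTorDim f E) →
      ∀ (U : X.Opens) (hU : IsAffineOpen U),
        (∀ m : ℤ, LocPC m ((rho hU.fromSpec).obj E)) ∧
          DCoh.LocHasFiniteRelTorDim (hU.fromSpec ≫ f) ((rho hU.fromSpec).obj E) := fun h U hU =>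
    ⟨fun m => ((isPseudoCoherentD_iff m E).1 (h.1 m)).restrict _, locRelTor_restrict f _ _ rfl h.2⟩
  have bwd : ∀ {κ : Type u} (U : κ → X.Opens) (hU : ∀ j, IsAffineOpen (U j)),
      (∀ x : X, ∃ j, x ∈ U j) →
      (∀ j, (∀ m : ℤ, LocPC m ((rho (hU j).fromSpec).obj E)) ∧
          DCoh.LocHasFiniteRelTorDim ((hU j).fromSpec ≫ f) ((rho (hU j).fromSpec).obj E)) →
      (∀ m : ℤ, DCoh.IsPseudoCoherentD m E) ∧ DCoh.LocHasFiniteRelTorDim f E := fun U hU hcov h =>
    ⟨fun m => (isPseudoCoherentD_iff m E).2 (LocPC.of_local fun x => by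
        obtain ⟨j, hx⟩ := hcov x
        exact ⟨_, (hU j).fromSpec, inferInstance, by rw [(hU j).range_fromSpec]; exact hx, (h j).1 m⟩),
      locRelTor_of_cover f fun x => by
        obtain ⟨j, hx⟩ := hcov x
        exact ⟨_, (hU j).fromSpec, inferInstance, by rw [(hU j).range_fromSpec]; exact hx, (h j).2⟩⟩
  have exM : ∀ (U : X.Opens) (hU : IsAffineOpen U), ∃ M : DerivedCategory (ModuleCat.{u} Γ(X, U)),
      Nonempty ((DCoh.restrictD hU.isoSpec.inv).obj ((DCoh.restrictD U.ι).obj E) ≅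
        (DCoh.tildeD Γ(X, U)).obj M) := fun U hU => by
    obtain ⟨M, ⟨e⟩⟩ := exists_tildeD_iso (R := Γ(X, U))
      (isQCohD_rho hU.isoSpec.inv (isQCohD_rho U.ι hE))
    exact ⟨M, ⟨e.symm⟩⟩
  have part2 : ∀ (ι : Type u) (V : ι → S.Opens), (∀ i, IsAffineOpen (V i)) → (⨆ i, V i = ⊤) →
      ∀ (κ : ι → Type u) (U : ∀ i, κ i → X.Opens) (hU : ∀ i j, IsAffineOpen (U i j))
        (hUV : ∀ i j, U i j ≤ f ⁻¹ᵁ V i), (∀ i, ⨆ j, U i j = f ⁻¹ᵁ V i) →
        (∀ (i : ι) (j : κ i) (M : DerivedCategory (ModuleCat.{u} Γ(X, U i j))),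
          Nonempty ((DCoh.restrictD (hU i j).isoSpec.inv).obj ((DCoh.restrictD (U i j).ι).obj E) ≅
              (DCoh.tildeD Γ(X, U i j)).obj M) →
            @Dual2.IsRelPerfect Γ(S, V i) Γ(X, U i j) _ _ (f.appLE (V i) (U i j) (hUV i j)).hom.toAlgebra M) →
        (∀ m : ℤ, DCoh.IsPseudoCoherentD m E) ∧ DCoh.LocHasFiniteRelTorDim f E := by
    intro ι V hV hVcov κ U hU hUV hUcov h
    refine bwd (fun p : Σ i, κ i => U p.1 p.2) (fun p => hU p.1 p.2) (fun x => ?_) fun p => ?_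
    · obtain ⟨i, hi⟩ := TopologicalSpace.Opens.mem_iSup.1
        (show f.base x ∈ ⨆ i, V i by rw [hVcov]; trivial)
      obtain ⟨j, hj⟩ := TopologicalSpace.Opens.mem_iSup.1 (show x ∈ ⨆ j, U i j by rw [hUcov i]; exact hi)
      exact ⟨⟨i, j⟩, hj⟩
    · obtain ⟨M, ⟨e⟩⟩ := exM _ (hU p.1 p.2)
      exact (piece_iff f E (hU p.1 p.2) (hV p.1) (hUV p.1 p.2) M e).2 (h p.1 p.2 M ⟨e⟩)
  refine ⟨⟨fun h U hU V hV hUV M ⟨e⟩ => (piece_iff f E hU hV hUV M e).1 (fwd h U hU), fun h => ?_⟩,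
    fun ι V hV hVcov κ U hU hUV hUcov h' => part2 ι V hV hVcov κ U hU hUV hUcov h'⟩
  exact part2 S.affineOpens (fun V => V.1) (fun V => V.2) (iSup_affineOpens_eq_top S)
    (fun V => {U : X.affineOpens // U.1 ≤ f ⁻¹ᵁ V.1}) (fun _ U => U.1.1) (fun _ U => U.1.2)
    (fun _ U => U.2) (fun V => le_antisymm (iSup_le fun U => U.2) fun x hx => by
      obtain ⟨_, ⟨W, hW, rfl⟩, hxW, hWV⟩ :=
        X.isBasis_affineOpens.exists_subset_of_mem_open hx (f ⁻¹ᵁ V.1).2
      exact TopologicalSpace.Opens.mem_iSup.2 ⟨⟨⟨W, hW⟩, hWV⟩, hxW⟩)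
    fun V U M hM => h U.1.1 U.1.2 V.1 V.2 U.2 M hM

end Groth.Agent.S7278
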