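import Groth.Statements.S7288
import Groth.Agent.EtModLib.EpsMod
-- import your own Groth.Agent.* helpers here

set_option autoImplicit false
open CategoryTheory CategoryTheory.Limits AlgebraicGeometry Opposite
universe u
open EtModW

namespace Groth.Agent.S7288

variable {Λ : Type (u + 1)} [CommRing Λ] {X : Scheme.{u}} [ProEtS.EpsCont X]

theorem prop_kernel_cokernel {F G : EtModW.ModP Λ X} (φ : F ⟶ G) (hF : (EtModW.epsPullMod Λ X).essImage F)
    (hG : (EtModW.epsPullMod Λ X).essImage G) :
    (EtModW.epsPullMod Λ X).essImage (kernel φ) ∧ (EtModW.epsPullMod Λ X).essImage (cokernel φ) := by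
  obtain ⟨A, ⟨a⟩⟩ := hF
  obtain ⟨B, ⟨b⟩⟩ := hG
  let ψ := (EtModW.epsPullMod Λ X).preimage (a.hom ≫ φ ≫ b.inv)
  have h : (EtModW.epsPullMod Λ X).map ψ ≫ b.hom = a.hom ≫ φ := by
    simp [ψ]
  exact ⟨⟨kernel ψ, ⟨PreservesKernel.iso (EtModW.epsPullMod Λ X) ψ ≪≫ kernel.mapIso _ φ a b h⟩⟩,
    ⟨cokernel ψ, ⟨PreservesCokernel.iso (EtModW.epsPullMod Λ X) ψ ≪≫ cokernel.mapIso _ φ a b h⟩⟩⟩

/-- Let X be a scheme and Λ a ring. The essential image of the pullback functor from sheaves of
Λ-modules on the small etale site of X to sheaves of Λ-modules on the small pro-etale site is a weak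
Serre subcategory: the kernel and the cokernel of a morphism between objects of the essential image
lie in it, and an extension of two objects of the essential image lies in it. (Continuity of the
inclusion of the etale site into the pro-etale site is carried as a binder.) -/
theorem result (Λ : Type (u + 1)) [CommRing Λ] (X : Scheme.{u})
    [ProEtS.EpsCont X] :
    (∀ (F G : EtModW.ModP Λ X) (φ : F ⟶ G), (EtModW.epsPullMod Λ X).essImage F →
      (EtModW.epsPullMod Λ X).essImage G →
        (EtModW.epsPullMod Λ X).essImage (kernel φ) ∧ (EtModW.epsPullMod Λ X).essImage (cokernel φ)) ∧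
    ∀ (T : ShortComplex (EtModW.ModP Λ X)), T.ShortExact →
      (EtModW.epsPullMod Λ X).essImage T.X₁ → (EtModW.epsPullMod Λ X).essImage T.X₃ →
        (EtModW.epsPullMod Λ X).essImage T.X₂ := by
  refine ⟨fun F G φ hF hG => prop_kernel_cokernel φ hF hG, fun T hT h₁ h₃ => ?_⟩
  have := EtModLib.essImage_X₂ hT h₁ h₃
  exact ⟨_, ⟨asIso ((EtModLib.epsModAdj Λ X).counit.app T.X₂)⟩⟩

end Groth.Agent.S7288
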