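import Groth.Statements.S7292
import Groth.Agent.HTop83.PhV
import Groth.Agent.HTop83.FPLimit
import Groth.Agent.HTop83.LimV
import Groth.Agent.HTopCov.Spec
import Groth.Agent.HTopCov.Sheaf

set_option autoImplicit false
open CategoryTheory CategoryTheory.Limits AlgebraicGeometry Opposite
universe w u
open HTop

namespace Groth.Agent.S7292

/-- Let f be a morphism of affine schemes from X to Y. The following are equivalent: (1) the one-member
family given by f is a standard V covering; (2) X (with f) is the limit, as a scheme over Y, of a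
cofiltered system of affine schemes X_i over Y such that each one-member family X_i over Y is a ph
covering; (3) the same with each X_i over Y an h covering. -/
theorem result {X Y : Scheme.{u}} [IsAffine X] [IsAffine Y] (f : X ⟶ Y) :
    List.TFAE
      [HTop.IsStandardV (PreZeroHypercover.singleton.{w} f),
       ∃ (I : Type u) (_ : SmallCategory I) (_ : IsCofiltered I) (D : I ⥤ Over Y) (c : Cone D)
          (_ : IsLimit ((Over.forget Y).mapCone c)) (_ : c.pt ≅ Over.mk f),
          (∀ i, IsAffine (D.obj i).left) ∧ ∀ i, HTop.IsPhCover (PreZeroHypercover.singleton.{w} (D.obj i).hom),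
       ∃ (I : Type u) (_ : SmallCategory I) (_ : IsCofiltered I) (D : I ⥤ Over Y) (c : Cone D)
          (_ : IsLimit ((Over.forget Y).mapCone c)) (_ : c.pt ≅ Over.mk f),
          (∀ i, IsAffine (D.obj i).left) ∧ ∀ i, HTop.IsHCover (PreZeroHypercover.singleton.{w} (D.obj i).hom)] := by
  have hiso : ∀ {P : Over Y}, (P ≅ Over.mk f) → IsAffine P.left →
      (IsStandardV (PreZeroHypercover.singleton.{w} P.hom) ↔ IsStandardV (PreZeroHypercover.singleton.{w} f)) := by
    intro P e hP
    have key : ∀ {X₁ X₂ : Scheme.{u}} (f₁ : X₁ ⟶ Y) (f₂ : X₂ ⟶ Y) (a : X₁ ⟶ X₂), a ≫ f₂ = f₁ → IsAffine X₂ →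
        IsStandardV (PreZeroHypercover.singleton.{w} f₁) → IsStandardV (PreZeroHypercover.singleton.{w} f₂) := by
      intro X₁ X₂ f₁ f₂ a ha hX h
      refine ⟨inferInstance, inferInstanceAs (Finite PUnit), fun _ => hX, fun V _ _ g => ?_⟩
      obtain ⟨W, hW, hW', φ, hφ, j, l, hl⟩ := h.lift V g
      refine ⟨W, hW, hW', φ, hφ, PUnit.unit, (show Spec W ⟶ X₁ from l) ≫ a, ?_⟩
      show ((show Spec W ⟶ X₁ from l) ≫ a) ≫ f₂ = _
      rw [Category.assoc, ha]
      exact hl
    exact ⟨key _ _ e.hom.left (Over.w e.hom) inferInstance, key _ _ e.inv.left (Over.w e.inv) hP⟩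
  have haff : ∀ {P : Over Y}, (P ≅ Over.mk f) → IsAffine P.left := fun {P} e =>
    haveI : IsIso e.hom.left := inferInstanceAs (IsIso ((Over.forget Y).mapIso e).hom); haveI : IsAffine (Over.mk f).left := ‹IsAffine X›; .of_isIso e.hom.left
  tfae_have 1 → 3 := fun h => by
    obtain ⟨I, _, _, D, c, hc, e, ha, hp⟩ := Groth.Agent.HTop83.exists_fp_limit f
    haveI := ha
    refine ⟨I, inferInstance, inferInstance, D, c, hc, e, ha, fun i => ⟨fun _ => hp i, ?_⟩⟩
    exact Groth.Agent.HTopCov.isVCover_of_standardV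
      ((Groth.Agent.HTop83.isStandardV_of_isLimit_iff D c hc).1 ((hiso e (haff e)).2 h) i)
  tfae_have 3 → 2 := fun ⟨I, _, _, D, c, hc, e, ha, hp⟩ =>
    ⟨I, inferInstance, inferInstance, D, c, hc, e, ha,
      fun i => Groth.Agent.HTop83.isPhCover_of_isVCover _ (hp i).1 (hp i).2⟩
  tfae_have 2 → 1 := fun ⟨I, _, _, D, c, hc, e, ha, hp⟩ => by
    haveI := ha
    refine (hiso e (haff e)).1 ((Groth.Agent.HTop83.isStandardV_of_isLimit_iff D c hc).2 fun i => ?_)
    refine ⟨inferInstance, inferInstanceAs (Finite PUnit), fun _ => ha i,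
      Groth.Agent.HTopCov.hasValLift_of_isVCover fun U => ?_⟩
    obtain ⟨F, hF, href⟩ := (hp i).2 U
    exact ⟨F, Groth.Agent.HTopCov.standardV_of_standardPh F hF, href⟩
  tfae_finish

end Groth.Agent.S7292
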