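import Groth.Statements.S7308
import Groth.Agent.ResSurf.ContractFactor

set_option autoImplicit false
universe u
open CategoryTheory CategoryTheory.Limits AlgebraicGeometry
open Resolve

namespace Groth.Agent.S7308

/-- Let X be a Noetherian scheme and ι : E → X a closed immersion which is an exceptional curve of the
first kind. A contraction of E, if it exists, is unique up to unique isomorphism: for contractions
b₁ : X → X₁ and b₂ : X → X₂ of E there is a unique isomorphism e : X₁ ≅ X₂ with b₁ ≫ e = b₂. -/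
theorem result {E X X₁ X₂ : Scheme.{u}} [IsNoetherian X] (ι : E ⟶ X) [IsClosedImmersion ι]
    (hE : Models.IsExcCurve ι) (b₁ : X ⟶ X₁) (hb₁ : Models.IsContractionOf ι b₁) (b₂ : X ⟶ X₂) (hb₂ : Models.IsContractionOf ι b₂) :
    ∃! e : X₁ ≅ X₂, b₁ ≫ e.hom = b₂ := by
  haveI := hb₁.2.1
  haveI := hb₂.2.1
  obtain ⟨-, -, y₁, -, h₁, -⟩ := id hb₁
  obtain ⟨-, -, y₂, -, h₂, -⟩ := id hb₂
  obtain ⟨u, hu, huu⟩ := Groth.Agent.ResSurf.ContractFactor.existsUnique_factor b₁ ι hE hb₁ b₂ y₂ h₂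
  obtain ⟨v, hv, -⟩ := Groth.Agent.ResSurf.ContractFactor.existsUnique_factor b₂ ι hE hb₂ b₁ y₁ h₁
  obtain ⟨w₁, -, hw₁⟩ := Groth.Agent.ResSurf.ContractFactor.existsUnique_factor b₁ ι hE hb₁ b₁ y₁ h₁
  obtain ⟨w₂, -, hw₂⟩ := Groth.Agent.ResSurf.ContractFactor.existsUnique_factor b₂ ι hE hb₂ b₂ y₂ h₂
  refine ⟨⟨u, v, (hw₁ (u ≫ v) ?_).trans (hw₁ (𝟙 _) (Category.comp_id _)).symm,
    (hw₂ (v ≫ u) ?_).trans (hw₂ (𝟙 _) (Category.comp_id _)).symm⟩, hu, fun e he => Iso.ext (huu e.hom he)⟩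
  · simp only [← Category.assoc, hu, hv]
  · simp only [← Category.assoc, hu, hv]

end Groth.Agent.S7308
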