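import Groth.Statements.S7321
import Groth.Agent.NormCurve.Scheme
import Groth.Agent.ResSurf.AlterNorm
import Groth.Agent.ResSurf.RegularModel
import Mathlib.RingTheory.RegularLocalRing.Defs

set_option autoImplicit false
universe u
open CategoryTheory CategoryTheory.Limits AlgebraicGeometry
open Resolve

namespace Groth.Agent.S7321

/-- Let Y be an integral Noetherian scheme of dimension one. Then (1) there is an alteration X → Y with
X regular, if and only if (2) Y has a resolution of singularities, i.e. a proper morphism X → Y from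
an integral regular scheme which is an isomorphism over a nonempty open of Y; and (2) holds if and
only if (4) the normalization morphism of Y is finite. (A further equivalent condition, a finite
sequence of blowings up in closed points ending in a regular scheme, is stated separately. The
quasi-compactness and quasi-separatedness binders on Spec K(Y) → Y always hold; they are needed only
to form the normalization.) -/
theorem result (Y : Scheme.{u}) [IsIntegral Y] [IsNoetherian Y]
    (hdim : topologicalKrullDim Y = 1)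
    [QuasiCompact (Y.fromSpecStalk (genericPoint Y))] [QuasiSeparated (Y.fromSpecStalk (genericPoint Y))] :
    ((∃ (X : Scheme.{u}) (g : X ⟶ Y), Curv2.IsAlteration g ∧ ∀ x : X, IsRegularLocalRing (X.presheaf.stalk x)) ↔
      (∃ (X : Scheme.{u}) (g : X ⟶ Y), IsProper g ∧ IsIntegral X ∧
        (∃ V : Y.Opens, (V : Set Y).Nonempty ∧ IsIso (g ∣_ V)) ∧ ∀ x : X, IsRegularLocalRing (X.presheaf.stalk x))) ∧
    ((∃ (X : Scheme.{u}) (g : X ⟶ Y), IsProper g ∧ IsIntegral X ∧
        (∃ V : Y.Opens, (V : Set Y).Nonempty ∧ IsIso (g ∣_ V)) ∧ ∀ x : X, IsRegularLocalRing (X.presheaf.stalk x)) ↔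
      IsFinite (Curv2.normalizationι Y)) := by
  have h21 : (∃ (X : Scheme.{u}) (g : X ⟶ Y), IsProper g ∧ IsIntegral X ∧
        (∃ V : Y.Opens, (V : Set Y).Nonempty ∧ IsIso (g ∣_ V)) ∧ ∀ x : X, IsRegularLocalRing (X.presheaf.stalk x)) →
      ∃ (X : Scheme.{u}) (g : X ⟶ Y), Curv2.IsAlteration g ∧ ∀ x : X, IsRegularLocalRing (X.presheaf.stalk x) := by
    rintro ⟨X, g, hp, hi, ⟨V, hV, hiso⟩, hreg⟩
    haveI := hiso
    refine ⟨X, g, ⟨hp, hi, inferInstance, ?_, V, hV, inferInstance⟩, hreg⟩
    refine ⟨(V.isOpen.dense hV).mono ?_⟩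
    intro v hv
    obtain ⟨w, hw⟩ := (g ∣_ V).surjective ⟨v, hv⟩
    exact ⟨w.1, (morphismRestrict_base_coe g V w).symm.trans (congrArg Subtype.val hw)⟩
  have h14 : (∃ (X : Scheme.{u}) (g : X ⟶ Y), Curv2.IsAlteration g ∧ ∀ x : X, IsRegularLocalRing (X.presheaf.stalk x)) →
      IsFinite (Curv2.normalizationι Y) := by
    rintro ⟨X, g, ⟨hp, hi, -, hd, -⟩, hreg⟩
    exact Groth.Agent.ResSurf.AlterNorm.isFinite_normalizationι
      (Groth.Agent.ResSurf.RegularFactor.isNormalScheme_of_regular hreg) g
  have h42 : IsFinite (Curv2.normalizationι Y) →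
      ∃ (X : Scheme.{u}) (g : X ⟶ Y), IsProper g ∧ IsIntegral X ∧
        (∃ V : Y.Opens, (V : Set Y).Nonempty ∧ IsIso (g ∣_ V)) ∧ ∀ x : X, IsRegularLocalRing (X.presheaf.stalk x) := by
    intro hfin
    haveI : IsIntegral (Curv2.normalization Y) :=
      inferInstanceAs (IsIntegral (Y.fromSpecStalk (genericPoint Y)).normalization)
    haveI : IsLocallyNoetherian (Curv2.normalization Y) :=
      Groth.Agent.NormCurve.isLocallyNoetherian_normalization Y hdim.le
    refine ⟨_, Curv2.normalizationι Y, inferInstance, inferInstance,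
      Groth.Agent.ResSurf.RegularModel.exists_isIso_restrict _ (Groth.Agent.ResSurf.isBirat_normalizationι Y),
      fun y => ?_⟩
    obtain ⟨_, ⟨V, hV, rfl⟩, hyV, -⟩ := (Curv2.normalization Y).isBasis_affineOpens.exists_subset_of_mem_open
      (Set.mem_univ y) isOpen_univ
    haveI := Groth.Agent.NormCurve.isDedekindDomain_affineOpen Y hdim.le hV ⟨y, hyV⟩
    letI := (Curv2.normalization Y).presheaf.algebra_section_stalk ⟨y, hyV⟩
    haveI := hV.isLocalization_stalk ⟨y, hyV⟩
    haveI : IsDedekindDomain ((Curv2.normalization Y).presheaf.stalk y) :=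
      IsLocalization.isDedekindDomain Γ(Curv2.normalization Y, V)
        (hV.primeIdealOf ⟨y, hyV⟩).asIdeal.primeCompl_le_nonZeroDivisors _
    infer_instance
  exact ⟨⟨fun h => h42 (h14 h), h21⟩, ⟨fun h => h14 (h21 h), h42⟩⟩

end Groth.Agent.S7321
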