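import Groth.Statements.S7323
import Groth.Agent.ResSurf.BlowP1

set_option autoImplicit false
universe u
open CategoryTheory CategoryTheory.Limits AlgebraicGeometry
open Resolve

namespace Groth.Agent.S7323

theorem isExcCurve_of_iso {E Y : Scheme.{u}} (ι : E ⟶ Y) (hE : BlowUp.IsEffCartierIdeal ι.ker)
    (R : Type u) [c : CommRing R] (F : Field R) (h : F.toCommRing = c) (e : CohB1.ProjSpace 1 R ≅ E)
    (he : Nonempty ((Scheme.Modules.pullback (e.hom ≫ ι)).obj (ClSub.idealMod ι.ker) ≅
      Twist.twistProjSpace 1 R 1)) : Models.IsExcCurve ι := by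
  subst h
  exact ⟨hE, R, F, e, he⟩

/-- Let (A, m, κ) be a regular local ring of dimension two and b : X → Spec A the blowing up in m, with
exceptional divisor E ⊂ X and its ideal sheaf I_E = O_X(-E). Then there is a closed immersion r : X
→ P^1_A over Spec A such that O_X(E) = r^* O(-1), i.e. r^* O(1) ≅ I_E; and E is an exceptional curve
of the first kind: an effective Cartier divisor isomorphic to a projective line over a field, with
conormal sheaf pulling back to O(1). (The published statement identifies E with P^1_κ through r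
itself; this row only asserts that some field and some isomorphism with a projective line exist.) -/
theorem result (A : Type u) [CommRing A] [IsRegularLocalRing A] (hA : ringKrullDim A = 2)
    (X : Scheme.{u}) (b : X ⟶ Spec (CommRingCat.of A)) (hb : BlowUp.IsBlowUp b (Curv2.idealSheaf A (IsLocalRing.maximalIdeal A))) :
    (∃ r : X ⟶ CohB1.ProjSpace 1 A, IsClosedImmersion r ∧ r ≫ CohB1.ProjSpace.toSpec 1 A = b ∧
      Nonempty ((Scheme.Modules.pullback r).obj (Twist.twistProjSpace 1 A 1) ≅
        ClSub.idealMod (BlowUp.exceptional b (Curv2.idealSheaf A (IsLocalRing.maximalIdeal A))))) ∧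
    Models.IsExcCurve (BlowUp.exceptional b (Curv2.idealSheaf A (IsLocalRing.maximalIdeal A))).subschemeι := by
  obtain ⟨x, hx, hxm⟩ := Groth.Agent.ResSurf.exists_isQuasiReg_pair A hA
  have hI : Curv2.idealSheaf A (IsLocalRing.maximalIdeal A) =
      Groth.Agent.BlowUpLib.centre (Groth.Agent.ResSurf.seqIdeal x) := by
    rw [hxm]
    rfl
  rw [hI] at hb ⊢
  obtain ⟨σ, hσ⟩ := Groth.Agent.BlowUpLib.exists_iso hb (Groth.Agent.BlowUpLib.isBlowUp_local _)
  have hE : BlowUp.IsEffCartierIdeal
      (BlowUp.exceptional b (Groth.Agent.BlowUpLib.centre (Groth.Agent.ResSurf.seqIdeal x))).subschemeι.ker := by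
    rw [Scheme.IdealSheafData.ker_subschemeι]
    exact hb.1
  refine ⟨⟨σ.hom ≫ Groth.Agent.ResSurf.polyMap x, inferInstance, ?_,
    Groth.Agent.ResSurf.nonempty_pullback_twist_exceptional x b σ.hom hσ hb.1⟩, ?_⟩
  · rw [Category.assoc, Groth.Agent.ResSurf.polyMap_toSpec, hσ]
  · have : (Groth.Agent.ResSurf.seqIdeal x).IsMaximal := by
      rw [hxm]
      exact IsLocalRing.maximalIdeal.isMaximal A
    obtain ⟨e, he⟩ := Groth.Agent.ResSurf.exists_iso_exceptional hx b σ.hom hσ hb.1
    refine isExcCurve_of_iso _ hE (A ⧸ Groth.Agent.ResSurf.seqIdeal x)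
      (Ideal.Quotient.field (Groth.Agent.ResSurf.seqIdeal x)) (by with_unfolding_all rfl) e ?_
    rw [Scheme.IdealSheafData.ker_subschemeι]
    exact he

end Groth.Agent.S7323
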