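import Groth.Statements.S7326
import Groth.Agent.MdlSurf.PicVert
-- import your own Groth.Agent.* helpers here

set_option autoImplicit false
universe u
open CategoryTheory CategoryTheory.Limits AlgebraicGeometry
open Models
open scoped Groth.Agent.H23.PicMul

namespace Groth.Agent.S7326

/-- Let R be a discrete valuation ring with fraction field K, C a smooth proper curve over K with H^0(C,
O_C) = K, X a regular proper model of C, Γ_1, …, Γ_n the irreducible components of the closed fibre
with multiplicities m_i, d = gcd(m_i), and D = Σ (m_i/d) Γ_i the effective Cartier divisor with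
ideal sheaf I_D = Π I(Γ_i)^{m_i/d}. Then O_X(D) (any L with L ⊗ I_D ≅ O_X) has order dividing d in
Pic(X), i.e. L^{⊗ d} ≅ O_X, and the conormal sheaf I_D|_D, an invertible O_D-module, has order
dividing d in Pic(D). -/
theorem result (R : Type u) [CommRing R] [IsDomain R] [IsDiscreteValuationRing R]
    (C X : Scheme.{u}) (f : C ⟶ Spec (CommRingCat.of (FractionRing R))) (p : X ⟶ Spec (CommRingCat.of R))
    (hC : Curve.IsSmoothProperCurve (FractionRing R) C f) (hH0 : IsIso f.appTop)
    (hX : Models.IsRegularProperModel R X p C f)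
    {n : ℕ} (Γ : Fin n → ArSurf.VertComp R (Over.mk p)) (hΓ : Models.IsComponentList R (Over.mk p) Γ)
    (L : X.Modules)
    (hL : ClSub.IsInverseOf L (ClSub.idealMod (∏ i, (Γ i).ι.ker ^ (Models.mult R (Over.mk p) (Γ i) / Models.multGcd R (Over.mk p) Γ)))) :
    Nonempty (CohB1.tensorPow L (Models.multGcd R (Over.mk p) Γ) ≅ Coh.structureModule X) ∧
      Nonempty (CohB1.tensorPow ((Scheme.Modules.pullback
          (∏ i, (Γ i).ι.ker ^ (Models.mult R (Over.mk p) (Γ i) / Models.multGcd R (Over.mk p) Γ)).subschemeι).obj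
          (ClSub.idealMod (∏ i, (Γ i).ι.ker ^ (Models.mult R (Over.mk p) (Γ i) / Models.multGcd R (Over.mk p) Γ))))
          (Models.multGcd R (Over.mk p) Γ) ≅
        Coh.structureModule (∏ i, (Γ i).ι.ker ^ (Models.mult R (Over.mk p) (Γ i) / Models.multGcd R (Over.mk p) Γ)).subscheme) := by
  obtain ⟨Ls, hLs⟩ := MdlSurf.exists_inverses hC hX hΓ
  set d := Models.multGcd R (Over.mk p) Γ with hd
  set I := ∏ i, (Γ i).ι.ker ^ (Models.mult R (Over.mk p) (Γ i) / d) with hI
  have hI1 : PicF.cl (ClSub.idealMod I : X.Modules) ^ d = 1 := by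
    rw [show PicF.cl (ClSub.idealMod I : X.Modules) =
      ∏ i, PicF.cl (ClSub.idealMod (Γ i).ι.ker : X.Modules) ^ (Models.mult R (Over.mk p) (Γ i) / d) from
      MdlSurf.cl_idealMod_divIdeal hC hX hΓ _, ← Finset.prod_pow, ← MdlSurf.cl_idealMod_mult hC hX hΓ,
      MdlSurf.cl_idealMod_divIdeal hC hX hΓ]
    refine Finset.prod_congr rfl fun i _ => ?_
    rw [← pow_mul, mul_comm, ← MdlSurf.mult_eq_gcd_mul hC hX hΓ i]
  have hinv : PicF.cl L * PicF.cl (ClSub.idealMod I : X.Modules) = 1 := by
    rw [← H23.PicMul.cl_tensor, H23.PicMul.one_def]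
    exact H23.PicMul.cl_eq_iff.2 hL
  refine ⟨H23.PicMul.cl_eq_iff.1 ?_, H23.PicMul.cl_eq_iff.1 ?_⟩
  · have h1 := congrArg (fun z => z ^ d) hinv
    simp only [mul_pow, hI1, mul_one, one_pow] at h1
    rw [H23.PicMul.cl_tensorPow, h1, H23.PicMul.one_def]
  · rw [H23.PicMul.cl_tensorPow]
    show PicF.pullCl I.subschemeι (PicF.cl (ClSub.idealMod I : X.Modules)) ^ d = _
    rw [← H23.PicMul.pullCl_pow, hI1, H23.PicMul.pullCl_one, H23.PicMul.one_def]

end Groth.Agent.S7326
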