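import Groth.Statements.S7336
import Groth.Agent.ResSurf.FibreCurves

set_option autoImplicit false
universe u
open CategoryTheory CategoryTheory.Limits AlgebraicGeometry
open Resolve

namespace Groth.Agent.S7336

/-- Let (A, m) be a local Noetherian normal domain of dimension two and f : X → Spec A a proper morphism
from an integral scheme which is an isomorphism over some nonempty open and is not an isomorphism
(so that every irreducible component of the closed fibre is a curve). Then there is a nonzero a ∈ m
such that for every irreducible component C of the closed fibre, with generic point ξ, there are a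
closed point x ∈ C lying on no other component and a factorization a = g · q in O_{X,x} with g in
the maximal ideal of O_{X,x} and g not vanishing identically on C near x, i.e. the image of g in
O_{X,ξ} is a unit. -/
theorem result (A : Type u) [CommRing A] [IsDomain A] [IsLocalRing A] [IsNoetherianRing A]
    [IsIntegrallyClosed A] (hdim : ringKrullDim A = 2)
    (X : Scheme.{u}) (f : X ⟶ Spec (CommRingCat.of A)) [IsProper f] [IsIntegral X]
    (hbir : ∃ U : (Spec (CommRingCat.of A)).Opens, (U : Set (Spec (CommRingCat.of A))).Nonempty ∧ IsIso (f ∣_ U)) (hf : ¬ IsIso f) :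
    ∃ a : A, a ≠ 0 ∧ a ∈ IsLocalRing.maximalIdeal A ∧
      ∀ C ∈ irreducibleComponents ↥(f.base ⁻¹' {IsLocalRing.closedPoint A}),
        ∃ (x ξ : ↥(f.base ⁻¹' {IsLocalRing.closedPoint A})) (hξx : (ξ : X) ⤳ (x : X)),
          x ∈ C ∧ IsGenericPoint ξ C ∧ IsClosed ({(x : X)} : Set X) ∧
          (∀ C' ∈ irreducibleComponents ↥(f.base ⁻¹' {IsLocalRing.closedPoint A}), C' ≠ C → x ∉ C') ∧
          ∃ g q : X.presheaf.stalk (x : X), g ∈ IsLocalRing.maximalIdeal (X.presheaf.stalk (x : X)) ∧
            (X.presheaf.germ ⊤ (x : X) trivial).hom (Coh.toGlobal f a) = g * q ∧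
            IsUnit ((X.presheaf.stalkSpecializes hξx).hom g) := by
  obtain ⟨U, hU, hiso⟩ := hbir
  haveI := hiso
  have hb : ResSurf.IsBirat f := ResSurf.isBirat_of_isIso_restrict f U hU
  have hm : IsLocalRing.maximalIdeal A ≠ ⊥ := fun h => by
    rw [ringKrullDim_eq_zero_of_isField (IsLocalRing.isField_iff_maximalIdeal_eq.2 h)] at hdim
    exact absurd hdim (by norm_num)
  obtain ⟨a, ha, ham, hgood⟩ := ResSurf.FibreCurves.exists_good f hm hb hf
  refine ⟨a, ha, ham, fun C hC => ?_⟩
  obtain ⟨ξ, hgen, hmax⟩ := ResSurf.FibreCurves.exists_isMax_generic f hC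
  obtain ⟨x, h, hx, hxc, honly, g, q, hg, haq, hu⟩ := hgood ξ hmax
  refine ⟨⟨x, hx⟩, ξ, h, ?_, hgen, hxc, fun C' hC' hne hxC' => ?_, g, q, hg, ?_, hu⟩
  · rw [← hgen.def]
    exact specializes_iff_mem_closure.1 ((subtype_specializes_iff _ _).2 h)
  · obtain ⟨ξ', hgen', hmax'⟩ := ResSurf.FibreCurves.exists_isMax_generic f hC'
    have : ξ' = ξ := Subtype.ext (honly _ hmax' ((hgen'.specializes hxC').map continuous_subtype_val))
    exact hne (hgen'.def.symm.trans ((congrArg (fun p => closure {p}) this).trans hgen.def))
  · rw [← ResSurf.FibreCurves.base_eq_germ]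
    exact haq

end Groth.Agent.S7336
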