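import Groth.Statements.S7372
import Groth.Agent.ResSurf.CurveBlowups

set_option autoImplicit false
universe u
open CategoryTheory CategoryTheory.Limits AlgebraicGeometry
open Resolve

namespace Groth.Agent.S7372

/-- Let Y be an integral Noetherian scheme of dimension one. Then Y has a resolution of singularities (a
proper morphism X → Y from an integral scheme with regular local rings which is an isomorphism over
a nonempty open of Y) if and only if there is a finite sequence of blowings up in closed points Y_n
→ Y_{n-1} → … → Y_1 → Y with Y_n regular (all local rings regular). -/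
theorem result (Y : Scheme.{u}) [IsIntegral Y] [IsNoetherian Y]
    (hdim : topologicalKrullDim Y = 1) :
    (∃ (X : Scheme.{u}) (g : X ⟶ Y), IsProper g ∧ IsIntegral X ∧
        (∃ V : Y.Opens, (V : Set Y).Nonempty ∧ IsIso (g ∣_ V)) ∧ ∀ x : X, IsRegularLocalRing (X.presheaf.stalk x)) ↔
      ∃ (Y' : Scheme.{u}) (g : Y' ⟶ Y), Resolve.IsPtBlowupSeq g ∧ ∀ y : Y', IsRegularLocalRing (Y'.presheaf.stalk y) := by
  haveI : QuasiCompact (Y.fromSpecStalk (genericPoint Y)) := inferInstance
  constructor
  · rintro ⟨X, g, hp, hi, ⟨V, hV, hiso⟩, hreg⟩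
    haveI := hiso
    haveI : IsDominant g := ⟨(V.isOpen.dense hV).mono fun v hv => by
      obtain ⟨w, hw⟩ := (g ∣_ V).surjective ⟨v, hv⟩
      exact ⟨w.1, (morphismRestrict_base_coe g V w).symm.trans (congrArg Subtype.val hw)⟩⟩
    haveI : IsFinite (Curv2.normalizationι Y) := Groth.Agent.ResSurf.AlterNorm.isFinite_normalizationι
      (Groth.Agent.ResSurf.RegularFactor.isNormalScheme_of_regular hreg) g
    exact Groth.Agent.ResSurf.CurveBlowups.exists_ptSeq_regular hdim (Curv2.normalizationι Y)
      (Groth.Agent.ResSurf.isBirat_normalizationι Y) fun x => by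
        haveI := Groth.Agent.ResSurf.CurveBlowups.dedekind_stalk_normalization Y hdim.le x
        infer_instance
  · rintro ⟨Y', g, hg, hreg⟩
    obtain ⟨hp, hi, hb⟩ := Groth.Agent.ResSurf.CurveBlowups.ptSeq_facts hg
      (Groth.Agent.ResSurf.CurveBlowups.not_isClosed_genericPoint hdim)
    haveI := hp
    exact ⟨Y', g, hp, hi, Groth.Agent.ResSurf.RegularModel.exists_isIso_restrict g hb, hreg⟩

end Groth.Agent.S7372
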