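import Groth.Statements.S7376
import Groth.Agent.ResSurf.RegularModel
import Groth.Agent.ResSurf.NormSeq

set_option autoImplicit false
universe u
open CategoryTheory CategoryTheory.Limits AlgebraicGeometry
open Resolve

namespace Groth.Agent.S7376

/-- Let (A, m, κ) be a Noetherian local normal domain of dimension two and assume Spec A has a
resolution of singularities (a proper morphism X → Spec A from an integral scheme with regular local
rings which is an isomorphism over a nonempty open). Then Spec A has a resolution by normalized
blowups: there is a finite sequence of normalized blowings up in closed points X_n → X_{n-1} → … →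
X_1 → Spec A with X_n proper over Spec A and regular. (A is normal, so Spec A is its own
normalization and the sequence starts at Spec A itself; the published definition of such a
resolution asks every X_i to be proper over Spec A, and this row records properness of X_n → Spec
A.) -/
theorem result (A : Type u) [CommRing A] [IsDomain A] [IsLocalRing A]
    [IsNoetherianRing A] [IsIntegrallyClosed A] (hdim : ringKrullDim A = 2)
    (hres : ∃ (X : Scheme.{u}) (f : X ⟶ Spec (CommRingCat.of A)), IsProper f ∧ IsIntegral X ∧
      (∃ U : (Spec (CommRingCat.of A)).Opens, (U : Set (Spec (CommRingCat.of A))).Nonempty ∧ IsIso (f ∣_ U)) ∧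
      ∀ x : X, IsRegularLocalRing (X.presheaf.stalk x)) :
    ∃ (Xn : Scheme.{u}) (g : Xn ⟶ Spec (CommRingCat.of A)), Resolve.IsNormPtBlowupSeq g ∧ IsProper g ∧
      ∀ x : Xn, IsRegularLocalRing (Xn.presheaf.stalk x) := by
  obtain ⟨X, f, hf, hX, ⟨U, hU, hiso⟩, hreg⟩ := hres
  haveI := hf
  haveI := hX
  haveI := hiso
  let Y : Scheme.{u} := Spec (CommRingCat.of A)
  haveI : IsIntegral Y := inferInstance
  haveI : IsNoetherian Y := inferInstance
  haveI : QuasiCompact (Y.fromSpecStalk (genericPoint Y)) := inferInstance
  haveI : QuasiSeparated (Y.fromSpecStalk (genericPoint Y)) := inferInstance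
  have hd : topologicalKrullDim Y ≤ 2 := by
    rw [show topologicalKrullDim Y = ringKrullDim A from PrimeSpectrum.topologicalKrullDim_eq_ringKrullDim A, hdim]
  obtain ⟨M, hM⟩ := Groth.Agent.ResSurf.RegularModel.exists_regular_model hd f U hU hreg
  have hν := Groth.Agent.ResSurf.isIso_normalizationι_of_normal Y (Groth.Agent.ResSurf.isNormalScheme_Spec A)
  exact ⟨M.Z, M.r ≫ Curv2.normalizationι Y,
    Groth.Agent.ResSurf.normSeq_comp_iso M.seq (@asIso _ _ _ _ (Curv2.normalizationι Y) hν), M.proper, hM⟩

end Groth.Agent.S7376
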