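import Groth.Statements.S7377
import Groth.Agent.ResSurf.RegularModel
import Groth.Agent.ResSurf.NormSeq

set_option autoImplicit false
universe u
open CategoryTheory CategoryTheory.Limits AlgebraicGeometry
open Resolve

namespace Groth.Agent.S7377

/-- Let Y be a two-dimensional integral Noetherian scheme. Then Y has a resolution of singularities (a
proper morphism X → Y from an integral scheme with regular local rings which is an isomorphism over
a nonempty open) if and only if Y has a resolution of singularities by normalized blowups: a finite
sequence of normalized blowings up in closed points X_n → … → X_1 → Y^ν, Y^ν → Y the normalization,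
with X_n regular and the composite X_n → Y proper. (The published definition of such a resolution
asks every scheme of the sequence to be proper over Y; this row asks it of the composite X_n → Y,
which suffices for the equivalence. Some properness is needed: without it the right-hand side would
hold whenever Y^ν happens to be regular, even when Y^ν → Y is not finite and Y has no resolution.
The quasi-compactness and quasi-separatedness binders on Spec K(Y) → Y always hold.) -/
theorem result (Y : Scheme.{u}) [IsIntegral Y] [IsNoetherian Y]
    (hdim : topologicalKrullDim Y = 2)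
    [QuasiCompact (Y.fromSpecStalk (genericPoint Y))] [QuasiSeparated (Y.fromSpecStalk (genericPoint Y))] :
    (∃ (X : Scheme.{u}) (g : X ⟶ Y), IsProper g ∧ IsIntegral X ∧
        (∃ V : Y.Opens, (V : Set Y).Nonempty ∧ IsIso (g ∣_ V)) ∧ ∀ x : X, IsRegularLocalRing (X.presheaf.stalk x)) ↔
      ∃ (Xn : Scheme.{u}) (g : Xn ⟶ Curv2.normalization Y), Resolve.IsNormPtBlowupSeq g ∧
        IsProper (g ≫ Curv2.normalizationι Y) ∧ ∀ x : Xn, IsRegularLocalRing (Xn.presheaf.stalk x) := by
  constructor
  · rintro ⟨X, g, hg, hX, ⟨V, hV, hiso⟩, hreg⟩
    haveI := hg
    haveI := hX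
    haveI := hiso
    obtain ⟨M, hM⟩ := Groth.Agent.ResSurf.RegularModel.exists_regular_model hdim.le g V hV hreg
    exact ⟨M.Z, M.r, M.seq, M.proper, hM⟩
  · rintro ⟨Xn, g, hseq, hp, hreg⟩
    haveI := hp
    obtain ⟨_, hb⟩ := Groth.Agent.ResSurf.normSeq_isBirat hseq
    obtain ⟨V, hV, hiso⟩ := Groth.Agent.ResSurf.RegularModel.exists_isIso_restrict
      (g ≫ Curv2.normalizationι Y) (hb.comp (Groth.Agent.ResSurf.isBirat_normalizationι Y))
    exact ⟨Xn, g ≫ Curv2.normalizationι Y, hp, inferInstance, ⟨V, hV, hiso⟩, hreg⟩

end Groth.Agent.S7377
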