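import Groth.Statements.S7378
import Groth.Agent.ResSurf.NormNagata
import Groth.Agent.ResSurf.GraphClosure

set_option autoImplicit false
universe u
open CategoryTheory CategoryTheory.Limits AlgebraicGeometry
open Resolve

namespace Groth.Agent.S7378

/-- Let S be a scheme, p : X → S with X an integral Noetherian Nagata scheme of dimension two, q : Y → S
proper, and f : U → Y an S-morphism defined on a dense open U ⊂ X (an S-rational map from X to Y).
Then there exist a finite sequence of normalized blowings up in closed points g : X_n → … → X_1 →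
X_0 = X^ν, X^ν → X the normalization, and an S-morphism f_n : X_n → Y which agrees with f on the
inverse image of U. (The quasi-compactness and quasi-separatedness binders on Spec K(X) → X always
hold.) -/
theorem result {S : Scheme.{u}} (X Y : Scheme.{u}) (p : X ⟶ S) (q : Y ⟶ S) [IsProper q]
    [IsIntegral X] [IsNoetherian X] (hN : ∀ V : X.affineOpens, CAlg.IsNagata Γ(X, V.1)) (hdim : topologicalKrullDim X = 2)
    [QuasiCompact (X.fromSpecStalk (genericPoint X))] [QuasiSeparated (X.fromSpecStalk (genericPoint X))]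
    (U : X.Opens) (hU : Dense (U : Set X)) (f : (U : Scheme.{u}) ⟶ Y) (hf : f ≫ q = U.ι ≫ p) :
    ∃ (Xn : Scheme.{u}) (g : Xn ⟶ Curv2.normalization X) (fn : Xn ⟶ Y), Resolve.IsNormPtBlowupSeq g ∧
      fn ≫ q = (g ≫ Curv2.normalizationι X) ≫ p ∧
      ((g ≫ Curv2.normalizationι X) ⁻¹ᵁ U).ι ≫ fn = ((g ≫ Curv2.normalizationι X) ∣_ U) ≫ f := by
  have hne : (U : Set X).Nonempty := hU.nonempty
  obtain ⟨G, π, χ, hG, hπ, hiso, hχ, hag⟩ := Groth.Agent.ResSurf.exists_graph_closure p q U hne f hf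
  obtain ⟨Xn, g, hg, h, hh⟩ :=
    Groth.Agent.ResSurf.exists_seq_dominating hN hdim.le π ⟨U, hne, hiso⟩
  refine ⟨Xn, g, h ≫ χ, hg, by rw [Category.assoc, hχ, reassoc_of% hh, Category.assoc], ?_⟩
  have hle : (g ≫ Curv2.normalizationι X) ⁻¹ᵁ U ≤ h ⁻¹ᵁ (π ⁻¹ᵁ U) := by
    rw [← hh]; rfl
  calc ((g ≫ Curv2.normalizationι X) ⁻¹ᵁ U).ι ≫ h ≫ χ
      = (h.resLE (π ⁻¹ᵁ U) _ hle) ≫ (π ⁻¹ᵁ U).ι ≫ χ := by
        rw [Scheme.Hom.resLE_comp_ι_assoc]
    _ = (h.resLE (π ⁻¹ᵁ U) _ hle) ≫ (π ∣_ U) ≫ f := by rw [hag]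
    _ = ((g ≫ Curv2.normalizationι X) ∣_ U) ≫ f := by
        rw [← Category.assoc]
        congr 1
        rw [← cancel_mono U.ι, Category.assoc, morphismRestrict_ι, morphismRestrict_ι,
          Scheme.Hom.resLE_comp_ι_assoc, hh]

end Groth.Agent.S7378
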