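import Groth.Statements.S7380
import Groth.Agent.LimMor.RelLimit
import Groth.Agent.MorLib.IdealFG3

set_option autoImplicit false
set_option backward.isDefEq.respectTransparency false
set_option backward.isDefEq.respectTransparency.types false
universe u
open CategoryTheory AlgebraicGeometry
open Lim

namespace Groth.Agent.S7380

/-- Let `f : X → S` be locally of finite type with `X` quasi-compact and quasi-separated and `S`
quasi-separated. Then, in the category of schemes over `S`, `X` is the limit of a nonempty directed
inverse system of schemes `X_i → S` of finite presentation (locally of finite presentation,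
quasi-compact and quasi-separated), each `X_i` being a quasi-compact and quasi-separated scheme,
whose transition morphisms are closed immersions. -/
theorem result {X S : Scheme.{u}}
    (f : X ⟶ S) [LocallyOfFiniteType f] [CompactSpace X] [QuasiSeparatedSpace X] [QuasiSeparatedSpace S] :
    ∃ (I : Type u) (_ : Preorder I) (_ : IsDirected I (fun a b => a ≤ b)) (_ : Nonempty I)
      (D : Iᵒᵖ ⥤ Over S) (c : Limits.Cone D) (_ : Limits.IsLimit c),
      (∀ i, LocallyOfFinitePresentation (D.obj i).hom ∧ QuasiCompact (D.obj i).hom ∧
        QuasiSeparated (D.obj i).hom ∧ CompactSpace (D.obj i).left ∧ QuasiSeparatedSpace (D.obj i).left) ∧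
      (∀ (i j : Iᵒᵖ) (a : i ⟶ j), IsClosedImmersion (D.map a).left) ∧
      Nonempty (c.pt ≅ Over.mk f) := by
  obtain ⟨Y, g, h, hci, hw, h₁, h₂, h₃, hY, hY', -⟩ := LimMor.exists_closedImmersion_fp f
  open Groth.Agent.MorLib.IdealFG in
  refine ⟨Sub h.ker, inferInstance, inferInstance, inferInstance, subDiagram g h.ker, subCone g h.ker,
    isLimitSubCone g h.ker, fun K => ?_, fun i j a => isClosedImmersion_map g h.ker a,
    ⟨Over.isoMk (asIso h.toImage).symm ?_⟩⟩
  · haveI := Groth.Agent.MorLib.IdealFG.lfp_subschemeι K.unop.2.2
    haveI hc : IsClosedImmersion K.unop.1.subschemeι := by infer_instance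
    haveI : QuasiCompact K.unop.1.subschemeι := inferInstance
    exact ⟨inferInstanceAs (LocallyOfFinitePresentation (K.unop.1.subschemeι ≫ g)),
      inferInstanceAs (QuasiCompact (K.unop.1.subschemeι ≫ g)),
      inferInstanceAs (QuasiSeparated (K.unop.1.subschemeι ≫ g)),
      QuasiCompact.compactSpace_of_compactSpace K.unop.1.subschemeι,
      quasiSeparatedSpace_of_quasiSeparated K.unop.1.subschemeι⟩
  · show inv h.toImage ≫ f = h.ker.subschemeι ≫ g
    rw [IsIso.inv_comp_eq, ← hw]
    exact (congrArg (· ≫ g) h.toImage_imageι).symm.trans (Category.assoc _ _ _)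

end Groth.Agent.S7380
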