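import Groth.Statements.S7384
import Groth.Agent.LimMor.RelLimit

set_option autoImplicit false
set_option backward.isDefEq.respectTransparency false
set_option backward.isDefEq.respectTransparency.types false
universe u
open CategoryTheory AlgebraicGeometry
open Lim

namespace Groth.Agent.S7384

/-- Let `f : X → S` be a morphism of quasi-compact quasi-separated schemes. Then `f` is a limit of
morphisms `f_i : X_i → S_i` indexed by a nonempty directed set: there are inverse systems `X_i`,
`S_i` of quasi-compact schemes locally of finite type over `ℤ` with affine transition morphisms, a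
compatible family of morphisms `f_i`, and limit cones identified with `X` and `S` compatibly with
`f`. -/
theorem result {X S : Scheme.{u}} (f : X ⟶ S) [CompactSpace X]
    [QuasiSeparatedSpace X] [CompactSpace S] [QuasiSeparatedSpace S] :
    ∃ (I : Type u) (_ : Preorder I) (_ : IsDirected I (fun a b => a ≤ b)) (_ : Nonempty I)
      (DX DS : Iᵒᵖ ⥤ Scheme.{u}) (φ : DX ⟶ DS)
      (cX : Limits.Cone DX) (cS : Limits.Cone DS) (_ : Limits.IsLimit cX) (_ : Limits.IsLimit cS)
      (eX : cX.pt ≅ X) (eS : cS.pt ≅ S),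
      (∀ (i j : Iᵒᵖ) (a : i ⟶ j), IsAffineHom (DX.map a) ∧ IsAffineHom (DS.map a)) ∧
      (∀ i, CompactSpace (DX.obj i) ∧ CompactSpace (DS.obj i) ∧
        LocallyOfFiniteType (Limits.IsTerminal.from specULiftZIsTerminal (DX.obj i)) ∧
        LocallyOfFiniteType (Limits.IsTerminal.from specULiftZIsTerminal (DS.obj i))) ∧
      (∀ i, cX.π.app i ≫ φ.app i = eX.hom ≫ f ≫ eS.inv ≫ cS.π.app i) := by
  obtain ⟨T, s, hT, hs⟩ := LimMor.exists_affine_toFTZ S
  obtain ⟨X₀, a, q, hX, ha, haq, -⟩ := LimMor.exists_affine_factor (f ≫ s) hT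
  haveI := hT.isNoetherian
  haveI := hX.isNoetherian
  haveI := LimMor.pair_directed (f := f) (s := s) haq
  haveI := LimMor.pair_nonempty (f := f) (s := s) haq
  refine ⟨LimMor.Pair f s a q, inferInstance, (inferInstance : IsDirectedOrder _), inferInstance,
    LimMor.pairSrc f s a q, LimMor.pairTgt f s a q, LimMor.pairHom f s a q, _, _,
    (LimMor.nonempty_isLimit_pairSrc f s a q haq).some,
    (LimMor.nonempty_isLimit_pairTgt f s a q haq).some, Iso.refl _, Iso.refl _,
    fun i j g => ⟨?_, ?_⟩, fun i => ?_, fun i => ?_⟩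
  · exact inferInstanceAs (IsAffineHom ((LimMor.sys a).map ((LimMor.fstFunctor f s a q).op.map g)))
  · exact inferInstanceAs (IsAffineHom ((LimMor.sys s).map ((LimMor.sndFunctor f s a q).op.map g)))
  · exact ⟨(hX.sch i.unop.l).compact, (hT.sch i.unop.n).compact, (hX.sch i.unop.l).lft,
      (hT.sch i.unop.n).lft⟩
  · show i.unop.l.k ≫ i.unop.m = 𝟙 X ≫ f ≫ 𝟙 S ≫ i.unop.n.k
    rw [i.unop.k_m, Category.id_comp, Category.id_comp]

end Groth.Agent.S7384
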