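import Groth.Statements.S7396
import Groth.Agent.LimMor.FinInt

set_option autoImplicit false
set_option backward.isDefEq.respectTransparency false
set_option backward.isDefEq.respectTransparency.types false
universe u
open CategoryTheory AlgebraicGeometry
open Lim

namespace Groth.Agent.S7396

/-- Let `f : X → S` be finite with `S` quasi-compact and quasi-separated. Then there are a morphism `f'
: X' → S` which is finite and of finite presentation and a closed immersion `X → X'` over `S`. -/
theorem result {X S : Scheme.{u}} (f : X ⟶ S) [IsFinite f]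
    [CompactSpace S] [QuasiSeparatedSpace S] :
    ∃ (X' : Scheme.{u}) (f' : X' ⟶ S) (j : X ⟶ X'), IsFinite f' ∧ LocallyOfFinitePresentation f' ∧
      IsClosedImmersion j ∧ j ≫ f' = f := by
  obtain ⟨Y, g, h, hci, hw, hg, hg'⟩ := LimMor.exists_closedImmersion_affine_fp f
  haveI : IsIntegralHom (h ≫ g) := by rw [hw]; infer_instance
  obtain ⟨K, hK⟩ := LimMor.exists_sub_isFinite h g
  haveI := MorLib.IdealFG.lfp_subschemeι K.2.2
  haveI : IsClosedImmersion h.toImage := inferInstance
  let j : X ⟶ K.1.subscheme :=
    IsClosedImmersion.lift K.1.subschemeι h (K.1.ker_subschemeι.le.trans K.2.1)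
  have hj : j ≫ K.1.subschemeι = h := IsClosedImmersion.lift_fac _ _ _
  haveI : IsClosedImmersion (j ≫ K.1.subschemeι) := by rw [hj]; exact hci
  exact ⟨K.1.subscheme, K.1.subschemeι ≫ g, j, hK K.1 le_rfl, inferInstance,
    IsClosedImmersion.of_comp j K.1.subschemeι, by rw [← Category.assoc, hj, hw]⟩

end Groth.Agent.S7396
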