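import Groth.Statements.S7447
import Groth.Agent.LimMor.RelApprox
import Groth.Agent.LimMor.EvFinite

set_option autoImplicit false
set_option backward.isDefEq.respectTransparency false
set_option backward.isDefEq.respectTransparency.types false
universe u
open CategoryTheory AlgebraicGeometry
open Opposite
open Lim

namespace Groth.Agent.S7447

/-- Noetherian approximation relative to a quasi-compact open: let `S` be quasi-compact and
quasi-separated, `V ⊆ S` a quasi-compact open, and `V = lim V_i` the limit of an inverse system,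
over a nonempty directed set `I`, of schemes of finite type over `ℤ` with affine transition
morphisms. Then there are a nonempty directed set `J`, an inverse system `(S_j)` of schemes of
finite type over `ℤ` with affine transition morphisms and `S = lim S_j`, an order preserving map `α
: J → I`, opens `V'_j ⊆ S_j` and isomorphisms `V'_j ≅ V_{α(j)}` such that: the transition maps
satisfy `g_{jj'}⁻¹(V'_{j'}) = V'_j`; `V` is the inverse image of each `V'_j` under `S → S_j` (which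
identifies `V` with `lim V'_j`); the composite `V → V'_j → V_{α(j)}` is the projection; and the
squares `V'_j → V_{α(j)} → V_{α(j')}`, `V'_j → V'_{j'} → V_{α(j')}` commute. -/
theorem result (S : Scheme.{u}) [CompactSpace S] [QuasiSeparatedSpace S]
    (V : S.Opens) (hV : IsCompact (V : Set S)) (I : Type u) [Preorder I] [IsDirected I (fun a b => a ≤ b)] [Nonempty I]
    (DV : Iᵒᵖ ⥤ Scheme.{u}) (haff : ∀ (i i' : Iᵒᵖ) (a : i ⟶ i'), IsAffineHom (DV.map a))
    (hft : ∀ i, CompactSpace (DV.obj i) ∧ LocallyOfFiniteType (Limits.IsTerminal.from specULiftZIsTerminal (DV.obj i)))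
    (cV : Limits.Cone DV) (hcV : Limits.IsLimit cV) (eV : cV.pt ≅ (V : Scheme.{u})) :
    ∃ (J : Type u) (_ : Preorder J) (_ : IsDirected J (fun a b => a ≤ b)) (_ : Nonempty J)
      (DS : Jᵒᵖ ⥤ Scheme.{u}) (cS : Limits.Cone DS) (_ : Limits.IsLimit cS) (eS : cS.pt ≅ S)
      (α : J →o I) (V' : ∀ j : J, (DS.obj (op j)).Opens)
      (φ : ∀ j : J, (V' j : Scheme.{u}) ≅ DV.obj (op (α j))),
      (∀ (j j' : Jᵒᵖ) (a : j ⟶ j'), IsAffineHom (DS.map a)) ∧
      (∀ j, CompactSpace (DS.obj j) ∧ LocallyOfFiniteType (Limits.IsTerminal.from specULiftZIsTerminal (DS.obj j))) ∧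
      (∀ (j j' : J) (h : j' ≤ j), (DS.map (homOfLE h).op) ⁻¹ᵁ (V' j') = V' j) ∧
      (∀ j : J, (eS.inv ≫ cS.π.app (op j)) ⁻¹ᵁ (V' j) = V) ∧
      (∀ j : J, ∃ ρ : (V : Scheme.{u}) ⟶ (V' j : Scheme.{u}),
        ρ ≫ (V' j).ι = V.ι ≫ eS.inv ≫ cS.π.app (op j) ∧ ρ ≫ (φ j).hom = eV.inv ≫ cV.π.app (op (α j))) ∧
      (∀ (j j' : J) (h : j' ≤ j), ∃ τ : (V' j : Scheme.{u}) ⟶ (V' j' : Scheme.{u}),
        τ ≫ (V' j').ι = (V' j).ι ≫ DS.map (homOfLE h).op ∧
        (φ j).hom ≫ DV.map (homOfLE (α.mono h)).op = τ ≫ (φ j').hom) := by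
  classical
  obtain ⟨T₀, g₀, hT₀, hg₀⟩ := LimMor.exists_affine_toFTZ S
  haveI := hT₀.compact
  haveI := hT₀.quasiSeparatedSpace
  obtain ⟨l, O, hO⟩ := LimMor.exists_stage_open g₀ V hV
  subst hO
  let T := l.sch
  let g : S ⟶ T := l.k
  have hT : LimMor.FTZ T := hT₀.sch l
  haveI := hT.isNoetherian
  haveI := hT.lft
  haveI := hT.quasiSeparatedSpace
  have hO' := hT.opens O
  haveI := hO'.compact
  haveI := hO'.quasiSeparatedSpace
  haveI := hO'.lfp
  haveI : IsAffineHom g := inferInstance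
  haveI : ∀ {i j : Iᵒᵖ} (f : i ⟶ j), IsAffineHom (DV.map f) := fun f => haff _ _ f
  haveI : IsDirectedOrder I := ‹IsDirected I _›
  haveI : ∀ i, CompactSpace (DV.obj i) := fun i => (hft i).1
  haveI : ∀ i, QuasiSeparatedSpace (DV.obj i) := fun i =>
    LimMor.FTZ.quasiSeparatedSpace ⟨(hft i).1, (hft i).2⟩
  let c₀ : Limits.Cone DV :=
    { pt := (g ⁻¹ᵁ O).toScheme, π := (Functor.const _).map eV.inv ≫ cV.π }
  have hc₀ : Limits.IsLimit c₀ := hcV.ofIsoLimit (Limits.Cone.ext eV fun i => by simp [c₀])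
  let tz : DV ⟶ (Functor.const _).obj LimMor.specZ.{u} :=
    { app := fun i => LimMor.toZ _
      naturality := fun _ _ _ => specULiftZIsTerminal.hom_ext _ _ }
  let vO : c₀.pt ⟶ O.toScheme := g ∣_ O
  obtain ⟨i₁, h₁, hh₁, -⟩ := Scheme.exists_π_app_comp_eq_of_locallyOfFinitePresentation DV tz
    (LimMor.toZ O.toScheme) c₀ hc₀ vO (by ext; exact specULiftZIsTerminal.hom_ext _ _)
  haveI : IsAffineHom vO := IsZariskiLocalAtTarget.restrict (P := @IsAffineHom) inferInstance O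
  haveI : IsAffineHom (c₀.π.app i₁ ≫ h₁) := by rw [hh₁]; infer_instance
  obtain ⟨i₂, g₂, hg₂⟩ := LimMor.exists_isAffineHom_map_comp' hc₀ h₁
  let I₂ := {i : I // i₂.unop ≤ i}
  haveI : Nonempty I₂ := ⟨⟨i₂.unop, le_rfl⟩⟩
  haveI : IsDirectedOrder I₂ := ⟨fun a b => by
    obtain ⟨m, ha, hb⟩ := directed_of (α := I) (· ≤ ·) a.1 b.1
    exact ⟨⟨m, a.2.trans ha⟩, ha, hb⟩⟩
  let F : I₂ ⥤ I := Monotone.functor (f := fun i : I₂ => i.1) fun _ _ h => h
  haveI : F.op.Initial := LimMor.initial_op_functor F fun i => by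
    obtain ⟨m, ha, hb⟩ := directed_of (α := I) (· ≤ ·) i₂.unop i
    exact ⟨⟨m, ha⟩, hb⟩
  let D : I₂ᵒᵖ ⥤ Scheme.{u} := F.op ⋙ DV
  let hO₂ : DV.obj i₂ ⟶ O.toScheme := DV.map g₂ ≫ h₁
  haveI : IsAffineHom hO₂ := hg₂
  let u : ∀ i : I₂ᵒᵖ, D.obj i ⟶ O.toScheme := fun i => DV.map (homOfLE i.unop.2).op ≫ hO₂
  have hu : ∀ {i j : I₂ᵒᵖ} (f : i ⟶ j), D.map f ≫ u j = u i := fun {i j} f => by
    simp only [u, D, Functor.comp_map, ← Category.assoc, ← Functor.map_comp]
    rfl
  haveI : ∀ i, IsAffineHom (u i) := fun i => inferInstanceAs (IsAffineHom (_ ≫ hO₂))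
  have hpu : ∀ i : I₂ᵒᵖ, c₀.π.app (op i.unop.1) ≫ u i = g ∣_ O := fun i => by
    simp only [u, hO₂, c₀.w_assoc]
    exact hh₁
  let K : LimMor.RelApprox.Input.{u} :=
    { S := S, T := T, g := g, aff := inferInstance, noeth := inferInstance, O := O
      I := I₂, pre := inferInstance, dir := inferInstance, ne := inferInstance
      D := D
      affD := fun f => haff _ _ _
      cpt := fun i => (hft _).1
      h :=
        { app := fun i => u i ≫ O.ι
          naturality := fun i j f => by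
            rw [← Category.assoc, hu]; exact (Category.comp_id _).symm }
      sep := fun i => by
        show IsSeparated (u i ≫ O.ι)
        infer_instance
      lft := fun i => by
        show LocallyOfFiniteType (u i ≫ O.ι)
        haveI : LocallyOfFiniteType ((u i ≫ O.ι) ≫ LimMor.toZ T) := by
          rw [LimMor.toZ_comp]; exact (hft _).2
        exact locallyOfFiniteType_of_comp _ (LimMor.toZ T)
      hh := fun i P hP hPO => by
        show IsAffineOpen ((u i ≫ O.ι) ⁻¹ᵁ P)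
        rw [Scheme.Hom.comp_preimage]
        exact (hP.preimage_of_isOpenImmersion O.ι
          (by rw [Scheme.Opens.opensRange_ι]; exact hPO)).preimage (u i)
      hO := fun i => by
        show (u i ≫ O.ι) ⁻¹ᵁ O = ⊤
        rw [Scheme.Hom.comp_preimage, Scheme.Opens.ι_preimage_self, Scheme.Hom.preimage_top]
      p := fun i => c₀.π.app (op i.unop.1)
      pw := fun f => c₀.w _
      ph := fun i => by
        show c₀.π.app _ ≫ u i ≫ O.ι = (g ⁻¹ᵁ O).ι ≫ g
        exact ((Category.assoc _ _ _).symm.trans (congrArg (· ≫ O.ι) (hpu i))).trans (morphismRestrict_ι g O)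
      lim := ((Functor.Initial.isLimitWhiskerEquiv F.op c₀).symm hc₀).ofIsoLimit
        (Limits.Cone.ext (Iso.refl _) fun i => by simp [F, D, c₀]) }
  let α : LimMor.RelApprox.Idx K →o I := ⟨fun j => j.i.1, fun j j' h => h.1⟩
  let V' : ∀ j : LimMor.RelApprox.Idx K, j.Y.Opens := fun j => j.W
  have hopen : ∀ j : LimMor.RelApprox.Idx K, IsOpenImmersion j.r := fun j => j.isOpenImmersion_r.1
  have hrange : ∀ j : LimMor.RelApprox.Idx K, Set.range j.r = Set.range (V' j).ι := fun j => by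
    rw [Scheme.Opens.range_ι]; exact j.isOpenImmersion_r.2
  let φ : ∀ j : LimMor.RelApprox.Idx K, (V' j : Scheme.{u}) ≅ DV.obj (op (α j)) := fun j =>
    haveI := hopen j
    (IsOpenImmersion.isoOfRangeEq j.r (V' j).ι (hrange j)).symm
  have hφ : ∀ j, (φ j).inv ≫ (V' j).ι = j.r := fun j =>
    haveI := hopen j
    IsOpenImmersion.isoOfRangeEq_hom_fac _ _ (hrange j)
  obtain ⟨hlim⟩ := LimMor.RelApprox.nonempty_isLimit_coneY K
  refine ⟨LimMor.RelApprox.Idx K, inferInstance, (inferInstance : IsDirectedOrder _), inferInstance,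
    LimMor.RelApprox.sysY K, LimMor.RelApprox.coneY K, hlim, Iso.refl S, α, V', φ,
    fun j j' a => inferInstanceAs (IsAffineHom (LimMor.RelApprox.Idx.map (leOfHom a.unop))),
    fun j => ?_, fun j j' h => ?_, fun j => ?_, fun j => ?_, fun j j' h => ?_⟩
  · have hj : LimMor.FTZ j.unop.Y := hT.of_hom j.unop.a
    exact ⟨hj.compact, hj.lft⟩
  · show LimMor.RelApprox.Idx.map h ⁻¹ᵁ j'.a ⁻¹ᵁ O = j.a ⁻¹ᵁ O
    rw [← Scheme.Hom.comp_preimage, LimMor.RelApprox.Idx.map_a]
  · show (𝟙 S ≫ j.q) ⁻¹ᵁ j.a ⁻¹ᵁ O = g ⁻¹ᵁ O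
    rw [Category.id_comp, ← Scheme.Hom.comp_preimage, j.q_a]
  · refine ⟨c₀.π.app (op (α j)) ≫ (φ j).inv, ?_, ?_⟩
    · rw [Category.assoc, hφ]
      exact j.compat.trans (congrArg ((g ⁻¹ᵁ O).ι ≫ ·) (Category.id_comp j.q).symm)
    · rw [Category.assoc, Iso.inv_hom_id, Category.comp_id]
      simp [c₀]
  · refine ⟨(φ j).hom ≫ DV.map (homOfLE (α.mono h)).op ≫ (φ j').inv, ?_, by simp⟩
    rw [Category.assoc, Category.assoc, hφ]
    rw [← cancel_epi (φ j).inv, Iso.inv_hom_id_assoc, ← Category.assoc (φ j).inv, hφ]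
    exact (LimMor.RelApprox.Idx.r_map (K := K) h).symm

end Groth.Agent.S7447
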