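import Groth.Statements.S7493
import Mathlib.FieldTheory.IsAlgClosed.Classification
import Mathlib.FieldTheory.IsAlgClosed.AlgebraicClosure

set_option autoImplicit false
set_option backward.isDefEq.respectTransparency false
set_option backward.isDefEq.respectTransparency.types false
universe u
open CategoryTheory CategoryTheory.Limits AlgebraicGeometry
open Grpd

namespace Groth.Agent.S7493

/-- A ring automorphism exchanging two embeddings of a small field into a big algebraically closed
field. -/
theorem exists_ringEquiv_comp {k K : Type u} [Field k] [Field K] [IsAlgClosed K] (a b : k →+* K)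
    (hK : max (Cardinal.mk k) Cardinal.aleph0 < Cardinal.mk K) :
    ∃ σ : K ≃+* K, ∀ c, σ (a c) = b c := by
  have key : ∀ (_ : Algebra k K), ∃ (ι : Type u) (v : ι → K),
      IsTranscendenceBasis k v ∧ Cardinal.mk ι = Cardinal.mk K := by
    intro _
    obtain ⟨s, hs⟩ := exists_isTranscendenceBasis k K
    refine ⟨s, _, hs, le_antisymm (Cardinal.mk_le_of_injective hs.1.injective) ?_⟩
    by_contra h
    exact absurd (IsAlgClosed.cardinal_le_max_transcendence_basis' _ hs)
      (not_le.mpr (max_lt (max_lt (lt_of_le_of_lt (le_max_left _ _) hK) (not_le.mp h))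
        (lt_of_le_of_lt (le_max_right _ _) hK)))
  obtain ⟨ι, v, hv, hι⟩ := key a.toAlgebra
  obtain ⟨κ, w, hw, hκ⟩ := key b.toAlgebra
  obtain ⟨e⟩ := Cardinal.eq.1 (hι.trans hκ.symm)
  refine ⟨@IsAlgClosed.equivOfTranscendenceBasis k K K _ _ a.toAlgebra _ b.toAlgebra ι v κ w _ _ e hv hw,
    fun c => ?_⟩
  have ha : a c = algebraMap (@Algebra.adjoin k K _ _ a.toAlgebra (Set.range v)) K
      (@algebraMap k _ _ _ (@Subalgebra.algebra k K _ _ a.toAlgebra _) c) := rfl
  rw [ha]
  simp only [IsAlgClosed.equivOfTranscendenceBasis]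
  erw [IsAlgClosure.equivOfEquiv_algebraMap]
  simp
  rfl

/-- If a composite with `z` is an isomorphism, then the residue field map is one at the image. -/
theorem isIso_residueFieldMap {X Y Z : Scheme.{u}} (z : X ⟶ Y) (f : Y ⟶ Z) [IsIso (z ≫ f)] (x : X) :
    IsIso (f.residueFieldMap (z x)) := by
  have h : IsIso (f.residueFieldMap (z x) ≫ z.residueFieldMap x) := by
    rw [← Scheme.residueFieldMap_comp]; infer_instance
  have hb := ConcreteCategory.bijective_of_isIso (f.residueFieldMap (z x) ≫ z.residueFieldMap x)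
  have hz : IsIso (z.residueFieldMap x) := by
    rw [ConcreteCategory.isIso_iff_bijective]
    exact ⟨(z.residueFieldMap x).hom.injective,
      Function.Surjective.of_comp (g := f.residueFieldMap (z x)) hb.2⟩
  exact IsIso.of_isIso_comp_right _ (z.residueFieldMap x)

/-- Let (U, R, s, t, c) be a groupoid scheme over S with U = Spec k for a field k, and let r be a point
of R. Then there exist a field extension k -> k' with k' algebraically closed and a point r' of the
restriction R' of R along g : U' = Spec k' -> U, that is R' = (U' x_(g,U,t) R) x_(s pr, U, g) U'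
with t' the projection to the first factor U' and s' the projection to the last factor U', such that
r' maps to r under R' -> R and both s' and t' induce isomorphisms on residue fields at r' (k' ->
κ(r') bijective). (A groupoid scheme carries U, R, s, t, c, e, i over S with the groupoid axioms on
T-points; c is defined on the fibre product of s and t and sends a pair (a, b) with s(a) = t(b) to a
composed with b.) -/
theorem result (S : Scheme.{u}) (G : Grpd.GroupoidScheme S) (k : Type u) [Field k] (eU : G.U ≅ Spec (CommRingCat.of k)) (r : G.R) : ∃ (k' : Type u) (_ : Field k') (_ : IsAlgClosed k') (_ : Algebra k k'), ∃ r' : ↑(pullback (pullback.snd (Spec.map (CommRingCat.ofHom (algebraMap k k')) ≫ eU.inv) G.t ≫ G.s) (Spec.map (CommRingCat.ofHom (algebraMap k k')) ≫ eU.inv)), (pullback.fst (pullback.snd (Spec.map (CommRingCat.ofHom (algebraMap k k')) ≫ eU.inv) G.t ≫ G.s) (Spec.map (CommRingCat.ofHom (algebraMap k k')) ≫ eU.inv) ≫ pullback.snd (Spec.map (CommRingCat.ofHom (algebraMap k k')) ≫ eU.inv) G.t) r' = r ∧ IsIso ((pullback.snd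 (pullback.snd (Spec.map (CommRingCat.ofHom (algebraMap k k')) ≫ eU.inv) G.t ≫ G.s) (Spec.map (CommRingCat.ofHom (algebraMap k k')) ≫ eU.inv)).residueFieldMap r') ∧ IsIso ((pullback.fst (pullback.snd (Spec.map (CommRingCat.ofHom (algebraMap k k')) ≫ eU.inv) G.t ≫ G.s) (Spec.map (CommRingCat.ofHom (algebraMap k k')) ≫ eU.inv) ≫ pullback.fst (Spec.map (CommRingCat.ofHom (algebraMap k k')) ≫ eU.inv) G.t).residueFieldMap r') := by
  let F := G.R.residueField r
  let ρ := G.R.fromSpecResidueField r
  obtain ⟨bt, hbt⟩ := Spec.map_surjective (ρ ≫ G.t ≫ eU.hom)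
  obtain ⟨bs, hbs⟩ := Spec.map_surjective (ρ ≫ G.s ≫ eU.hom)
  let ι : Type u := Set (ULift.{u} ℕ ⊕ F)
  let K₀ : Type u := FractionRing (MvPolynomial ι F)
  let K : Type u := AlgebraicClosure K₀
  let jι : MvPolynomial ι F →+* K := (algebraMap K₀ K).comp (algebraMap (MvPolynomial ι F) K₀)
  let j : F →+* K := jι.comp MvPolynomial.C
  have hjι : Function.Injective jι :=
    (algebraMap K₀ K).injective.comp (IsFractionRing.injective (MvPolynomial ι F) K₀)
  have hlt : Cardinal.mk (ULift.{u} ℕ ⊕ F) < Cardinal.mk K :=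
    lt_of_lt_of_le ((Cardinal.cantor _).trans_eq (Cardinal.mk_set).symm)
      (Cardinal.mk_le_of_injective (f := fun i => jι (MvPolynomial.X i))
        (hjι.comp (MvPolynomial.X_injective)))
  have hK : max (Cardinal.mk k) Cardinal.aleph0 < Cardinal.mk K := by
    refine lt_of_le_of_lt (max_le ?_ ?_) hlt
    · exact Cardinal.mk_le_of_injective (f := fun c : k => Sum.inr (bt.hom c))
        (Sum.inr_injective.comp bt.hom.injective)
    · exact Cardinal.aleph0_le_mk _
  obtain ⟨σ, hσ⟩ := exists_ringEquiv_comp (j.comp bt.hom) (j.comp bs.hom) hK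
  let alg : Algebra k K := (j.comp bt.hom).toAlgebra
  refine ⟨K, inferInstance, inferInstance, alg, ?_⟩
  let g : Spec (CommRingCat.of K) ⟶ G.U := Spec.map (CommRingCat.ofHom (algebraMap k K)) ≫ eU.inv
  let ρ' : Spec (CommRingCat.of K) ⟶ G.R := Spec.map (CommRingCat.ofHom j) ≫ ρ
  let τ : Spec (CommRingCat.of K) ⟶ Spec (CommRingCat.of K) := Spec.map (CommRingCat.ofHom σ.toRingHom)
  have : IsIso τ := by
    have : IsIso (CommRingCat.ofHom σ.toRingHom) := σ.toCommRingCatIso.isIso_hom
    infer_instance
  have ht : 𝟙 _ ≫ g = ρ' ≫ G.t := by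
    rw [← cancel_mono eU.hom]
    simp only [g, ρ', Category.id_comp, Category.assoc, eU.inv_hom_id, Category.comp_id]
    rw [← hbt, ← Spec.map_comp]
    rfl
  have hs : ρ' ≫ G.s = τ ≫ g := by
    rw [← cancel_mono eU.hom]
    simp only [g, ρ', τ, Category.assoc, eU.inv_hom_id, Category.comp_id]
    rw [← hbs, ← Spec.map_comp, ← Spec.map_comp]
    congr 1
    ext c
    exact (hσ c).symm
  let z := pullback.lift (f := pullback.snd g G.t ≫ G.s) (g := g) (pullback.lift (𝟙 _) ρ' ht) τ
    (by rw [pullback.lift_snd_assoc]; exact hs)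
  let x : Spec (CommRingCat.of K) := IsLocalRing.closedPoint K
  refine ⟨z x, ?_, ?_, ?_⟩
  · rw [← Scheme.Hom.comp_apply, pullback.lift_fst_assoc, pullback.lift_snd]
    exact Scheme.fromSpecResidueField_apply r _
  · have : IsIso (z ≫ pullback.snd (pullback.snd g G.t ≫ G.s) g) := by
      rw [pullback.lift_snd]; infer_instance
    exact isIso_residueFieldMap z _ x
  · have : IsIso (z ≫ pullback.fst (pullback.snd g G.t ≫ G.s) g ≫ pullback.fst g G.t) := by
      rw [pullback.lift_fst_assoc, pullback.lift_fst]; infer_instance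
    exact isIso_residueFieldMap z _ x

end Groth.Agent.S7493
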