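import Groth.Statements.S7499
import Groth.Agent.GrpdLib.OrbitTop
import Groth.Agent.LimMor.Chevalley

set_option backward.isDefEq.respectTransparency false
set_option backward.isDefEq.respectTransparency.types false

set_option autoImplicit false
universe u
open CategoryTheory CategoryTheory.Limits AlgebraicGeometry
open Grpd

namespace Groth.Agent.S7499

/-- Let (U, R, s, t, c) be a groupoid scheme over S with s and t integral, and g : U' -> U an integral
morphism such that every R-orbit of U meets the image of g. Let R' = (U' x_(g,U,t) R) x_(s pr, U, g)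
U' be the restriction of R to U', with t' the projection to the first factor U' and s' the
projection to the last. If u' is a point of U' contained in an affine open W' of U' with t'^{-1}(W')
= s'^{-1}(W'), then g(u') is contained in an affine open W of U with s^{-1}(W) = t^{-1}(W). (A
groupoid scheme carries U, R, s, t, c, e, i over S with the groupoid axioms on T-points; c is
defined on the fibre product of s and t and sends a pair (a, b) with s(a) = t(b) to a composed with
b.) -/
theorem result (S : Scheme.{u}) (G : Grpd.GroupoidScheme S) [IsIntegralHom G.s] [IsIntegralHom G.t] (U' : Scheme.{u}) (g : U' ⟶ G.U) [IsIntegralHom g] (horb : ∀ u : G.U, ∃ r : G.R, G.s r = u ∧ G.t r ∈ Set.range ⇑g) (u' : U') (W' : U'.Opens) (hW' : IsAffineOpen W') (hu' : u' ∈ W') (hinv : (pullback.fst (pullback.snd g G.t ≫ G.s) g ≫ pullback.fst g G.t) ⁻¹ᵁ W' = (pullback.snd (pullback.snd g G.t ≫ G.s) g) ⁻¹ᵁ W') : ∃ W : G.U.Opens, IsAffineOpen W ∧ g u' ∈ W ∧ G.s ⁻¹ᵁ W = G.t ⁻¹ᵁ W := by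
  have hZc : IsClosed (GrpdLib.sat G (g '' (W' : Set U')ᶜ)) :=
    G.t.isClosedMap _ ((g.isClosedMap _ W'.isOpen.isClosed_compl).preimage G.s.continuous)
  let W : G.U.Opens := ⟨(GrpdLib.sat G (g '' (W' : Set U')ᶜ))ᶜ, hZc.isOpen_compl⟩
  have hgW : ∀ x : U', g x ∈ W ↔ x ∈ W' := by
    intro x
    refine ⟨fun h => by_contra fun hx => h (GrpdLib.subset_sat G _ ⟨x, hx, rfl⟩), ?_⟩
    rintro hx ⟨a, ⟨x₁, hx₁, e₁⟩, e⟩
    obtain ⟨z, hz₁, hz₂⟩ := Scheme.Pullback.exists_preimage_pullback (f := g) (g := G.t) x a e.symm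
    obtain ⟨w, hw₁, hw₂⟩ := Scheme.Pullback.exists_preimage_pullback (f := pullback.snd g G.t ≫ G.s) (g := g)
      z x₁ (by rw [Scheme.Hom.comp_apply, hz₂, e₁])
    have h : w ∈ (pullback.fst (pullback.snd g G.t ≫ G.s) g ≫ pullback.fst g G.t) ⁻¹ᵁ W' := by
      show (pullback.fst (pullback.snd g G.t ≫ G.s) g ≫ pullback.fst g G.t) w ∈ W'
      rw [Scheme.Hom.comp_apply, hw₁, hz₁]; exact hx
    rw [hinv] at h
    have h' : pullback.snd (pullback.snd g G.t ≫ G.s) g w ∈ W' := h
    rw [hw₂] at h'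
    exact hx₁ h'
  have hW : G.s ⁻¹ᵁ W = G.t ⁻¹ᵁ W := by
    ext r
    exact not_congr (GrpdLib.mem_sat_iff G _ r)
  let q' : pullback g G.t ⟶ G.U := pullback.snd g G.t ≫ G.s
  haveI : IsIntegralHom q' := by dsimp only [q']; infer_instance
  have hpre : q' ⁻¹ᵁ W = pullback.fst g G.t ⁻¹ᵁ W' := by
    ext z
    show (pullback.snd g G.t ≫ G.s) z ∈ W ↔ pullback.fst g G.t z ∈ W'
    rw [← hgW, ← Scheme.Hom.comp_apply, pullback.condition, Scheme.Hom.comp_apply, Scheme.Hom.comp_apply]
    exact SetLike.ext_iff.mp hW _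
  haveI : IsAffine (q' ⁻¹ᵁ W).toScheme := by
    rw [hpre]; exact hW'.preimage (pullback.fst g G.t)
  haveI : Surjective (q' ∣_ W) := ⟨fun w => by
    obtain ⟨r, hr, x, hx⟩ := horb w.1
    obtain ⟨z, hz₁, hz₂⟩ := Scheme.Pullback.exists_preimage_pullback (f := g) (g := G.t) x r hx
    have e : q' z = w.1 := by
      show (pullback.snd g G.t ≫ G.s) z = w.1
      rw [Scheme.Hom.comp_apply, hz₂, hr]
    refine ⟨⟨z, show q' z ∈ W from e ▸ w.2⟩, Subtype.ext ?_⟩
    rw [morphismRestrict_base_coe]; exact e⟩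
  exact ⟨W, LimMor.isAffine_of_surjective_universallyClosed (q' ∣_ W), (hgW u').2 hu', hW⟩

end Groth.Agent.S7499
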