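import Groth.Statements.S7508
import Groth.Agent.GrpdSlice.Main

set_option autoImplicit false
set_option backward.isDefEq.respectTransparency false
set_option backward.isDefEq.respectTransparency.types false
universe u
open CategoryTheory CategoryTheory.Limits AlgebraicGeometry
open Grpd

namespace Groth.Agent.S7508

/-- Let (U, R, s, t, c, e, i) be a groupoid scheme over S with s and t Cohen-Macaulay and locally of
finite presentation, assume the stabilizer G -> U is locally quasi-finite (locally of finite type
with discrete fibres), and let u be a finite type point of U. Then there exist an affine scheme U',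
an immersion g : U' -> U locally of finite presentation and a point u' with g(u') = u such that h =
s ∘ pr_1 : U' x_(g,U,t) R -> U and the source and target s', t' : R' -> U' of the restriction R' =
(U' x_(g,U,t) R) x_(h,U,g) U' are flat, locally of finite presentation and locally quasi-finite.
Here a morphism is Cohen-Macaulay when it is Cohen-Macaulay at every point of its source (flat there
with Cohen-Macaulay fibre local ring, Grpd.IsCMAt), and a finite type point u is one for which Spec
κ(u) -> U is locally of finite type. (A groupoid scheme carries U, R, s, t, c, e, i over S with the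
groupoid axioms on T-points; c is defined on the fibre product of s and t and sends a pair (a, b)
with s(a) = t(b) to a composed with b.) -/
theorem result (S : Scheme.{u}) (G : Grpd.GroupoidScheme S) [LocallyOfFinitePresentation G.s] [LocallyOfFinitePresentation G.t] (hs : ∀ r : G.R, Grpd.IsCMAt G.s r) (ht : ∀ r : G.R, Grpd.IsCMAt G.t r) [LocallyOfFiniteType G.stabilizerToU] [LocallyQuasiFinite G.stabilizerToU] (u : G.U) (hu : LocallyOfFiniteType (G.U.fromSpecResidueField u)) : ∃ (U' : Scheme.{u}) (_ : IsAffine U') (g : U' ⟶ G.U) (u' : U'), IsImmersion g ∧ LocallyOfFinitePresentation g ∧ g u' = u ∧ (Flat (pullback.snd g G.t ≫ G.s) ∧ LocallyOfFinitePresentation (pullback.snd g G.t ≫ G.s) ∧ LocallyOfFiniteType (pullback.snd g G.t ≫ G.s) ∧ LocallyQuasiFinite (pullback.snd g G.t ≫ G.s)) ∧ (Flat (pullback.snd (pullback.snd g G.t ≫ G.s) g) ∧ LocallyOfFinitePresentation (pullback.snd (pullback.snd g G.t ≫ G.s) g) ∧ LocallyQuasiFinite (pullback.snd (pullback.snd g G.t ≫ G.s) g)) ∧ (Flat (pullback.fst (pullback.snd g G.t ≫ G.s) g ≫ pullback.fst g G.t) ∧ LocallyOfFinitePresentation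 (pullback.fst (pullback.snd g G.t ≫ G.s) g ≫ pullback.fst g G.t) ∧ LocallyQuasiFinite (pullback.fst (pullback.snd g G.t ≫ G.s) g ≫ pullback.fst g G.t)) := by
  obtain ⟨Z, hZ, g, z, p, hg, hgf, hz, -, -, hCM, -, hqf⟩ :=
    Groth.Agent.GrpdSlice.exists_max G hs ht u hu
  haveI := hgf
  obtain ⟨h1, h2, h3, h4⟩ := Groth.Agent.GrpdSlice.restriction_CM G g hCM
  haveI : Flat (pullback.snd g G.t ≫ G.s) := Groth.Agent.GrpdSlice.flat_of_forall_isCMAt _ hCM
  obtain ⟨σ, hσ, hσs⟩ := Groth.Agent.GrpdSlice.exists_swap G g
  haveI : LocallyQuasiFinite (pullback.snd g G.t ≫ G.s) := by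
    refine hqf ?_
    have : DiscreteTopology ↥(G.stabilizerToU.fiber u) := inferInstance
    have key : ∀ (a : G.stabilizer) (v : G.U), G.stabilizerToU a = v →
        Nonempty ↥(G.stabilizerToU.fiber v) := by
      rintro a v rfl
      exact ⟨G.stabilizerToU.asFiber a⟩
    obtain ⟨w⟩ := key (G.eStab u) u (by
        rw [← Scheme.Hom.comp_apply, GroupoidScheme.eStab, GroupoidScheme.stabilizerToU, pullback.lift_snd]
        rfl)
    refine le_antisymm (topologicalKrullDim_zero_of_discreteTopology _) ?_
    have : Nonempty (TopologicalSpace.IrreducibleCloseds ↥(G.stabilizerToU.fiber u)) :=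
      ⟨⟨closure {w}, isIrreducible_singleton.closure, isClosed_closure⟩⟩
    exact Order.krullDim_nonneg
  refine ⟨Z, hZ, g, z, hg, hgf, hz, ⟨inferInstance, inferInstance, inferInstance, inferInstance⟩,
    ⟨Groth.Agent.GrpdSlice.flat_of_forall_isCMAt _ h1, h2, inferInstance⟩,
    ⟨Groth.Agent.GrpdSlice.flat_of_forall_isCMAt _ h3, h4, ?_⟩⟩
  rw [← hσs]
  infer_instance

end Groth.Agent.S7508
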