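import Groth.Statements.S7509
import Groth.Agent.GrpdFld.Closure

set_option backward.isDefEq.respectTransparency false
set_option backward.isDefEq.respectTransparency.types false

set_option autoImplicit false
universe u
open CategoryTheory CategoryTheory.Limits AlgebraicGeometry
open Grpd

namespace Groth.Agent.S7509

/-- Let (U, R, s, t, c) be a groupoid scheme over S with U the spectrum of a field and R quasi-compact
(equivalently s, t quasi-compact), and let Z be the scheme-theoretic image of j = (t, s) : R -> U
x_S U. Then (U, Z, pr_0|_Z, pr_1|_Z, pr_02) is a groupoid scheme over S; stated as: there are a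
groupoid scheme G' over S and a morphism of groupoid schemes φ : (U, R, s, t, c) -> G' which is an
isomorphism on object schemes, such that j' : G'.R -> G'.U x_S G'.U is a closed immersion whose
kernel ideal sheaf equals the kernel ideal sheaf of j followed by the induced isomorphism U x_S U ->
G'.U x_S G'.U (so G'.R is the scheme-theoretic image of j, transported). (A groupoid scheme carries
U, R, s, t, c, e, i over S with the groupoid axioms on T-points; c is defined on the fibre product
of s and t and sends a pair (a, b) with s(a) = t(b) to a composed with b.) -/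
theorem result (S : Scheme.{u}) (G : Grpd.GroupoidScheme S) (k : Type u) [Field k] (eU : G.U ≅ Spec (CommRingCat.of k)) [CompactSpace G.R] : ∃ (G' : Grpd.GroupoidScheme S) (φ : Grpd.GroupoidScheme.Hom G G'), IsIso φ.fU ∧ IsClosedImmersion G'.j ∧ G'.j.ker = (G.j ≫ pullback.map G.pU G.pU G'.pU G'.pU φ.fU φ.fU (𝟙 S) ((Category.comp_id _).trans φ.fU_over.symm) ((Category.comp_id _).trans φ.fU_over.symm)).ker := by
  have : IsIso (Groth.Agent.GrpdFld.toPair G).fU := inferInstanceAs (IsIso (𝟙 G.U))
  have : IsAffine G.U := IsAffine.of_isIso eU.hom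
  have : CompactSpace G.U := inferInstance
  have : IsSeparated (G.pU ≫ terminal.from S) := by
    rw [terminal.hom_ext (G.pU ≫ terminal.from S) (terminal.from G.U)]
    infer_instance
  have : IsSeparated G.pU := IsSeparated.of_comp G.pU (terminal.from S)
  have : QuasiCompact (G.j ≫ pullback.snd G.pU G.pU) := by
    rw [Groth.Agent.GrpdLib.j_snd]
    exact (quasiCompact_iff_compactSpace G.s).mpr inferInstance
  have : QuasiCompact (Groth.Agent.GrpdFld.toPair G).fR := QuasiCompact.of_comp G.j (pullback.snd G.pU G.pU)
  obtain ⟨G', ψ, φ, -, hU, hc, hker, hφ, hUU, hRR⟩ := Groth.Agent.GrpdFld.exists_schImage (Groth.Agent.GrpdFld.toPair G) k eU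
  refine ⟨G', φ, hφ, ?_, ?_⟩
  all_goals
    have hψ : ψ.fU ≫ G.pU = G'.pU := ψ.fU_over
    let m := pullback.map G'.pU G'.pU G.pU G.pU ψ.fU ψ.fU (𝟙 S)
      ((Category.comp_id _).trans hψ.symm) ((Category.comp_id _).trans hψ.symm)
    have hj : G'.j ≫ m = ψ.fR := by
      apply pullback.hom_ext
      · simp only [m, Grpd.GroupoidScheme.j, Category.assoc, pullback.map, pullback.lift_fst,
          pullback.lift_fst_assoc]
        exact ψ.comm_t.symm
      · simp only [m, Grpd.GroupoidScheme.j, Category.assoc, pullback.map, pullback.lift_snd,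
          pullback.lift_snd_assoc]
        exact ψ.comm_s.symm
    have : IsIso m := by
      have : IsIso ψ.fU := hU
      infer_instance
  · have : IsClosedImmersion (G'.j ≫ m) := by rw [hj]; exact hc
    exact IsClosedImmersion.of_comp G'.j m
  · let n := pullback.map G.pU G.pU G'.pU G'.pU φ.fU φ.fU (𝟙 S)
      ((Category.comp_id _).trans φ.fU_over.symm) ((Category.comp_id _).trans φ.fU_over.symm)
    have : IsIso φ.fU := hφ
    have hnm : n ≫ m = 𝟙 _ := by
      apply pullback.hom_ext <;> simp only [n, m, pullback.map, Category.assoc, pullback.lift_fst,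
        pullback.lift_snd, pullback.lift_fst_assoc, pullback.lift_snd_assoc, hUU, Category.id_comp] <;>
        exact Category.comp_id _
    have hn : n = inv m := (IsIso.eq_inv_of_inv_hom_id hnm).symm ▸ rfl
    show G'.j.ker = (G.j ≫ n).ker
    have e : G'.j = ψ.fR ≫ n := by rw [← hj, hn, Category.assoc, IsIso.hom_inv_id, Category.comp_id]
    rw [e, Scheme.Hom.ker_comp, Scheme.Hom.ker_comp G.j, hker]
    rfl

end Groth.Agent.S7509
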