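import Groth.Statements.S7515
import Groth.Agent.GrpdEtQuot.Bridge

set_option backward.isDefEq.respectTransparency false
set_option backward.isDefEq.respectTransparency.types false

set_option autoImplicit false
universe u
open CategoryTheory CategoryTheory.Limits AlgebraicGeometry
open Grpd

namespace Groth.Agent.S7515

/-- Let f : (U', R', s', t', c') -> (U, R, s, t, c) be a morphism of groupoid schemes over S with U, R,
U', R' affine, s, t, s', t' finite locally free, the squares for s and for t cartesian, the induced
square of stabilizer group schemes cartesian, and f : U' -> U étale. Then for the morphism g : Spec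
C' -> Spec C on spectra of invariant rings compatible with U' -> U, the square with sides U' -> U,
U' -> Spec C', g and U -> Spec C is cartesian, that is U' = Spec C' x_(Spec C) U. (The source also
shows that g is étale; that conclusion is not stated here.) (A groupoid scheme carries U, R, s, t,
c, e, i over S with the groupoid axioms on T-points; c is defined on the fibre product of s and t
and sends a pair (a, b) with s(a) = t(b) to a composed with b.) C ⊂ Γ(U) is the ring of functions a
with s^#(a) = t^#(a). -/
theorem result (S : Scheme.{u}) (G' G : Grpd.GroupoidScheme S) (f : Grpd.GroupoidScheme.Hom G' G) [IsAffine G.U] [IsAffine G.R] [IsAffine G'.U] [IsAffine G'.R] [IsFinite G.s] [Flat G.s] [LocallyOfFinitePresentation G.s] [IsFinite G.t] [Flat G.t] [LocallyOfFinitePresentation G.t] [IsFinite G'.s] [Flat G'.s] [LocallyOfFinitePresentation G'.s] [IsFinite G'.t] [Flat G'.t] [LocallyOfFinitePresentation G'.t] (hs : IsPullback f.fR G'.s G.s f.fU) (ht : IsPullback f.fR G'.t G.t f.fU) (hstab : ∃ g : G'.stabilizer ⟶ G.stabilizer, g ≫ pullback.fst G.j G.diag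 = pullback.fst G'.j G'.diag ≫ f.fR ∧ IsPullback g G'.stabilizerToU G.stabilizerToU f.fU) [Etale f.fU] : ∀ g : Spec (CommRingCat.of G'.invariants) ⟶ Spec (CommRingCat.of G.invariants), G'.toQuot ≫ g = f.fU ≫ G.toQuot → IsPullback f.fU G'.toQuot G.toQuot g := by
  intro g hg
  let ψ : CommRingCat.of G.invariants ⟶ CommRingCat.of G'.invariants := CommRingCat.ofHom (Groth.Agent.GrpdEtQuot.invMap f)
  have hψ : G'.toQuot ≫ Spec.map ψ = f.fU ≫ G.toQuot := by
    rw [GroupoidScheme.toQuot, GroupoidScheme.toQuot, Category.assoc, ← Spec.map_comp, Scheme.toSpecΓ_naturality_assoc,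
      ← Spec.map_comp]
    rfl
  have hgψ : g = Spec.map ψ := by
    have e : G'.U.isoSpec.hom ≫ Spec.map (CommRingCat.ofHom G'.invariants.subtype) ≫ g =
        G'.U.isoSpec.hom ≫ Spec.map (CommRingCat.ofHom G'.invariants.subtype) ≫ Spec.map ψ :=
      (Category.assoc _ _ _).symm.trans ((hg.trans hψ.symm).trans (Category.assoc _ _ _))
    rw [cancel_epi, ← Spec.map_preimage g, ← Spec.map_comp, ← Spec.map_comp] at e
    have e' := Spec.map_injective e
    rw [← Spec.map_preimage g]
    congr 1
    haveI : Mono (CommRingCat.ofHom G'.invariants.subtype) :=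
      ConcreteCategory.mono_of_injective _ Subtype.val_injective
    exact (cancel_mono (CommRingCat.ofHom G'.invariants.subtype)).1 e'
  subst hgψ
  have hpo := Groth.Agent.GrpdEtQuot.isPushout_invariants f hs ht hstab
  have hpb := isPullback_SpecMap_of_isPushout _ _ _ _ hpo
  refine IsPullback.of_iso hpb.flip G'.U.isoSpec.symm G.U.isoSpec.symm (Iso.refl _) (Iso.refl _) ?_ ?_ ?_ ?_
  · simp only [Iso.symm_hom, Iso.comp_inv_eq, Category.assoc]
    rw [← Scheme.isoSpec_inv_naturality_assoc, Iso.inv_hom_id, Category.comp_id]
  · simp only [Iso.symm_hom, Iso.refl_hom, Category.comp_id, GroupoidScheme.toQuot, ← Scheme.isoSpec_hom,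
      Iso.inv_hom_id_assoc]
  · simp only [Iso.symm_hom, Iso.refl_hom, Category.comp_id, GroupoidScheme.toQuot, ← Scheme.isoSpec_hom,
      Iso.inv_hom_id_assoc]
  · simp [ψ]

end Groth.Agent.S7515
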