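import Groth.Statements.S7638

import Groth.Agent.S1641
import Groth.Agent.VarBase.DetDeg
import Groth.Agent.CIntLib.ExtPowPull
import Groth.Agent.SurfInt.SectionDeg
import Groth.Agent.BunLib68.TF.Beta

set_option autoImplicit false
set_option linter.style.haveILetI false
set_option linter.unusedSectionVars false
set_option backward.isDefEq.respectTransparency false
set_option backward.isDefEq.respectTransparency.types false
universe u
open CategoryTheory CategoryTheory.Limits AlgebraicGeometry
open Variety

namespace Groth.Agent.S7638

open Groth.Agent TopologicalSpace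

/-- Let X be proper of dimension at most one over a field k, let E be finite locally free of rank n and
let L be an n-th exterior power of E (its determinant). Then deg(E) = deg(L), the latter computed as
a module of rank one. -/
theorem result (k : Type u) [Field k] (X : Scheme.{u}) [X.Over (Spec (CommRingCat.of k))] [IsProper (X ↘ (Spec (CommRingCat.of k)))]
    (hdim : topologicalKrullDim X ≤ 1) (n : ℕ) (E : X.Modules) (hE : FlatMod.IsFinLocFreeOfRank n E)
    (L : X.Modules) (hL : ExtPow.IsExtPow n E L) :
    Curv2.deg k X E n = Curv2.deg k X L 1 := by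
  classical
  haveI := CurveCohLib.isNoetherian_of_proper (k := k) (X := X)
  have hEq := QCoh.isQCoh_of_isFinLocFree (fun y => let ⟨W, hy, he⟩ := hE y; ⟨W, n, hy, he⟩)
  have hLi : PicF.IsInvertible L := CanonDual.isInvertible_of_isExtPow hE hEq hL
  rw [S1641.result k X hdim n E hE, S1641.result k X hdim 1 L (InvEnd.isFinLocFreeOfRank_one hLi)]
  refine finsum_congr fun Z => ?_
  split_ifs with hZ
  · congr 1
    set I := (X.irreducibleComponentIdeal Z.1 Z.2).radical with hI
    letI : I.subscheme.Over (Spec (CommRingCat.of k)) := ⟨I.subschemeι ≫ (X ↘ (Spec (CommRingCat.of k)))⟩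
    haveI : IsProper (I.subscheme ↘ Spec (CommRingCat.of k)) :=
      inferInstanceAs (IsProper (I.subschemeι ≫ (X ↘ (Spec (CommRingCat.of k)))))
    have hcl : closure ({Z.2.1.genericPoint} : Set X) = Z.1 :=
      Z.2.1.closure_genericPoint (isClosed_of_mem_irreducibleComponents _ Z.2)
    have hI' : VarBase.clIdeal Z.2.1.genericPoint = I := by
      rw [hI, ← Scheme.IdealSheafData.vanishingIdeal_support, VarBase.clIdeal]
      exact congrArg Scheme.IdealSheafData.vanishingIdeal (Closeds.ext hcl)
    haveI : IsIntegral I.subscheme := hI' ▸ SurfInt.isIntegral_clIdeal Z.2.1.genericPoint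
    refine VarBase.DetDeg.deg_eq k ?_ (BunLib68.TF.isFinLocFreeOfRank_pullback I.subschemeι hE)
      (CIntLib.isExtPow_pullback I.subschemeι n hEq hL)
    rw [← hZ, ← SurfInt.dim_range' I.subschemeι, ← hI', VarBase.range_clIdeal, hcl]
  · rfl

end Groth.Agent.S7638
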