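import Groth.Statements.S7641

import Groth.Agent.SurfInt.SectionDeg
import Groth.Agent.SurfInt.Boundary
import Groth.Agent.Growth22.CurveNef

set_option autoImplicit false
set_option linter.style.haveILetI false
set_option linter.unusedSectionVars false
set_option backward.isDefEq.respectTransparency false
set_option backward.isDefEq.respectTransparency.types false
universe u
open CategoryTheory CategoryTheory.Limits AlgebraicGeometry
open Variety

namespace Groth.Agent.S7641

open Groth.Agent TopologicalSpace Groth.Agent.InvX

/-- Let X be proper over a field k, reduced and connected, with every irreducible component of dimension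
one, and let L be an invertible module whose restriction to each irreducible component C, with its
reduced induced structure, has degree at most zero. Then H^0(X, L) = 0 or L is isomorphic to O_X. -/
theorem result (k : Type u) [Field k] (X : Scheme.{u}) [X.Over (Spec (CommRingCat.of k))] [IsProper (X ↘ (Spec (CommRingCat.of k)))]
    [IsReduced X] [ConnectedSpace X] [IsNoetherian X]
    (hdim : ∀ (C : Set X), C ∈ irreducibleComponents (X : Type u) → topologicalKrullDim C = 1)
    (L : X.Modules) (hL : PicF.IsInvertible L)
    (hdeg : ∀ (C : Set X) (hC : C ∈ irreducibleComponents (X : Type u)), @Curv2.deg k _ (X.irreducibleComponentIdeal C hC).radical.subscheme ⟨(X.irreducibleComponentIdeal C hC).radical.subschemeι ≫ (X ↘ (Spec (CommRingCat.of k)))⟩ ((Scheme.Modules.pullback (X.irreducibleComponentIdeal C hC).radical.subschemeι).obj L) 1 ≤ 0) :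
    Subsingleton (Coh.HH X L 0) ∨ Nonempty (L ≅ Coh.structureModule X) := by
  classical
  by_cases hsub : Subsingleton (Coh.HH X L 0)
  · exact Or.inl hsub
  refine Or.inr ?_
  obtain ⟨t, ht⟩ : ∃ t : Coh.HH X L 0, t ≠ 0 := by
    by_contra! h
    exact hsub (subsingleton_of_forall_eq 0 h)
  let a : Γ(L, ⊤) := Sheaf.H.equiv₀ (Coh.toAb L) isTerminalTop t
  let σ := InvX.ofSect (M := L) a
  let G : X.Opens := CohB1.genLocus L σ
  -- the locus is a union of components
  have hcomp : ∀ C ∈ irreducibleComponents (X : Type u), (C ∩ (G : Set X)).Nonempty → C ⊆ (G : Set X) := by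
    intro C hC hne x hx
    by_contra hxG
    let ξ := hC.1.genericPoint
    have hcl : closure ({ξ} : Set X) = C := hC.1.closure_genericPoint (isClosed_of_mem_irreducibleComponents _ hC)
    obtain ⟨z, hzC, hzG⟩ := hne
    have hξG : ξ ∈ G := (specializes_iff_mem_closure.2 (hcl.ge hzC)).mem_open G.2 hzG
    have hI : VarBase.clIdeal ξ = (X.irreducibleComponentIdeal C hC).radical := by
      rw [← Scheme.IdealSheafData.vanishingIdeal_support, VarBase.clIdeal]
      exact congrArg Scheme.IdealSheafData.vanishingIdeal (Closeds.ext hcl)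
    have hd : topologicalKrullDim ↥(closure ({ξ} : Set X)) ≤ ((1 : ℕ) : WithBot ℕ∞) := by
      rw [hcl, hdim C hC, Nat.cast_one]
    have hpos := SurfInt.curveDeg_pos_of_section k hd hL σ hξG (hcl.ge hx) hxG
    rw [hI, SurfInt.curveDeg, Growth22.euler_quot_eq_deg _ hL] at hpos
    exact absurd (hdeg C hC) (not_le.2 hpos)
  have hclosed : IsClosed (G : Set X) := by
    have hG : (G : Set X) = ⋃ C ∈ {C ∈ irreducibleComponents (X : Type u) | C ⊆ (G : Set X)}, C := by
      refine Set.Subset.antisymm (fun x hx => ?_) (Set.iUnion₂_subset fun C hC => hC.2)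
      exact Set.mem_biUnion
        ⟨irreducibleComponent_mem_irreducibleComponents x, hcomp _ (irreducibleComponent_mem_irreducibleComponents x)
          ⟨x, mem_irreducibleComponent, hx⟩⟩ mem_irreducibleComponent
    rw [hG]
    exact (NoetherianSpace.finite_irreducibleComponents.subset fun C hC => hC.1).isClosed_biUnion
      fun C hC => isClosed_of_mem_irreducibleComponents C hC.1
  rcases isClopen_iff.1 ⟨hclosed, G.2⟩ with hG | hG
  · refine absurd ((Sheaf.H.equiv₀ (Coh.toAb L) isTerminalTop).injective ?_) ht
    rw [map_zero]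
    show a = 0
    refine AModX.eq_of_locally a 0 fun p _ => ?_
    obtain ⟨U, hpU, e, he⟩ := InvX.exists_frame hL p
    obtain ⟨g, hg⟩ := he.exists_coord le_rfl (AModX.res L (le_top : U ≤ ⊤) a)
    rw [AModX.res_self] at hg
    refine ⟨U, le_top, hpU, ?_⟩
    have hb : X.basicOpen g = ⊥ := by
      rw [← InvX.genLocus_inf σ he (by rw [InvX.one_ofSect]; exact hg), eq_bot_iff]
      exact fun y hy => (Set.eq_empty_iff_forall_notMem.1 hG y hy.1).elim
    rw [hg, eq_zero_of_basicOpen_eq_bot g hb, zero_smul, map_zero]
  · haveI := SurfInt.isIso_of_genLocus_eq_top (s := σ) (Opens.ext hG)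
    exact ⟨(asIso σ).symm⟩

end Groth.Agent.S7641
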