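import Groth.Statements.S7647
import Groth.Agent.VarBase.Inum
import Groth.Agent.VarBase.Restrict

set_option autoImplicit false
set_option linter.style.haveILetI false
set_option backward.isDefEq.respectTransparency false
set_option backward.isDefEq.respectTransparency.types false
universe u
open CategoryTheory CategoryTheory.Limits AlgebraicGeometry
open Variety

namespace Groth.Agent.S7647

/-- Let X be proper over a field k, Z ⊆ X a closed subscheme of dimension ≤ 1 and L an invertible
module. Then the intersection number (L · Z), i.e. the coefficient of n in the polynomial computing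
χ(X, O_Z ⊗ L^{⊗n}), equals the degree of L|_Z on Z. -/
theorem result (k : Type u) [Field k] (X : Scheme.{u}) [X.Over (Spec (CommRingCat.of k))] [IsProper (X ↘ (Spec (CommRingCat.of k)))]
    (D : X.IdealSheafData) (hD : topologicalKrullDim (D.support : Set X) ≤ 1)
    (L : X.Modules) (hL : PicF.IsInvertible L) (P : MvPolynomial (Fin 1) ℚ)
    (hP : ∀ n : Fin 1 → ℕ, (Curv2.euler k X (Curv2.tensorPows (ClSub.quotMod D) 1 (fun _ => L) n) : ℚ) = MvPolynomial.eval (fun i => (n i : ℚ)) P) :
    MvPolynomial.coeff (Finsupp.equivFunOnFinite.symm fun _ : Fin 1 => 1) P =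
      (@Curv2.deg k _ D.subscheme ⟨D.subschemeι ≫ (X ↘ (Spec (CommRingCat.of k)))⟩
        ((Scheme.Modules.pullback D.subschemeι).obj L) 1 : ℚ) := by
  letI : D.subscheme.Over (Spec (CommRingCat.of k)) := ⟨D.subschemeι ≫ (X ↘ Spec (CommRingCat.of k))⟩
  haveI : IsProper (D.subscheme ↘ Spec (CommRingCat.of k)) := Groth.Agent.VarBase.isProper_sub D.subschemeι k
  haveI := Groth.Agent.CurveCohLib.isNoetherian_of_proper (k := k) (X := X)
  haveI := Groth.Agent.CurveCohLib.isNoetherian_of_proper (k := k) (X := D.subscheme)
  let f := D.subschemeι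
  let P' := (Scheme.Modules.pullback f).obj L
  have hP' : PicF.IsInvertible P' := Groth.Agent.PicClLib.isInvertible_pullback f hL
  have hO : Coh.IsCoh (Coh.structureModule D.subscheme) := Groth.Agent.QCoh.isCoh_structureModule'
  rw [Groth.Agent.VarBase.coeff_eq_inum k (fun _ => hL) (Groth.Agent.VarBase.isCoh_quot D)
    ((Groth.Agent.VarBase.dim_support_quotMod_le D).trans hD) hP]
  congr 1
  obtain ⟨p⟩ := Groth.Agent.VarBase.nonempty_proj f (Coh.structureModule D.subscheme) L
  have h1 : Curv2.euler k X ((Groth.Agent.AmpleVan.tw L).obj (ClSub.quotMod D)) = Curv2.euler k D.subscheme P' := by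
    refine (Groth.Agent.CurveCohLib.euler_congr (k := k) p).trans ?_
    rw [Groth.Agent.VarBase.euler_push f k rfl
      (Groth.Agent.AmpleVan.isCoh_tensor hO (Groth.Agent.AmpleVan.isCoh_invertible hP')).1]
    exact Groth.Agent.CurveCohLib.euler_congr (Groth.Agent.CurveTensor.structureTensorIso P')
  have h2 : Curv2.euler k X (ClSub.quotMod D) = Curv2.euler k D.subscheme (Coh.structureModule D.subscheme) :=
    Groth.Agent.VarBase.euler_push f k rfl hO.1
  show Curv2.euler k X ((Groth.Agent.AmpleVan.tw L).obj (ClSub.quotMod D)) - Curv2.euler k X (ClSub.quotMod D) = _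
  rw [h1, h2, Curv2.deg, Nat.cast_one, one_mul]

end Groth.Agent.S7647
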