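import Groth.Statements.S7648
import Groth.Agent.VarBase.Inum
import Groth.Agent.VarBase.Decomp
import Groth.Agent.Lib.CurvePoint
import Groth.Agent.AlgSpLib.CartierDim

set_option autoImplicit false
set_option linter.style.haveILetI false
set_option backward.isDefEq.respectTransparency false
set_option backward.isDefEq.respectTransparency.types false
universe u
open CategoryTheory CategoryTheory.Limits AlgebraicGeometry
open Variety

namespace Groth.Agent.S7648

open Groth.Agent.VarBase Groth.Agent.HilbPoly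

theorem dim_support_lt {X : Scheme.{u}} [IsNoetherian X] {e : ℕ} (hX : topologicalKrullDim X = e + 1)
    {D : X.IdealSheafData} (hD : BlowUp.IsEffCartierIdeal D) :
    topologicalKrullDim (D.support : Set X) < ((e + 1 : ℕ) : WithBot ℕ∞) := by
  haveI : Nonempty ↥X := by
    by_contra h
    haveI := not_nonempty_iff.1 h
    haveI : IsEmpty (TopologicalSpace.IrreducibleCloseds ↥X) :=
      ⟨fun s => s.isIrreducible.1.ne_empty (Set.eq_empty_of_isEmpty _)⟩
    rw [topologicalKrullDim, Order.krullDim_eq_bot] at hX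
    exact absurd hX (by rw [show ((e : WithBot ℕ∞) + 1) = ((e + 1 : ℕ∞) : WithBot ℕ∞) from rfl]; exact WithBot.bot_ne_coe)
  have h := Groth.Agent.AlgSpLib.CartierDim.topologicalKrullDim_lt (W := ↥X) D.support.isClosed
    (fun z _ => by
      obtain ⟨y, hy, hyz⟩ := ModPairLib.exists_specializes_mem_interior hD z
      exact ⟨y, hy, hyz⟩) (by rw [hX]; exact WithBot.coe_injective.ne (a₁ := ((e : ℕ∞) + 1)) (a₂ := ⊤) (by simp))
  rw [hX] at h
  exact_mod_cast h

/-- Let X be proper over a field k of dimension e + 1, let D ⊆ X be an effective Cartier divisor and let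
L_0, L_1, …, L_e be invertible modules with L_0 ≅ O_X(D), i.e. L_0 ⊗ I_D ≅ O_X. Then (L_0 ⋯ L_e · X)
= (L_1 ⋯ L_e · D): the coefficient of n_0⋯n_e in the polynomial computing χ(X, ⊗_j L_j^{⊗n_j})
equals the coefficient of n_1⋯n_e in the polynomial computing χ(X, O_D ⊗ L_1^{⊗n_1} ⊗ ⋯ ⊗
L_e^{⊗n_e}). (The published statement has a closed subscheme Z ⊆ X of dimension d with D ⊆ Z and
L_1|_Z ≅ O_Z(D); this row is its case Z = X.) -/
theorem result (k : Type u) [Field k] (X : Scheme.{u}) [X.Over (Spec (CommRingCat.of k))] [IsProper (X ↘ (Spec (CommRingCat.of k)))]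
    (e : ℕ) (hX : topologicalKrullDim X = e + 1) (D : X.IdealSheafData) (hD : FGA.IsEffCartier D)
    (L : Fin (e + 1) → X.Modules) (hL : ∀ j, PicF.IsInvertible (L j))
    (hLD : ClSub.IsInverseOf (L 0) (ClSub.idealMod D))
    (P : MvPolynomial (Fin (e + 1)) ℚ) (Q : MvPolynomial (Fin e) ℚ)
    (hP : ∀ n : Fin (e + 1) → ℕ, (Curv2.euler k X (Curv2.tensorPows (Coh.structureModule X) (e + 1) L n) : ℚ) = MvPolynomial.eval (fun i => (n i : ℚ)) P)
    (hQ : ∀ n : Fin e → ℕ, (Curv2.euler k X (Curv2.tensorPows (ClSub.quotMod D) e (fun j => L j.succ) n) : ℚ) = MvPolynomial.eval (fun i => (n i : ℚ)) Q) :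
    MvPolynomial.coeff (Finsupp.equivFunOnFinite.symm fun _ : Fin (e + 1) => 1) P = MvPolynomial.coeff (Finsupp.equivFunOnFinite.symm fun _ : Fin e => 1) Q := by
  have := Groth.Agent.CurveCohLib.isNoetherian_of_proper (k := k) (X := X)
  have hO : Coh.IsCoh (Coh.structureModule X) := Groth.Agent.QCoh.isCoh_structureModule'
  have hDd : topologicalKrullDim ↥(CohB1.support (ClSub.quotMod D)) < ((e + 1 : ℕ) : WithBot ℕ∞) :=
    (dim_support_quotMod_le D).trans_lt (dim_support_lt hX hD)
  have hDe : topologicalKrullDim ↥(CohB1.support (ClSub.quotMod D)) ≤ (e : WithBot ℕ∞) := by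
    generalize topologicalKrullDim ↥(CohB1.support (ClSub.quotMod D)) = a at hDd
    cases a with
    | bot => exact bot_le
    | coe a =>
      rw [← WithBot.coe_natCast, WithBot.coe_lt_coe, Nat.cast_succ] at hDd
      rw [← WithBot.coe_natCast, WithBot.coe_le_coe]
      exact Order.le_of_lt_succ (a := a) (b := (e : ℕ∞)) (by rwa [Order.succ_eq_add_one])
  have hXd : topologicalKrullDim ↥(CohB1.support (Coh.structureModule X)) ≤ ((e + 1 : ℕ) : WithBot ℕ∞) := by
    have h := topologicalKrullDim_subspace_le ↥X (CohB1.support (Coh.structureModule X))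
    rw [hX] at h
    exact_mod_cast h
  let L' : Fin e → X.Modules := fun j => L j.succ
  rw [coeff_eq_inum k hL hO hXd hP, coeff_eq_inum k (L := L') (fun j => hL j.succ) (isCoh_quot D) hDe hQ]
  congr 1
  have hiso : ∀ A B : X.Modules, Nonempty (A ≅ B) → Curv2.euler k X A = Curv2.euler k X B :=
    (additive_euler k).iso
  let φ := iterD (revList L') (Curv2.euler k X)
  have hφ : Additive φ := additive_inum k (fun j => hL j.succ)
  have hl : revList L = revList L' ++ [L 0] := by
    simp only [revList, List.ofFn_succ, List.reverse_cons]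
    rfl
  change inum k L _ = φ _
  rw [inum, hl, iterD_append, iterD_sub, iterD_comp_tw hiso]
  change φ ((Groth.Agent.AmpleVan.tw (L 0)).obj (Coh.structureModule X)) - φ (Coh.structureModule X) = _
  have hS : (ShortComplex.mk (ClSub.idealModι D) (ClSub.toSubscheme D) (kernel.condition _)).ShortExact := by
    have := Groth.Agent.CurvePoint.epi_toSubscheme D
    exact Groth.Agent.CurveSlope.shortExact_kernel_of_epi _
  have hI : Coh.IsCoh (ClSub.idealMod D) := Groth.Agent.QCoh.isCoh_kernel hO (isCoh_quot D) _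
  have h := (hφ.shift (hL 0)).add _ hS hI hO (isCoh_quot D)
  have h1 : φ ((Groth.Agent.AmpleVan.tw (L 0)).obj (ClSub.idealMod D)) = φ (Coh.structureModule X) :=
    hφ.iso _ _ ⟨(show (Groth.Agent.AmpleVan.tw (L 0)).obj (ClSub.idealMod D) ≅ CohB1.tensorMod (L 0) (ClSub.idealMod D) from
      Groth.Agent.CurveTensor.commIso (ClSub.idealMod D) (L 0)) ≪≫ Nonempty.some hLD⟩
  have h2 : φ ((Groth.Agent.AmpleVan.tw (L 0)).obj (ClSub.quotMod D)) = φ (ClSub.quotMod D) := by
    have := iterD_eq_zero (e + 1) (additive_euler k) (L 0 :: revList L') (by simp) (fun N hN => by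
      rcases List.mem_cons.1 hN with rfl | hN
      exacts [hL 0, inv_revList (fun j => hL j.succ) N hN]) (ClSub.quotMod D) (isCoh_quot D) hDd
    simp only [iterD] at this
    exact sub_eq_zero.1 this
  simp only at h
  rw [h, h1, h2]
  exact add_sub_cancel_left _ _

end Groth.Agent.S7648
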