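import Groth.Statements.S7650
import Groth.Agent.VarBase.Restrict

set_option autoImplicit false
set_option linter.style.haveILetI false
set_option backward.isDefEq.respectTransparency false
set_option backward.isDefEq.respectTransparency.types false
universe u
open CategoryTheory CategoryTheory.Limits AlgebraicGeometry
open Variety

namespace Groth.Agent.S7650

open Groth.Agent.Snapper Groth.Agent.VarBase

/-- The functions given by polynomials of degree `< d`. -/
def polyLt (r d : ℕ) : AddSubgroup ((Fin r → ℕ) → ℚ) where
  carrier := {f | IsMPolyLt d f}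
  add_mem' h h' := h.add h'
  zero_mem' := ⟨0, degLt_zero d, fun _ => by simp⟩
  neg_mem' := fun {f} h => IsMPolyLt.congr ((show IsMPolyLt d (0 : (Fin r → ℕ) → ℚ) from
    ⟨0, degLt_zero d, fun _ => by simp⟩).sub h) fun n => by simp

/-- Let X be proper over a field k, F a coherent module with dim Supp(F) = d and L_1, …, L_r invertible
modules. The Euler characteristic of F twisted by L_1^{⊗n_1} ⊗ ⋯ ⊗ L_r^{⊗n_r}, minus the sum over
the d-dimensional irreducible components Z of Supp(F) of the length of F at the generic point of Z
times the Euler characteristic on Z of the restricted twist, agrees with a rational polynomial in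
the exponents each of whose monomials has total degree less than d. Here the sum is written over all
points ξ of X whose closure has dimension d (the term vanishes unless ξ is the generic point of a
d-dimensional component of Supp(F)), and Z_ξ carries its reduced induced structure. (The published
statement lets the exponents range over all integers; this row takes them in ℕ.) -/
theorem result (k : Type u) [Field k] (X : Scheme.{u}) [X.Over (Spec (CommRingCat.of k))] [IsProper (X ↘ (Spec (CommRingCat.of k)))]
    (F : X.Modules) (hF : Coh.IsCoh F) (d : ℕ) (hd : topologicalKrullDim (CohB1.support F) = d)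
    (r : ℕ) (L : Fin r → X.Modules) (hL : ∀ i, PicF.IsInvertible (L i)) :
    ∃ P : MvPolynomial (Fin r) ℚ, (∀ m ∈ P.support, (m.sum fun _ e => e) < d) ∧
      ∀ n : Fin r → ℕ,
        (Curv2.euler k X (Curv2.tensorPows F r L n) : ℚ) -
          ∑ᶠ ξ : X, (if topologicalKrullDim (closure ({ξ} : Set X)) = (d : WithBot ℕ∞) then
            ((Module.length (X.presheaf.stalk ξ) (F.presheaf.stalk ξ)).toNat : ℚ) *
              (@Curv2.euler k _
                (Scheme.IdealSheafData.vanishingIdeal (⟨closure ({ξ} : Set X), isClosed_closure⟩ : TopologicalSpace.Closeds X)).subscheme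
                ⟨(Scheme.IdealSheafData.vanishingIdeal (⟨closure ({ξ} : Set X), isClosed_closure⟩ : TopologicalSpace.Closeds X)).subschemeι ≫ (X ↘ (Spec (CommRingCat.of k)))⟩
                (Curv2.tensorPows
                  (Coh.structureModule (Scheme.IdealSheafData.vanishingIdeal (⟨closure ({ξ} : Set X), isClosed_closure⟩ : TopologicalSpace.Closeds X)).subscheme)
                  r (fun i => (Scheme.Modules.pullback
                    (Scheme.IdealSheafData.vanishingIdeal (⟨closure ({ξ} : Set X), isClosed_closure⟩ : TopologicalSpace.Closeds X)).subschemeι).obj (L i)) n) : ℚ)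
            else 0)
          = MvPolynomial.eval (fun i => (n i : ℚ)) P := by
  classical
  haveI := Groth.Agent.CurveCohLib.isNoetherian_of_proper (k := k) (X := X)
  let Ψ : X.Modules → ((Fin r → ℕ) → ℚ) ⧸ polyLt r d := fun M => QuotientAddGroup.mk (χs k L M)
  have h := eq_compSum Ψ (fun M N ⟨e⟩ => congrArg QuotientAddGroup.mk (funext (χs_congr k e))) d
    (fun S hS h₁ h₂ h₃ => (congrArg QuotientAddGroup.mk (χs_add k hL hS h₁ h₂ h₃)).trans
      (QuotientAddGroup.mk_add _ _ _))
    (fun M hM hlt => (QuotientAddGroup.eq_zero_iff _).2 (isMPolyLt_of_dim_lt k hL d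
      ⟨_, Groth.Agent.QCoh.isClosed_support_of_isFT hM.1 hM.2⟩ hlt M hM subset_rfl)) hF hd.le
  let g : X → (Fin r → ℕ) → ℚ := fun ξ =>
    if topologicalKrullDim (closure ({ξ} : Set X)) = (d : WithBot ℕ∞) then
      lenAt F ξ • χs k L (ClSub.quotMod (clIdeal ξ)) else 0
  let s := (finite_top_points hF hd.le).toFinset
  have hg : Function.support g ⊆ ↑s := fun ξ hξ => by
    simp only [g, Function.mem_support, ne_eq, ite_eq_right_iff, Classical.not_imp] at hξ
    rw [Set.Finite.coe_toFinset]
    exact ⟨hξ.1, fun h => hξ.2 (by rw [lenAt_eq_zero (not_not.2 h), zero_smul])⟩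
  have hcomp : compSum d Ψ F = QuotientAddGroup.mk' (polyLt r d) (∑ᶠ ξ, g ξ) := by
    rw [(QuotientAddGroup.mk' (polyLt r d)).map_finsum (s.finite_toSet.subset hg)]
    refine finsum_congr fun ξ => ?_
    simp only [g]
    split_ifs
    · exact ((QuotientAddGroup.mk' (polyLt r d)).map_nsmul _ _).symm
    · exact (QuotientAddGroup.mk' (polyLt r d)).map_zero.symm
  obtain ⟨P, hP, hPn⟩ := (QuotientAddGroup.eq_iff_sub_mem).1 (h.trans hcomp)
  refine ⟨P, hP, fun n => ?_⟩
  rw [← hPn n, Pi.sub_apply, finsum_eq_sum_of_support_subset g hg, Finset.sum_apply]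
  refine congrArg (_ - ·) ?_
  rw [finsum_eq_sum_of_support_subset (s := s)]
  · refine Finset.sum_congr rfl fun ξ _ => ?_
    simp only [g]
    split_ifs with hξ
    · rw [Pi.smul_apply, nsmul_eq_mul]
      refine congrArg (_ * ·) ?_
      let f := (clIdeal ξ).subschemeι
      letI : (clIdeal ξ).subscheme.Over (Spec (CommRingCat.of k)) := ⟨f ≫ (X ↘ Spec (CommRingCat.of k))⟩
      haveI : IsProper ((clIdeal ξ).subscheme ↘ Spec (CommRingCat.of k)) := isProper_sub f k
      haveI := Groth.Agent.CurveCohLib.isNoetherian_of_proper (k := k) (X := (clIdeal ξ).subscheme)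
      exact (congrArg Int.cast (euler_tensorPows_push f k rfl hL n
        Groth.Agent.QCoh.isCoh_structureModule')).symm
    · rfl
  · intro ξ hξ
    simp only [Function.mem_support, ne_eq, ite_eq_right_iff, Classical.not_imp, mul_eq_zero, not_or,
      Nat.cast_eq_zero] at hξ
    rw [Set.Finite.coe_toFinset]
    exact ⟨hξ.1, fun h => hξ.2.1 (lenAt_eq_zero (not_not.2 h))⟩

end Groth.Agent.S7650
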