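import Groth.Statements.S7670

import Groth.Agent.VarBase.DimOne.Shrink
import Groth.Agent.VarBase.DimOne.Pull
import Groth.Agent.S1552
import Groth.Agent.QCoh.DevissageSum

set_option autoImplicit false
set_option linter.style.haveILetI false
set_option linter.unusedSectionVars false
set_option backward.isDefEq.respectTransparency false
set_option backward.isDefEq.respectTransparency.types false
universe u
open CategoryTheory CategoryTheory.Limits AlgebraicGeometry
open Variety

namespace Groth.Agent.S7670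

open Groth.Agent.VarBase.DimOne Groth.Agent.AModX Groth.Agent.InvX

attribute [local instance] Groth.Agent.QCoh.hasFiniteBiproducts

theorem biproduct_app_eq {X : Scheme.{u}} {n : ℕ} (M : Fin n → X.Modules) (W : X.Opens) (x : Γ(⨁ M, W)) :
    x = ∑ j, (biproduct.ι M j).app W ((biproduct.π M j).app W x) := by
  let ev : (⨁ M ⟶ ⨁ M) →+ Γ(⨁ M, W) :=
    { toFun := fun f => f.app W x, map_zero' := rfl, map_add' := fun _ _ => rfl }
  have h := congrArg ev (biproduct.total (f := M))
  rw [map_sum] at h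
  exact h.symm

theorem π_ι_app {X : Scheme.{u}} {n : ℕ} (M : Fin n → X.Modules) (W : X.Opens) (i : Fin n)
    (a : Γ(M i, W)) : (biproduct.π M i).app W ((biproduct.ι M i).app W a) = a := by
  show (biproduct.ι M i ≫ biproduct.π M i).app W a = a
  rw [biproduct.ι_π_self]
  rfl

theorem π_ι_app_ne {X : Scheme.{u}} {n : ℕ} (M : Fin n → X.Modules) (W : X.Opens) {i j : Fin n} (h : j ≠ i)
    (a : Γ(M j, W)) : (biproduct.π M i).app W ((biproduct.ι M j).app W a) = 0 := by
  show (biproduct.ι M j ≫ biproduct.π M i).app W a = 0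
  rw [biproduct.ι_π_ne _ h]
  rfl

theorem π_bijective {X : Scheme.{u}} {n : ℕ} (M : Fin n → X.Modules) (W : X.Opens) (i : Fin n)
    (h : ∀ j, j ≠ i → Subsingleton Γ(M j, W)) : Function.Bijective ((biproduct.π M i).app W) := by
  refine ⟨fun a b hab => ?_, fun a => ⟨_, π_ι_app M W i a⟩⟩
  rw [biproduct_app_eq M W a, biproduct_app_eq M W b]
  refine Finset.sum_congr rfl fun j _ => congrArg _ ?_
  by_cases hji : j = i
  · subst hji; exact hab
  · have := h j hji
    exact Subsingleton.elim _ _

/-- Let X be a reduced scheme and Z_1, …, Z_n ⊆ X closed subschemes with X = ⋃ Z_i set-theoretically and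
Z_i ∩ Z_j discrete for i ≠ j, and let L_i be an invertible module on Z_i. Then there is an
invertible module L on X whose restriction to each Z_i is isomorphic to L_i. (The published
statement also gives, for sections s_i of L_i that do not vanish at the points of Z_i ∩ Z_j, a
choice of L with a global section restricting to each s_i; this row states only the existence of L.) -/
theorem result (X : Scheme.{u}) [IsReduced X]
    (n : ℕ) (Z : Fin n → X.IdealSheafData)
    (hcov : ⋃ i, ((Z i).support : Set X) = Set.univ)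
    (hdisc : ∀ i j, i ≠ j → DiscreteTopology ↥(((Z i).support : Set X) ∩ ((Z j).support : Set X)))
    (L : ∀ i, (Z i).subscheme.Modules) (hL : ∀ i, PicF.IsInvertible (L i)) :
    ∃ M : X.Modules, PicF.IsInvertible M ∧
      ∀ i, Nonempty ((Scheme.Modules.pullback (Z i).subschemeι).obj M ≅ L i) := by
  classical
  let ι' := fun i => (Z i).subschemeι
  let D := fun i j => ((Z i).support : Set X) ∩ ((Z j).support : Set X)
  have hcl : ∀ i, IsClosed ((Z i).support : Set X) := fun i => (Z i).support.isClosed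
  -- the opens where only one of the closed sets passes
  let Ui : Fin n → X.Opens := fun i => ⟨(⋃ j ∈ {j | j ≠ i}, ((Z j).support : Set X))ᶜ,
    ((Set.toFinite _).isClosed_biUnion fun j _ => hcl j).isOpen_compl⟩
  let U : X.Opens := ⨆ i, Ui i
  have hUi : ∀ i j, j ≠ i → Disjoint (Ui i : Set X) ((Z j).support : Set X) := fun i j hji =>
    Set.disjoint_left.2 fun y hy hyj => hy (Set.mem_biUnion hji hyj)
  have hmem : ∀ y : X, ∃ i, y ∈ ((Z i).support : Set X) := fun y =>
    Set.mem_iUnion.1 (hcov.symm ▸ Set.mem_univ y)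
  haveI : ∀ i, IsIso ((Z i).subschemeι ∣_ Ui i) := fun i => by
    haveI : Surjective ((Z i).subschemeι ∣_ Ui i) := ⟨fun y => by
      obtain ⟨j, hj⟩ := hmem y.1
      have hji : j = i := by_contra fun hne => Set.disjoint_left.1 (hUi i j hne) y.2 hj
      subst hji
      obtain ⟨z, hz⟩ : y.1 ∈ Set.range (Z j).subschemeι := by
        rw [Scheme.IdealSheafData.range_subschemeι]; exact hj
      exact ⟨⟨z, show (Z j).subschemeι z ∈ Ui j from hz ▸ y.2⟩, Subtype.ext ((morphismRestrict_base_coe _ _ _).trans hz)⟩⟩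
    exact isIso_of_isClosedImmersion_of_surjective _
  -- charts
  have hW : ∀ x : X, ∃ W : X.Opens, x ∈ W ∧ (∀ y ∈ W, y ∉ U → y = x) ∧
      ∀ i, ∃ e : Γ(L i, (Z i).subschemeι ⁻¹ᵁ W), IsFrame e := fun x => by
    choose Wf hxWf ef hef using fun i => S1552.exists_frame_near_fibre (Z i).subschemeι (hL i) x
    have hD : ∀ q : {q : Fin n × Fin n // q.1 ≠ q.2}, ∃ O : X.Opens, x ∈ O ∧ ∀ y ∈ O, y ∈ D q.1.1 q.1.2 → y = x := by
      rintro ⟨⟨i, j⟩, hij⟩
      let O : X.Opens := ⟨(D i j)ᶜ, ((hcl i).inter (hcl j)).isOpen_compl⟩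
      by_cases hx : x ∈ D i j
      · have hdO : DiscreteTopology ↥((O : Set X)ᶜ) := by
          rw [show ((O : Set X)ᶜ) = D i j from compl_compl _]
          exact hdisc i j hij
        obtain ⟨W, hxW, hW⟩ := exists_isolating hdO (U := O) (x := x) fun h => h hx
        exact ⟨W, hxW, fun y hy hyD => hW y hy fun h => h hyD⟩
      · exact ⟨O, hx, fun y hy hyD => absurd hyD hy⟩
    choose O hxO hO using hD
    let W : X.Opens := ⟨(⋂ i, (Wf i : Set X)) ∩ ⋂ q, (O q : Set X),
      (isOpen_iInter_of_finite fun i => (Wf i).2).inter (isOpen_iInter_of_finite fun q => (O q).2)⟩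
    refine ⟨W, ⟨Set.mem_iInter.2 hxWf, Set.mem_iInter.2 hxO⟩, fun y hy hyU => ?_, fun i =>
      ⟨_, (hef i).res ((Z i).subschemeι.preimage_mono
        (show W ≤ Wf i from fun y hy => Set.mem_iInter.1 hy.1 i))⟩⟩
    obtain ⟨i, hi⟩ := hmem y
    obtain ⟨j, hji, hj⟩ : ∃ j, j ≠ i ∧ y ∈ ((Z j).support : Set X) := by
      by_contra! hall
      exact hyU (TopologicalSpace.Opens.mem_iSup.2 ⟨i, fun hm => by
        obtain ⟨j, hji, hj⟩ := Set.mem_iUnion₂.1 hm
        exact hall j hji hj⟩)
    exact hO ⟨(j, i), hji⟩ y (Set.mem_iInter.1 hy.2 ⟨(j, i), hji⟩) ⟨hj, hi⟩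
  choose W hxW hWU e he using hW
  let Q : Fin n → X.Modules := fun i => (Scheme.Modules.pushforward (Z i).subschemeι).obj (L i)
  have hsub : ∀ i j, j ≠ i → ∀ T : X.Opens, T ≤ Ui i → Subsingleton Γ(Q j, T) := fun i j hji T hT =>
    ⟨fun a b => eq_of_locally (M := L j) (V := (Z j).subschemeι ⁻¹ᵁ T) a b fun z hz =>
      absurd ((Z j).range_subschemeι ▸ Set.mem_range_self z : (Z j).subschemeι z ∈ ((Z j).support : Set X))
        (Set.disjoint_left.1 (hUi i j hji) (hT hz))⟩
  let sec : ∀ x, Γ(⨁ Q, W x) := fun x => ∑ i, (biproduct.ι Q i).app (W x) (e x i)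
  have hsec : ∀ x i, (biproduct.π Q i).app (W x) (sec x) = e x i := fun x i => by
    rw [map_sum, Finset.sum_eq_single i (fun j _ hji => π_ι_app_ne Q _ hji _)
      (fun h => absurd (Finset.mem_univ i) h), π_ι_app]
  obtain ⟨M, φ, E, hM, hE, hφE, -⟩ := exists_glue (⨁ Q) U W (fun x => ⟨x, hxW x⟩)
    (fun x y hxy z hz => by_contra fun hzU => hxy ((hWU x z hz.1 hzU).symm.trans (hWU y z hz.2 hzU))) sec
    fun x => by
      refine Groth.Agent.InvUfdLib.isFrame_of_cover (fun i : ULift.{u} (Fin n) => W x ⊓ U ⊓ Ui i.down)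
        (fun i => inf_le_left) (fun z hz => ?_) _ fun i => ?_
      · obtain ⟨i, hi⟩ := TopologicalSpace.Opens.mem_iSup.1 hz.2
        exact ⟨⟨i⟩, hz, hi⟩
      · have hle : W x ⊓ U ⊓ Ui i.down ≤ W x := inf_le_left.trans inf_le_left
        have hb : ∀ T ≤ W x ⊓ U ⊓ Ui i.down, Function.Bijective ((biproduct.π Q i.down).app T) := fun T hT =>
          π_bijective Q T i.down fun j hji => hsub i.down j hji T (hT.trans inf_le_right)
        rw [res_res]
        refine Groth.Agent.InvUfdLib.isFrame_of_app _ hb ?_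
        rw [app_res, hsec]
        exact isFrame_pushforward (Z i.down).subschemeι inf_le_right
          ((Z i.down).subschemeι.preimage_mono hle) (he x i.down)
  refine ⟨M, hM, fun i => nonempty_pullback_iso (Z i).subschemeι (φ ≫ biproduct.π Q i) W
    (fun z => ⟨_, hxW _⟩) E hE fun x => ?_⟩
  show IsFrame (M := L i) ((biproduct.π Q i).app (W x) (φ.app (W x) (E x)))
  rw [hφE, hsec]
  exact he x i

end Groth.Agent.S7670
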