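import Groth.Statements.S7676

import Groth.Agent.PD70.Embed
import Groth.Agent.ZeroSchX.Basic
import Groth.Agent.PnCoh.TwistH0
import Groth.Agent.Proj16.ClosedSub
import Groth.Agent.PnCoh.Finite.TwistInv
import Groth.Agent.Lib.ProjRegularPn

set_option autoImplicit false
set_option linter.style.haveILetI false
set_option linter.unusedSectionVars false
set_option backward.isDefEq.respectTransparency false
set_option backward.isDefEq.respectTransparency.types false
universe u
open CategoryTheory CategoryTheory.Limits AlgebraicGeometry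
open Variety

namespace Groth.Agent.S7676

open Groth.Agent.AModX Groth.Agent.InvX HomogeneousLocalization

variable {k : Type u} [Field k] {n : ℕ}

theorem poly_zero_iff (a : MvPolynomial (Fin (n + 1)) k) :
    a ∈ CohB1.polyGrading n k 0 ↔ a ∈ Set.range (algebraMap k (MvPolynomial (Fin (n + 1)) k)) := by
  constructor
  · intro h
    exact ⟨a.coeff 0, ((MvPolynomial.totalDegree_eq_zero_iff_eq_C (p := a)).1
      (Nat.le_zero.1 (MvPolynomial.IsHomogeneous.totalDegree_le h))).symm⟩
  · rintro ⟨c, rfl⟩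
    exact MvPolynomial.isHomogeneous_C _ c

/-- Coordinates on the hyperplane of a linear form. -/
theorem exists_coords (a : MvPolynomial (Fin (n + 2)) k) (ha : a ∈ CohB1.polyGrading (n + 1) k 1) (h0 : a ≠ 0) :
    ∃ s : Fin (n + 2) → MvPolynomial (Fin (n + 1)) k, (∀ i, s i ∈ CohB1.polyGrading n k 1) ∧
      (∀ j, MvPolynomial.X j ∈ Ideal.span (Set.range s)) ∧
      RingHom.ker (MvPolynomial.aeval s).toRingHom = Ideal.span {a} := by
  classical
  have haspan : a ∈ Submodule.span k (Set.range (MvPolynomial.X (R := k) (σ := Fin (n + 2)))) := by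
    rw [← MvPolynomial.homogeneousSubmodule_one_eq_span_X]; exact ha
  obtain ⟨c, hc⟩ := (Submodule.mem_span_range_iff_exists_fun k).1 haspan
  obtain ⟨i₀, hi₀⟩ : ∃ i, c i ≠ 0 := by
    by_contra! h
    exact h0 (by rw [← hc, Finset.sum_eq_zero fun i _ => by rw [h i, zero_smul]])
  let q : MvPolynomial (Fin (n + 1)) k := -((c i₀)⁻¹ • ∑ j, c (i₀.succAbove j) • MvPolynomial.X j)
  let s : Fin (n + 2) → MvPolynomial (Fin (n + 1)) k := Fin.insertNth i₀ q MvPolynomial.X
  have hs0 : s i₀ = q := Fin.insertNth_apply_same _ _ _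
  have hs1 : ∀ j, s (i₀.succAbove j) = MvPolynomial.X j := Fin.insertNth_apply_succAbove _ _ _
  have hsa : MvPolynomial.aeval s a = 0 := by
    rw [← hc, map_sum, Fin.sum_univ_succAbove _ i₀]
    simp only [map_smul, MvPolynomial.aeval_X, hs0, hs1]
    rw [smul_neg, smul_smul, mul_inv_cancel₀ hi₀, one_smul, neg_add_cancel]
  refine ⟨s, fun i => ?_, fun j => Ideal.subset_span ⟨_, hs1 j⟩, le_antisymm (fun p hp => ?_)
    ((Ideal.span_singleton_le_iff_mem _).2 (RingHom.mem_ker.2 hsa))⟩
  · rcases Fin.eq_self_or_eq_succAbove i₀ i with rfl | ⟨j, rfl⟩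
    · rw [hs0]
      exact neg_mem (Submodule.smul_mem _ _ (sum_mem fun j _ =>
        Submodule.smul_mem _ _ (MvPolynomial.isHomogeneous_X k j)))
    · rw [hs1]; exact MvPolynomial.isHomogeneous_X k j
  let mk := Ideal.Quotient.mkₐ k (Ideal.span {a})
  let ι := MvPolynomial.aeval (R := k) fun j : Fin (n + 1) => (MvPolynomial.X (i₀.succAbove j) : MvPolynomial (Fin (n + 2)) k)
  have hfac : mk = (mk.comp ι).comp (MvPolynomial.aeval s) := by
    refine MvPolynomial.algHom_ext fun i => ?_
    rw [AlgHom.comp_apply, AlgHom.comp_apply, MvPolynomial.aeval_X]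
    rcases Fin.eq_self_or_eq_succAbove i₀ i with rfl | ⟨j, rfl⟩
    · have h : mk (∑ j, c j • MvPolynomial.X j) = 0 := by
        rw [hc]; exact Ideal.Quotient.eq_zero_iff_mem.2 (Ideal.mem_span_singleton_self a)
      rw [map_sum, Fin.sum_univ_succAbove _ i, map_smul, add_eq_zero_iff_eq_neg] at h
      rw [hs0, map_neg, map_smul, map_sum, map_neg, map_smul, map_sum]
      simp only [map_smul, ι, MvPolynomial.aeval_X]
      simp only [map_smul] at h
      rw [← smul_neg, ← h, smul_smul, inv_mul_cancel₀ hi₀, one_smul]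
    · rw [hs1, MvPolynomial.aeval_X]
  refine Ideal.Quotient.eq_zero_iff_mem.1 ((AlgHom.congr_fun hfac p).trans ?_)
  show mk (ι (MvPolynomial.aeval s p)) = 0
  rw [show MvPolynomial.aeval s p = 0 from RingHom.mem_ker.1 hp, map_zero, map_zero]

/-- A homogeneous multiple of a linear form has a homogeneous cofactor. -/
theorem exists_cofactor {a P : MvPolynomial (Fin (n + 1)) k} (ha : a ∈ CohB1.polyGrading n k 1) {d : ℕ}
    (hP : P ∈ CohB1.polyGrading n k (d + 1)) (h : P ∈ Ideal.span {a}) :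
    ∃ q ∈ CohB1.polyGrading n k d, a * q = P := by
  obtain ⟨q, rfl⟩ := Ideal.mem_span_singleton'.1 h
  refine ⟨_, (DirectSum.decompose (CohB1.polyGrading n k) q d).2, ?_⟩
  have h1 := DirectSum.coe_decompose_mul_of_left_mem_of_le (CohB1.polyGrading n k) (b := q) ha
    (Nat.le_add_left 1 d)
  rw [Nat.add_sub_cancel, DirectSum.decompose_of_mem_same _ (mul_comm q a ▸ hP)] at h1
  rw [mul_comm q a]
  exact h1.symm

theorem ker_awayMap {m : ℕ} {a f : MvPolynomial (Fin (n + 1)) k} (ha : a ∈ CohB1.polyGrading n k 1)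
    (hf : f ∈ CohB1.polyGrading n k 1) (ψ : CohB1.polyGrading n k →+*ᵍ CohB1.polyGrading m k)
    (hψ : ∀ p, ψ p = 0 ↔ p ∈ Ideal.span {a}) :
    RingHom.ker (Away.map ψ f) = Ideal.span {Away.mk (CohB1.polyGrading n k) hf 1 a (by rwa [one_smul])} := by
  have hzero : ∀ (N : ℕ) (p : MvPolynomial (Fin (n + 1)) k) (hp : p ∈ CohB1.polyGrading n k (N • 1)),
      Away.map ψ f (Away.mk _ hf N p hp) = 0 ↔ ∃ e : ℕ, ψ f ^ e * ψ p = 0 := fun N p hp => by
    rw [Away.map_mk, ← (HomogeneousLocalization.val_injective _).eq_iff, Away.val_mk,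
      HomogeneousLocalization.val_zero, Localization.mk_eq_mk', IsLocalization.mk'_eq_zero_iff]
    exact ⟨fun ⟨⟨_, e, rfl⟩, h⟩ => ⟨e, h⟩, fun ⟨e, h⟩ => ⟨⟨_, e, rfl⟩, h⟩⟩
  refine le_antisymm (fun x hx => ?_) ((Ideal.span_singleton_le_iff_mem _).2 (RingHom.mem_ker.2 ?_))
  · obtain ⟨N, p, hp, rfl⟩ := x.mk_surjective _ hf
    obtain ⟨e, he⟩ := (hzero N p hp).1 (RingHom.mem_ker.1 hx)
    have hp' : p ∈ CohB1.polyGrading n k N := by simpa using hp
    have hmem : f ^ (e + 1) * p ∈ CohB1.polyGrading n k (e + N + 1) := by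
      have := SetLike.mul_mem_graded (SetLike.pow_mem_graded (e + 1) hf) hp'
      rwa [smul_eq_mul, mul_one, show e + 1 + N = e + N + 1 by omega] at this
    obtain ⟨q, hq, hqe⟩ := exists_cofactor ha hmem ((hψ _).1 (by
      rw [map_mul, map_pow, pow_succ, mul_right_comm, he, zero_mul]))
    refine Ideal.mem_span_singleton'.2 ⟨Away.mk _ hf (e + N) q (by simpa using hq), ?_⟩
    apply HomogeneousLocalization.val_injective
    rw [HomogeneousLocalization.val_mul, Away.val_mk, Away.val_mk, Away.val_mk, Localization.mk_mul,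
      Localization.mk_eq_mk_iff, Localization.r_iff_exists]
    refine ⟨1, ?_⟩
    simp only [Submonoid.coe_mul, OneMemClass.coe_one, one_mul]
    rw [mul_comm q a, hqe]
    ring
  · refine (hzero 1 a _).2 ⟨0, ?_⟩
    rw [(hψ a).2 (Ideal.mem_span_singleton_self a), mul_zero]

/-- Let k be a field, n ≥ 1 and i : H → P^n_k a hyperplane, the zero scheme of a nonzero section of
O(1). Then there is an isomorphism φ : P^{n-1}_k → H under which i^*O(1) pulls back to O(1).
(Indexed here with P^{n+1} and P^n.) -/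
theorem result (k : Type u) [Field k] (n : ℕ)
    (s : Coh.structureModule (CohB1.ProjSpace (n + 1) k) ⟶ Twist.twistProjSpace (n + 1) k 1) (hs : s ≠ 0) :
    ∃ φ : CohB1.ProjSpace n k ≅ (PicF2.zeroScheme _ s).subscheme,
      Nonempty ((Scheme.Modules.pullback (φ.hom ≫ (PicF2.zeroScheme _ s).subschemeι)).obj
          (Twist.twistProjSpace (n + 1) k 1) ≅ Twist.twistProjSpace n k 1) := by
  classical
  obtain ⟨⟨a, ha⟩, hga⟩ := (PnCoh.globalOfEquiv (ι := Fin (n + 1 + 1)) (R := k) (d := 1)).surjective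
    (InvX.one (L := Twist.twistProjSpace (n + 1) k 1) s)
  have ha0 : a ≠ 0 := by
    rintro rfl
    refine hs ?_
    have h1 : InvX.one (L := Twist.twistProjSpace (n + 1) k 1) s = 0 := by
      rw [← hga]
      exact Subtype.ext (funext fun x => Subtype.ext (Localization.mk_zero _))
    refine Scheme.Modules.hom_ext _ _ fun W => ?_
    ext r
    refine (InvX.app_eq_smul s r).trans ?_
    rw [h1, map_zero, smul_zero]
    rfl
  obtain ⟨t, ht, htX, hker⟩ := exists_coords a ha ha0
  have hgen : (HomogeneousIdeal.irrelevant (CohB1.polyGrading n k)).toIdeal ≤ Ideal.span (Set.range t) :=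
    (SegreX.irrelevant_le_span n k).trans (Ideal.span_le.2 (by rintro _ ⟨j, rfl⟩; exact htX j))
  let φ := PD70.embed t ht hgen
  haveI := PD70.isClosedImmersion_embed t ht hgen poly_zero_iff
  have hψ : ∀ p, PD70.coordHom t ht p = 0 ↔ p ∈ Ideal.span {a} := fun p =>
    hker ▸ (RingHom.mem_ker (f := (MvPolynomial.aeval t).toRingHom)).symm
  -- the ideals agree on the standard charts
  have hZ : φ.ker = PicF2.zeroScheme _ s := by
    let 𝒜 := CohB1.polyGrading (n + 1) k
    let V : Fin (n + 2) → (CohB1.ProjSpace (n + 1) k).affineOpens := fun j =>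
      ⟨Proj.basicOpen 𝒜 (MvPolynomial.X j),
        Proj.isAffineOpen_basicOpen 𝒜 _ (MvPolynomial.isHomogeneous_X k j) one_pos⟩
    refine Scheme.IdealSheafData.ext_of_iSup_eq_top V
      (Proj.iSup_basicOpen_eq_top 𝒜 _ (SegreX.irrelevant_le_span (n + 1) k)) fun j => ?_
    have hX : (MvPolynomial.X j : MvPolynomial (Fin (n + 2)) k) ∈ 𝒜 1 := MvPolynomial.isHomogeneous_X k j
    have hsv : ZeroSchX.sv s (V j).1 = PnCoh.Chow.sRatio ha hX • PnCoh.Chow.twF hX 1 := by
      refine Eq.trans ((InvX.app_eq_smul s (1 : Γ(CohB1.ProjSpace (n + 1) k, (V j).1))).trans (one_smul _ _)) ?_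
      rw [← hga]
      refine Subtype.ext (funext fun x => Subtype.ext ?_)
      refine Eq.trans ?_ (Twist.coe_smul_val (1 : ℤ) x.1 _ _).symm
      show (Localization.mk a _ : Twist.Loc 𝒜 x.1) = ((PnCoh.Chow.sRatio ha hX).1 x).val *
        Localization.mk ((MvPolynomial.X j : MvPolynomial (Fin (n + 2)) k) ^ ((1 : ℤ)).toNat) _
      erw [PnCoh.Chow.sRatio_val ha hX x]
      rw [Localization.mk_mul, Localization.mk_eq_mk_iff, Localization.r_iff_exists]
      exact ⟨1, by simp [mul_comm]⟩
    have hinv : PicF.IsInvertible (Twist.twistProjSpace (n + 1) k 1) :=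
      PnCoh.Finite.isInvertible_twist (ProjRegular.coords k (n + 1)) ProjRegular.coords_mem ProjRegular.coords_cover 1
    rw [ZeroSchX.ideal_zeroScheme hinv s (V j),
      ZeroSchX.zeroIdealOn_eq_span s (PnCoh.Chow.isFrame_twF hX 1) hsv, Scheme.Hom.ker_apply]
    let e := (Proj.basicOpenIsoAway 𝒜 _ hX one_pos).commRingCatIsoToRingEquiv
    have he : ∀ x, φ.app (V j).1 (e x) =
        Proj.awayToSection _ _ (Away.map (PD70.coordHom t ht) (MvPolynomial.X j) x) := fun x => by
      have h := ConcreteCategory.congr_hom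
        (Proj.awayToSection_comp_appLE (PD70.coordHom t ht) (PD70.irrelevant_le_map t ht hgen) hX) x
      rw [Scheme.Hom.app_eq_appLE]
      exact h
    have hinj : Function.Injective (Proj.awayToSection (CohB1.polyGrading n k)
        (PD70.coordHom t ht (MvPolynomial.X j))) :=
      (ConcreteCategory.bijective_of_isIso (Proj.basicOpenIsoAway (CohB1.polyGrading n k) _
        ((PD70.coordHom t ht).map_mem hX) one_pos).hom).1
    ext y
    obtain ⟨x, rfl⟩ := e.surjective y
    rw [RingHom.mem_ker]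
    erw [he x]
    rw [map_eq_zero_iff _ hinj, ← RingHom.mem_ker, ker_awayMap ha hX _ hψ, Ideal.mem_span_singleton,
      Ideal.mem_span_singleton, ← map_dvd_iff e]
    rfl
  have hle : φ.ker ≤ (PicF2.zeroScheme _ s).subschemeι.ker := by
    rw [Scheme.IdealSheafData.ker_subschemeι, hZ]
  haveI : IsIso (IsClosedImmersion.lift φ (PicF2.zeroScheme _ s).subschemeι hle) :=
    IsClosedImmersion.isIso_lift _ _ (by rw [Scheme.IdealSheafData.ker_subschemeι, hZ])
  refine ⟨(asIso (IsClosedImmersion.lift φ (PicF2.zeroScheme _ s).subschemeι hle)).symm, ?_⟩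
  rw [show (asIso (IsClosedImmersion.lift φ (PicF2.zeroScheme _ s).subschemeι hle)).symm.hom ≫
      (PicF2.zeroScheme _ s).subschemeι = φ from by
    rw [Iso.symm_hom, Iso.inv_comp_eq]
    exact (IsClosedImmersion.lift_fac _ _ _).symm]
  exact PD70.nonempty_pullback_twist t ht hgen 1

end Groth.Agent.S7676
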