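import Groth.Statements.S7677

import Groth.Agent.Lib.ProjRegularPn
import Groth.Agent.S0844
import Groth.Agent.CurveCohLib.Euler
import Groth.Agent.PnCoh.Finite.SerreVanishing

set_option autoImplicit false
set_option linter.style.haveILetI false
set_option linter.unusedSectionVars false
set_option backward.isDefEq.respectTransparency false
set_option backward.isDefEq.respectTransparency.types false
universe u
open CategoryTheory CategoryTheory.Limits AlgebraicGeometry
open Variety

namespace Groth.Agent.S7677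

open Groth.Agent.PnCoh Groth.Agent.PnCoh.Finite Groth.Agent.ProjRegular in
/-- Serre vanishing on projective space. -/
theorem exists_vanishing_twist (k : Type u) [Field k] (n : ℕ) (F : (CohB1.ProjSpace n k).Modules) (hF : Coh.IsCoh F)
    (i : ℕ) (hi : 0 < i) : ∃ d₀ : ℤ, ∀ d, d₀ ≤ d →
      Subsingleton (Coh.HH (CohB1.ProjSpace n k) (CohB1.tensorMod F (Twist.twistProjSpace n k d)) i) :=
  Finite.exists_vanishing (f := coords k n) coords_mem coords_cover coords_noetherian (n + 1)
    (fun M hM j hj => by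
      classical
      letI : (Proj (CohB1.polyGrading n k)).Over (Spec (CommRingCat.of k)) :=
        ⟨CohB1.ProjSpace.toSpec n k⟩
      exact Groth.Agent.QCoh.HH_subsingleton_of_cover (X := Proj (CohB1.polyGrading n k)) (n + 1)
        (fun j => D (CohB1.polyGrading n k) (coords k n (ULift.up j)))
        (fun j => isAffineOpen_D coords_mem _)
        (top_le_iff.1 (coords_cover.ge.trans (iSup_le fun j => le_iSup_of_le j.down le_rfl)))
        (fun V W hV hW => IsAffineOpen.inf hV hW) hM j hj)
    (fun j hj => ⟨0, fun d hd => Groth.Agent.S0844.result k n d j (by omega) (by omega)⟩)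
    F (good_of_isCoh coords_mem hF) i hi

/-- Let k be a field, n ≥ 0 and F a coherent module on P^n_k with Hilbert polynomial P, i.e. χ(P^n_k,
F(d)) = P(d) for all d. Then P(d) = dim_k H^0(P^n_k, F(d)) for all d ≫ 0. -/
theorem result (k : Type u) [Field k] (n : ℕ)
    (F : (CohB1.ProjSpace n k).Modules) (hF : Coh.IsCoh F) (P : Polynomial ℚ)
    (hP : ∀ d : ℤ, (Curv2.euler k (CohB1.ProjSpace n k)
      (CohB1.tensorMod F (Twist.twistProjSpace n k d)) : ℚ) = P.eval (d : ℚ)) :
    ∃ d₀ : ℤ, ∀ d : ℤ, d₀ ≤ d →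
      P.eval (d : ℚ) = (Module.finrank k (Coh.HH (CohB1.ProjSpace n k)
        (CohB1.tensorMod F (Twist.twistProjSpace n k d)) 0) : ℚ) := by
  classical
  have h : ∀ i : ℕ, ∃ d₀ : ℤ, ∀ d, d₀ ≤ d → 0 < i →
      Subsingleton (Coh.HH (CohB1.ProjSpace n k) (CohB1.tensorMod F (Twist.twistProjSpace n k d)) i) := fun i => by
    rcases Nat.eq_zero_or_pos i with rfl | hi
    · exact ⟨0, fun d _ h => absurd h (lt_irrefl 0)⟩
    · obtain ⟨d₀, h⟩ := exists_vanishing_twist k n F hF i hi
      exact ⟨d₀, fun d hd _ => h d hd⟩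
  choose d₁ hd₁ using h
  obtain ⟨D, hD⟩ : ∃ D : ℤ, ∀ i ∈ Finset.range (n + 1), d₁ i ≤ D :=
    (Finset.range (n + 1)).image d₁ |>.bddAbove.imp fun D hD i hi => hD (Finset.mem_image_of_mem d₁ hi)
  refine ⟨D, fun d hd => ?_⟩
  rw [← hP d, Groth.Agent.CurveCohLib.euler_eq_sum (k := k) (N := 1) fun i hi => ?_]
  · simp
  · rcases le_or_gt i n with hin | hin
    · exact hd₁ i d ((hD i (Finset.mem_range.2 (by omega))).trans hd) hi
    · exact Groth.Agent.ProjRegular.subsingleton_HH_high hF d i hin

end Groth.Agent.S7677
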