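import Groth.Statements.S7679

import Groth.Agent.VarBase.NegTwist
import Groth.Agent.Alg6.AssDepth

set_option autoImplicit false
set_option linter.style.haveILetI false
set_option linter.unusedSectionVars false
set_option backward.isDefEq.respectTransparency false
set_option backward.isDefEq.respectTransparency.types false
universe u
open CategoryTheory CategoryTheory.Limits AlgebraicGeometry
open Variety

namespace Groth.Agent.S7679

open Groth.Agent.VarBase

/-- Let X be proper over a field k, L an ample invertible module and F a coherent module such that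
Ass(F) contains no closed point. Then Γ(X, F ⊗ L^{⊗n}) = 0 for n ≪ 0; here negative powers of L are
written as positive powers of an inverse M of L. -/
theorem result (k : Type u) [Field k] (X : Scheme.{u}) [X.Over (Spec (CommRingCat.of k))] [IsProper (X ↘ (Spec (CommRingCat.of k)))]
    (L : X.Modules) (hL : CohB1.IsAmple L) (M : X.Modules) (hM : ClSub.IsInverseOf L M)
    (F : X.Modules) (hF : Coh.IsCoh F) (hass : ∀ x : X, IsClosed ({x} : Set X) → ¬ Curv2.IsAssPoint F x) :
    ∃ n₀ : ℕ, ∀ n : ℕ, n₀ ≤ n →
      Subsingleton (Coh.HH X (CohB1.tensorMod F (CohB1.tensorPow M n)) 0) := by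
  haveI : IsLocallyNoetherian X := LocallyOfFiniteType.isLocallyNoetherian (X ↘ Spec (CommRingCat.of k))
  obtain ⟨n₀, h⟩ := NegTwist.exists_vanish k hL hM hF 0 fun x hx => by
    haveI := QCoh.finite_stalk_of_isFT hF.1 hF.2 x
    exact lt_of_lt_of_le (by norm_num) (Alg6.one_le_depth_iff.2 (hass x hx))
  exact ⟨n₀, fun n hn => h n hn 0 le_rfl⟩

end Groth.Agent.S7679
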