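import Groth.Statements.S7681

import Groth.Agent.VarBase.NegTwist
import Groth.Agent.VarBase.ConnSection
import Groth.Agent.ZeroSchX.Basic
import Groth.Agent.RefX.Reflexive

set_option autoImplicit false
set_option linter.style.haveILetI false
set_option linter.unusedSectionVars false
set_option backward.isDefEq.respectTransparency false
set_option backward.isDefEq.respectTransparency.types false
universe u
open CategoryTheory CategoryTheory.Limits AlgebraicGeometry
open Variety

namespace Groth.Agent.S7681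

open Groth.Agent.VarBase Groth.Agent.AModX Groth.Agent.InvX
open scoped Groth.Agent.H23.PicMul

theorem compl_support_eq {X : Scheme.{u}} {L : X.Modules} (hL : PicF.IsInvertible L)
    (s : Coh.structureModule X ⟶ L) :
    ((PicF2.zeroScheme L s).support : Set X) = (AmpleX.locus (InvX.one s) : Set X)ᶜ := by
  ext x
  obtain ⟨U₀, hxU₀, e₀, he₀⟩ := InvX.exists_frame hL x
  obtain ⟨_, ⟨U, hU, rfl⟩, hxU, hle⟩ := X.isBasis_affineOpens.exists_subset_of_mem_open hxU₀ U₀.isOpen
  obtain ⟨c, hc⟩ := (he₀.res hle).exists_coord le_rfl (AModX.res L (le_top : U ≤ ⊤) (InvX.one s))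
  rw [res_self] at hc
  have hsv : ZeroSchX.sv s U = c • AModX.res L hle e₀ :=
    Eq.trans ((InvX.app_eq_smul s (1 : Γ(X, U))).trans (one_smul _ _)) hc
  show x ∈ (PicF2.zeroScheme L s).support ↔ x ∉ AmpleX.locus (InvX.one s)
  rw [Scheme.IdealSheafData.mem_support_iff_of_mem (U := ⟨U, hU⟩) hxU,
    ZeroSchX.ideal_zeroScheme hL s, ZeroSchX.zeroIdealOn_eq_span s (he₀.res hle) hsv,
    Scheme.zeroLocus_span, Scheme.zeroLocus_singleton, Set.mem_compl_iff, SetLike.mem_coe,
    ← AmpleX.locus_inf _ (le_top : U ≤ ⊤) (he₀.res hle) hc]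
  exact not_congr ⟨fun h => h.1, fun h => ⟨h, hxU⟩⟩

/-- Let X be proper over a field k, L ample invertible and s ∈ Γ(X, L) a regular section; assume
depth(O_{X,x}) ≥ 2 for every closed point x and X connected. Then the zero scheme Z(s) is connected. -/
theorem result (k : Type u) [Field k] (X : Scheme.{u}) [X.Over (Spec (CommRingCat.of k))] [IsProper (X ↘ (Spec (CommRingCat.of k)))]
    [ConnectedSpace X] (L : X.Modules) (hL : CohB1.IsAmple L)
    (s : Coh.structureModule X ⟶ L) (hs : Mono s)
    (hdepth : ∀ x : X, IsClosed ({x} : Set X) → 2 ≤ LocCoh.depth (X.presheaf.stalk x) (X.presheaf.stalk x)) :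
    ConnectedSpace ↥(PicF2.zeroScheme L s).subscheme := by
  have hM : ∃ M, PicF.IsInvertible M ∧ ClSub.IsInverseOf L M := by
    obtain ⟨M, hM, e⟩ := H23.PicInv.exists_inverse hL.1
    exact ⟨M, hM, e⟩
  haveI : IsLocallyNoetherian X := LocallyOfFiniteType.isLocallyNoetherian (X ↘ Spec (CommRingCat.of k))
  obtain ⟨n₀, hv⟩ := NegTwist.exists_vanish k hL hM.choose_spec.2 QCoh.isCoh_structureModule' 1 fun x hx => by
    rw [← Hensel.depth_congr (RefX.unitStalk x)]
    exact lt_of_lt_of_le (by norm_num) (hdepth x hx)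
  let n := n₀ + 1
  let D := CohB1.tensorPow hM.choose n
  have hD : PicF.IsInvertible D := InvX.isInvertible_tensorPow hM.choose_spec.1 n
  have hN : PicF.IsInvertible (CohB1.tensorPow L n) := InvX.isInvertible_tensorPow hL.1 n
  have hLM : PicF.cl L * PicF.cl hM.choose = 1 := H23.PicMul.cl_eq_iff.2 hM.choose_spec.2
  obtain ⟨e⟩ : Nonempty (CohB1.tensorMod D (CohB1.tensorPow L n) ≅ Coh.structureModule X) :=
    H23.PicMul.cl_eq_iff.1 (by
      rw [H23.PicMul.cl_tensor, H23.PicMul.cl_tensorPow, H23.PicMul.cl_tensorPow, ← mul_pow, mul_comm, hLM,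
        one_pow]; rfl)
  obtain ⟨u⟩ : Nonempty (CohB1.tensorMod (Coh.structureModule X) D ≅ D) :=
    H23.PicMul.cl_eq_iff.1 (by rw [H23.PicMul.cl_tensor, ← H23.PicMul.one_def, one_mul])
  have hH : ∀ i ≤ 1, Subsingleton (Coh.HH X D i) := fun i hi =>
    QCoh.subsingleton_HH_of_iso u i (hv n (Nat.le_succ _) i hi)
  let t := AmpleX.powElt (InvX.one s) n
  have hloc : AmpleX.locus t = AmpleX.locus (InvX.one s) := AmpleX.locus_powElt hL.1 _ n₀
  have hsupp := compl_support_eq hL.1 s
  rw [← hloc] at hsupp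
  have hne : ((AmpleX.locus t : Set X)ᶜ).Nonempty := by
    by_contra hem
    have htop : (⊤ : X.Opens) ≤ AmpleX.locus t := fun x _ => not_not.1 fun h => hem ⟨x, h⟩
    obtain ⟨m, hm⟩ := ConnSection.exists_pair_eq_one e t hD hN htop
    haveI := hH 0 zero_le_one
    have hm0 : m = 0 := by
      refine (AddEquiv.apply_symm_apply (Sheaf.H.equiv₀ (Coh.toAb D) isTerminalTop) m).symm.trans ?_
      rw [Subsingleton.elim ((Sheaf.H.equiv₀ (Coh.toAb D) isTerminalTop).symm m) 0]
      exact map_zero _
    have h01 := ConnSection.pair_sub e t (0 : Γ(D, ⊤)) 0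
    rw [sub_zero, sub_self, ← hm0, hm] at h01
    haveI : Nonempty (⊤ : X.Opens) := ⟨⟨Classical.arbitrary X, trivial⟩⟩
    exact one_ne_zero h01
  have hpre : _root_.IsConnected (Set.range (PicF2.zeroScheme L s).subschemeι) := by
    rw [Scheme.IdealSheafData.range_subschemeι, hsupp]
    exact ⟨hne, ConnSection.isPreconnected_compl_locus e t hD hN k (hH 1 le_rfl)⟩
  haveI := isConnected_iff_connectedSpace.1 hpre
  exact (PicF2.zeroScheme L s).subschemeι.isEmbedding.toHomeomorph.symm.surjective.connectedSpace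
    (PicF2.zeroScheme L s).subschemeι.isEmbedding.toHomeomorph.symm.continuous

end Groth.Agent.S7681
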