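import Groth.Statements.S7682

import Groth.Agent.VarBase.GenPush

set_option autoImplicit false
set_option linter.style.haveILetI false
set_option linter.unusedSectionVars false
set_option backward.isDefEq.respectTransparency false
set_option backward.isDefEq.respectTransparency.types false
universe u
open CategoryTheory CategoryTheory.Limits AlgebraicGeometry
open Variety

namespace Groth.Agent.S7682

open Groth.Agent.VarBase TopologicalSpace

/-- Scheme theoretic images of integral schemes are integral. -/
theorem isIntegral_image {A B : Scheme.{u}} (q : A ⟶ B) [IsIntegral A] [IsProper q] :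
    IsIntegral q.ker.subscheme := by
  let S : Closeds B := q.ker.support
  let V := Scheme.IdealSheafData.vanishingIdeal S
  have hr : Set.range V.subschemeι = (S : Set B) := by
    rw [Scheme.IdealSheafData.range_subschemeι, Scheme.IdealSheafData.coe_support_vanishingIdeal]
  obtain ⟨g, hg⟩ := Groth.Agent.H23.RedSub.exists_lift_closed q V.subschemeι
    (by rw [hr]; exact q.range_subset_ker_support)
  have e : q.ker = V := le_antisymm (Scheme.IdealSheafData.le_support_iff_le_vanishingIdeal.1 le_rfl)
    (by rw [← hg]; exact (Scheme.IdealSheafData.ker_subschemeι (I := V)).symm.trans_le (g.le_ker_comp V.subschemeι))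
  haveI : IsReduced V.subscheme := inferInstance
  haveI : IsReduced q.ker.subscheme := by rw [e]; infer_instance
  haveI : IrreducibleSpace q.ker.subscheme := by
    have hirr : IsIrreducible (Set.range q.ker.subschemeι) := by
      rw [Scheme.IdealSheafData.range_subschemeι, Scheme.Hom.support_ker]
      refine IsIrreducible.closure ?_
      have h := (IrreducibleSpace.isIrreducible_univ A).image q q.continuous.continuousOn
      rwa [Set.image_univ] at h
    haveI := Subtype.irreducibleSpace hirr
    exact (q.ker.subschemeι.isEmbedding.toHomeomorph).irreducibleSpace_iff.2 inferInstance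
  exact isIntegral_of_irreducibleSpace_of_isReduced q.ker.subscheme

theorem toImage_genericPoint {A B : Scheme.{u}} (q : A ⟶ B) [IsIntegral A] [IsProper q]
    [IsIntegral q.ker.subscheme] [IsIntegral q.image] : q.toImage (genericPoint A) = genericPoint q.image := by
  have h := (genericPoint_spec A).image q.toImage.continuous
  rw [Set.image_univ, DenseRange.closure_range q.toImage.denseRange] at h
  exact h.eq (genericPoint_spec q.image)

/-- Let f : Y → X be a morphism of proper schemes over a field k, Z ⊆ Y an integral closed subscheme of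
dimension d and L_1, …, L_d invertible modules on X. Then (f^*L_1 ⋯ f^*L_d · Z) = deg(Z → f(Z)) ·
(L_1 ⋯ L_d · f(Z)), f(Z) being the scheme-theoretic image and deg the degree of the function field
extension, read as 0 when dim f(Z) < d (equivalently when that extension is infinite). Both
intersection numbers are the n_1⋯n_d-coefficients of the polynomials computing the corresponding
Euler characteristics. -/
theorem result (k : Type u) [Field k] (X Y : Scheme.{u})
    [X.Over (Spec (CommRingCat.of k))] [Y.Over (Spec (CommRingCat.of k))]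
    [IsProper (X ↘ (Spec (CommRingCat.of k)))] [IsProper (Y ↘ (Spec (CommRingCat.of k)))]
    (f : Y ⟶ X) (hf : f ≫ (X ↘ (Spec (CommRingCat.of k))) = Y ↘ (Spec (CommRingCat.of k)))
    (Z : Y.IdealSheafData) [IsIntegral Z.subscheme] (d : ℕ)
    (hZ : topologicalKrullDim (Z.support : Set Y) = d)
    (L : Fin d → X.Modules) (hL : ∀ i, PicF.IsInvertible (L i))
    (PY PX : MvPolynomial (Fin d) ℚ)
    (hPY : ∀ n : Fin d → ℕ, (Curv2.euler k Y (Curv2.tensorPows (ClSub.quotMod Z) d (fun i => (Scheme.Modules.pullback f).obj (L i)) n) : ℚ) = MvPolynomial.eval (fun i => (n i : ℚ)) PY)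
    (hPX : ∀ n : Fin d → ℕ, (Curv2.euler k X (Curv2.tensorPows (ClSub.quotMod (Z.subschemeι ≫ f).ker) d L n) : ℚ) = MvPolynomial.eval (fun i => (n i : ℚ)) PX) :
    MvPolynomial.coeff (Finsupp.equivFunOnFinite.symm fun _ : Fin d => 1) PY =
      ((Z.subschemeι ≫ f).residueDegree (genericPoint Z.subscheme) : ℚ) *
        MvPolynomial.coeff (Finsupp.equivFunOnFinite.symm fun _ : Fin d => 1) PX := by
  haveI := Groth.Agent.CurveCohLib.isNoetherian_of_proper (k := k) (X := X)
  haveI := Groth.Agent.CurveCohLib.isNoetherian_of_proper (k := k) (X := Y)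
  let q := Z.subschemeι ≫ f
  haveI : IsProper f := isProper_over k f hf
  haveI : IsProper q := MorphismProperty.comp_mem @IsProper _ _ inferInstance inferInstance
  haveI : IsIntegral q.ker.subscheme := isIntegral_image q
  haveI : IsIntegral q.image := inferInstanceAs (IsIntegral q.ker.subscheme)
  have hgen := toImage_genericPoint q
  haveI : IsClosedImmersion q.imageι := inferInstanceAs (IsClosedImmersion q.ker.subschemeι)
  have hdZ : topologicalKrullDim Z.subscheme = (d : WithBot ℕ∞) := by
    rw [← dim_range (X := Y) Z.subschemeι, ← hZ]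
    exact congrArg (fun T : Set Y => topologicalKrullDim ↥T) Z.range_subschemeι
  have hfL : ∀ i, PicF.IsInvertible ((Scheme.Modules.pullback f).obj (L i)) := fun i =>
    Groth.Agent.PicClLib.isInvertible_pullback f (hL i)
  have hle : topologicalKrullDim ↥(q.ker.support : Set X) ≤ (d : WithBot ℕ∞) := by
    letI : Z.subscheme.Over (Spec (CommRingCat.of k)) := ⟨Z.subschemeι ≫ (Y ↘ Spec (CommRingCat.of k))⟩
    letI : q.ker.subscheme.Over (Spec (CommRingCat.of k)) := ⟨q.ker.subschemeι ≫ (X ↘ Spec (CommRingCat.of k))⟩
    haveI : IsProper (Z.subscheme ↘ Spec (CommRingCat.of k)) := isProper_sub Z.subschemeι k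
    haveI : IsProper (q.ker.subscheme ↘ Spec (CommRingCat.of k)) := isProper_sub q.ker.subschemeι k
    have hw : q.toImage ≫ (q.ker.subscheme ↘ Spec (CommRingCat.of k)) = Z.subscheme ↘ Spec (CommRingCat.of k) := by
      show q.toImage ≫ q.imageι ≫ (X ↘ Spec (CommRingCat.of k)) = Z.subschemeι ≫ (Y ↘ Spec (CommRingCat.of k))
      rw [Scheme.Hom.toImage_imageι_assoc, Category.assoc, hf]
    rw [← q.ker.range_subschemeι, dim_range (X := X) q.ker.subschemeι, ← hdZ,
      Groth.Agent.VarDim.topologicalKrullDim_eq_deg_genericPoint (q.ker.subscheme ↘ Spec (CommRingCat.of k)),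
      Groth.Agent.VarDim.topologicalKrullDim_eq_deg_genericPoint (Z.subscheme ↘ Spec (CommRingCat.of k)), ← hgen]
    exact WithBot.coe_le_coe.2 (Nat.cast_le.2
      (Groth.Agent.VarDim.deg_map_le q.toImage (q.ker.subscheme ↘ Spec (CommRingCat.of k)) hw (genericPoint Z.subscheme)))
  rw [coeff_eq_inum k hfL (isCoh_quot Z) ((dim_support_quotMod_le Z).trans hZ.le) hPY,
    coeff_eq_inum k hL (isCoh_quot q.ker) ((dim_support_quotMod_le q.ker).trans hle) hPX]
  have h := iterD_pullback_eq_mul k f hf Z.subschemeι q.imageι q.toImage q.toImage_imageι hgen hdZ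
    (l := revList L) (fun A hA => by
      obtain ⟨i, rfl⟩ : ∃ i, L i = A := by simpa [List.mem_ofFn] using hA
      exact hL i) (by simp)
  have hmap : (revList L).map (Scheme.Modules.pullback f).obj =
      revList (fun i => (Scheme.Modules.pullback f).obj (L i)) := by
    rw [List.map_reverse, List.map_ofFn]; rfl
  rw [hmap] at h
  have h' : inum k (fun i => (Scheme.Modules.pullback f).obj (L i)) (ClSub.quotMod Z) =
      (q.residueDegree (genericPoint Z.subscheme) : ℤ) * inum k L (ClSub.quotMod q.ker) := h
  rw [h']
  push_cast
  rfl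

end Groth.Agent.S7682
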