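import Groth.Statements.S7686
import Groth.Agent.VarBase.Inum
import Groth.Agent.VarBase.Decomp

set_option autoImplicit false
universe u
open CategoryTheory CategoryTheory.Limits AlgebraicGeometry
open Variety

namespace Groth.Agent.S7686

/-- Let X be proper over a field k, Z ⊆ X a closed subscheme of dimension d with irreducible components
Z_i of dimension d (reduced induced structure, generic points ξ_i, multiplicities m_i = length of
O_{Z,ξ_i} over O_{X,ξ_i}) and L_1, …, L_d invertible modules. Then (L_1 ⋯ L_d · Z) = Σ m_i (L_1 ⋯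
L_d · Z_i). Intersection numbers are the n_1⋯n_d-coefficients of the polynomials computing the Euler
characteristics; the sum is written over all points ξ whose closure has dimension d (other terms
vanish). -/
theorem result (k : Type u) [Field k] (X : Scheme.{u}) [X.Over (Spec (CommRingCat.of k))] [IsProper (X ↘ (Spec (CommRingCat.of k)))]
    (D : X.IdealSheafData) (d : ℕ) (hD : topologicalKrullDim (D.support : Set X) = d)
    (L : Fin d → X.Modules) (hL : ∀ i, PicF.IsInvertible (L i)) (P : MvPolynomial (Fin d) ℚ)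
    (hP : ∀ n : Fin d → ℕ, (Curv2.euler k X (Curv2.tensorPows (ClSub.quotMod D) d L n) : ℚ) = MvPolynomial.eval (fun i => (n i : ℚ)) P)
    (Q : X → MvPolynomial (Fin d) ℚ)
    (hQ : ∀ ξ : X, topologicalKrullDim (closure ({ξ} : Set X)) = (d : WithBot ℕ∞) →
      ∀ n : Fin d → ℕ, (Curv2.euler k X (Curv2.tensorPows (ClSub.quotMod (Scheme.IdealSheafData.vanishingIdeal (⟨closure ({ξ} : Set X), isClosed_closure⟩ : TopologicalSpace.Closeds X))) d L n) : ℚ) = MvPolynomial.eval (fun i => (n i : ℚ)) (Q ξ)) :
    MvPolynomial.coeff (Finsupp.equivFunOnFinite.symm fun _ : Fin d => 1) P =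
      ∑ᶠ ξ : X, (if topologicalKrullDim (closure ({ξ} : Set X)) = (d : WithBot ℕ∞) then
        ((Module.length (X.presheaf.stalk ξ) ((ClSub.quotMod D).presheaf.stalk ξ)).toNat : ℚ) *
          MvPolynomial.coeff (Finsupp.equivFunOnFinite.symm fun _ : Fin d => 1) (Q ξ) else 0) := by
  classical
  haveI := Groth.Agent.CurveCohLib.isNoetherian_of_proper (k := k) (X := X)
  have hd := (Groth.Agent.VarBase.dim_support_quotMod_le D).trans hD.le
  have hc := Groth.Agent.VarBase.isCoh_quot D
  have hadd := Groth.Agent.VarBase.additive_inum k hL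
  rw [Groth.Agent.VarBase.coeff_eq_inum k hL hc hd hP,
    Groth.Agent.VarBase.eq_compSum (Groth.Agent.VarBase.inum k L) hadd.iso d hadd.add
      (fun M hM hlt => Groth.Agent.VarBase.inum_eq_zero k hL hM hlt) hc hd, Groth.Agent.VarBase.compSum]
  refine ((Int.castAddHom ℚ).map_finsum ((Groth.Agent.VarBase.finite_top_points hc hd).subset
    fun ξ hξ => ?_)).trans (finsum_congr fun ξ => ?_)
  · simp only [Function.mem_support, ne_eq, ite_eq_right_iff, Classical.not_imp] at hξ
    exact ⟨hξ.1, fun h => hξ.2 (by rw [Groth.Agent.VarBase.lenAt_eq_zero (not_not.2 h), zero_smul])⟩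
  · split_ifs with hξ
    · rw [Groth.Agent.VarBase.coeff_eq_inum k hL (Groth.Agent.VarBase.isCoh_quot _)
        ((Groth.Agent.VarBase.dim_support_quotMod_le _).trans (by
          rw [Scheme.IdealSheafData.coe_support_vanishingIdeal]; exact hξ.le)) (hQ ξ hξ)]
      simp
    · simp

end Groth.Agent.S7686
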