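import Groth.Statements.S7688

import Groth.Agent.VarBase.DimOne.Lift
import Groth.Agent.S1552

set_option autoImplicit false
set_option linter.style.haveILetI false
set_option linter.unusedSectionVars false
set_option backward.isDefEq.respectTransparency false
set_option backward.isDefEq.respectTransparency.types false
universe u
open CategoryTheory CategoryTheory.Limits AlgebraicGeometry
open Variety

namespace Groth.Agent.S7688

open Groth.Agent.VarBase.DimOne

/-- Let f : X → Y be finite with Y Noetherian of dimension at most one, and suppose that over some dense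
open V ⊆ Y the restriction f⁻¹(V) → V is a closed immersion. Then each invertible O_X-module arises,
up to isomorphism, by pulling back an invertible O_Y-module along f. -/
theorem result {X Y : Scheme.{u}} (f : X ⟶ Y)
    [IsFinite f] [IsNoetherian Y] (hdim : topologicalKrullDim Y ≤ 1)
    (V : Y.Opens) (hV : Dense (V : Set Y)) (hfV : IsClosedImmersion (f ∣_ V))
    (L : X.Modules) (hL : PicF.IsInvertible L) :
    ∃ N : Y.Modules, PicF.IsInvertible N ∧ Nonempty ((Scheme.Modules.pullback f).obj N ≅ L) := by
  haveI := hfV
  refine exists_lift hdim f (fun x => S1552.exists_frame_near_fibre f hL x) fun η hη W hW c hc =>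
    exists_unit_lift f f.isClosedMap (fun z z' h h' => ?_) (fun z h => ?_) W hW c hc
  · have hz : z ∈ f ⁻¹ᵁ V := show f z ∈ V from h ▸ mem_of_dense hV hη
    have hz' : z' ∈ f ⁻¹ᵁ V := show f z' ∈ V from h' ▸ mem_of_dense hV hη
    exact congrArg Subtype.val ((f ∣_ V).isClosedEmbedding.injective (a₁ := ⟨z, hz⟩) (a₂ := ⟨z', hz'⟩)
      (Subtype.ext ((morphismRestrict_base_coe f V ⟨z, hz⟩).trans
        ((h.trans h'.symm).trans (morphismRestrict_base_coe f V ⟨z', hz'⟩).symm))))
  · have hz : z ∈ f ⁻¹ᵁ V := show f z ∈ V from h ▸ mem_of_dense hV hη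
    let e := morphismRestrictStalkMap f V ⟨z, hz⟩
    have hsq : e.hom.left ≫ f.stalkMap z = (f ∣_ V).stalkMap ⟨z, hz⟩ ≫ e.hom.right := e.hom.w
    have hs : Function.Surjective ((f ∣_ V).stalkMap ⟨z, hz⟩ ≫ e.hom.right) :=
      (ConcreteCategory.bijective_of_isIso e.hom.right).2.comp ((f ∣_ V).stalkMap_surjective _)
    rw [← hsq] at hs
    exact Function.Surjective.of_comp hs

end Groth.Agent.S7688
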