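import Groth.Statements.S7690

import Groth.Agent.QCoh.FlatBC
import Groth.Agent.KFlatLib.Scheme.RpushQCoh
import Groth.Agent.SBBundle.TwType
import Groth.Agent.PnCoh.Chow.Proper
import Groth.Agent.AmpleVan.Vanish
import Mathlib.RingTheory.Flat.FaithfullyFlat.Basic

set_option autoImplicit false
set_option linter.style.haveILetI false
set_option linter.unusedSectionVars false
set_option backward.isDefEq.respectTransparency false
set_option backward.isDefEq.respectTransparency.types false
universe u
open CategoryTheory CategoryTheory.Limits AlgebraicGeometry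
open Variety

namespace Groth.Agent.S7690

open Groth.Agent TensorProduct

/-- Let k'/k be a field extension (k' in the universe of k), n ≥ 0, F a coherent module on P^n_k with
pullback F' to P^n_{k'}. For every integer m, F is m-regular exactly when F' is. Here P^n_{k'} is
taken as the base change P^n_k ×_k Spec k' and the m-regularity of F' is spelled out as the
vanishing of H^i(P^n_{k'}, (F(m − i))') for 1 ≤ i ≤ n, (F(m − i))' being the pullback of F ⊗ O(m −
i). -/
theorem result (k : Type u) [Field k] (n : ℕ)
    (k' : Type u) [Field k'] [Algebra k k'] (F : (CohB1.ProjSpace n k).Modules) (hF : Coh.IsCoh F) (m : ℤ) :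
    Curv2.IsMRegular k n F m ↔
      ∀ i : ℕ, 1 ≤ i → i ≤ n →
        Subsingleton (Coh.HH (Curv2.bc k (CohB1.ProjSpace n k) k')
          ((Scheme.Modules.pullback (Curv2.bcFst k (CohB1.ProjSpace n k) k')).obj
            (CohB1.tensorMod F (Twist.twistProjSpace n k (m - i)))) i) := by
  haveI : IsProper (CohB1.ProjSpace n k ↘ Spec (CommRingCat.of k)) := PnCoh.Chow.isProper_toSpec n k
  haveI : CompactSpace (CohB1.ProjSpace n k : Scheme.{u}) :=
    QuasiCompact.compactSpace_of_compactSpace (CohB1.ProjSpace n k ↘ Spec (CommRingCat.of k))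
  haveI : QuasiSeparatedSpace (CohB1.ProjSpace n k : Scheme.{u}) :=
    quasiSeparatedSpace_of_quasiSeparated (CohB1.ProjSpace n k ↘ Spec (CommRingCat.of k))
  refine forall_congr' fun i => forall_congr' fun _ => forall_congr' fun _ => ?_
  haveI : IsLocallyNoetherian (CohB1.ProjSpace n k) :=
    LocallyOfFiniteType.isLocallyNoetherian (CohB1.ProjSpace n k ↘ Spec (CommRingCat.of k))
  have hq := (AmpleVan.isCoh_tensor hF (AmpleVan.isCoh_invertible (SBBundle.isInvertible_twistProjSpace n k (m - i)))).1
  obtain ⟨e⟩ := QCoh.HH_flatBaseChange (A := k) (B := k')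
    (IsPullback.of_hasPullback (CohB1.ProjSpace n k ↘ Spec (CommRingCat.of k))
      (Spec.map (CommRingCat.ofHom (algebraMap k k')))) hq i
  letI := QCoh.modHH (Coh.toGlobal (CohB1.ProjSpace n k ↘ Spec (CommRingCat.of k)))
    (CohB1.tensorMod F (Twist.twistProjSpace n k (m - i))) i
  have h1 := Module.FaithfullyFlat.subsingleton_tensorProduct_iff_right k k'
    (N := Coh.HH (CohB1.ProjSpace n k) (CohB1.tensorMod F (Twist.twistProjSpace n k (m - i))) i)
  refine h1.symm.trans ?_
  exact ⟨fun h => e.symm.injective.subsingleton, fun h => e.injective.subsingleton⟩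

end Groth.Agent.S7690
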