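import Groth.Statements.S8289
import Groth.Agent.ConeLib35.Deh

set_option autoImplicit false
universe u
open CategoryTheory CategoryTheory.Limits AlgebraicGeometry Opposite TopologicalSpace
open scoped HomogeneousIdeal
noncomputable section
open EGA2

namespace Groth.Agent.S8289

/-- The canonical morphism i from the affine cone to the projective cone: let 𝒮 be a quasi-coherent
positively graded O_Y-algebra with 𝒮_0 = O_Y, Ŝ = 𝒮[z] (z of degree one; presented through a graded
homomorphism ι : 𝒮 → Ŝ and a degree-one global section z with 𝒮(U)[X] → Ŝ(U), X ↦ z, bijective on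
affine opens), C = Spec(𝒮) and Ĉ = Proj(Ŝ). There is a unique morphism i : C → Ĉ which, on the chart
Spec 𝒮(U) of C over an affine open U, is Spec of the ring isomorphism Ŝ(U)_(z) ≅ 𝒮(U) (sending x/z^k
to x for x homogeneous of degree k) followed by the inclusion of D_+(z|U) into Proj Ŝ(U) and the
chart of Ĉ; this i is an open immersion, affine, lies over Y, Ĉ is the smallest closed subscheme of
Ĉ containing its image (its kernel ideal sheaf is zero), and its image is the open Ĉ_z where the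
section z does not vanish (characterised chartwise by D_+(z|U)). -/
theorem result {Y PC : Scheme.{u}} (𝒮 Sh : RelProj.QCGrAlg Y)
    (h0 : ∀ (U : Y.Opens) (hU : IsAffineOpen U), Function.Bijective (𝒮.strZero U hU).hom)
    (ι : 𝒮.toQCAlg ⟶ Sh.toQCAlg) (hι : RelProj.IsGradedHom ι) (z : Sh.presheaf.obj (op ⊤))
    (hz : ∀ (U : Y.Opens) (hU : IsAffineOpen U), (Sh.presheaf.map (homOfLE le_top).op).hom z ∈ Sh.deg U hU 1)
    (hpoly : ∀ (U : Y.Opens) (hU : IsAffineOpen U),
      Function.Bijective (Polynomial.eval₂RingHom (ι.hom.app (op U)).hom ((Sh.presheaf.map (homOfLE le_top).op).hom z)))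
    (pC : PC ⟶ Y)
    (chartC : ∀ (U : Y.Opens) (hU : IsAffineOpen U), (((pC ⁻¹ᵁ U : PC.Opens) : Scheme.{u}) ≅ Proj (Sh.deg U hU)))
    (hPC : RelProj.IsRelProj Sh pC chartC)
    (θ : ∀ (U : Y.Opens) (hU : IsAffineOpen U),
      CommRingCat.of (HomogeneousLocalization.Away (Sh.deg U hU) ((Sh.presheaf.map (homOfLE le_top).op).hom z)) ⟶
        𝒮.presheaf.obj (op U))
    (hθ : ∀ (U : Y.Opens) (hU : IsAffineOpen U)
      (q : HomogeneousLocalization.Away (Sh.deg U hU) ((Sh.presheaf.map (homOfLE le_top).op).hom z))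
      (k : ℕ) (x : 𝒮.presheaf.obj (op U)), x ∈ 𝒮.deg U hU k →
        q.val = Localization.mk ((ι.hom.app (op U)).hom x)
          ⟨(Sh.presheaf.map (homOfLE le_top).op).hom z ^ k,
            pow_mem (Submonoid.mem_powers ((Sh.presheaf.map (homOfLE le_top).op).hom z)) k⟩ →
        (θ U hU).hom q = x) :
    (∃! i : 𝒮.toQCAlg.spec ⟶ PC, ∀ (U : Y.Opens) (hU : IsAffineOpen U),
        𝒮.toQCAlg.ι U hU ≫ i =
          Spec.map (θ U hU) ≫
            Proj.awayι (Sh.deg U hU) ((Sh.presheaf.map (homOfLE le_top).op).hom z) (hz U hU) one_pos ≫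
              RelProj.emb pC chartC U hU) ∧
      ∀ i : 𝒮.toQCAlg.spec ⟶ PC, (∀ (U : Y.Opens) (hU : IsAffineOpen U),
        𝒮.toQCAlg.ι U hU ≫ i =
          Spec.map (θ U hU) ≫
            Proj.awayι (Sh.deg U hU) ((Sh.presheaf.map (homOfLE le_top).op).hom z) (hz U hU) one_pos ≫
              RelProj.emb pC chartC U hU) →
        IsOpenImmersion i ∧ IsAffineHom i ∧ i ≫ pC = 𝒮.toQCAlg.π ∧ i.ker = ⊥ ∧
          ∀ Xz : PC.Opens, (∀ (U : Y.Opens) (hU : IsAffineOpen U),
            Xz ⊓ pC ⁻¹ᵁ U =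
              (pC ⁻¹ᵁ U).ι ''ᵁ ((chartC U hU).hom ⁻¹ᵁ
                Proj.basicOpen (Sh.deg U hU) ((Sh.presheaf.map (homOfLE le_top).op).hom z))) →
            Set.range i.base = (Xz : Set PC) := by
  have hb : ∀ (U : Y.Opens) (hU : IsAffineOpen U),
      Function.Bijective (ConeLib35.dehom ι z hpoly U hU) := fun U hU =>
    ConeLib35.baseHom_bijective_graded (hz U hU) (RelProj.gradedHomAt ι hι U hU) (hpoly U hU)
  have key : ∀ (U : Y.Opens) (hU : IsAffineOpen U),
      θ U hU = CommRingCat.ofHom (ConeLib35.dehom ι z hpoly U hU) := fun U hU =>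
    CommRingCat.hom_ext (ConeLib35.eq_baseHom_graded (RelProj.gradedHomAt ι hι U hU) (hpoly U hU) (hz U hU) _
      (hθ U hU))
  simp only [key]
  refine ⟨ConeLib35.existsUnique_coneMap ι z hz hpoly hPC, fun i hi => ?_⟩
  refine ⟨ConeLib35.isOpenImmersion_coneMap ι z hz hpoly hb hi hPC,
    ConeLib35.isAffineHom_coneMap ι z hz hpoly hb hi hPC,
    ConeLib35.coneMap_comp ι z hz hpoly hi hPC,
    ConeLib35.ker_coneMap ι z hz hpoly hb hi hPC, fun Xz hXz => ?_⟩
  have key2 : ∀ (U : Y.Opens) (hU : IsAffineOpen U),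
      Set.range i ∩ (pC ⁻¹ᵁ U : Set PC) = (Xz : Set PC) ∩ (pC ⁻¹ᵁ U : Set PC) := fun U hU => by
    rw [ConeLib35.range_coneMap ι z hz hpoly hb hi hPC U hU]
    refine Eq.trans ?_ (congrArg (fun O : PC.Opens => (O : Set PC)) (hXz U hU)).symm
    ext x
    constructor
    · rintro ⟨w, hw, rfl⟩
      exact ⟨(chartC U hU).inv w, by simpa [← Scheme.Hom.comp_apply] using hw, rfl⟩
    · rintro ⟨y, hy, rfl⟩
      exact ⟨(chartC U hU).hom y, hy, by simp [RelProj.emb, ← Scheme.Hom.comp_apply]⟩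
  ext x
  obtain ⟨_, ⟨U, hU, rfl⟩, hxU, -⟩ := Y.isBasis_affineOpens.exists_subset_of_mem_open
    (Set.mem_univ (pC x)) isOpen_univ
  have h2 := Set.ext_iff.mp (key2 U hU) x
  exact ⟨fun h => (h2.mp ⟨h, hxU⟩).1, fun h => (h2.mpr ⟨h, hxU⟩).1⟩

end Groth.Agent.S8289
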