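import Groth.Statements.S8304
import Groth.Agent.SymAlgX.GrSym
import Groth.Prelude.Def_RelSpec2

set_option autoImplicit false
universe u
open CategoryTheory CategoryTheory.Limits AlgebraicGeometry Opposite TopologicalSpace
open scoped HomogeneousIdeal
noncomputable section
open EGA2

namespace Groth.Agent.S8304

variable {Y : Scheme.{u}} {𝒮 𝒮h : RelProj.QCGrAlg Y} {ι : 𝒮.toQCAlg ⟶ 𝒮h.toQCAlg}
  {z : 𝒮h.presheaf.obj (op ⊤)}

/-- Homomorphisms out of a polynomial algebra. -/
lemma existsUnique_polyLift (hz : RelCone.IsPolyOver 𝒮 𝒮h ι z) {B : RelSpec.QCAlg Y}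
    (f : 𝒮.toQCAlg ⟶ B) (b : B.presheaf.obj (op ⊤)) :
    ∃! ψ : 𝒮h.toQCAlg ⟶ B, ι ≫ ψ = f ∧ (ψ.hom.app (op ⊤)).hom z = b := by
  let bU : ∀ U : Y.Opens, B.presheaf.obj (op U) := fun U => (B.presheaf.map (homOfLE le_top).op).hom b
  have hbres : ∀ {U V : Y.Opens} (h : V ≤ U), (B.presheaf.map (homOfLE h).op).hom (bU U) = bU V := by
    intro U V h
    simp only [bU]
    rw [← CommRingCat.comp_apply, ← B.presheaf.map_comp]
    rfl
  have hzres : ∀ {U V : Y.Opens} (h : V ≤ U),
      (𝒮h.presheaf.map (homOfLE h).op).hom (RelCone.restrictTop 𝒮h z U) = RelCone.restrictTop 𝒮h z V := by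
    intro U V h
    show (𝒮h.presheaf.map _).hom ((𝒮h.presheaf.map _).hom z) = (𝒮h.presheaf.map _).hom z
    rw [← CommRingCat.comp_apply, ← 𝒮h.presheaf.map_comp]
    rfl
  let ev : ∀ (U : Y.Opens) (hU : IsAffineOpen U), 𝒮h.presheaf.obj (op U) →+* B.presheaf.obj (op U) :=
    fun U hU => (Polynomial.eval₂RingHom (f.hom.app (op U)).hom (bU U)).comp
      (hz.polyEquiv U hU).symm.toRingHom
  have hevι : ∀ U hU x, ev U hU ((ι.hom.app (op U)).hom x) = (f.hom.app (op U)).hom x := by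
    intro U hU x
    have e : hz.polyEquiv U hU (Polynomial.C x) = (ι.hom.app (op U)).hom x := by
      rw [RelCone.IsPolyOver.polyEquiv_apply, Polynomial.eval₂_C]
    rw [← e]
    simp [ev]
  have hevz : ∀ U hU, ev U hU (RelCone.restrictTop 𝒮h z U) = bU U := by
    intro U hU
    have e : hz.polyEquiv U hU Polynomial.X = RelCone.restrictTop 𝒮h z U := by
      rw [RelCone.IsPolyOver.polyEquiv_apply, Polynomial.eval₂_X]
    rw [← e]
    simp [ev]
  have hext : ∀ (U : Y.Opens) (_ : IsAffineOpen U) {C : Type u} [CommRing C]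
      (g g' : 𝒮h.presheaf.obj (op U) →+* C),
      (∀ x, g ((ι.hom.app (op U)).hom x) = g' ((ι.hom.app (op U)).hom x)) →
      g (RelCone.restrictTop 𝒮h z U) = g' (RelCone.restrictTop 𝒮h z U) → g = g' := by
    intro U hU C _ g g' h₁ h₂
    refine RingHom.ext fun y => ?_
    obtain ⟨q, rfl⟩ := (hz.bij U hU).2 y
    induction q using Polynomial.induction_on' with
    | add a b ha hb => rw [map_add, map_add, map_add, ha, hb]
    | monomial n a =>
      simp only [Polynomial.coe_eval₂RingHom, Polynomial.eval₂_monomial, map_mul, map_pow, h₁, h₂]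
  let β : (Scheme.AffineZariskiSite.toOpensFunctor Y).op ⋙ 𝒮h.presheaf ⟶
      (Scheme.AffineZariskiSite.toOpensFunctor Y).op ⋙ B.presheaf :=
    { app := fun U => CommRingCat.ofHom (ev U.unop.1 U.unop.2)
      naturality := fun U V i => by
        have hle := Scheme.AffineZariskiSite.toOpens_mono i.unop.le
        refine CommRingCat.hom_ext (hext U.unop.1 U.unop.2 _ _ (fun x => ?_) ?_)
        · show ev V.unop.1 V.unop.2 ((𝒮h.presheaf.map (homOfLE hle).op).hom ((ι.hom.app (op U.unop.1)).hom x)) =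
            (B.presheaf.map (homOfLE hle).op).hom (ev U.unop.1 U.unop.2 ((ι.hom.app (op U.unop.1)).hom x))
          rw [hevι, ← CommRingCat.comp_apply (ι.hom.app _), ← ι.hom.naturality, CommRingCat.comp_apply]
          exact (hevι V.unop.1 V.unop.2 _).trans
            (CategoryTheory.congr_fun (f.hom.naturality (homOfLE hle).op) x)
        · show ev V.unop.1 V.unop.2 ((𝒮h.presheaf.map (homOfLE hle).op).hom (RelCone.restrictTop 𝒮h z U.unop.1)) =
            (B.presheaf.map (homOfLE hle).op).hom (ev U.unop.1 U.unop.2 (RelCone.restrictTop 𝒮h z U.unop.1))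
          rw [hzres hle, hevz, hevz]
          exact (hbres hle).symm }
  let e := fun ℱ : TopCat.Presheaf CommRingCat.{u} Y.carrier =>
    Functor.IsCoverDense.restrictHomEquivHom (G := Scheme.AffineZariskiSite.toOpensFunctor Y)
      (K := Opens.grothendieckTopology Y) (ℱ := ℱ)
      (ℱ' := (⟨B.presheaf, B.isSheaf⟩ : TopCat.Sheaf CommRingCat.{u} Y.carrier))
  have hψ0 : ∀ (U : Y.Opens) (hU : IsAffineOpen U),
      ((e _) β).app (op U) = CommRingCat.ofHom (ev U hU) := fun U hU =>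
    NatTrans.congr_app ((e _).symm_apply_apply β) (op ⟨U, hU⟩)
  have hstr : 𝒮h.str ≫ (e _) β = B.str := by
    apply (e Y.presheaf).symm.injective
    refine NatTrans.ext (funext fun U => CommRingCat.hom_ext (RingHom.ext fun r => ?_))
    show (((e _) β).app (op U.unop.1)).hom ((𝒮h.str.app (op U.unop.1)).hom r) =
      (B.str.app (op U.unop.1)).hom r
    rw [hψ0 U.unop.1 U.unop.2]
    show ev _ _ _ = _
    rw [show (𝒮h.str.app (op U.unop.1)).hom r =
      (ι.hom.app (op U.unop.1)).hom ((𝒮.str.app (op U.unop.1)).hom r) from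
      (CategoryTheory.congr_fun (NatTrans.congr_app ι.comm (op U.unop.1)) r).symm, hevι]
    exact CategoryTheory.congr_fun (NatTrans.congr_app f.comm (op U.unop.1)) r
  let ψ : 𝒮h.toQCAlg ⟶ B := ⟨(e _) β, hstr⟩
  have glob : ∀ x y : B.presheaf.obj (op ⊤), (∀ (U : Y.Opens), IsAffineOpen U →
      (B.presheaf.map (homOfLE le_top).op).hom x = (B.presheaf.map (homOfLE le_top).op).hom y) →
      x = y := fun x y h =>
    AModX.eq_of_locally (M := B.toModule) (V := ⊤) x y fun p _ => by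
      obtain ⟨_, ⟨W, hW, rfl⟩, hpW, -⟩ := Y.isBasis_affineOpens.exists_subset_of_mem_open
        (Set.mem_univ p) isOpen_univ
      exact ⟨W, le_top, hpW, h W hW⟩
  refine ⟨ψ, ⟨?_, glob _ _ fun U hU => ?_⟩, fun ψ' hψ' => ?_⟩
  · refine SymAlgX.qcAlg_hom_ext Y fun U hU => CommRingCat.hom_ext (RingHom.ext fun x => ?_)
    show (((e _) β).app (op U)).hom ((ι.hom.app (op U)).hom x) = _
    rw [hψ0 U hU]
    exact hevι U hU x
  · show (B.presheaf.map _).hom ((((e _) β).app (op ⊤)).hom z) = bU U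
    rw [← hevz U hU, ← CommRingCat.comp_apply, ← ((e _) β).naturality, CommRingCat.comp_apply, hψ0 U hU]
    rfl
  · refine SymAlgX.qcAlg_hom_ext Y fun U hU => ?_
    refine (CommRingCat.hom_ext (hext U hU _ _ (fun x => ?_) ?_)).trans (hψ0 U hU).symm
    · exact (CategoryTheory.congr_fun (congr(($(hψ'.1).hom).app (op U))) x).trans (hevι U hU x).symm
    · refine Eq.trans ?_ (hevz U hU).symm
      show (ψ'.hom.app (op U)).hom ((𝒮h.presheaf.map (homOfLE le_top).op).hom z) = bU U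
      rw [← CommRingCat.comp_apply, ψ'.hom.naturality, CommRingCat.comp_apply, hψ'.2]

/-- Maps out of the structure sheaf agree if they agree on the unit section. -/
lemma unit_hom_ext {M : Y.Modules} {a b : Coh.structureModule Y ⟶ M}
    (h : ∀ U : Y.Opens, a.app U (1 : Γ(Y, U)) = b.app U (1 : Γ(Y, U))) : a = b := by
  refine Scheme.Modules.hom_ext _ _ fun U => ?_
  ext (x : Γ(Y, U))
  have hx : (x : Γ(Coh.structureModule Y, U)) = x • (show Γ(Coh.structureModule Y, U) from (1 : Γ(Y, U))) :=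
    (mul_one (show Γ(Y, U) from x)).symm
  rw [hx, Scheme.Modules.Hom.app_smul, Scheme.Modules.Hom.app_smul, h]

end Groth.Agent.S8304

namespace Groth.Agent.S8304

/-- At the level of graded algebras: let E be a quasi-coherent O_Y-module and 𝒮 = Sym(E) its graded
symmetric algebra (j : E → 𝒮 landing in degree one), and let Ŝ = 𝒮[z] be given through a graded
homomorphism ι : 𝒮 → Ŝ and a global section z of degree one with 𝒮(U)[X] → Ŝ(U), X ↦ z, bijective
over every affine open U. If k : O_Y → Ŝ is a module homomorphism sending the unit section to z over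
every open, then Ŝ together with the map E ⊕ O_Y → Ŝ whose components are j followed by ι, and k, is
the graded symmetric algebra of E ⊕ O_Y. Consequently the projective cone of V(E) = Spec(Sym E),
which is Proj(Ŝ), is the projective bundle P(E ⊕ O_Y), and its locus at infinity Proj(𝒮) is P(E). -/
theorem result {Y : Scheme.{u}} (E : Y.Modules) (hE : Coh.IsQCoh E)
    (𝒮 𝒮h : RelProj.QCGrAlg Y) (j : E ⟶ 𝒮.toModule) (hS : RelProj.IsGrSymAlg E 𝒮 j)
    (ι : 𝒮.toQCAlg ⟶ 𝒮h.toQCAlg) (z : 𝒮h.presheaf.obj (op ⊤)) (hz : RelCone.IsPolyOver 𝒮 𝒮h ι z)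
    (k : Coh.structureModule Y ⟶ 𝒮h.toModule)
    (hk : ∀ U : Y.Opens, (k.app U) (1 : Γ(Y, U)) = RelCone.restrictTop 𝒮h z U) :
    RelProj.IsGrSymAlg (E ⊞ Coh.structureModule Y) 𝒮h
      (biprod.desc (j ≫ RelSpec.QCAlg.Hom.toModuleMap ι) k) := by
  refine ⟨fun B φ => ?_, fun U hU x => ?_⟩
  · obtain ⟨f, hf, hfu⟩ := hS.1 B (biprod.inl ≫ φ)
    obtain ⟨ψ, hψ, hψu⟩ := existsUnique_polyLift hz f ((biprod.inr ≫ φ).app ⊤ (1 : Γ(Y, ⊤)))
    have hrt : RelCone.restrictTop 𝒮h z ⊤ = z := by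
      show (𝒮h.presheaf.map (homOfLE le_top).op).hom z = z
      rw [Subsingleton.elim (homOfLE le_top) (𝟙 (⊤ : Y.Opens)), op_id, 𝒮h.presheaf.map_id]
      rfl
    have key : ∀ χ : 𝒮h.toQCAlg ⟶ B,
        biprod.desc (j ≫ RelSpec.QCAlg.Hom.toModuleMap ι) k ≫ RelSpec.QCAlg.Hom.toModuleMap χ = φ ↔
          ι ≫ χ = f ∧ (χ.hom.app (op ⊤)).hom z = (biprod.inr ≫ φ).app ⊤ (1 : Γ(Y, ⊤)) := by
      intro χ
      constructor
      · intro hχ
        refine ⟨hfu _ ?_, ?_⟩
        · show j ≫ RelSpec.QCAlg.Hom.toModuleMap (ι ≫ χ) = biprod.inl ≫ φ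
          rw [← hχ, SymAlgX.toModuleMap_comp, biprod.inl_desc_assoc, Category.assoc]
        · rw [← hχ, biprod.inr_desc_assoc]
          show _ = (χ.hom.app (op ⊤)).hom (k.app ⊤ (1 : Γ(Y, ⊤)))
          rw [hk ⊤, hrt]
      · rintro ⟨h₁, h₂⟩
        refine biprod.hom_ext' _ _ ?_ (unit_hom_ext fun U => ?_)
        · rw [biprod.inl_desc_assoc, Category.assoc, ← SymAlgX.toModuleMap_comp, h₁, hf]
        · rw [biprod.inr_desc_assoc]
          show (χ.hom.app (op U)).hom (k.app U (1 : Γ(Y, U))) = (biprod.inr ≫ φ).app U (1 : Γ(Y, U))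
          rw [hk U]
          show (χ.hom.app (op U)).hom ((𝒮h.presheaf.map (homOfLE le_top).op).hom z) = _
          rw [← CommRingCat.comp_apply, χ.hom.naturality, CommRingCat.comp_apply, h₂]
          refine (CategoryTheory.congr_fun ((biprod.inr ≫ φ).mapPresheaf.naturality
            (homOfLE (le_top : U ≤ ⊤)).op) (1 : Γ(Y, ⊤))).symm.trans ?_
          exact congrArg ((biprod.inr ≫ φ).app U) (map_one (Y.presheaf.map (homOfLE (le_top : U ≤ ⊤)).op).hom)
    exact ⟨ψ, (key ψ).mpr hψ, fun χ hχ => hψu χ ((key χ).mp hχ)⟩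
  · let π₁ : Γ(E, U) := (biprod.fst : E ⊞ Coh.structureModule Y ⟶ E).app U x
    let π₂ : Γ(Coh.structureModule Y, U) := (biprod.snd : E ⊞ Coh.structureModule Y ⟶ _).app U x
    have hd : biprod.desc (j ≫ RelSpec.QCAlg.Hom.toModuleMap ι) k =
        biprod.fst ≫ j ≫ RelSpec.QCAlg.Hom.toModuleMap ι + biprod.snd ≫ k := biprod.desc_eq
    rw [hd]
    show (ι.hom.app (op U)).hom (j.app U π₁) + (show 𝒮h.presheaf.obj (op U) from k.app U π₂) ∈ 𝒮h.deg U hU 1
    refine add_mem (hz.graded U hU 1 _ (hS.2 U hU π₁)) ?_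
    have hx : π₂ = (show Γ(Y, U) from π₂) • (show Γ(Coh.structureModule Y, U) from (1 : Γ(Y, U))) :=
      (mul_one (show Γ(Y, U) from π₂)).symm
    rw [hx, Scheme.Modules.Hom.app_smul, hk U]
    show (𝒮h.str.app (op U)).hom _ * RelCone.restrictTop 𝒮h z U ∈ 𝒮h.deg U hU 1
    simpa using SetLike.mul_mem_graded (𝒮h.str_mem U hU _) (hz.deg_z U hU)

end Groth.Agent.S8304
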