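import Groth.Statements.S8308
import Groth.Agent.ConeLib35.Cone

set_option autoImplicit false
universe u
open CategoryTheory CategoryTheory.Limits AlgebraicGeometry Opposite TopologicalSpace
open scoped HomogeneousIdeal
noncomputable section
open EGA2

namespace Groth.Agent.S8308

/-- The canonical retraction of the pointed projective cone: let 𝒮 be a quasi-coherent positively graded
O_Y-algebra with 𝒮_0 = O_Y, Ŝ = 𝒮[z] (given through a graded homomorphism ι : 𝒮 → Ŝ and a global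
section z of degree one, polynomial over every affine open), X = Proj(𝒮) and Ĉ = Proj(Ŝ) the
relative homogeneous spectra with their charts, and Ê ⊆ Ĉ the pointed projective cone. There is
exactly one morphism p : Ê → X such that for every affine open U of Y and every f ∈ 𝒮(U) homogeneous
of positive degree, on the affine piece Spec Ŝ(U)_(ι f) of Ê (the standard open D_+(ι f) of Proj
Ŝ(U) carried into Ĉ by the chart) p is Spec of the canonical homomorphism 𝒮(U)_(f) → Ŝ(U)_(ι f)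
followed by the standard open D_+(f) of Proj 𝒮(U) and the chart of X. Every such p is affine and
surjective, lies over Y, and is a retraction of the immersion at infinity: if j : X → Ĉ is the
morphism chartwise induced by the graded retraction θ : Ŝ → 𝒮 of ι with θ(z) = 0, then j factors
through Ê and the factorisation followed by p is the identity of X. -/
theorem result {Y PC P : Scheme.{u}} (𝒮 𝒮h : RelProj.QCGrAlg Y) (h0 : RelCone.StrZeroBij 𝒮)
    (ι : 𝒮.toQCAlg ⟶ 𝒮h.toQCAlg) (z : 𝒮h.presheaf.obj (op ⊤)) (hz : RelCone.IsPolyOver 𝒮 𝒮h ι z)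
    (pC : PC ⟶ Y)
    (chartC : ∀ (U : Y.Opens) (hU : IsAffineOpen U), (((pC ⁻¹ᵁ U : PC.Opens) : Scheme.{u}) ≅ Proj (𝒮h.deg U hU)))
    (hPC : RelProj.IsRelProj 𝒮h pC chartC)
    (p : P ⟶ Y)
    (chart : ∀ (U : Y.Opens) (hU : IsAffineOpen U), (((p ⁻¹ᵁ U : P.Opens) : Scheme.{u}) ≅ Proj (𝒮.deg U hU)))
    (hP : RelProj.IsRelProj 𝒮 p chart) :
    (∃! r : ((RelCone.pointedProjCone 𝒮 hz pC chartC : PC.Opens) : Scheme.{u}) ⟶ P,
      (∀ (U : Y.Opens) (hU : IsAffineOpen U) (d : ℕ) (hd : 0 < d) (f : 𝒮.presheaf.obj (op U)) (hf : f ∈ 𝒮.deg U hU d)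
        (g : Spec (CommRingCat.of (HomogeneousLocalization.Away (𝒮h.deg U hU) ((RelProj.gradedHomAt ι hz.graded U hU) f))) ⟶
          ((RelCone.pointedProjCone 𝒮 hz pC chartC : PC.Opens) : Scheme.{u})),
        g ≫ (RelCone.pointedProjCone 𝒮 hz pC chartC).ι =
            Proj.awayι (𝒮h.deg U hU) ((RelProj.gradedHomAt ι hz.graded U hU) f) ((RelProj.gradedHomAt ι hz.graded U hU).2 hf) hd ≫
              RelProj.emb pC chartC U hU →
          g ≫ r =
            Spec.map (CommRingCat.ofHom (HomogeneousLocalization.Away.map (RelProj.gradedHomAt ι hz.graded U hU) f)) ≫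
              Proj.awayι (𝒮.deg U hU) f hf hd ≫ RelProj.emb p chart U hU)) ∧
    ∀ r : ((RelCone.pointedProjCone 𝒮 hz pC chartC : PC.Opens) : Scheme.{u}) ⟶ P,
      (∀ (U : Y.Opens) (hU : IsAffineOpen U) (d : ℕ) (hd : 0 < d) (f : 𝒮.presheaf.obj (op U)) (hf : f ∈ 𝒮.deg U hU d)
        (g : Spec (CommRingCat.of (HomogeneousLocalization.Away (𝒮h.deg U hU) ((RelProj.gradedHomAt ι hz.graded U hU) f))) ⟶
          ((RelCone.pointedProjCone 𝒮 hz pC chartC : PC.Opens) : Scheme.{u})),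
        g ≫ (RelCone.pointedProjCone 𝒮 hz pC chartC).ι =
            Proj.awayι (𝒮h.deg U hU) ((RelProj.gradedHomAt ι hz.graded U hU) f) ((RelProj.gradedHomAt ι hz.graded U hU).2 hf) hd ≫
              RelProj.emb pC chartC U hU →
          g ≫ r =
            Spec.map (CommRingCat.ofHom (HomogeneousLocalization.Away.map (RelProj.gradedHomAt ι hz.graded U hU) f)) ≫
              Proj.awayι (𝒮.deg U hU) f hf hd ≫ RelProj.emb p chart U hU) →
      IsAffineHom r ∧ Function.Surjective r.base ∧ r ≫ p = (RelCone.pointedProjCone 𝒮 hz pC chartC).ι ≫ pC ∧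
        ∀ (θ : 𝒮h.toQCAlg ⟶ 𝒮.toQCAlg) (hθ : RelProj.IsGradedHom θ), ι ≫ θ = 𝟙 _ →
          (θ.hom.app (op ⊤)).hom z = 0 →
          ∀ (hirr : ∀ (U : Y.Opens) (hU : IsAffineOpen U),
              (𝒮.deg U hU)₊ ≤ ((𝒮h.deg U hU)₊).map (RelProj.gradedHomAt θ hθ U hU))
            (j : P ⟶ PC), RelProj.IsRelProjMap θ hθ hirr chartC chart j →
            ∀ j' : P ⟶ ((RelCone.pointedProjCone 𝒮 hz pC chartC : PC.Opens) : Scheme.{u}), j' ≫ (RelCone.pointedProjCone 𝒮 hz pC chartC).ι = j → j' ≫ r = 𝟙 P := by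
  have hW := ConeLib35.pointedProjCone_eq_domQ hz hPC
  refine ⟨ConeLib35.existsUnique_diagEq hP hPC hW, fun r hr => ?_⟩
  refine ⟨ConeLib35.of_diagEq hP hPC hW hr @IsAffineHom fun U hU d _ f _ => inferInstance,
    (ConeLib35.of_diagEq hP hPC hW hr @Surjective fun U hU d _ f _ =>
      ⟨ConeLib35.surjective_specAwayMap (RelProj.gradedHomAt ι hz.graded U hU) (hz.deg_z U hU) (hz.bij U hU) f⟩).surj,
    ConeLib35.diagEq_comp hP hPC hW hr, ?_⟩
  intro θ hθ hιθ hθz hirr j hj j' hj'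
  refine Proj16.hom_ext_affine (p := p) fun U hU => ?_
  rw [← cancel_epi (chart U hU).inv]
  show RelProj.emb p chart U hU ≫ j' ≫ r = RelProj.emb p chart U hU ≫ 𝟙 P
  rw [Category.comp_id]
  have hιθ' : ∀ a : 𝒮.presheaf.obj (op U),
      RelProj.gradedHomAt θ hθ U hU (RelProj.gradedHomAt ι hz.graded U hU a) = a := fun a =>
    congrArg (fun m : 𝒮.toQCAlg ⟶ 𝒮.toQCAlg => (m.hom.app (op U)).hom a) hιθ
  refine Scheme.hom_ext_of_forall _ _ fun v => ?_
  obtain ⟨a, ha, hva⟩ := SetLike.not_le_iff_exists.mp v.not_irrelevant_le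
  obtain ⟨d, f, hd, hf, hvf⟩ := ProjQMapX.exists_homogeneous_of_mem_irrelevant
    (GradedRingHom.id (𝒮.deg U hU)) (I := v.asHomogeneousIdeal.toIdeal) ha hva
  refine ⟨(Proj.awayι (𝒮.deg U hU) f hf hd).opensRange,
    (Proj.opensRange_awayι (𝒮.deg U hU) f hf hd).ge hvf, ?_⟩
  rw [← (Proj.awayι (𝒮.deg U hU) f hf hd).isoOpensRange_inv_comp, Category.assoc, Category.assoc]
  congr 1
  let ρ := Spec.map (CommRingCat.ofHom
    (ProjQMapX.awayMapTo (RelProj.gradedHomAt θ hθ U hU) (hιθ' f)))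
  have hfac : (Proj.awayι (𝒮.deg U hU) f hf hd ≫ RelProj.emb p chart U hU) ≫ j =
      ρ ≫ Proj.awayι (𝒮h.deg U hU) (RelProj.gradedHomAt ι hz.graded U hU f)
        ((RelProj.gradedHomAt ι hz.graded U hU).2 hf) hd ≫ RelProj.emb pC chartC U hU := by
    rw [Category.assoc, RelProj.emb, Category.assoc, hj U hU, Iso.inv_hom_id_assoc,
      ProjQMapX.awayι_comp_map_to_assoc _ _ (hιθ' f) hd ((RelProj.gradedHomAt ι hz.graded U hU).2 hf), RelProj.emb]
  have hsub : Set.range (Proj.awayι (𝒮h.deg U hU) (RelProj.gradedHomAt ι hz.graded U hU f)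
      ((RelProj.gradedHomAt ι hz.graded U hU).2 hf) hd ≫ RelProj.emb pC chartC U hU) ⊆
      Set.range (RelCone.pointedProjCone 𝒮 hz pC chartC).ι := by
    rintro _ ⟨y, rfl⟩
    rw [Scheme.Opens.range_ι]
    exact (ConeLib35.emb_mem_pointedProjCone_iff hz hPC U hU _).mpr ((ProjQMapX.mem_domOpen_iff _ _).mpr
      ⟨d, f, hd, hf, (Proj.opensRange_awayι (𝒮h.deg U hU) _ _ hd).le ⟨y, rfl⟩⟩)
  have hg := IsOpenImmersion.lift_fac _ _ hsub
  have e : (Proj.awayι (𝒮.deg U hU) f hf hd ≫ RelProj.emb p chart U hU) ≫ j' =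
      ρ ≫ IsOpenImmersion.lift _ _ hsub := by
    rw [← cancel_mono (RelCone.pointedProjCone 𝒮 hz pC chartC).ι]
    simp only [Category.assoc, hj', hg]
    rw [← hfac, Category.assoc]
  rw [← Category.assoc, ← Category.assoc, e, Category.assoc, hr U hU d hd f hf _ hg, ← Spec.map_comp_assoc,
    ← CommRingCat.ofHom_comp,
    ConeLib35.retraction_comp_awayMap (RelProj.gradedHomAt ι hz.graded U hU) (RelProj.gradedHomAt θ hθ U hU) hιθ']
  simp

end Groth.Agent.S8308
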