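import Groth.Statements.S8309
import Groth.Agent.ConeLib35.Cone

set_option autoImplicit false
universe u
open CategoryTheory CategoryTheory.Limits AlgebraicGeometry Opposite TopologicalSpace
open scoped HomogeneousIdeal
noncomputable section
open EGA2

namespace Groth.Agent.S8309

/-- The canonical retraction of the pointed affine cone: let 𝒮 be a quasi-coherent positively graded
O_Y-algebra with 𝒮_0 = O_Y, Ŝ = 𝒮[z] (graded homomorphism ι : 𝒮 → Ŝ and a degree-one global section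
z, polynomial over affine opens), C = Spec(𝒮), X = Proj(𝒮) and Ĉ = Proj(Ŝ) with their charts, E ⊆ C
and Ê ⊆ Ĉ the pointed cones, i : C → Ĉ the canonical open immersion and p : Ê → X the canonical
retraction (the morphism which on each affine piece Spec Ŝ(U)_(ι f), f ∈ 𝒮(U) homogeneous of
positive degree, is Spec of 𝒮(U)_(f) → Ŝ(U)_(ι f) followed by the chart of X). Then the image of E
under i lies in Ê, and for the induced morphism i' : E → Ê the composite π = i' ≫ p : E → X is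
affine and surjective. -/
theorem result {Y PC P : Scheme.{u}} (𝒮 𝒮h : RelProj.QCGrAlg Y) (h0 : RelCone.StrZeroBij 𝒮)
    (ι : 𝒮.toQCAlg ⟶ 𝒮h.toQCAlg) (z : 𝒮h.presheaf.obj (op ⊤)) (hz : RelCone.IsPolyOver 𝒮 𝒮h ι z)
    (pC : PC ⟶ Y)
    (chartC : ∀ (U : Y.Opens) (hU : IsAffineOpen U), (((pC ⁻¹ᵁ U : PC.Opens) : Scheme.{u}) ≅ Proj (𝒮h.deg U hU)))
    (hPC : RelProj.IsRelProj 𝒮h pC chartC)
    (p : P ⟶ Y)
    (chart : ∀ (U : Y.Opens) (hU : IsAffineOpen U), (((p ⁻¹ᵁ U : P.Opens) : Scheme.{u}) ≅ Proj (𝒮.deg U hU)))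
    (hP : RelProj.IsRelProj 𝒮 p chart)
    (i : 𝒮.toQCAlg.spec ⟶ PC) (hi : RelCone.IsConeImm 𝒮 hz pC chartC i)
    (r : ((RelCone.pointedProjCone 𝒮 hz pC chartC : PC.Opens) : Scheme.{u}) ⟶ P)
    (hr : (∀ (U : Y.Opens) (hU : IsAffineOpen U) (d : ℕ) (hd : 0 < d) (f : 𝒮.presheaf.obj (op U)) (hf : f ∈ 𝒮.deg U hU d)
        (g : Spec (CommRingCat.of (HomogeneousLocalization.Away (𝒮h.deg U hU) ((RelProj.gradedHomAt ι hz.graded U hU) f))) ⟶
          ((RelCone.pointedProjCone 𝒮 hz pC chartC : PC.Opens) : Scheme.{u})),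
        g ≫ (RelCone.pointedProjCone 𝒮 hz pC chartC).ι =
            Proj.awayι (𝒮h.deg U hU) ((RelProj.gradedHomAt ι hz.graded U hU) f) ((RelProj.gradedHomAt ι hz.graded U hU).2 hf) hd ≫
              RelProj.emb pC chartC U hU →
          g ≫ r =
            Spec.map (CommRingCat.ofHom (HomogeneousLocalization.Away.map (RelProj.gradedHomAt ι hz.graded U hU) f)) ≫
              Proj.awayι (𝒮.deg U hU) f hf hd ≫ RelProj.emb p chart U hU)) :
    (RelCone.pointedCone 𝒮 : 𝒮.toQCAlg.spec.Opens) ≤ i ⁻¹ᵁ (RelCone.pointedProjCone 𝒮 hz pC chartC) ∧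
      ∀ i' : ((RelCone.pointedCone 𝒮 : 𝒮.toQCAlg.spec.Opens) : Scheme.{u}) ⟶ ((RelCone.pointedProjCone 𝒮 hz pC chartC : PC.Opens) : Scheme.{u}),
        i' ≫ (RelCone.pointedProjCone 𝒮 hz pC chartC).ι = (RelCone.pointedCone 𝒮).ι ≫ i →
          IsAffineHom (i' ≫ r) ∧ Function.Surjective (i' ≫ r).base := by
  have hpre := ConeLib35.preimage_pointedProjCone hz hPC hi
  refine ⟨hpre.ge, fun i' hi' => ⟨?_, fun x => ?_⟩⟩
  · have haff : IsAffineHom i :=
      ConeLib35.isAffineHom_coneMap ι z hz.deg_z (ConeLib35.poly_bij hz) (ConeLib35.dehom_bijective hz)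
        (ConeLib35.coneImm_eq hz hi) hPC
    have hgen : ∀ (E : 𝒮.toQCAlg.spec.Opens), i ⁻¹ᵁ RelCone.pointedProjCone 𝒮 hz pC chartC = E →
        ∀ i'' : (E : Scheme.{u}) ⟶ ((RelCone.pointedProjCone 𝒮 hz pC chartC : PC.Opens) : Scheme.{u}),
          i'' ≫ (RelCone.pointedProjCone 𝒮 hz pC chartC).ι = E.ι ≫ i → IsAffineHom i'' := by
      intro E hE i'' hi''
      subst hE
      have e : i'' = i ∣_ RelCone.pointedProjCone 𝒮 hz pC chartC := by
        rw [← cancel_mono (RelCone.pointedProjCone 𝒮 hz pC chartC).ι, hi'', morphismRestrict_ι]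
      rw [e]
      exact IsZariskiLocalAtTarget.restrict haff _
    have := hgen _ hpre i' hi'
    have : IsAffineHom r := ConeLib35.of_diagEq hP hPC (ConeLib35.pointedProjCone_eq_domQ hz hPC) hr
      @IsAffineHom fun U hU d _ f _ => inferInstance
    infer_instance
  · obtain ⟨_, ⟨U, hU₀, rfl⟩, hxU, -⟩ := Y.isBasis_affineOpens.exists_subset_of_mem_open
      (Set.mem_univ (p x)) isOpen_univ
    have hU : IsAffineOpen U := hU₀
    obtain ⟨v, rfl⟩ := ProjQMapX.exists_emb_eq (chart := chart) U hU hxU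
    let q : Spec (𝒮.presheaf.obj (op U)) := ⟨v.asHomogeneousIdeal.toIdeal, v.isPrime⟩
    have hq : 𝒮.toQCAlg.ι U hU q ∈ RelCone.pointedCone 𝒮 := by
      rw [ConeX.mem_pointedCone, ConeX.mem_vertexCompl]
      exact SetLike.not_le_iff_exists.mp v.not_irrelevant_le
    refine ⟨⟨_, hq⟩, ?_⟩
    set y := i' ⟨_, hq⟩ with hy
    show r y = _
    have hy' : (RelCone.pointedProjCone 𝒮 hz pC chartC).ι y =
        RelProj.emb pC chartC U hU (Proj.awayι (𝒮h.deg U hU) (ConeLib35.zres z U) (hz.deg_z U hU) one_pos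
          (Spec.map (CommRingCat.ofHom (ConeLib35.dehom ι z (ConeLib35.poly_bij hz) U hU)) q)) := by
      rw [hy, ← Scheme.Hom.comp_apply, hi']
      show (𝒮.toQCAlg.ι U hU ≫ i) q = _
      rw [ConeLib35.coneImm_eq hz hi U hU]
      rfl
    obtain ⟨a, ha, hva⟩ := SetLike.not_le_iff_exists.mp v.not_irrelevant_le
    obtain ⟨d, f, hd, hf, hvf⟩ := ProjQMapX.exists_homogeneous_of_mem_irrelevant
      (GradedRingHom.id (𝒮.deg U hU)) (I := v.asHomogeneousIdeal.toIdeal) ha hva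
    set w := Proj.awayι (𝒮h.deg U hU) (ConeLib35.zres z U) (hz.deg_z U hU) one_pos
          (Spec.map (CommRingCat.ofHom (ConeLib35.dehom ι z (ConeLib35.poly_bij hz) U hU)) q) with hw
    have key : ∀ (e : ℕ) (b : 𝒮.presheaf.obj (op U)), 0 < e → b ∈ 𝒮.deg U hU e →
        (w ∈ Proj.basicOpen (𝒮h.deg U hU) (RelProj.gradedHomAt ι hz.graded U hU b) ↔
          v ∈ Proj.basicOpen (𝒮.deg U hU) b) := fun e b he hb =>
      ConeLib35.awayι_mem_basicOpen_iff (RelProj.gradedHomAt ι hz.graded U hU) (hz.deg_z U hU) (hz.bij U hU) q he hb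
    obtain ⟨t, ht⟩ : w ∈ (Proj.awayι (𝒮h.deg U hU) (RelProj.gradedHomAt ι hz.graded U hU f)
        ((RelProj.gradedHomAt ι hz.graded U hU).2 hf) hd).opensRange :=
      (Proj.opensRange_awayι (𝒮h.deg U hU) _ _ hd).ge ((key d f hd hf).mpr hvf)
    have hsub : Set.range (Proj.awayι (𝒮h.deg U hU) (RelProj.gradedHomAt ι hz.graded U hU f)
        ((RelProj.gradedHomAt ι hz.graded U hU).2 hf) hd ≫ RelProj.emb pC chartC U hU) ⊆
        Set.range (RelCone.pointedProjCone 𝒮 hz pC chartC).ι := by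
      rintro _ ⟨y, rfl⟩
      rw [Scheme.Opens.range_ι]
      exact (ConeLib35.emb_mem_pointedProjCone_iff hz hPC U hU _).mpr ((ProjQMapX.mem_domOpen_iff _ _).mpr
        ⟨d, f, hd, hf, (Proj.opensRange_awayι (𝒮h.deg U hU) _ _ hd).le ⟨y, rfl⟩⟩)
    have hg := IsOpenImmersion.lift_fac _ _ hsub
    have hyt : IsOpenImmersion.lift _ _ hsub t = y := by
      apply (RelCone.pointedProjCone 𝒮 hz pC chartC).ι.isOpenEmbedding.injective
      rw [← Scheme.Hom.comp_apply, hg, Scheme.Hom.comp_apply]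
      exact (congrArg (RelProj.emb pC chartC U hU) ht).trans hy'.symm
    rw [← hyt, ← Scheme.Hom.comp_apply, hr U hU d hd f hf _ hg]
    show RelProj.emb p chart U hU _ = RelProj.emb p chart U hU v
    refine congrArg (RelProj.emb p chart U hU) (ConeLib35.proj_ext fun e b he hb => ?_)
    refine (ProjQMapX.awayMap_mem_basicOpen (RelProj.gradedHomAt ι hz.graded U hU) hf hd hb he t).trans ?_
    exact (iff_of_eq (congrArg (fun P => P ∈ Proj.basicOpen (𝒮h.deg U hU)
      (RelProj.gradedHomAt ι hz.graded U hU b)) ht)).trans (key e b he hb)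

end Groth.Agent.S8309
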