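import Groth.Statements.S8366
import Groth.Agent.GrpSchLib.SemigroupShear
import Groth.Agent.GrpSchLib.ThickIso
import Groth.Agent.GrpSchLib.Shear
import Mathlib.AlgebraicGeometry.Sites.Fpqc

set_option autoImplicit false
universe u
open CategoryTheory MonoidalCategory MonObj AlgebraicGeometry
open SGA3 Groth.Agent CartesianMonoidalCategory MonObj GrpObj
open scoped CategoryTheory.Obj

namespace Groth.Agent.S8366

/-- Over an affine base S = Spec R with S₀ = Spec (R/I) for a nilpotent ideal I: let X be an S-scheme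
which is flat and either quasi-compact or locally of finite presentation over S, and P : X ×_S X → X
a composition law. If P is associative and its base change to S₀ is the multiplication of some
group-scheme structure on X ×_S S₀, then P is the multiplication of a group-scheme structure on X.
(The published statement is over an arbitrary base scheme with S₀ defined by a nilpotent
quasi-coherent ideal; this row is its case of an affine base.) -/
theorem result (R : Type u) [CommRing R] (I : Ideal R)
    (hI : IsNilpotent I) (X : Over (Spec (CommRingCat.of R))) [Flat X.hom]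
    (hX : QuasiCompact X.hom ∨ LocallyOfFinitePresentation X.hom) (P : X ⊗ X ⟶ X)
    (hassoc : (P ▷ X) ≫ P = (α_ X X X).hom ≫ (X ◁ P) ≫ P)
    (h0 : ∃ _ : GrpObj ((Over.pullback (Spec.map (CommRingCat.ofHom (Ideal.Quotient.mk I)))).obj X),
      μ[(Over.pullback (Spec.map (CommRingCat.ofHom (Ideal.Quotient.mk I)))).obj X] =
        Functor.LaxMonoidal.μ (Over.pullback (Spec.map (CommRingCat.ofHom (Ideal.Quotient.mk I)))) X X ≫ (Over.pullback (Spec.map (CommRingCat.ofHom (Ideal.Quotient.mk I)))).map P) :
    ∃ _ : GrpObj X, μ[X] = P := by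
  obtain ⟨g₀, hg₀⟩ := h0
  let π := Spec.map (CommRingCat.ofHom (Ideal.Quotient.mk I))
  let F := Over.pullback π
  haveI : Surjective π := GrpSchLib.ThickIso.surjective_SpecMap_quotient I hI
  haveI : Flat (X ⊗ X).hom := inferInstanceAs (Flat (Limits.pullback.fst X.hom X.hom ≫ X.hom))
  have key : ∀ φ : X ⊗ X ⟶ X ⊗ X, IsIso (F.map φ) → IsIso φ := by
    intro φ hφ
    let p := Limits.pullback.fst (X ⊗ X).hom π
    let q := Limits.pullback.snd (X ⊗ X).hom π
    haveI : IsIso (F.map φ).left := ((Over.forget _).mapIso (asIso (F.map φ))).isIso_hom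
    have h1 : (F.map φ).left ≫ p = p ≫ φ.left := Limits.pullback.lift_fst _ _ _
    have h2 : (F.map φ).left ≫ q = q := Limits.pullback.lift_snd _ _ _
    have hX' : IsPullback (p ≫ φ.left) q (X ⊗ X).hom π :=
      IsPullback.of_iso (IsPullback.of_hasPullback (X ⊗ X).hom π) (asIso (F.map φ).left).symm (Iso.refl _)
        (Iso.refl _) (Iso.refl _) (by rw [Iso.refl_hom, Category.comp_id, Iso.symm_hom, Iso.eq_inv_comp]; exact h1)
        (by rw [Iso.refl_hom, Category.comp_id, Iso.symm_hom, Iso.eq_inv_comp]; exact h2) (by simp) (by simp)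
    haveI : IsIso φ.left := GrpSchLib.ThickIso.isIso_of_thickening I hI (X ⊗ X).hom (X ⊗ X).hom p (p ≫ φ.left) q
      (IsPullback.of_hasPullback _ _) hX' φ.left (Over.w φ) rfl
    haveI : IsIso ((Over.forget _).map φ) := inferInstanceAs (IsIso φ.left)
    exact isIso_of_reflects_iso φ (Over.forget _)
  have hsl : IsIso (F.map (lift (fst X X) P)) := by
    have e : Functor.LaxMonoidal.μ F X X ≫ F.map (lift (fst X X) P) =
        lift (fst (F.obj X) (F.obj X)) μ[F.obj X] ≫ Functor.LaxMonoidal.μ F X X := by
      rw [← cancel_mono (Functor.OplaxMonoidal.δ F X X)]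
      ext1 <;> simp [F, π, ← Functor.map_comp, hg₀]
    haveI : IsIso (lift (fst (F.obj X) (F.obj X)) μ[F.obj X]) := by
      rw [show lift (fst (F.obj X) (F.obj X)) μ[F.obj X] = (GrpSchLib.shearIso (𝟙 (F.obj X))).hom by
        apply CartesianMonoidalCategory.hom_ext <;> simp [GrpSchLib.shearIso, MonObj.mul_eq_mul]]
      infer_instance
    haveI : IsIso (Functor.LaxMonoidal.μ F X X ≫ F.map (lift (fst X X) P)) := by rw [e]; infer_instance
    exact IsIso.of_isIso_comp_left (Functor.LaxMonoidal.μ F X X) _
  have hsr : IsIso (F.map (lift P (snd X X))) := by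
    have e : Functor.LaxMonoidal.μ F X X ≫ F.map (lift P (snd X X)) =
        lift μ[F.obj X] (snd (F.obj X) (F.obj X)) ≫ Functor.LaxMonoidal.μ F X X := by
      rw [← cancel_mono (Functor.OplaxMonoidal.δ F X X)]
      ext1 <;> simp [F, π, ← Functor.map_comp, hg₀]
    haveI : IsIso (lift μ[F.obj X] (snd (F.obj X) (F.obj X))) := by
      refine ⟨lift (fst (F.obj X) (F.obj X) * (snd (F.obj X) (F.obj X))⁻¹) (snd _ _), ?_, ?_⟩
      · apply CartesianMonoidalCategory.hom_ext <;> simp [MonObj.comp_mul, GrpObj.comp_inv, MonObj.mul_eq_mul, _root_.mul_assoc]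
      · apply CartesianMonoidalCategory.hom_ext <;> simp [MonObj.comp_mul, GrpObj.comp_inv, MonObj.mul_eq_mul, _root_.mul_assoc]
    haveI : IsIso (Functor.LaxMonoidal.μ F X X ≫ F.map (lift P (snd X X))) := by rw [e]; infer_instance
    exact IsIso.of_isIso_comp_left (Functor.LaxMonoidal.μ F X X) _
  haveI : Surjective X.hom := by
    refine ⟨fun s => ?_⟩
    obtain ⟨s₀, rfl⟩ := π.surjective s
    let η₀ := (η[F.obj X] : 𝟙_ _ ⟶ F.obj X).left
    refine ⟨Limits.pullback.fst X.hom π (η₀ s₀), ?_⟩
    rw [← Scheme.Hom.comp_apply, Limits.pullback.condition, ← Scheme.Hom.comp_apply, ← Category.assoc]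
    congr 2
    rw [show η₀ ≫ Limits.pullback.snd X.hom π = 𝟙 _ from Over.w (η[F.obj X] : 𝟙_ _ ⟶ F.obj X)]
    rfl
  haveI : EffectiveEpi X.hom := by
    rcases hX with h | h <;> infer_instance
  obtain ⟨g, hg⟩ := GrpSchLib.SemigroupShear.exists_grpObj P hassoc (key _ hsl) (key _ hsr) fun e he => by
    have hd : ∀ {Z : Scheme.{u}} (a b : Z ⟶ X.left), a ≫ X.hom = b ≫ X.hom → a ≫ e.left = b ≫ e.left := by
      intro Z a b hab
      have := congrArg (fun f : X ⊗ X ⟶ X => Limits.pullback.lift a b hab ≫ f.left) he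
      simp only [Over.comp_left] at this
      erw [Limits.pullback.lift_fst_assoc, Limits.pullback.lift_snd_assoc] at this
      exact this
    refine ⟨Over.homMk (EffectiveEpi.desc X.hom e.left hd) ?_, ?_⟩
    · rw [← cancel_epi X.hom, EffectiveEpi.fac_assoc]
      exact (Over.w e).trans (Category.comp_id _).symm
    · apply Over.OverMorphism.ext
      exact EffectiveEpi.fac X.hom e.left hd
  exact ⟨g, hg⟩

end Groth.Agent.S8366
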