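import Groth.Statements.S8401
import Groth.Agent.TorusCent19.MaxInter
-- import your own Groth.Agent.* helpers here

set_option autoImplicit false
universe u
open CategoryTheory MonoidalCategory CartesianMonoidalCategory MonObj GrpObj AlgebraicGeometry
open SGA3x

namespace Groth.Agent.S8401

/-- Let G be an affine, smooth, connected algebraic group over an algebraically closed field k, and Z
its reductive centre. Then Z is the scheme-theoretic intersection of the maximal tori of G: a point
of G with values in a k-scheme X factors through Z if and only if it factors through every maximal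
torus of G. -/
theorem result (k : Type u) [Field k] [IsAlgClosed k]
    (G : Over (Spec (CommRingCat.of k))) [GrpObj G] [Smooth G.hom] [QuasiCompact G.hom] [IsAffine G.left] [ConnectedSpace ↥G.left]
    (Z : Over (Spec (CommRingCat.of k))) [GrpObj Z] (z : Z ⟶ G)
    (hZ : (IsMonHom z ∧ Mono z ∧ SGA3x.IsMultTypeFT Z ∧
      (∀ (X : Over (Spec (CommRingCat.of k))) (x : X ⟶ Z) (g : X ⟶ G), (x ≫ z) * g = g * (x ≫ z)) ∧
      ∀ (S' : Scheme.{u}) (f : S' ⟶ (Spec (CommRingCat.of k))) (H : Over S') [GrpObj H] (v : H ⟶ Red.bc f G) [IsMonHom v],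
        SGA3x.IsMultTypeFT H →
        (∀ (X : Over S') (x : X ⟶ H) (g : X ⟶ Red.bc f G), (x ≫ v) * g = g * (x ≫ v)) →
        ∃ w : H ⟶ Red.bc f Z, w ≫ (Over.pullback f).map z = v)) (X : Over (Spec (CommRingCat.of k))) (g : X ⟶ G) :
    (∃ x : X ⟶ Z, x ≫ z = g) ↔
      ∀ (T : Over (Spec (CommRingCat.of k))) [GrpObj T] (i : T ⟶ G), Red.IsMaximalTorus i → ∃ t : X ⟶ T, t ≫ i = g := by
  obtain ⟨hzm, hzmono, hZm, hcen, huniv⟩ := hZ
  haveI := hzm
  constructor
  · rintro ⟨x, rfl⟩ T _ i hi
    haveI : LocallyOfFiniteType G.hom := inferInstance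
    obtain ⟨w, hw⟩ := TorusCent19.exists_factor_field (TorusCent19.isMaxTorus_of_isMaximalTorus hi) hZm z hcen
    exact ⟨x ≫ w, by rw [Category.assoc, hw]⟩
  · intro hg
    obtain ⟨W, _, w, _, hW, hWc, hWu⟩ := TorusCent19.exists_central_subgroup (G := G)
    obtain ⟨y, hy⟩ := hWu X g hg
    let p : Over.pullback (𝟙 (Spec (CommRingCat.of k))) ≅ 𝟭 _ := Over.pullbackId
    haveI : IsMonHom (M := Red.bc (𝟙 (Spec (CommRingCat.of k))) G) (N := G) (p.hom.app G) :=
      ((Functor.mapGrpNatIso p ≪≫ Functor.mapGrpIdIso).app (Grp.mk G)).hom.hom.isMonHom_hom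
    haveI : IsMonHom (M := G) (N := Red.bc (𝟙 (Spec (CommRingCat.of k))) G) (p.inv.app G) :=
      ((Functor.mapGrpNatIso p ≪≫ Functor.mapGrpIdIso).app (Grp.mk G)).inv.hom.isMonHom_hom
    let v : W ⟶ Red.bc (𝟙 (Spec (CommRingCat.of k))) G := w ≫ p.inv.app G
    haveI : IsMonHom v :=
      Groth.Agent.SgaFix20.isMonHom_comp (Y := G) (Z := Red.bc (𝟙 (Spec (CommRingCat.of k))) G) _ _
        inferInstance inferInstance
    obtain ⟨a, ha⟩ := huniv _ (𝟙 _) W v hW fun Y x h => by
      have e : v ≫ p.hom.app G = w := by simp [v]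
      haveI : IsIso (p.hom.app G) := inferInstance
      let π : Red.bc (𝟙 (Spec (CommRingCat.of k))) G ⟶ G := p.hom.app G
      haveI : IsMonHom π := ‹IsMonHom (M := Red.bc (𝟙 (Spec (CommRingCat.of k))) G) (N := G) (p.hom.app G)›
      haveI : IsIso π := inferInstanceAs (IsIso (p.hom.app G))
      refine (cancel_mono π).mp ?_
      rw [MonObj.mul_comp, MonObj.mul_comp, Category.assoc, show v ≫ π = w from e]
      exact hWc Y x _
    refine ⟨y ≫ a ≫ p.hom.app Z, ?_⟩
    have hn := p.hom.naturality z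
    rw [Functor.id_map] at hn
    rw [Category.assoc, Category.assoc, ← hn, reassoc_of% ha]
    simp [v, ← hy]

end Groth.Agent.S8401
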