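import Groth.Statements.S8433
import Groth.Agent.MaxTorusLib.CentralDescent

set_option autoImplicit false
universe u
open CategoryTheory MonoidalCategory CartesianMonoidalCategory MonObj GrpObj AlgebraicGeometry
open SGA3x

set_option backward.isDefEq.respectTransparency false
set_option backward.isDefEq.respectTransparency.types false
set_option linter.style.haveILetI false
set_option synthInstance.maxHeartbeats 200000
set_option maxHeartbeats 1000000

namespace Groth.Agent.S8433

/-- Let G be an S-group scheme of finite presentation over S which admits, locally for the fpqc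
topology, a central maximal torus. Then G admits globally a unique maximal torus T, which is the
largest subtorus of G (every subtorus factors through T), and T is central. -/
theorem result (S : Scheme.{u}) (G : Over S) [GrpObj G]
    [QuasiCompact G.hom] [QuasiSeparated G.hom] [LocallyOfFinitePresentation G.hom]
    (h : ∃ (S' : Scheme.{u}) (f : S' ⟶ S), Flat f ∧ Surjective f ∧
      (∀ V : S.Opens, IsAffineOpen V → ∃ W : S'.Opens, IsCompact (W : Set ↥S') ∧ f.base '' (W : Set ↥S') = (V : Set ↥S)) ∧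
      ∃ (T' : Over S') (_ : GrpObj T') (i' : T' ⟶ Red.bc f G), Red.IsMaximalTorus i' ∧
        ∀ (X : Over S') (t : X ⟶ T') (g : X ⟶ Red.bc f G), (t ≫ i') * g = g * (t ≫ i')) :
    ∃ (T : Over S) (_ : GrpObj T) (i : T ⟶ G), Red.IsMaximalTorus i ∧
      (∀ (X : Over S) (t : X ⟶ T) (g : X ⟶ G), (t ≫ i) * g = g * (t ≫ i)) ∧
      ∀ (R : Over S) [GrpObj R] (j : R ⟶ G) [IsMonHom j] [Mono j], Red.IsTorus R → ∃ f : R ⟶ T, f ≫ i = j := by
  obtain ⟨S', π, hflat, hsurj, hcov, T', grpT', i', hmax, hc⟩ := h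
  haveI := hmax.1
  haveI := hmax.2.1
  haveI := hflat
  haveI := hsurj
  haveI : IsAffineHom T'.hom :=
    (TransLib.multTypeFT_essFree (GrpSchLib.RankOne.isMultTypeFT_of_isTorus hmax.2.2.1)).1
  obtain ⟨T, grpT, i, φ, hmon, hmono, hφ⟩ := MaxTorusLib.exists_descent_subgroup π hcov i'
    (MaxTorusLib.isInvariant_central_maximal π hmax hc)
  have hπ := FpqcDescLib.covers_of_hcov π ⟨S', π, 𝟙 _, Category.id_comp _, hsurj, hflat, hcov⟩
  have hi' : Red.IsMaximalTorus ((Over.pullback π).map i) := hφ ▸ MaxTorusLib.isMaximalTorus_iso_comp hmax φ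
  haveI := hmon
  haveI := hmono
  have hi : Red.IsMaximalTorus i := by
    refine ⟨hmon, hmono, MaxTorusLib.isTorus_of_bc π hπ hi'.2.2.1, fun s R _ j _ _ f hR hf => ?_⟩
    obtain ⟨s', rfl⟩ := π.surjective s
    obtain ⟨m, hm⟩ := ConjEtale19.exists_geomPt_lift π s'
    let g := Red.geomPt (π.base s')
    let gv := Red.geomPt s'
    let ΦG := GrpLimLib.cmp (rfl : gv ≫ π = gv ≫ π) G ≪≫ (GrpLimLib.cmp hm G).symm
    let ΦT := GrpLimLib.cmp (rfl : gv ≫ π = gv ≫ π) T ≪≫ (GrpLimLib.cmp hm T).symm
    haveI : IsMonHom ΦG.hom :=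
      SgaFix20.isMonHom_comp _ _ inferInstance (inferInstanceAs (IsMonHom (GrpLimLib.cmp hm G).inv))
    haveI : (Over.pullback m).PreservesMonomorphisms :=
      Functor.preservesMonomorphisms_of_adjunction (Over.mapPullbackAdj m)
    haveI : IsMonHom ((Over.pullback m).map j ≫ ΦG.inv) :=
      SgaFix20.isMonHom_comp _ _ inferInstance inferInstance
    haveI : Mono ((Over.pullback m).map j ≫ ΦG.inv) := mono_comp _ _
    haveI := hi'.2.2.2 s' (Red.bc m R) ((Over.pullback m).map j ≫ ΦG.inv) (ΦT.hom ≫ (Over.pullback m).map f)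
      (RedSub30.TorusAbsorb.isTorus_bc m hR) (by
        rw [Category.assoc, ← Functor.map_comp_assoc, hf, ← reassoc_of% MaxTorusLib.cmp_cmp_symm_naturality
          (rfl : gv ≫ π = gv ≫ π) hm i, Iso.hom_inv_id, Category.comp_id])
    haveI : IsIso ((Over.pullback m).map f) := IsIso.of_isIso_comp_left ΦT.hom _
    exact MaxTorusLib.isIso_of_pullback_map m f
  have hc' : ∀ (X : Over S) (t : X ⟶ T) (g : X ⟶ G), Commute (t ≫ i) g := fun X t g => by
    have hr : FpqcDescLib.Covers (DSPtsLib.theta π (𝟙 (Red.bc π X))).left := by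
      rw [DSPtsLib.theta_left, Over.id_left, Category.id_comp]
      exact hπ.pullback X.hom _ (Limits.pullback.snd X.hom π) (IsPullback.of_hasPullback _ _)
    haveI := hr.over_epi
    have hn : ∀ {Y : Over S} (x : X ⟶ Y), DSPtsLib.theta π (𝟙 (Red.bc π X)) ≫ x =
        DSPtsLib.theta π ((Over.pullback π).map x) := fun x => by
      rw [← GrpSchLib.RankOne.theta_map, Category.id_comp]
    show (t ≫ i) * g = g * (t ≫ i)
    rw [← cancel_epi (DSPtsLib.theta π (𝟙 (Red.bc π X))), MonObj.comp_mul, MonObj.comp_mul, hn, hn,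
      ← DSPtsLib.theta_mul, ← DSPtsLib.theta_mul, Functor.map_comp, ← hφ, ← Category.assoc]
    exact congrArg (DSPtsLib.theta π) (hc _ ((Over.pullback π).map t ≫ φ.hom.hom.hom) ((Over.pullback π).map g))
  refine ⟨T, grpT, i, hi, fun X t g => (hc' X t g).eq, fun R _ j _ _ hR => ?_⟩
  exact MaxTorusLib.exists_factor_commute i hi j hR fun X t r => hc' X t (r ≫ j)

end Groth.Agent.S8433
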