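import Groth.Statements.S8453
import Groth.Agent.S8452
import Groth.Agent.Rank2Red38.R1Ext

set_option autoImplicit false
universe u
open CategoryTheory MonoidalCategory CartesianMonoidalCategory MonObj GrpObj AlgebraicGeometry CategoryTheory.Limits
open Red

namespace Groth.Agent.S8453

/-- Isomorphism thm for groups of semisimple rank 1: Let (G, T, α, p₊, p₋, α^*) and (G', T', α', p'₊,
p'₋, α'^*) be two rank-one systems over S: G reductive, i : T ⟶ G a maximal torus, α a character of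
T non-trivial on every geometric fibre, p₊, p₋ : 𝔾_a ⟶ G monomorphisms normalised by T with
multipliers α, α⁻¹ whose cell map (y, t, x) ↦ p₋(y) i(t) p₊(x) is an open immersion, α^* : 𝔾_m ⟶ T
with α ∘ α^* the squaring map and p₊(x) p₋(y) = p₋(y/(1+xy)) · i(α^*(1+xy)) · p₊(x/(1+xy)) whenever
1 + xy is invertible; likewise for the primed data. Let q > 0 be an integer such that x ↦ x^q is
additive on all functions of S-schemes. Let c be an S-point of 𝔾_m (a trivialisation of the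
isomorphism (𝔤^α)^{⊗q} ≅ 𝔤'^{α'}) and f_T : T ⟶ T' a homomorphism with α' ∘ f_T = α^q and f_T ∘ α^*
= (α'^*)^q. Then there is exactly one homomorphism f : G ⟶ G' extending f_T (i ∘ f = f_T ∘ i') with
f(p₊(x)) = p'₊(c x^q) for all points x of 𝔾_a; moreover every such f satisfies f(p₋(y)) = p'₋(c⁻¹
y^q) for all points y. -/
theorem result (S : Scheme.{u}) (G T : Over S) [GrpObj G] [GrpObj T] (i : T ⟶ G) [IsMonHom i] [Mono i] (hG : Red.IsReductive G) (hTm : Red.IsMaximalTorus i)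
    (α : T ⟶ Red.Gm S) [IsMonHom α] (hα : ∀ s : S, (Over.pullback (Red.geomPt s)).map α ≠ 1)
    (pp pm : Red.Ga S ⟶ G) [IsMonHom pp] [Mono pp] [IsMonHom pm] [Mono pm]
    (hpp : ∀ (X : Over S) (t : X ⟶ T) (x : X ⟶ Red.Ga S), ∃ x' : X ⟶ Red.Ga S,
      x' ≫ pp = (t ≫ i) * (x ≫ pp) * (t ≫ i)⁻¹ ∧ Red.gaFn x' = Red.gmFn (t ≫ α) * Red.gaFn x)
    (hpm : ∀ (X : Over S) (t : X ⟶ T) (y : X ⟶ Red.Ga S), ∃ y' : X ⟶ Red.Ga S,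
      y' ≫ pm = (t ≫ i) * (y ≫ pm) * (t ≫ i)⁻¹ ∧ Red.gaFn y' * Red.gmFn (t ≫ α) = Red.gaFn y)
    (hΩ : IsOpenImmersion (((pm ⊗ₘ i) ⊗ₘ pp) ≫ (μ[G] ▷ G) ≫ μ[G]).left)
    (av : Red.Gm S ⟶ T) [IsMonHom av] (h2 : av ≫ α = (𝟙 (Red.Gm S)) ^ 2)
    (hF : ∀ (X : Over S) (x y : X ⟶ Red.Ga S), IsUnit (1 + Red.gaFn x * Red.gaFn y) →
      ∃ (x' y' : X ⟶ Red.Ga S) (z : X ⟶ Red.Gm S), Red.gmFn z = 1 + Red.gaFn x * Red.gaFn y ∧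
        Red.gaFn x' * Red.gmFn z = Red.gaFn x ∧ Red.gaFn y' * Red.gmFn z = Red.gaFn y ∧
        (x ≫ pp) * (y ≫ pm) = (y' ≫ pm) * (z ≫ av ≫ i) * (x' ≫ pp))
    (G' T' : Over S) [GrpObj G'] [GrpObj T'] (i' : T' ⟶ G') [IsMonHom i'] [Mono i'] (hG' : Red.IsReductive G') (hTm' : Red.IsMaximalTorus i')
    (α' : T' ⟶ Red.Gm S) [IsMonHom α'] (hα' : ∀ s : S, (Over.pullback (Red.geomPt s)).map α' ≠ 1)
    (pp' pm' : Red.Ga S ⟶ G') [IsMonHom pp'] [Mono pp'] [IsMonHom pm'] [Mono pm']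
    (hpp' : ∀ (X : Over S) (t : X ⟶ T') (x : X ⟶ Red.Ga S), ∃ x' : X ⟶ Red.Ga S,
      x' ≫ pp' = (t ≫ i') * (x ≫ pp') * (t ≫ i')⁻¹ ∧ Red.gaFn x' = Red.gmFn (t ≫ α') * Red.gaFn x)
    (hpm' : ∀ (X : Over S) (t : X ⟶ T') (y : X ⟶ Red.Ga S), ∃ y' : X ⟶ Red.Ga S,
      y' ≫ pm' = (t ≫ i') * (y ≫ pm') * (t ≫ i')⁻¹ ∧ Red.gaFn y' * Red.gmFn (t ≫ α') = Red.gaFn y)
    (hΩ' : IsOpenImmersion (((pm' ⊗ₘ i') ⊗ₘ pp') ≫ (μ[G'] ▷ G') ≫ μ[G']).left)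
    (av' : Red.Gm S ⟶ T') [IsMonHom av'] (h2' : av' ≫ α' = (𝟙 (Red.Gm S)) ^ 2)
    (hF' : ∀ (X : Over S) (x y : X ⟶ Red.Ga S), IsUnit (1 + Red.gaFn x * Red.gaFn y) →
      ∃ (x' y' : X ⟶ Red.Ga S) (z : X ⟶ Red.Gm S), Red.gmFn z = 1 + Red.gaFn x * Red.gaFn y ∧
        Red.gaFn x' * Red.gmFn z = Red.gaFn x ∧ Red.gaFn y' * Red.gmFn z = Red.gaFn y ∧
        (x ≫ pp') * (y ≫ pm') = (y' ≫ pm') * (z ≫ av' ≫ i') * (x' ≫ pp'))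
    (q : ℕ) (hq0 : 0 < q) (hq : ∀ (X : Over S) (a b : Γ(X.left, ⊤)), (a + b) ^ q = a ^ q + b ^ q) (c : 𝟙_ (Over S) ⟶ Red.Gm S) (fT : T ⟶ T') [IsMonHom fT]
    (hfTα : fT ≫ α' = α ^ q) (hfTav : av ≫ fT = av' ^ q) :
    (∃! f : G ⟶ G', IsMonHom f ∧ i ≫ f = fT ≫ i' ∧
        ∀ (X : Over S) (x y : X ⟶ Red.Ga S), Red.gaFn y = Red.gmFn (toUnit X ≫ c) * Red.gaFn x ^ q →
          (x ≫ pp) ≫ f = y ≫ pp') ∧
      ∀ f : G ⟶ G', IsMonHom f → i ≫ f = fT ≫ i' →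
        (∀ (X : Over S) (x y : X ⟶ Red.Ga S), Red.gaFn y = Red.gmFn (toUnit X ≫ c) * Red.gaFn x ^ q →
          (x ≫ pp) ≫ f = y ≫ pp') →
        ∀ (X : Over S) (x y : X ⟶ Red.Ga S), Red.gaFn y * Red.gmFn (toUnit X ≫ c) = Red.gaFn x ^ q →
          (x ≫ pm) ≫ f = y ≫ pm' := by
  have hrest : ∀ f : G ⟶ G', IsMonHom f → i ≫ f = fT ≫ i' →
      (∀ (X : Over S) (x y : X ⟶ Red.Ga S), Red.gaFn y = Red.gmFn (toUnit X ≫ c) * Red.gaFn x ^ q →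
        (x ≫ pp) ≫ f = y ≫ pp') →
      ∀ (X : Over S) (x y : X ⟶ Red.Ga S), Red.gaFn y * Red.gmFn (toUnit X ≫ c) = Red.gaFn x ^ q →
        (x ≫ pm) ≫ f = y ≫ pm' := by
    intro f hf hfT hfp
    obtain ⟨c', ⟨hp', hm'⟩, -⟩ := (S8452.result S G T i hG hTm α hα pp pm hpp hpm hΩ av h2 hF G' T' i' hG' hTm'
      α' hα' pp' pm' hpp' hpm' hΩ' av' h2' hF' q hq0 hq f).mp ⟨fT, inferInstance, hfT, hfTα, hfTav⟩
    have hc : c' = c := by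
      refine GmPts.gmFn_injective ?_
      have e1 := hp' (𝟙_ (Over S)) (GrpSchLib.GaPts.ptOfFn 1) (GrpSchLib.GaPts.ptOfFn (Red.gmFn c'))
        (by simp [GrpSchLib.GaPts.gaFn_ptOfFn, toUnit_unique (toUnit (𝟙_ (Over S))) (𝟙 _)])
      have e2 := hfp (𝟙_ (Over S)) (GrpSchLib.GaPts.ptOfFn 1) (GrpSchLib.GaPts.ptOfFn (Red.gmFn c))
        (by simp [GrpSchLib.GaPts.gaFn_ptOfFn, toUnit_unique (toUnit (𝟙_ (Over S))) (𝟙 _)])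
      rw [e1, cancel_mono] at e2
      simpa [GrpSchLib.GaPts.gaFn_ptOfFn] using congrArg Red.gaFn e2
    subst hc
    exact hm'
  refine ⟨?_, hrest⟩
  obtain ⟨f, hf, hfT, hfp⟩ := GrpSchLib.RankOne.exists_hom_of_data hpp hpm hTm.2.2.1 hα hG hΩ h2 hF hpp' hpm' h2' hF'
    q hq0 hq c fT hfTα hfTav
  refine ⟨f, ⟨hf, hfT, hfp⟩, ?_⟩
  rintro g ⟨hg, hgT, hgp⟩
  haveI := hg
  haveI := hf
  haveI := hΩ
  let W : Over S := (Red.Ga S ⊗ T) ⊗ Red.Ga S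
  have hone : ∃ e : 𝟙_ (Over S) ⟶ W, e ≫ GrpSchLib.RankOne.cellMap i pp pm = 1 :=
    ⟨lift (lift 1 1) 1, by rw [GrpSchLib.RankOne.cell_comp, MonObj.one_comp pm, MonObj.one_comp i,
      MonObj.one_comp pp, _root_.mul_one, _root_.mul_one]⟩
  refine CellExt29.hom_ext (GrpSchLib.RankOne.cellMap i pp pm) hG hone g f ?_
  let cu := (GmPts.unitOfPt (toUnit W ≫ c))
  have hid : (𝟙 W) = lift (lift (fst _ _ ≫ fst _ _) (fst _ _ ≫ snd _ _)) (snd _ _) := by ext <;> simp [W]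
  rw [← Category.id_comp (GrpSchLib.RankOne.cellMap i pp pm), hid, GrpSchLib.RankOne.cell_comp]
  simp only [MonObj.mul_comp]
  have e1 : ∀ x : W ⟶ Red.Ga S, (x ≫ pm) ≫ g = (x ≫ pm) ≫ f := fun x => by
    let y : W ⟶ Red.Ga S := GrpSchLib.GaPts.ptOfFn (Red.gaFn x ^ q * ((cu⁻¹ : _ˣ) : Γ(W.left, ⊤)))
    have hy : Red.gaFn y * Red.gmFn (toUnit W ≫ c) = Red.gaFn x ^ q := by
      rw [GrpSchLib.GaPts.gaFn_ptOfFn]
      exact Units.inv_mul_cancel_right _ cu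
    rw [hrest g hg hgT hgp W x y hy, hrest f hf hfT hfp W x y hy]
  have e2 : ∀ x : W ⟶ Red.Ga S, (x ≫ pp) ≫ g = (x ≫ pp) ≫ f := fun x => by
    let y : W ⟶ Red.Ga S := GrpSchLib.GaPts.ptOfFn (Red.gmFn (toUnit W ≫ c) * Red.gaFn x ^ q)
    rw [hgp W x y (GrpSchLib.GaPts.gaFn_ptOfFn _), hfp W x y (GrpSchLib.GaPts.gaFn_ptOfFn _)]
  have e3 : ∀ t : W ⟶ T, (t ≫ i) ≫ g = (t ≫ i) ≫ f := fun t => by rw [Category.assoc, Category.assoc, hgT, hfT]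
  rw [e1, e2, e3]

end Groth.Agent.S8453
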