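import Groth.Statements.S8456
import Groth.Agent.Rank2Red38.R1Closed

set_option autoImplicit false
universe u
open CategoryTheory MonoidalCategory CartesianMonoidalCategory MonObj GrpObj AlgebraicGeometry CategoryTheory.Limits
open Red

namespace Groth.Agent.S8456

/-- Let G be a reductive S-group, i : T ⟶ G a maximal torus, α a character of T non-trivial on every
geometric fibre, and p₊, p₋ : 𝔾_a ⟶ G monomorphisms of groups normalised by T with multipliers α and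
α⁻¹ such that 𝔾_a ×_S T ×_S 𝔾_a ⟶ G, (y, t, x) ↦ p₋(y) i(t) p₊(x), is an open immersion (a rank-one
system: G has semisimple rank 1 and p₊, p₋ trivialise the root groups of α and -α). Then the
subgroups U_α = im p₊, U_{-α} = im p₋, T·U_α and T·U_{-α} are closed in G: p₊ and p₋ are closed
immersions, and so are the morphisms T ×_S 𝔾_a ⟶ G, (t, x) ↦ i(t) p₊(x) and (t, y) ↦ i(t) p₋(y). -/
theorem result (S : Scheme.{u}) (G T : Over S) [GrpObj G] [GrpObj T] (i : T ⟶ G) [IsMonHom i] [Mono i] (hG : Red.IsReductive G) (hTm : Red.IsMaximalTorus i)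
    (α : T ⟶ Red.Gm S) [IsMonHom α] (hα : ∀ s : S, (Over.pullback (Red.geomPt s)).map α ≠ 1)
    (pp pm : Red.Ga S ⟶ G) [IsMonHom pp] [Mono pp] [IsMonHom pm] [Mono pm]
    (hpp : ∀ (X : Over S) (t : X ⟶ T) (x : X ⟶ Red.Ga S), ∃ x' : X ⟶ Red.Ga S,
      x' ≫ pp = (t ≫ i) * (x ≫ pp) * (t ≫ i)⁻¹ ∧ Red.gaFn x' = Red.gmFn (t ≫ α) * Red.gaFn x)
    (hpm : ∀ (X : Over S) (t : X ⟶ T) (y : X ⟶ Red.Ga S), ∃ y' : X ⟶ Red.Ga S,
      y' ≫ pm = (t ≫ i) * (y ≫ pm) * (t ≫ i)⁻¹ ∧ Red.gaFn y' * Red.gmFn (t ≫ α) = Red.gaFn y)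
    (hΩ : IsOpenImmersion (((pm ⊗ₘ i) ⊗ₘ pp) ≫ (μ[G] ▷ G) ≫ μ[G]).left) :
    IsClosedImmersion pp.left ∧ IsClosedImmersion pm.left ∧
      IsClosedImmersion ((i ⊗ₘ pp) ≫ μ[G]).left ∧ IsClosedImmersion ((i ⊗ₘ pm) ≫ μ[G]).left := by
  haveI : IsAffineHom G.hom := hG.1
  haveI : IsClosedImmersion i.left :=
    RedSub30.TorusClosed.isClosedImmersion_of_mono i (GrpSchLib.RankOne.isMultTypeFT_of_isTorus hTm.2.2.1)
  have hT : Red.IsTorus T := hTm.2.2.1
  haveI : IsAffineHom T.hom := by rw [← Over.w i]; infer_instance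
  haveI : IsSeparated T.hom := inferInstance
  haveI : IsMonHom (α⁻¹ : T ⟶ Red.Gm S) := GrpSchLib.RankOne.isMonHom_of_comp _ fun Y a b => by
    have h : (a * b) ≫ α = (a ≫ α) * (b ≫ α) := MonObj.mul_comp a b α
    rw [GrpObj.comp_inv, GrpObj.comp_inv, GrpObj.comp_inv, h]
    exact (GmPts.equiv Y).injective (by simp only [map_inv, map_mul, _root_.mul_inv])
  have hα' : ∀ s : S, (Over.pullback (Red.geomPt s)).map (α⁻¹ : T ⟶ Red.Gm S) ≠ 1 := fun s h => hα s (by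
    rw [Functor.map_inv', inv_eq_one] at h; exact h)
  have hpm' : ∀ (X : Over S) (t : X ⟶ T) (x : X ⟶ Red.Ga S), ∃ x' : X ⟶ Red.Ga S,
      x' ≫ pm = (t ≫ i) * (x ≫ pm) * (t ≫ i)⁻¹ ∧ Red.gaFn x' = Red.gmFn (t ≫ (α⁻¹ : T ⟶ Red.Gm S)) * Red.gaFn x := by
    intro X t x
    obtain ⟨x', h1, h2⟩ := hpm X t x
    refine ⟨x', h1, ?_⟩
    have h : Red.gmFn (t ≫ (α⁻¹ : T ⟶ Red.Gm S)) * Red.gmFn (t ≫ α) = 1 := by
      rw [GrpObj.comp_inv, GmPts.gmFn_inv]
    linear_combination Red.gmFn (t ≫ (α⁻¹ : T ⟶ Red.Gm S)) * h2 - Red.gaFn x' * h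
  have hp := R1Closed.isClosedImmersion_prodMor i α pp hT hα hpp
  have hm := R1Closed.isClosedImmersion_prodMor i (α⁻¹ : T ⟶ Red.Gm S) pm hT hα' hpm'
  have key : ∀ (p : Red.Ga S ⟶ G) [IsMonHom p], IsClosedImmersion ((i ⊗ₘ p) ≫ μ[G]).left →
      IsClosedImmersion p.left := by
    intro p _ h
    haveI := h
    let e : Red.Ga S ⟶ T ⊗ Red.Ga S := lift 1 (𝟙 _)
    have he : e ≫ (i ⊗ₘ p) ≫ μ[G] = p := by
      rw [R1Closed.lift_prodMor, MonObj.one_comp, _root_.one_mul, Category.id_comp]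
    haveI : IsClosedImmersion e.left := by
      haveI : IsSeparated (snd T (Red.Ga S)).left := inferInstanceAs (IsSeparated (pullback.snd T.hom (Red.Ga S).hom))
      exact MorphismProperty.of_postcomp (W' := @IsSeparated) @IsClosedImmersion e.left (snd T (Red.Ga S)).left
        inferInstance (by rw [← Over.comp_left, lift_snd]; exact inferInstanceAs (IsClosedImmersion (𝟙 (Red.Ga S).left)))
    rw [← he, Over.comp_left]
    infer_instance
  exact ⟨key pp hp, key pm hm, hp, hm⟩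

end Groth.Agent.S8456
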