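import Groth.Statements.S8472
import Groth.Agent.Rank2Red38.Stmt
import Groth.Agent.Rank2Red38.Chevalley
import Groth.Agent.Rank2Red38.Scale

set_option autoImplicit false
universe u
open CategoryTheory MonoidalCategory CartesianMonoidalCategory MonObj GrpObj AlgebraicGeometry CategoryTheory.Limits
open Red

namespace Groth.Agent.S8472

/-- Existence of a Chevalley system extending a pinning: at the level of root groups. Let G be a pinned
reductive S-group: a splitting D (maximal torus T ≅ D_S(M), root datum with root homomorphisms u_c :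
𝔾_a ⟶ G for all roots c, system of simple roots Δ) such that for every simple root a the root
homomorphisms of a and -a are dual to each other: u_a(x) u_{-a}(y) = u_{-a}(y/(1+xy)) · a^∨(1+xy) ·
u_a(x/(1+xy)) whenever 1 + xy is invertible, where a^∨ : 𝔾_m ⟶ T is the coroot of a read through the
splitting. For a root a put w_a = u_a(1) u_{-a}(-1) u_a(1) (an S-point of G). Then the pinning
extends to a Chevalley system: there is a family (v_c)_{c} of root homomorphisms v_c : 𝔾_a ⟶ G, one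
for each root c, normalised by T through the character of c, with v_a = u_a for every simple root a,
such that every v_c admits a dual root homomorphism v_c⁻ (v_c(x) v_c⁻(y) = v_c⁻(y/(1+xy)) c^∨(1+xy)
v_c(x/(1+xy)) for 1 + xy invertible) for which, writing n_c = v_c(1) v_c⁻(1)⁻¹ v_c(1), one has for
every root b a sign ε ∈ {1, -1} with n_c v_b(x) n_c⁻¹ = v_{s_c(b)}(ε x) for all points x of 𝔾_a. -/
theorem result (S : Scheme.{u}) (e₁ : 𝟙_ (Over S) ⟶ Red.Ga S) (he₁ : Red.gaFn e₁ = 1)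
    (G : Over S) [GrpObj G] (D : Red.Pinning G)
    (avc : D.idx → (Red.Gm S ⟶ D.T))
    (havc : ∀ a, avc a = Red.DSmap S (D.P.coroot a).toAddMonoidHom ≫ D.split.inv.hom.hom)
    (hpair : ∀ a ∈ D.base.support, ∀ (X : Over S) (x y : X ⟶ Red.Ga S), IsUnit (1 + Red.gaFn x * Red.gaFn y) →
        ∃ (x' y' : X ⟶ Red.Ga S) (z : X ⟶ Red.Gm S), Red.gmFn z = 1 + Red.gaFn x * Red.gaFn y ∧
          Red.gaFn x' * Red.gmFn z = Red.gaFn x ∧ Red.gaFn y' * Red.gmFn z = Red.gaFn y ∧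
          (x ≫ D.u a) * (y ≫ D.u (D.P.reflectionPerm a a)) = (y' ≫ D.u (D.P.reflectionPerm a a)) * (z ≫ avc a ≫ D.i) * (x' ≫ D.u a)) :
    ∃ v : D.idx → (Red.Ga S ⟶ G),
      (∀ c, Red.IsRootHom D.i (D.split.hom.hom.hom ≫ Red.chi S (D.P.root c)) (v c)) ∧
      (∀ a ∈ D.base.support, v a = D.u a) ∧
      ∀ c, ∃ vd : Red.Ga S ⟶ G, IsMonHom vd ∧
        (∀ (X : Over S) (x y : X ⟶ Red.Ga S), IsUnit (1 + Red.gaFn x * Red.gaFn y) →
        ∃ (x' y' : X ⟶ Red.Ga S) (z : X ⟶ Red.Gm S), Red.gmFn z = 1 + Red.gaFn x * Red.gaFn y ∧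
          Red.gaFn x' * Red.gmFn z = Red.gaFn x ∧ Red.gaFn y' * Red.gmFn z = Red.gaFn y ∧
          (x ≫ v c) * (y ≫ vd) = (y' ≫ vd) * (z ≫ avc c ≫ D.i) * (x' ≫ v c)) ∧
        ∀ b, ∃ ε : ℤ, (ε = 1 ∨ ε = -1) ∧ ∀ (X : Over S) (x y : X ⟶ Red.Ga S), Red.gaFn y = (ε : Γ(X.left, ⊤)) * Red.gaFn x →
          (toUnit X ≫ ((e₁ ≫ v c) * (e₁ ≫ vd)⁻¹ * (e₁ ≫ v c))) * (x ≫ v b) *
              (toUnit X ≫ ((e₁ ≫ v c) * (e₁ ≫ vd)⁻¹ * (e₁ ≫ v c)))⁻¹ = y ≫ v (D.P.reflectionPerm c b) := by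
  classical
  have hd : ∀ c ∈ D.base.support, Rank2Red38.IsDual D.toSplitRed c := fun c hc => Rank2Red38.isDual_of_hpair havc (hpair c hc)
  have h0 : ∀ c, ∃ φ, Rank2Red38.Rep D c φ := Rank2Red38.exists_rep
  choose φ hφ using h0
  have hk : ∀ c, ∃ k : Γ(S, ⊤), IsUnit k ∧ φ c = Rank2Red38.Uk D c k := fun c => (hφ c).scalar hd
  choose k hku hk using hk
  let k₁ : D.idx → Γ(S, ⊤) := fun c => if c ∈ D.base.support then 1 else k c
  have hk₁ : ∀ c, IsUnit (k₁ c) := fun c => by simp only [k₁]; split_ifs <;> simp [hku]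
  let v : D.idx → (Red.Ga S ⟶ G) := fun c => Rank2Red38.scaleHom (k₁ c) ≫ D.u c
  have hv : ∀ (c : D.idx) (X : Over S) (x : X ⟶ Red.Ga S), x ≫ v c = Rank2Red38.Uk D c (k₁ c) X (Red.gaFn x) :=
    fun c X x => Rank2Red38.pt_comp_scale (D := D) (k₁ c) c x
  have hrep : ∀ c, ∃ ψ, Rank2Red38.Rep D c ψ ∧ ψ = Rank2Red38.Uk D c (k₁ c) := fun c => by
    by_cases hc : c ∈ D.base.support
    · exact ⟨_, Rank2Red38.Rep.base hc (Or.inl rfl), by simp [k₁, hc, Rank2Red38.Uk_one]⟩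
    · exact ⟨φ c, hφ c, by simp [k₁, hc, hk c]⟩
  refine ⟨v, fun c => Rank2Red38.isRootHom_scale (D := D) (hk₁ c) c, fun a ha => ?_, fun c => ?_⟩
  · simp [v, k₁, ha, Rank2Red38.scaleHom_one]
  obtain ⟨ψ, hψ, rfl⟩ := hrep c
  obtain ⟨k', hdual, hmaps⟩ := Rank2Red38.rep_chevalley hd hψ
  refine ⟨Rank2Red38.scaleHom k' ≫ D.u (Rank2Red38.neg' D.toSplitRed c), Rank2Red38.isMonHom_scaled k' _,
    fun X x y hxy => ?_, fun b => ?_⟩
  · refine ⟨GrpSchLib.GaPts.ptOfFn (Red.gaFn x * ((hxy.unit⁻¹ : Γ(X.left, ⊤)ˣ) : Γ(X.left, ⊤))),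
      GrpSchLib.GaPts.ptOfFn (Red.gaFn y * ((hxy.unit⁻¹ : Γ(X.left, ⊤)ˣ) : Γ(X.left, ⊤))), GmPts.ptOfUnit hxy.unit,
      by simp [GmPts.gmFn_ptOfUnit], ?_, ?_, ?_⟩
    · rw [GrpSchLib.GaPts.gaFn_ptOfFn, GmPts.gmFn_ptOfUnit, Units.inv_mul_cancel_right]
    · rw [GrpSchLib.GaPts.gaFn_ptOfFn, GmPts.gmFn_ptOfUnit, Units.inv_mul_cancel_right]
    · simp only [hv, Rank2Red38.pt_comp_scale, GrpSchLib.GaPts.gaFn_ptOfFn]
      refine (hdual X (Red.gaFn x) (Red.gaFn y) hxy.unit rfl).trans ?_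
      rw [havc]
      rfl
  · obtain ⟨ψb, hψb, rfl⟩ := hrep b
    obtain ⟨ψc, hψc, rfl⟩ := hrep (D.P.reflectionPerm c b)
    obtain ⟨ε, hε, h⟩ := hmaps b _ _ hψb hψc
    refine ⟨ε, hε, fun X x y hy => ?_⟩
    have en : toUnit X ≫ ((e₁ ≫ v c) * (e₁ ≫ Rank2Red38.scaleHom k' ≫ D.u (Rank2Red38.neg' D.toSplitRed c))⁻¹ * (e₁ ≫ v c)) =
        Rank2Red38.nElt (Rank2Red38.Uk D c (k₁ c)) (Rank2Red38.Uk D (Rank2Red38.neg' D.toSplitRed c) k') X := by
      simp only [hv, Rank2Red38.pt_comp_scale, he₁, MonObj.comp_mul, GrpObj.comp_inv, Rank2Red38.nElt,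
        Rank2Red38.Uk, Rank2Red38.comp_U, map_mul, Rank2Red38.map_glob, map_one]
    rw [en, hv, hv, hy]
    exact h X (Red.gaFn x)

end Groth.Agent.S8472
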