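import Groth.Statements.S8473
import Groth.Agent.RedEasy38.TorusConn
import Groth.Agent.GrpSchLib.GaPts
import Groth.Prelude.Def_GmPts

set_option autoImplicit false
universe u
open CategoryTheory MonoidalCategory CartesianMonoidalCategory MonObj GrpObj AlgebraicGeometry CategoryTheory.Limits
open Red

namespace Groth.Agent.S8473

/-- Let k be an algebraically closed field, T a k-torus, α : T ⟶ 𝔾_m a non-trivial character and P the
semi-direct product T ⋉_α 𝔾_a, given as a k-group P with homomorphisms j_T : T ⟶ P and j_U : 𝔾_a ⟶ P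
such that (t, x) ↦ j_T(t) j_U(x) is an isomorphism of schemes T × 𝔾_a ≅ P and j_T(t) j_U(x) j_T(t)⁻¹
= j_U(α(t) x). Let n : N ⟶ P be a normal subgroup scheme which is étale over k and such that N ∩ T
is trivial (a point of N whose image is in j_T(T) is the unit). Then N is the trivial group. -/
theorem result (K : Type u) [Field K] [IsAlgClosed K]
    (T P N : Over (Spec (CommRingCat.of K))) [GrpObj T] [GrpObj P] [GrpObj N] (hT : Red.IsTorus T)
    (α : T ⟶ Red.Gm (Spec (CommRingCat.of K))) [IsMonHom α] (hα : α ≠ 1)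
    (jT : T ⟶ P) [IsMonHom jT] (jU : Red.Ga (Spec (CommRingCat.of K)) ⟶ P) [IsMonHom jU] (hiso : IsIso ((jT ⊗ₘ jU) ≫ μ[P]))
    (hconj : ∀ (X : Over (Spec (CommRingCat.of K))) (t : X ⟶ T) (x x' : X ⟶ Red.Ga (Spec (CommRingCat.of K))), Red.gaFn x' = Red.gmFn (t ≫ α) * Red.gaFn x →
      (t ≫ jT) * (x ≫ jU) * (t ≫ jT)⁻¹ = x' ≫ jU)
    (n : N ⟶ P) [IsMonHom n] [Mono n] (hn : AlgGrp.IsNormalHom n) (het : Etale N.hom)
    (hNT : ∀ (X : Over (Spec (CommRingCat.of K))) (t : X ⟶ T) (m : X ⟶ N), t ≫ jT = m ≫ n → m = 1) :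
    Red.IsTrivialGrp N := by
  haveI := RedEasy38.connectedSpace_torus hT
  haveI := hiso
  have key : ∀ m : 𝟙_ (Over (Spec (CommRingCat.of K))) ⟶ N, m = 1 := by
    intro m
    let d := m ≫ n ≫ inv ((jT ⊗ₘ jU) ≫ μ[P])
    have cell : ∀ {X : Over (Spec (CommRingCat.of K))} (t : X ⟶ T) (x : X ⟶ Red.Ga _),
        lift t x ≫ (jT ⊗ₘ jU) ≫ μ[P] = (t ≫ jT) * (x ≫ jU) := fun t x => by
      rw [← Category.assoc, lift_map, Hom.mul_def]
    obtain ⟨t₀, x₀, hm⟩ : ∃ t₀ x₀, m ≫ n = (t₀ ≫ jT) * (x₀ ≫ jU) := by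
      refine ⟨d ≫ fst _ _, d ≫ snd _ _, ?_⟩
      rw [← cell, lift_comp_fst_snd]
      simp [d]
    let k := (Scheme.ΓSpecIso (CommRingCat.of K)).commRingCatIsoToRingEquiv
    by_cases hx : k (Red.gaFn x₀) = 0
    · have h1 : x₀ = 1 := GrpSchLib.GaPts.gaFn_injective (k.injective (by
        dsimp only
        rw [GrpSchLib.GaPts.gaFn_one, map_zero]; exact hx))
      refine hNT _ t₀ m ?_
      rw [hm, h1, MonObj.one_comp, _root_.mul_one]
    exfalso
    refine hα ?_
    have hcomm : ∀ {X : Over (Spec (CommRingCat.of K))} (a b : X ⟶ T), a * b = b * a :=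
      fun {X} a b => GrpSchLib.RankOne.torus_mul_comm hT X a b
    obtain ⟨n', hn'⟩ := hn T (𝟙 T ≫ jT) (toUnit T ≫ m)
    let x₁ := toUnit T ≫ x₀
    let x' : T ⟶ Red.Ga _ := GrpSchLib.GaPts.ptOfFn (Red.gmFn (𝟙 T ≫ α) * Red.gaFn x₁)
    have hc := hconj T (𝟙 T) x₁ x' (GrpSchLib.GaPts.gaFn_ptOfFn _)
    have e1 : n' ≫ n = ((toUnit T ≫ t₀) ≫ jT) * (x' ≫ jU) := by
      rw [← hn', ← hc, Category.assoc, hm, MonObj.comp_mul, ← Category.assoc, ← Category.assoc]
      have : (𝟙 T ≫ jT) * ((toUnit T ≫ t₀) ≫ jT) = ((toUnit T ≫ t₀) ≫ jT) * (𝟙 T ≫ jT) := by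
        rw [← MonObj.mul_comp, ← MonObj.mul_comp, hcomm]
      rw [← _root_.mul_assoc, this]
      simp only [_root_.mul_assoc, x₁]
    have e2 : (1 : 𝟙_ _ ⟶ T) ≫ n' ≫ n = m ≫ n := by
      rw [← hn', MonObj.comp_mul, MonObj.comp_mul, GrpObj.comp_inv, Category.id_comp, MonObj.one_comp jT,
        _root_.one_mul, inv_one, _root_.mul_one, ← Category.assoc, ← Category.assoc,
        toUnit_unique ((1 : 𝟙_ _ ⟶ T) ≫ toUnit T) (𝟙 _), Category.id_comp]
    have e3 : n' = toUnit T ≫ m := by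
      rw [RedEasy38.eq_const n' 1]
      congr 1
      rw [← cancel_mono n, Category.assoc]
      exact e2
    rw [e3, Category.assoc, hm, MonObj.comp_mul, ← Category.assoc, ← Category.assoc, mul_right_inj] at e1
    have e4 : x₁ = x' := by
      have hi : Function.Injective fun x : T ⟶ Red.Ga _ => x ≫ jU := fun x y h => by
        have h1 : lift (1 : T ⟶ T) x ≫ (jT ⊗ₘ jU) ≫ μ[P] = lift (1 : T ⟶ T) y ≫ (jT ⊗ₘ jU) ≫ μ[P] := by
          simp only [cell, MonObj.one_comp jT, _root_.one_mul]; exact h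
        have h2 := congrArg (fun z => z ≫ inv ((jT ⊗ₘ jU) ≫ μ[P]) ≫ snd _ _) h1
        simp only [Category.assoc, IsIso.hom_inv_id_assoc] at h2
        simpa only [← Category.assoc, IsIso.hom_inv_id, Category.comp_id, lift_snd] using h2
      exact hi e1
    have e5 := congrArg Red.gaFn e4
    rw [GrpSchLib.GaPts.gaFn_ptOfFn, Category.id_comp] at e5
    have hu : IsUnit (Red.gaFn x₁) := by
      rw [GrpSchLib.GaPts.gaFn_comp]
      refine IsUnit.map _ ?_
      have h := (isUnit_iff_ne_zero.mpr hx).map k.symm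
      rwa [RingEquiv.symm_apply_apply] at h
    refine GmPts.gmFn_injective (hu.mul_right_cancel ?_)
    dsimp only
    rw [GmPts.gmFn_one, _root_.one_mul]
    exact e5.symm
  exact RedEasy38.isTrivialGrp_of_points key

end Groth.Agent.S8473
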