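import Groth.Statements.S8504
import Groth.Agent.ParLib.ParFibre

set_option autoImplicit false
open CategoryTheory MonoidalCategory CartesianMonoidalCategory MonObj GrpObj AlgebraicGeometry
universe u
open Par

namespace Groth.Agent.S8504

/-- (i) ⟹ (iii): Let S be a connected scheme, G a split reductive S-group with splitting D (maximal
torus T, roots indexed by D.idx, root homomorphisms u_a) and R' a set of roots. Suppose there is a
parabolic subgroup P of G containing T such that, for every root a, the root homomorphism u_a
factors through P exactly when a ∈ R'. Then R' is a closed set of roots and every root lies in R' or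
in −R'. (The published statement assumes S non-empty and phrases the hypothesis through the Lie
algebra of P; here S is taken connected and the hypothesis is phrased through the root subgroups
contained in P.) -/
theorem result {S : Scheme.{u}} [ConnectedSpace S]
    {G P : Over S} [GrpObj G] [GrpObj P] (D : Red.SplitRed G) (R' : Set D.idx) (p : P ⟶ G)
    (hP : Red.IsParabolic p) (tP : D.T ⟶ P) (htP : tP ≫ p = D.i)
    (hR' : ∀ a : D.idx, (∃ v : Red.Ga S ⟶ P, v ≫ p = D.u a) ↔ a ∈ R') :
    (∀ a b c : D.idx, a ∈ R' → b ∈ R' → D.P.root a + D.P.root b = D.P.root c → c ∈ R') ∧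
    (∀ a b : D.idx, D.P.root b = -D.P.root a → a ∈ R' ∨ b ∈ R') := by
  classical
  obtain ⟨⟨lam, hlam, hpos⟩, m, hm⟩ := ParLib.exists_lam_weight D p hP tP htP hR'
  have hcov : ∀ a b : D.idx, D.P.root b = -D.P.root a → a ∈ R' ∨ b ∈ R' := fun a b hab => by
    rcases lt_or_gt_of_ne (hlam a) with h | h
    · exact Or.inr (hpos b (by rw [hab, map_neg]; omega))
    · exact Or.inl (hpos a h)
  refine ⟨fun a b c ha hb hab => ?_, hcov⟩
  have hpol : ∀ i, D.P.RootForm (D.P.root i) (D.P.root i) * D.P.coroot' i m =
      2 * D.P.toLinearMap m (D.P.Polarization (D.P.root i)) := fun i => by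
    have := congrArg (D.P.toLinearMap m) (D.P.rootForm_self_smul_coroot i)
    rw [map_smul, map_nsmul, smul_eq_mul, nsmul_eq_mul] at this
    exact this
  have hpositive : ∀ i, 0 < D.P.RootForm (D.P.root i) (D.P.root i) := fun i => by
    rw [RootPairing.rootForm_root_self]
    exact Finset.sum_pos' (fun j _ => mul_self_nonneg _) ⟨i, Finset.mem_univ i, by rw [D.P.pairing_same]; norm_num⟩
  have hadd := congrArg (fun x => 2 * D.P.toLinearMap m (D.P.Polarization x)) hab
  simp only [map_add, mul_add] at hadd
  rw [← hpol, ← hpol, ← hpol] at hadd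
  have h0 : 0 ≤ D.P.coroot' c m := by
    have := add_nonneg (mul_nonneg (hpositive a).le (hm a ha).1) (mul_nonneg (hpositive b).le (hm b hb).1)
    rw [hadd] at this
    exact nonneg_of_mul_nonneg_right this (hpositive c)
  by_contra hc
  have hneg : RedRk29.negIdx D c ∈ R' := (hcov c _ (RedRk29.root_negIdx D c)).resolve_left hc
  have hcor : D.P.coroot' (RedRk29.negIdx D c) m = -D.P.coroot' c m := by
    show D.P.coroot' (D.P.reflectionPerm c c) m = _
    rw [D.P.coroot'_reflectionPerm, LinearMap.comp_apply, LinearEquiv.coe_coe, D.P.reflection_apply, map_sub,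
      map_smul, D.P.root_coroot'_eq_pairing, D.P.pairing_same, smul_eq_mul]
    ring
  obtain ⟨h1, h2⟩ := hm _ hneg
  have hback : RedRk29.negIdx D (RedRk29.negIdx D c) = c := D.P.root.injective (by
    rw [RedRk29.root_negIdx, RedRk29.root_negIdx, neg_neg])
  exact hc (hback ▸ h2 (by omega))

end Groth.Agent.S8504
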