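import Groth.Statements.S8540
import Groth.Agent.PBC50.Compact
import Groth.Agent.EtFound.NoethACC

set_option autoImplicit false
universe u
open CategoryTheory CategoryTheory.Limits AlgebraicGeometry Opposite
open EtPBC

namespace Groth.Agent.S8540

/-- Let X be a Noetherian scheme and F a torsion abelian sheaf on the small etale site of X. Then F is
constructible if and only if F is a Noetherian object of the category of abelian etale sheaves on X
(ascending chain condition on subsheaves). -/
theorem result (X : Scheme.{u}) [IsNoetherian X] (F : EtCoh.Ab X)
    (hF : EtCoh.IsTorsion F) :
    EtPBC.IsConstructible F ↔ IsNoetherianObject F := by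
  refine ⟨fun h => ?_, fun h => PBC50.isConstructible_of_isNoetherianObject F hF⟩
  rw [isNoetherianObject_iff_monotone_chain_condition]
  intro c
  obtain ⟨N, hN⟩ := EtFound.subobject_chain_stabilises h c
  exact ⟨N, fun m hm => (hN m hm).symm⟩

end Groth.Agent.S8540
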