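import Groth.Statements.S8554
import Groth.Agent.NonAbLib.Godement
import Groth.Agent.NonAbLib.PushTorsor
import Mathlib.AlgebraicGeometry.Sites.EtalePoint

set_option autoImplicit false
set_option backward.isDefEq.respectTransparency.types false
universe u
open CategoryTheory CategoryTheory.Limits AlgebraicGeometry Opposite
open NonAbH1

namespace Groth.Agent.S8554

/-- Every sheaf of groups F on the small etale site of a scheme X embeds into a sheaf of groups G with
vanishing first non-abelian cohomology on every etale X-scheme: there are G and a morphism u : F ⟶
G, injective on sections over every object of the site, such that for every etale X-scheme U every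
torsor under the restriction of G to the induced site over U is trivial, i.e. H¹(U, G) is reduced to
its base point. (The published statement adds that the first higher direct images of G along any
morphism of schemes then vanish as pointed sheaves; that clause follows from this one and is not
stated here.) -/
theorem result {X : Scheme.{u}}
    (F : Sheaf X.smallEtaleTopology GrpCat.{u + 1}) :
    ∃ (G : Sheaf X.smallEtaleTopology GrpCat.{u + 1}) (φ : F ⟶ G),
      (∀ U : X.Etaleᵒᵖ, Function.Injective (φ.hom.app U)) ∧
      ∀ (U : X.Etale) (P : NonAbH1.Torsor (G.over U)), P.IsTrivial := by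
  classical
  let Ω : X → Type u := fun x => SeparableClosure (X.residueField x)
  let pts : ∀ x : X, Spec (CommRingCat.of (Ω x)) ⟶ X := fun x =>
    (Scheme.SpecToEquivOfField (Ω x) X).2 ⟨x, CommRingCat.ofHom (algebraMap (X.residueField x) (Ω x))⟩
  refine NonAbLib.exists_mono_torsors_trivial (fun x : X => Scheme.pointSmallEtale (pts x)) (fun V S hS => ?_) F
  refine (NonAbLib.mem_etTop_iff V S).2 fun x => ?_
  have hs₀ : pts (V.hom x) default = V.hom x := by simp [pts, Scheme.SpecToEquivOfField]
  obtain ⟨v, hv⟩ := Scheme.pointSmallEtaleFiberObjToPreimage_surjective (pts (V.hom x)) hs₀ V ⟨x, rfl⟩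
  obtain ⟨W, f, w, hf, hw⟩ := hS (V.hom x) v
  refine ⟨W, f, w.left (default : Spec (CommRingCat.of (Ω (V.hom x)))), hf, ?_⟩
  have h1 : v.left (default : Spec (CommRingCat.of (Ω (V.hom x)))) = x := congrArg Subtype.val hv
  refine Eq.trans ?_ h1
  rw [← hw]
  rfl

end Groth.Agent.S8554
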