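import Groth.Statements.S8562
import Groth.Agent.NonAbLib.PushTorsor

set_option autoImplicit false
set_option backward.isDefEq.respectTransparency.types false
universe u
open CategoryTheory CategoryTheory.Limits AlgebraicGeometry Opposite
open NonAbH1

namespace Groth.Agent.S8562

/-- Exactness of the sequence 0 → H¹(Y, f_*F) → H¹(X, F) → H⁰(Y, R¹f_*F) at its middle term, in terms of
torsors: let f : X ⟶ Y be a morphism of schemes, F a sheaf of groups on the small etale site of X,
f_*F its direct image on Y (sections over an etale Y-scheme V are the sections of F over X ×_Y V),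
and Q an F-torsor. Then Q is the image of a class in H¹(Y, f_*F), in the sense that there are an
f_*F-torsor P on Y and a morphism of sheaves of sets from P to the direct image of the sheaf
underlying Q which is equivariant for the actions of f_*F, if and only if the class of Q is locally
trivial over Y: there is a jointly surjective family of etale Y-schemes Y_i such that Q has a
section over every X ×_Y Y_i. -/
theorem result {X Y : Scheme.{u}} (f : X ⟶ Y)
    [EtCoh.BCCont f] (F : Sheaf X.smallEtaleTopology GrpCat.{u + 1}) (Q : NonAbH1.Torsor F) :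
    (∃ (P : NonAbH1.Torsor (((EtCoh.bc f).sheafPushforwardContinuous GrpCat.{u + 1}
        Y.smallEtaleTopology X.smallEtaleTopology).obj F))
      (φ : P.P ⟶ ((EtCoh.bc f).sheafPushforwardContinuous (Type (u + 1))
        Y.smallEtaleTopology X.smallEtaleTopology).obj Q.P),
      ∀ (V : Y.Etaleᵒᵖ) (g : F.obj.obj (op ((EtCoh.bc f).obj V.unop))) (s : P.P.obj.obj V),
        φ.hom.app V (P.smul g s) = Q.smul g (φ.hom.app V s)) ↔
    ∃ (ι : Type u) (V : ι → Y.Etale), EtCoh.Covers V ∧
      ∀ i, Nonempty (Q.P.obj.obj (op ((EtCoh.bc f).obj (V i)))) := by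
  constructor
  · rintro ⟨P, φ, -⟩
    obtain ⟨S, hS, hne⟩ := P.isTorsor.2 (EtCoh.top Y)
    have h := (NonAbLib.mem_etTop_iff _ S).1 hS
    choose T g t hg ht using h
    refine ⟨Y, T, fun x => ⟨x, t x, ?_⟩, fun x => ⟨φ.hom.app (op (T x)) (hne (g x) (hg x)).some⟩⟩
    have : (g x).left ≫ (EtCoh.top Y).hom = (T x).hom := Over.w (g x).hom
    rw [← this]
    exact ht x
  · rintro ⟨ι, V, hV, hs⟩
    refine ⟨⟨{ P := ((EtCoh.bc f).sheafPushforwardContinuous (Type (u + 1))
                      Y.smallEtaleTopology X.smallEtaleTopology).obj Q.P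
               smul := fun {W} g s => Q.smul g s
               one_smul := fun s => Q.one_smul s
               mul_smul := fun g h s => Q.mul_smul g h s
               map_smul := fun a g s => Q.map_smul ((EtCoh.bc f).map a.unop).op g s },
        fun W => Q.isTorsor.1 (op ((EtCoh.bc f).obj W.unop)),
        fun W => ⟨Sieve.ofObjects V W, NonAbLib.coversTop_of_covers hV W, ?_⟩⟩, 𝟙 _, fun W g s => rfl⟩
    rintro T k ⟨i, ⟨a⟩⟩
    exact ⟨Q.P.obj.map ((EtCoh.bc f).map a).op (hs i).some⟩

end Groth.Agent.S8562
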