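import Groth.Statements.S8615
import Mathlib.AlgebraicGeometry.Morphisms.FiniteType
import Mathlib.RingTheory.Jacobson.Ring
import Groth.Agent.CdLib.Devissage
import Groth.Agent.S0071
import Groth.Agent.S0073

set_option autoImplicit false
set_option linter.style.haveILetI false
set_option backward.isDefEq.respectTransparency false
set_option backward.isDefEq.respectTransparency.types false
universe u
open CategoryTheory CategoryTheory.Limits AlgebraicGeometry
open SGA4h

namespace Groth.Agent.S8615

/-- The residue field of a closed point is algebraically closed. -/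
theorem isAlgClosed_residueField {k : Type u} [Field k] [IsAlgClosed k] {Y : Scheme.{u}} (g : Y ⟶ Spec (CommRingCat.of k))
    [LocallyOfFiniteType g] {y : Y} (hy : IsClosed ({y} : Set Y)) : IsAlgClosed (Y.residueField y) := by
  haveI : JacobsonSpace Y := LocallyOfFiniteType.jacobsonSpace g
  haveI : LocallyOfFiniteType (Y.fromSpecResidueField y) :=
    isClosed_singleton_iff_locallyOfFiniteType.1 hy
  obtain ⟨ψ, hψ⟩ := Spec.map_surjective (Y.fromSpecResidueField y ≫ g)
  have hft : ψ.hom.FiniteType := by
    rw [← HasRingHomProperty.Spec_iff (P := @LocallyOfFiniteType), hψ]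
    infer_instance
  letI := ψ.hom.toAlgebra
  haveI : Algebra.FiniteType k (Y.residueField y) := hft
  haveI : Module.Finite k (Y.residueField y) := finite_of_finite_type_of_isJacobsonRing k _
  exact IsAlgClosed.of_ringEquiv k (Y.residueField y)
    (RingEquiv.ofBijective (algebraMap k (Y.residueField y))
      (IsAlgClosed.algebraMap_bijective_of_isIntegral (k := k)))


/-- Let k be an algebraically closed field and X a connected smooth proper curve over k. For the family,
indexed by the closed points x of X, of direct images i_{x*} ℤ of the constant sheaf ℤ along i_x :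
Spec κ(x) → X, any coproduct (given as a colimit cofan) has vanishing etale cohomology in every
degree q > 0. -/
theorem result {k : Type u} [Field k] [IsAlgClosed k]
    {X : Scheme.{u}} (f : X ⟶ Spec (CommRingCat.of k)) [IsProper f] [SmoothOfRelativeDimension 1 f]
    [ConnectedSpace ↥X]
    (c : Cofan fun x : {x : X // IsClosed ({x} : Set X)} =>
      (EtCoh.push (X.fromSpecResidueField x.1)).obj (EtCoh.const (Spec (X.residueField x.1)) ℤ))
    (hc : IsColimit c) (q : ℕ) (hq : 0 < q) :
    Subsingleton (EtCoh.H X c.pt q) := by
  classical
  haveI : CompactSpace X := QuasiCompact.compactSpace_of_compactSpace f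
  haveI : QuasiSeparatedSpace X := quasiSeparatedSpace_of_quasiSeparated f
  let M : ULift.{u + 1} {x : X // IsClosed ({x} : Set X)} → EtCoh.Ab X := fun x =>
    (EtCoh.push (X.fromSpecResidueField x.down.1)).obj (EtCoh.const (Spec (X.residueField x.down.1)) ℤ)
  suffices h : Subsingleton (EtCoh.H X (∐ M) q) by
    let hc' := hc.whiskerEquivalence (Discrete.equivalence (Equiv.ulift.{u + 1} (α := {x : X // IsClosed ({x} : Set X)})))
    let i : c.pt ≅ ∐ M := hc'.coconePointsIsoOfNatIso (colimit.isColimit (Discrete.functor M))
      (Discrete.natIso fun _ => Iso.refl _)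
    exact @Equiv.subsingleton _ _ (((EtCoh.HF X q).mapIso i).addCommGroupIsoToAddEquiv).toEquiv h
  refine CdLib.Devissage.subsingleton_H_coprod M q fun x' => ?_
  obtain ⟨x⟩ := x'
  haveI : IsClosedImmersion (X.fromSpecResidueField x.1) :=
    IsClosedImmersion.of_isPreimmersion _ (by rw [X.range_fromSpecResidueField]; exact x.2)
  haveI : IsAlgClosed (X.residueField x.1) := isAlgClosed_residueField f x.2
  have h0 : ∀ (i : ℕ) (G : EtCoh.Ab (Spec (X.residueField x.1))), 1 ≤ i →
      Subsingleton (EtCoh.H (Spec (X.residueField x.1)) G i) := by
    intro i G hi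
    haveI : HenselianLocalRing (X.residueField x.1) := Field.henselian _
    haveI : IsSepClosed (IsLocalRing.ResidueField (X.residueField x.1)) := by
      haveI : IsAlgClosed (IsLocalRing.ResidueField (X.residueField x.1)) :=
        IsAlgClosed.of_ringEquiv (X.residueField x.1) _ (RingEquiv.ofBijective (IsLocalRing.residue (X.residueField x.1))
          ⟨(IsLocalRing.residue (X.residueField x.1)).injective, IsLocalRing.residue_surjective⟩)
      infer_instance
    exact S0073.result (X.residueField x.1) G i hi
  refine CdLib.Devissage.subsingleton_H_push _ _ q (h0 q _ hq) fun a b _ => ?_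
  exact CdLib.Devissage.subsingleton_H_of_isZero _ (S0071.result _ _ (b + 1) (by omega)) a

end Groth.Agent.S8615
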