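import Groth.Statements.S8618
import Groth.Agent.SemilinFix.Basic
import Mathlib.FieldTheory.Finite.Basic

set_option autoImplicit false
universe u
open SGA4h

namespace Groth.Agent.S8618

open TensorProduct in
/-- Let k be a finite field with q = p^f elements, F₀ ⊂ k its prime field, K an algebraically closed
extension of k, V a finite-dimensional k-vector space and φ a p-linear endomorphism of V (φ(λx) =
λ^p φ(x)); let F = φ^f, a k-linear endomorphism, F_K its K-linear extension to K ⊗_k V and φ_K the
p-linear extension of φ (φ_K(μ ⊗ v) = μ^p ⊗ φ(v)). Then F_K preserves the F₀-subspace W = Ker(φ_K -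
1) of K ⊗_k V, W is finite-dimensional over F₀, and the trace of F_K on W (an element of F₀) equals
the trace of F on V. -/
theorem result {p : ℕ} [Fact p.Prime] (k : Type u) [Field k] [Fintype k]
    [CharP k p] (f : ℕ) (hq : Fintype.card k = p ^ f) (K : Type u) [Field K] [Algebra k K] [IsAlgClosed K]
    (V : Type u) [AddCommGroup V] [Module k V] [FiniteDimensional k V]
    (φ : V →ₛₗ[frobenius k p] V) (F : V →ₗ[k] V) (hF : ∀ x, F x = (⇑φ)^[f] x)
    (φK : K ⊗[k] V →+ K ⊗[k] V) (hφK : ∀ (μ : K) (v : V), φK (μ ⊗ₜ[k] v) = (μ ^ p) ⊗ₜ[k] φ v)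
    (W : Submodule (↥(⊥ : Subfield k)) (K ⊗[k] V)) (hW : ∀ y, y ∈ W ↔ φK y = y) :
    (∀ y, φK y = y → φK (F.baseChange K y) = F.baseChange K y) ∧
    Module.Finite (↥(⊥ : Subfield k)) ↥W ∧
    ∀ (G : ↥W →ₗ[↥(⊥ : Subfield k)] ↥W), (∀ y : ↥W, (↑(G y) : K ⊗[k] V) = F.baseChange K ↑y) →
      algebraMap k K (algebraMap (↥(⊥ : Subfield k)) k (LinearMap.trace (↥(⊥ : Subfield k)) ↥W G)) =
        algebraMap k K (LinearMap.trace k V F) := by
  have hp : (p : ℕ).Prime := Fact.out
  have hf : f ≠ 0 := by
    rintro rfl
    have := Fintype.one_lt_card (α := k)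
    simp [hq] at this
  have : CharP K p := charP_of_injective_algebraMap (algebraMap k K).injective p
  have hs : ∀ (c : K) (x : K ⊗[k] V), φK (c • x) = c ^ p • φK x := by
    intro c x
    induction x using TensorProduct.induction_on with
    | zero => simp
    | tmul μ v => rw [smul_tmul', hφK, hφK, smul_tmul', smul_eq_mul, smul_eq_mul, mul_pow]
    | add x y hx hy => rw [smul_add, map_add, hx, hy, map_add, smul_add]
  have hcomm : ∀ v, φ (F v) = F (φ v) := fun v => by
    rw [hF, hF, ← Function.iterate_succ_apply' (⇑φ), ← Function.iterate_succ_apply (⇑φ)]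
  have hφF : ∀ y, φK (F.baseChange K y) = F.baseChange K (φK y) := by
    intro y
    induction y using TensorProduct.induction_on with
    | zero => simp
    | tmul μ v => rw [LinearMap.baseChange_tmul, hφK, hφK, LinearMap.baseChange_tmul, hcomm]
    | add x y hx hy => rw [map_add, map_add, hx, hy, map_add, map_add]
  have hFiter : ∀ v : V, ∀ (m : ℕ) (μ : K), φK^[m] (μ ⊗ₜ[k] v) = (μ ^ p ^ m) ⊗ₜ[k] (⇑φ)^[m] v := by
    intro v m μ
    induction m with
    | zero => simp
    | succ m ih => rw [Function.iterate_succ_apply', ih, hφK, Function.iterate_succ_apply', ← pow_mul, ← pow_succ]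
  refine ⟨fun y hy => by rw [hφF, hy], ?_, fun G hG => ?_⟩
  · have hfin : (W : Set (K ⊗[k] V)).Finite := by
      rw [show (W : Set (K ⊗[k] V)) = {y | φK y = y} from Set.ext hW]
      exact (Groth.Agent.LangLib.fixed_finite (k := K) p φK hs).1
    have : Finite W := hfin.to_subtype
    exact Module.Finite.of_finite
  · have : Finite W := by
      have hfin : (W : Set (K ⊗[k] V)).Finite := by
        rw [show (W : Set (K ⊗[k] V)) = {y | φK y = y} from Set.ext hW]
        exact (Groth.Agent.LangLib.fixed_finite (k := K) p φK hs).1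
      exact hfin.to_subtype
    have hroots : ∀ c : K, c ^ p = c → c ∈ Set.range (algebraMap (↥(⊥ : Subfield k)) K) := by
      intro c hc
      have h1 : c ∈ (⊥ : Subfield K) := (Subfield.mem_bot_iff_pow_eq_self K p).2 hc
      rw [← Subfield.map_bot (algebraMap k K)] at h1
      obtain ⟨a, ha, rfl⟩ := Subfield.mem_map.1 h1
      exact ⟨⟨a, ha⟩, rfl⟩
    refine Eq.trans ?_ (LinearMap.trace_baseChange F K)
    rw [← IsScalarTower.algebraMap_apply]
    refine SemilinFix.trace_eq_trace_fixed p φK hs hroots W hW f hf (F.baseChange K)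
      (Set.range fun v : V => (1 : K) ⊗ₜ[k] v) ?_ ?_ G hG
    · rw [eq_top_iff]
      intro y _
      induction y using TensorProduct.induction_on with
      | zero => exact zero_mem _
      | tmul μ v =>
        rw [show μ ⊗ₜ[k] v = μ • ((1 : K) ⊗ₜ[k] v) by rw [smul_tmul', smul_eq_mul, mul_one]]
        exact Submodule.smul_mem _ _ (Submodule.subset_span ⟨v, rfl⟩)
      | add x y hx hy => exact add_mem (hx trivial) (hy trivial)
    · rintro _ ⟨v, rfl⟩ N
      induction N with
      | zero => rfl
      | succ N ih =>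
        rw [Function.iterate_succ_apply', ih, hFiter, hFiter, one_pow, one_pow, LinearMap.baseChange_tmul, hF,
          ← Function.iterate_add_apply, mul_add, mul_one, add_comm]

end Groth.Agent.S8618
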