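import Groth.Statements.S8619
import Groth.Agent.EtFlat51.Basic

set_option autoImplicit false
universe u
open CategoryTheory CategoryTheory.Limits AlgebraicGeometry
open SGA4h
attribute [local instance] HasDerivedCategory.standard

namespace Groth.Agent.S8619

/-- Let X be a Noetherian scheme, Λ a commutative Noetherian ring and K a cochain complex of etale
sheaves of Λ-modules on X whose cohomology sheaves are constructible and vanish in large degrees.
Then there are a cochain complex K', zero in large degrees, whose components are constructible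
sheaves of Λ-modules with flat geometric stalks, and a quasi-isomorphism K' → K. (The published
statement allows a left-Noetherian, possibly non-commutative Λ.) -/
theorem result {Λ : Type (u + 1)} [CommRing Λ]
    [IsNoetherianRing Λ] {X : Scheme.{u}} [IsNoetherian X]
    (K : CochainComplex (EtModW.Mod Λ X) ℤ)
    (hK : ∀ i : ℤ, EtModW.IsConstructible Λ (K.homology i))
    (hb : ∃ m : ℤ, ∀ i : ℤ, m ≤ i → IsZero (K.homology i)) :
    ∃ (K' : CochainComplex (EtModW.Mod Λ X) ℤ) (φ : K' ⟶ K), QuasiIso φ ∧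
      (∃ m : ℤ, ∀ i : ℤ, m ≤ i → IsZero (K'.X i)) ∧
      (∀ i : ℤ, EtModW.IsConstructible Λ (K'.X i)) ∧
      ∀ (i : ℤ) (Ω : Type u) [Field Ω] [IsSepClosed Ω] (ξ : Spec (CommRingCat.of Ω) ⟶ X),
        Module.Flat Λ ((EtModW.stalk Λ ξ).obj (K'.X i)) := by
  obtain ⟨n, hn⟩ := hb
  let Z : CochainComplex (EtModW.Mod Λ X) ℤ := HomologicalComplex.zero
  have hZ : ∀ i, IsZero (Z.X i) := fun i =>
    (HomologicalComplex.eval _ (ComplexShape.up ℤ) i).map_isZero HomologicalComplex.isZero_zero
  have hac : ∀ i : ℤ, n ≤ i → K.ExactAt i := fun i hi =>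
    (HomologicalComplex.exactAt_iff_isZero_homology _ _).2 (hn i hi)
  obtain ⟨E, -, g, -, hE, hq, -, -⟩ := PCohLib.exists_all (fun A B hA hB => EtModLib.isSumExtZero_prod hA hB)
    EtModLib.isQuasiLiftable_sumExtZero (fun m => EtModLib.coneFT_of_constructible hK m) n (0 : Z ⟶ K)
    ⟨⟨0, fun i _ => hZ i⟩, fun i => EtModLib.isSumExtZero_of_isZero (hZ i)⟩
    (PCohLib.exactGE_of_zero _ _ hZ hac)
  obtain ⟨c, hc⟩ := hE.1
  exact ⟨E, g, hq, ⟨c + 1, fun i hi => hc i (by omega)⟩,
    fun i => EtModLib.isConstructible_of_isSumExtZero (hE.2 i),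
    fun i Ω _ _ ξ => EtFlat51.flat_stalk_of_isSumExtZero (hE.2 i) ξ⟩

end Groth.Agent.S8619
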