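import Groth.Statements.S8622
import Groth.Agent.FinSupp51.Coord
import Groth.Agent.PBC50.TorsColim
import Groth.Agent.EtFound.CompactObj
import Groth.Agent.EtFound.NoethConstr
import Groth.Agent.EtFound.PullStalk
import Groth.Agent.EtShriekLib.Supp
import Groth.Agent.CdLib.Supp
import Mathlib.AlgebraicGeometry.Morphisms.QuasiFinite
import Mathlib.Topology.NoetherianSpace

set_option autoImplicit false
universe u
open CategoryTheory CategoryTheory.Limits AlgebraicGeometry
open SGA4h

namespace Groth.Agent.S8622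

set_option backward.isDefEq.respectTransparency.types false
set_option linter.style.haveILetI false

/-- an étale morphism is locally quasi-finite -/
theorem locallyQuasiFinite_etale {U X : Scheme.{u}} (h : U ⟶ X) [AlgebraicGeometry.Etale h] : LocallyQuasiFinite h := by
  rw [HasRingHomProperty.iff_appLE (P := @LocallyQuasiFinite)]
  intro U₀ W₀ e'
  have := HasRingHomProperty.appLE @AlgebraicGeometry.Etale h inferInstance U₀ W₀ e'
  algebraize [(h.appLE U₀.1 W₀.1 e').hom]
  exact (inferInstance : Algebra.QuasiFinite Γ(X, U₀.1) Γ(U, W₀.1))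

/-- closed sets of closed points in Noetherian spaces are finite -/
theorem finite_of_closedPoints {T : Type*} [TopologicalSpace T] [TopologicalSpace.NoetherianSpace T] [QuasiSober T] {Z : Set T}
    (hZ : IsClosed Z) (hpt : ∀ z ∈ Z, IsClosed ({z} : Set T)) : Z.Finite := by
  obtain ⟨S, hSf, hSc, hSi, rfl⟩ := TopologicalSpace.NoetherianSpace.exists_finite_set_isClosed_irreducible hZ
  refine Set.Finite.sUnion hSf fun t ht => ?_
  refine Set.Subsingleton.finite fun a ha b hb => ?_
  by_contra hab
  obtain ⟨g, hg⟩ := QuasiSober.sober (hSi t ht) (hSc t ht)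
  have hg' : closure ({g} : Set T) = t := hg
  have : t = {g} := by
    rw [← hg']
    exact (hpt g ⟨t, ht, hg' ▸ subset_closure rfl⟩).closure_eq
  rw [this] at ha hb
  exact hab (ha.trans hb.symm)


/-- Let k be a field, m a natural number invertible in k, ι a finite index type, e : X → 𝔸^ι_k an
immersion, F an abelian etale sheaf on X killed by m, and η̄ : Spec Ω → 𝔸¹_k (Ω separably closed) a
geometric point over the generic point of the affine line. For i ∈ ι let X_{η̄,i} be the geometric
generic fibre of the i-th coordinate projection X → 𝔸¹_k and F_{η̄,i} the restriction of F to it. If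
every F_{η̄,i} is constructible, then there is a constructible subsheaf F' ⊂ F such that every
section of F/F' over a quasi-compact etale X-scheme has finite support. -/
theorem result {k : Type u} [Field k] (m : ℕ)
    (hm : IsUnit (m : k)) {ι : Type u} [Finite ι] {X : Scheme.{u}}
    (e : X ⟶ 𝔸(ι; Spec (CommRingCat.of k))) [IsImmersion e]
    (F : EtCoh.Ab X) (hFm : EtCoh.KilledBy m F)
    {Ω : Type u} [Field Ω] [IsSepClosed Ω] (η : Spec (CommRingCat.of Ω) ⟶ 𝔸(PUnit.{u + 1}; Spec (CommRingCat.of k)))
    (hη : closure (Set.range η.base) = Set.univ)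
    (hF : ∀ i : ι, EtPBC.IsConstructible
      ((EtCoh.pull (pullback.fst (e ≫ AffineSpace.reindex (fun _ : PUnit.{u + 1} => i) _) η)).obj F)) :
    ∃ (F' : EtCoh.Ab X) (u : F' ⟶ F), Mono u ∧ EtPBC.IsConstructible F' ∧
      ∀ (U : X.Etale) [CompactSpace ↥U.left] (s : EtCoh.sect (cokernel u) U),
        (EtShriek.sectSupp (cokernel u) U s).Finite := by
  classical
  have hm0 : m ≠ 0 := by
    rintro rfl
    simp at hm
  haveI : IsNoetherianRing (CommRingCat.of k) := inferInstanceAs (IsNoetherianRing k)
  haveI : IsNoetherianRing Ω := inferInstance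
  let A := 𝔸(ι; Spec (CommRingCat.of k))
  haveI : LocallyOfFiniteType (A ↘ Spec (CommRingCat.of k)) := inferInstance
  haveI : IsLocallyNoetherian A := LocallyOfFiniteType.isLocallyNoetherian (A ↘ Spec (CommRingCat.of k))
  haveI : IsNoetherian A := { }
  haveI : LocallyOfFiniteType e := inferInstance
  haveI : IsLocallyNoetherian X := LocallyOfFiniteType.isLocallyNoetherian e
  haveI : CompactSpace X := isCompact_univ_iff.1 (by
    have h := TopologicalSpace.NoetherianSpace.isCompact (Set.range e.base : Set A)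
    rw [← Set.image_univ, ← (Scheme.Hom.isEmbedding e).isInducing.isCompact_iff] at h
    exact h)
  haveI : IsNoetherian X := { }
  let p : ∀ i : ι, pullback (e ≫ AffineSpace.reindex (fun _ : PUnit.{u + 1} => i) (Spec (CommRingCat.of k))) η ⟶ X :=
    fun i => pullback.fst _ η
  let G : ι → EtCoh.Ab _ := fun _ => F
  have hFt : EtCoh.IsTorsion F := PBC50.TorsColim.isLTorsion_univ_iff.1
    (EtBCA.isLTorsion_of_nsmul_id_eq_zero ⟨Nat.pos_of_ne_zero hm0, fun q _ _ => Set.mem_univ q⟩ (by
      refine Sheaf.hom_ext (NatTrans.ext (funext fun V => AddCommGrpCat.ext fun s => ?_))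
      exact hFm V.unop s))
  obtain ⟨J, _, _, D, c, hcol, ⟨eF⟩, hD⟩ :=
    PBC50.TorsColim.exists_colimit PBC50.TorsColim.adapted_univ F hFt (Set.subset_univ _)
  let f : ∀ j, D.obj j ⟶ F := fun j => c.ι.app j ≫ eF.hom
  have hst : ∀ i : ι, ∃ j, Epi ((EtCoh.pull (p i)).map (f j)) := fun i => by
    haveI : IsLocallyNoetherian (pullback (e ≫ AffineSpace.reindex (fun _ : PUnit.{u + 1} => i)
        (Spec (CommRingCat.of k))) η) := by
      haveI : LocallyOfFiniteType (AffineSpace.reindex (fun _ : PUnit.{u + 1} => i) (Spec (CommRingCat.of k))) :=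
        haveI : LocallyOfFiniteType (AffineSpace.reindex (fun _ : PUnit.{u + 1} => i) (Spec (CommRingCat.of k)) ≫
            (𝔸(PUnit.{u + 1}; Spec (CommRingCat.of k)) ↘ Spec (CommRingCat.of k))) := by
          rw [AffineSpace.reindex_over]; infer_instance
        locallyOfFiniteType_of_comp _ (𝔸(PUnit.{u + 1}; Spec (CommRingCat.of k)) ↘ Spec (CommRingCat.of k))
      exact LocallyOfFiniteType.isLocallyNoetherian (pullback.snd _ η)
    haveI : QuasiCompact (e ≫ AffineSpace.reindex (fun _ : PUnit.{u + 1} => i) (Spec (CommRingCat.of k))) :=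
      inferInstance
    haveI : CompactSpace ↥(pullback (e ≫ AffineSpace.reindex (fun _ : PUnit.{u + 1} => i)
        (Spec (CommRingCat.of k))) η) := QuasiCompact.compactSpace_of_compactSpace (pullback.snd _ η)
    haveI : PreservesColimitsOfSize.{u + 1, u + 1} (EtCoh.pull (p i)) := (EtCoh.pullPushAdj (p i)).leftAdjoint_preservesColimits
    have hcl := isColimitOfPreserves (EtCoh.pull (p i)) hcol
    obtain ⟨j, g, hg⟩ := (EtFound.isCpt_of_isConstructible (hF i)).exists_stage hcl ((EtCoh.pull (p i)).map eF.inv)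
    refine ⟨j, ?_⟩
    haveI : Epi (g ≫ (EtCoh.pull (p i)).map (f j)) := by
      rw [Functor.map_comp, ← Category.assoc]
      have hg' : g ≫ (EtCoh.pull (p i)).map (c.ι.app j) = (EtCoh.pull (p i)).map eF.inv := hg
      rw [hg', ← Functor.map_comp, eF.inv_hom_id]
      exact inferInstanceAs (Epi ((EtCoh.pull (p i)).map (𝟙 F)))
    exact epi_of_epi g _
  choose jj hjj using hst
  haveI := Fintype.ofFinite ι
  obtain ⟨j₀, hj₀⟩ := IsFiltered.sup_objs_exists (Finset.univ.image jj)
  refine ⟨_, (imageSubobject (f j₀)).arrow, inferInstance,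
    EtFound.isConstructible_of_epi (hD j₀).1 (factorThruImageSubobject (f j₀)), fun U _ s => ?_⟩
  let u' := (imageSubobject (f j₀)).arrow
  have hz : ∀ i, IsZero ((EtCoh.pull (p i)).obj (cokernel u')) := fun i => by
    obtain ⟨a⟩ := hj₀ (Finset.mem_image_of_mem _ (Finset.mem_univ i))
    have hw : f (jj i) = D.map a ≫ factorThruImageSubobject (f j₀) ≫ u' := by
      rw [imageSubobject_arrow_comp]
      show c.ι.app (jj i) ≫ eF.hom = D.map a ≫ c.ι.app j₀ ≫ eF.hom
      rw [← Category.assoc, c.w]
    have h0 : f (jj i) ≫ cokernel.π u' = 0 := by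
      rw [hw, Category.assoc, Category.assoc, cokernel.condition, comp_zero, comp_zero]
    haveI := hjj i
    have h1 : (EtCoh.pull (p i)).map (cokernel.π u') = 0 := by
      rw [← cancel_epi ((EtCoh.pull (p i)).map (f (jj i))), ← Functor.map_comp, h0, comp_zero, Functor.map_zero]
    exact IsZero.of_epi_eq_zero _ h1
  haveI : AlgebraicGeometry.Etale (U.hom : U.left ⟶ X) := U.prop
  haveI : IsLocallyNoetherian U.left := @LocallyOfFiniteType.isLocallyNoetherian U.left X U.hom inferInstance inferInstance
  haveI : IsNoetherian U.left := { }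
  refine finite_of_closedPoints (T := U.left) (EtShriekLib.isClosed_sectSupp U s) fun y hy => ?_
  haveI : AlgebraicGeometry.Etale (U.hom : U.left ⟶ X) := U.prop
  haveI := locallyQuasiFinite_etale (U.hom : U.left ⟶ X)
  let x : X := (U.hom : U.left ⟶ X).base y
  have hx : IsClosed ({x} : Set X) := by
    by_contra hx
    have hex : ¬ IsClosed ({e.base x} : Set A) := fun h => hx (by
      have he : ({x} : Set X) = e.base ⁻¹' {e.base x} := by
        ext z
        exact ⟨fun h' => congrArg e.base h', fun h' => (Scheme.Hom.isEmbedding e).injective h'⟩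
      rw [he]
      exact h.preimage e.continuous)
    let d : Spec (CommRingCat.of Ω) := default
    have hq : closure {η.base d} = Set.univ := by
      rw [← hη]
      congr 1
      ext z
      exact ⟨fun h => ⟨d, h.symm⟩, fun ⟨w, hw⟩ => hw.symm.trans (congrArg η.base (Subsingleton.elim w d))⟩
    obtain ⟨i, hi⟩ := FinSupp51.exists_generic_coord (η.base d) hq (e.base x) hex
    obtain ⟨z, hz1, -⟩ := Scheme.Pullback.exists_preimage_pullback
      (f := e ≫ AffineSpace.reindex (fun _ : PUnit.{u + 1} => i) (Spec (CommRingCat.of k))) (g := η) x d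
      ((Scheme.Hom.comp_apply _ _ _).trans hi)
    obtain ⟨L, _, _, ζ, hζ⟩ := EtFound.exists_geomPoint z
    have hξ : (ζ ≫ p i).base (default : Spec (CommRingCat.of L)) = x := by
      rw [Scheme.Hom.comp_apply, hζ]
      exact hz1
    obtain ⟨v, hv⟩ := Scheme.pointSmallEtaleFiberObjToPreimage_surjective (ζ ≫ p i) hξ U ⟨y, rfl⟩
    refine (EtShriekLib.mem_sectSupp_iff_germ' s (ζ ≫ p i) v (x := y) fun w => ?_).1 hy ?_
    · rw [Subsingleton.elim w default]
      exact congrArg Subtype.val hv
    · haveI : Subsingleton ↑((Scheme.pointSmallEtale (ζ ≫ p i)).presheafFiber.obj (cokernel u').obj : AddCommGrpCat.{u + 1}) := AddCommGrpCat.subsingleton_of_isZero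
        (((EtCoh.stalk ζ).map_isZero (hz i)).of_iso ((EtFound.stalkPullIso (p i) ζ).app (cokernel u')).symm)
      exact Subsingleton.elim _ _
  have hd : _root_.IsDiscrete ((U.hom : U.left ⟶ X).base ⁻¹' {x}) := (U.hom : U.left ⟶ X).isDiscrete_preimage_singleton x
  refine closure_subset_iff_isClosed.1 fun y' hy' => ?_
  have hy'x : (U.hom : U.left ⟶ X).base y' = x := by
    have := map_mem_closure (U.hom : U.left ⟶ X).continuous hy' (t := {x}) fun w hw => congrArg _ hw
    rwa [hx.closure_eq] at this
  haveI := hd.to_subtype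
  let a : ↥((U.hom : U.left ⟶ X).base ⁻¹' {x}) := ⟨y, rfl⟩
  let b : ↥((U.hom : U.left ⟶ X).base ⁻¹' {x}) := ⟨y', hy'x⟩
  have hs : a ⤳ b := Topology.IsInducing.subtypeVal.specializes_iff.1 (specializes_iff_mem_closure.2 hy')
  exact Set.mem_singleton_iff.2 (congrArg Subtype.val hs.eq).symm

end Groth.Agent.S8622
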