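import Groth.Statements.S8624
import Groth.Agent.TameExt51.Extend
import Groth.Agent.TameExt51.Norm
-- import your own Groth.Agent.* helpers here

set_option autoImplicit false
universe u
open CategoryTheory CategoryTheory.Limits AlgebraicGeometry
open SGA4h

set_option linter.style.haveILetI false
set_option backward.isDefEq.respectTransparency false
set_option backward.isDefEq.respectTransparency.types false

namespace Groth.Agent.S8624

open Groth.Agent.Pi1Ext Groth.Agent.TameExt51 in
set_option maxHeartbeats 800000 in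
-- assembly
/-- The extension for any discrete valuation ring containing an `n`-th root of the uniformizer. -/
theorem aux
    (V K : Type u) [CommRing V] [IsDomain V] [IsDiscreteValuationRing V] [Field K] [Algebra V K]
    [IsFractionRing V K] (ϖ : V) (hϖ : Irreducible ϖ) (n : ℕ) (hn : IsUnit (n : V))
    (V₁ : Type u) [CommRing V₁] [IsDomain V₁] [IsDiscreteValuationRing V₁] [Algebra V V₁] [Module.Flat V V₁]
    (t : V₁) (ht : Irreducible t) (htn : t ^ n = algebraMap V V₁ ϖ)
    {X : Scheme.{u}} (f : X ⟶ Spec (CommRingCat.of V)) [Smooth f] [IsIntegral X]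
    (Xt : FEt.Cat (pullback f (Spec.map (CommRingCat.ofHom (algebraMap V K))))) [ConnectedSpace ↥Xt.left]
    (hgal : ∀ (Ω : Type u) [Field Ω] [IsAlgClosed Ω]
      (ξ : Spec (CommRingCat.of Ω) ⟶ pullback f (Spec.map (CommRingCat.ofHom (algebraMap V K))))
      (s s' : FEt.fiberObj ξ Xt), ∃ σ : Aut Xt, (FEt.fiber ξ).map σ.hom s = s')
    (hdeg : Nat.card (Aut Xt) = n) :
    ∃ Y₁ : FEt.Cat (pullback f (Spec.map (CommRingCat.ofHom (algebraMap V V₁)))),
      Nonempty ((FEt.restrict (pullback.snd
          (pullback.fst f (Spec.map (CommRingCat.ofHom (algebraMap V K))))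
          (pullback.fst f (Spec.map (CommRingCat.ofHom (algebraMap V V₁)))))).obj Y₁ ≅
        (FEt.restrict (pullback.fst
          (pullback.fst f (Spec.map (CommRingCat.ofHom (algebraMap V K))))
          (pullback.fst f (Spec.map (CommRingCat.ofHom (algebraMap V V₁)))))).obj Xt) := by
  let a := Spec.map (CommRingCat.ofHom (algebraMap V V₁))
  let jη := pullback.fst f (Spec.map (CommRingCat.ofHom (algebraMap V K)))
  let π₁ := pullback.fst f a
  let g₁ := pullback.snd f a
  haveI := isOpenImmersion_generic V K ϖ hϖ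
  haveI : Smooth g₁ := MorphismProperty.pullback_snd f a inferInstance
  haveI : Flat a := by
    rw [HasRingHomProperty.Spec_iff (P := @Flat)]
    exact RingHom.flat_algebraMap_iff.2 inferInstance
  haveI : Flat π₁ := MorphismProperty.pullback_fst f a inferInstance
  have hn0 : n ≠ 0 := by rintro rfl; simp at hn
  let τ := gl g₁ t
  let X₁ := pullback f a
  let U := X₁.basicOpen τ
  let q := pullback.snd jη π₁
  have hr : Set.range q.base = Set.range U.ι.base := by
    rw [Scheme.Pullback.range_snd, range_generic V K ϖ hϖ f, Scheme.Opens.range_ι, basicOpen_gl]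
    show ((π₁ ≫ f) ⁻¹ᵁ PrimeSpectrum.basicOpen ϖ : Set X₁) = _
    rw [pullback.condition, Scheme.Hom.comp_preimage, show U = g₁ ⁻¹ᵁ PrimeSpectrum.basicOpen t from basicOpen_gl g₁ t]
    congr 2
    apply TopologicalSpace.Opens.ext
    ext p
    show algebraMap V V₁ ϖ ∉ p.asIdeal ↔ t ∉ p.asIdeal
    rw [← htn, p.2.pow_mem_iff_mem n (Nat.pos_of_ne_zero hn0)]
  let κ := IsOpenImmersion.isoOfRangeEq q U.ι hr
  let pη := κ.inv ≫ pullback.fst jη π₁
  have hκ : κ.inv ≫ q = U.ι := IsOpenImmersion.isoOfRangeEq_inv_fac q U.ι hr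
  have hpη : pη ≫ jη = U.ι ≫ π₁ := by
    rw [← hκ, Category.assoc, Category.assoc]
    exact congrArg (κ.inv ≫ ·) pullback.condition
  let T := (FEt.restrict pη).obj Xt
  haveI : IsNoetherianRing V₁ := inferInstance
  haveI : IsLocallyNoetherian X₁ := LocallyOfFiniteType.isLocallyNoetherian g₁
  obtain ⟨Y₁, ⟨eY⟩⟩ := exists_extend_basicOpen τ T (fun E h _ B hB => gl_affine (h ≫ g₁) t ht hB) (by
    intro W
    haveI : CompactSpace (W.1 : Scheme.{u}) := isCompact_iff_compactSpace.1 W.2.isCompact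
    haveI : IsNoetherian (W.1 : Scheme.{u}) := {}
    let r := W.1.ι ∣_ U
    obtain ⟨E, ⟨e⟩⟩ := exists_extend hϖ ht htn hn Xt hgal hdeg (W.1.ι ≫ π₁) (W.1.ι ≫ g₁)
      (by rw [Category.assoc, Category.assoc]; exact congrArg (W.1.ι ≫ ·) pullback.condition)
      (W.1.ι ⁻¹ᵁ U) (by rw [gl_comp]; exact Scheme.preimage_basicOpen_top W.1.ι τ) (r ≫ pη)
      (by rw [Category.assoc, hpη, ← Category.assoc, morphismRestrict_ι, Category.assoc])
    let e' : (FEt.restrict (W.1.ι ⁻¹ᵁ U).ι).obj E ≅ (FEt.restrict r).obj T :=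
      e ≪≫ Spread.restrictComp r pη (r ≫ pη) rfl Xt
    let th : T.left ⟶ (U : Scheme.{u}) := T.hom
    let eh : E.left ⟶ (W.1 : Scheme.{u}) := E.hom
    have sq := (IsPullback.of_hasPullback th r).paste_vert (isPullback_morphismRestrict W.1.ι U).flip.flip
    let l : pullback eh (W.1.ι ⁻¹ᵁ U).ι ≅ pullback th r := Spread.leftIso e'
    let j := (sq.isoPullback.inv ≫ l.inv) ≫ pullback.fst eh (W.1.ι ⁻¹ᵁ U).ι
    have hl : l.inv ≫ pullback.snd eh (W.1.ι ⁻¹ᵁ U).ι = pullback.snd th r := by
      rw [Iso.inv_comp_eq]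
      exact (Spread.leftIso_w e').symm
    refine ⟨E, j, inferInstance, ?_, ?_⟩
    · rw [Scheme.Hom.comp_base, TopCat.coe_comp, Set.range_comp,
        Set.range_eq_univ.2 (Scheme.Hom.surjective (sq.isoPullback.inv ≫ l.inv)), Set.image_univ,
        Scheme.Pullback.range_fst, Scheme.Opens.range_ι]
      rfl
    · show j ≫ eh = pullback.snd (th ≫ U.ι) W.1.ι
      rw [Category.assoc, pullback.condition, Category.assoc, reassoc_of% hl, Iso.inv_comp_eq,
        sq.isoPullback_hom_snd])
  refine ⟨Y₁, ⟨?_⟩⟩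
  exact Spread.restrictComp κ.hom U.ι q (IsOpenImmersion.isoOfRangeEq_hom_fac q U.ι hr).symm Y₁ ≪≫
    (FEt.restrict κ.hom).mapIso eY ≪≫
    (Spread.restrictComp κ.hom pη (pullback.fst jη π₁) (κ.hom_inv_id_assoc _).symm Xt).symm


open Polynomial in
/-- Let V be a discrete valuation ring with uniformizer ϖ and fraction field K, S = Spec V, f : X → S
smooth of relative dimension 1 with X irreducible, X_η = X ×_S Spec K, and X̃ → X_η a connected
finite etale Galois cover (automorphisms transitive on geometric fibres) of degree n = |Aut| with n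
invertible in V. Let V₁ = V[t]/(tⁿ - ϖ), S₁ = Spec V₁, X₁ = X ×_S S₁ and X_{1η} = X_η ×_X X₁. Then
the pullback of X̃ to X_{1η} extends to a finite etale cover of X₁: there is a finite etale Y₁ → X₁
whose restriction to X_{1η} is isomorphic to it. -/
theorem result
    (V K : Type u) [CommRing V] [IsDomain V] [IsDiscreteValuationRing V] [Field K] [Algebra V K]
    [IsFractionRing V K] (ϖ : V) (hϖ : Irreducible ϖ) (n : ℕ) (hn : IsUnit (n : V))
    {X : Scheme.{u}} (f : X ⟶ Spec (CommRingCat.of V)) [SmoothOfRelativeDimension 1 f] [IrreducibleSpace ↥X]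
    (Xt : FEt.Cat (pullback f (Spec.map (CommRingCat.ofHom (algebraMap V K))))) [ConnectedSpace ↥Xt.left]
    (hgal : ∀ (Ω : Type u) [Field Ω] [IsAlgClosed Ω]
      (ξ : Spec (CommRingCat.of Ω) ⟶ pullback f (Spec.map (CommRingCat.ofHom (algebraMap V K))))
      (s s' : FEt.fiberObj ξ Xt), ∃ σ : Aut Xt, (FEt.fiber ξ).map σ.hom s = s')
    (hdeg : Nat.card (Aut Xt) = n) :
    ∃ Y₁ : FEt.Cat (pullback f (Spec.map (CommRingCat.ofHom
        (algebraMap V (AdjoinRoot (Polynomial.X ^ n - Polynomial.C ϖ)))))),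
      Nonempty ((FEt.restrict (pullback.snd
          (pullback.fst f (Spec.map (CommRingCat.ofHom (algebraMap V K))))
          (pullback.fst f (Spec.map (CommRingCat.ofHom
            (algebraMap V (AdjoinRoot (Polynomial.X ^ n - Polynomial.C ϖ)))))))).obj Y₁ ≅
        (FEt.restrict (pullback.fst
          (pullback.fst f (Spec.map (CommRingCat.ofHom (algebraMap V K))))
          (pullback.fst f (Spec.map (CommRingCat.ofHom
            (algebraMap V (AdjoinRoot (Polynomial.X ^ n - Polynomial.C ϖ)))))))).obj Xt) := by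
  have hn1 : 1 ≤ n := by
    rcases Nat.eq_zero_or_pos n with rfl | h
    · simp at hn
    · exact h
  obtain ⟨_, _, ht⟩ := TameExt51.isDiscreteValuationRing_rootRing V ϖ hϖ n hn1
  obtain ⟨_, _⟩ := TameExt51.free_rootRing V ϖ n hn1
  haveI : Smooth f := SmoothOfRelativeDimension.smooth 1 f
  haveI := TameExt51.isIntegral_of_smooth f
  exact aux V K ϖ hϖ n hn (AdjoinRoot (Polynomial.X ^ n - Polynomial.C ϖ))
    (AdjoinRoot.root (Polynomial.X ^ n - Polynomial.C ϖ)) ht (TameExt51.root_pow V ϖ n) f Xt hgal hdeg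

end Groth.Agent.S8624
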