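import Groth.Statements.S8693
import Groth.Agent.KRRLib.AmpleNilp
import Groth.Agent.KRRLib.NilAlg

set_option autoImplicit false
universe v u
open CategoryTheory CategoryTheory.Limits AlgebraicGeometry
attribute [local instance] HasDerivedCategory.standard
open KRR

namespace Groth.Agent.S8693

/-- Let X be a connected quasi-compact scheme with an ample invertible O_X-module L, (K, P, φ) a model
of the λ-ring K(X) of finite locally free modules with its positive structure (augmentation ε =
rank), and E_1, …, E_k finite locally free O_X-modules. Let R ⊆ K(X) be the subring generated by the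
elements λ^j[E_i] for all i and j, which is the sub-λ-ring generated by the classes [E_i]. Then the
ideal R ∩ Ker ε of R is nilpotent: there is n such that every product of n elements of R of
augmentation zero vanishes; and R is finitely generated as an abelian group. (The published
statement allows X disconnected, with R a module of finite type over R ∩ H^0(X, ℤ), and also asserts
that the λ-ring filtration of R is discrete; this row takes X connected, as the model requires, and
states the nilpotency and the finite generation over the integers.) -/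
theorem result (X : Scheme.{u}) [ConnectedSpace ↥X] (L : X.Modules) (hL : CohB1.IsAmple L)
    (K : Type v) [CommRing K] [LambdaRing.LambdaOps K] (P : LambdaRing.PosStructure K) (φ : SGA6.Kvb X →+ K)
    (hK : KRR.IsModel X K P φ)
    (k : ℕ) (E : Fin k → X.Modules) (hE : ∀ i : Fin k, FlatMod.IsFinLocFree (E i)) :
    (∃ n : ℕ, ∀ f : Fin n → K,
      (∀ t : Fin n, f t ∈ Subring.closure {y : K | ∃ (i : Fin k) (j : ℕ), y = LambdaRing.LambdaOps.lam j (φ (KRR.cl X (E i)))} ∧ P.aug (f t) = 0) →
        ∏ t, f t = 0) ∧
    (Subring.closure {y : K | ∃ (i : Fin k) (j : ℕ), y = LambdaRing.LambdaOps.lam j (φ (KRR.cl X (E i)))}).toAddSubgroup.FG := by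
  classical
  let e : Fin k → K := fun i => φ (KRR.cl X (E i))
  have hfin : {y : K | ∃ (i : Fin k) (j : ℕ), y = LambdaRing.LambdaOps.lam j (e i)}.Finite := by
    haveI : Nonempty X := inferInstance
    refine (Set.Finite.union (Set.finite_range fun p : Σ i : Fin k, Fin ((P.aug (e i)).toNat + 1) =>
      LambdaRing.LambdaOps.lam (p.2 : ℕ) (e p.1)) (Set.finite_singleton 0)).subset ?_
    rintro y ⟨i, j, rfl⟩
    by_cases hj : j ≤ (P.aug (e i)).toNat
    · exact Or.inl ⟨⟨i, ⟨j, Nat.lt_succ_of_le hj⟩⟩, rfl⟩
    right
    show LambdaRing.LambdaOps.lam j (e i) = 0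
    obtain ⟨d, hd⟩ := Groth.Agent.KRRLib.exists_rank (hE i)
    have haug := hK.aug_cl d (E i) hd
    rcases Nat.eq_zero_or_pos d with rfl | hpos
    · exact Groth.Agent.KRRLib.lam_cl_rank_zero hK hd j (by omega)
    · exact P.lam_eq_zero _ ((hK.mem_pos_iff _).2 ⟨d, E i, hpos, hd, rfl⟩) j (by
        show P.aug (φ (KRR.cl X (E i))) < _
        rw [haug]
        have h1 : ¬ j ≤ (P.aug (φ (KRR.cl X (E i)))).toNat := hj
        rw [haug] at h1
        omega)
  exact Groth.Agent.KRRLib.closure_fg_and_nilpotent P.aug
    (fun x hx => Groth.Agent.KRRLib.isNilpotent_of_aug hK hL x hx) _ hfin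

end Groth.Agent.S8693
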