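import Groth.Statements.S8705
import Mathlib.LinearAlgebra.Finsupp.LinearCombination
import Mathlib.LinearAlgebra.Quotient.Basic
import Mathlib.Tactic.Abel

set_option autoImplicit false
universe u
open SGA7

namespace Groth.Agent.S8705

/-- The extension of `P` by `M` given by a symmetric normalisable cocycle `c`. -/
@[ext]
structure CExt {P M : Type u} [AddCommGroup P] [AddCommGroup M] (c : P → P → M) : Type u where
  m : M
  p : P

/-- In the case of the punctual topos (ordinary abelian groups): let P be an abelian group and consider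
the complex of free abelian groups Z[P × P × P] ⊕ Z[P × P] → Z[P × P] → Z[P], augmented to P by [p]
↦ p, with d₀[p, q] = [p + q] − [p] − [q], with d₁ on the first summand given by [p, q, r] ↦ [p + q,
r] − [p, q + r] + [p, q] − [q, r] and on the second summand by [p, q] ↦ [p, q] − [q, p]. Then the
augmentation is surjective with kernel the image of d₀ (so H₀ is P), and the kernel of d₀ is the sum
of the images of the two components of d₁ (so H₁ vanishes). (The published statement is for abelian
sheaves on an arbitrary topos; this row is its case of a one-point space.) -/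
theorem result (P : Type u) [AddCommGroup P] :
    letI ε : (P →₀ ℤ) →ₗ[ℤ] P := Finsupp.linearCombination ℤ (fun p : P => p)
    letI d₀ : (P × P →₀ ℤ) →ₗ[ℤ] (P →₀ ℤ) := Finsupp.linearCombination ℤ
      (fun pq : P × P => Finsupp.single (pq.1 + pq.2) 1 - Finsupp.single pq.1 1 - Finsupp.single pq.2 1)
    letI d₁ : (P × P × P →₀ ℤ) →ₗ[ℤ] (P × P →₀ ℤ) := Finsupp.linearCombination ℤ
      (fun t : P × P × P => Finsupp.single (t.1 + t.2.1, t.2.2) 1 - Finsupp.single (t.1, t.2.1 + t.2.2) 1
        + Finsupp.single (t.1, t.2.1) 1 - Finsupp.single (t.2.1, t.2.2) 1)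
    letI d₁' : (P × P →₀ ℤ) →ₗ[ℤ] (P × P →₀ ℤ) := Finsupp.linearCombination ℤ
      (fun pq : P × P => Finsupp.single pq 1 - Finsupp.single (pq.2, pq.1) 1)
    Function.Surjective ε ∧ LinearMap.ker ε = LinearMap.range d₀ ∧
      LinearMap.ker d₀ = LinearMap.range d₁ ⊔ LinearMap.range d₁' := by
  let ε : (P →₀ ℤ) →ₗ[ℤ] P := Finsupp.linearCombination ℤ (fun p : P => p)
  let d₀ : (P × P →₀ ℤ) →ₗ[ℤ] (P →₀ ℤ) := Finsupp.linearCombination ℤ
    (fun pq : P × P => Finsupp.single (pq.1 + pq.2) 1 - Finsupp.single pq.1 1 - Finsupp.single pq.2 1)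
  let d₁ : (P × P × P →₀ ℤ) →ₗ[ℤ] (P × P →₀ ℤ) := Finsupp.linearCombination ℤ
    (fun t : P × P × P => Finsupp.single (t.1 + t.2.1, t.2.2) 1 - Finsupp.single (t.1, t.2.1 + t.2.2) 1
      + Finsupp.single (t.1, t.2.1) 1 - Finsupp.single (t.2.1, t.2.2) 1)
  let d₁' : (P × P →₀ ℤ) →ₗ[ℤ] (P × P →₀ ℤ) := Finsupp.linearCombination ℤ
    (fun pq : P × P => Finsupp.single pq 1 - Finsupp.single (pq.2, pq.1) 1)
  show Function.Surjective ε ∧ LinearMap.ker ε = LinearMap.range d₀ ∧
      LinearMap.ker d₀ = LinearMap.range d₁ ⊔ LinearMap.range d₁'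
  have hε : ∀ p, ε (Finsupp.single p 1) = p := fun p => by simp [ε]
  have hd₀ : ∀ p q, d₀ (Finsupp.single (p, q) 1) =
      Finsupp.single (p + q) 1 - Finsupp.single p 1 - Finsupp.single q 1 := fun p q => by simp [d₀]
  refine ⟨fun p => ⟨_, hε p⟩, ?_, ?_⟩
  · have hεd : ε.comp d₀ = 0 := by
      apply Finsupp.lhom_ext'
      intro pq
      apply LinearMap.ext_ring
      obtain ⟨p, q⟩ := pq
      simp only [LinearMap.comp_apply, Finsupp.lsingle_apply, hd₀, map_sub, hε, LinearMap.zero_apply]
      abel
    refine le_antisymm (fun x hx => ?_) ?_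
    · let s : P →+ (P →₀ ℤ) ⧸ LinearMap.range d₀ :=
        AddMonoidHom.mk' (fun p => Submodule.Quotient.mk (Finsupp.single p 1)) fun p q => by
          rw [← Submodule.Quotient.mk_add, Submodule.Quotient.eq]
          exact ⟨Finsupp.single (p, q) 1, by rw [hd₀]; abel⟩
      have hs : s.toIntLinearMap.comp ε = (LinearMap.range d₀).mkQ := by
        apply Finsupp.lhom_ext'
        intro p
        apply LinearMap.ext_ring
        simp [hε, s]
      rw [LinearMap.mem_ker] at hx
      have h2 := congr($hs x)
      rw [LinearMap.comp_apply, hx, map_zero] at h2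
      exact (Submodule.Quotient.mk_eq_zero _).1 h2.symm
    · exact LinearMap.range_le_ker_iff.2 hεd
  · refine le_antisymm (fun x hx => ?_) (sup_le ?_ ?_)
    · let N := LinearMap.range d₁ ⊔ LinearMap.range d₁'
      let c : P → P → (P × P →₀ ℤ) ⧸ N := fun p q => Submodule.Quotient.mk (Finsupp.single (p, q) 1)
      have hsym : ∀ p q, c p q = c q p := fun p q => by
        simp only [c]; rw [Submodule.Quotient.eq]
        exact Submodule.mem_sup_right ⟨Finsupp.single (p, q) 1, by simp [d₁']⟩
      have hass : ∀ p q r, c (p + q) r + c p q = c p (q + r) + c q r := fun p q r => by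
        simp only [c]; rw [← Submodule.Quotient.mk_add, ← Submodule.Quotient.mk_add, Submodule.Quotient.eq]
        exact Submodule.mem_sup_left ⟨Finsupp.single (p, q, r) 1, by simp [d₁]; abel⟩
      have h0 : ∀ p, c 0 p = c 0 0 := fun p => by
        have := hass 0 0 p
        rw [zero_add, zero_add] at this
        exact add_left_cancel (a := c 0 p) (by rw [← this])
      let g : AddCommGroup (CExt c) :=
        { add := fun a b => ⟨a.m + b.m + c a.p b.p, a.p + b.p⟩
          zero := ⟨-c 0 0, 0⟩
          neg := fun a => ⟨-a.m - c a.p (-a.p) - c 0 0, -a.p⟩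
          add_assoc := fun a b d => CExt.ext (by
              show a.m + b.m + c a.p b.p + d.m + c (a.p + b.p) d.p
                = a.m + (b.m + d.m + c b.p d.p) + c a.p (b.p + d.p)
              calc a.m + b.m + c a.p b.p + d.m + c (a.p + b.p) d.p
                  = a.m + b.m + d.m + (c (a.p + b.p) d.p + c a.p b.p) := by abel
                _ = a.m + b.m + d.m + (c a.p (b.p + d.p) + c b.p d.p) := by rw [hass]
                _ = _ := by abel)
            (add_assoc a.p b.p d.p)
          zero_add := fun a => CExt.ext (by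
              show -c 0 0 + a.m + c 0 a.p = a.m
              rw [h0 a.p]; abel) (zero_add a.p)
          add_zero := fun a => CExt.ext (by
              show a.m + -c 0 0 + c a.p 0 = a.m
              rw [hsym a.p 0, h0 a.p]; abel) (add_zero a.p)
          add_comm := fun a b => CExt.ext (by
              show a.m + b.m + c a.p b.p = b.m + a.m + c b.p a.p
              rw [hsym]; abel) (add_comm a.p b.p)
          neg_add_cancel := fun a => CExt.ext (by
              show -a.m - c a.p (-a.p) - c 0 0 + a.m + c (-a.p) a.p = -c 0 0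
              rw [hsym (-a.p)]; abel) (neg_add_cancel a.p)
          nsmul := @nsmulRec _ ⟨⟨-c 0 0, 0⟩⟩ ⟨fun a b => ⟨a.m + b.m + c a.p b.p, a.p + b.p⟩⟩
          zsmul := @zsmulRec _ ⟨⟨-c 0 0, 0⟩⟩ ⟨fun a b => ⟨a.m + b.m + c a.p b.p, a.p + b.p⟩⟩
            ⟨fun a => ⟨-a.m - c a.p (-a.p) - c 0 0, -a.p⟩⟩
            (@nsmulRec _ ⟨⟨-c 0 0, 0⟩⟩ ⟨fun a b => ⟨a.m + b.m + c a.p b.p, a.p + b.p⟩⟩) }
      let _ := g
      let j : (P × P →₀ ℤ) ⧸ N →+ CExt c := AddMonoidHom.mk' (fun m => ⟨m - c 0 0, 0⟩) fun a b => CExt.ext (by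
        show a + b - c 0 0 = a - c 0 0 + (b - c 0 0) + c 0 0
        abel) (zero_add 0).symm
      have hj : Function.Injective j := fun a b h => sub_left_inj.1 (congrArg CExt.m h)
      let h : (P →₀ ℤ) →ₗ[ℤ] CExt c := Finsupp.linearCombination ℤ (fun p : P => (⟨0, p⟩ : CExt c))
      have key : h.comp d₀ = -(j.toIntLinearMap.comp N.mkQ) := by
        apply Finsupp.lhom_ext'
        intro pq
        apply LinearMap.ext_ring
        obtain ⟨p, q⟩ := pq
        simp only [LinearMap.comp_apply, Finsupp.lsingle_apply, hd₀, map_sub, LinearMap.neg_apply]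
        have hh : ∀ r : P, h (Finsupp.single r 1) = ⟨0, r⟩ := fun r => by simp [h]
        rw [hh, hh, hh, sub_sub, sub_eq_iff_eq_add, eq_neg_add_iff_add_eq]
        refine CExt.ext ?_ (zero_add _)
        show c p q - c 0 0 + 0 + c 0 (p + q) = 0 + 0 + c p q
        rw [h0 (p + q)]; abel
      rw [LinearMap.mem_ker] at hx
      have h2 := congr($key x)
      rw [LinearMap.comp_apply, hx, map_zero, LinearMap.neg_apply, eq_comm, neg_eq_zero] at h2
      exact (Submodule.Quotient.mk_eq_zero _).1 (hj (h2.trans j.map_zero.symm))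
    · rw [LinearMap.range_le_ker_iff]
      apply Finsupp.lhom_ext'
      intro t
      apply LinearMap.ext_ring
      obtain ⟨p, q, r⟩ := t
      simp [d₀, d₁, add_assoc]
      abel
    · rw [LinearMap.range_le_ker_iff]
      apply Finsupp.lhom_ext'
      intro t
      apply LinearMap.ext_ring
      obtain ⟨p, q⟩ := t
      simp [d₀, d₁', add_comm p q]
      abel

end Groth.Agent.S8705
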