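import Groth.Statements.S8708
import Groth.Agent.SGA7X.ExtConst
import Groth.Agent.SGA7X.GroupUnibranch
import Groth.Agent.GrpSchLib.AdjointQuot
import Groth.Agent.S0348
import Groth.Agent.S0349

set_option autoImplicit false
universe u
open CategoryTheory CategoryTheory.Limits MonoidalCategory CartesianMonoidalCategory MonObj AlgebraicGeometry
open SGA7

namespace Groth.Agent.S8708

/-- Let k be a field, Z a group without non-trivial elements of finite order, P a connected k-group
scheme locally of finite type, G the constant k-group scheme Z_k (through the isomorphism eG), and u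
: G → E, v : E → P homomorphisms of k-group schemes forming a sequence 1 → G → E → P → 1 which is
exact for the fppf topology. Then the extension is rigid and trivial: every automorphism of the
k-group scheme E compatible with u and v is the identity, and there is a homomorphism of k-group
schemes s : P → E with s followed by v equal to the identity of P. (For P not connected the
published statement reduces extensions of P to extensions of its group of connected components; that
part is not stated.) -/
theorem result (k : Type u) [Field k]
    (Z : Type u) [Group Z] (hZ : ∀ z : Z, IsOfFinOrder z → z = 1)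
    (P E G : Over (Spec (CommRingCat.of k))) [GrpObj P] [GrpObj E] [GrpObj G]
    [LocallyOfFiniteType P.hom] [ConnectedSpace ↥P.left]
    (eG : G ≅ TwC.const (Spec (CommRingCat.of k)) Z) (hG : TwC.IsConstGrp Z G eG)
    (u : G ⟶ E) (v : E ⟶ P) (hex : NonAbH1.IsExactSeq Scheme.fppfPrecoverage u v) :
    (∀ φ : E ≅ E, IsMonHom φ.hom → u ≫ φ.hom = u → φ.hom ≫ v = v → φ.hom = 𝟙 E) ∧
      ∃ s : P ⟶ E, IsMonHom s ∧ s ≫ v = 𝟙 P := by
  have : IrreducibleSpace P.left := Groth.Agent.S0348.result k P
  have : CompactSpace P.left := Groth.Agent.S0349.result k P
  have : QuasiCompact P.hom := HasAffineProperty.iff_of_isAffine.2 ‹CompactSpace P.left›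
  have : GeometricallyIrreducible P.hom := Groth.Agent.GrpSchLib.Adjoint.geometricallyIrreducible
  have : UniversallyOpen P.hom := inferInstance
  have : IrreducibleSpace (P ⊗ P).left := inferInstanceAs (IrreducibleSpace ↥(pullback P.hom P.hom))
  have : Nonempty ↥(Spec (CommRingCat.of k)) := ⟨IsLocalRing.closedPoint k⟩
  refine ⟨fun φ hφ hu hv => ?_, Groth.Agent.SGA7X.ExtConst.exists_splitting eG hG hZ hex
    (Groth.Agent.SGA7X.isGeomUnibranch_stalk_group P)⟩
  exact Groth.Agent.SGA7X.ExtConst.rigid_of_connected eG hG hex φ.hom hu hv

end Groth.Agent.S8708
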