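import Groth.Statements.S8709
import Groth.Agent.SGA7X.UnitsProduct
import Groth.Prelude.Def_GmPts
-- import your own Groth.Agent.* helpers here

set_option autoImplicit false
universe u
open CategoryTheory CategoryTheory.Limits MonoidalCategory CartesianMonoidalCategory MonObj AlgebraicGeometry
open SGA7

namespace Groth.Agent.S8709

/-- Let k be a field and X, Y two k-schemes of finite type which are geometrically reduced and
geometrically connected, with rational points e_X and e_Y. Then every k-morphism u from X ×_k Y to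
the multiplicative group whose restrictions to X × e_Y and to e_X × Y are trivial is trivial.
(Morphisms to the multiplicative group over k form a group; trivial means equal to its unit
element.) -/
theorem result (k : Type u) [Field k]
    (X Y : Over (Spec (CommRingCat.of k)))
    [LocallyOfFiniteType X.hom] [QuasiCompact X.hom] [GeometricallyReduced X.hom] [GeometricallyConnected X.hom]
    [LocallyOfFiniteType Y.hom] [QuasiCompact Y.hom] [GeometricallyReduced Y.hom] [GeometricallyConnected Y.hom]
    (eX : 𝟙_ (Over (Spec (CommRingCat.of k))) ⟶ X) (eY : 𝟙_ (Over (Spec (CommRingCat.of k))) ⟶ Y)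
    (u : X ⊗ Y ⟶ Red.Gm (Spec (CommRingCat.of k)))
    (huX : lift (𝟙 X) (toUnit X ≫ eY) ≫ u = 1) (huY : lift (toUnit Y ≫ eX) (𝟙 Y) ≫ u = 1) :
    u = 1 := by
  let K := AlgebraicClosure k
  let σ : Spec (CommRingCat.of K) ⟶ Spec (CommRingCat.of k) := Spec.map (CommRingCat.ofHom (algebraMap k K))
  let X' : Over (Spec (CommRingCat.of K)) := (Over.pullback σ).obj X
  let Y' : Over (Spec (CommRingCat.of K)) := (Over.pullback σ).obj Y
  let pX : X'.left ⟶ X.left := pullback.fst X.hom σ
  let pY : Y'.left ⟶ Y.left := pullback.fst Y.hom σ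
  have hpX : pX ≫ X.hom = X'.hom ≫ σ := pullback.condition
  have hpY : pY ≫ Y.hom = Y'.hom ≫ σ := pullback.condition
  have hfs : (fst X' Y').left ≫ X'.hom = (snd X' Y').left ≫ Y'.hom :=
    (Over.w (fst X' Y')).trans (Over.w (snd X' Y')).symm
  let π : (X' ⊗ Y').left ⟶ (X ⊗ Y).left :=
    pullback.lift ((fst X' Y').left ≫ pX) ((snd X' Y').left ≫ pY) (by
      rw [Category.assoc, Category.assoc, hpX, hpY, ← Category.assoc, ← Category.assoc, hfs])
  have hπ1 : π ≫ (fst X Y).left = (fst X' Y').left ≫ pX := pullback.lift_fst _ _ _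
  have hπ2 : π ≫ (snd X Y).left = (snd X' Y').left ≫ pY := pullback.lift_snd _ _ _
  -- instances over the algebraic closure
  have : LocallyOfFiniteType X'.hom := inferInstanceAs (LocallyOfFiniteType (pullback.snd X.hom σ))
  have : LocallyOfFiniteType Y'.hom := inferInstanceAs (LocallyOfFiniteType (pullback.snd Y.hom σ))
  have : QuasiCompact X'.hom := inferInstanceAs (QuasiCompact (pullback.snd X.hom σ))
  have : QuasiCompact Y'.hom := inferInstanceAs (QuasiCompact (pullback.snd Y.hom σ))
  have : GeometricallyReduced X'.hom := inferInstanceAs (GeometricallyReduced (pullback.snd X.hom σ))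
  have : GeometricallyReduced Y'.hom := inferInstanceAs (GeometricallyReduced (pullback.snd Y.hom σ))
  have : ConnectedSpace X'.left := GeometricallyConnected.geometrically_connectedSpace (f := X.hom) σ _ _ (.of_hasPullback _ _)
  have : ConnectedSpace Y'.left := GeometricallyConnected.geometrically_connectedSpace (f := Y.hom) σ _ _ (.of_hasPullback _ _)
  have hred : ∀ (L : Type u) [Field L] (A B : Over (Spec (CommRingCat.of L))) [LocallyOfFiniteType A.hom]
      [GeometricallyReduced A.hom] [GeometricallyReduced B.hom], IsReduced (A ⊗ B).left := by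
    intro L _ A B _ _ _
    have : IsLocallyNoetherian A.left := LocallyOfFiniteType.isLocallyNoetherian A.hom
    have : IsReduced A.left := GeometricallyReduced.isReduced_of_flat_of_isLocallyNoetherian A.hom
    exact inferInstanceAs (IsReduced (pullback A.hom B.hom))
  have := hred K X' Y'
  have := hred k X Y
  -- the rational points
  let eX' : 𝟙_ (Over (Spec (CommRingCat.of K))) ⟶ X' := Over.homMk (pullback.lift (σ ≫ eX.left) (𝟙 _)
    (by rw [Category.assoc]; erw [Over.w eX]; exact (Category.comp_id _).trans (Category.id_comp _).symm))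
    (pullback.lift_snd _ _ _)
  let eY' : 𝟙_ (Over (Spec (CommRingCat.of K))) ⟶ Y' := Over.homMk (pullback.lift (σ ≫ eY.left) (𝟙 _)
    (by rw [Category.assoc]; erw [Over.w eY]; exact (Category.comp_id _).trans (Category.id_comp _).symm))
    (pullback.lift_snd _ _ _)
  -- the unit
  let f : GrpSchLib.Kunneth.Fn (X ⊗ Y) := Red.gmFn u
  let f' : GrpSchLib.Kunneth.Fn (X' ⊗ Y') := π.appTop f
  have hf' : IsUnit f' := (GmPts.isUnit_gmFn u).map π.appTop.hom
  have hax : (lift (𝟙 X') (toUnit X' ≫ eY')).left ≫ π = pX ≫ (lift (𝟙 X) (toUnit X ≫ eY)).left := by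
    apply pullback.hom_ext
    · show (_ ≫ π) ≫ (fst X Y).left = (_ ≫ _) ≫ (fst X Y).left
      rw [Category.assoc, hπ1, Category.assoc, ← Category.assoc, ← Over.comp_left, ← Over.comp_left, lift_fst,
        lift_fst, Over.id_left, Over.id_left, Category.id_comp, Category.comp_id]
    · show (_ ≫ π) ≫ (snd X Y).left = (_ ≫ _) ≫ (snd X Y).left
      rw [Category.assoc, hπ2, Category.assoc, ← Category.assoc, ← Over.comp_left, ← Over.comp_left, lift_snd,
        lift_snd, Over.comp_left, Over.comp_left, Category.assoc]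
      show X'.hom ≫ pullback.lift _ _ _ ≫ pullback.fst _ _ = pX ≫ X.hom ≫ eY.left
      rw [pullback.lift_fst, ← Category.assoc, ← Category.assoc, hpX]
  have hay : (lift (toUnit Y' ≫ eX') (𝟙 Y')).left ≫ π = pY ≫ (lift (toUnit Y ≫ eX) (𝟙 Y)).left := by
    apply pullback.hom_ext
    · show (_ ≫ π) ≫ (fst X Y).left = (_ ≫ _) ≫ (fst X Y).left
      rw [Category.assoc, hπ1, Category.assoc, ← Category.assoc, ← Over.comp_left, ← Over.comp_left, lift_fst,
        lift_fst, Over.comp_left, Over.comp_left, Category.assoc]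
      show Y'.hom ≫ pullback.lift _ _ _ ≫ pullback.fst _ _ = pY ≫ Y.hom ≫ eX.left
      rw [pullback.lift_fst, ← Category.assoc, ← Category.assoc, hpY]
    · show (_ ≫ π) ≫ (snd X Y).left = (_ ≫ _) ≫ (snd X Y).left
      rw [Category.assoc, hπ2, Category.assoc, ← Category.assoc, ← Over.comp_left, ← Over.comp_left, lift_snd,
        lift_snd, Over.id_left, Over.id_left, Category.id_comp, Category.comp_id]
  have hone : f' = 1 := by
    refine SGA7X.UnitsProduct.eq_one eX' eY' hf' ?_ ?_
    · show (lift (𝟙 X') (toUnit X' ≫ eY')).left.appTop (π.appTop f) = 1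
      rw [← CommRingCat.comp_apply, ← Scheme.Hom.comp_appTop, hax, Scheme.Hom.comp_appTop, CommRingCat.comp_apply,
        ← GmPts.gmFn_comp, huX, GmPts.gmFn_one, map_one]
    · show (lift (toUnit Y' ≫ eX') (𝟙 Y')).left.appTop (π.appTop f) = 1
      rw [← CommRingCat.comp_apply, ← Scheme.Hom.comp_appTop, hay, Scheme.Hom.comp_appTop, CommRingCat.comp_apply,
        ← GmPts.gmFn_comp, huY, GmPts.gmFn_one, map_one]
  -- descent
  have hsurj : Surjective π := by
    refine ⟨fun z => ?_⟩
    let P := (X ⊗ Y).left
    let L := AlgebraicClosure (P.residueField z)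
    let q : Spec (CommRingCat.of L) ⟶ P :=
      Spec.map (CommRingCat.ofHom (algebraMap (P.residueField z) L)) ≫ P.fromSpecResidueField z
    obtain ⟨c, hc⟩ := Spec.map_surjective (q ≫ (X ⊗ Y).hom)
    let : Algebra k L := c.hom.toAlgebra
    let j : K →ₐ[k] L := IsAlgClosed.lift
    let r : Spec (CommRingCat.of L) ⟶ Spec (CommRingCat.of K) := Spec.map (CommRingCat.ofHom j.toRingHom)
    have hr : r ≫ σ = q ≫ (X ⊗ Y).hom := by
      rw [← hc, ← Spec.map_comp]
      congr 1
      ext a
      exact j.commutes a
    let a : Over.mk r ⟶ X' := Over.homMk (pullback.lift (q ≫ (fst X Y).left) r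
      (by rw [Category.assoc, Over.w (fst X Y), hr])) (pullback.lift_snd _ _ _)
    let b : Over.mk r ⟶ Y' := Over.homMk (pullback.lift (q ≫ (snd X Y).left) r
      (by rw [Category.assoc, Over.w (snd X Y), hr])) (pullback.lift_snd _ _ _)
    refine ⟨(lift a b).left.base (IsLocalRing.closedPoint L), ?_⟩
    have h : (lift a b).left ≫ π = q := by
      apply pullback.hom_ext
      · show (_ ≫ π) ≫ (fst X Y).left = q ≫ (fst X Y).left
        rw [Category.assoc, hπ1, ← Category.assoc, ← Over.comp_left, lift_fst]
        exact pullback.lift_fst _ _ _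
      · show (_ ≫ π) ≫ (snd X Y).left = q ≫ (snd X Y).left
        rw [Category.assoc, hπ2, ← Category.assoc, ← Over.comp_left, lift_snd]
        exact pullback.lift_fst _ _ _
    rw [← Scheme.Hom.comp_apply, h, Scheme.Hom.comp_apply]
    exact P.fromSpecResidueField_apply z _
  apply GmPts.gmFn_injective
  show f = Red.gmFn 1
  rw [GmPts.gmFn_one, ← sub_eq_zero]
  apply (AlgebraicGeometry.basicOpen_eq_bot_iff (f - 1)).1
  by_contra hne
  obtain ⟨z, hz⟩ := (TopologicalSpace.Opens.ne_bot_iff_nonempty _).1 hne
  obtain ⟨w, rfl⟩ := hsurj.surj z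
  have h : w ∈ π ⁻¹ᵁ (X ⊗ Y).left.basicOpen (f - 1) := hz
  rw [Scheme.preimage_basicOpen_top, map_sub, map_one, show π.appTop f = 1 from hone, sub_self,
    Scheme.basicOpen_zero] at h
  exact h

end Groth.Agent.S8709
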