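import Groth.Statements.S8710
import Groth.Agent.SGA7X.TorLES

set_option autoImplicit false
universe u
open CategoryTheory CategoryTheory.Limits Groth.Agent.SGA7X
open SGA7

namespace Groth.Agent.S8710

/-- Let f : B' → B be a surjective map of R-algebras with B' flat over R, g : C → B a map of R-algebras,
P = B' ×_B C their fibre product (the equalizer of f ∘ pr₁ and g ∘ pr₂ in B' × C), S an R-algebra
and n a natural number. If Tor_i^R(C, S) = 0 for 0 < i < n and Tor_i^R(B, S) = 0 for 0 < i ≤ n, then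
Tor_i^R(P, S) = 0 for 0 < i < n. Here Tor_i^R(M, S) is the i-th left derived functor of M ⊗_R − on
R-modules, evaluated at S. (The published statement asks the vanishing for B only in degrees 0 < i <
n; the published proof and the corollary following it use it in degrees 0 < i ≤ n, which this row
assumes.) -/
theorem result (R B' B C S : Type u) [CommRing R] [CommRing B'] [CommRing B]
    [CommRing C] [CommRing S] [Algebra R B'] [Algebra R B] [Algebra R C] [Algebra R S]
    (f : B' →ₐ[R] B) (hf : Function.Surjective f) (g : C →ₐ[R] B) [Module.Flat R B'] (n : ℕ)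
    (hC : ∀ i : ℕ, 0 < i → i < n →
      IsZero (((Tor (ModuleCat.{u} R) i).obj (ModuleCat.of R C)).obj (ModuleCat.of R S)))
    (hB : ∀ i : ℕ, 0 < i → i ≤ n →
      IsZero (((Tor (ModuleCat.{u} R) i).obj (ModuleCat.of R B)).obj (ModuleCat.of R S))) :
    letI P := AlgHom.equalizer (f.comp (AlgHom.fst R B' C)) (g.comp (AlgHom.snd R B' C))
    ∀ i : ℕ, 0 < i → i < n →
      IsZero (((Tor (ModuleCat.{u} R) i).obj (ModuleCat.of R ↥P)).obj (ModuleCat.of R S)) := by
  intro i hi hin
  let D : (B' × C) →ₗ[R] B :=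
    f.toLinearMap.comp (LinearMap.fst R B' C) - g.toLinearMap.comp (LinearMap.snd R B' C)
  let P := AlgHom.equalizer (f.comp (AlgHom.fst R B' C)) (g.comp (AlgHom.snd R B' C))
  let ι : P →ₗ[R] (B' × C) := P.val.toLinearMap
  have hιD : ModuleCat.ofHom ι ≫ ModuleCat.ofHom D = 0 := by
    ext x
    exact sub_eq_zero.2 x.2
  let S₁ : ShortComplex (ModuleCat.{u} R) := ShortComplex.mk (ModuleCat.ofHom ι) (ModuleCat.ofHom D) hιD
  have hS₁ : S₁.ShortExact :=
    { exact := (ShortComplex.ShortExact.moduleCat_exact_iff_function_exact _).2 fun x =>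
        ⟨fun hx => ⟨⟨x, sub_eq_zero.1 hx⟩, rfl⟩, by rintro ⟨y, rfl⟩; exact sub_eq_zero.2 y.2⟩
      mono_f := (ModuleCat.mono_iff_injective _).2 Subtype.val_injective
      epi_g := (ModuleCat.epi_iff_surjective _).2 fun b => by
        obtain ⟨b', hb⟩ := hf b
        exact ⟨(b', 0), by
          show f b' - g 0 = b
          rw [map_zero, sub_zero, hb]⟩ }
  let S₂ : ShortComplex (ModuleCat.{u} R) := ShortComplex.mk (ModuleCat.ofHom (LinearMap.inr R B' C))
    (ModuleCat.ofHom (LinearMap.fst R B' C)) (by ext x; rfl)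
  have hS₂ : S₂.ShortExact :=
    { exact := (ShortComplex.ShortExact.moduleCat_exact_iff_function_exact _).2 fun x =>
        ⟨fun hx => ⟨x.2, Prod.ext (Eq.symm hx) rfl⟩, by rintro ⟨y, rfl⟩; rfl⟩
      mono_f := (ModuleCat.mono_iff_injective _).2 LinearMap.inr_injective
      epi_g := (ModuleCat.epi_iff_surjective _).2 LinearMap.fst_surjective }
  obtain ⟨j, rfl⟩ : ∃ j, i = j + 1 := ⟨i - 1, by omega⟩
  haveI : Module.Flat R (ModuleCat.of R B') := ‹Module.Flat R B'›
  have hmid := (isZero_tor_vanishing S₂ hS₂ (ModuleCat.of R S) (j + 1)).2 (hC _ hi hin)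
    (Groth.Agent.TorBridge.isZero_tor_succ_of_flat (ModuleCat.of R B') _ j)
  exact (isZero_tor_vanishing S₁ hS₁ (ModuleCat.of R S) (j + 1)).1 (hB _ (Nat.succ_pos _) hin) hmid

end Groth.Agent.S8710
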