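import Groth.Statements.S8712
import Groth.Agent.SGA7X.TwistedExt

set_option autoImplicit false
universe u
open CategoryTheory CategoryTheory.Limits MonoidalCategory CartesianMonoidalCategory MonObj AlgebraicGeometry
open SGA7

namespace Groth.Agent.S8712

/-- The constant scheme on a lifted index type. -/
noncomputable def constULift (U : Scheme.{u}) (Z : Type) : TwC.const U Z ≅ TwC.const U (ULift.{u} Z) where
  hom := TwC.constMap (S := U) (ULift.up : Z → ULift.{u} Z)
  inv := TwC.constMap (S := U) (ULift.down : ULift.{u} Z → Z)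
  hom_inv_id := by
    apply Over.OverMorphism.ext
    exact Sigma.hom_ext _ _ fun m => by simp [TwC.constMap]
  inv_hom_id := by
    apply Over.OverMorphism.ext
    exact Sigma.hom_ext _ _ fun m => by simp [TwC.constMap]

theorem pt_constULift (U : Scheme.{u}) (Z : Type) (m : ULift.{u} Z) :
    TwC.pt U (ULift.{u} Z) m ≫ (constULift U Z).inv = TwC.pt U Z m.down := by
  apply Over.OverMorphism.ext
  simp [TwC.pt, constULift, TwC.constMap]

/-- The vanishing of Ext¹(P, M) proved there: let S be a scheme, P a commutative S-group scheme which is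
smooth and of finite presentation over S (smooth, quasi-compact, quasi-separated) with geometrically
connected fibres, M a commutative S-group scheme which is a twisted constant group with fibres Z^r:
after a flat surjective base change S' → S which is an fpqc covering, Zariski-locally on S', M
becomes the constant group scheme of Z^r for some r (allowed to vary), and u : M → E, v : E → P
homomorphisms of commutative S-group schemes forming a sequence 1 → M → E → P → 1 exact for the fppf
topology. Then every homomorphism P → M is trivial, and the extension E of P by M is trivial: there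
is a homomorphism s : P → E with s followed by v equal to the identity of P. -/
theorem result (S : Scheme.{u})
    (P E M : Over S) [GrpObj P] [GrpObj E] [GrpObj M] [IsCommMonObj P] [IsCommMonObj E] [IsCommMonObj M]
    [Smooth P.hom] [QuasiCompact P.hom] [QuasiSeparated P.hom] [GeometricallyConnected P.hom]
    (hM : TwC.Locally S TwC.Topology.fpqc (fun S' f =>
      ∃ (r : ℕ) (e : Red.bc f M ≅ TwC.const S' (Multiplicative (Fin r → ℤ))),
        TwC.IsConstGrp (Multiplicative (Fin r → ℤ)) (Red.bc f M) e))
    (u : M ⟶ E) (v : E ⟶ P) (hex : NonAbH1.IsExactSeq Scheme.fppfPrecoverage u v) :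
    (∀ φ : P ⟶ M, IsMonHom φ → φ = 1) ∧ ∃ s : P ⟶ E, IsMonHom s ∧ s ≫ v = 𝟙 P := by
  have hEt : Etale M.hom := Groth.Agent.SGA7X.TwistedExt.etale_of_locally (by
    obtain ⟨S', f, h1, h2, h3, h4⟩ := hM
    exact ⟨S', f, h1, h2, h3, fun s' => by
      obtain ⟨U, hU, r, e, -⟩ := h4 s'
      exact ⟨U, hU, _, ⟨e ≪≫ constULift _ _⟩⟩⟩)
  refine ⟨fun φ _ => Groth.Agent.SGA7X.TwistedExt.hom_eq_one φ,
    Groth.Agent.SGA7X.TwistedExt.exists_splitting hex fun s => ?_⟩
  obtain ⟨S', f, -, hsurj, -, h4⟩ := hM
  obtain ⟨s', rfl⟩ := hsurj.surj s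
  obtain ⟨U, hU, r, e, he⟩ := h4 s'
  refine ⟨U, U.ι ≫ f, ULift.{u} (Multiplicative (Fin r → ℤ)), inferInstance, e ≪≫ constULift _ _,
    fun z hz => ?_, fun m n => ?_, ⟨s', hU⟩, rfl⟩
  · by_contra hne
    have h1 : z.down ≠ 1 := fun h => hne (ULift.ext _ _ h)
    exact not_isOfFinOrder_of_isMulTorsionFree h1 ((MulEquiv.ulift (α := Multiplicative (Fin r → ℤ))).toMonoidHom.isOfFinOrder hz)
  · simp only [Iso.trans_inv, ← Category.assoc, pt_constULift]
    exact he m.down n.down

end Groth.Agent.S8712
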