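import Groth.Statements.S8718
import Groth.Agent.SGA7X.FppfExact
-- import your own Groth.Agent.* helpers here

set_option autoImplicit false
universe u
open CategoryTheory CategoryTheory.Limits MonoidalCategory CartesianMonoidalCategory MonObj AlgebraicGeometry
open SGA7

namespace Groth.Agent.S8718

/-- For group schemes over a base scheme S (the representable case on the fppf site): let P and G be
S-group schemes with G commutative, and u : G → E, v : E → P homomorphisms of S-group schemes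
forming a sequence 1 → G → E → P → 1 exact for the fppf topology. Suppose every morphism of
S-schemes P ×_S G → G whose restrictions to P × e_G and to e_P × G are trivial is trivial. Then u(G)
is central in E: for all points g of G and x of E with values in any S-scheme, u(g) x = x u(g). If
moreover P is commutative and every morphism of S-schemes P ×_S P → G trivial on P × e_P and on e_P
× P is trivial, then E is commutative. (The published statement is for sheaves of groups on an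
arbitrary topos; this row is its case of representable sheaves on the fppf site of S. Morphisms to G
form a group; trivial means equal to its unit.) -/
theorem result (S : Scheme.{u})
    (P G E : Over S) [GrpObj P] [GrpObj G] [GrpObj E] [IsCommMonObj G]
    (u : G ⟶ E) (v : E ⟶ P) (hex : NonAbH1.IsExactSeq Scheme.fppfPrecoverage u v)
    (hPG : ∀ f : P ⊗ G ⟶ G, lift (𝟙 P) (toUnit P ≫ η[G]) ≫ f = 1 → lift (toUnit G ≫ η[P]) (𝟙 G) ≫ f = 1 → f = 1) :
    (∀ (T : Over S) (g : T ⟶ G) (x : T ⟶ E), (g ≫ u) * x = x * (g ≫ u)) ∧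
      (IsCommMonObj P →
        (∀ f : P ⊗ P ⟶ G, lift (𝟙 P) (toUnit P ≫ η[P]) ≫ f = 1 → lift (toUnit P ≫ η[P]) (𝟙 P) ≫ f = 1 → f = 1) →
          IsCommMonObj E) := by
  have := hex.1
  have := hex.2.1
  have hη : ∀ (A B : Over S) [GrpObj B], toUnit A ≫ η[B] = (1 : A ⟶ B) := fun A B _ => (Hom.one_def).symm
  -- the action of `E` on `G`
  obtain ⟨D, hD⟩ := SGA7X.FppfExact.exists_ker hex
    (y := fst E G * (snd E G ≫ u) * (fst E G)⁻¹ * (snd E G ≫ u)⁻¹) (by
      simp only [MonObj.mul_comp, GrpObj.inv_comp, SGA7X.FppfExact.comp_u_v hex]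
      simp)
  have hDpt : ∀ (T : Over S) (x : T ⟶ E) (g : T ⟶ G),
      (lift x g ≫ D) ≫ u = x * (g ≫ u) * x⁻¹ * (g ≫ u)⁻¹ := by
    intro T x g
    rw [Category.assoc, hD]
    simp only [MonObj.comp_mul, GrpObj.comp_inv, ← Category.assoc, lift_fst, lift_snd]
  obtain ⟨c, hc⟩ := ((SGA7X.FppfExact.locEpi hex).whiskerRight G).desc D (fun T p q hpq => by
    refine SGA7X.FppfExact.mono hex ?_
    have hp : p = lift (p ≫ fst E G) (p ≫ snd E G) := by ext1 <;> simp
    have hq : q = lift (q ≫ fst E G) (q ≫ snd E G) := by ext1 <;> simp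
    have e1 : (p ≫ fst E G) ≫ v = (q ≫ fst E G) ≫ v := by
      simpa using congrArg (· ≫ fst P G) hpq
    have e2 : p ≫ snd E G = q ≫ snd E G := by
      simpa using congrArg (· ≫ snd P G) hpq
    obtain ⟨g, hg⟩ := SGA7X.FppfExact.exists_mul_right hex e1
    set a := p ≫ fst E G
    set b := p ≫ snd E G
    have hcomm : (g ≫ u) * (b ≫ u) = (b ≫ u) * (g ≫ u) := by
      rw [← MonObj.mul_comp, ← MonObj.mul_comp, mul_comm g b]
    rw [hp, hq, hg, ← e2, hDpt, hDpt]
    calc _ = a * ((b ≫ u) * (g ≫ u) * (g ≫ u)⁻¹) * a⁻¹ * (b ≫ u)⁻¹ := by group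
      _ = _ := by rw [← hcomm]; group)
  have hax1 : lift (𝟙 P) (toUnit P ≫ η[G]) ≫ c = 1 := by
    refine (SGA7X.FppfExact.locEpi hex).cancel (SGA7X.FppfExact.mono hex ?_)
    have h2 : v ≫ lift (𝟙 P) (toUnit P ≫ η[G]) = lift (𝟙 E) 1 ≫ (v ▷ G) := by
      rw [lift_whiskerRight, Category.id_comp, comp_lift, Category.comp_id, hη, MonObj.comp_one]
    rw [← Category.assoc v, h2, Category.assoc (lift _ _), hc, hDpt, MonObj.one_comp, MonObj.comp_one, MonObj.one_comp]
    simp
  have hax2 : lift (toUnit G ≫ η[P]) (𝟙 G) ≫ c = 1 := by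
    refine SGA7X.FppfExact.mono hex ?_
    have h2 : lift (toUnit G ≫ η[P]) (𝟙 G) = lift 1 (𝟙 G) ≫ (v ▷ G) := by
      rw [lift_whiskerRight, MonObj.one_comp, hη]
    rw [h2, Category.assoc (lift _ _), hc, hDpt, MonObj.one_comp]
    simp
  have hcen : ∀ (T : Over S) (g : T ⟶ G) (x : T ⟶ E), (g ≫ u) * x = x * (g ≫ u) := by
    intro T g x
    have h := hDpt T x g
    rw [← hc, hPG c hax1 hax2, MonObj.comp_one, MonObj.comp_one, MonObj.one_comp] at h
    exact (mul_inv_eq_iff_eq_mul.1 (mul_inv_eq_one.1 h.symm)).symm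
  refine ⟨hcen, fun hP hPP => ?_⟩
  have := hP
  -- the commutator
  obtain ⟨D', hD'⟩ := SGA7X.FppfExact.exists_ker hex
    (y := fst E E * snd E E * (fst E E)⁻¹ * (snd E E)⁻¹) (by
      simp only [MonObj.mul_comp, GrpObj.inv_comp]
      rw [mul_comm (fst E E ≫ v) (snd E E ≫ v)]
      simp)
  have hDpt' : ∀ (T : Over S) (a b : T ⟶ E),
      (lift a b ≫ D') ≫ u = a * b * a⁻¹ * b⁻¹ := by
    intro T a b
    rw [Category.assoc, hD']
    simp only [MonObj.comp_mul, GrpObj.comp_inv, lift_fst, lift_snd]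
  have hvv := (SGA7X.FppfExact.locEpi hex).tensorHom (SGA7X.FppfExact.locEpi hex)
  obtain ⟨c', hc'⟩ := hvv.desc D' (fun T p q hpq => by
    refine SGA7X.FppfExact.mono hex ?_
    have hp : p = lift (p ≫ fst E E) (p ≫ snd E E) := by ext1 <;> simp
    have hq : q = lift (q ≫ fst E E) (q ≫ snd E E) := by ext1 <;> simp
    have e1 : (p ≫ fst E E) ≫ v = (q ≫ fst E E) ≫ v := by
      simpa using congrArg (· ≫ fst P P) hpq
    have e2 : (p ≫ snd E E) ≫ v = (q ≫ snd E E) ≫ v := by
      simpa using congrArg (· ≫ snd P P) hpq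
    obtain ⟨g, hg⟩ := SGA7X.FppfExact.exists_mul_right hex e1
    obtain ⟨h, hh⟩ := SGA7X.FppfExact.exists_mul_right hex e2
    set a := p ≫ fst E E
    set b := p ≫ snd E E
    rw [hp, hq, hg, hh, hDpt', hDpt']
    have k1 : Commute (g ≫ u) b := hcen T g b
    have k2 : Commute (h ≫ u) (g ≫ u) := hcen T h _
    have k3 : Commute (h ≫ u) a := hcen T h a
    calc a * b * a⁻¹ * b⁻¹ = a * (b * ((g ≫ u) * (g ≫ u)⁻¹)) * a⁻¹ * b⁻¹ := by group
      _ = a * ((g ≫ u) * b) * (g ≫ u)⁻¹ * a⁻¹ * b⁻¹ := by rw [k1.eq]; group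
      _ = a * (g ≫ u) * b * ((h ≫ u) * (g ≫ u)⁻¹ * a⁻¹ * (h ≫ u)⁻¹) * b⁻¹ := by
          rw [show (h ≫ u) * (g ≫ u)⁻¹ * a⁻¹ * (h ≫ u)⁻¹ = (g ≫ u)⁻¹ * a⁻¹ by
            rw [k2.inv_right.eq, _root_.mul_assoc ((g ≫ u)⁻¹), k3.inv_right.eq]; group]
          group
      _ = _ := by group)
  have hax1' : lift (𝟙 P) (toUnit P ≫ η[P]) ≫ c' = 1 := by
    refine (SGA7X.FppfExact.locEpi hex).cancel (SGA7X.FppfExact.mono hex ?_)
    have h2 : v ≫ lift (𝟙 P) (toUnit P ≫ η[P]) = lift (𝟙 E) 1 ≫ (v ⊗ₘ v) := by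
      rw [lift_map, Category.id_comp, comp_lift, Category.comp_id, hη, MonObj.one_comp, MonObj.comp_one]
    rw [← Category.assoc v, h2, Category.assoc (lift _ _), hc', hDpt', MonObj.comp_one, MonObj.one_comp]
    simp
  have hax2' : lift (toUnit P ≫ η[P]) (𝟙 P) ≫ c' = 1 := by
    refine (SGA7X.FppfExact.locEpi hex).cancel (SGA7X.FppfExact.mono hex ?_)
    have h2 : v ≫ lift (toUnit P ≫ η[P]) (𝟙 P) = lift 1 (𝟙 E) ≫ (v ⊗ₘ v) := by
      rw [lift_map, Category.id_comp, comp_lift, Category.comp_id, hη, MonObj.one_comp, MonObj.comp_one]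
    rw [← Category.assoc v, h2, Category.assoc (lift _ _), hc', hDpt', MonObj.comp_one, MonObj.one_comp]
    simp
  have h : fst E E * snd E E * (fst E E)⁻¹ * (snd E E)⁻¹ = 1 := by
    rw [← hD', ← hc', hPP c' hax1' hax2', MonObj.comp_one, MonObj.one_comp]
  have hxy : fst E E * snd E E = snd E E * fst E E := mul_inv_eq_iff_eq_mul.1 (mul_inv_eq_one.1 h)
  refine ⟨?_⟩
  rw [MonObj.mul_eq_mul, MonObj.comp_mul]
  simpa using hxy.symm

end Groth.Agent.S8718
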