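import Groth.Statements.S8727
import Groth.Agent.ArSurfBase.Form

set_option autoImplicit false
universe u
open CategoryTheory CategoryTheory.Limits AlgebraicGeometry
open ArSurf

namespace Groth.Agent.S8727

/-- The assertion on the kernel of the intersection form: let R be a discrete valuation ring, X an
arithmetic surface over Spec R (regular, integral, of dimension 2, flat and projective over R) whose
special fibre is connected, Γ_1, ..., Γ_r pairwise distinct vertical prime divisors whose union is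
the whole special fibre, n_i the multiplicity of Γ_i in the special fibre, i.e. the length of
O_{X,γ_i}/m_R O_{X,γ_i} for γ_i the generic point of Γ_i, and L_j invertible O_X-modules with L_j ⊗
I(Γ_j) ≅ O_X. Then for integers a_1, ..., a_r one has Σ_j a_j (Γ_i · Γ_j) = 0 for every i, where Γ_i
· Γ_j = deg(L_j|_{Γ_i}) over the residue field, if and only if (a_1, ..., a_r) is a rational
multiple of (n_1, ..., n_r): the kernel of the (negative semi-definite) intersection form on
vertical divisors is spanned by the special fibre. -/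
theorem result (R : Type u) [CommRing R] [IsDomain R] [IsDiscreteValuationRing R]
    (X : Over (Spec (CommRingCat.of R))) (hX : ArSurf.IsArithSurface R X)
    (hconn : _root_.IsConnected {x : ↥X.left | X.hom.base x = IsLocalRing.closedPoint R})
    {r : ℕ} (Γ : Fin r → ArSurf.VertComp R X)
    (hdist : Function.Injective fun i => Set.range (Γ i).ι.base)
    (hcov : ∀ x : ↥X.left, X.hom.base x = IsLocalRing.closedPoint R → ∃ i, x ∈ Set.range (Γ i).ι.base)
    (L : Fin r → X.left.Modules) (hL : ∀ j, ClSub.IsInverseOf (L j) (ClSub.idealMod ((Γ j).ι.ker)))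
    (a : Fin r → ℤ) :
    let γ : Fin r → ↥X.left := fun i => (Γ i).ι.base (genericPoint ↥(Γ i).curve.left)
    let ρ : ∀ i, R →+* ↑(X.left.presheaf.stalk (γ i)) := fun i =>
      (X.left.presheaf.germ ⊤ (γ i) trivial).hom.comp
        (X.hom.appTop.hom.comp (Scheme.ΓSpecIso (CommRingCat.of R)).inv.hom)
    let n : Fin r → ℕ := fun i => (Module.length ↑(X.left.presheaf.stalk (γ i))
      (↑(X.left.presheaf.stalk (γ i)) ⧸ (IsLocalRing.maximalIdeal R).map (ρ i))).toNat
    (∀ i, ∑ j, a j * ArSurf.inter R X (L j) (Γ i) = 0) ↔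
      ∃ c : ℚ, ∀ i, (a i : ℚ) = c * (n i : ℚ) := by
  classical
  haveI := ArSurfBase.isProper_of_isArithSurface hX; haveI := hX.2.1; haveI := hX.2.2.2.1
  haveI := ArSurfBase.isLocallyNoetherian_left (X := X)
  intro γ ρ n
  have hn : ∀ i, n i = Models.mult R X (Γ i) := fun i => rfl
  have hm : ∀ i, (0 : ℚ) < Models.mult R X (Γ i) := fun i =>
    Nat.cast_pos.2 (ArSurfBase.map_maximalIdeal_genPtOf hX.2.2.1 hX.1 (Γ i)).2
  simp only [hn]
  have hK := fun j => ArSurfBase.isEffCartier_ker (Γ j) hX.2.2.1 hX.1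
  have hrow : ∀ i, ∑ j, (Models.mult R X (Γ j) : ℤ) * ArSurf.inter R X (L j) (Γ i) = 0 := fun i => by
    have h0 := ArSurfBase.inter_specialFibreIdeal (R := R) (X := X) (Γ i)
    rw [ArSurfBase.specialFibreIdeal_eq_prod hX.2.2.1 hX.1 Γ hdist hcov,
      ArSurfBase.inter_idealMod_prod _ _ _ hK] at h0
    rw [Finset.sum_congr rfl fun j _ => by
      rw [ArSurfBase.inter_eq_neg (Γ i) (SurfInt.isInvertible_idealMod (hK j)) (hL j), mul_neg],
      Finset.sum_neg_distrib, h0, neg_zero]
  refine ⟨fun h => ?_, fun ⟨c, hc⟩ i => ?_⟩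
  · rcases r with _ | r
    · exact ⟨0, fun i => i.elim0⟩
    obtain ⟨-, h2⟩ := ArSurfBase.form_nonpos hX.2.2.1 hX.1 Γ hdist L hL a
    obtain ⟨-, h4⟩ := h2 (Finset.sum_eq_zero fun i _ => by
      simp only [mul_assoc]; rw [← Finset.mul_sum, h i, mul_zero])
    set c : ℚ := (a 0 : ℚ) / Models.mult R X (Γ 0)
    refine ⟨c, fun i => ?_⟩
    by_contra hi
    let T : Set (Fin (r + 1)) := {j | (a j : ℚ) = c * Models.mult R X (Γ j)}
    have hcl : ∀ S : Set (Fin (r + 1)), IsClosed (⋃ j ∈ S, ArSurfBase.supp (Γ j)) := fun S =>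
      S.toFinite.isClosed_biUnion fun j _ => ArSurfBase.isClosed_supp _
    obtain ⟨x, -, hx1, hx2⟩ := isPreconnected_closed_iff.1 hconn.isPreconnected _ _ (hcl T) (hcl Tᶜ)
      (fun x hx => by
        obtain ⟨j, hj⟩ := hcov x hx
        by_cases hjT : j ∈ T
        · exact Or.inl (Set.mem_biUnion hjT hj)
        · exact Or.inr (Set.mem_biUnion hjT hj))
      ⟨_, ArSurfBase.hom_base_eq_closedPoint _ (ArSurfBase.genPtOf_mem (Γ 0)), Set.mem_biUnion
        (show (0 : Fin (r + 1)) ∈ T from (div_mul_cancel₀ _ (hm 0).ne').symm) (ArSurfBase.genPtOf_mem _)⟩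
      ⟨_, ArSurfBase.hom_base_eq_closedPoint _ (ArSurfBase.genPtOf_mem (Γ i)), Set.mem_biUnion
        (show i ∈ Tᶜ from hi) (ArSurfBase.genPtOf_mem _)⟩
    obtain ⟨j, hj, hxj⟩ := Set.mem_iUnion₂.1 hx1
    obtain ⟨k, hk, hxk⟩ := Set.mem_iUnion₂.1 hx2
    refine hk ?_
    have h5 : (a j : ℚ) * Models.mult R X (Γ k) = a k * Models.mult R X (Γ j) := by
      exact_mod_cast h4 j k (Set.not_disjoint_iff.2 ⟨x, hxj, hxk⟩)
    rw [show (a j : ℚ) = c * Models.mult R X (Γ j) from hj] at h5
    exact mul_right_cancel₀ (hm j).ne' (by linear_combination -h5)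
  · have h : ((∑ j, a j * ArSurf.inter R X (L j) (Γ i) : ℤ) : ℚ) =
        c * ((∑ j, (Models.mult R X (Γ j) : ℤ) * ArSurf.inter R X (L j) (Γ i) : ℤ) : ℚ) := by
      push_cast [hc, Finset.mul_sum]
      exact Finset.sum_congr rfl fun j _ => by ring
    rw [hrow i, Int.cast_zero, mul_zero] at h
    exact_mod_cast h

end Groth.Agent.S8727
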