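import Groth.Statements.S8831
import Groth.Agent.LocDual54.PunctArtin
-- import your own Groth.Agent.* helpers here

set_option autoImplicit false
universe u
open CategoryTheory AlgebraicGeometry Opposite
open LocCoh

namespace Groth.Agent.S8831

open AlgebraicGeometry CategoryTheory Opposite

/-- Images in an Artinian term of an inverse system stabilize. -/
theorem exists_stable {A : Type u} [CommRing A] {N : Type u} [AddCommGroup N] [Module A N] [IsArtinian A N]
    (n : ℕ) (S : ℕ → Submodule A N) (h : ∀ a b, n ≤ a → a ≤ b → S b ≤ S a) :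
    ∃ r, n ≤ r ∧ ∀ s, r ≤ s → S s = S r := by
  obtain ⟨k, hk⟩ := IsArtinian.monotone_stabilizes (R := A) (M := N)
    ⟨fun j => OrderDual.toDual (S (n + j)), fun a b hab => h _ _ (Nat.le_add_right n a) (by omega)⟩
  refine ⟨n + k, Nat.le_add_right n k, fun s hs => ?_⟩
  obtain ⟨j, rfl⟩ : ∃ j, s = n + j := ⟨s - n, by omega⟩
  exact (OrderDual.toDual.injective (hk j (by omega))).symm

/-- The image of a map in cohomology, as a submodule. -/
noncomputable def imH {A : Type u} [CommRing A] {Y : Scheme.{u}} [Y.Over (Spec (CommRingCat.of A))] {F G : Y.Modules}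
    (φ : F ⟶ G) (p : ℕ) : Submodule A (Coh.HH Y G p) where
  carrier := Set.range (Sheaf.H.map ((SheafOfModules.toSheaf Y.ringCatSheaf).map φ) p)
  zero_mem' := ⟨0, map_zero _⟩
  add_mem' := by rintro _ _ ⟨x, rfl⟩ ⟨y, rfl⟩; exact ⟨x + y, map_add _ _ _⟩
  smul_mem' r y := by
    rintro ⟨x, rfl⟩
    exact ⟨r • x, CExt24.map_smul_mapH φ _ p x⟩

end Groth.Agent.S8831

namespace Groth.Agent.S8831

/-- Let (A, m) be a Noetherian local ring and U = Spec A ∖ {m} the punctured spectrum. Suppose we are
given a system (F_n), indexed inversely by n, of coherent modules on U. In each positive degree i,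
the cohomology groups H^i(U, F_n) then form a Mittag-Leffler system; concretely, given any n one can
find r ≥ n such that for all s ≥ r the image of H^i(U, F_s) → H^i(U, F_n) equals the image of H^i(U,
F_r) → H^i(U, F_n). -/
theorem result (A : Type u) [CommRing A] [IsNoetherianRing A] [IsLocalRing A] (G : ℕᵒᵖ ⥤ (↑(LocCoh.puncturedOpen A (IsLocalRing.maximalIdeal A)) : Scheme.{u}).Modules) (hG : ∀ n : ℕᵒᵖ, Coh.IsCoh (G.obj n)) (i : ℕ) (hi : 0 < i) (n : ℕ) : ∃ (r : ℕ) (hnr : n ≤ r), ∀ (s : ℕ) (hrs : r ≤ s), Set.range (Sheaf.H.map ((SheafOfModules.toSheaf _).map (G.map (homOfLE (hnr.trans hrs : n ≤ s)).op)) i) = Set.range (Sheaf.H.map ((SheafOfModules.toSheaf _).map (G.map (homOfLE (hnr : n ≤ r)).op)) i) := by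
  have hA : IsArtinian A (Coh.HH _ (G.obj (op n)) i) := LocDual54.PunctLin.isArtinian_HH (G.obj (op n)) (hG (op n)) i hi
  obtain ⟨r, hnr, hr⟩ := exists_stable (A := A) n (fun s => if h : n ≤ s then imH (G.map (homOfLE h).op) i else ⊤)
    (fun a b ha hab => by
      beta_reduce
      rw [dif_pos ha, dif_pos (ha.trans hab)]
      rintro _ ⟨x, rfl⟩
      refine ⟨Sheaf.H.map ((SheafOfModules.toSheaf _).map (G.map (homOfLE hab).op)) i x, ?_⟩
      rw [← Sheaf.H.map_comp_apply]
      exact congrArg (fun f => Sheaf.H.map f i x) (((SheafOfModules.toSheaf _).map_comp _ _).symm.trans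
        (congrArg _ ((G.map_comp _ _).symm.trans (congrArg G.map (Subsingleton.elim _ _))))))
  refine ⟨r, hnr, fun s hrs => ?_⟩
  have h := hr s hrs
  rw [dif_pos hnr, dif_pos (hnr.trans hrs)] at h
  exact congrArg SetLike.coe h

end Groth.Agent.S8831
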