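import Groth.Statements.S8861
import Groth.Agent.AssPtX.Regular
import Groth.Agent.MeroX.EffCartier

set_option autoImplicit false
universe u
open CategoryTheory CategoryTheory.Limits AlgebraicGeometry TopologicalSpace
open SDiv

namespace Groth.Agent.S8861

/-- Let f : X ⟶ Y be a morphism of schemes and 𝓘 the ideal sheaf of an effective Cartier divisor D ⊆ Y.
If f x ∉ D for every weakly associated point x of X (weakly associated point of the structure
sheaf), then the inverse image ideal sheaf of 𝓘 on X is the ideal of an effective Cartier divisor,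
i.e. the pullback of D by f is defined. -/
theorem result {X Y : Scheme.{u}} (f : X ⟶ Y) (𝓘 : Y.IdealSheafData)
    (hD : BlowUp.IsEffCartierIdeal 𝓘)
    (h : ∀ x : ↥X, Curv2.IsWeakAssPoint (Coh.structureModule X) x → f x ∉ 𝓘.support) :
    BlowUp.IsEffCartierIdeal (𝓘.comap f) := by
  intro x
  obtain ⟨U, hU, a, ha, hIa⟩ := hD (f x)
  obtain ⟨W, hW, hxW, hWU⟩ := exists_isAffineOpen_mem_and_subset (U := f ⁻¹ᵁ U.1) (x := x) hU
  refine ⟨⟨W, hW⟩, hxW, f.appLE U.1 W hWU a, ?_, ?_⟩
  · rw [← Groth.Agent.MeroX.regSub_eq_nonZeroDivisors hW]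
    refine Groth.Agent.AssPtX.germ_mem_nonZeroDivisors_of_weakAss _ fun z hz hza => ?_
    have hns := h z hza
    rw [← SetLike.mem_coe] at hns
    have hb : f z ∈ Y.basicOpen a := by
      by_contra hb
      refine hns ((Scheme.IdealSheafData.mem_support_iff_of_mem (U := U) (hWU hz)).2 ?_)
      rw [hIa, Scheme.zeroLocus_span, Scheme.mem_zeroLocus_iff]
      rintro _ rfl
      exact hb
    have hu : IsUnit (Y.presheaf.germ U.1 (f z) (hWU hz) a) := (Y.mem_basicOpen a (f z) (hWU hz)).1 hb
    have he : X.presheaf.germ W z hz (f.appLE U.1 W hWU a) =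
        f.stalkMap z (Y.presheaf.germ U.1 (f z) (hWU hz) a) := by
      rw [Scheme.Hom.germ_stalkMap_apply, Scheme.Hom.appLE, CommRingCat.comp_apply,
        X.presheaf.germ_res_apply]
    rw [he]
    exact hu.map _
  · rw [ModPairLib.ideal_comap 𝓘 f U ⟨W, hW⟩ hWU, hIa, Ideal.map_span, Set.image_singleton]

end Groth.Agent.S8861
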