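import Groth.Statements.S8871
import Groth.Agent.AssLib.Basic
import Groth.Agent.Alg6.AssDepth
import Groth.Agent.CycLib.FinLen

set_option autoImplicit false
set_option linter.style.haveILetI false
universe u
open CategoryTheory CategoryTheory.Limits AlgebraicGeometry TopologicalSpace
open SDiv

namespace Groth.Agent.S8871

/-- Let X be a locally Noetherian scheme and F a coherent O_X-module. Then F has no embedded associated
points (every associated point of F is maximal among the associated points of F under
specialization) if and only if F has property (S_1): for every point x, depth F_x ≥ min(1, dim Supp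
F_x), where dim Supp F_x is the Krull dimension of the support of the O_{X,x}-module F_x (for F_x =
0 the depth is infinite and the support empty, so the condition holds). -/
theorem result (X : Scheme.{u}) [IsLocallyNoetherian X] (F : X.Modules) (hF : Coh.IsCoh F) :
    (∀ x : ↥X, Curv2.IsAssPoint F x → ∀ y : ↥X, Curv2.IsAssPoint F y → y ⤳ x → y = x) ↔
      ∀ x : ↥X, min (1 : WithBot ℕ∞) (Module.supportDim ↑(X.presheaf.stalk x) ↑(F.presheaf.stalk x)) ≤
        ((LocCoh.depth (X.presheaf.stalk x) (F.presheaf.stalk x) : ℕ∞) : WithBot ℕ∞) := by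
  have hfl : ∀ x : X, Module.supportDim (X.presheaf.stalk x) (F.presheaf.stalk x) ≤ 0 ↔
      ∀ y ∈ CohB1.support F, y ⤳ x → y = x := fun x => by
    haveI := QCoh.finite_stalk_of_isFT hF.1 hF.2 x
    rw [← AssLib.isFiniteLength_stalk_iff hF x]
    refine ⟨fun h => Module.length_ne_top_iff.1 (CycLib.length_lt_top_of_supportDim h).ne, fun h => ?_⟩
    haveI := (isFiniteLength_iff_isNoetherian_isArtinian.1 h).2
    obtain ⟨n, hn⟩ := AssLib.exists_pow_le_annihilator (X.presheaf.stalk x) (F.presheaf.stalk x)
    haveI : Subsingleton ↥(Module.support (X.presheaf.stalk x) (F.presheaf.stalk x)) := ⟨fun p q => by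
      have key : ∀ p : Module.support (X.presheaf.stalk x) (F.presheaf.stalk x),
          p.1.asIdeal = IsLocalRing.maximalIdeal _ := fun p =>
        le_antisymm (IsLocalRing.le_maximalIdeal p.1.2.ne_top) ((p.1.2.pow_le_iff
          (n := n + 1) (by omega)).1 ((Ideal.pow_le_pow_right n.le_succ).trans
            (hn.trans (Module.mem_support_iff_of_finite.1 p.2))))
      exact Subtype.ext (PrimeSpectrum.ext ((key p).trans (key q).symm))⟩
    exact Order.krullDim_nonpos_of_subsingleton
  constructor
  · intro H x
    haveI := QCoh.finite_stalk_of_isFT hF.1 hF.2 x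
    by_cases h0 : Module.supportDim (X.presheaf.stalk x) (F.presheaf.stalk x) ≤ 0
    · exact (min_le_right _ _).trans (h0.trans (WithBot.coe_le_coe.2 zero_le))
    refine (min_le_left _ _).trans (WithBot.coe_le_coe.2 (Alg6.one_le_depth_iff.2 fun hass => h0 ((hfl x).2 ?_)))
    intro y hy hyx
    obtain ⟨z, hz, hzy⟩ := AssLib.exists_ass_specializes hF.1 hy
    have := H x hass z hz (hzy.trans hyx)
    subst this
    exact (hyx.antisymm hzy).eq
  · intro H x hx y hy hyx
    haveI := QCoh.finite_stalk_of_isFT hF.1 hF.2 x
    by_contra hne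
    have h1 : ¬ Module.supportDim (X.presheaf.stalk x) (F.presheaf.stalk x) ≤ 0 := fun h =>
      hne ((hfl x).1 h y (AssLib.mem_support_of_mem_ass hy) hyx)
    refine Alg6.one_le_depth_iff.1 (WithBot.coe_le_coe.1 ((le_min le_rfl ?_).trans (H x))) hx
    obtain ⟨d, hd⟩ := WithBot.ne_bot_iff_exists.1 (ne_bot_of_gt (not_le.1 h1))
    rw [← hd] at h1 ⊢
    exact WithBot.coe_le_coe.2 (Order.one_le_iff_pos.2 (WithBot.coe_lt_coe.1 (not_le.1 h1)))

end Groth.Agent.S8871
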