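import Groth.Statements.S8886
import Groth.Agent.FlatMisc.RedTotal

set_option autoImplicit false
universe u
open CategoryTheory CategoryTheory.Limits AlgebraicGeometry TopologicalSpace
open SDiv

namespace Groth.Agent.S8886

/-- Let f : X ⟶ Y be a flat morphism of schemes with Y integral. If the scheme-theoretic fibre of f over
the generic point of Y is integral, then X is integral. -/
theorem result {X Y : Scheme.{u}} (f : X ⟶ Y) [Flat f] [IsIntegral Y]
    (h : IsIntegral (f.fiber (genericPoint ↥Y))) : IsIntegral X := by
  haveI := h
  have hgen : ∀ η : Y, closure {η} ∈ irreducibleComponents Y → η = genericPoint Y := fun η hη => by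
    have h1 : closure ({η} : Set Y) = Set.univ := Set.eq_univ_of_univ_subset
      (hη.2 (show IsIrreducible (Set.univ : Set Y) from IrreducibleSpace.isIrreducible_univ Y) (Set.subset_univ _))
    exact (IsGenericPoint.eq (show IsGenericPoint η Set.univ from h1) (genericPoint_spec Y))
  haveI : AlgebraicGeometry.IsReduced X := FlatMisc.isReduced_of_flat_of_generic_fibres f
    (by rw [irreducibleComponents_eq_singleton]; exact Set.finite_singleton _) fun η hη => by
      obtain rfl := hgen η hη
      infer_instance
  haveI : IrreducibleSpace X := by
    let ξ := f.fiberι (genericPoint Y) (genericPoint ↥(f.fiber (genericPoint Y)))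
    have key : ∀ x : X, ξ ⤳ x := fun x => by
      obtain ⟨x', hx', hfx'⟩ := Flat.generalizingMap f (genericPoint_specializes (f x))
      obtain ⟨z, hz⟩ : x' ∈ Set.range (f.fiberι (genericPoint Y)) := by
        rw [Scheme.Hom.range_fiberι]; exact hfx'
      refine Specializes.trans ?_ hx'
      rw [← hz]
      exact (genericPoint_specializes z).map (f.fiberι _).continuous
    have hu : IsIrreducible (Set.univ : Set X) := by
      rw [show (Set.univ : Set X) = closure {ξ} from (Set.eq_univ_of_forall fun x => (key x).mem_closure).symm]
      exact isIrreducible_singleton.closure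
    exact (irreducibleSpace_def X).2 hu
  exact isIntegral_of_irreducibleSpace_of_isReduced X

end Groth.Agent.S8886
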