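import Groth.Statements.S8887
import Groth.Agent.QCoh.LocFree
import Groth.Agent.QCoh.FT

set_option autoImplicit false
set_option linter.style.haveILetI false
universe u
open CategoryTheory CategoryTheory.Limits AlgebraicGeometry TopologicalSpace
open SDiv

namespace Groth.Agent.S8887

/-- Let X be an integral scheme and F a quasi-coherent O_X-module of finite type, of rank r (r being the
finite dimension of the generic stalk of F as a vector space over the function field of X). Then one
can find an open subset U of X, not empty, on which the restriction of F is isomorphic to the free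
module of rank r. -/
theorem result (X : Scheme.{u}) [IsIntegral X] (F : X.Modules) (hF : Coh.IsQCoh F)
    (hft : CohB1.IsFT F) :
    ∃ U : X.Opens, (U : Set ↥X).Nonempty ∧
      Nonempty (F.restrict U.ι ≅ FlatMod.freeMod (↑U)
        (Module.finrank ↑(X.presheaf.stalk (genericPoint ↥X)) ↑(F.presheaf.stalk (genericPoint ↥X)))) := by
  classical
  obtain ⟨_, ⟨U, hU, rfl⟩, hη, -⟩ := X.isBasis_affineOpens.exists_subset_of_mem_open
    (Set.mem_univ (genericPoint X)) isOpen_univ
  haveI : Module.Finite Γ(X, U) Γ(F, U) := QCoh.finite_of_isFT hF hft hU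
  letI := QCoh.stalkAlg (X := X) hη
  letI := QCoh.stalkModule F hη
  haveI := QCoh.isScalarTower_stalk F hη
  haveI := QCoh.isLocalization_stalk' hU hη
  haveI := QCoh.isLocalizedModule_germLin hF hU hη
  letI : Field (X.presheaf.stalk (genericPoint X)) := inferInstanceAs (Field X.functionField)
  haveI := QCoh.finite_stalk_of_isFT hF hft (genericPoint X)
  let S := (hU.primeIdealOf ⟨genericPoint X, hη⟩).asIdeal.primeCompl
  haveI : Nonempty (U : Scheme.{u}) := ⟨⟨_, hη⟩⟩
  have hinjA : Function.Injective (algebraMap Γ(X, U) (X.presheaf.stalk (genericPoint X))) :=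
    germ_injective_of_isIntegral X (genericPoint X) hη
  let b := Module.finBasis (X.presheaf.stalk (genericPoint X)) (F.presheaf.stalk (genericPoint X))
  choose p hp using fun i => IsLocalizedModule.surj S (QCoh.germLin F hη) (b i)
  let m : Fin (Module.finrank (X.presheaf.stalk (genericPoint X)) (F.presheaf.stalk (genericPoint X))) → Γ(F, U) :=
    fun i => (p i).1
  let φ := Fintype.linearCombination Γ(X, U) m
  have hne : ∀ i, algebraMap Γ(X, U) (X.presheaf.stalk (genericPoint X)) (p i).2.1 ≠ 0 := fun i =>
    (IsLocalization.map_units (X.presheaf.stalk (genericPoint X)) (p i).2).ne_zero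
  let b' := b.unitsSMul fun i => Units.mk0 _ (hne i)
  have hb' : ∀ i, b' i = QCoh.germLin F hη (m i) := fun i => by
    rw [Module.Basis.unitsSMul_apply, Units.smul_def, Units.val_mk0, algebraMap_smul]
    exact hp i
  have hφg : ∀ c, QCoh.germLin F hη (φ c) = ∑ i, algebraMap Γ(X, U) (X.presheaf.stalk (genericPoint X)) (c i) • b' i := by
    intro c
    rw [Fintype.linearCombination_apply, map_sum]
    refine Finset.sum_congr rfl fun i _ => ?_
    rw [map_smul, hb', algebraMap_smul]
  have hφ : Function.Injective φ := (injective_iff_map_eq_zero _).2 fun c hc => funext fun i => hinjA <| by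
    rw [Pi.zero_apply, map_zero]
    exact Fintype.linearIndependent_iff.1 b'.linearIndependent _ (by rw [← hφg, hc, map_zero]) i
  have key : ∀ g : Γ(F, U), ∃ f : Γ(X, U), f ≠ 0 ∧ f • g ∈ LinearMap.range φ := by
    intro g
    obtain ⟨⟨d, hd⟩, hdc⟩ := IsLocalization.exist_integer_multiples_of_finite S fun i => b'.repr (QCoh.germLin F hη g) i
    choose c hc using hdc
    have h1 : QCoh.germLin F hη (d • g) = QCoh.germLin F hη (φ c) := by
      rw [hφg, map_smul, ← algebraMap_smul (X.presheaf.stalk (genericPoint X)) d]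
      conv_lhs => rw [← b'.sum_repr (QCoh.germLin F hη g), Finset.smul_sum]
      refine Finset.sum_congr rfl fun i _ => ?_
      rw [smul_smul, hc i, Algebra.smul_def]
    obtain ⟨e, he⟩ := IsLocalizedModule.exists_of_eq (S := S) (f := QCoh.germLin F hη) h1
    have hne' : ∀ a : S, (a : Γ(X, U)) ≠ 0 := fun a h0 => a.2 (by rw [h0]; exact Submodule.zero_mem _)
    refine ⟨e.1 * d, mul_ne_zero (hne' e) (hne' ⟨d, hd⟩), e.1 • c, ?_⟩
    rw [map_smul, mul_smul]
    exact he.symm
  obtain ⟨T, hT⟩ := (Module.Finite.fg_top (R := Γ(X, U)) (M := Γ(F, U)))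
  choose fg hfg0 hfg using key
  let f := ∏ g ∈ T, fg g
  have hf0 : f ≠ 0 := Finset.prod_ne_zero_iff.2 fun g _ => hfg0 g
  have hfm : ∀ g : Γ(F, U), f • g ∈ LinearMap.range φ := by
    have : ⊤ ≤ (LinearMap.range φ).comap (LinearMap.lsmul Γ(X, U) Γ(F, U) f) := by
      rw [← hT, Submodule.span_le]
      intro g hg
      obtain ⟨q, hq⟩ := Finset.dvd_prod_of_mem fg hg
      show f • g ∈ LinearMap.range φ
      rw [show f = fg g * q from hq, mul_comm, mul_smul]
      exact Submodule.smul_mem _ _ (hfg g)
    exact fun g => this Submodule.mem_top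
  let φ' := LocalizedModule.map (Submonoid.powers f) φ
  have hφ' : Function.Bijective φ' := by
    refine ⟨LocalizedModule.map_injective _ φ hφ, fun y => ?_⟩
    induction y using LocalizedModule.induction_on with
    | h g s =>
      obtain ⟨c, hc⟩ := hfm g
      refine ⟨LocalizedModule.mk c (⟨f, Submonoid.mem_powers f⟩ * s), ?_⟩
      rw [LocalizedModule.map_mk, hc, ← Submonoid.smul_def ⟨f, Submonoid.mem_powers f⟩,
        LocalizedModule.mk_cancel_common_left]
  haveI : Module.Free (Localization (Submonoid.powers f))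
      (LocalizedModule (Submonoid.powers f) (Fin (Module.finrank (X.presheaf.stalk (genericPoint X)) (F.presheaf.stalk (genericPoint X))) → Γ(X, U))) :=
    Module.free_of_isLocalizedModule (Submonoid.powers f)
      (LocalizedModule.mkLinearMap (Submonoid.powers f) _)
  obtain ⟨n, ⟨e⟩⟩ := QCoh.exists_free_nhd hF hU f (Module.Free.of_equiv (LinearEquiv.ofBijective φ' hφ'))
  have hηf : genericPoint X ∈ X.basicOpen f :=
    (X.mem_basicOpen f _ hη).2 (IsUnit.mk0 _ fun h => hf0 (hinjA (h.trans (map_zero _).symm)))
  obtain ⟨l⟩ := QCoh.free_sections (hU.basicOpen f) le_rfl e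
  obtain rfl := QCoh.finrank_stalk_of_freeChart (hU.basicOpen f) hF l hηf
  exact ⟨X.basicOpen f, ⟨_, hηf⟩, ⟨e⟩⟩

end Groth.Agent.S8887
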