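import Groth.Statements.S8899
import Groth.Agent.KFlatLib.Scheme.Pullback
import Mathlib.RingTheory.Flat.Basic

set_option autoImplicit false
set_option linter.style.haveILetI false
set_option backward.isDefEq.respectTransparency false
set_option backward.isDefEq.respectTransparency.types false
universe u
open CategoryTheory CategoryTheory.Limits AlgebraicGeometry TopologicalSpace
open SDiv

namespace Groth.Agent.S8899

section
open TensorProduct

theorem exists_ann_tensor {R S M : Type u} [CommRing R] [CommRing S] [Algebra R S] [Module.Flat R S]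
    [AddCommGroup M] [Module R M] (m : M) (r : S) :
    r • ((1 : S) ⊗ₜ[R] m) = 0 ↔ r ∈ Ideal.map (algebraMap R S) (LinearMap.ker (LinearMap.toSpanSingleton R M m)) := by
  let I : Ideal R := LinearMap.ker (LinearMap.toSpanSingleton R M m)
  let μ : (R ⧸ I) →ₗ[R] M := Submodule.liftQ I (LinearMap.toSpanSingleton R M m) le_rfl
  have hμ : Function.Injective μ := LinearMap.ker_eq_bot.1 (Submodule.ker_liftQ_eq_bot _ _ _ le_rfl)
  have hinj := Module.Flat.lTensor_preserves_injective_linearMap (M := S) μ hμ
  have hzero : r ⊗ₜ[R] (Submodule.Quotient.mk (1 : R) : R ⧸ I) = 0 ↔ r ∈ I.map (algebraMap R S) := by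
    rw [← (TensorProduct.tensorQuotEquivQuotSMul S I).map_eq_zero_iff]
    erw [TensorProduct.tensorQuotEquivQuotSMul_tmul_mk]
    rw [one_smul, Submodule.Quotient.mk_eq_zero, Ideal.smul_top_eq_map, Submodule.restrictScalars_mem]
  rw [← hzero, TensorProduct.smul_tmul', smul_eq_mul, mul_one]
  constructor
  · intro h
    refine hinj ?_
    rw [LinearMap.lTensor_tmul, map_zero]
    change r ⊗ₜ[R] ((1 : R) • m) = 0
    rwa [one_smul]
  · intro h
    have := congrArg (μ.lTensor S) h
    rw [LinearMap.lTensor_tmul, map_zero] at this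
    change r ⊗ₜ[R] ((1 : R) • m) = 0 at this
    rwa [one_smul] at this

theorem exists_weakAss_tensor {R S M : Type u} [CommRing R] [IsLocalRing R] [CommRing S] [IsLocalRing S]
    [Algebra R S] [IsLocalHom (algebraMap R S)] [Module.Flat R S] [AddCommGroup M] [Module R M]
    (hgen : ∀ P : Ideal S, P.IsPrime → (IsLocalRing.maximalIdeal R).map (algebraMap R S) ≤ P → P = IsLocalRing.maximalIdeal S)
    (m : M) (hm : Ideal.radical (LinearMap.ker (LinearMap.toSpanSingleton R M m)) = IsLocalRing.maximalIdeal R) :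
    ∃ n : S ⊗[R] M, Ideal.radical (LinearMap.ker (LinearMap.toSpanSingleton S (S ⊗[R] M) n)) =
      IsLocalRing.maximalIdeal S := by
  refine ⟨1 ⊗ₜ m, ?_⟩
  have h : (LinearMap.ker (LinearMap.toSpanSingleton S (S ⊗[R] M) ((1 : S) ⊗ₜ[R] m)) : Ideal S) =
      Ideal.map (algebraMap R S) (LinearMap.ker (LinearMap.toSpanSingleton R M m)) := by
    ext r
    rw [← exists_ann_tensor m r]
    rfl
  rw [h]
  have hle : Ideal.map (algebraMap R S) (LinearMap.ker (LinearMap.toSpanSingleton R M m)) ≤
      IsLocalRing.maximalIdeal S := by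
    refine Ideal.map_le_iff_le_comap.2 ((Ideal.le_radical.trans hm.le).trans ?_)
    exact ((IsLocalRing.local_hom_TFAE (algebraMap R S)).out 0 3 rfl rfl).1 inferInstance
  refine le_antisymm ((IsLocalRing.maximalIdeal.isMaximal S).isPrime.radical_le_iff.2 hle) ?_
  rw [Ideal.radical_eq_sInf]
  refine le_sInf fun P hP => ?_
  rw [hgen P hP.2 (Ideal.map_le_iff_le_comap.2 ?_)]
  rw [← hm]
  exact (hP.2.comap (algebraMap R S)).radical_le_iff.2 (Ideal.map_le_iff_le_comap.1 hP.1)

end

open AlgebraicGeometry CategoryTheory in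
theorem eq_maximalIdeal_of_gen {X S : Scheme.{u}} (f : X ⟶ S) (x : X)
    (hgen : ∀ y : ↥X, f y = f x → y ⤳ x → y = x) (P : Ideal (X.presheaf.stalk x)) (hP : P.IsPrime)
    (hle : (IsLocalRing.maximalIdeal (S.presheaf.stalk (f x))).map (f.stalkMap x).hom ≤ P) :
    P = IsLocalRing.maximalIdeal (X.presheaf.stalk x) := by
  let p : PrimeSpectrum (X.presheaf.stalk x) := ⟨P, hP⟩
  have hspec : X.fromSpecStalk x p ⤳ x := by
    have : X.fromSpecStalk x p ∈ Set.range (X.fromSpecStalk x) := ⟨p, rfl⟩
    rwa [Scheme.range_fromSpecStalk] at this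
  have hc : Spec.map (f.stalkMap x) p = IsLocalRing.closedPoint (S.presheaf.stalk (f x)) := by
    refine PrimeSpectrum.ext ?_
    exact ((IsLocalRing.maximalIdeal.isMaximal _).eq_of_le (hP.comap _).ne_top (Ideal.map_le_iff_le_comap.1 hle)).symm
  have hf : f (X.fromSpecStalk x p) = f x := by
    rw [← Scheme.Hom.comp_apply, ← Scheme.SpecMap_stalkMap_fromSpecStalk, Scheme.Hom.comp_apply, hc,
      Scheme.fromSpecStalk_closedPoint]
  have h := hgen _ hf hspec
  have : p = IsLocalRing.closedPoint (X.presheaf.stalk x) := by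
    refine (X.fromSpecStalk x).isEmbedding.injective ?_
    rw [h, Scheme.fromSpecStalk_closedPoint]
  exact congrArg PrimeSpectrum.asIdeal this



/-- Let f : X ⟶ S be a morphism of schemes, G a quasi-coherent O_S-module and x a point of X over s = f
x such that f is flat at x, no point of f⁻¹(s) other than x specialises to x (x is the generic point
of some irreducible component of the fibre X_s), and s is weakly associated to G. Then x is weakly
associated to f^*G. -/
theorem result {X S : Scheme.{u}} (f : X ⟶ S) (G : S.Modules) (hG : Coh.IsQCoh G)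
    (x : ↥X) (hfl : (f.stalkMap x).hom.Flat) (hgen : ∀ y : ↥X, f y = f x → y ⤳ x → y = x)
    (hs : Curv2.IsWeakAssPoint G (f x)) : Curv2.IsWeakAssPoint ((Scheme.Modules.pullback f).obj G) x := by
  obtain ⟨m, hm⟩ := hs
  have e := ((Groth.Agent.KFlatLib.stalkPullbackIso f x).app G).toLinearEquiv
  letI := (f.stalkMap x).hom.toAlgebra
  haveI : Module.Flat (S.presheaf.stalk (f x)) (X.presheaf.stalk x) := hfl
  haveI : IsLocalHom (algebraMap (S.presheaf.stalk (f x)) (X.presheaf.stalk x)) :=
    inferInstanceAs (IsLocalHom (f.stalkMap x).hom)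
  obtain ⟨n, hn⟩ := exists_weakAss_tensor (R := S.presheaf.stalk (f x)) (S := X.presheaf.stalk x)
    (fun P hP hle => eq_maximalIdeal_of_gen f x hgen P hP hle) m hm
  refine ⟨e.symm n, ?_⟩
  rw [← hn]
  congr 1
  ext r
  change r • e.symm n = 0 ↔ _
  rw [← map_smul, e.symm.map_eq_zero_iff]
  rfl

end Groth.Agent.S8899
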