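import Groth.Statements.S8909
import Groth.Agent.Div57.DivisorPart

set_option autoImplicit false
set_option linter.style.haveILetI false
set_option backward.isDefEq.respectTransparency false
set_option backward.isDefEq.respectTransparency.types false
universe u
open CategoryTheory CategoryTheory.Limits AlgebraicGeometry TopologicalSpace
open SDiv

namespace Groth.Agent.S8909

/-- Let X be a Noetherian scheme and Z ⊆ X a closed subscheme with ideal sheaf 𝓩. Suppose given a family
of integral effective Cartier divisors D_i ⊆ X (ideal sheaves 𝓓_i, i ∈ I) and a closed subset Z' ⊆ X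
whose irreducible components all have codimension at least 2 in X (the local ring of X at each
maximal point of Z' has dimension ≥ 2), such that Z ⊆ Z' ∪ ⋃ D_i set-theoretically. Then there are
integers a_i ≥ 0, almost all zero, such that the effective Cartier divisor D = Σ a_i D_i (with ideal
sheaf the product of the 𝓓_i^{a_i}) is contained in Z as a closed subscheme and the inclusion D → Z
is an isomorphism outside codimension 2: for some open U ⊆ X the ideal sheaves of D and Z agree on U
and every irreducible component of Z ∖ U has codimension ≥ 2 in X. The published statement also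
asserts that such D_i and Z' exist when Z is nowhere dense in X and either every local ring of X at
a point of Z is factorial or X is regular; this row does not. -/
theorem result (X : Scheme.{u}) [IsNoetherian X] (𝓩 : X.IdealSheafData)
    {I : Type u} (𝓓 : I → X.IdealSheafData) (hD : ∀ i, BlowUp.IsEffCartierIdeal (𝓓 i)) (hDint : ∀ i, IsIntegral (𝓓 i).subscheme)
    (Z' : Set ↥X) (hZ' : IsClosed Z')
    (hcodim : ∀ z ∈ Z', (∀ y ∈ Z', y ⤳ z → y = z) → (2 : WithBot ℕ∞) ≤ ringKrullDim ↑(X.presheaf.stalk z))
    (hcover : (𝓩.support : Set ↥X) ⊆ Z' ∪ ⋃ i, ((𝓓 i).support : Set ↥X)) :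
    ∃ a : I →₀ ℕ, 𝓩 ≤ a.prod (fun i n => 𝓓 i ^ n) ∧
      ∃ U : X.Opens, (a.prod (fun i n => 𝓓 i ^ n)).comap U.ι = 𝓩.comap U.ι ∧
        ∀ z ∈ (𝓩.support : Set ↥X) \ (U : Set ↥X), (∀ y ∈ (𝓩.support : Set ↥X) \ (U : Set ↥X), y ⤳ z → y = z) →
          (2 : WithBot ℕ∞) ≤ ringKrullDim ↑(X.presheaf.stalk z) := by
  have hZ2 : ∀ z ∈ Z', (2 : ℕ∞) ≤ Order.coheight z := by
    intro z hz
    obtain ⟨w, hwz, hmax⟩ := Groth.Agent.Div57.exists_max_generization hz
    have h := hcodim w hwz.1 hmax
    rw [ringKrullDim_stalk_eq_coheight] at h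
    exact (show (2 : ℕ∞) ≤ Order.coheight w from WithBot.coe_le_coe.1 h).trans
      (Order.coheight_anti (show z ≤ w from hwz.2))
  obtain ⟨a, U, hle, hU, hcompl⟩ := Groth.Agent.Div57.exists_divisor_part 𝓓 hD hDint Z' hZ2 𝓩 hcover
  refine ⟨a, hle, U, Groth.Agent.Div57.Desc.ext_stI fun z => ?_, fun z hz _ => ?_⟩
  · rw [Groth.Agent.Div57.Desc.stI_comap, Groth.Agent.Div57.Desc.stI_comap]; exact congrArg _ (hU (U.ι z) z.2)
  · rw [ringKrullDim_stalk_eq_coheight]
    exact WithBot.coe_le_coe.2 (hcompl z hz.2).2

end Groth.Agent.S8909
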