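import Groth.Statements.S8928
import Groth.Agent.DiscFam.FracFlat

set_option autoImplicit false
universe u
open scoped TensorProduct
open Disc

namespace Groth.Agent.S8928

/-- Let A → B be a map of Noetherian rings such that nonzerodivisors of A map to nonzerodivisors of B
and Q(A) ⊗_A B is flat over the total ring of fractions Q(A). Then B_q is flat over A for every
associated prime q of B and for every prime q of B lying over an associated prime of A. -/
theorem result (A B : Type u) [CommRing A] [CommRing B] [IsNoetherianRing A] [IsNoetherianRing B] [Algebra A B] (h1 : nonZeroDivisors A ≤ (nonZeroDivisors B).comap (algebraMap A B)) (h2 : Module.Flat (FractionRing A) (FractionRing A ⊗[A] B)) : (∀ (q : Ideal B) [q.IsPrime], IsAssociatedPrime q B → Module.Flat A (Localization.AtPrime q)) ∧ (∀ (q : Ideal B) [q.IsPrime], IsAssociatedPrime (q.comap (algebraMap A B)) A → Module.Flat A (Localization.AtPrime q)) := by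
  constructor
  · intro q _ hq
    refine Groth.Agent.DiscFam.flat_atPrime_of_disjoint A B h2 q ?_
    rintro _ ⟨a, ha, rfl⟩ hmem
    have hass : q ∈ associatedPrimes B B := hq
    have hnot := Set.ext_iff.1 (biUnion_associatedPrimes_eq_compl_nonZeroDivisors B) (algebraMap A B a)
    exact hnot.1 (Set.mem_iUnion₂.2 ⟨q, hass, hmem⟩) (h1 ha)
  · intro q _ hq
    refine Groth.Agent.DiscFam.flat_atPrime_of_disjoint A B h2 q ?_
    rintro _ ⟨a, ha, rfl⟩ hmem
    have hass : q.comap (algebraMap A B) ∈ associatedPrimes A A := hq
    have hnot := Set.ext_iff.1 (biUnion_associatedPrimes_eq_compl_nonZeroDivisors A) a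
    exact hnot.1 (Set.mem_iUnion₂.2 ⟨_, hass, hmem⟩) ha

end Groth.Agent.S8928
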