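import Groth.Statements.S8929
import Groth.Agent.DiscFam.FracFlat

set_option autoImplicit false
universe u
open scoped TensorProduct
open Disc

namespace Groth.Agent.S8929

/-- Let A → B be a map of Noetherian rings with the going-up property. If B_q is flat over A for every
associated prime q of B and for every prime q of B lying over an associated prime of A, then Q(A)
⊗_A B is flat over the total ring of fractions Q(A). -/
theorem result (A B : Type u) [CommRing A] [CommRing B] [IsNoetherianRing A] [IsNoetherianRing B] [Algebra A B] [Algebra.HasGoingUp A B] (h3 : ∀ (q : Ideal B) [q.IsPrime], IsAssociatedPrime q B → Module.Flat A (Localization.AtPrime q)) (h4 : ∀ (q : Ideal B) [q.IsPrime], IsAssociatedPrime (q.comap (algebraMap A B)) A → Module.Flat A (Localization.AtPrime q)) : Module.Flat (FractionRing A) (FractionRing A ⊗[A] B) := by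
  refine Groth.Agent.DiscFam.flat_fractionRing_of_maximal_disjoint A B fun q _ hd hmax => ?_
  let p : Ideal A := q.comap (algebraMap A B)
  have hp : p.IsPrime := inferInstance
  have hsub : (p : Set A) ⊆ ⋃ P ∈ associatedPrimes A A, (P : Set A) := by
    rw [biUnion_associatedPrimes_eq_compl_nonZeroDivisors A]
    intro a ha han
    exact hd ⟨a, han, rfl⟩ ha
  have hfin := associatedPrimes.finite A A
  obtain ⟨p', hp', hle⟩ : ∃ p' ∈ associatedPrimes A A, p ≤ p' := by
    have := (Ideal.subset_union_prime (s := hfin.toFinset) (f := fun P => P) ⊥ ⊥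
      (fun P hP _ _ => IsAssociatedPrime.isPrime (hfin.mem_toFinset.1 hP)) (I := p)).1 (by simpa using hsub)
    obtain ⟨P, hP, hPle⟩ := this
    exact ⟨P, hfin.mem_toFinset.1 hP, hPle⟩
  haveI := IsAssociatedPrime.isPrime hp'
  haveI : q.LiesOver p := ⟨rfl⟩
  obtain ⟨q', hq'le, hq'p, hq'over⟩ := Ideal.exists_ideal_ge_liesOver_of_le (R := A) (S := B) q hle
  haveI := hq'p
  have hover : q'.comap (algebraMap A B) = p' := hq'over.over.symm
  have hd' : Groth.Agent.DiscFam.nzdImage A B ≤ q'.primeCompl := by
    rintro _ ⟨a, ha, rfl⟩ hmem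
    have hap : a ∈ p' := hover ▸ hmem
    exact (Set.ext_iff.1 (biUnion_associatedPrimes_eq_compl_nonZeroDivisors A) a).1
      (Set.mem_iUnion₂.2 ⟨p', hp', hap⟩) ha
  have hqq : q' = q := le_antisymm (hmax q' hd' hq'le) hq'le
  refine h4 q ?_
  show IsAssociatedPrime (q.comap (algebraMap A B)) A
  rw [← hqq, hover]
  exact hp'

end Groth.Agent.S8929
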