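import Groth.Statements.S8953
import Groth.Agent.CurvFam16.ShriekZero
import Groth.Agent.S8943
import Groth.Agent.H9Misc.DRingLBase

set_option autoImplicit false
set_option linter.style.haveILetI false
set_option backward.isDefEq.respectTransparency false
set_option backward.isDefEq.respectTransparency.types false
universe u
open CategoryTheory AlgebraicGeometry
open scoped TensorProduct
attribute [local instance] HasDerivedCategory.standard
open Disc

namespace Groth.Agent.S8953

/-- Let A → B be a quasi-finite map of Noetherian rings, written as a composite A → B′ → B in which the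
first map A → B′ is finite and the induced morphism Spec(B) → Spec(B′) is an open immersion, so that
ω_{B/A} = Hom_A(B′, A) ⊗_{B′} B; and let ω^•_{B/A} = φ^!(A[0]) be the algebraic relative dualizing
complex computed through a presentation ψ : A[x_1, …, x_n] → B (derived base change assumed to
exist, RHom_P(B, −) given as a right adjoint of restriction of scalars). Then there is a
(non-unique) B-linear isomorphism H^0(ω^•_{B/A}) ≅ ω_{B/A}. -/
theorem result (A B B' : Type u) [CommRing A] [CommRing B] [CommRing B'] [IsNoetherianRing A] [IsNoetherianRing B] [Algebra A B] [Algebra A B'] [Algebra B' B] [IsScalarTower A B' B] [Module.Finite A B'] (hopen : IsOpenImmersion (Spec.map (CommRingCat.ofHom (algebraMap B' B)))) (n : ℕ) (ψ : MvPolynomial (Fin n) A →ₐ[A] B) (hψ : Function.Surjective ψ) [DRing.HasLBaseChange (algebraMap A (MvPolynomial (Fin n) A))] (Rψ : Dual.D (MvPolynomial (Fin n) A) ⥤ Dual.D B) (adj : DRing.restrictD ψ.toRingHom ⊣ Rψ) : Nonempty (Dual.HD B (Dual2.shriekVia n Rψ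 (Dual.inD A A)) 0 ≃ₗ[B] (B ⊗[B'] Disc.Omega A B')) := by
  haveI := hopen
  haveI : IsNoetherianRing B' := Algebra.FiniteType.isNoetherianRing A B'
  have hflat : Module.Flat B' B := RingHom.flat_algebraMap_iff.1
    ((HasRingHomProperty.Spec_iff (P := @Flat) (φ := CommRingCat.ofHom (algebraMap B' B))).1 inferInstance)
  haveI := hflat
  haveI : Algebra.FiniteType B' B := RingHom.finiteType_algebraMap.1
    ((HasRingHomProperty.Spec_iff (P := @LocallyOfFiniteType) (φ := CommRingCat.ofHom (algebraMap B' B))).1 inferInstance)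
  obtain ⟨p, ψ', hψ'⟩ := Algebra.FiniteType.iff_quotient_mvPolynomial''.1 (inferInstance : Algebra.FiniteType A B')
  obtain ⟨m, χ, hχ⟩ := Algebra.FiniteType.iff_quotient_mvPolynomial''.1 (inferInstance : Algebra.FiniteType B' B)
  haveI := Groth.Agent.KFlatLib.hasLBase (algebraMap A (MvPolynomial (Fin n) A))
  haveI := Groth.Agent.KFlatLib.hasLBase (algebraMap A (MvPolynomial (Fin p) A))
  haveI := Groth.Agent.KFlatLib.hasLBase (algebraMap B' (MvPolynomial (Fin m) B'))
  haveI := Groth.Agent.KFlatLib.hasLBase (algebraMap B' B)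
  haveI := Groth.Agent.H9Misc.DRingLBase.hasLBaseChange (algebraMap B' (MvPolynomial (Fin m) B'))
  haveI := Groth.Agent.H9Misc.DRingLBase.hasLBaseChange (algebraMap B' B)
  obtain ⟨Rp, ⟨ap⟩⟩ := Groth.Agent.KFlatLib.exists_shriek ψ'.toRingHom
  obtain ⟨Rm, ⟨am⟩⟩ := Groth.Agent.KFlatLib.exists_shriek χ.toRingHom
  obtain ⟨R', ⟨a'⟩⟩ := Groth.Agent.KFlatLib.exists_shriek (algebraMap A B')
  let K := Dual.inD A A
  obtain ⟨t⟩ := Groth.Agent.KFlatLib.nonempty_shriekVia_comp p ψ'.toRingHom hψ'
    (algebraMap A (MvPolynomial (Fin p) A)) rfl ap m χ.toRingHom hχ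
    (algebraMap B' (MvPolynomial (Fin m) B')) rfl am n ψ.toRingHom hψ
    (RingHom.ext fun r => (ψ.commutes r).trans ((IsScalarTower.algebraMap_apply A B' B r).trans
      ((χ.commutes _).symm.trans (congrArg (fun b => χ (MvPolynomial.C b)) (ψ'.commutes r).symm))))
    (algebraMap A (MvPolynomial (Fin n) A)) rfl adj K 0
  obtain ⟨f⟩ := Groth.Agent.KFlatLib.nonempty_shriek_finite p ψ'.toRingHom hψ'
    (algebraMap A (MvPolynomial (Fin p) A)) rfl (RingHom.ext fun r => ψ'.commutes r) ap a'
  obtain ⟨g⟩ := Groth.Agent.S8943.result B' B hopen m χ hχ Rm am (R'.obj K)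
  obtain ⟨e₁⟩ := Groth.Agent.KFlatLib.nonempty_LBaseChange_iso (algebraMap A (MvPolynomial (Fin n) A))
  obtain ⟨e₂⟩ := Groth.Agent.KFlatLib.nonempty_LBaseChange_iso (algebraMap B' (MvPolynomial (Fin m) B'))
  obtain ⟨e₃⟩ := Groth.Agent.KFlatLib.nonempty_LBaseChange_iso (algebraMap B' B)
  let i : Dual2.shriekVia n Rψ K ≅ (DTen.LBase (algebraMap B' B)).obj (R'.obj K) :=
    (shiftFunctor _ (n : ℤ)).mapIso (Rψ.mapIso (e₁.app K)) ≪≫ t ≪≫
      (shiftFunctor _ (m : ℤ)).mapIso (Rm.mapIso ((DTen.LBase _).mapIso (f.app K) ≪≫ (e₂.app _).symm)) ≪≫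
      g ≪≫ e₃.app _
  obtain ⟨l⟩ := Groth.Agent.KFlatLib.exists_hdLBaseLEquiv (B := B) (R'.obj K) 0
  obtain ⟨w⟩ := Groth.Agent.CurvFam16.ShriekZero.nonempty_hd_zero R' a'
  exact ⟨(((DerivedCategory.homologyFunctor (ModuleCat.{u} B) 0).mapIso i).toLinearEquiv.trans l).trans
    (TensorProduct.AlgebraTensorModule.congr (LinearEquiv.refl B B) w)⟩

end Groth.Agent.S8953
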