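import Groth.Statements.S8978
import Groth.Agent.HTop83.PhV

set_option autoImplicit false
universe w u
open HTop CategoryTheory CategoryTheory.Limits AlgebraicGeometry

namespace Groth.Agent.S8978

open CategoryTheory CategoryTheory.Limits AlgebraicGeometry in
/-- Given an h covering of an affine scheme X, one can find a proper surjective Y → X that is of finite
presentation, together with finitely many affine opens covering Y, such that each of these opens,
composed into X, factors through some member of the given family. -/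
theorem result {X : Scheme.{u}} [IsAffine X] (E : PreZeroHypercover.{w} X) (hE : HTop.IsHCover E) : ∃ (Y : Scheme.{u}) (g : Y ⟶ X) (n : ℕ) (V : Fin n → Y.Opens), IsProper g ∧ Surjective g ∧ LocallyOfFinitePresentation g ∧ (∀ j, IsAffineOpen (V j)) ∧ ⨆ j, V j = ⊤ ∧ ∀ j, ∃ (i : E.I₀) (h : ((V j : Y.Opens) : Scheme.{u}) ⟶ E.X i), h ≫ E.f i = (V j).ι ≫ g := by
  obtain ⟨G, hG, href⟩ := Groth.Agent.HTopCov.IsVCover.exists_refine hE.2 (CategoryTheory.CategoryStruct.id X)
  obtain ⟨R, r, hr, hrs, hrp, hl⟩ := Groth.Agent.HTop83.exists_fp_refinement E hE.1 _ G hG href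
  choose O o i h ho hxo hc using hl
  have hV : ∀ x, ∃ V : R.Opens, IsAffineOpen V ∧ x ∈ V ∧ V ≤ (o x).opensRange := fun x => by
    haveI := ho x
    exact exists_isAffineOpen_mem_and_subset (show x ∈ (o x).opensRange from hxo x)
  choose V hVa hxV hVo using hV
  haveI : CompactSpace R := QuasiCompact.compactSpace_of_compactSpace r
  obtain ⟨t, ht⟩ := isCompact_univ.elim_finite_subcover (fun x : R => (V x : Set R)) (fun x => (V x).2)
    (fun x _ => Set.mem_iUnion.2 ⟨x, hxV x⟩)
  refine ⟨R, r, t.card, fun k => V (t.equivFin.symm k).1, hr, hrs, hrp, fun k => hVa _, ?_, fun k => ?_⟩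
  · refine top_le_iff.1 fun x _ => ?_
    obtain ⟨y, hy, hxy⟩ := Set.mem_iUnion₂.1 (ht (Set.mem_univ x))
    exact TopologicalSpace.Opens.mem_iSup.2 ⟨t.equivFin ⟨y, hy⟩, by simpa using hxy⟩
  · haveI := ho (t.equivFin.symm k).1
    refine ⟨i _, IsOpenImmersion.lift (o (t.equivFin.symm k).1) (V _).ι (by
      rw [Scheme.Opens.range_ι]; exact hVo _) ≫ h _ ≫ pullback.snd _ _, ?_⟩
    have hh : (h (t.equivFin.symm k).1 ≫ pullback.snd _ _) ≫ E.f (i (t.equivFin.symm k).1) =
        o (t.equivFin.symm k).1 ≫ r := by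
      refine Eq.trans ?_ (hc _)
      refine (Category.assoc _ _ _).trans (congrArg (h _ ≫ ·) ?_)
      exact pullback.condition.symm.trans (Category.comp_id _)
    refine (Category.assoc _ _ _).trans ((congrArg (_ ≫ ·) hh).trans ?_)
    rw [← Category.assoc, IsOpenImmersion.lift_fac]

end Groth.Agent.S8978
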