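import Groth.Statements.S8989
import Groth.Agent.HTop83.SquareCrit

set_option autoImplicit false
universe w u
open HTop

namespace Groth.Agent.S8989

open CategoryTheory CategoryTheory.Limits AlgebraicGeometry Opposite in
/-- A presheaf of sets on schemes over S is an h sheaf if and only if it is a Zariski sheaf, satisfies
the sheaf condition for surjective flat proper morphisms of finite presentation onto affine
S-schemes, and turns every almost blow up square of S-schemes with affine bottom right corner into a
cartesian square of sets. -/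
theorem result (S : Scheme.{u}) (F : (Over S)ᵒᵖ ⥤ Type w) : Presieve.IsSheaf (HTop.Jh S) F ↔ (Presieve.IsSheaf (Scheme.zariskiTopology.over S) F ∧ (∀ (X Y : Over S) (f : X ⟶ Y), IsAffine Y.left → Surjective f.left → Flat f.left → IsProper f.left → LocallyOfFinitePresentation f.left → Presieve.IsSheafFor F (Presieve.singleton f)) ∧ ∀ (E Z X' X : Over S) (e : E ⟶ X') (π : E ⟶ Z) (b : X' ⟶ X) (i : Z ⟶ X), IsAffine X.left → HTop.IsAlmostBlowUpSquare e.left π.left b.left i.left → ∀ (t : F.obj (op Z)) (s' : F.obj (op X')), F.map π.op t = F.map e.op s' → ∃! s : F.obj (op X), F.map i.op s = t ∧ F.map b.op s = s') := by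
  refine ⟨fun h => ⟨(HTop83.isSheaf_Jh_iff.1 h).1, fun X Y f hY hs _ hp hfp =>
    (HTop83.isSheaf_Jh_iff.1 h).2 Y X f hY hp hs hfp, fun E Z X' X e π b i _ hsq t s' hts =>
      HTop83.SquareGlue.existsUnique_glue_almostBlowUp h e π b i hsq t s' hts⟩, fun ⟨hZ, hflat, hsq⟩ => ?_⟩
  exact HTop83.isSheaf_Jh_of_basicCovers hZ (HTop83.hasBasicCovers_finOver hZ hflat
    fun E Z X' X e π b i hX h _ => hsq E Z X' X e π b i hX h)

end Groth.Agent.S8989
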