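import Groth.Statements.S9005
import Groth.Agent.FlatPureHx.UnivInj
-- import your own Groth.Agent.* helpers here

set_option autoImplicit false
universe u
open FlatMor

set_option linter.style.haveILetI false
namespace Groth.Agent.S9005

attribute [local instance] Algebra.TensorProduct.rightAlgebra

/-- For an affine finite type morphism Spec B → Spec A: a finite B-module which is projective as an
A-module is universally pure over Spec A. (The published statement allows any base scheme S and asks
the direct image to be locally projective; over an affine base a projective module gives such a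
direct image, so this row is that case.) -/
theorem result {A B : Type u} [CommRing A] [CommRing B] [Algebra A B] [Algebra.FiniteType A B] (N : Type u) [AddCommGroup N] [Module B N] [Module A N] [IsScalarTower A B N] [Module.Finite B N] [Module.Projective A N] : FlatCA.IsUnivPure A B N := by
  intro p _ A' B' N' _ _ _ _ _ _ _ _ _ _ _ _ _ _ g t' t _ _ P _ himp
  obtain ⟨hpush, hbc, htt, -, hP, hass, hno⟩ := himp
  classical
  haveI : Module.Projective A' N' := by
    letI : Module A N' := Module.compHom N' (algebraMap A A')
    haveI : IsScalarTower A A' N' := IsScalarTower.of_algebraMap_smul fun _ _ => rfl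
    haveI : IsScalarTower A B N' := IsScalarTower.of_algebraMap_smul fun r x => by
      show algebraMap A B r • x = algebraMap A A' r • x
      rw [← algebraMap_smul B' (algebraMap A B r) x, ← algebraMap_smul B' (algebraMap A A' r) x,
        ← IsScalarTower.algebraMap_apply A B B', ← IsScalarTower.algebraMap_apply A A' B']
    have h : IsBaseChange A' (g.restrictScalars A) := FlatPureHx.isBaseChange_of_isPushout hbc
    exact Module.Projective.of_equiv h.equiv
  -- an element of `P` congruent modulo `t` to an element outside `t`
  have hmeet : ∃ a, a ∉ t ∧ algebraMap A' B' a ∈ P ⊔ t.map (algebraMap A' B') := by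
    by_contra hcon
    have hd : Disjoint ((P ⊔ t.map (algebraMap A' B') : Ideal B') : Set B')
        (Algebra.algebraMapSubmonoid B' t.primeCompl : Set B') := by
      rw [Set.disjoint_right]
      rintro _ ⟨a, ha, rfl⟩ h
      exact hcon ⟨a, ha, h⟩
    obtain ⟨Q, hQ, hle, hQd⟩ := Ideal.exists_le_prime_disjoint _ _ hd
    refine hno Q (le_sup_left.trans hle) ⟨le_antisymm (fun a ha => ?_) (fun a ha => ?_)⟩
    · exact hle ((le_sup_right : _ ≤ P ⊔ t.map (algebraMap A' B')) (Ideal.mem_map_of_mem _ ha))
    · by_contra hat
      exact Set.disjoint_left.1 hQd ha ⟨a, hat, rfl⟩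
  obtain ⟨a, ha, hmem⟩ := hmeet
  obtain ⟨b, hb, c, hc, hbc'⟩ := Submodule.mem_sup.1 hmem
  have hreg : IsSMulRegular (FlatCA.fiberMod t' B' N') b := by
    refine FlatPureHx.isSMulRegular_fiberMod t' N' b
      (FlatPureHx.injective_lTensor_residueField_of_le _ t t' htt a ha fun x => ?_)
    have hx : c • x ∈ t • (⊤ : Submodule A' N') :=
      AssFiber.mem_smul_top_of_mem_pN t N' (Submodule.smul_mem_smul hc Submodule.mem_top)
    have he : b • x - a • x = -(c • x) := by
      rw [← algebraMap_smul B' a x, ← hbc', add_smul]; abel
    show b • x - a • x ∈ _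
    rw [he]
    exact neg_mem hx
  obtain ⟨hprime, x, hx⟩ := hass
  have hbQ : algebraMap B' (t'.Fiber B') b ∈ FlatCA.fiberIdeal t' P := Ideal.mem_map_of_mem _ hb
  rw [hx] at hbQ
  obtain ⟨n, hn⟩ := hbQ
  rw [Submodule.mem_colon_singleton, Submodule.mem_bot, ← map_pow, AssFiber.algebraMap_smul_fiberMod] at hn
  have hx0 : x = 0 := (hreg.pow n).right_eq_zero_of_smul hn
  subst hx0
  refine hprime.ne_top ((Ideal.eq_top_iff_one _).2 ?_)
  rw [hx]
  exact ⟨1, by rw [Submodule.mem_colon_singleton, Submodule.mem_bot, smul_zero]⟩

end Groth.Agent.S9005
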