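import Groth.Statements.S9008
-- import your own Groth.Agent.* helpers here

set_option autoImplicit false
universe u
open FlatMor

set_option linter.style.haveILetI false
namespace Groth.Agent.S9008

/-- For Spec B → Spec A affine of finite type: a finite B-module is universally pure along the fibre
over a prime p of A exactly when every base change of it along a ring map A → A' is pure along the
fibre over every prime of A' above p. -/
theorem result {A B : Type u} [CommRing A] [CommRing B] [Algebra A B] [Algebra.FiniteType A B] (N : Type u) [AddCommGroup N] [Module B N] [Module.Finite B N] (p : Ideal A) [p.IsPrime] : FlatCA.IsUnivPureAlong A B N p ↔ ∀ (A' B' N' : Type u) [CommRing A'] [CommRing B'] [Algebra A A'] [Algebra B B'] [Algebra A' B'] [Algebra A B'] [IsScalarTower A B B'] [IsScalarTower A A' B'] [Algebra.IsPushout A B A' B'] [AddCommGroup N'] [Module B' N'] [Module B N'] [IsScalarTower B B' N'] (g : N →ₗ[B] N'), IsBaseChange B' g → ∀ (p' : Ideal A') [p'.IsPrime], p'.LiesOver p → FlatCA.IsPureAlong A' B' N' p' := by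
  constructor
  · intro h A' B' N' _ _ _ _ _ _ _ _ hpush _ _ _ _ g hg p' _ hp' A'' B'' N'' _ _ _ _ _ _ _ _ _ _ _ _ _ _ g' t' t _ _ P _ _ himp
    obtain ⟨hpush', hbc', htt, ht, hP, hass, hno⟩ := himp
    letI : Algebra A A'' := ((algebraMap A' A'').comp (algebraMap A A')).toAlgebra
    haveI : IsScalarTower A A' A'' := IsScalarTower.of_algebraMap_eq fun _ => rfl
    letI : Algebra B B'' := ((algebraMap B' B'').comp (algebraMap B B')).toAlgebra
    haveI : IsScalarTower B B' B'' := IsScalarTower.of_algebraMap_eq fun _ => rfl
    letI : Algebra A B'' := ((algebraMap A'' B'').comp (algebraMap A A'')).toAlgebra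
    haveI : IsScalarTower A A'' B'' := IsScalarTower.of_algebraMap_eq fun _ => rfl
    haveI : IsScalarTower A B B'' := IsScalarTower.of_algebraMap_eq fun x => by
      show algebraMap A'' B'' (algebraMap A' A'' (algebraMap A A' x)) =
        algebraMap B' B'' (algebraMap B B' (algebraMap A B x))
      rw [← IsScalarTower.algebraMap_apply A' A'' B'', IsScalarTower.algebraMap_apply A' B' B'',
        ← IsScalarTower.algebraMap_apply A A' B', ← IsScalarTower.algebraMap_apply A B B']
    haveI : IsScalarTower A B' B'' := IsScalarTower.of_algebraMap_eq fun x => by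
      show algebraMap A'' B'' (algebraMap A' A'' (algebraMap A A' x)) = _
      rw [← IsScalarTower.algebraMap_apply A' A'' B'', IsScalarTower.algebraMap_apply A' B' B'',
        ← IsScalarTower.algebraMap_apply A A' B']
    haveI : IsScalarTower A A' B'' := IsScalarTower.of_algebraMap_eq fun x => by
      show algebraMap A'' B'' (algebraMap A' A'' (algebraMap A A' x)) = _
      rw [← IsScalarTower.algebraMap_apply A' A'' B'']
    letI : Module B N'' := Module.compHom N'' (algebraMap B B')
    haveI : IsScalarTower B B' N'' := IsScalarTower.of_algebraMap_smul fun _ _ => rfl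
    haveI : IsScalarTower B B'' N'' := IsScalarTower.of_algebraMap_smul fun b x => by
      show algebraMap B' B'' (algebraMap B B' b) • x = algebraMap B B' b • x
      rw [algebraMap_smul]
    refine h A'' B'' N'' ((g'.restrictScalars B).comp g) t' t P
      ⟨?_, hg.comp hbc', htt, ⟨?_⟩, hP, hass, hno⟩
    · haveI := hpush.symm
      exact ((Algebra.IsPushout.comp_iff (R := A) (S := A') (T := A'') (R' := B) (S' := B') (T' := B'')).2
        hpush'.symm).symm
    · rw [hp'.over, ht.over, Ideal.under_under]
  · intro h A' B' N' _ _ _ _ _ _ _ _ _ _ _ _ _ _ f t' t _ _ P _ himp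
    obtain ⟨hpush, hbc, htt, ht, hP, hass, hno⟩ := himp
    haveI := hpush
    refine h A' B' N' f hbc t ht A' B' N' LinearMap.id t' t P ?_
      ⟨inferInstance, IsBaseChange.of_equiv ((TensorProduct.lid B' N')) (fun x => by simp), htt, ⟨?_⟩, hP, hass, hno⟩
    · refine ⟨inferInstance, ⟨?_⟩, ?_⟩
      · simp [Ideal.under, Ideal.comap_id]
      · have e : Algebra.ofId A' A' = AlgHom.id A' A' := Subsingleton.elim _ _
        simp only [e, Ideal.ResidueField.mapₐ_id]
        exact Function.bijective_id
    · simp [Ideal.under, Ideal.comap_id]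

end Groth.Agent.S9008
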