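import Groth.Statements.S9009
import Groth.Agent.FibFlat14.Scheme
import Groth.Agent.FlatFunHx.Flat
-- import your own Groth.Agent.* helpers here

set_option autoImplicit false
universe u
open FlatMor

set_option backward.isDefEq.respectTransparency false
set_option linter.style.haveILetI false
open CategoryTheory AlgebraicGeometry

namespace Groth.Agent.S9009


open CategoryTheory CategoryTheory.Limits AlgebraicGeometry in
/-- For f : X → S locally of finite type and a finite type quasi-coherent O_X-module F, the non-flat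
locus of F in every fibre has dimension less than n if and only if every point where F is not flat
over S has residue field of transcendence degree less than n over the residue field of its image.
(The non-flat locus of the fibre over s is taken with the subspace topology from X, which is that of
the fibre. The published statement adds that when these conditions hold they continue to hold after
any base change S' → S; this row states only the equivalence.) -/
theorem result {X S : Scheme.{u}} (f : X ⟶ S) [LocallyOfFiniteType f] (F : X.Modules) [Coh.IsQCoh F] (hF : CohB1.IsFT F) (n : ℕ) : (∀ s : S, topologicalKrullDim {x : X // f.base x = s ∧ ¬ FlatMod.IsFlatOverAt f F x} < n) ↔ ∀ x : X, ¬ FlatMod.IsFlatOverAt f F x → ∀ [Algebra (S.residueField (f.base x)) (X.residueField x)], algebraMap (S.residueField (f.base x)) (X.residueField x) = (f.residueFieldMap x).hom → Algebra.trdeg (S.residueField (f.base x)) (X.residueField x) < n := by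
  let T : Set X := {x | ¬ FlatMod.IsFlatOverAt f F x}
  have key : ∀ s : S, topologicalKrullDim {x : X // f.base x = s ∧ ¬ FlatMod.IsFlatOverAt f F x} =
      ⨆ z : ↥(closure (T ∩ f ⁻¹' {s}) ∩ f ⁻¹' {s}), ((FibDim.rd f z.1 : ℕ∞) : WithBot ℕ∞) ∧
      closure (T ∩ f ⁻¹' {s}) ∩ f ⁻¹' {s} = T ∩ f ⁻¹' {s} := by
    intro s
    have heq : closure (T ∩ f ⁻¹' {s}) ∩ f ⁻¹' {s} = T ∩ f ⁻¹' {s} := by
      refine Set.Subset.antisymm ?_ fun z hz => ⟨subset_closure hz, hz.2⟩
      rintro z ⟨hz, hzs⟩
      refine ⟨fun hflat => ?_, hzs⟩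
      obtain ⟨W, hzW, hW⟩ := Groth.Agent.FibFlat14.exists_open_fibre_flat f F hF z hflat
      obtain ⟨y, hyW, hyT, hys⟩ := mem_closure_iff.1 hz W W.isOpen hzW
      exact hyT (hW y hyW ((Set.mem_singleton_iff.1 hys).trans (Set.mem_singleton_iff.1 hzs).symm))
    refine ⟨?_, heq⟩
    rw [← FibDim.dim_closed_inter_eq_iSup f s isClosed_closure]
    let e : {x : X // f.base x = s ∧ ¬ FlatMod.IsFlatOverAt f F x} ≃ₜ ↥(closure (T ∩ f ⁻¹' {s}) ∩ f ⁻¹' {s}) :=
      Homeomorph.setCongr (s := {x | f.base x = s ∧ ¬ FlatMod.IsFlatOverAt f F x}) (by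
        rw [heq]; ext z; exact and_comm)
    exact e.isHomeomorph.topologicalKrullDim_eq
  have htr : ∀ x : X, (∀ [Algebra (S.residueField (f.base x)) (X.residueField x)],
      algebraMap (S.residueField (f.base x)) (X.residueField x) = (f.residueFieldMap x).hom →
        Algebra.trdeg (S.residueField (f.base x)) (X.residueField x) < n) ↔ FibDim.rd f x < n := by
    intro x
    have h0 := FibDim.rd_eq_rdeg f x
    letI alg : Algebra (S.residueField (f.base x)) (X.residueField x) := (f.residueFieldMap x).hom.toAlgebra
    have h1 : (FibDim.rd f x : Cardinal) = Algebra.trdeg (S.residueField (f.base x)) (X.residueField x) := h0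
    constructor
    · intro h
      have h2 := @h alg rfl
      rw [← h1] at h2
      exact_mod_cast h2
    · intro h inst hinst
      have : inst = alg := Algebra.algebra_ext _ _ fun r => congrArg (fun φ => φ r) hinst
      subst this
      rw [← h1]
      exact_mod_cast h
  constructor
  · intro h x hx
    refine (htr x).2 ?_
    obtain ⟨h1, h2⟩ := key (f x)
    have h3 := (le_iSup (fun z : ↥(closure (T ∩ f ⁻¹' {f x}) ∩ f ⁻¹' {f x}) => ((FibDim.rd f z.1 : ℕ∞) : WithBot ℕ∞))
      ⟨x, h2.ge ⟨hx, rfl⟩⟩).trans_lt (h1 ▸ h (f x))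
    exact_mod_cast h3
  · intro h s
    obtain ⟨h1, h2⟩ := key s
    rw [h1]
    cases n with
    | zero =>
      haveI : IsEmpty ↥(closure (T ∩ f ⁻¹' {s}) ∩ f ⁻¹' {s}) :=
        ⟨fun z => Nat.not_lt_zero _ ((htr z.1).1 (h z.1 (h2.le z.2).1))⟩
      rw [iSup_of_empty]
      exact WithBot.bot_lt_coe _
    | succ m =>
      refine lt_of_le_of_lt (b := ((m : ℕ∞) : WithBot ℕ∞)) (iSup_le fun z => ?_) ?_
      · exact_mod_cast Nat.lt_succ_iff.1 ((htr z.1).1 (h z.1 (h2.le z.2).1))
      · exact_mod_cast Nat.lt_succ_self m

end Groth.Agent.S9009
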