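import Groth.Statements.S9011
import Groth.Agent.FlatPureHx.UnivInj
-- import your own Groth.Agent.* helpers here

set_option autoImplicit false
universe u
open FlatMor

namespace Groth.Agent.S9011

open TensorProduct

open IsLocalRing in
/-- For a local ring R with maximal ideal m, an R-algebra S with S/mS Noetherian and an S-module N with
N/mN finite over S/mS which is projective as an R-module, every element of S that is a
nonzerodivisor on N/mN acts R-universally injectively on N, and the map from N to its localization
at all such elements is R-universally injective. -/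
theorem result {R S : Type u} [CommRing R] [IsLocalRing R] [CommRing S] [Algebra R S] (N : Type u) [AddCommGroup N] [Module S N] [Module R N] [IsScalarTower R S N] [IsNoetherianRing ((maximalIdeal R).Fiber S)] [Module.Finite ((maximalIdeal R).Fiber S) (FlatCA.fiberMod (maximalIdeal R) S N)] [Module.Projective R N] : (∀ s ∈ FlatCA.nzdFiber R S N, FlatCA.UnivInj R ((LinearMap.lsmul S N s).restrictScalars R)) ∧ FlatCA.UnivInj R ((LocalizedModule.mkLinearMap (FlatCA.nzdFiber R S N) N).restrictScalars R) := by
  have hpart : ∀ s ∈ FlatCA.nzdFiber R S N,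
      FlatCA.UnivInj R ((LinearMap.lsmul S N s).restrictScalars R) := by
    intro s hs Q _ _
    refine FlatPureHx.injective_lTensor_of_projective _ (fun x hx => ?_) Q
    have h0 : FlatCA.toFiberMod (maximalIdeal R) (S := S) N (s • x) = 0 :=
      AssFiber.toFiberMod_eq_zero_of_mem _ N (AssFiber.smul_mem_pN _ N hx)
    rw [map_smul] at h0
    obtain ⟨r, hr, hmem⟩ := AssFiber.exists_smul_mem_of_toFiberMod_eq_zero _ (S := S) N (hs _ h0)
    have hm := AssFiber.mem_smul_top_of_mem_pN _ N hmem
    rw [algebraMap_smul] at hm
    obtain ⟨u, rfl⟩ : IsUnit r := IsLocalRing.notMem_maximalIdeal.1 hr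
    simpa [smul_smul] using Submodule.smul_mem _ ((u⁻¹ : Rˣ) : R) hm
  refine ⟨hpart, fun Q _ _ => ?_⟩
  set sg := FlatCA.nzdFiber R S N
  rw [LinearMap.lTensor_inj_iff_rTensor_inj, injective_iff_map_eq_zero]
  intro x hx
  let cmpl : Q →ₗ[R] N →ₗ[S] N ⊗[R] Q :=
    { toFun := fun q =>
        { toFun := fun n => n ⊗ₜ[R] q
          map_add' := fun a b => TensorProduct.add_tmul a b q
          map_smul' := fun a b => rfl }
      map_add' := fun a b => LinearMap.ext fun n => TensorProduct.tmul_add n a b
      map_smul' := fun r q => LinearMap.ext fun n => TensorProduct.tmul_smul r n q }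
  let ψ : LocalizedModule sg N ⊗[R] Q →+ LocalizedModule sg (N ⊗[R] Q) :=
    TensorProduct.liftAddHom
      { toFun := fun z =>
          { toFun := fun q => IsLocalizedModule.map sg (LocalizedModule.mkLinearMap sg N)
              (LocalizedModule.mkLinearMap sg (N ⊗[R] Q)) (cmpl q) z
            map_zero' := by simp
            map_add' := fun a b => by simp }
        map_zero' := by ext q; simp
        map_add' := fun a b => by ext q; simp }
      fun r z q => by
        simp only [AddMonoidHom.coe_mk, ZeroHom.coe_mk]
        rw [map_smul cmpl, ← algebraMap_smul S r (cmpl q),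
          LinearMap.map_smul (IsLocalizedModule.map sg (LocalizedModule.mkLinearMap sg N)
            (LocalizedModule.mkLinearMap sg (N ⊗[R] Q))), LinearMap.smul_apply, algebraMap_smul,
          LinearMap.map_smul_of_tower]
  have hψ : ∀ y : N ⊗[R] Q, ψ (((LocalizedModule.mkLinearMap sg N).restrictScalars R).rTensor Q y) =
      LocalizedModule.mkLinearMap sg (N ⊗[R] Q) y := by
    intro y
    induction y with
    | zero => simp
    | add a b ha hb => simp only [map_add, ha, hb]
    | tmul n q =>
      exact IsLocalizedModule.map_apply sg (LocalizedModule.mkLinearMap sg N)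
        (LocalizedModule.mkLinearMap sg (N ⊗[R] Q)) (cmpl q) n
  have h1 : LocalizedModule.mkLinearMap sg (N ⊗[R] Q) x = 0 := by rw [← hψ, hx, map_zero]
  obtain ⟨s, hs⟩ := (IsLocalizedModule.eq_zero_iff sg (LocalizedModule.mkLinearMap sg (N ⊗[R] Q))).1 h1
  have h2 : ((LinearMap.lsmul S N (s : S)).restrictScalars R).rTensor Q x = (s : S) • x := by
    clear hs h1 hψ hx
    induction x with
    | zero => simp
    | add a b ha hb => simp only [map_add, smul_add, ha, hb]
    | tmul n q => rfl
  refine (injective_iff_map_eq_zero _).1
    ((LinearMap.lTensor_inj_iff_rTensor_inj _ _).1 (hpart (s : S) s.2 Q)) x ?_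
  rw [h2]
  exact hs

end Groth.Agent.S9011
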