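import Groth.Statements.S9027
import Groth.Agent.FlatFunHx.Flat
import Groth.Agent.AlgSpLib.EtLocalInst

set_option autoImplicit false
set_option backward.isDefEq.respectTransparency false
universe u
open FlatMor

namespace Groth.Agent.S9027

open CategoryTheory CategoryTheory.Limits AlgebraicGeometry Opposite in
/-- For f : X → S locally of finite type, F a quasi-coherent O_X-module of finite type, an etale
morphism h : X' → X and n ≥ 0, the functor F_n of F over S is a subfunctor of the functor F_n of the
pullback h^*F on X' over S: for every scheme T over S, if the base change F_T on X ×_S T is flat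
over T in dimensions ≥ n (transcendence-degree form) then so is the base change of h^*F on X' ×_S T. -/
theorem result {X X' S : Scheme.{u}} (f : X ⟶ S) [LocallyOfFiniteType f] (F : X.Modules) [Coh.IsQCoh F] (hF : CohB1.IsFT F)
    (h : X' ⟶ X) [Etale h] (n : ℕ) (T : Over S)
    (hT : FlatFun.DimFibresLT n (PicF.XTproj f T)
        {x | ¬ FlatMod.IsFlatOverAt (PicF.XTproj f T) (FGA.ET f F T) x}) :
    FlatFun.DimFibresLT n (PicF.XTproj (h ≫ f) T)
        {x | ¬ FlatMod.IsFlatOverAt (PicF.XTproj (h ≫ f) T) (FGA.ET (h ≫ f) ((Scheme.Modules.pullback h).obj F) T) x} := by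
  let m : PicF.XT (h ≫ f) T ⟶ PicF.XT f T :=
    pullback.map (h ≫ f) T.hom f T.hom h (𝟙 _) (𝟙 _) (by simp) (by simp)
  have h1 : m ≫ pullback.fst f T.hom = pullback.fst (h ≫ f) T.hom ≫ h := pullback.lift_fst _ _ _
  have h2 : m ≫ PicF.XTproj f T = PicF.XTproj (h ≫ f) T :=
    (pullback.lift_snd _ _ _).trans (Category.comp_id _)
  have hsq : IsPullback (pullback.fst (h ≫ f) T.hom) m h (pullback.fst f T.hom) :=
    IsPullback.of_bot (by rw [h2]; exact IsPullback.of_hasPullback (h ≫ f) T.hom) h1.symm
      (IsPullback.of_hasPullback f T.hom)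
  haveI : Etale m := MorphismProperty.of_isPullback (P := @Etale) hsq inferInstance
  rw [Groth.Agent.FlatFunHx.dimFibresLT_iff] at hT ⊢
  intro x' hx'
  have hrd : FibDim.rd (PicF.XTproj (h ≫ f) T) x' = FibDim.rd (PicF.XTproj f T) (m x') := by
    show _ = _
    rw [← h2, FibDim.rd_comp, FibDim.rd_eq_zero_of_quasiFinite m x', add_zero]
  rw [hrd]
  refine hT (m x') fun hc => hx' ?_
  rw [← h2]
  refine GrFlat5.isFlatOverAt_of_iso _ ?_ x'
    (Groth.Agent.FlatFunHx.isFlatOverAt_pullback_of_flat _ m _ x' (Flat.stalkMap m x') hc)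
  exact (Scheme.Modules.pullbackComp m (pullback.fst f T.hom)).app F ≪≫
    (Scheme.Modules.pullbackCongr h1).app F ≪≫
    ((Scheme.Modules.pullbackComp (pullback.fst (h ≫ f) T.hom) h).app F).symm

end Groth.Agent.S9027
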