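import Groth.Statements.S9036
import Groth.Agent.DSites.CompactRetract
import Groth.Agent.DSites.CollSum
import Groth.Agent.DSites.FPB.Basic
-- import your own Groth.Agent.* helpers here

set_option autoImplicit false
universe u
open CategoryTheory CategoryTheory.Limits Opposite
open ModSite

namespace Groth.Agent.S9036

/-- Let (C, O) be a ringed site in which every object has a covering by quasi-compact objects (an object
U is called quasi-compact here when the sheaf h_U^# is a quasi-compact object of the topos, which is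
equivalent to the site-level definition). Then every compact object of D(O) is a retract in D(O) of
the image of a bounded complex whose terms are finite direct sums of modules of the form j_{U!} O_U
with U quasi-compact. The derived category of O-modules, direct sums in it and finite biproducts of
O-modules (automatic) are instance hypotheses. -/
theorem result
    {C : Type u} [SmallCategory C] {J : GrothendieckTopology C} (O : Sheaf J CommRingCat.{u})
    [HasFiniteBiproducts (ModSite.Mod O)]
    [HasDerivedCategory.{u} (ModSite.Mod O)] [HasCoproducts.{u} (DerivedCategory (ModSite.Mod O))]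
    (hC : ∀ V : C, ∃ R ∈ J V, ∀ ⦃W : C⦄ (g : W ⟶ V), R g →
      ∃ (U : C) (a : W ⟶ U) (b : U ⟶ V), CohCx.IsQcObject ((presheafToSheaf J (Type u)).obj (yoneda.obj U)) ∧ a ≫ b = g)
    (K : DerivedCategory (ModSite.Mod O)) (hK : CohDer.IsCompactObject K) :
    ∃ (L : CochainComplex (ModSite.Mod O) ℤ) (a b : ℤ),
      (∀ i : ℤ, i < a ∨ b < i → IsZero (L.X i)) ∧
      (∀ i : ℤ, ∃ (n : ℕ) (U : Fin n → C),
        (∀ j, CohCx.IsQcObject ((presheafToSheaf J (Type u)).obj (yoneda.obj (U j)))) ∧
        Nonempty (L.X i ≅ ⨁ fun j => ModSite.freeOn O (U j))) ∧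
      Nonempty (Retract K (DerivedCategory.Q.obj L)) := by
  classical
  let S : Set (ModSite.Mod O) := {E | ∃ U : C,
    CohCx.IsQcObject ((presheafToSheaf J (Type u)).obj (yoneda.obj U)) ∧ E = ModSite.freeOn O U}
  have h2 : ∀ E ∈ S, ∀ ι : Type u,
      PreservesColimitsOfShape (Discrete ι) (preadditiveCoyoneda.obj (op E)) := by
    rintro E ⟨U, hU, rfl⟩ ι
    exact DSites.FPB.preservesColimitsOfShape_hom_freeOn O ι (DSites.FPB.isQCSite_of_isQcObject U hU)
  have h1 : ∀ X : ModSite.Mod O, ∃ (ι : Type u) (E : ι → ModSite.Mod O) (π : ∐ E ⟶ X),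
      (∀ i, E i ∈ S) ∧ Epi π := fun X => by
    let G : ModSite.Mod O ⥤ Sheaf J AddCommGrpCat.{u} := SheafOfModules.toSheaf (ModSite.ringSh O)
    let ι : Type u := Σ U : {U : C // CohCx.IsQcObject ((presheafToSheaf J (Type u)).obj (yoneda.obj U))},
      (G.obj X).obj.obj (op U.1)
    refine ⟨ι, fun i => ModSite.freeOn O i.1.1,
      Sigma.desc fun i => (DSites.CollSum.freeSec i.1.1 X).symm i.2,
      fun i => ⟨i.1.1, i.1.2, rfl⟩, ?_⟩
    suffices h : Epi (G.map (Sigma.desc fun i : ι => (DSites.CollSum.freeSec i.1.1 X).symm i.2)) from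
      G.epi_of_epi_map h
    refine (Sheaf.isLocallySurjective_iff_epi' _ _).1 ⟨fun {V} x => ?_⟩
    obtain ⟨R, hR, hfac⟩ := hC V
    refine J.superset_covering (fun W g hg => ?_) hR
    obtain ⟨U, a, b, hU, rfl⟩ := hfac g hg
    let i : ι := ⟨⟨U, hU⟩, ((G.obj X).obj.map b.op).hom x⟩
    let y := DSites.CollSum.freeSec U _ (Sigma.ι (fun i : ι => ModSite.freeOn O i.1.1) i)
    refine ⟨((G.obj (∐ fun i : ι => ModSite.freeOn O i.1.1)).obj.map a.op).hom y, ?_⟩
    refine (ConcreteCategory.congr_hom ((G.map _).hom.naturality a.op) y).trans ?_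
    have hy : ((G.map (Sigma.desc fun i : ι => (DSites.CollSum.freeSec i.1.1 X).symm i.2)).hom.app
        (op U)).hom y = ((G.obj X).obj.map b.op).hom x := by
      rw [← DSites.CollSum.freeSec_comp, Sigma.ι_desc]
      exact (DSites.CollSum.freeSec U X).apply_symm_apply _
    refine (congrArg ((G.obj X).obj.map a.op).hom hy).trans ?_
    exact (ConcreteCategory.congr_hom ((G.obj X).obj.map_comp b.op a.op) x).symm
  obtain ⟨L, a, b, hz, hfin, hr⟩ := DSites.CompactRetract.exists_retract S h2 h1 hK
  refine ⟨L, a, b, hz, fun i => ?_, hr⟩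
  obtain ⟨n, E, hE, ⟨e⟩⟩ := hfin i
  choose U hU hUE using hE
  exact ⟨n, U, hU, ⟨e ≪≫ biproduct.mapIso fun j => eqToIso (hUE j)⟩⟩

end Groth.Agent.S9036
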