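import Groth.Statements.S9037
import Groth.Agent.DSites.CollSum
import Groth.Agent.DSites.BddCompactFinDim
-- import your own Groth.Agent.* helpers here

set_option autoImplicit false
universe u
open CategoryTheory CategoryTheory.Limits Opposite
open ModSite

namespace Groth.Agent.S9037

/-- On a ringed site (C, O), if U is a quasi-compact object (h_U^# is a quasi-compact object of the
topos, which is equivalent to the site-level notion) which is weakly contractible, then j_{U!} O_U,
placed in degree zero, is a compact object of the derived category D(O). The derived category of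
O-modules and direct sums in it are instance hypotheses. -/
theorem result
    {C : Type u} [SmallCategory C] {J : GrothendieckTopology C} (O : Sheaf J CommRingCat.{u})
    [HasDerivedCategory.{u} (ModSite.Mod O)] [HasCoproducts.{u} (DerivedCategory (ModSite.Mod O))]
    (U : C) (hqc : CohCx.IsQcObject ((presheafToSheaf J (Type u)).obj (yoneda.obj U)))
    (hwc : CohSite.IsWeaklyContractible J U) :
    CohDer.IsCompactObject ((DerivedCategory.singleFunctor (ModSite.Mod O) 0).obj (ModSite.freeOn O U)) := by
  intro ι M
  have := ModTensor.preservesColimits_toSheaf O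
  let G : ModSite.Mod O ⥤ Sheaf J AddCommGrpCat.{u} := SheafOfModules.toSheaf (ModSite.ringSh O)
  have hP : Projective (ModSite.freeOn O U) := ⟨fun {E X} f e _ => by
    have h := (Sheaf.isLocallySurjective_iff_epi' _ (G.map e)).2 inferInstance
    let ψ := (sheafCompose J (forget AddCommGrpCat.{u})).map (G.map e)
    have : Sheaf.IsLocallySurjective ψ :=
      (Presheaf.isLocallySurjective_iff_whisker_forget J (G.map e).hom).1 h
    obtain ⟨y, hy⟩ := hwc _ _ ψ (Sheaf.epi_of_isLocallySurjective _) (DSites.CollSum.freeSec U X f)
    refine ⟨(DSites.CollSum.freeSec U E).symm y, (DSites.CollSum.freeSec U X).injective ?_⟩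
    rw [DSites.CollSum.freeSec_comp]
    exact (congrArg _ ((DSites.CollSum.freeSec U E).apply_symm_apply y)).trans hy⟩
  have hd : ∀ (F : ModSite.Mod O) (i : ℕ), 0 < i → Subsingleton (Abelian.Ext.{u} (ModSite.freeOn O U) F i) :=
    fun F i hi => by
      obtain ⟨k, rfl⟩ : ∃ k, i = k + 1 := ⟨i - 1, by omega⟩
      exact @subsingleton_of_forall_eq _ 0 fun x => Abelian.Ext.eq_zero_of_projective (P := ModSite.freeOn O U) x
  refine DSites.PartProj.bijective_homSumToHomCoprod M
    (DSites.BddCompact.fixAt_of_finite_dim (d := 0) hd (fun n F x => ?_) M)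
  match n, x with
  | 0, x =>
    obtain ⟨φ, rfl⟩ := (Abelian.Ext.mk₀_bijective _ _).2 x
    have := DSites.FPB.preservesColimitsOfShape_hom_freeOn O ι (DSites.FPB.isQCSite_of_isQcObject U hqc)
    obtain ⟨S, hS⟩ := DSites.BddCompact.exists_fix_of_preserves
      (preadditiveCoyoneda.obj (op (ModSite.freeOn O U))) F φ
    exact ⟨S, by rw [Abelian.Ext.mk₀_comp_mk₀]; exact congrArg Abelian.Ext.mk₀ hS⟩
  | k + 1, x => exact ⟨∅, (hd _ _ (Nat.succ_pos k)).elim _ _⟩

end Groth.Agent.S9037
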