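import Groth.Statements.S9064
import Groth.Agent.DSites.Vanish
import Mathlib.Data.Int.Interval
-- import your own Groth.Agent.* helpers here

set_option autoImplicit false
universe u
open CategoryTheory CategoryTheory.Limits Opposite
attribute [local instance] HasDerivedCategory.standard
open ModSite

namespace Groth.Agent.S9064

/-- Let (C, O) be a ringed site, A ⊂ Mod(O) a weak Serre subcategory and B a set of objects such that
every object has a covering by members of B and every V ∈ B has an integer d_V and a cofinal system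
of coverings {V_i → V} with H^p(V_i, F) = 0 for all F ∈ A and p > d_V. Let (K_n) be an inverse
system in D^+_A(O) such that for every j the system (H^j(K_n))_n is eventually constant, with value
H^j say. Then H^j(R lim K_n) = H^j: for a derived limit L of (K_n) through maps a_n : L → K_n, each
H^j(a_n) is an isomorphism for n large. Cofinality is expressed by asking every covering sieve of V
to contain such a covering family; H^p(V, -) of a module is the cohomology of its underlying abelian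
sheaf; the product of the K_n is an instance hypothesis. -/
theorem result
    {C : Type u} [SmallCategory C] {J : GrothendieckTopology C} (O : Sheaf J CommRingCat.{u})
    (A : ObjectProperty (ModSite.Mod O)) [WSerre.IsWeakSerre A] (B : Set C)
    (hB : ∀ U : C, ∃ (ι : Type u) (Y : ι → C) (g : ∀ i, Y i ⟶ U), Sieve.ofArrows Y g ∈ J U ∧ ∀ i, Y i ∈ B)
    (hA : ∀ V ∈ B, ∃ d : ℕ, ∀ T ∈ J V, ∃ (ι : Type u) (Y : ι → C) (g : ∀ i, Y i ⟶ V),
      (∀ i, T.arrows (g i)) ∧ Sieve.ofArrows Y g ∈ J V ∧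
      ∀ (i : ι) (F : ModSite.Mod O), A F → ∀ k : ℕ, d < k → Subsingleton (ModSite.HU O F k (Y i)))
    (K : ℕ → DerivedCategory (ModSite.Mod O)) (t : ∀ n, K (n + 1) ⟶ K n) [HasProduct K]
    (hK : ∀ n, WSerre.cohInPlus A (K n))
    (hconst : ∀ j : ℤ, ∃ n₀ : ℕ, ∀ n, n₀ ≤ n →
      IsIso ((DerivedCategory.homologyFunctor (ModSite.Mod O) j).map (t n)))
    (L : DerivedCategory (ModSite.Mod O)) (a : ∀ n, L ⟶ K n) (hL : CohCx.IsRlimVia K t L a) (j : ℤ) :
    ∃ n₀ : ℕ, ∀ n, n₀ ≤ n → IsIso ((DerivedCategory.homologyFunctor (ModSite.Mod O) j).map (a n)) := by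
  choose N₀ hN₀ using hconst
  refine ⟨N₀ j, fun n hn => ?_⟩
  refine Groth.Agent.DSites.isIso_H_rlim_mod O hL hB j n (fun k hk => hN₀ j k (by omega))
    fun V hV => ?_
  obtain ⟨d, hd⟩ := hA V hV
  refine ⟨(Finset.Icc (j - 1 - (d : ℤ)) (j + 1)).sup N₀, fun T hT => ?_⟩
  obtain ⟨ι, Y, f, hf, hcov, hv⟩ := hd T hT
  refine ⟨ι, Y, f, hf, hcov, fun i p hp Q g c hQ => ⟨?_, fun q k hqk => ?_⟩⟩
  · obtain ⟨a₁, h₁⟩ := (hK (p + 1)).2
    obtain ⟨a₂, h₂⟩ := (hK p).2
    have := h₁
    have := h₂
    have : (K (p + 1)).IsGE (min a₁ a₂) :=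
      DerivedCategory.TStructure.t.isGE_of_ge _ (min a₁ a₂) a₁ (min_le_left _ _)
    have : (K p).IsGE (min a₁ a₂) :=
      DerivedCategory.TStructure.t.isGE_of_ge _ (min a₁ a₂) a₂ (min_le_right _ _)
    exact ⟨_, @Groth.Agent.DSites.isGE_obj₃ _ _ _ _ _ hQ (min a₁ a₂) ‹(K (p + 1)).IsGE _› ‹(K p).IsGE _›⟩
  · by_cases hk : d < k
    · exact hv i _ (Groth.Agent.DSites.cohIn_obj₃ A _ hQ (hK (p + 1)).1 (hK p).1 q) k hk
    · have hle : ∀ r ∈ Finset.Icc (j - 1 - (d : ℤ)) (j + 1), N₀ r ≤ p := fun r hr =>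
        (Finset.le_sup hr).trans hp
      have := hN₀ q p (hle q (Finset.mem_Icc.2 (by omega)))
      have := hN₀ (q + 1) p (hle (q + 1) (Finset.mem_Icc.2 (by omega)))
      exact Groth.Agent.DSites.subsingleton_HU_mod_of_isZero O
        (Groth.Agent.DSites.isZero_H_obj₃ _ hQ q
          (inferInstanceAs (Epi ((DerivedCategory.homologyFunctor _ q).map (t p))))
          (inferInstanceAs (Mono ((DerivedCategory.homologyFunctor _ (q + 1)).map (t p))))) k _

end Groth.Agent.S9064
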