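import Groth.Statements.S9069
import Groth.Agent.DSites.RpushFlat
-- import your own Groth.Agent.* helpers here

set_option autoImplicit false
universe u
open CategoryTheory CategoryTheory.Limits Opposite
attribute [local instance] HasDerivedCategory.standard
open SiteCmp

namespace Groth.Agent.S9069

/-- Let f be a flat morphism from the ringed site (C, O_C) to the ringed site (D, O_D) and A ⊂ Mod(O_C),
A' ⊂ Mod(O_D) weak Serre subcategories such that f^* induces an equivalence of categories A' → A and
F' → Rf_*f^*F' is an isomorphism for every F' ∈ A'. Then f^* : D^+_{A'}(O_D) → D^+_A(O_C) is an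
equivalence with quasi-inverse Rf_*: on bounded below objects with cohomology sheaves in A' (resp.
A) the functor f^* (resp. Rf_*) lands in bounded below objects with cohomology sheaves in A (resp.
A'), and the unit (resp. counit) of the adjunction is an isomorphism there. The adjunction f^* ⊣
Rf_* on unbounded derived categories is a hypothesis; f^* is exact, so it is its own derived
functor. Stated for ringed sites; the published statement is for ringed topoi. -/
theorem result
    {C : Type u} [SmallCategory C] {J : GrothendieckTopology C} {O_C : Sheaf J CommRingCat.{u}}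
    {D : Type u} [SmallCategory D] {K : GrothendieckTopology D} {O_D : Sheaf K CommRingCat.{u}}
    (f : ModSite.RMor O_C O_D) [PreservesFiniteLimits f.pull] [SiteCmp.HasRpushD f]
    (adj : SiteCmp.pullD f ⊣ SiteCmp.RpushD f)
    (A : ObjectProperty (ModSite.Mod O_C)) [WSerre.IsWeakSerre A]
    (A' : ObjectProperty (ModSite.Mod O_D)) [WSerre.IsWeakSerre A']
    (h2a : ∀ F' : ModSite.Mod O_D, A' F' → A (f.pull.obj F'))
    (h2b : ∀ F' G' : ModSite.Mod O_D, A' F' → A' G' →
      Function.Bijective (fun φ : F' ⟶ G' => f.pull.map φ))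
    (h2c : ∀ F : ModSite.Mod O_C, A F → ∃ F' : ModSite.Mod O_D, A' F' ∧ Nonempty (f.pull.obj F' ≅ F))
    (h3 : ∀ F' : ModSite.Mod O_D, A' F' → IsIso (adj.unit.app (SiteCmp.inD O_D F'))) :
    (∀ Y : DerivedCategory (ModSite.Mod O_D), WSerre.cohInPlus A' Y →
      WSerre.cohInPlus A ((SiteCmp.pullD f).obj Y) ∧ IsIso (adj.unit.app Y)) ∧
    (∀ X : DerivedCategory (ModSite.Mod O_C), WSerre.cohInPlus A X →
      WSerre.cohInPlus A' ((SiteCmp.RpushD f).obj X) ∧ IsIso (adj.counit.app X)) := by
  refine ⟨fun Y ⟨hY, a, ha⟩ => ?_, fun X ⟨hX, a, ha⟩ => ?_⟩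
  · have := ha
    exact ⟨⟨Groth.Agent.DSites.cohIn_mapDerivedCategory f.pull A' A h2a Y hY, a,
        Groth.Agent.DSites.leftTExact_pullD f Y a ha⟩,
      Groth.Agent.DSites.isIso_unit_plus f adj Y a fun q => h3 _ (hY q)⟩
  · have := ha
    refine ⟨⟨?_, a, Groth.Agent.DSites.leftTExact_rpushD f X a ha⟩, ?_⟩
    · refine Groth.Agent.DSites.cohIn_rpushD_plus f A A' (fun M hM => ?_) X a hX
      obtain ⟨F', hF', ⟨e⟩⟩ := h2c M hM
      have := h3 F' hF'
      exact Groth.Agent.DSites.cohIn_of_iso A'
        (asIso (adj.unit.app (SiteCmp.inD O_D F')) ≪≫ (SiteCmp.RpushD f).mapIso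
          (Groth.Agent.DSites.pullDInD f F' ≪≫ (DerivedCategory.singleFunctor _ 0).mapIso e))
        (Groth.Agent.DSites.cohIn_single A' hF' 0)
    · refine Groth.Agent.DSites.isIso_counit_plus f adj X a fun q => ?_
      obtain ⟨F', hF', ⟨e⟩⟩ := h2c _ (hX q)
      exact Groth.Agent.DSites.isIso_counit_inD f adj e (h3 F' hF')

end Groth.Agent.S9069
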