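import Groth.Statements.S9071
import Groth.Agent.DSites.EpsEquiv
import Groth.Agent.S9080
-- import your own Groth.Agent.* helpers here

set_option autoImplicit false
universe u
open CategoryTheory CategoryTheory.Limits Opposite
attribute [local instance] HasDerivedCategory.standard
open SiteCmp

namespace Groth.Agent.S9071

/-- Let τ' be a coarser topology than τ on a category C, O a τ-sheaf of rings and ε the comparison
morphism from (C_τ, O) to (C_τ', O). Let B be a set of objects and A a full subcategory of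
presheaves of O-modules such that (1) every object of A is a τ-sheaf, (2) A forms a weak Serre
subcategory inside Mod(O_τ), (3) each object of C admits a τ'-covering by members of B, and (4)
H^p_τ(U, F) = 0 for U ∈ B, F ∈ A, p > 0. Then the essential image of A under ε_* forms a weak Serre
subcategory inside Mod(O_τ') and ε^*, Rε_* are quasi-inverse equivalences between D_A(O_τ') and
D_A(O_τ): on objects with cohomology sheaves in the respective subcategory, ε^* and Rε_* preserve
that condition and the unit and counit are isomorphisms. In the order of topologies used here the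
finer topology τ is the larger one, J, and τ' is J' ≤ J; A is given as a property of τ-sheaves of
modules (condition (1) built in); flatness of ε, existence of the unbounded Rε_* and an adjunction
ε^* ⊣ Rε_* are hypotheses. -/
theorem result
    {C : Type u} [SmallCategory C] {J J' : GrothendieckTopology C} (h : J' ≤ J) (O : Sheaf J CommRingCat.{u})
    [PreservesFiniteLimits (SiteCmp.eps h O).pull] [SiteCmp.HasRpushD (SiteCmp.eps h O)]
    (adj : SiteCmp.pullD (SiteCmp.eps h O) ⊣ SiteCmp.RpushD (SiteCmp.eps h O))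
    (A : ObjectProperty (ModSite.Mod O)) [WSerre.IsWeakSerre A] (B : Set C)
    (h3 : ∀ U : C, ∃ (ι : Type u) (Y : ι → C) (g : ∀ i, Y i ⟶ U), Sieve.ofArrows Y g ∈ J' U ∧ ∀ i, Y i ∈ B)
    (h4 : ∀ U ∈ B, ∀ F : ModSite.Mod O, A F → ∀ p : ℕ, 0 < p → Subsingleton (ModSite.HU O F p U)) :
    WSerre.IsWeakSerre (A.map (SiteCmp.eps h O).push) ∧
    (∀ Y : DerivedCategory (ModSite.Mod (SiteCmp.epsRing h O)), WSerre.cohIn (A.map (SiteCmp.eps h O).push) Y →
      WSerre.cohIn A ((SiteCmp.pullD (SiteCmp.eps h O)).obj Y) ∧ IsIso (adj.unit.app Y)) ∧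
    (∀ X : DerivedCategory (ModSite.Mod O), WSerre.cohIn A X →
      WSerre.cohIn (A.map (SiteCmp.eps h O).push) ((SiteCmp.RpushD (SiteCmp.eps h O)).obj X) ∧
      IsIso (adj.counit.app X)) := by
  let f := SiteCmp.eps h O
  have : HasInjectiveResolutions (ModSite.Mod O) := inferInstance
  have hBJ : Groth.Agent.DLim.IsCoveredBy J B := fun U => by
    obtain ⟨ι, Y, g, hg, hY⟩ := h3 U
    exact ⟨ι, Y, g, h _ hg, hY⟩
  have hR : ∀ M, A M → ∀ p : ℤ, 0 < p →
      IsZero ((DerivedCategory.homologyFunctor (ModSite.Mod (SiteCmp.epsRing h O)) p).obj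
        ((SiteCmp.RpushD f).obj (SiteCmp.inD O M))) := fun M hM =>
    Groth.Agent.DSites.isZero_H_rpushD_of_acyclic f h3 M fun V hV k hk => h4 V hV M hM k hk
  have hW : WSerre.IsWeakSerre (A.map f.push) := Groth.Agent.DSites.isWeakSerre_map_push f A adj hR
  refine ⟨hW, ?_⟩
  have hback : ∀ M, A M → IsIso (adj.unit.app (SiteCmp.inD _ (f.push.obj M))) := fun M hM => by
    obtain ⟨e⟩ := Groth.Agent.DSites.nonempty_rpushD_inD f M (hR M hM)
    exact Groth.Agent.DSites.isIso_unit_push f adj M e
  refine Groth.Agent.S9080.result f adj A (A.map f.push) ?_ ?_ ?_ ?_ B B hBJ ?_ h3 ?_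
  · intro F' hF'
    obtain ⟨M, hM, ⟨e⟩⟩ := (A.prop_map_iff f.push _).1 hF'
    exact A.prop_of_iso ((asIso (f.adj.counit.app M)).symm ≪≫ f.pull.mapIso e) hM
  · intro F' G' hF' hG'
    obtain ⟨N, hN, ⟨e'⟩⟩ := (A.prop_map_iff f.push _).1 hG'
    have hu : IsIso (f.adj.unit.app G') := by
      refine (NatTrans.isIso_app_iff_of_iso f.adj.unit e').1 ?_
      exact IsIso.of_isIso_fac_right (f.adj.right_triangle_components N)
    have hb := (f.adj.homEquiv F' (f.pull.obj G')).symm.bijective.comp
      (asIso (f.adj.unit.app G')).homToEquiv.bijective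
    refine (congrArg Function.Bijective (funext fun φ => ?_)).mpr hb
    show f.pull.map φ = (f.adj.homEquiv F' (f.pull.obj G')).symm (φ ≫ f.adj.unit.app G')
    rw [Adjunction.homEquiv_counit, Functor.map_comp, Category.assoc,
      f.adj.left_triangle_components, Category.comp_id]
  · exact fun M hM => ⟨f.push.obj M, (A.prop_map_iff f.push _).2 ⟨M, hM, ⟨Iso.refl _⟩⟩,
      ⟨asIso (f.adj.counit.app M)⟩⟩
  · intro F' hF'
    obtain ⟨M, hM, ⟨e⟩⟩ := (A.prop_map_iff f.push _).1 hF'
    exact (NatTrans.isIso_app_iff_of_iso adj.unit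
      ((DerivedCategory.singleFunctor _ 0).mapIso e)).1 (hback M hM)
  · intro V _
    refine ⟨0, fun T hT => ?_⟩
    obtain ⟨ι, Y, g, hf, hcov, hY⟩ := hBJ.refine_cover V hT
    exact ⟨ι, Y, g, hf, hcov, fun i F hF k hk => h4 _ (hY i) F hF k hk⟩
  · intro V _
    refine ⟨0, fun T hT => ?_⟩
    obtain ⟨ι, Y, g, hf, hcov, hY⟩ := Groth.Agent.DLim.IsCoveredBy.refine_cover h3 V hT
    exact ⟨ι, Y, g, hf, hcov, fun i F hF k hk => h4 _ (hY i) F hF k hk⟩

end Groth.Agent.S9071
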