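import Groth.Statements.S9135
import Mathlib.RingTheory.QuasiFinite.Basic
import Mathlib.RingTheory.Localization.Integral
import Mathlib

set_option autoImplicit false
universe u
open CAlg

namespace Groth.Agent.S9135

open Polynomial in
theorem exists_smul_isIntegral {R S : Type u} [CommRing R] [CommRing S] [Algebra R S]
    [Algebra.FiniteType R S] (p : Ideal R) [p.IsPrime] (hp : p ∈ minimalPrimes R)
    (hfin : (p.primesOver S).Finite) (x : S) : ∃ g : R, g ∉ p ∧ IsIntegral R (g • x) := by
  classical
  haveI : IsJacobsonRing (p.Fiber S) := isJacobsonRing_of_finiteType (A := p.ResidueField)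
  haveI : Finite (p.primesOver S) := hfin.to_subtype
  haveI : Finite (PrimeSpectrum (p.Fiber S)) :=
    Finite.of_equiv _ (PrimeSpectrum.primesOverOrderIsoFiber R S p).toEquiv
  haveI : Module.Finite p.ResidueField (p.Fiber S) := by
    rw [Module.finite_iff_isArtinianRing, isArtinianRing_iff_isNoetherianRing_krullDimLE_zero]
    exact ⟨Algebra.FiniteType.isNoetherianRing p.ResidueField _,
      (PrimeSpectrum.discreteTopology_iff_finite_and_krullDimLE_zero.mp inferInstance).right⟩
  let z : p.Fiber S := Algebra.TensorProduct.includeRight x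
  haveI : Algebra.IsIntegral p.ResidueField (p.Fiber S) := Algebra.IsIntegral.of_finite _ _
  have halg : IsAlgebraic (R ⧸ p) z :=
    (IsFractionRing.isAlgebraic_iff (R ⧸ p) p.ResidueField (p.Fiber S)).2
      ((Algebra.IsIntegral.isIntegral z).isAlgebraic)
  obtain ⟨Pb, hPb0, hPb⟩ := halg
  obtain ⟨P, hP, hdeg⟩ := mem_lifts_and_degree_eq (f := Ideal.Quotient.mk p) (p := Pb)
    ((lifts_iff_coeff_lifts _).2 fun n => Ideal.Quotient.mk_surjective _)
  have hlead : P.leadingCoeff ∉ p := fun h => hPb0 (leadingCoeff_eq_zero.1 (by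
    rw [leadingCoeff, ← natDegree_eq_of_degree_eq hdeg, ← hP, coeff_map]
    exact Ideal.Quotient.eq_zero_iff_mem.2 h))
  let y := aeval x P
  have hy0 : (Algebra.TensorProduct.includeRight y : p.Fiber S) = 0 := by
    rw [← aeval_algHom_apply, ← aeval_map_algebraMap (R ⧸ p)]
    show aeval z (P.map (Ideal.Quotient.mk p)) = 0
    rw [hP]
    exact hPb
  have hyq : ∀ q ∈ p.primesOver S, y ∈ q := by
    intro q hq
    have h := (PrimeSpectrum.primesOverOrderIsoFiber R S p).symm_apply_apply ⟨q, hq⟩
    rw [← Subtype.val_inj] at h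
    let Q := PrimeSpectrum.primesOverOrderIsoFiber R S p ⟨q, hq⟩
    have hmem : (Algebra.TensorProduct.includeRight y : p.Fiber S) ∈ Q.asIdeal := by
      rw [hy0]
      exact zero_mem _
    rw [← show _ = q from h]
    exact hmem
  obtain ⟨h, hh, N, hN⟩ : ∃ h : R, h ∉ p ∧ ∃ N : ℕ, algebraMap R S h * y ^ N = 0 := by
    by_contra hcon
    push Not at hcon
    let M : Submonoid S := (Ideal.primeCompl p).map (algebraMap R S : R →* S) ⊔ Submonoid.powers y
    have hdis : Disjoint ((⊥ : Ideal S) : Set S) (M : Set S) := by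
      rw [Set.disjoint_left]
      intro a ha haM
      obtain ⟨b, hb, c, hc, rfl⟩ := Submonoid.mem_sup.1 haM
      obtain ⟨r, hr, rfl⟩ := hb
      obtain ⟨n, rfl⟩ := hc
      exact hcon r hr n ha
    obtain ⟨q, hq, -, hqd⟩ := Ideal.exists_le_prime_disjoint (⊥ : Ideal S) M hdis
    have hle : q.under R ≤ p := fun r hr => by
      by_contra hrp
      exact Set.disjoint_left.1 hqd (show algebraMap R S r ∈ q from hr)
        (Submonoid.mem_sup_left ⟨r, hrp, rfl⟩)
    have heq : q.under R = p := le_antisymm hle (hp.2 ⟨inferInstance, bot_le⟩ hle)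
    exact Set.disjoint_left.1 hqd (hyq q ⟨hq, ⟨heq.symm⟩⟩)
      (Submonoid.mem_sup_right (Submonoid.mem_powers y))
  have hroot : aeval x ((C h * P) ^ (N + 1)) = 0 := by
    rw [map_pow, map_mul, aeval_C, mul_pow, pow_succ (algebraMap R S h), pow_succ (aeval x P)]
    linear_combination (algebraMap R S h ^ N * aeval x P) * hN
  refine ⟨((C h * P) ^ (N + 1)).leadingCoeff, ?_, isIntegral_leadingCoeff_smul _ _ hroot⟩
  have hne : h * P.leadingCoeff ∉ p := Ideal.IsPrime.mul_notMem ‹_› hh hlead
  have h1 : (C h * P).leadingCoeff = h * P.leadingCoeff := by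
    rw [leadingCoeff_mul' (by rw [leadingCoeff_C]; exact fun h0 => hne (h0 ▸ zero_mem p)), leadingCoeff_C]
  rw [leadingCoeff_pow' (by rw [h1]; exact fun h0 => Ideal.IsPrime.pow_mem_iff_mem (I := p) ‹_› (N + 1) (Nat.succ_pos N) |>.not.2 hne (h0 ▸ zero_mem p)), h1]
  exact fun hm => hne (Ideal.IsPrime.mem_of_pow_mem ‹_› _ hm)

/-- Let R → S be of finite type and p a minimal prime of R over which only finitely many primes of S
lie. Then for some g ∈ R outside p the localized map R_g → S_g is finite. -/
theorem result (R S : Type u) [CommRing R] [CommRing S]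
    [Algebra R S] [Algebra.FiniteType R S] (p : Ideal R) (hp : p ∈ minimalPrimes R)
    (hfin : (p.primesOver S).Finite) :
    ∃ g : R, g ∉ p ∧ (Localization.awayMap (algebraMap R S) g).Finite := by
  classical
  haveI : p.IsPrime := hp.1.1
  obtain ⟨s, hs⟩ := (Algebra.FiniteType.out : (⊤ : Subalgebra R S).FG)
  choose g hg hint using fun x : S => exists_smul_isIntegral p hp hfin x
  let G : R := ∏ x ∈ s, g x
  refine ⟨G, fun h => ?_, ?_⟩
  · obtain ⟨x, -, hx⟩ := (Ideal.IsPrime.prod_mem_iff (p := p)).1 h
    exact hg x hx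
  let R' := Localization.Away G
  let T := Localization.Away (algebraMap R S G)
  let φ : R' →+* T := Localization.awayMap (algebraMap R S) G
  letI : Algebra R' T := φ.toAlgebra
  haveI : IsScalarTower R R' T := IsScalarTower.of_algebraMap_eq fun r => by
    show algebraMap R T r = φ (algebraMap R R' r)
    rw [IsScalarTower.algebraMap_apply R S T]
    exact (IsLocalization.map_eq _ _).symm
  let C : Subalgebra R S := ((integralClosure R' T).restrictScalars R).comap (IsScalarTower.toAlgHom R S T)
  have hC : C = ⊤ := by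
    rw [eq_top_iff, ← hs]
    refine Algebra.adjoin_le fun x hx => ?_
    show IsIntegral R' (algebraMap S T x)
    have hu : IsUnit (algebraMap R R' (g x)) :=
      isUnit_of_dvd_unit (map_dvd _ (Finset.dvd_prod_of_mem g hx)) (IsLocalization.Away.algebraMap_isUnit G)
    have h1 : IsIntegral R' (algebraMap R T (g x) * algebraMap S T x) := by
      have h2 : IsIntegral R' (IsScalarTower.toAlgHom R S T (g x • x)) :=
        ((hint x).map (IsScalarTower.toAlgHom R S T)).tower_top
      rwa [map_smul, Algebra.smul_def] at h2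
    have h3 : IsIntegral R' (((hu.unit⁻¹ : R'ˣ) : R') • (algebraMap R T (g x) * algebraMap S T x)) := h1.smul _
    rwa [Algebra.smul_def, ← mul_assoc, IsScalarTower.algebraMap_apply R R' T, ← map_mul,
      IsUnit.val_inv_mul, map_one, one_mul] at h3
  haveI : Algebra.IsIntegral R' T := ⟨fun t => by
    obtain ⟨n, a, ha⟩ := IsLocalization.Away.surj (algebraMap R S G) t
    have hu : IsUnit (algebraMap R R' (G ^ n)) := by rw [map_pow]; exact (IsLocalization.Away.algebraMap_isUnit G).pow n
    have h1 : IsIntegral R' (algebraMap S T a) := show a ∈ C from hC ▸ Algebra.mem_top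
    have h2 : IsIntegral R' (((hu.unit⁻¹ : R'ˣ) : R') • (algebraMap S T a)) := h1.smul _
    rw [← ha, Algebra.smul_def, mul_comm t, ← mul_assoc, ← map_pow, ← map_pow,
      ← IsScalarTower.algebraMap_apply R S T, IsScalarTower.algebraMap_apply R R' T, ← map_mul,
      IsUnit.val_inv_mul, map_one, one_mul] at h2
    exact h2⟩
  haveI : Algebra.FiniteType S T := IsLocalization.finiteType_of_monoid_fg (Submonoid.powers (algebraMap R S G)) T
  haveI : Algebra.FiniteType R T := Algebra.FiniteType.trans (S := S) ‹_› ‹_›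
  haveI : Algebra.FiniteType R' T := Algebra.FiniteType.of_restrictScalars_finiteType R R' T
  exact RingHom.finite_algebraMap.2 (Algebra.IsIntegral.finite : Module.Finite R' T)

end Groth.Agent.S9135
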