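import Groth.Statements.S9232
import Groth.Agent.ConormalAlgz.Equiv
import Groth.Agent.FComplLib.AdicUnit

set_option autoImplicit false
universe u
open CAlg

namespace Groth.Agent.S9232

/-- Suppose A → B is a flat local ring map between Noetherian local rings, the maximal ideal of A
generates that of B, and the residue field map is bijective. Then the induced map between the
completions of A and B (a ring map of the completions compatible with A → B; it is unique since A is
Noetherian) is an isomorphism. -/
theorem result (A B : Type u) [CommRing A]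
    [CommRing B] [IsLocalRing A] [IsLocalRing B] [IsNoetherianRing A] [IsNoetherianRing B]
    [Algebra A B] [IsLocalHom (algebraMap A B)] [Module.Flat A B]
    (hm : Ideal.map (algebraMap A B) (IsLocalRing.maximalIdeal A) = IsLocalRing.maximalIdeal B)
    (hk : Function.Bijective (IsLocalRing.ResidueField.map (algebraMap A B)))
    (ψ : AdicCompletion (IsLocalRing.maximalIdeal A) A →+* AdicCompletion (IsLocalRing.maximalIdeal B) B)
    (hψ : ψ.comp (algebraMap A (AdicCompletion (IsLocalRing.maximalIdeal A) A)) =
      (algebraMap B (AdicCompletion (IsLocalRing.maximalIdeal B) B)).comp (algebraMap A B)) :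
    Function.Bijective ψ := by
  open IsLocalRing in
  let m : Ideal A := maximalIdeal A
  let n' : Ideal B := maximalIdeal B
  set f : A →+* AdicCompletion n' B :=
    (algebraMap B (AdicCompletion n' B)).comp (algebraMap A B) with hf
  have hn : n'.FG := IsNoetherian.noetherian n'
  have hImap : m.map f = n'.map (algebraMap B (AdicCompletion n' B)) := by
    rw [hf, ← Ideal.map_map, hm]
  have : IsAdicComplete (m.map f) (AdicCompletion n' B) := by
    rw [hImap]; exact AdicCompletion.isAdicComplete_self n' hn
  have hpow : ∀ k : ℕ, (m.map f) ^ k = (n' ^ k).map (algebraMap B (AdicCompletion n' B)) := fun k => by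
    rw [hImap, ← Ideal.map_pow]
  have hres : ∀ b : B, ∃ a : A, b - algebraMap A B a ∈ n' := fun b => by
    obtain ⟨q, hq⟩ := hk.2 (residue B b)
    obtain ⟨a, rfl⟩ := residue_surjective q
    refine ⟨a, Ideal.Quotient.eq.1 ?_⟩
    exact hq.symm
  have hdense : ∀ (k : ℕ) (b : B), ∃ a : A, b - algebraMap A B a ∈ n' ^ k := by
    intro k
    induction k with
    | zero => exact fun b => ⟨0, by simp⟩
    | succ k ih =>
      have key : ∀ z ∈ Ideal.map (algebraMap A B) (m ^ k),
          ∃ a : A, z - algebraMap A B a ∈ n' ^ (k + 1) := by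
        intro z hz
        refine Submodule.span_induction ?_ ⟨0, by simp⟩ ?_ ?_ hz
        · rintro _ ⟨x, hx, rfl⟩; exact ⟨x, by simp⟩
        · rintro x y _ _ ⟨a, ha⟩ ⟨c, hc⟩
          exact ⟨a + c, by rw [map_add, add_sub_add_comm]; exact add_mem ha hc⟩
        · rintro r x hx ⟨a, ha⟩
          obtain ⟨s, hs⟩ := hres r
          refine ⟨s * a, ?_⟩
          have hx' : x ∈ n' ^ k := by
            show x ∈ maximalIdeal B ^ k; rw [← hm, ← Ideal.map_pow]; exact hx
          have e : r • x - algebraMap A B (s * a) =
              (r - algebraMap A B s) * x + algebraMap A B s * (x - algebraMap A B a) := by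
            rw [smul_eq_mul, map_mul]; ring
          rw [e]
          refine add_mem ?_ (Ideal.mul_mem_left _ _ ha)
          rw [pow_succ']; exact Ideal.mul_mem_mul hs hx'
      intro b
      obtain ⟨a, ha⟩ := ih b
      have ha2 : b - algebraMap A B a ∈ Ideal.map (algebraMap A B) (m ^ k) := by
        rw [Ideal.map_pow, show Ideal.map (algebraMap A B) m = n' from hm]; exact ha
      obtain ⟨c, hc⟩ := key _ ha2
      exact ⟨a + c, by rw [map_add, ← sub_sub]; exact hc⟩
  have : Module.FaithfullyFlat A B := Module.FaithfullyFlat.of_flat_of_isLocalHom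
  have hsurj : ∀ (k : ℕ) (c : AdicCompletion n' B), ∃ d, c - f d ∈ (m.map f) ^ k := fun k c => by
    obtain ⟨b, hb⟩ := Ideal.Quotient.mk_surjective (AdicCompletion.evalₐ n' k c)
    obtain ⟨a, ha⟩ := hdense k b
    refine ⟨a, ?_⟩
    rw [hpow, ← Groth.Agent.FComplLib.evalₐ_eq_zero_iff n' hn, map_sub, hf, RingHom.comp_apply,
      Groth.Agent.FComplLib.evalₐ_algebraMap, ← hb, ← map_sub, Ideal.Quotient.eq_zero_iff_mem]
    exact ha
  have hinj : ∀ (k : ℕ) (d : A), f d ∈ (m.map f) ^ k → d ∈ m ^ k := fun k d hd => by
    rw [hpow, ← Groth.Agent.FComplLib.evalₐ_eq_zero_iff n' hn, hf, RingHom.comp_apply,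
      Groth.Agent.FComplLib.evalₐ_algebraMap, Ideal.Quotient.eq_zero_iff_mem,
      show n' = Ideal.map (algebraMap A B) m from hm.symm, ← Ideal.map_pow]
      at hd
    exact (Ideal.comap_map_eq_self_of_faithfullyFlat (m ^ k)).le hd
  obtain ⟨e, he⟩ := Groth.Agent.ConormalAlgz.exists_equiv m f hsurj hinj
  have hid : ∀ x, e (ψ x) = x := fun x => by
    have hm' : m.FG := IsNoetherian.noetherian m
    refine AdicCompletion.ext_evalₐ fun k => ?_
    obtain ⟨a, ha⟩ := Ideal.Quotient.mk_surjective (AdicCompletion.evalₐ m k x)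
    have hA : ∀ d : A, e (ψ (algebraMap A _ d)) = algebraMap A _ d := fun d => by
      exact (congrArg e (RingHom.congr_fun hψ d)).trans (he d)
    have hmem : x - algebraMap A _ a ∈ (m ^ k).map (algebraMap A (AdicCompletion m A)) := by
      rw [← Groth.Agent.FComplLib.evalₐ_eq_zero_iff m hm', map_sub,
        Groth.Agent.FComplLib.evalₐ_algebraMap, ha, sub_self]
    have h2 : (e.toRingHom.comp ψ) (x - algebraMap A _ a) ∈
        (m ^ k).map (algebraMap A (AdicCompletion m A)) := by
      have := Ideal.mem_map_of_mem (e.toRingHom.comp ψ) hmem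
      rw [Ideal.map_map] at this
      rwa [show (e.toRingHom.comp ψ).comp (algebraMap A (AdicCompletion m A)) =
        algebraMap A (AdicCompletion m A) from RingHom.ext hA] at this
    rw [← Groth.Agent.FComplLib.evalₐ_eq_zero_iff m hm', map_sub, map_sub, sub_eq_zero] at h2
    simp only [RingHom.comp_apply, RingEquiv.toRingHom_eq_coe, RingHom.coe_coe, hA,
      Groth.Agent.FComplLib.evalₐ_algebraMap, ha] at h2
    exact h2
  have : ⇑ψ = ⇑e.symm := funext fun x => by rw [← hid x, e.symm_apply_apply, hid x]
  rw [this]; exact e.symm.bijective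

end Groth.Agent.S9232
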