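import Groth.Statements.S9306
import Groth.Agent.HensEt88.UnramCompositum

set_option linter.style.haveILetI false

set_option autoImplicit false
universe u
open EtRam

namespace Groth.Agent.S9306

open TensorProduct in
/-- Let A → B be an injective local homomorphism of discrete valuation rings with fraction fields K ⊆ L,
and let K' be a finite separable extension of K that is unramified relative to A. Then every field F
onto which K' ⊗_K L surjects is, as an extension of L, unramified relative to B. (The published
statement also records that K' ⊗_K L is a finite product of fields, whose factors are these F; this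
row does not state that part.) -/
theorem result (A B K L K' : Type u) [CommRing A] [IsDomain A]
    [IsDiscreteValuationRing A] [CommRing B] [IsDomain B] [IsDiscreteValuationRing B] [Algebra A B]
    [IsLocalHom (algebraMap A B)] (hinj : Function.Injective (algebraMap A B))
    [Field K] [Field L] [Field K'] [Algebra A K] [IsFractionRing A K] [Algebra B L] [IsFractionRing B L]
    [Algebra K L] [Algebra A L] [IsScalarTower A K L] [IsScalarTower A B L]
    [Algebra K K'] [FiniteDimensional K K'] [Algebra.IsSeparable K K']
    (h : EtRam.IsUnramifiedExt A ((algebraMap K K').comp (algebraMap A K)))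
    (F : Type u) [Field F] [Algebra (K' ⊗[K] L) F] (hF : Function.Surjective (algebraMap (K' ⊗[K] L) F)) :
    EtRam.IsUnramifiedExt B ((algebraMap (K' ⊗[K] L) F).comp
      ((Algebra.TensorProduct.includeRight : L →ₐ[K] K' ⊗[K] L).toRingHom.comp (algebraMap B L))) := by
  let iR : L →+* F := (algebraMap (K' ⊗[K] L) F).comp (Algebra.TensorProduct.includeRight : L →ₐ[K] K' ⊗[K] L).toRingHom
  let iL : K' →+* F := (algebraMap (K' ⊗[K] L) F).comp (Algebra.TensorProduct.includeLeftRingHom : K' →+* K' ⊗[K] L)
  letI : Algebra L F := iR.toAlgebra
  letI : Algebra K' F := iL.toAlgebra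
  letI : Algebra B F := (iR.comp (algebraMap B L)).toAlgebra
  letI : Algebra A K' := ((algebraMap K K').comp (algebraMap A K)).toAlgebra
  letI : Algebra A F := ((algebraMap B F).comp (algebraMap A B)).toAlgebra
  haveI : IsScalarTower A K K' := .of_algebraMap_eq' rfl
  haveI : IsScalarTower B L F := .of_algebraMap_eq' rfl
  haveI : IsScalarTower A B F := .of_algebraMap_eq' rfl
  haveI : IsScalarTower A K' F := .of_algebraMap_eq fun a => by
    show algebraMap (K' ⊗[K] L) F ((1 : K') ⊗ₜ[K] algebraMap B L (algebraMap A B a)) =
      algebraMap (K' ⊗[K] L) F (algebraMap K K' (algebraMap A K a) ⊗ₜ[K] (1 : L))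
    rw [← IsScalarTower.algebraMap_apply A B L, IsScalarTower.algebraMap_apply A K L]
    generalize algebraMap A K a = k
    congr 1
    rw [Algebra.algebraMap_eq_smul_one, Algebra.algebraMap_eq_smul_one, TensorProduct.smul_tmul]
  have hgen : Algebra.adjoin L (Set.range (algebraMap K' F)) = ⊤ := by
    refine top_le_iff.mp ?_
    rintro y -
    obtain ⟨t, rfl⟩ := hF y
    induction t using TensorProduct.induction_on with
    | zero => rw [map_zero]; exact zero_mem _
    | add a b ha hb => rw [map_add]; exact add_mem ha hb
    | tmul x l =>
      rw [show x ⊗ₜ[K] l = (x ⊗ₜ[K] (1 : L)) * ((1 : K') ⊗ₜ[K] l) by simp, map_mul]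
      exact mul_mem (Algebra.subset_adjoin ⟨x, rfl⟩) (Subalgebra.algebraMap_mem _ l)
  exact HensEt88.isUnramifiedExt_compositum (K := K) (K' := K') (L := L) h hgen

end Groth.Agent.S9306
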