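import Groth.Statements.S9440
import Groth.Agent.CompleteNagata.Unramified
import Groth.Agent.CompleteNagata.LocalGlobal
import Groth.Agent.CAlgOdd.NagataFT.Basic
import Groth.Agent.S0576

set_option autoImplicit false
universe u
open CAlg

namespace Groth.Agent.S9440

open IsLocalRing TensorProduct

/-- A local finite domain inside a finite domain, with the same fraction field. -/
theorem exists_local_order {A : Type u} [CommRing A] [IsDomain A] [IsLocalRing A] [IsNoetherianRing A]
    {L : Type u} [Field L] [Algebra A L] (hinj : Function.Injective (algebraMap A L))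
    (B' : Subalgebra A L) [Module.Finite A B'] (hB' : IsFractionRing B' L) :
    ∃ S : Subalgebra A L, Module.Finite A S ∧ IsLocalRing S ∧ IsFractionRing S L := by
  classical
  haveI := hB'
  haveI : Algebra.IsIntegral A B' := Algebra.IsIntegral.of_finite A B'
  haveI : FaithfulSMul A B' := (faithfulSMul_iff_algebraMap_injective A B').2 fun a b h =>
    hinj (congrArg Subtype.val h)
  by_cases hm : maximalIdeal A = ⊥
  · refine ⟨B', inferInstance, ?_, hB'⟩
    have hA : IsField A := IsLocalRing.isField_iff_maximalIdeal_eq.2 hm
    letI := (isField_of_isIntegral_of_isField' (R := A) (S := B') hA).toField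
    infer_instance
  · let J : Ideal B' := (maximalIdeal A).map (algebraMap A B')
    have hJ0 : J ≠ ⊥ := fun h => hm (eq_bot_iff.2 fun a ha => by
      have : algebraMap A B' a ∈ J := Ideal.mem_map_of_mem _ ha
      rw [h, Ideal.mem_bot] at this
      exact (Ideal.mem_bot).2 ((map_eq_zero_iff _ (FaithfulSMul.algebraMap_injective A B')).1 this))
    let S : Subalgebra A L :=
      { carrier := {z | ∃ (a : A) (j : B'), j ∈ J ∧ z = algebraMap A L a + (j : L)}
        mul_mem' := by
          rintro _ _ ⟨a, j, hj, rfl⟩ ⟨b, i, hi, rfl⟩
          refine ⟨a * b, algebraMap A B' a * i + j * algebraMap A B' b + j * i,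
            J.add_mem (J.add_mem (J.mul_mem_left _ hi) (J.mul_mem_right _ hj)) (J.mul_mem_left _ hi), ?_⟩
          simp only [Subalgebra.coe_add, Subalgebra.coe_mul, Subalgebra.coe_algebraMap, map_mul]
          ring
        add_mem' := by
          rintro _ _ ⟨a, j, hj, rfl⟩ ⟨b, i, hi, rfl⟩
          refine ⟨a + b, j + i, J.add_mem hj hi, ?_⟩
          simp only [Subalgebra.coe_add, map_add]
          ring
        algebraMap_mem' := fun a => ⟨a, 0, J.zero_mem, by simp⟩ }
    have hle : S ≤ B' := by
      rintro _ ⟨a, j, -, rfl⟩
      exact B'.add_mem (B'.algebraMap_mem a) j.2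
    have hfinS : Module.Finite A S := Module.Finite.of_injective (Subalgebra.inclusion hle).toLinearMap
      (Subalgebra.inclusion_injective hle)
    letI : Algebra S B' := (Subalgebra.inclusion hle).toRingHom.toAlgebra
    haveI : IsScalarTower A S B' := IsScalarTower.of_algebraMap_eq fun a => rfl
    haveI : FaithfulSMul S B' := (faithfulSMul_iff_algebraMap_injective S B').2
      (Subalgebra.inclusion_injective hle)
    haveI : Algebra.IsIntegral S B' := Algebra.IsIntegral.tower_top (R := A)
    haveI : Nontrivial S := inferInstance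
    have hJS : ∀ j : B', j ∈ J → (j : L) ∈ S := fun j hj => ⟨0, j, hj, by simp⟩
    refine ⟨S, hfinS, ?_, IsFractionRing.of_field S L fun z => ?_⟩
    · refine IsLocalRing.of_unique_max_ideal ?_
      obtain ⟨M, hM⟩ := Ideal.exists_maximal S
      have key : ∀ M : Ideal S, M.IsMaximal → M = J.comap (algebraMap S B') := by
        intro M hM
        obtain ⟨N, hN, hNM⟩ := Ideal.exists_ideal_over_maximal_of_isIntegral (S := B') M (by
          rw [(RingHom.injective_iff_ker_eq_bot _).1 (FaithfulSMul.algebraMap_injective S B')]; exact bot_le)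
        have hNA : N.comap (algebraMap A B') = maximalIdeal A := by
          haveI := hN
          exact IsLocalRing.eq_maximalIdeal (Ideal.isMaximal_comap_of_isIntegral_of_isMaximal N)
        have hJN : J ≤ N := Ideal.map_le_iff_le_comap.2 hNA.ge
        refine le_antisymm (fun x hx => ?_) ?_
        · obtain ⟨a, j, hj, hx'⟩ := x.2
          have hxN : (algebraMap S B' x) ∈ N := by rw [← Ideal.mem_comap]; exact hNM.symm ▸ hx
          have hxe : algebraMap S B' x = algebraMap A B' a + j := Subtype.ext hx'
          have haN : algebraMap A B' a ∈ N := by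
            have := N.sub_mem hxN (hJN hj)
            rwa [hxe, add_sub_cancel_right] at this
          rw [Ideal.mem_comap, hxe]
          exact J.add_mem (Ideal.mem_map_of_mem _ (hNA.le haN)) hj
        · rw [← hNM]
          exact Ideal.comap_mono hJN
      exact ⟨J.comap (algebraMap S B'), key M hM ▸ hM, fun M' hM' => key M' hM'⟩
    · obtain ⟨x, y, hy, rfl⟩ := IsFractionRing.div_surjective B' z
      obtain ⟨j, hj, hj0⟩ := Submodule.exists_mem_ne_zero_of_ne_bot hJ0
      refine ⟨⟨(x * j : B'), hJS _ (J.mul_mem_left _ hj)⟩, ⟨(y * j : B'), hJS _ (J.mul_mem_left _ hj)⟩, ?_⟩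
      have hj' : (j : L) ≠ 0 := fun h => hj0 (Subtype.ext h)
      show (x : L) / (y : L) = ((x : L) * j) / ((y : L) * j)
      rw [mul_div_mul_right _ _ hj']

theorem isN2_of_forall (A : Type u) [CommRing A] [IsDomain A] [IsLocalRing A] [IsNoetherianRing A]
    (h : ∀ (S : Type u) [CommRing S] [IsDomain S] [IsLocalRing S] [Algebra A S]
      [Module.Finite A S], IsReduced (AdicCompletion (maximalIdeal S) S)) : CAlg.IsN2 A := by
  intro L _ _ _ _ hfin
  haveI := hfin
  have hinj : Function.Injective (algebraMap A L) := by
    rw [IsScalarTower.algebraMap_eq A (FractionRing A) L]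
    exact (algebraMap (FractionRing A) L).injective.comp (IsFractionRing.injective A _)
  obtain ⟨B', hB'fin, hB'frac⟩ := Groth.Agent.CompleteNagata.exists_order A L
  haveI := hB'fin
  obtain ⟨S, hSfin, hSloc, hSfrac⟩ := exists_local_order hinj B' hB'frac
  haveI := hSfin
  haveI := hSloc
  haveI := hSfrac
  haveI : IsNoetherianRing S := IsNoetherianRing.of_finite A S
  haveI : IsReduced (EGA4.Cpl S) := h S
  haveI : IsReduced (EGA4.Cpl S ⊗[S] S) :=
    isReduced_of_injective (Algebra.TensorProduct.rid S S (EGA4.Cpl S)).toRingHom
      (Algebra.TensorProduct.rid S S (EGA4.Cpl S)).injective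
  haveI : Module.Finite S (integralClosure S L) :=
    Groth.Agent.CompleteNagata.finite_integralClosure_of_reduced_tensor S S L (nonZeroDivisors S) le_rfl
      inferInstance
  haveI : Module.Finite A (integralClosure S L) := Module.Finite.trans S _
  let i : integralClosure A L →ₗ[A] integralClosure S L :=
    { toFun := fun z => ⟨z.1, IsIntegral.tower_top z.2⟩
      map_add' := fun _ _ => rfl
      map_smul' := fun _ _ => rfl }
  exact Module.Finite.of_injective i fun a b h =>
    Subtype.ext (congrArg (fun z : integralClosure S L => (z : L)) h)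

/-- (1) ⇔ (3): a Noetherian local ring R is a Nagata ring if and only if for every finite local
homomorphism R → S of local rings with S a domain, the completion of S is reduced. -/
theorem result (R : Type u) [CommRing R]
    [IsLocalRing R] [IsNoetherianRing R] :
    CAlg.IsNagata R ↔ ∀ (S : Type u) [CommRing S] [IsDomain S] [IsLocalRing S] [Algebra R S]
      [IsLocalHom (algebraMap R S)] [Module.Finite R S],
      IsReduced (AdicCompletion (IsLocalRing.maximalIdeal S) S) := by
  constructor
  · intro hR S _ _ _ _ _ _
    exact Groth.Agent.S0576.result S (Groth.Agent.CAlgOdd.NagataFT.isNagata_of_finite S hR)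
  · intro h
    refine ⟨inferInstance, fun p hp => ?_⟩
    haveI : IsLocalRing (R ⧸ p) := IsLocalRing.of_surjective' (Ideal.Quotient.mk p) Ideal.Quotient.mk_surjective
    refine isN2_of_forall (R ⧸ p) fun S _ _ _ _ _ => ?_
    letI : Algebra R S := ((algebraMap (R ⧸ p) S).comp (Ideal.Quotient.mk p)).toAlgebra
    haveI : IsScalarTower R (R ⧸ p) S := IsScalarTower.of_algebraMap_eq fun r => rfl
    haveI : Module.Finite R S := Module.Finite.trans (R ⧸ p) S
    haveI : IsLocalHom (algebraMap R S) := by
      haveI : Algebra.IsIntegral R S := Algebra.IsIntegral.of_finite R S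
      refine ((IsLocalRing.local_hom_TFAE (algebraMap R S)).out 0 4).2 ?_
      exact IsLocalRing.eq_maximalIdeal (Ideal.isMaximal_comap_of_isIntegral_of_isMaximal (maximalIdeal S))
    exact h S

end Groth.Agent.S9440
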