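import Groth.Statements.S9485
import Groth.Agent.PurX.FFCriterion
-- import your own Groth.Agent.* helpers here

set_option autoImplicit false
universe u
open Pi1

namespace Groth.Agent.S9485

open AlgebraicGeometry CategoryTheory CategoryTheory.Limits in
/-- Let A be a Noetherian local ring with maximal ideal m and f ∈ m, U the punctured spectrum of A and
U₀ that of A/fA (realised as U ×_{Spec A} Spec(A/fA)). Let U' ⊆ U be an open through which U₀ ⟶ Spec
A factors (as u'). If dim(A/p) ≥ 2 for every minimal prime p of A which lies in U' and does not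
contain f, then restriction of finite etale covers along u' is faithful. (Such U' exist, e.g. the
complement in U of the one-dimensional irreducible components not meeting U₀, and the condition
passes to smaller such opens, so restriction from the system of these opens is faithful.) -/
theorem result (A : Type u) [CommRing A] [IsNoetherianRing A] [IsLocalRing A] (f : A) (hf : f ∈ IsLocalRing.maximalIdeal A)
    (U' : (Spec (CommRingCat.of A)).Opens) (hU' : U' ≤ FEt.puncturedSpec A)
    (u' : pullback (FEt.puncturedSpec A).ι (Spec.map (CommRingCat.ofHom (Ideal.Quotient.mk (Ideal.span {f})))) ⟶ (U' : Scheme.{u})) (hu' : u' ≫ U'.ι = (pullback.fst (FEt.puncturedSpec A).ι (Spec.map (CommRingCat.ofHom (Ideal.Quotient.mk (Ideal.span {f})))) ≫ (FEt.puncturedSpec A).ι))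
    (hdim : ∀ p : PrimeSpectrum A, p.asIdeal ∈ minimalPrimes A → p ∈ U' → f ∉ p.asIdeal →
      (2 : WithBot ℕ∞) ≤ ringKrullDim (A ⧸ p.asIdeal)) :
    (FEt.restrict u').Faithful := by
  haveI : IsNoetherianRing A := inferInstance
  refine Groth.Agent.Pi1X.restrict_faithful u' fun C hC hne => ?_
  obtain ⟨y, hy⟩ := hne
  haveI := (U'.ι y : PrimeSpectrum A).isPrime
  obtain ⟨p, hp, hpy⟩ := Ideal.exists_minimalPrimes_le (I := (⊥ : Ideal A)) (J := (U'.ι y : PrimeSpectrum A).asIdeal) bot_le
  let P : PrimeSpectrum A := ⟨p, hp.1.1⟩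
  have hsp : P ⤳ (U'.ι y : PrimeSpectrum A) := (PrimeSpectrum.le_iff_specializes _ _).1 hpy
  have hPU : P ∈ U' := hsp.mem_open U'.2 y.2
  have key : ∀ R : PrimeSpectrum A, p ≤ R.asIdeal → f ∈ R.asIdeal → R ≠ IsLocalRing.closedPoint A →
      (C ∩ Set.range u'.base).Nonempty := fun R hR hfR hne => by
    obtain ⟨hRU, x, hx⟩ := Groth.Agent.PurX.cov_of_factor u' hu' R hfR hne
    refine ⟨u'.base x, ?_, x, rfl⟩
    have hsp1 : (⟨P, hPU⟩ : (U' : Scheme.{u})) ⤳ y := U'.ι.isOpenEmbedding.isInducing.specializes_iff.1 hsp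
    have hsp2 : (⟨P, hPU⟩ : (U' : Scheme.{u})) ⤳ u'.base x := by
      refine U'.ι.isOpenEmbedding.isInducing.specializes_iff.1 ?_
      show P ⤳ (u' ≫ U'.ι) x
      rw [hx]
      exact (PrimeSpectrum.le_iff_specializes _ _).1 hR
    exact hsp2.mem_closed hC.1 (hsp1.mem_open hC.2 hy)
  by_cases hfp : f ∈ p
  · exact key P le_rfl hfp fun e => hU' hPU e
  have hd := hdim P hp hPU hfp
  haveI := hp.1.1
  let B := A ⧸ p
  haveI : IsLocalRing B := IsLocalRing.of_surjective' _ Ideal.Quotient.mk_surjective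
  haveI : IsLocalHom (Ideal.Quotient.mk p) := Function.Surjective.isLocalHom _ Ideal.Quotient.mk_surjective
  have hfB : Ideal.span {Ideal.Quotient.mk p f} ≤ IsLocalRing.maximalIdeal B := by
    rw [Ideal.span_singleton_le_iff_mem]
    exact fun h => hf (IsLocalHom.map_nonunit f h)
  obtain ⟨Q, hQ, -⟩ := Ideal.exists_minimalPrimes_le hfB
  haveI := hQ.1.1
  have hQm : Q ≠ IsLocalRing.maximalIdeal B := fun e => by
    have h1 := Ideal.height_le_one_of_isPrincipal_of_mem_minimalPrimes (Ideal.span {Ideal.Quotient.mk p f}) Q hQ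
    subst e
    rw [← IsLocalRing.maximalIdeal_height_eq_ringKrullDim] at hd
    have h2 : (2 : ℕ∞) ≤ (IsLocalRing.maximalIdeal B).height := WithBot.coe_le_coe.1 hd
    exact absurd (h2.trans h1) (by decide)
  refine key (PrimeSpectrum.comap (Ideal.Quotient.mk p) ⟨Q, hQ.1.1⟩) ?_
    (hQ.1.2 (Ideal.mem_span_singleton_self _)) fun e => hQm ?_
  · intro z hz
    show Ideal.Quotient.mk p z ∈ Q
    rw [Ideal.Quotient.eq_zero_iff_mem.2 hz]
    exact zero_mem Q
  · exact congrArg PrimeSpectrum.asIdeal (PrimeSpectrum.comap_injective_of_surjective _ Ideal.Quotient.mk_surjective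
      (a₂ := IsLocalRing.closedPoint B) (e.trans (IsLocalRing.comap_closedPoint (Ideal.Quotient.mk p)).symm))

end Groth.Agent.S9485
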