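import Groth.Statements.S9490
import Groth.Agent.PurX.FSPurity
-- import your own Groth.Agent.* helpers here

set_option autoImplicit false
universe u
open Pi1

namespace Groth.Agent.S9490

open AlgebraicGeometry CategoryTheory CategoryTheory.Limits in
/-- Let A → B be a local homomorphism of Noetherian local rings. Assume depth A ≥ 2, that the map is
formally smooth when B carries its m_B-adic topology, and that the Krull dimension of A is strictly
below that of B. Let V ⊆ Spec B be an open subset containing every prime q of B whose contraction to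
A is not the maximal ideal m_A, and containing the prime m_A B. Then restriction of finite etale
covers from Spec B to V is an equivalence of categories. (Taking V to be the punctured spectrum
shows that purity holds for B.) -/
theorem result (A B : Type u) [CommRing A] [IsNoetherianRing A] [IsLocalRing A]
    [CommRing B] [IsNoetherianRing B] [IsLocalRing B] [Algebra A B] [IsLocalHom (algebraMap A B)]
    (hdepth : (2 : ℕ∞) ≤ LocCoh.depth A A)
    (hfs : CAlgX.IsAdicFormallySmooth A B (IsLocalRing.maximalIdeal B))
    (hdim : ringKrullDim A < ringKrullDim B)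
    (V : (Spec (CommRingCat.of B)).Opens)
    (hV1 : ∀ q : PrimeSpectrum B, q.asIdeal.comap (algebraMap A B) ≠ IsLocalRing.maximalIdeal A → q ∈ V)
    (hV2 : ∀ q : PrimeSpectrum B, q.asIdeal = (IsLocalRing.maximalIdeal A).map (algebraMap A B) → q ∈ V) :
    (FEt.restrict V.ι).IsEquivalence := by
  haveI : IsLocallyNoetherian (Spec (CommRingCat.of B)) := inferInstance
  have key : ∀ x : Spec (CommRingCat.of B), x ∉ V →
      (2 : ℕ∞) ≤ LocCoh.depth ((Spec (CommRingCat.of B)).presheaf.stalk x) ((Spec (CommRingCat.of B)).presheaf.stalk x) ∧
        FEt.PurityHolds ((Spec (CommRingCat.of B)).presheaf.stalk x) := by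
    intro x hx
    haveI hxp : x.asIdeal.IsPrime := x.2
    obtain ⟨h1, h2⟩ := Groth.Agent.PurX.purityHolds_atPrime_of_fs A B hfs hdepth x.asIdeal
      (not_not.1 fun h => hx (hV1 x h)) (fun h => hx (hV2 x h))
    letI : Algebra B ((Spec (CommRingCat.of B)).presheaf.stalk x) := (StructureSheaf.toStalk B x).hom.toAlgebra
    haveI : IsLocalization.AtPrime ((Spec (CommRingCat.of B)).presheaf.stalk x) x.asIdeal :=
      StructureSheaf.IsLocalization.to_stalk B x
    let σ := IsLocalization.algEquiv x.asIdeal.primeCompl (Localization.AtPrime x.asIdeal)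
      ((Spec (CommRingCat.of B)).presheaf.stalk x)
    exact ⟨h1.trans (Groth.Agent.Alg6.depth_eq_of_semilinear σ.toRingEquiv.toRingHom σ.surjective
        σ.toRingEquiv.toAddEquiv fun r z => map_mul σ r z).le,
      Groth.Agent.PurX.purityHolds_of_ringEquiv σ.toRingEquiv h2⟩
  exact Groth.Agent.PurX.restrict_isEquivalence_of_purity V (fun x hx => (key x hx).1) (fun x hx => (key x hx).2)

end Groth.Agent.S9490
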