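import Groth.Statements.S9567
import Mathlib.RingTheory.Unramified.LocalStructure
import Mathlib.AlgebraicGeometry.Morphisms.Etale

set_option autoImplicit false
set_option linter.style.haveILetI false
universe u
open EtLocal

namespace Groth.Agent.S9567

open AlgebraicGeometry CategoryTheory in
/-- Let φ : X ⟶ Y be any morphism of schemes, x a point of X and V an affine open neighbourhood of φ(x),
with ring R = Γ(Y, V). If φ is étale on some open neighbourhood of x, then there are an affine open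
neighbourhood U of x with φ(U) ⊆ V, a monic polynomial p over R and an open immersion j of U into
Spec of (R[t]/(p))[1/p′] (the localization of R[t]/(p) away from the image of the derivative of p)
such that j followed by the projection to Spec R is the morphism U → Spec R induced by φ. -/
theorem result {X Y : Scheme.{u}} (φ : X ⟶ Y) (x : X)
    (V : Y.Opens) (hV : IsAffineOpen V) (hxV : φ.base x ∈ V)
    (hφ : ∃ W : X.Opens, x ∈ W ∧ Etale (W.ι ≫ φ)) :
    ∃ (U : X.Opens) (hU : IsAffineOpen U) (_ : x ∈ U) (e : U ≤ φ ⁻¹ᵁ V)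
      (p : Polynomial Γ(Y, V)) (_ : p.Monic)
      (j : U.toScheme ⟶ Spec (CommRingCat.of (Localization.Away (AdjoinRoot.mk p (Polynomial.derivative p))))),
      IsOpenImmersion j ∧
        j ≫ Spec.map (CommRingCat.ofHom
            (algebraMap Γ(Y, V) (Localization.Away (AdjoinRoot.mk p (Polynomial.derivative p))))) =
          hU.isoSpec.hom ≫ Spec.map (φ.appLE V U e) := by
  classical
  obtain ⟨W, hxW, hW⟩ := hφ
  obtain ⟨_, ⟨U₀, hU₀, rfl⟩, hxU₀, hle⟩ := X.isBasis_affineOpens.exists_subset_of_mem_open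
    (show x ∈ ((W ⊓ φ ⁻¹ᵁ V : X.Opens) : Set X) from ⟨hxW, hxV⟩) (W ⊓ φ ⁻¹ᵁ V).isOpen
  replace hU₀ : IsAffineOpen (U₀ : X.Opens) := hU₀
  have hU₀W : U₀ ≤ W := fun z hz => (hle hz).1
  have e₀ : U₀ ≤ φ ⁻¹ᵁ V := fun z hz => (hle hz).2
  -- the ring map is etale
  have hR : (φ.appLE V U₀ e₀).hom.Etale := by
    haveI := hW
    haveI : Etale (Scheme.Opens.ι U₀ ≫ φ) := by
      rw [← X.homOfLE_ι hU₀W, Category.assoc]; infer_instance
    haveI : Etale (Spec.map (φ.appLE V U₀ e₀) ≫ hV.fromSpec) := by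
      rw [IsAffineOpen.SpecMap_appLE_fromSpec φ hV hU₀ e₀, ← IsAffineOpen.isoSpec_inv_ι, Category.assoc]
      infer_instance
    exact (HasRingHomProperty.Spec_iff (P := @Etale)).mp (Etale.of_comp (Spec.map (φ.appLE V U₀ e₀)) hV.fromSpec)
  algebraize [(φ.appLE V U₀ e₀).hom]
  haveI : Algebra.Etale Γ(Y, V) Γ(X, U₀) := hR
  let q := (hU₀.primeIdealOf ⟨x, hxU₀⟩).asIdeal
  obtain ⟨a, ha, hstd⟩ := Algebra.IsEtaleAt.exists_isStandardEtale (R := Γ(Y, V)) q
  have hU : IsAffineOpen (X.basicOpen a) := hU₀.basicOpen a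
  have hxU : x ∈ X.basicOpen a := by
    have h1 : hU₀.primeIdealOf ⟨x, hxU₀⟩ ∈ hU₀.fromSpec ⁻¹ᵁ X.basicOpen a := by
      rw [hU₀.fromSpec_preimage_basicOpen]; exact ha
    have h2 : hU₀.fromSpec (hU₀.primeIdealOf ⟨x, hxU₀⟩) ∈ X.basicOpen a := h1
    rwa [hU₀.fromSpec_primeIdealOf] at h2
  have e : X.basicOpen a ≤ φ ⁻¹ᵁ V := (X.basicOpen_le a).trans e₀
  letI : Algebra Γ(Y, V) Γ(X, X.basicOpen a) := (φ.appLE V (X.basicOpen a) e).hom.toAlgebra
  haveI : IsLocalization.Away a Γ(X, X.basicOpen a) := hU₀.isLocalization_basicOpen a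
  haveI : IsScalarTower Γ(Y, V) Γ(X, U₀) Γ(X, X.basicOpen a) := .of_algebraMap_eq fun r => by
    show φ.appLE V (X.basicOpen a) e r =
      X.presheaf.map (homOfLE (X.basicOpen_le a)).op (φ.appLE V U₀ e₀ r)
    exact congr($(φ.appLE_map e₀ (homOfLE (X.basicOpen_le a)).op) r).symm
  haveI : Algebra.IsStandardEtale Γ(Y, V) Γ(X, X.basicOpen a) :=
    Algebra.IsStandardEtale.of_equiv ((IsLocalization.algEquiv (.powers a) (Localization.Away a)
      Γ(X, X.basicOpen a)).restrictScalars Γ(Y, V))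
  let P : StandardEtalePresentation Γ(Y, V) Γ(X, X.basicOpen a) :=
    Algebra.IsStandardEtale.nonempty_standardEtalePresentation.some
  let α : AdjoinRoot P.f →ₐ[Γ(Y, V)] Γ(X, X.basicOpen a) := AdjoinRoot.liftAlgHom _ (Algebra.ofId _ _) P.x P.hasMap.1
  let d := AdjoinRoot.mk P.f (Polynomial.derivative P.f)
  let ψ : Localization.Away d →ₐ[Γ(Y, V)] Γ(X, X.basicOpen a) :=
    IsLocalization.Away.liftAlgHom d (f := α) (show IsUnit (α d) from P.hasMap.isUnit_derivative_f)
  haveI hψ : IsOpenImmersion (Spec.map (CommRingCat.ofHom ψ.toRingHom)) := by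
    letI : Algebra (AdjoinRoot P.f) Γ(X, X.basicOpen a) := α.toRingHom.toAlgebra
    haveI : IsLocalization.Away (AdjoinRoot.mk P.f P.g) Γ(X, X.basicOpen a) := by
      let E := P.equivRing.trans P.P.equivAwayAdjoinRoot
      refine IsLocalization.isLocalization_of_algEquiv (S := Localization.Away (AdjoinRoot.mk P.f P.g)) _
        (AlgEquiv.ofRingEquiv (f := E.symm.toRingEquiv) fun z => ?_)
      have h : (E.symm.toAlgHom.comp (IsScalarTower.toAlgHom Γ(Y, V) (AdjoinRoot P.f) _)) = α := by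
        refine AdjoinRoot.algHom_ext ?_
        simp [E, α, StandardEtalePair.equivAwayAdjoinRoot]
      exact congr($h z)
    haveI : IsOpenImmersion (Spec.map (CommRingCat.ofHom ψ.toRingHom) ≫
        Spec.map (CommRingCat.ofHom (algebraMap (AdjoinRoot P.f) (Localization.Away d)))) := by
      rw [← Spec.map_comp, ← CommRingCat.ofHom_comp,
        show ψ.toRingHom.comp (algebraMap (AdjoinRoot P.f) (Localization.Away d)) =
          algebraMap (AdjoinRoot P.f) Γ(X, X.basicOpen a) from IsLocalization.Away.lift_comp d (show IsUnit (α.toRingHom d) from P.hasMap.isUnit_derivative_f)]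
      exact IsOpenImmersion.of_isLocalization (AdjoinRoot.mk P.f P.g)
    haveI : IsOpenImmersion (Spec.map (CommRingCat.ofHom (algebraMap (AdjoinRoot P.f) (Localization.Away d)))) :=
      IsOpenImmersion.of_isLocalization d
    exact IsOpenImmersion.of_comp _ (Spec.map (CommRingCat.ofHom (algebraMap (AdjoinRoot P.f) (Localization.Away d))))
  refine ⟨X.basicOpen a, hU, hxU, e, P.f, P.monic_f,
    hU.isoSpec.hom ≫ Spec.map (CommRingCat.ofHom ψ.toRingHom), inferInstance, ?_⟩
  rw [Category.assoc, ← Spec.map_comp]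
  congr 2
  ext r
  exact ψ.commutes r

end Groth.Agent.S9567
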