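import Groth.Statements.S9693
-- import your own Groth.Agent.* helpers here

set_option autoImplicit false
universe u
open CategoryTheory CategoryTheory.Limits AlgebraicGeometry
open Mor

namespace Groth.Agent.S9693

/-- A base change of an H-projective morphism (a closed immersion into some P^n over the base followed
by the projection) is H-projective. -/
theorem result {X S S' : Scheme.{u}} (f : X ⟶ S) (hf : RelProj.IsHProjective f)
    (g : S' ⟶ S) : RelProj.IsHProjective (pullback.snd f g) := by
  obtain ⟨n, i, hi, rfl⟩ := hf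
  let w := AlgebraicGeometry.specULiftZIsTerminal.{u}
  have hw : g ≫ w.from S = w.from S' := w.hom_ext _ _
  have sq0 : IsPullback (pullback.fst (CohB1.ProjSpace.toSpec n (ULift.{u} ℤ)) (w.from S'))
      (CohB1.ProjSpaceOver.toBase n S') (CohB1.ProjSpace.toSpec n (ULift.{u} ℤ)) (g ≫ w.from S) := by
    rw [hw]
    exact IsPullback.of_hasPullback _ _
  have sqS : IsPullback (pullback.fst (CohB1.ProjSpace.toSpec n (ULift.{u} ℤ)) (w.from S))
      (CohB1.ProjSpaceOver.toBase n S) (CohB1.ProjSpace.toSpec n (ULift.{u} ℤ)) (w.from S) :=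
    IsPullback.of_hasPullback _ _
  let q : CohB1.ProjSpaceOver n S' ⟶ CohB1.ProjSpaceOver n S :=
    sqS.lift (pullback.fst _ _) (CohB1.ProjSpaceOver.toBase n S' ≫ g) (by rw [Category.assoc]; exact sq0.w)
  have sq : IsPullback q (CohB1.ProjSpaceOver.toBase n S') (CohB1.ProjSpaceOver.toBase n S) g := by
    refine IsPullback.of_right (h₁₂ := pullback.fst (CohB1.ProjSpace.toSpec n (ULift.{u} ℤ)) (w.from S))
      (h₂₂ := w.from S) ?_ (sqS.lift_snd _ _ _) sqS
    have e : q ≫ pullback.fst (CohB1.ProjSpace.toSpec n (ULift.{u} ℤ)) (w.from S) =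
        pullback.fst (CohB1.ProjSpace.toSpec n (ULift.{u} ℤ)) (w.from S') := sqS.lift_fst _ _ _
    exact e.symm ▸ sq0
  let i' : pullback (i ≫ CohB1.ProjSpaceOver.toBase n S) g ⟶ CohB1.ProjSpaceOver n S' :=
    sq.lift (pullback.fst _ _ ≫ i) (pullback.snd _ _) (by rw [Category.assoc, pullback.condition])
  refine ⟨n, i', ?_, sq.lift_snd _ _ _⟩
  have h1 : IsPullback (pullback.fst (i ≫ CohB1.ProjSpaceOver.toBase n S) g) i' i q := by
    refine IsPullback.of_bot ?_ (sq.lift_fst _ _ _).symm sq
    rw [sq.lift_snd]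
    exact IsPullback.of_hasPullback _ _
  exact MorphismProperty.IsStableUnderBaseChange.of_isPullback (P := @IsClosedImmersion) h1 hi

end Groth.Agent.S9693
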