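import Groth.Statements.S9705
import Groth.Agent.PnCoh.Chow.Proper

set_option autoImplicit false
universe u
open CategoryTheory CategoryTheory.Limits AlgebraicGeometry
open Mor

namespace Groth.Agent.S9705

/-- Over a quasi-compact quasi-separated scheme S, a morphism f : X ⟶ S is H-projective if and only if
it is H-quasi-projective and proper. -/
theorem result {X S : Scheme.{u}} [CompactSpace ↥S]
    [QuasiSeparatedSpace ↥S] (f : X ⟶ S) :
    RelProj.IsHProjective f ↔ RelProj.IsHQuasiProjective f ∧ IsProper f := by
  have hproper : ∀ n : ℕ, IsProper (CohB1.ProjSpaceOver.toBase n S) := fun n => by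
    have := Groth.Agent.PnCoh.Chow.isProper_toSpec n (ULift.{u} ℤ)
    exact inferInstanceAs (IsProper (Limits.pullback.snd (CohB1.ProjSpace.toSpec n (ULift.{u} ℤ)) (specULiftZIsTerminal.from S)))
  constructor
  · rintro ⟨n, i, hi, rfl⟩
    have := hproper n
    exact ⟨⟨n, i, inferInstance, inferInstance, rfl⟩, inferInstance⟩
  · rintro ⟨⟨n, i, hi, hqc, rfl⟩, hp⟩
    have := hproper n
    have : IsProper i := IsProper.of_comp i (CohB1.ProjSpaceOver.toBase n S)
    exact ⟨n, i, IsClosedImmersion.of_isPreimmersion i i.isClosedMap.isClosed_range, rfl⟩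

end Groth.Agent.S9705
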