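import Groth.Statements.S9706
import Groth.Agent.RelProj34.QPImm
import Groth.Agent.RelProj34.ProjMor

set_option autoImplicit false
universe u
open CategoryTheory CategoryTheory.Limits AlgebraicGeometry
open Mor

namespace Groth.Agent.S9706

/-- Let S be quasi-compact and quasi-separated and f : X ⟶ S quasi-projective. Then f factors as an open
immersion X ⟶ X' followed by a projective morphism X' ⟶ S. Here X' ⟶ S projective means isomorphic
over S to the relative Proj of a quasi-coherent graded algebra generated by its finite-type
degree-one part; the published definition uses closed subschemes of P(E) with E of finite type, an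
equivalent condition. -/
theorem result {X S : Scheme.{u}} [CompactSpace ↥S]
    [QuasiSeparatedSpace ↥S] (f : X ⟶ S) (hf : RelProj.IsQuasiProjective f) :
    ∃ (X' : Scheme.{u}) (j : X ⟶ X') (g : X' ⟶ S), IsOpenImmersion j ∧ RelProj.IsProjective g ∧ j ≫ g = f := by
  obtain ⟨_, _, L, hL⟩ := hf
  obtain ⟨E, hE, hft, 𝒯, jE, hj, P, p, chart, hP, i, hi, rfl⟩ :=
    Groth.Agent.RelProj34.exists_immersion_projBundle hL
  have := Groth.Agent.Proj16.isSeparated hP
  have : QuasiCompact i := QuasiCompact.of_comp i p
  exact ⟨i.image, i.toImage, i.imageι ≫ p, inferInstance,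
    Groth.Agent.RelProj34.isProjective_of_closedImmersion hE hft hj hP i.imageι rfl,
    Scheme.Hom.toImage_imageι_assoc i p⟩

end Groth.Agent.S9706
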