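import Groth.Statements.S9713
import Groth.Agent.RelProj34.ProjMorOps

set_option autoImplicit false
universe u
open CategoryTheory CategoryTheory.Limits AlgebraicGeometry
open Mor

namespace Groth.Agent.S9713

/-- A base change of a locally projective morphism (every point of the base has an open neighbourhood U
with f⁻¹(U) ⟶ U projective) is locally projective. Here f⁻¹(U) ⟶ U projective means isomorphic over
U to the relative Proj of a quasi-coherent graded algebra generated by its finite-type degree-one
part; the published definition uses closed subschemes of P(E) with E of finite type, an equivalent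
condition. -/
theorem result {X S S' : Scheme.{u}} (f : X ⟶ S) (hf : RelProj.IsLocallyProjective f)
    (g : S' ⟶ S) : RelProj.IsLocallyProjective (pullback.snd f g) := by
  intro s'
  obtain ⟨U, hs, hU⟩ := hf (g s')
  refine ⟨g ⁻¹ᵁ U, hs, ?_⟩
  have e : pullback.snd f g ⁻¹ᵁ g ⁻¹ᵁ U ≤ pullback.fst f g ⁻¹ᵁ f ⁻¹ᵁ U := by
    rw [← Scheme.Hom.comp_preimage, ← Scheme.Hom.comp_preimage, pullback.condition]
  have big := ((isPullback_morphismRestrict (pullback.snd f g) (g ⁻¹ᵁ U)).flip.paste_horiz
    (IsPullback.of_hasPullback f g))
  rw [← morphismRestrict_ι g U, ← Scheme.Hom.resLE_comp_ι (pullback.fst f g) e] at big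
  have h := big.of_right (by
    rw [← cancel_mono U.ι, Category.assoc, Category.assoc, morphismRestrict_ι, morphismRestrict_ι,
      Scheme.Hom.resLE_comp_ι_assoc, morphismRestrict_ι_assoc, pullback.condition]) (isPullback_morphismRestrict f U).flip
  exact Groth.Agent.RelProj34.isProjective_of_isPullback hU h

end Groth.Agent.S9713
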