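import Groth.Statements.S9727
import Groth.Agent.FibEt14.Lift
-- import your own Groth.Agent.* helpers here

set_option autoImplicit false
universe u
open FlatMor

namespace Groth.Agent.S9727

open AlgebraicGeometry CategoryTheory Limits in
/-- Let f : X ⟶ S be a morphism, x a point of X with image s, and (V, v) ⟶ (X_s, x) an étale
neighbourhood of x in its fibre. Then there is an étale neighbourhood (U, u) ⟶ (X, x) whose fibre
U_s over s admits a morphism of étale neighbourhoods (U_s, u) ⟶ (V, v) over X_s which is an open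
immersion. -/
theorem result {X S V : Scheme.{u}} (f : X ⟶ S) (x : X)
    (g : V ⟶ f.fiber (f x)) [Etale g] (v : V) (hv : g v = f.asFiber x) :
    ∃ (U : Scheme.{u}) (p : U ⟶ X) (u : U) (m : (p ≫ f).fiber (f x) ⟶ V) (u' : ↑((p ≫ f).fiber (f x))),
      Etale p ∧ p u = x ∧ IsOpenImmersion m ∧ m ≫ g = MoreMor.fiberMap p f (f x) ∧
      (p ≫ f).fiberι (f x) u' = u ∧ m u' = v := by
  classical
  obtain ⟨A, T, j, hA, k, hj, hT, hz, sq⟩ := Groth.Agent.FibEt14.exists_affine_fiber f (f x) (g v)
  obtain ⟨U, h, hh, hho, u'', hu''⟩ := Groth.Agent.FibEt14.exists_etale_lift (f.fiberι (f x)) g v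
    ⟨A, T, j, hA, k, hj, hT, hz, sq⟩
  let p : U.left ⟶ X := U.hom
  have h1 : MoreMor.fiberMap p f (f x) ≫ f.fiberι (f x) = (p ≫ f).fiberι (f x) ≫ p := by
    exact pullback.lift_fst _ _ _
  have h2 : MoreMor.fiberMap p f (f x) ≫ f.fiberToSpecResidueField (f x) =
      (p ≫ f).fiberToSpecResidueField (f x) := by
    exact pullback.lift_snd _ _ _
  have sqU : IsPullback ((p ≫ f).fiberι (f x)) (MoreMor.fiberMap p f (f x)) p (f.fiberι (f x)) :=
    IsPullback.of_bot (h2.symm ▸ IsPullback.of_hasPullback (p ≫ f) (S.fromSpecResidueField (f x)))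
      h1.symm (IsPullback.of_hasPullback f (S.fromSpecResidueField (f x)))
  let e := sqU.isoPullback
  refine ⟨U.left, p, (pullback.fst p (f.fiberι (f x))).base u'', e.hom ≫ h, e.inv.base u'', U.prop, ?_,
    inferInstance, ?_, ?_, ?_⟩
  · have hcnd := pullback.condition (f := p) (g := f.fiberι (f x))
    rw [← Scheme.Hom.comp_apply, hcnd, Scheme.Hom.comp_apply, ← hh, Scheme.Hom.comp_apply, hu'', hv]
    exact f.fiberι_asFiber x
  · rw [Category.assoc, hh]
    exact sqU.isoPullback_hom_snd
  · rw [← Scheme.Hom.comp_apply, sqU.isoPullback_inv_fst]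
  · rw [← Scheme.Hom.comp_apply, Iso.inv_hom_id_assoc]
    exact hu''

end Groth.Agent.S9727
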