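import Groth.Statements.S9750
import Groth.Agent.FlatEtaleHx.Thick
import Groth.Agent.MorLib.FormallyEtaleHom
import Groth.Agent.UnivThick.Scheme

set_option autoImplicit false
set_option backward.isDefEq.respectTransparency false
universe u
open FlatMor

namespace Groth.Agent.S9750

open AlgebraicGeometry CategoryTheory Limits in
/-- (1) ⇔ (2) ⇔ (3): a morphism f : X ⟶ S is formally étale (unique infinitesimal lifting against
square-zero thickenings of affine schemes) if and only if f is formally unramified and X, through
the identity and f, is its own universal square-zero (first order) thickening relative to f; and,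
for f formally unramified with universal first order thickening data (i : X ⟶ X', h' : X' ⟶ S), f is
formally étale if and only if the conormal sheaf of i (the conormal sheaf of f) is zero. The
published statement also lists a fourth equivalent condition, the vanishing of both the sheaf of
differentials and the conormal sheaf; this row omits it. -/
theorem result {X S : Scheme.{u}} (f : X ⟶ S) :
    (MoreMor.IsFormallyEtaleHom f ↔ FormallyUnramified f ∧ OmegaSh.IsUnivThickening f (𝟙 X) f) ∧
    (∀ {X' : Scheme.{u}} (i : X ⟶ X') (h' : X' ⟶ S) [QuasiCompact i], FormallyUnramified f →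
      OmegaSh.IsUnivThickening f i h' → (MoreMor.IsFormallyEtaleHom f ↔ IsZero (Omega.conormal i))) := by
  have hid : MoreMor.IsFirstOrderThickening (𝟙 X) :=
    ⟨⟨inferInstance, inferInstance⟩, by
      rw [Scheme.Hom.ker_eq_bot_of_isIso]
      exact Scheme.IdealSheafData.ext (funext fun V => by simp)⟩
  have hback : OmegaSh.IsUnivThickening f (𝟙 X) f → MoreMor.IsFormallyEtaleHom f := fun hu A _ I hI a b w => by
    obtain ⟨l, ⟨h1, h2⟩, hl⟩ := hu.2.2 _ _ _ b a (MorLib.isFirstOrderThickening_quotientMk A I hI) w
    rw [Category.comp_id] at h1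
    exact ⟨l, ⟨h1, h2⟩, fun m hm => hl m ⟨by rw [Category.comp_id]; exact hm.1, hm.2⟩⟩
  have hforth : MoreMor.IsFormallyEtaleHom f → OmegaSh.IsUnivThickening f (𝟙 X) f := fun hf =>
    ⟨hid, Category.id_comp f, fun T T' j b a hj w => by
      obtain ⟨l, ⟨h1, h2⟩, hl⟩ := MorLib.existsUnique_lift_of_isFirstOrderThickening hf j hj a b w
      exact ⟨l, ⟨by rw [Category.comp_id]; exact h1, h2⟩, fun m hm => hl m ⟨hm.1.trans (Category.comp_id a), hm.2⟩⟩⟩
  refine ⟨⟨fun hf => ⟨UnivThick.formallyUnramified_of_isUnivThickening (hforth hf), hforth hf⟩, fun h => hback h.2⟩,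
    fun {X'} i h' _ _ hu => ?_⟩
  haveI : IsClosedImmersion i := hu.1.1.1
  constructor
  · intro hf
    obtain ⟨e, he, -⟩ := UnivThick.exists_iso_of_isUniv (hforth hf) hu
    haveI : IsIso i := by rw [← he, Category.id_comp]; exact Iso.isIso_hom e
    exact FlatEtaleHx.isZero_conormal_of_isIso i
  · intro hz
    haveI : IsIso i := FlatEtaleHx.isIso_of_isZero_conormal i hu.1 hz
    exact hback (UnivThick.isUniv_of_iso (Iso.refl X) (asIso i) (𝟙 X) (by simp) hu |> fun hu' =>
      UnivThick.isUniv_congr (by simp) (by simp [hu.2.1]) hu')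

end Groth.Agent.S9750
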