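import Groth.Statements.S9769
import Groth.Agent.S1393
import Groth.Agent.S1392
import Groth.Agent.FibFlat.Stalk
import Groth.Agent.KFlatLib.Scheme.Pullback
-- import your own Groth.Agent.* helpers here

set_option autoImplicit false
universe u
open scoped TensorProduct
open FlatMor

set_option linter.style.haveILetI false
set_option backward.isDefEq.respectTransparency false
set_option maxHeartbeats 1000000
namespace Groth.Agent.S9769

open TensorProduct IsLocalRing in
/-- Freeness descends from a base change along which the local rings of the fibres are flat. -/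
theorem free_of_baseChange {A A' B B' M : Type u} [CommRing A] [IsLocalRing A] [CommRing A'] [IsLocalRing A']
    [CommRing B] [IsLocalRing B] [CommRing B'] [IsLocalRing B'] [Algebra A B] [IsLocalHom (algebraMap A B)]
    [Algebra A' B'] [IsLocalHom (algebraMap A' B')] [Algebra B B'] [IsLocalHom (algebraMap B B')]
    [AddCommGroup M] [Module B M] [Module A M] [IsScalarTower A B M] [Module.FinitePresentation B M]
    [Module.Flat A M]
    (hle : (maximalIdeal A).map (algebraMap A B) ≤ ((maximalIdeal A').map (algebraMap A' B')).comap (algebraMap B B'))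
    (hff : (Ideal.quotientMap ((maximalIdeal A').map (algebraMap A' B')) (algebraMap B B') hle).Flat)
    (hfree : Module.Free B' (B' ⊗[B] M)) : Module.Free B M := by
  let J := (maximalIdeal A).map (algebraMap A B)
  let J' := (maximalIdeal A').map (algebraMap A' B')
  have hJ : J ≤ maximalIdeal B := map_maximalIdeal_le _
  have hJ' : J' ≤ maximalIdeal B' := map_maximalIdeal_le _
  haveI : Nontrivial (B ⧸ J) :=
    Ideal.Quotient.nontrivial_iff.2 fun e => (maximalIdeal.isMaximal B).ne_top (top_le_iff.1 (e ▸ hJ))
  haveI : Nontrivial (B' ⧸ J') :=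
    Ideal.Quotient.nontrivial_iff.2 fun e => (maximalIdeal.isMaximal B').ne_top (top_le_iff.1 (e ▸ hJ'))
  haveI : IsLocalRing (B ⧸ J) := .of_surjective' _ Ideal.Quotient.mk_surjective
  haveI : IsLocalRing (B' ⧸ J') := .of_surjective' _ Ideal.Quotient.mk_surjective
  let φ : B ⧸ J →+* B' ⧸ J' := Ideal.quotientMap J' (algebraMap B B') hle
  letI : Algebra (B ⧸ J) (B' ⧸ J') := φ.toAlgebra
  haveI : IsScalarTower B (B ⧸ J) (B' ⧸ J') := IsScalarTower.of_algebraMap_eq fun b => rfl
  haveI : Module.Flat (B ⧸ J) (B' ⧸ J') := hff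
  haveI : IsLocalHom (algebraMap (B ⧸ J) (B' ⧸ J')) := ⟨fun a ha => by
    obtain ⟨b, rfl⟩ := Ideal.Quotient.mk_surjective a
    haveI : IsLocalHom (Ideal.Quotient.mk J') := .of_surjective _ Ideal.Quotient.mk_surjective
    exact (isUnit_of_map_unit (algebraMap B B') b (isUnit_of_map_unit (Ideal.Quotient.mk J') _ ha)).map _⟩
  haveI : Module.FaithfullyFlat (B ⧸ J) (B' ⧸ J') := Module.FaithfullyFlat.of_flat_of_isLocalHom
  haveI := hfree
  haveI : Module.Free (B' ⧸ J') ((B' ⧸ J') ⊗[B] M) :=
    Module.Free.of_equiv (AlgebraTensorModule.cancelBaseChange B B' (B' ⧸ J') (B' ⧸ J') M)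
  haveI : Module.Flat (B' ⧸ J') ((B' ⧸ J') ⊗[B ⧸ J] ((B ⧸ J) ⊗[B] M)) :=
    Module.Flat.of_linearEquiv (AlgebraTensorModule.cancelBaseChange B (B ⧸ J) (B' ⧸ J') (B' ⧸ J') M)
  haveI : Module.Flat (B ⧸ J) ((B ⧸ J) ⊗[B] M) :=
    Groth.Agent.S1392.descend (R := B ⧸ J) (A := B ⧸ J) (R' := B' ⧸ J') (L := B' ⧸ J') inferInstance
  refine Groth.Agent.S1393.free_of_fibre (A := A) (B := B) ?_
  let e : ((B ⧸ J) ⊗[B] M) ≃ₗ[B ⧸ J] M ⧸ (J • (⊤ : Submodule B M)) :=
    { TensorProduct.quotTensorEquivQuotSMul M J with
      map_smul' := fun r x => by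
        obtain ⟨b, rfl⟩ := Ideal.Quotient.mk_surjective r
        show TensorProduct.quotTensorEquivQuotSMul M J ((algebraMap B (B ⧸ J) b) • x) = _
        rw [algebraMap_smul, map_smul]
        rfl }
  exact Module.Flat.of_linearEquiv e.symm


open AlgebraicGeometry CategoryTheory Limits in
/-- Let f : X ⟶ S be locally of finite presentation and F a finitely presented O_X-module which is flat
over S. Then the formation of the locus of points of X near which F is free (equivalently, for
finitely presented F, where the stalk of F is a free module) commutes with arbitrary base change: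
for a cartesian square with g' : X' ⟶ X over S' ⟶ S, the free locus of (g')^*F is the preimage of
that of F. The published statement also asserts that this locus is open; this row states only that
its formation commutes with base change. -/
theorem result {X S X' S' : Scheme.{u}} (f : X ⟶ S) [LocallyOfFinitePresentation f]
    (F : X.Modules) (hF : CohB1.IsFP F) (hfl : FlatMod.IsFlatOver f F)
    (g : S' ⟶ S) (f' : X' ⟶ S') (g' : X' ⟶ X) (hc : IsPullback g' f' f g) :
    {x' : ↑X' | Module.Free ↑(X'.presheaf.stalk x') ↑(((Scheme.Modules.pullback g').obj F).presheaf.stalk x')} =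
      g' ⁻¹' {x : ↑X | Module.Free ↑(X.presheaf.stalk x) ↑(F.presheaf.stalk x)} := by
  haveI hFq : Coh.IsQCoh F := by
    haveI := hF; exact (inferInstance : SheafOfModules.IsQuasicoherent (R := X.ringCatSheaf) F)
  ext x'
  simp only [Set.mem_ofPred_eq, Set.mem_preimage]
  letI := (g'.stalkMap x').hom.toAlgebra
  let e : (((Scheme.Modules.pullback g').obj F).presheaf.stalk x') ≃ₗ[X'.presheaf.stalk x']
      X'.presheaf.stalk x' ⊗[X.presheaf.stalk (g' x')] F.presheaf.stalk (g' x') :=
    ((KFlatLib.stalkPullbackIso g' x').app F).toLinearEquiv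
  constructor
  · intro h
    haveI := h
    letI := (f.stalkMap (g' x')).hom.toAlgebra
    letI := (f'.stalkMap x').hom.toAlgebra
    letI := FlatMod.moduleStalkOver f F (g' x')
    haveI : IsScalarTower (S.presheaf.stalk (f (g' x'))) (X.presheaf.stalk (g' x')) (F.presheaf.stalk (g' x')) :=
      IsScalarTower.of_algebraMap_smul fun _ _ => rfl
    haveI : Module.Flat (S.presheaf.stalk (f (g' x'))) (F.presheaf.stalk (g' x')) := hfl _
    haveI : IsLocalHom (algebraMap (S.presheaf.stalk (f (g' x'))) (X.presheaf.stalk (g' x'))) :=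
      inferInstanceAs (IsLocalHom (f.stalkMap (g' x')).hom)
    haveI : IsLocalHom (algebraMap (S'.presheaf.stalk (f' x')) (X'.presheaf.stalk x')) :=
      inferInstanceAs (IsLocalHom (f'.stalkMap x').hom)
    haveI : IsLocalHom (algebraMap (X.presheaf.stalk (g' x')) (X'.presheaf.stalk x')) :=
      inferInstanceAs (IsLocalHom (g'.stalkMap x').hom)
    haveI := Groth.Agent.S1393.fp_stalk hFq hF (g' x')
    have hle : (IsLocalRing.maximalIdeal _).map (f.stalkMap (g' x')).hom ≤
        ((IsLocalRing.maximalIdeal _).map (f'.stalkMap x').hom).comap (g'.stalkMap x').hom := by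
      rw [Ideal.map_le_iff_le_comap]
      intro a ha
      have hs : g (f' x') = f (g' x') := by rw [← Scheme.Hom.comp_apply, ← hc.w, Scheme.Hom.comp_apply]
      have e1 := Groth.Agent.FibFlat.sm_comp g' f x' (g' x') (f (g' x')) rfl rfl
      rw [Groth.Agent.FibFlat.sm_congr hc.w, Groth.Agent.FibFlat.sm_comp f' g x' (f' x') (f (g' x')) rfl hs,
        Groth.Agent.FibFlat.sm_self, Groth.Agent.FibFlat.sm_self, Groth.Agent.FibFlat.sm_self] at e1
      show (g'.stalkMap x').hom ((f.stalkMap (g' x')).hom a) ∈
        (IsLocalRing.maximalIdeal (S'.presheaf.stalk (f' x'))).map (f'.stalkMap x').hom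
      have e2 := RingHom.congr_fun e1 a
      rw [RingHom.comp_apply, RingHom.comp_apply] at e2
      exact Eq.subst (motive := fun z => z ∈
        (IsLocalRing.maximalIdeal (S'.presheaf.stalk (f' x'))).map (f'.stalkMap x').hom) e2
        (Ideal.mem_map_of_mem _ (map_nonunit _ a ha))
    refine free_of_baseChange (A := S.presheaf.stalk (f (g' x'))) (A' := S'.presheaf.stalk (f' x'))
      (B := X.presheaf.stalk (g' x')) (B' := X'.presheaf.stalk x') hle ?_ (Module.Free.of_equiv e)
    have hq := Groth.Agent.FibFlat.quotient_flat_of_isPullback hc x'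
      (by simp only [Groth.Agent.FibFlat.sm_self]; exact hle)
    simp only [Groth.Agent.FibFlat.sm_self] at hq
    convert hq using 3 <;> first
      | exact (Groth.Agent.FibFlat.sm_self f' x').symm
      | exact (Groth.Agent.FibFlat.sm_self g' x').symm
      | exact (Groth.Agent.FibFlat.sm_self f (g' x')).symm
      | rfl
  · intro h
    haveI := h
    exact Module.Free.of_equiv e.symm

end Groth.Agent.S9769
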