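import Groth.Statements.S9779
import Groth.Agent.S3433
import Groth.Agent.Triage.SliceCM
import Groth.Agent.FDescent.QuasiFlat
-- import your own Groth.Agent.* helpers here

set_option autoImplicit false
universe u
open FlatMor

set_option backward.isDefEq.respectTransparency false
open IsLocalRing TopologicalSpace

namespace Groth.Agent.S9779

/-- In the spectrum of a Noetherian local ring a nonempty open set avoiding the closed point
contains a point covered only by the closed point. -/
theorem exists_coatom {A : Type u} [CommRing A] [IsNoetherianRing A] [IsLocalRing A]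
    {O : Set (PrimeSpectrum A)} (hO : IsOpen O) (hne : O.Nonempty) (hc : closedPoint A ∉ O) :
    ∃ p ∈ O, ∀ r : PrimeSpectrum A, p ⤳ r → r = p ∨ r = closedPoint A := by
  obtain ⟨q, hq⟩ := hne
  obtain ⟨hJ, hdim⟩ := Groth.Agent.S3433.result A
  haveI := hJ
  let Y : Set (PrimeSpectrum A) := {closedPoint A}ᶜ
  have hqY : q ∈ Y := fun h => hc ((Set.mem_singleton_iff.1 h) ▸ hq)
  obtain ⟨⟨p, hpY⟩, hp, hpcl⟩ : ((Subtype.val ⁻¹' O : Set Y) ∩ closedPoints Y).Nonempty :=
    nonempty_inter_closedPoints ⟨⟨q, hqY⟩, hq⟩ (hO.preimage continuous_subtype_val).isLocallyClosed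
  refine ⟨p, hp, fun r hr => ?_⟩
  by_cases h : r = closedPoint A
  · exact Or.inr h
  · refine Or.inl (congrArg Subtype.val (?_ : (⟨r, h⟩ : Y) = ⟨p, hpY⟩))
    exact Set.mem_singleton_iff.1 (Specializes.mem_closed ((subtype_specializes_iff ⟨p, hpY⟩ ⟨r, h⟩).2 hr)
      hpcl rfl)


open AlgebraicGeometry CategoryTheory Limits in
/-- Suppose S is locally Noetherian and the morphism f : X ⟶ S is locally of finite type; take x a point
of X closed in its fibre, and U ⊆ X an open subscheme not meeting the fibre through x but with x in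
the closure of U. Then there is a closed subscheme Z of X passing through x such that Z ⟶ S is
quasi-finite at x and Z contains a point z of U specializing to x with f z ≠ f x. -/
theorem result {X S : Scheme.{u}} (f : X ⟶ S) [LocallyOfFiniteType f] [IsLocallyNoetherian S] (x : X)
    (hcl : IsClosed (Subtype.val ⁻¹' {x} : Set ↑(f ⁻¹' {f x}))) (U : X.Opens)
    (hU : ∀ x' ∈ U, f x' ≠ f x) (hxU : x ∈ closure (U : Set ↑X)) :
    ∃ (I : X.IdealSheafData) (z₀ x₀ : ↑I.subscheme), I.subschemeι x₀ = x ∧ (I.subschemeι ≫ f).QuasiFiniteAt x₀ ∧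
      I.subschemeι z₀ ∈ U ∧ I.subschemeι z₀ ⤳ x ∧ f (I.subschemeι z₀) ≠ f x := by
  haveI := LocallyOfFiniteType.isLocallyNoetherian f
  obtain ⟨w, hw⟩ := Groth.Agent.FDescent.exists_specializes_of_mem_closure_range (f := U.ι) (y := x)
    (by rw [Scheme.Opens.range_ι]; exact hxU)
  let φ := X.fromSpecStalk x
  obtain ⟨q, hq⟩ : U.ι.base w ∈ Set.range φ.base := by
    rw [Scheme.range_fromSpecStalk]; exact hw
  have hcl' : φ.base (closedPoint (X.presheaf.stalk x)) = x := Scheme.fromSpecStalk_closedPoint
  obtain ⟨p, hp, hmax⟩ := exists_coatom (O := φ.base ⁻¹' (U : Set ↑X)) (U.isOpen.preimage φ.continuous)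
    ⟨q, by rw [Set.mem_preimage, hq]; exact w.2⟩ (fun h => hU _ h (by rw [hcl']))
  have hzx : φ.base p ⤳ x := by
    have := (IsLocalRing.specializes_closedPoint p).map φ.continuous
    rwa [hcl'] at this
  have hfz : f (φ.base p) ≠ f x := hU _ hp
  let I : X.IdealSheafData := Scheme.IdealSheafData.vanishingIdeal ⟨closure {φ.base p}, isClosed_closure⟩
  have hrange : Set.range I.subschemeι.base = closure {φ.base p} := by
    simp [I]
  obtain ⟨z₀, hz₀⟩ : φ.base p ∈ Set.range I.subschemeι.base := by
    rw [hrange]; exact subset_closure rfl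
  obtain ⟨x₀, hx₀⟩ : x ∈ Set.range I.subschemeι.base := by
    rw [hrange]; exact specializes_iff_mem_closure.1 hzx
  refine ⟨I, z₀, x₀, hx₀, ?_, by rw [hz₀]; exact hp, by rw [hz₀]; exact hzx, by rw [hz₀]; exact hfz⟩
  let g := I.subschemeι ≫ f
  have hgx : g.base x₀ = f x := by rw [Scheme.Hom.comp_apply, hx₀]
  rw [Scheme.Hom.quasiFiniteAt_iff_isOpen_singleton_asFiber]
  haveI := LocallyOfFiniteType.isLocallyNoetherian (g.fiberToSpecResidueField (g x₀))
  have hinj : Function.Injective fun y => I.subschemeι.base ((g.fiberι (g x₀)).base y) :=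
    I.subschemeι.isEmbedding.injective.comp (g.fiberι (g x₀)).isEmbedding.injective
  have hfib : ∀ y, f (I.subschemeι.base ((g.fiberι (g x₀)).base y)) = f x := fun y => by
    rw [← hgx, ← Scheme.Hom.comp_apply]
    exact (g.range_fiberι (g x₀)).le ⟨y, rfl⟩
  have hasx : I.subschemeι.base ((g.fiberι (g x₀)).base (g.asFiber x₀)) = x := by
    rw [g.fiberι_asFiber]; exact hx₀
  refine Groth.Agent.Triage.SliceCM.isOpen_singleton_of_minimal_scheme _ ?_ ?_
  · have hc : Continuous fun y => (⟨_, hfib y⟩ : ↑(f ⁻¹' {f x})) :=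
      ((I.subschemeι.continuous.comp (g.fiberι (g x₀)).continuous).subtype_mk _)
    convert hcl.preimage hc using 1
    ext y
    simp only [Set.mem_singleton_iff, Set.mem_preimage]
    exact ⟨fun h => by rw [h, hasx], fun h => hinj (h.trans hasx.symm)⟩
  · intro y hy
    have hy1 := hy.map (I.subschemeι.continuous.comp (g.fiberι (g x₀)).continuous)
    simp only [Function.comp_apply] at hy1
    replace hy1 : I.subschemeι.base ((g.fiberι (g x₀)).base y) ⤳ x := hasx ▸ hy1
    obtain ⟨r, hr⟩ : I.subschemeι.base ((g.fiberι (g x₀)).base y) ∈ Set.range φ.base := by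
      rw [Scheme.range_fromSpecStalk]; exact hy1
    have hzy : φ.base p ⤳ φ.base r := by
      rw [hr, specializes_iff_mem_closure, ← hrange]
      exact ⟨_, rfl⟩
    rcases hmax r (φ.isEmbedding.toIsInducing.specializes_iff.1 hzy) with h | h
    · exact absurd (hfib y) (by rw [← hr, h]; exact hfz)
    · exact hinj (by
        show I.subschemeι.base ((g.fiberι (g x₀)).base y) = _
        rw [← hr, h, hcl']
        exact hasx.symm)

end Groth.Agent.S9779
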