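import Groth.Statements.S9780
import Groth.Agent.RelAss14.Scheme
-- import your own Groth.Agent.* helpers here

set_option autoImplicit false
universe u
open FlatMor

set_option backward.isDefEq.respectTransparency false
set_option backward.isDefEq.respectTransparency.types false
set_option linter.style.haveILetI false
set_option maxHeartbeats 1000000
open CategoryTheory CategoryTheory.Limits AlgebraicGeometry Groth.Agent.RelAss14

namespace Groth.Agent.S9780

/-- A point of a fibre without proper generizations in that fibre. -/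
theorem exists_minimal {W V : Scheme.{u}} (e : W ⟶ V) (w₀ : W) :
    ∃ w, e w = e w₀ ∧ ∀ w', w' ⤳ w → e w' = e w → w' = w := by
  let v := e w₀
  let z₀ := e.asFiber w₀
  have hirr := isIrreducible_irreducibleComponent (x := z₀)
  let η := hirr.genericPoint
  have hη : closure {η} = irreducibleComponent z₀ :=
    hirr.closure_genericPoint isClosed_irreducibleComponent
  have hfib : ∀ z, e (e.fiberι v z) = v := fun z => (e.range_fiberι v).le ⟨z, rfl⟩
  refine ⟨e.fiberι v η, hfib η, fun w' hw' he => ?_⟩
  obtain ⟨z, rfl⟩ : w' ∈ Set.range (e.fiberι v) := by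
    rw [e.range_fiberι]; exact he.trans (hfib η)
  have hz : z ⤳ η := (e.fiberι v).isEmbedding.toIsInducing.specializes_iff.1 hw'
  have hle : irreducibleComponent z₀ ⊆ closure {z} :=
    hη ▸ closure_minimal (Set.singleton_subset_iff.2 (specializes_iff_mem_closure.1 hz)) isClosed_closure
  have : closure {z} = closure {η} := by
    rw [hη]
    exact ((irreducibleComponent_mem_irreducibleComponents z₀).2 isIrreducible_singleton.closure hle).antisymm hle
  exact congrArg _ ((inseparable_iff_closure_eq.2 this).eq)


open AlgebraicGeometry CategoryTheory Limits in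
/-- Let f : X ⟶ S be locally of finite type, F a quasi-coherent O_X-module of finite type and U ⊆ X an
open subscheme. For a base change f' : X' ⟶ S' of f along S' ⟶ S with projection g' : X' ⟶ X, F' =
(g')^*F and U' = (g')⁻¹(U), and a point s' of S' with image s: the associated points of F on the
fibre X_s lie in U if and only if the associated points of F' on the fibre X'_{s'} lie in U'. -/
theorem result {X S X' S' : Scheme.{u}} (f : X ⟶ S) [LocallyOfFiniteType f] (F : X.Modules) [Coh.IsQCoh F]
    (hF : CohB1.IsFT F) (U : X.Opens) (g : S' ⟶ S) (f' : X' ⟶ S') (g' : X' ⟶ X) (hc : IsPullback g' f' f g) (s' : S') :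
    {x : ↑X | x ∈ MoreMor.relAss f F ∧ f x = g s'} ⊆ (U : Set ↑X) ↔
      {x' : ↑X' | x' ∈ MoreMor.relAss f' ((Scheme.Modules.pullback g').obj F) ∧ f' x' = s'} ⊆ (g' ⁻¹ᵁ U : Set ↑X') := by
  obtain ⟨e, he, hι⟩ := Groth.Agent.ConsPropLib.exists_fibre_pullback hc s'
  haveI : LocallyOfFiniteType f' := MorphismProperty.of_isPullback (P := @LocallyOfFiniteType) hc ‹_›
  haveI h1 : Flat (Spec.map (g.residueFieldMap s')) := by
    rw [Flat.SpecMap_iff]
    let := (g.residueFieldMap s').hom.toAlgebra
    exact RingHom.flat_algebraMap_iff.2 inferInstance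
  haveI : Flat e := MorphismProperty.of_isPullback (P := (@Flat : MorphismProperty Scheme.{u})) he.flip h1
  haveI : Surjective (Spec.map (g.residueFieldMap s')) := by
    haveI : Subsingleton ↑(Spec (S.residueField (g s'))) := inferInstanceAs (Subsingleton (PrimeSpectrum _))
    exact ⟨fun x => ⟨(⊥ : PrimeSpectrum (S'.residueField s')), Subsingleton.elim _ _⟩⟩
  haveI : Surjective e := MorphismProperty.of_isPullback (P := @Surjective) he.flip ‹_›
  haveI := LocallyOfFiniteType.isLocallyNoetherian (f.fiberToSpecResidueField (g s'))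
  haveI := LocallyOfFiniteType.isLocallyNoetherian (f'.fiberToSpecResidueField s')
  let F' := (Scheme.Modules.pullback g').obj F
  let G := (Scheme.Modules.pullback (f.fiberι (g s'))).obj F
  haveI : ∀ v, Module.Finite ((f.fiber (g s')).presheaf.stalk v) (G.presheaf.stalk v) :=
    fun v => finite_stalk_fibre f F hF (g s') v
  have α : (Scheme.Modules.pullback (f'.fiberι s')).obj F' ≅ (Scheme.Modules.pullback e).obj G :=
    (Scheme.Modules.pullbackComp (f'.fiberι s') g').app F ≪≫
      (Scheme.Modules.pullbackCongr hι.symm).app F ≪≫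
      ((Scheme.Modules.pullbackComp e (f.fiberι (g s'))).app F).symm
  have hv : ∀ w, g' (f'.fiberι s' w) = f.fiberι (g s') (e w) := fun w => by
    rw [← Scheme.Hom.comp_apply, ← hι, Scheme.Hom.comp_apply]
  constructor
  · rintro h x' ⟨hx', hfx'⟩
    obtain ⟨w, rfl⟩ : x' ∈ Set.range (f'.fiberι s') := by rw [f'.range_fiberι]; exact hfx'
    show g' (f'.fiberι s' w) ∈ U
    rw [hv]
    refine h ⟨?_, (f.range_fiberι (g s')).le ⟨e w, rfl⟩⟩
    rw [relAss_iff f F _ _ (e w) rfl]
    rw [relAss_iff f' F' _ _ w rfl, assPt_congr α] at hx'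
    exact assPt_apply e G w hx'
  · rintro h x ⟨hx, hfx⟩
    obtain ⟨v, rfl⟩ : x ∈ Set.range (f.fiberι (g s')) := by rw [f.range_fiberι]; exact hfx
    obtain ⟨w₀, hw₀⟩ := e.surjective v
    obtain ⟨w, hw, hmin⟩ := exists_minimal e w₀
    rw [relAss_iff f F _ _ v rfl] at hx
    have hev : e w = v := hw.trans hw₀
    subst hev
    have := h (a := f'.fiberι s' w) ⟨by
      rw [relAss_iff f' F' _ _ w rfl, assPt_congr α]
      exact assPt_of_apply e G w hx hmin, (f'.range_fiberι s').le ⟨w, rfl⟩⟩
    rw [← hv]
    exact this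

end Groth.Agent.S9780
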