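import Groth.Statements.S9787
import Groth.Agent.S2890
import Groth.Agent.CIntLib.SmoothNhd
import Groth.Agent.CIntLib.RegularPair
import Groth.Agent.GrpSchLib.SmoothRegular
import Groth.Agent.Ega41H93.NormFlat
import Groth.Agent.BlowUpX.Basic
-- import your own Groth.Agent.* helpers here

set_option autoImplicit false
universe u
open CategoryTheory CategoryTheory.Limits AlgebraicGeometry TopologicalSpace
open FlatMor

set_option backward.isDefEq.respectTransparency false
set_option linter.style.haveILetI false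

namespace Groth.Agent.S9787

/-- A smooth closed subscheme of a smooth scheme is regularly immersed. -/
theorem regular_of_smooth_pair {Z X S : Scheme.{u}} (q : X ⟶ S) [Smooth q] (i : Z ⟶ X) [IsClosedImmersion i]
    [Smooth (i ≫ q)] : Mor2.IsRegularClosedImmersion i := by
  refine ((Groth.Agent.S2890.result i q).mpr ⟨fun y => Flat.stalkMap q (i y), inferInstance, fun s => ?_⟩).2
  haveI : Smooth (q.fiberToSpecResidueField s) :=
    MorphismProperty.of_isPullback (P := @Smooth) (IsPullback.of_hasPullback q (S.fromSpecResidueField s)) ‹_›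
  haveI : Smooth ((i ≫ q).fiberToSpecResidueField s) :=
    MorphismProperty.of_isPullback (P := @Smooth) (IsPullback.of_hasPullback (i ≫ q) (S.fromSpecResidueField s)) ‹_›
  have sq : IsPullback ((i ≫ q).fiberι s) (CInt.fiberMap i q s) i (q.fiberι s) :=
    IsPullback.of_bot (v₂₁ := q.fiberToSpecResidueField s) (h₃₁ := S.fromSpecResidueField s) (v₂₂ := q)
      (by
        have h2 : CInt.fiberMap i q s ≫ q.fiberToSpecResidueField s = (i ≫ q).fiberToSpecResidueField s :=
          (pullback.lift_snd _ _ _).trans (Category.comp_id _)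
        exact h2.symm ▸ IsPullback.of_hasPullback (i ≫ q) (S.fromSpecResidueField s))
      (pullback.lift_fst _ _ _).symm
      (IsPullback.of_hasPullback q (S.fromSpecResidueField s))
  haveI : IsClosedImmersion (CInt.fiberMap i q s) :=
    MorphismProperty.of_isPullback (P := @IsClosedImmersion) sq ‹_›
  haveI := LocallyOfFiniteType.isLocallyNoetherian (q.fiberToSpecResidueField s)
  exact CIntLib.isRegularClosedImmersion_of_regular _
    (fun x => GrpSchLib.isRegularLocalRing_stalk_of_smooth (q.fiberToSpecResidueField s) x)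
    (fun z => GrpSchLib.isRegularLocalRing_stalk_of_smooth ((i ≫ q).fiberToSpecResidueField s) z)

/-- A scheme is normally flat along a regularly immersed closed subscheme. -/
theorem normallyFlat_of_regular {Z X : Scheme.{u}} (i : Z ⟶ X) (hi : Mor2.IsRegularClosedImmersion i) (z : Z) :
    EGA4.IsNormallyFlat (RingHom.ker (i.stalkMap z).hom) ↑(X.presheaf.stalk (i z)) := by
  haveI := hi.1
  obtain ⟨U, hU, hzU, rs, hrs, hI⟩ := hi.2 z
  have h1 := CIntLib.isNormallyFlat_of_weaklyRegular rs hrs.toIsWeaklyRegular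
  letI := (X.presheaf.germ U (i z) hzU).hom.toAlgebra
  let p := (hU.primeIdealOf ⟨i z, hzU⟩).asIdeal
  haveI : IsLocalization.AtPrime (X.presheaf.stalk (i z)) p := hU.isLocalization_stalk ⟨i z, hzU⟩
  rw [CIntLib.ker_stalkMap_eq_map_germ i z ⟨U, hU⟩ hzU, hI]
  exact Ega41H93.isNormallyFlat_localized p.primeCompl (X.presheaf.stalk (i z))
    (Algebra.linearMap Γ(X, U) (X.presheaf.stalk (i z))) h1


/-- For a smooth q : X ⟶ S and a closed immersion i : Z ⟶ X whose composite with q is smooth, any
blowing up b : X' ⟶ X of the ideal sheaf of Z (given by its universal property) is smooth over S,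
and so is its exceptional divisor. The published statement also identifies the exceptional divisor
over Z with the projective bundle of the conormal sheaf, with O(1) the restriction of O_{X'}(−E);
this row proves only the two smoothness claims. -/
theorem result {Z X X' S : Scheme.{u}} (q : X ⟶ S) [Smooth q] (i : Z ⟶ X) [IsClosedImmersion i]
    [Smooth (i ≫ q)] (b : X' ⟶ X) (hb : BlowUp.IsBlowUp b i.ker) :
    Smooth (b ≫ q) ∧ Smooth ((BlowUp.exceptional b i.ker).subschemeι ≫ b ≫ q) := by
  let 𝓘 := i.ker
  let j := 𝓘.subschemeι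
  haveI hj : Smooth (j ≫ q) := by
    have : j ≫ q = inv i.toImage ≫ i ≫ q := by
      rw [IsIso.eq_inv_comp, i.toImage_imageι_assoc]
    rw [this]
    infer_instance
  have hjk : j.ker = 𝓘 := 𝓘.ker_subschemeι
  have hreg := regular_of_smooth_pair q j
  have hnf := normallyFlat_of_regular j hreg
  have hE : ((BlowUp.exceptional b 𝓘).subschemeι ≫ b).ker ≥ j.ker := by
    rw [hjk]
    exact (Scheme.IdealSheafData.le_map_iff_comap_le).2 le_rfl
  let g := IsClosedImmersion.lift j ((BlowUp.exceptional b 𝓘).subschemeι ≫ b) hE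
  have hg : g ≫ j = (BlowUp.exceptional b 𝓘).subschemeι ≫ b := IsClosedImmersion.lift_fac ..
  have hgs : ∀ (I : X.IdealSheafData), I = 𝓘 → BlowUp.IsBlowUp b I →
      ∀ g : (BlowUp.exceptional b I).subscheme ⟶ 𝓘.subscheme,
      g ≫ j = (BlowUp.exceptional b I).subschemeι ≫ b → I = j.ker → Smooth g := by
    rintro I - hbI g hg rfl
    exact CIntLib.smooth_exceptional j hreg hbI g hg
  haveI : Smooth g := hgs 𝓘 rfl hb g hg hjk.symm
  have hEs : Smooth ((BlowUp.exceptional b 𝓘).subschemeι ≫ b ≫ q) := by
    rw [← reassoc_of% hg]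
    infer_instance
  refine ⟨?_, hEs⟩
  haveI : LocallyOfFinitePresentation b := (CIntLib.finitePresentation_blowUp q 𝓘 hnf hb).1
  rw [← Scheme.Hom.smoothLocus_eq_top_iff, eq_top_iff]
  intro x _
  by_cases hx : b x ∈ 𝓘.support
  · obtain ⟨e, he⟩ : x ∈ Set.range (BlowUp.exceptional b 𝓘).subschemeι := by
      rw [Scheme.IdealSheafData.range_subschemeι, Scheme.IdealSheafData.support_comap]
      exact hx
    obtain ⟨W, hxW, hW⟩ := CIntLib.sm_of_exceptional q 𝓘 hnf hb e
      ⟨⊤, trivial, inferInstance⟩
    exact (CIntLib.sm_iff_exists_nhd (b ≫ q) x).2 ⟨W, he ▸ hxW, hW⟩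
  · haveI := BlowUpX.isIso_restrict hb
    refine (CIntLib.sm_iff_exists_nhd (b ≫ q) x).2 ⟨b ⁻¹ᵁ 𝓘.support.compl, hx, ?_⟩
    rw [← morphismRestrict_ι_assoc]
    infer_instance

end Groth.Agent.S9787
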