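import Groth.Statements.S9791
import Groth.Agent.RelNorm.Affine
import Groth.Agent.Proj16.NormalExt
import Groth.Agent.GrpSchLib.SmoothRegular
import Groth.Agent.RegLoc6.Normal
import Groth.Agent.GrpSchLib.FieldSmooth
import Mathlib.AlgebraicGeometry.Morphisms.UniversallyOpen
-- import your own Groth.Agent.* helpers here

set_option autoImplicit false
universe u
open CategoryTheory CategoryTheory.Limits AlgebraicGeometry
open FlatMor

set_option backward.isDefEq.respectTransparency false
set_option backward.isDefEq.respectTransparency.types false
set_option linter.style.haveILetI false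
set_option maxHeartbeats 1000000
open IsLocalRing

namespace Groth.Agent.S9791

theorem apply_genericPoint {X Y : Scheme.{u}} (f : X ⟶ Y) [Smooth f] [IsIntegral X] [IsIntegral Y] :
    f (genericPoint X) = genericPoint Y := by
  have ho : IsOpen (Set.range f) := f.isOpenMap.isOpen_range
  obtain ⟨x, hx⟩ : genericPoint Y ∈ Set.range f :=
    ((genericPoint_spec Y).mem_open_set_iff ho).2 (by
      rw [Set.univ_inter]; exact ⟨_, genericPoint X, rfl⟩)
  have h1 : f (genericPoint X) ⤳ genericPoint Y := hx ▸ (genericPoint_specializes x).map f.continuous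
  exact (h1.antisymm (genericPoint_specializes _)).eq

/-- A scheme with a preimmersion into an integral scheme meeting the generic point, with reduced
stalks, is integral with that point generic. -/
theorem isIntegral_of_preimmersion {W X : Scheme.{u}} [IsIntegral X] [IsReduced W] (a : W ⟶ X) [IsPreimmersion a] (w : W)
    (hw : a w = genericPoint X) : ∃ _ : IsIntegral W, genericPoint W = w := by
  have hgen : IsGenericPoint w (Set.univ : Set W) := by
    rw [IsGenericPoint, Set.eq_univ_iff_forall]
    intro v
    rw [← specializes_iff_mem_closure, ← a.isEmbedding.toIsInducing.specializes_iff, hw]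
    exact genericPoint_specializes _
  haveI : IrreducibleSpace W :=
    { toPreirreducibleSpace := ⟨hgen.isIrreducible.2⟩, toNonempty := ⟨w⟩ }
  haveI : IsIntegral W := isIntegral_of_irreducibleSpace_of_isReduced W
  exact ⟨inferInstance, (genericPoint_spec W).eq hgen⟩

/-- The generic fibre of the normalization is the spectrum of the function field. -/
theorem isIso_pullback_normalization (Y : Scheme.{u}) [IsIntegral Y]
    [QuasiCompact (Y.fromSpecStalk (genericPoint Y))] [QuasiSeparated (Y.fromSpecStalk (genericPoint Y))] :
    IsIso (pullback.snd (Y.fromSpecStalk (genericPoint Y)).fromNormalization (Y.fromSpecStalk (genericPoint Y))) := by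
  let gY := Y.fromSpecStalk (genericPoint Y)
  haveI : Nonempty (Spec (Y.presheaf.stalk (genericPoint Y))) := ⟨closedPoint _⟩
  haveI : IsIntegral (Spec (Y.presheaf.stalk (genericPoint Y))) :=
    inferInstanceAs (IsIntegral (Spec Y.functionField))
  haveI : Flat gY := GrpSchLib.flat_fromSpecStalk _
  let σ := pullback.lift (f := gY.fromNormalization) (g := gY) gY.toNormalization (𝟙 _)
    (by rw [gY.toNormalization_fromNormalization, Category.id_comp])
  have hσ : σ ≫ pullback.snd _ _ = 𝟙 _ := pullback.lift_snd _ _ _
  let q := pullback.fst gY.fromNormalization gY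
  haveI : IsPreimmersion q := inferInstance
  haveI : Flat q := inferInstance
  haveI : IsReduced (pullback gY.fromNormalization gY) := by
    haveI : ∀ w, _root_.IsReduced ((pullback gY.fromNormalization gY).presheaf.stalk w) := fun w => by
      letI := (q.stalkMap w).hom.toAlgebra
      haveI : Module.Flat (gY.normalization.presheaf.stalk (q w)) _ := Flat.stalkMap q w
      haveI : IsLocalHom (algebraMap (gY.normalization.presheaf.stalk (q w))
          ((pullback gY.fromNormalization gY).presheaf.stalk w)) :=
        inferInstanceAs (IsLocalHom (q.stalkMap w).hom)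
      haveI := Module.FaithfullyFlat.of_flat_of_isLocalHom (A := gY.normalization.presheaf.stalk (q w))
        (B := (pullback gY.fromNormalization gY).presheaf.stalk w)
      exact isReduced_of_injective (RingEquiv.ofBijective (q.stalkMap w).hom
        ⟨FaithfulSMul.algebraMap_injective _ _, q.stalkMap_surjective w⟩).symm.toRingHom (RingEquiv.injective _)
    exact isReduced_of_isReduced_stalk _
  have hw : q (σ (closedPoint _)) = genericPoint gY.normalization := by
    rw [← Scheme.Hom.comp_apply, pullback.lift_fst]
    have hd : IsDominant gY.toNormalization := inferInstance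
    refine (Specializes.antisymm ?_ (genericPoint_specializes _)).eq
    rw [specializes_iff_mem_closure]
    refine closure_mono ?_ (hd.1 (genericPoint gY.normalization))
    rintro _ ⟨z, rfl⟩
    rw [show z = closedPoint _ from @Subsingleton.elim (PrimeSpectrum Y.functionField) inferInstance z _]
    rfl
  obtain ⟨_, hgen⟩ := isIntegral_of_preimmersion q (σ (closedPoint _)) hw
  haveI : IsClosedImmersion σ := by
    haveI : IsClosedImmersion (σ ≫ pullback.snd gY.fromNormalization gY) := by rw [hσ]; infer_instance
    exact IsClosedImmersion.of_comp σ (pullback.snd gY.fromNormalization gY)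
  haveI : IsDominant σ := Proj16.isDominant_of_apply_eq σ _ hgen.symm
  haveI : AlgebraicGeometry.Surjective σ :=
    ⟨Set.range_eq_univ.1 (σ.isClosedEmbedding.isClosed_range.closure_eq.symm.trans σ.denseRange.closure_range)⟩
  haveI : IsIso σ := isIso_of_isClosedImmersion_of_surjective σ
  rw [show pullback.snd gY.fromNormalization gY = inv σ from (IsIso.inv_eq_of_hom_inv_id hσ).symm]
  infer_instance


/-- In the case of integral schemes: let f : X ⟶ Y be a smooth morphism with X and Y integral, and let
X^ν ⟶ X and Y^ν ⟶ Y be the normalizations (in the function fields). Then X^ν is isomorphic over X to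
the fibre product X ×_Y Y^ν, and such an isomorphism is unique. (The published statement requires
only that each quasi-compact open subset of Y meet finitely many irreducible components of Y, and
also derives this for X; this row assumes X and Y integral, the case in which the normalization used
here is defined. The quasi-compactness and quasi-separatedness binders on Spec K(X) → X and Spec
K(Y) → Y always hold and are needed only to form the normalization.) -/
theorem result {X Y : Scheme.{u}} (f : X ⟶ Y) [Smooth f] [IsIntegral X] [IsIntegral Y]
    [QuasiCompact (X.fromSpecStalk (genericPoint X))] [QuasiSeparated (X.fromSpecStalk (genericPoint X))]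
    [QuasiCompact (Y.fromSpecStalk (genericPoint Y))] [QuasiSeparated (Y.fromSpecStalk (genericPoint Y))] :
    ∃! e : Curv2.normalization X ≅ pullback f (Curv2.normalizationι Y),
      e.hom ≫ pullback.fst f (Curv2.normalizationι Y) = Curv2.normalizationι X := by
  let gX := X.fromSpecStalk (genericPoint X)
  let gY := Y.fromSpecStalk (genericPoint Y)
  let νY := gY.fromNormalization
  let W := pullback gY f
  let a : W ⟶ X := pullback.snd gY f
  let r : W ⟶ Spec (Y.presheaf.stalk (genericPoint Y)) := pullback.fst gY f
  haveI : IsPreimmersion a := inferInstance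
  haveI : Smooth r := inferInstance
  have hη := apply_genericPoint f
  obtain ⟨w, hw⟩ : genericPoint X ∈ Set.range a := by
    obtain ⟨w, -, hw⟩ := Scheme.Pullback.exists_preimage_pullback (f := gY) (g := f)
      (closedPoint _) (genericPoint X) (Y.fromSpecStalk_closedPoint.trans hη.symm)
    exact ⟨w, hw⟩
  have hreg : ∀ v : W, IsRegularLocalRing (W.presheaf.stalk v) := fun v =>
    GrpSchLib.isRegularLocalRing_stalk_of_smooth (K := Y.functionField) r v
  haveI : IsReduced W := by
    haveI : ∀ v, _root_.IsReduced (W.presheaf.stalk v) := fun v => by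
      haveI := hreg v
      haveI := RegLoc6.isDomain_of_isRegularLocalRing (W.presheaf.stalk v)
      infer_instance
    exact isReduced_of_isReduced_stalk W
  obtain ⟨_, hgen⟩ := isIntegral_of_preimmersion a w hw
  have hN : Pi1.IsNormalScheme W := fun v => by
    haveI := hreg v
    exact ⟨RegLoc6.isDomain_of_isRegularLocalRing _, RegLoc6.isIntegrallyClosed_of_isRegularLocalRing _⟩
  have ha : a (genericPoint W) = genericPoint X := hgen ▸ hw
  let φe : X.presheaf.stalk (genericPoint X) ⟶ W.presheaf.stalk (genericPoint W) :=
    X.presheaf.stalkSpecializes (specializes_of_eq ha) ≫ a.stalkMap (genericPoint W)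
  let e : Spec W.functionField ⟶ Spec (X.presheaf.stalk (genericPoint X)) := Spec.map φe
  have he : e ≫ gX = W.fromSpecStalk (genericPoint W) ≫ a := by
    simp only [e, φe, gX, Spec.map_comp, Category.assoc, Scheme.SpecMap_stalkSpecializes_fromSpecStalk,
      Scheme.SpecMap_stalkMap_fromSpecStalk]
  haveI : IsIso φe := by
    rw [ConcreteCategory.isIso_iff_bijective]
    refine ⟨RingHom.injective (show X.functionField →+* W.functionField from φe.hom), ?_⟩
    intro z
    obtain ⟨y, hy⟩ := a.stalkMap_surjective (genericPoint W) z
    refine ⟨X.presheaf.stalkSpecializes (specializes_of_eq ha.symm) y, ?_⟩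
    show a.stalkMap _ (X.presheaf.stalkSpecializes _ (X.presheaf.stalkSpecializes _ y)) = z
    rw [← CategoryTheory.comp_apply (X.presheaf.stalkSpecializes _) (X.presheaf.stalkSpecializes _),
      TopCat.Presheaf.stalkSpecializes_comp, TopCat.Presheaf.stalkSpecializes_refl]
    exact hy
  haveI : IsIso e := inferInstanceAs (IsIso (Spec.map φe))
  let g : Spec (X.presheaf.stalk (genericPoint X)) ⟶ W := inv e ≫ W.fromSpecStalk (genericPoint W)
  have hg : g ≫ a = gX := by rw [Category.assoc, ← he, IsIso.inv_hom_id_assoc]
  haveI : IsDominant g := by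
    have := Proj16.isDominant_genericPoint W
    show IsDominant (inv e ≫ _)
    infer_instance
  let P := pullback f νY
  let m : P ⟶ X := pullback.fst f νY
  let gW : W ⟶ P := pullback.lift a (r ≫ gY.toNormalization)
    (by rw [Category.assoc, gY.toNormalization_fromNormalization]; exact pullback.condition.symm)
  have hgWm : gW ≫ m = a := pullback.lift_fst _ _ _
  have huniv : RelNorm.IntUniv gW m :=
    RelNorm.intUniv_baseChange gY (IsPullback.of_hasPullback gY f) (IsPullback.of_hasPullback f νY).flip
      hgWm (pullback.lift_snd _ _ _)
  -- extend the structure map over the generic fibre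
  let σ : Spec W.functionField ⟶ pullback gX.fromNormalization a :=
    pullback.lift (e ≫ gX.toNormalization) (W.fromSpecStalk (genericPoint W))
      (by rw [Category.assoc, gX.toNormalization_fromNormalization, he])
  obtain ⟨t, ht, htσ⟩ := Proj16.exists_section_of_isIntegralHom hN (pullback.snd gX.fromNormalization a) σ
    (pullback.lift_snd _ _ _)
  let γ : W ⟶ gX.normalization := t ≫ pullback.fst _ _
  have hγ : γ ≫ gX.fromNormalization = a := by
    rw [Category.assoc, pullback.condition, reassoc_of% ht]
  have hgγ : g ≫ γ = gX.toNormalization := by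
    rw [Category.assoc, reassoc_of% htσ, pullback.lift_fst, IsIso.inv_hom_id_assoc]
  obtain ⟨φ, ⟨hφ1, hφ2⟩, -⟩ := huniv gX.fromNormalization inferInstance γ (hγ.trans hgWm.symm)
  let ψ : gX.normalization ⟶ P :=
    gX.normalizationDesc (g ≫ gW) m (by rw [Category.assoc, hgWm, hg])
  have hψ1 : gX.toNormalization ≫ ψ = g ≫ gW := gX.toNormalization_normalizationDesc _ _ _
  have hψ2 : ψ ≫ m = gX.fromNormalization := gX.normalizationDesc_comp _ _ _
  have hi1 : ψ ≫ φ = 𝟙 _ :=
    Scheme.Hom.normalization.hom_ext gX _ _ gX.fromNormalization
      (by rw [reassoc_of% hψ1, hφ1, hgγ, Category.comp_id]) (by rw [Category.assoc, hφ2, hψ2])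
      (by rw [Category.id_comp])
  haveI : IsIntegralHom m := MorphismProperty.pullback_fst (P := @IsIntegralHom) _ _ inferInstance
  have hcc : gW ≫ φ ≫ ψ = gW := by
    rw [reassoc_of% hφ1]
    refine ext_of_isDominant_of_isSeparated m (by rw [Category.assoc, hψ2, hγ, hgWm]) g ?_
    rw [reassoc_of% hgγ, hψ1]
  have hi2 : φ ≫ ψ = 𝟙 _ := by
    obtain ⟨h, -, hu⟩ := huniv m inferInstance gW rfl
    rw [hu _ ⟨hcc, by rw [Category.assoc, hψ2, hφ2]⟩, hu (𝟙 _) ⟨Category.comp_id _, Category.id_comp _⟩]
  refine ⟨⟨ψ, φ, hi1, hi2⟩, hψ2, fun e' (he' : e'.hom ≫ m = gX.fromNormalization) => Iso.ext ?_⟩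
  show e'.hom = ψ
  refine Scheme.Hom.normalization.hom_ext gX _ _ m ?_ he' hψ2
  rw [hψ1]
  refine pullback.hom_ext ?_ ?_
  · show (gX.toNormalization ≫ e'.hom) ≫ m = (g ≫ gW) ≫ m
    rw [Category.assoc, he', gX.toNormalization_fromNormalization, Category.assoc, hgWm, hg]
  · haveI := isIso_pullback_normalization Y
    have key : ∀ (T : Scheme.{u}) (u v : T ⟶ gY.normalization) (k : T ⟶ Spec (Y.presheaf.stalk (genericPoint Y))),
        u ≫ gY.fromNormalization = k ≫ gY → v ≫ gY.fromNormalization = k ≫ gY → u = v := by
      intro T u v k hu hv
      have : pullback.lift (f := gY.fromNormalization) (g := gY) u k hu =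
          pullback.lift (f := gY.fromNormalization) (g := gY) v k hv := by
        rw [← cancel_mono (pullback.snd gY.fromNormalization gY), pullback.lift_snd, pullback.lift_snd]
      simpa using congrArg (· ≫ pullback.fst _ _) this
    refine key _ _ _ (g ≫ r) ?_ ?_
    · show ((gX.toNormalization ≫ e'.hom) ≫ pullback.snd f νY) ≫ νY = _
      rw [Category.assoc, Category.assoc, ← pullback.condition]
      show gX.toNormalization ≫ e'.hom ≫ m ≫ f = _
      rw [reassoc_of% he', gX.toNormalization_fromNormalization_assoc, ← hg, Category.assoc, Category.assoc]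
      exact congrArg (g ≫ ·) pullback.condition.symm
    · show ((g ≫ gW) ≫ pullback.snd f νY) ≫ νY = _
      rw [Category.assoc, Category.assoc, pullback.lift_snd_assoc, Category.assoc, Category.assoc,
        gY.toNormalization_fromNormalization]
      simp only [g, Category.assoc]

end Groth.Agent.S9791
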