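import Groth.Statements.S9967
import Groth.Agent.SchImBC.Basic
import Groth.Agent.AlgSpPts.Sep

set_option autoImplicit false
set_option backward.isDefEq.respectTransparency false
set_option backward.isDefEq.respectTransparency.types false
universe u
open CategoryTheory CategoryTheory.Limits AlgebraicGeometry
open AlgSp

namespace Groth.Agent.S9967

/-- For a separated f : X -> Y and a section s of f over a quasi-compact open V of Y, the scheme
theoretic image of s maps isomorphically to Y over V. -/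
theorem result {S : Scheme.{u}} {X Y V Y' : AlgSp.Space S} (f : X ⟶ Y) (j : V ⟶ Y)
    (hj : AlgSp.RepWith @IsOpenImmersion j.hom) (hjq : AlgSp.IsQuasiCompactMor j.hom) (hf : AlgSp.IsSeparatedMor f.hom)
    (s : V ⟶ X) (hs : s ≫ f = j) (c : Y' ⟶ X) (hc : AlgSp.IsSchImage s.hom c.hom)
    {P : AlgSp.Sp S} (fst : P ⟶ Y'.obj) (snd : P ⟶ V.obj) (sq : IsPullback fst snd (c ≫ f).hom j.hom) :
    IsIso snd := by
  have hjm : Mono j.hom := Groth.Agent.AlgSpDec.mono_of_openImmersion hj
  have hsf : s.hom ≫ f.hom = j.hom := congrArg (fun k => k.hom) hs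
  let XV := pullback f.hom j.hom
  let β : XV ⟶ X.obj := pullback.fst f.hom j.hom
  let g : XV ⟶ V.obj := pullback.snd f.hom j.hom
  have sqB : IsPullback β g f.hom j.hom := IsPullback.of_hasPullback f.hom j.hom
  let σ : V.obj ⟶ XV := pullback.lift s.hom (𝟙 V.obj) (by rw [hsf, Category.id_comp])
  have hσg : σ ≫ g = 𝟙 V.obj := pullback.lift_snd _ _ _
  have hσβ : σ ≫ β = s.hom := pullback.lift_fst _ _ _
  have hgs : AlgSp.IsSeparatedMor g := Groth.Agent.AlgSpPts.isSeparatedMor_of_isPullback sqB hf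
  have hσc : AlgSp.RepWith @IsClosedImmersion σ := Groth.Agent.AlgSpPts.section_property hσg hgs
  have hβ : AlgSp.RepWith @IsOpenImmersion β := Groth.Agent.AlgSpLib.repWith_of_isPullback sqB.flip hj
  have hsq : AlgSp.IsQuasiCompactMor s.hom := by
    rw [← hσβ]
    refine Groth.Agent.AlgSpPts.isQuasiCompactMor_comp
      (Groth.Agent.AlgSpLib.isAlgSpace_pullback X.property V.property Y.property f.hom j.hom) X.property ?_
      (Groth.Agent.AlgSpPts.isQuasiCompactMor_of_isPullback sqB.flip hjq)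
    exact Groth.Agent.AlgSpPts.isQuasiCompactMor_of_repWith
      (Groth.Agent.AlgSpLib.repWith_mono (fun _ _ e (_ : IsClosedImmersion e) => inferInstanceAs (QuasiCompact e)) _ hσc)
  haveI : Mono β := Groth.Agent.AlgSpDec.mono_of_openImmersion hβ
  have hV : IsPullback (𝟙 V.obj) σ s.hom β := by
    have h := IsPullback.of_horiz_isIso_mono (⟨show 𝟙 V.obj ≫ s.hom = σ ≫ β by rw [hσβ, Category.id_comp]⟩ :
      CommSq (𝟙 V.obj) σ s.hom β)
    exact h
  let iV : P ⟶ XV := pullback.lift (fst ≫ c.hom) snd (by rw [Category.assoc]; exact sq.w)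
  have hiV₁ : iV ≫ β = fst ≫ c.hom := pullback.lift_fst _ _ _
  have hiV₂ : iV ≫ g = snd := pullback.lift_snd _ _ _
  have hP : IsPullback fst iV c.hom β :=
    IsPullback.of_bot (by rw [hiV₂]; exact sq) hiV₁.symm sqB
  obtain ⟨hiV, ⟨t, ht⟩, hmin⟩ := Groth.Agent.SchImBC.isSchImage_etale_baseChange V.property X.property hsq hc
    (Groth.Agent.AlgSpLib.isAlgSpace_pullback X.property V.property Y.property f.hom j.hom)
    (Groth.Agent.AlgSpLib.isEtaleMor_of_repWith_isOpenImmersion hβ) hV hP
  obtain ⟨k, hk⟩ := hmin σ V.property hσc ⟨𝟙 _, Category.id_comp _⟩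
  haveI : Mono iV := Groth.Agent.AlgSpDec.mono_of_closedImmersion hiV
  have hk' : k = snd := by rw [← hiV₂, ← hk, Category.assoc, hσg, Category.comp_id]
  refine ⟨t, ?_, ?_⟩
  · rw [← cancel_mono iV, Category.assoc, ht, Category.id_comp, ← hk', hk]
  · rw [← hiV₂, ← Category.assoc, ht, hσg]

end Groth.Agent.S9967
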