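import Groth.Statements.S9991
import Groth.Agent.EtClImm.Annihil
import Groth.Agent.EtClImm.ClosedQC
import Groth.Agent.QCart.Colim
-- import your own Groth.Agent.* helpers here

set_option autoImplicit false
universe u
open CategoryTheory CategoryTheory.Limits AlgebraicGeometry Opposite
open AlgSp

set_option backward.isDefEq.respectTransparency false
set_option backward.isDefEq.respectTransparency.types false

namespace Groth.Agent.S9991

/-- For a closed immersion i : Z ⟶ X of algebraic spaces over S cut out by the sheaf of ideals I, the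
direct image i_* sends every O_Z-module to an O_X-module annihilated by I, and every quasi-coherent
O_X-module annihilated by I is isomorphic to i_* G for some quasi-coherent O_Z-module G. (The
published statement also records that i_* carries quasi-coherent modules to quasi-coherent modules
and is exact and fully faithful on them; the first is the closed-immersion case of the fact that
direct images along quasi-compact quasi-separated morphisms preserve quasi-coherence, full
faithfulness follows from the adjunction map i^* i_* G ⟶ G being an isomorphism, and none of these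
clauses is restated here.) -/
theorem result {S : Scheme.{u}} {Z X : AlgSp.Space S} (i : Z ⟶ X)
    (hi : AlgSp.RepWith @IsClosedImmersion i.hom) (I : AlgSp.IdealEt X.obj) (hZ : AlgSp.IsCutOutBy I i.hom) :
    (∀ (G : AlgSp.ModEt Z.obj) (E : AlgSp.EtOver X.obj) (hE : IsAffine E.obj.left.left)
        (s : AlgSp.sectModEt ((AlgSp.pushModEt hi.1).obj G) E), I.ideal E hE ≤ AlgSp.annSect s) ∧
      ∀ F : AlgSp.ModEt X.obj, F.IsQuasicoherent →
        (∀ (E : AlgSp.EtOver X.obj) (hE : IsAffine E.obj.left.left) (s : AlgSp.sectModEt F E),
            I.ideal E hE ≤ AlgSp.annSect s) →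
          ∃ G : AlgSp.ModEt Z.obj, G.IsQuasicoherent ∧ Nonempty ((AlgSp.pushModEt hi.1).obj G ≅ F) := by
  have H : Groth.Agent.EtClImm.Hyp i.hom := .of_isClosedImmersion X.property hi
  obtain ⟨hi', rfl⟩ := hZ
  refine ⟨fun G E hE s a ha => ?_, fun F hF hann => ?_⟩
  · rw [AlgSp.mem_annSect_iff]
    have h0 : ((AlgSp.bcRingHom hi.1).hom.app (op E)).hom (AlgSp.upΓ E a) = 0 := ULift.ext _ _ ha
    change ((AlgSp.bcRingHom hi.1).hom.app (op E)).hom (AlgSp.upΓ E a) •
      (show G.val.obj (op (AlgSp.EtOver.bcObj hi.1 E)) from s) = 0
    rw [h0]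
    exact zero_smul _ _
  · have hK : Groth.Agent.EtClImm.KilledBy hi.1 F := fun E hE a ha x =>
      (AlgSp.mem_annSect_iff (M := F) x a.down).1 (hann E hE x (congrArg ULift.down ha))
    obtain ⟨G, ⟨e⟩⟩ := Groth.Agent.EtClImm.exists_push_iso H hi hK
    refine ⟨G, Groth.Agent.EtClImm.isQuasicoherent_of_push hi.1 H hi G ?_, ⟨e⟩⟩
    rw [Groth.Agent.QCart.isQuasicoherent_iff] at hF ⊢
    exact Groth.Agent.QCart.AffBasis.IsCart.of_iso (R := AlgSp.OEt X.obj) hF e.symm

end Groth.Agent.S9991
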